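import Cfsg.Agent.Lib.Helper24.SelfCentSub

set_option autoImplicit false
open scoped Pointwise commutatorElement

namespace Cfsg.Agent.Lib.Helper24

section SelfCentDer

variable {G : Type*} [Group G] [Finite G] {p : ℕ} {x : G}

theorem sc_part2 [Fact p.Prime] (hx : orderOf x = p)
    (hC : Subgroup.centralizer ({x} : Set G) = Subgroup.zpowers x) (n : ℕ)
    (hn : Nat.card {H : Subgroup G // Nat.card H = p} = 1 + n * p)
    (hN : Subgroup.normalizer ((Subgroup.zpowers x : Subgroup G) : Set G) ≤ Subgroup.zpowers x) :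
    Nat.card (commutator G) = 1 + n * p ∧ IsCyclic (G ⧸ commutator G) ∧
      (commutator G).index = p := by
  have hp : p.Prime := Fact.out
  have hidx := sc_index_commutator_of_normalizer_eq hx hC hN
  have hNX : Subgroup.normalizer ((Subgroup.zpowers x : Subgroup G) : Set G) = Subgroup.zpowers x :=
    le_antisymm hN Subgroup.le_normalizer
  have hNidx : (Subgroup.normalizer ((Subgroup.zpowers x : Subgroup G) : Set G)).index = 1 + n * p := by
    rw [← sc_card_subgroups hx hC, hn]
  have e1 := Subgroup.card_mul_index (Subgroup.normalizer ((Subgroup.zpowers x : Subgroup G) : Set G))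
  rw [hNidx, hNX, sc_card_zpowers hx] at e1
  have e2 := Subgroup.card_mul_index (commutator G)
  rw [hidx, ← e1] at e2
  refine ⟨?_, ?_, hidx⟩
  · have : Nat.card (commutator G) * p = (1 + n * p) * p := by rw [e2]; ring
    exact Nat.eq_of_mul_eq_mul_right hp.pos this
  · exact isCyclic_of_prime_card (p := p) hidx

end SelfCentDer

section SelfCentDer2

variable {G : Type*} [Group G] [Finite G] {p : ℕ} {x : G}

theorem sc_card_commutator_sub (H : Subgroup G) :
    Nat.card (commutator H) = Nat.card (⁅H, H⁆ : Subgroup G) := by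
  have h1 : (commutator H).map H.subtype = ⁅H, H⁆ := by
    rw [commutator_def, Subgroup.map_commutator, ← MonoidHom.range_eq_map, Subgroup.range_subtype]
  rw [← h1]
  exact (Subgroup.card_map_of_injective H.subtype_injective).symm

theorem sc_subgroups_equiv [Fact p.Prime] (hx : orderOf x = p)
    (hC : Subgroup.centralizer ({x} : Set G) = Subgroup.zpowers x)
    (H : Subgroup G) [hHn : H.Normal] (hXH : Subgroup.zpowers x ≤ H) :
    Nat.card {K : Subgroup H // Nat.card K = p} = Nat.card {K : Subgroup G // Nat.card K = p} := by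
  have hp : p.Prime := Fact.out
  apply Nat.card_eq_of_bijective
    (fun K : {K : Subgroup H // Nat.card K = p} =>
      (⟨K.1.map H.subtype, by rw [Subgroup.card_map_of_injective H.subtype_injective, K.2]⟩ :
        {K : Subgroup G // Nat.card K = p}))
  constructor
  · intro K₁ K₂ h
    apply Subtype.ext
    exact Subgroup.map_injective H.subtype_injective (congrArg Subtype.val h)
  · rintro ⟨K, hK⟩
    have hKH : K ≤ H := by
      have : Fact p.Prime := ⟨hp⟩
      have hdvd : p ∣ Nat.card K := by rw [hK]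
      obtain ⟨y, hy⟩ := exists_prime_orderOf_dvd_card' p hdvd
      have hyo : orderOf (y : G) = p := by rw [Subgroup.orderOf_coe]; exact hy
      have hKy : Subgroup.zpowers (y : G) = K := by
        apply Subgroup.eq_of_le_of_card_ge (by rw [Subgroup.zpowers_le]; exact y.2)
        rw [hK, sc_card_zpowers hyo]
      obtain ⟨h, hh⟩ := sc_exists_conj_mem hx hC hyo
      have hyH : (y : G) ∈ H := by
        have := hHn.conj_mem _ (hXH hh) h⁻¹
        simpa [mul_assoc] using this
      rw [← hKy, Subgroup.zpowers_le]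
      exact hyH
    refine ⟨⟨K.subgroupOf H, ?_⟩, ?_⟩
    · rw [← hK]
      exact Nat.card_congr (Subgroup.subgroupOfEquivOfLe hKH).toEquiv
    · apply Subtype.ext
      show (K.subgroupOf H).map H.subtype = K
      rw [Subgroup.subgroupOf_map_subtype, inf_of_le_left hKH]

theorem sc_part3 [Fact p.Prime] (hx : orderOf x = p)
    (hC : Subgroup.centralizer ({x} : Set G) = Subgroup.zpowers x) (n : ℕ)
    (hn : Nat.card {H : Subgroup G // Nat.card H = p} = 1 + n * p)
    (hN : ¬ Subgroup.normalizer ((Subgroup.zpowers x : Subgroup G) : Set G) ≤ Subgroup.zpowers x)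
    (hder : derivedSeries G 2 ≠ derivedSeries G 1) :
    Nat.card (derivedSeries G 2) = 1 + n * p ∧ Nat.card (commutator G) = p * (1 + n * p) := by
  have hp : p.Prime := Fact.out
  have hnd2 : ¬ p ∣ Nat.card (derivedSeries G 2) := by
    intro hd
    have := derivedSeries_normal G 2
    have h1 := sc_commutator_le hx hC (derivedSeries G 2) hd
    apply hder
    apply le_antisymm (derivedSeries_antitone G (by norm_num))
    rw [derivedSeries_one]; exact h1
  have hdvd := sc_dvd_card_commutator hx hC hN
  have hXH := sc_le_of_dvd_card hx hC (commutator G) hdvd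
  have hxH : x ∈ commutator G := hXH (Subgroup.mem_zpowers x)
  have hx' := sc_sub_orderOf hx (commutator G) hxH
  have hC' := sc_sub_centralizer hC (commutator G) hxH
  have hcardcomm : Nat.card (commutator (commutator G)) = Nat.card (derivedSeries G 2) := by
    rw [sc_card_commutator_sub]
    have : derivedSeries G 2 = ⁅commutator G, commutator G⁆ := by
      rw [derivedSeries_succ, derivedSeries_one]
    rw [this]
  have hN' : Subgroup.normalizer ((Subgroup.zpowers (⟨x, hxH⟩ : commutator G) :
      Subgroup (commutator G)) : Set (commutator G)) ≤ Subgroup.zpowers (⟨x, hxH⟩ : commutator G) := by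
    by_contra hcon
    have := sc_dvd_card_commutator hx' hC' hcon
    rw [hcardcomm] at this
    exact hnd2 this
  have hidx := sc_index_commutator_of_normalizer_eq hx' hC' hN'
  have hNX : Subgroup.normalizer ((Subgroup.zpowers (⟨x, hxH⟩ : commutator G) :
      Subgroup (commutator G)) : Set (commutator G)) = Subgroup.zpowers (⟨x, hxH⟩ : commutator G) :=
    le_antisymm hN' Subgroup.le_normalizer
  have hcount := sc_card_subgroups hx' hC'
  rw [sc_subgroups_equiv hx hC (commutator G) hXH, hn, hNX] at hcount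
  have e1 := Subgroup.card_mul_index (Subgroup.zpowers (⟨x, hxH⟩ : commutator G))
  rw [← hcount, sc_card_zpowers hx'] at e1
  have e2 := Subgroup.card_mul_index (commutator (commutator G))
  rw [hidx, hcardcomm, ← e1] at e2
  refine ⟨?_, e1.symm⟩
  have : Nat.card (derivedSeries G 2) * p = (1 + n * p) * p := by rw [e2]; ring
  exact Nat.eq_of_mul_eq_mul_right hp.pos this

end SelfCentDer2

section SelfCentDer3

variable {G : Type*} [Group G] [Finite G] {p : ℕ} {x : G}

theorem sc_sup_normalizer_eq_top [Fact p.Prime] (hx : orderOf x = p)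
    (hC : Subgroup.centralizer ({x} : Set G) = Subgroup.zpowers x)
    (S : Subgroup G) [hSn : S.Normal] (hS : ¬ p ∣ Nat.card S)
    (hcard : Nat.card S = Nat.card {H : Subgroup G // Nat.card H = p}) :
    Subgroup.normalizer ((Subgroup.zpowers x : Subgroup G) : Set G) ⊔ S = ⊤ := by
  set N := Subgroup.normalizer ((Subgroup.zpowers x : Subgroup G) : Set G) with hN
  have hinf := sc_inf_normalizer_eq_bot hx hC S hS
  have hrel : S.relIndex N = Nat.card N := by
    rw [← Subgroup.inf_relIndex_right, hinf, Subgroup.relIndex_bot_left]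
  have hrel2 : S.relIndex (N ⊔ S) = Nat.card N := by
    rw [Subgroup.relIndex_sup_right, hrel]
  have hle : S ≤ N ⊔ S := le_sup_right
  have e1 := Subgroup.card_mul_index (S.subgroupOf (N ⊔ S))
  have e2 : Nat.card (S.subgroupOf (N ⊔ S)) = Nat.card S :=
    Nat.card_congr (Subgroup.subgroupOfEquivOfLe hle).toEquiv
  have e3 : (S.subgroupOf (N ⊔ S)).index = Nat.card N := hrel2
  rw [e2, e3, hcard, sc_card_subgroups hx hC, mul_comm, Subgroup.card_mul_index] at e1
  exact Subgroup.eq_top_of_card_eq _ e1.symm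

theorem sc_commutator_le_sup [Fact p.Prime] (hx : orderOf x = p)
    (hC : Subgroup.centralizer ({x} : Set G) = Subgroup.zpowers x)
    (S : Subgroup G) [hSn : S.Normal]
    (hsup : Subgroup.normalizer ((Subgroup.zpowers x : Subgroup G) : Set G) ⊔ S = ⊤) :
    commutator G ≤ Subgroup.zpowers x ⊔ S := by
  have hdecomp : ∀ g : G, ∃ n ∈ Subgroup.normalizer ((Subgroup.zpowers x : Subgroup G) : Set G),
      (QuotientGroup.mk g : G ⧸ S) = QuotientGroup.mk n := by
    intro g
    have hg : g ∈ Subgroup.normalizer ((Subgroup.zpowers x : Subgroup G) : Set G) ⊔ S := by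
      rw [hsup]; exact Subgroup.mem_top g
    rw [← SetLike.mem_coe, Subgroup.mul_normal] at hg
    obtain ⟨n, hn, s, hs, rfl⟩ := hg
    refine ⟨n, hn, ?_⟩
    rw [QuotientGroup.eq]
    have : (n * s)⁻¹ * n = s⁻¹ := by group
    rw [this]
    exact inv_mem hs
  rw [commutator_def, Subgroup.commutator_le]
  intro g _ h _
  obtain ⟨n, hn, hgn⟩ := hdecomp g
  obtain ⟨m, hm, hhm⟩ := hdecomp h
  have hc := sc_comm_mem hx hC hn hm
  have h1 : (QuotientGroup.mk ⁅g, h⁆ : G ⧸ S) = QuotientGroup.mk ⁅n, m⁆ := by
    rw [commutatorElement_def, commutatorElement_def]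
    simp only [QuotientGroup.mk_mul, QuotientGroup.mk_inv, hgn, hhm]
  rw [QuotientGroup.eq] at h1
  have h2 : ⁅g, h⁆ = ⁅n, m⁆ * (⁅n, m⁆⁻¹ * ⁅g, h⁆)⁻¹⁻¹ := by group
  rw [h2]
  refine Subgroup.mul_mem_sup hc ?_
  rw [inv_inv]
  have := inv_mem h1
  simpa using this

theorem sc_commutator_sup_le
    (S : Subgroup G) [hSn : S.Normal] :
    ⁅Subgroup.zpowers x ⊔ S, Subgroup.zpowers x ⊔ S⁆ ≤ S := by
  rw [Subgroup.commutator_le]
  intro a ha b hb
  rw [← SetLike.mem_coe, Subgroup.mul_normal] at ha hb
  obtain ⟨y, hy, s, hs, rfl⟩ := ha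
  obtain ⟨z, hz, s', hs', rfl⟩ := hb
  rw [← QuotientGroup.eq_one_iff, commutatorElement_def]
  have hs1 : (QuotientGroup.mk s : G ⧸ S) = 1 := (QuotientGroup.eq_one_iff s).mpr hs
  have hs1' : (QuotientGroup.mk s' : G ⧸ S) = 1 := (QuotientGroup.eq_one_iff s').mpr hs'
  simp only [QuotientGroup.mk_mul, QuotientGroup.mk_inv, hs1, hs1', mul_one]
  obtain ⟨i, rfl⟩ := Subgroup.mem_zpowers_iff.mp hy
  obtain ⟨j, rfl⟩ := Subgroup.mem_zpowers_iff.mp hz
  simp only [QuotientGroup.mk_zpow]
  have hcomm := (Commute.zpow_zpow (Commute.refl (QuotientGroup.mk x : G ⧸ S)) i j).eq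
  rw [hcomm]
  group

theorem sc_part1 [Fact p.Prime] (hx : orderOf x = p)
    (hC : Subgroup.centralizer ({x} : Set G) = Subgroup.zpowers x) (n : ℕ)
    (hn : Nat.card {H : Subgroup G // Nat.card H = p} = 1 + n * p)
    (hN : ¬ Subgroup.normalizer ((Subgroup.zpowers x : Subgroup G) : Set G) ≤ Subgroup.zpowers x)
    (S : Subgroup G) (hSn : S.Normal) (hcard : Nat.card S = 1 + n * p) :
    derivedSeries G 2 ≠ derivedSeries G 1 := by
  have hp : p.Prime := Fact.out
  have hS : ¬ p ∣ Nat.card S := by
    rw [hcard]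
    intro hd
    have : p ∣ 1 := (Nat.dvd_add_left (Dvd.intro_left n rfl)).mp hd
    exact hp.one_lt.ne' (Nat.dvd_one.mp this)
  have hsup := sc_sup_normalizer_eq_top hx hC S hS (by rw [hcard, hn])
  have h1 := sc_commutator_le_sup hx hC S hsup
  have h2 : derivedSeries G 2 ≤ S := by
    rw [derivedSeries_succ, derivedSeries_one]
    exact (Subgroup.commutator_mono h1 h1).trans (sc_commutator_sup_le S)
  intro heq
  rw [heq, derivedSeries_one] at h2
  have hdvd := sc_dvd_card_commutator hx hC hN
  exact hS (hdvd.trans (Subgroup.card_dvd_of_le h2))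

end SelfCentDer3

end Cfsg.Agent.Lib.Helper24
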