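import Mathlib
import Cfsg.Prelude.Def_Solvable
import Cfsg.Agent.Lib.Helper1.Fitting
import Cfsg.Agent.Lib.Helper24.SelfCentDer

set_option autoImplicit false

namespace Cfsg.Agent.Lib.Helper24

open Cfsg.Agent.Lib.Helper1
open scoped commutatorElement

variable {G : Type*} [Group G]

theorem pPrimeCore_characteristic (p : ℕ) : (Cfsg.pPrimeCore p G).Characteristic := by
  rw [Subgroup.characteristic_iff_map_le]
  intro φ
  rw [Subgroup.map_le_iff_le_comap]
  apply sSup_le
  rintro K ⟨hKn, hKc⟩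
  rw [← Subgroup.map_le_iff_le_comap]
  apply le_sSup
  refine ⟨hKn.map φ.toMonoidHom φ.surjective, ?_⟩
  rw [Subgroup.card_map_of_injective φ.injective]
  exact hKc

theorem sc_conj_orderOf {p : ℕ} {x : G} (hx : orderOf x = p) (g : G) : orderOf (g * x * g⁻¹) = p := by
  have h := orderOf_injective (MulAut.conj g).toMonoidHom (MulAut.conj g).injective x
  rw [← hx, ← h]
  rfl

theorem sc_conj_centralizer {x : G} (hC : Subgroup.centralizer ({x} : Set G) = Subgroup.zpowers x) (g : G) :
    Subgroup.centralizer ({g * x * g⁻¹} : Set G) = Subgroup.zpowers (g * x * g⁻¹) := by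
  ext y
  rw [Subgroup.mem_centralizer_iff, Subgroup.mem_zpowers_iff]
  constructor
  · intro h
    have h1 := h (g * x * g⁻¹) rfl
    have h2 : g⁻¹ * y * g ∈ Subgroup.zpowers x := by
      apply sc_mem_zpowers_of_commute hC
      have : g * x * g⁻¹ * y = y * (g * x * g⁻¹) := h1
      calc g⁻¹ * y * g * x = g⁻¹ * (y * (g * x * g⁻¹)) * g := by group
        _ = g⁻¹ * (g * x * g⁻¹ * y) * g := by rw [this]
        _ = x * (g⁻¹ * y * g) := by group
    obtain ⟨k, hk⟩ := Subgroup.mem_zpowers_iff.mp h2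
    refine ⟨k, ?_⟩
    rw [conj_zpow, hk]
    group
  · rintro ⟨k, rfl⟩ z hz
    rw [Set.mem_singleton_iff] at hz
    rw [hz]
    exact ((Commute.refl _).zpow_right k).eq

variable [Finite G] {p : ℕ} {x : G}

theorem sc_core_le_commutator [Fact p.Prime] (hx : orderOf x = p)
    (hC : Subgroup.centralizer ({x} : Set G) = Subgroup.zpowers x)
    (S : Subgroup G) [hSn : S.Normal] (hS : ¬ p ∣ Nat.card S) : S ≤ commutator G := by
  have hinf := sc_inf_eq_bot hx S hS
  let φ : S → S := fun s => ⟨(s : G) * x * (s : G)⁻¹ * x⁻¹, by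
    have h1 : x * (s : G)⁻¹ * x⁻¹ ∈ S := hSn.conj_mem _ (inv_mem s.2) x
    have h2 : (s : G) * (x * (s : G)⁻¹ * x⁻¹) ∈ S := mul_mem s.2 h1
    have e : (s : G) * x * (s : G)⁻¹ * x⁻¹ = (s : G) * (x * (s : G)⁻¹ * x⁻¹) := by group
    rw [e]; exact h2⟩
  have hinj : Function.Injective φ := by
    intro s s' h
    have h1 : (s : G) * x * (s : G)⁻¹ * x⁻¹ = (s' : G) * x * (s' : G)⁻¹ * x⁻¹ := congrArg Subtype.val h
    have h2 : (s : G) * x * (s : G)⁻¹ = (s' : G) * x * (s' : G)⁻¹ := mul_right_cancel h1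
    have h3 : ((s' : G)⁻¹ * s) * x = x * ((s' : G)⁻¹ * s) := by
      calc ((s' : G)⁻¹ * s) * x = (s' : G)⁻¹ * ((s : G) * x * (s : G)⁻¹) * s := by group
        _ = (s' : G)⁻¹ * ((s' : G) * x * (s' : G)⁻¹) * s := by rw [h2]
        _ = x * ((s' : G)⁻¹ * s) := by group
    have h4 : (s' : G)⁻¹ * s ∈ Subgroup.zpowers x := sc_mem_zpowers_of_commute hC h3
    have h5 : (s' : G)⁻¹ * s ∈ S ⊓ Subgroup.zpowers x := Subgroup.mem_inf.mpr ⟨mul_mem (inv_mem s'.2) s.2, h4⟩
    rw [hinf, Subgroup.mem_bot] at h5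
    apply Subtype.ext
    have : (s : G) = (s' : G) * ((s' : G)⁻¹ * s) := by group
    rw [this, h5, mul_one]
  have hsurj : Function.Surjective φ := Finite.injective_iff_surjective.mp hinj
  intro s hs
  obtain ⟨s', hs'⟩ := hsurj ⟨s, hs⟩
  have h1 : (s' : G) * x * (s' : G)⁻¹ * x⁻¹ = s := congrArg Subtype.val hs'
  rw [← h1, commutator_def]
  have : (s' : G) * x * (s' : G)⁻¹ * x⁻¹ = ⁅(s' : G), x⁆ := by rw [commutatorElement_def]
  rw [this]
  exact Subgroup.commutator_mem_commutator (Subgroup.mem_top _) (Subgroup.mem_top _)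

theorem sc_normal_sub_eq_top [Fact p.Prime] (hx : orderOf x = p)
    (hC : Subgroup.centralizer ({x} : Set G) = Subgroup.zpowers x)
    (M : Subgroup (commutator G)) [hMn : M.Normal] (hM : p ∣ Nat.card M) : M = ⊤ := by
  have hp : p.Prime := Fact.out
  have hconj : ∀ g : G, g * x * g⁻¹ ∈ M.map (commutator G).subtype := by
    intro g
    have hpc : p ∣ Nat.card (commutator G) := dvd_trans hM (Subgroup.card_subgroup_dvd_card M)
    have hxH : x ∈ commutator G :=
      sc_le_of_dvd_card hx hC (commutator G) hpc (Subgroup.mem_zpowers x)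
    have hyH : g * x * g⁻¹ ∈ commutator G :=
      (inferInstance : (commutator G).Normal).conj_mem x hxH g
    have h1 := sc_sub_orderOf (sc_conj_orderOf hx g) (commutator G) hyH
    have h2 := sc_sub_centralizer (sc_conj_centralizer hC g) (commutator G) hyH
    have h3 := sc_le_of_dvd_card h1 h2 M hM
    exact ⟨⟨g * x * g⁻¹, hyH⟩, h3 (Subgroup.mem_zpowers _), rfl⟩
  have hncl : Subgroup.normalClosure ({x} : Set G) ≤ M.map (commutator G).subtype := by
    rw [Subgroup.normalClosure, Subgroup.closure_le]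
    intro y hy
    rw [Group.mem_conjugatesOfSet_iff] at hy
    obtain ⟨a, ha, hay⟩ := hy
    rw [Set.mem_singleton_iff] at ha
    rw [ha, isConj_iff] at hay
    obtain ⟨c, hc⟩ := hay
    rw [← hc]
    exact hconj c
  have hxn : x ∈ Subgroup.normalClosure ({x} : Set G) :=
    Subgroup.subset_normalClosure (Set.mem_singleton x)
  have hpn : p ∣ Nat.card (Subgroup.normalClosure ({x} : Set G)) := by
    have h1 : Subgroup.zpowers x ≤ Subgroup.normalClosure ({x} : Set G) := by
      rwa [Subgroup.zpowers_le]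
    have := Subgroup.card_dvd_of_le h1
    rwa [sc_card_zpowers hx] at this
  have hle := sc_commutator_le hx hC (Subgroup.normalClosure ({x} : Set G)) hpn
  rw [eq_top_iff]
  intro h _
  obtain ⟨m, hm, hmh⟩ := hncl (hle h.2)
  have : m = h := Subtype.ext hmh
  rwa [← this]

theorem sc_normal_sub_le_core [Fact p.Prime]
    (M : Subgroup (commutator G)) [hMn : M.Normal] (hM : ¬ p ∣ Nat.card M) :
    M ≤ (Cfsg.pPrimeCore p G).subgroupOf (commutator G) := by
  have hp : p.Prime := Fact.out
  have h1 : M ≤ Cfsg.pPrimeCore p (commutator G) :=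
    le_pPrimeCore hMn ((Nat.Prime.coprime_iff_not_dvd hp).mpr hM).symm
  have hchar := pPrimeCore_characteristic (G := commutator G) p
  have hTn : ((Cfsg.pPrimeCore p (commutator G)).map (commutator G).subtype).Normal :=
    ConjAct.normal_of_characteristic_of_normal
  have hTc : (Nat.card ((Cfsg.pPrimeCore p (commutator G)).map (commutator G).subtype)).Coprime p := by
    rw [Subgroup.card_map_of_injective (commutator G).subtype_injective]
    exact pPrimeCore_card_coprime p
  have hTS := le_pPrimeCore hTn hTc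
  intro m hm
  rw [Subgroup.mem_subgroupOf]
  exact hTS ⟨m, h1 hm, rfl⟩

end Cfsg.Agent.Lib.Helper24
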