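import Mathlib

set_option autoImplicit false

namespace Cfsg.Agent.Lib.Helper24

open Module

section
variable {F : Type*} [Field F] [Fintype F] {V : Type*} [AddCommGroup V] [Module F V] [Finite V]

noncomputable def elSpanMap (m : ℕ) :
    {s : Fin m → V // LinearIndependent F s} → {W : Submodule F V // finrank F W = m} :=
  fun s => ⟨Submodule.span F (Set.range s.1), by
    rw [finrank_span_eq_card s.2, Fintype.card_fin]⟩

noncomputable def elFiberEquiv (m : ℕ) (W : {W : Submodule F V // finrank F W = m}) :
    {s : {s : Fin m → V // LinearIndependent F s} // elSpanMap m s = W} ≃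
      {s' : Fin m → W.1 // LinearIndependent F s'} where
  toFun s := ⟨fun k => ⟨s.1.1 k, by
      have h := congrArg Subtype.val s.2
      simp only [elSpanMap] at h
      rw [← h]
      exact Submodule.subset_span ⟨k, rfl⟩⟩, by
      apply LinearIndependent.of_comp W.1.subtype
      exact s.1.2⟩
  invFun s' := ⟨⟨fun k => (s'.1 k : V), by
      have := s'.2.map' W.1.subtype (Submodule.ker_subtype _)
      exact this⟩, by
      apply Subtype.ext
      simp only [elSpanMap]
      apply Submodule.eq_of_le_of_finrank_eq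
      · rw [Submodule.span_le]
        rintro _ ⟨k, rfl⟩
        exact (s'.1 k).2
      · have hli : LinearIndependent F (fun k => (s'.1 k : V)) :=
          s'.2.map' W.1.subtype (Submodule.ker_subtype _)
        rw [finrank_span_eq_card hli, Fintype.card_fin, W.2]⟩
  left_inv s := by
    apply Subtype.ext
    apply Subtype.ext
    rfl
  right_inv s' := by
    apply Subtype.ext
    funext k
    rfl

theorem el_count (m : ℕ) (hm : m ≤ finrank F V) :
    Nat.card {W : Submodule F V // finrank F W = m} *
        ∏ i : Fin m, (Fintype.card F ^ m - Fintype.card F ^ (i : ℕ)) =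
      ∏ i : Fin m, (Fintype.card F ^ finrank F V - Fintype.card F ^ (i : ℕ)) := by
  classical
  have hfinS : Finite (Submodule F V) :=
    Finite.of_injective (fun W : Submodule F V => (W : Set V)) SetLike.coe_injective
  have : Fintype {W : Submodule F V // finrank F W = m} := Fintype.ofFinite _
  rw [← card_linearIndependent (K := F) (V := V) hm]
  rw [Nat.card_congr (Equiv.sigmaFiberEquiv (elSpanMap (F := F) (V := V) m)).symm]
  rw [Nat.card_sigma]
  have hfib : ∀ W : {W : Submodule F V // finrank F W = m},
      Nat.card {s : {s : Fin m → V // LinearIndependent F s} // elSpanMap m s = W} =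
        ∏ i : Fin m, (Fintype.card F ^ m - Fintype.card F ^ (i : ℕ)) := by
    intro W
    rw [Nat.card_congr (elFiberEquiv m W)]
    have h := card_linearIndependent (K := F) (V := W.1) (k := m) (le_of_eq W.2.symm)
    rw [W.2] at h
    exact h
  rw [Finset.sum_congr rfl (fun W _ => hfib W), Finset.sum_const, Finset.card_univ,
    smul_eq_mul, Nat.card_eq_fintype_card]

end

theorem el_pow_sub (q a b : ℕ) (hab : b ≤ a) :
    q ^ a - q ^ b = q ^ b * (q ^ (a - b) - 1) := by
  rw [Nat.mul_sub, mul_one, ← pow_add]
  congr 2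
  omega

theorem el_count_dvd {F : Type*} [Field F] [Fintype F] {V : Type*} [AddCommGroup V]
    [Module F V] [Finite V] (m : ℕ) (hm : m ≤ finrank F V) (l : ℕ) (hl : l.Prime)
    (hdvd : l ∣ Nat.card {W : Submodule F V // finrank F W = m}) :
    ∃ j : ℕ, j < m ∧ l ∣ Fintype.card F ^ (finrank F V - j) - 1 := by
  have hq : 0 < Fintype.card F := Fintype.card_pos
  have h := el_count (F := F) (V := V) m hm
  have e1 : ∏ i : Fin m, (Fintype.card F ^ m - Fintype.card F ^ (i : ℕ)) =
      (∏ i : Fin m, Fintype.card F ^ (i : ℕ)) *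
        ∏ i : Fin m, (Fintype.card F ^ (m - (i : ℕ)) - 1) := by
    rw [← Finset.prod_mul_distrib]
    apply Finset.prod_congr rfl
    intro i _
    exact el_pow_sub _ _ _ (le_of_lt i.isLt)
  have e2 : ∏ i : Fin m, (Fintype.card F ^ finrank F V - Fintype.card F ^ (i : ℕ)) =
      (∏ i : Fin m, Fintype.card F ^ (i : ℕ)) *
        ∏ i : Fin m, (Fintype.card F ^ (finrank F V - (i : ℕ)) - 1) := by
    rw [← Finset.prod_mul_distrib]
    apply Finset.prod_congr rfl
    intro i _
    exact el_pow_sub _ _ _ (le_trans (le_of_lt i.isLt) hm)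
  rw [e1, e2] at h
  have hE : 0 < ∏ i : Fin m, Fintype.card F ^ (i : ℕ) :=
    Finset.prod_pos (fun i _ => pow_pos hq _)
  have h' : Nat.card {W : Submodule F V // finrank F W = m} *
      ∏ i : Fin m, (Fintype.card F ^ (m - (i : ℕ)) - 1) =
        ∏ i : Fin m, (Fintype.card F ^ (finrank F V - (i : ℕ)) - 1) := by
    apply Nat.eq_of_mul_eq_mul_left hE
    rw [← h]
    ring
  have hd : l ∣ ∏ i : Fin m, (Fintype.card F ^ (finrank F V - (i : ℕ)) - 1) := by
    rw [← h']
    exact Dvd.dvd.mul_right hdvd _
  obtain ⟨i, _, hi⟩ := (Prime.dvd_finsetProd_iff (Nat.prime_iff.mp hl) _).mp hd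
  exact ⟨i, i.isLt, hi⟩

end Cfsg.Agent.Lib.Helper24
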