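import Mathlib

set_option autoImplicit false

namespace Cfsg.Agent.Lib.Helper24

open Polynomial Module

variable {F : Type*} [Field F] {V : Type*} [AddCommGroup V] [Module F V]

def ElInv (g : Module.End F V) (W : Submodule F V) : Prop := ∀ w ∈ W, g w ∈ W

theorem el_pow_mem {g : Module.End F V} {W : Submodule F V} (hW : ElInv g W) (k : ℕ) {w : V}
    (hw : w ∈ W) : (g ^ k) w ∈ W := by
  induction k with
  | zero => simpa using hw
  | succ k ih =>
    rw [pow_succ', Module.End.mul_apply]
    exact hW _ ih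

theorem el_aeval_mem {g : Module.End F V} {W : Submodule F V} (hW : ElInv g W) (A : F[X]) {w : V}
    (hw : w ∈ W) : aeval g A w ∈ W := by
  induction A using Polynomial.induction_on' with
  | add A B hA hB =>
    rw [map_add, LinearMap.add_apply]
    exact W.add_mem hA hB
  | monomial k a =>
    rw [aeval_monomial, Module.End.mul_apply, Module.algebraMap_end_apply]
    exact W.smul_mem _ (el_pow_mem hW k hw)

theorem el_find (g : Module.End F V) (Y U : Submodule F V) (hU : ElInv g U)
    (Q : F[X]) :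
    ∀ k : ℕ, ∀ Q' : F[X], Q' ≠ 0 → Q'.natDegree ≤ k → Q' ∣ Q → ∀ u ∈ U, u ∉ Y →
      aeval g Q' u ∈ Y →
      ∃ w ∈ U, w ∉ Y ∧ ∃ P : F[X], Irreducible P ∧ P ∣ Q ∧ aeval g P w ∈ Y := by
  intro k
  induction k with
  | zero =>
    intro Q' h0 hdeg _ u _ huY hQu
    exfalso
    have hC : Q' = C (Q'.coeff 0) := eq_C_of_natDegree_le_zero hdeg
    have ha : Q'.coeff 0 ≠ 0 := by
      intro h
      rw [h, C_0] at hC
      exact h0 hC
    rw [hC, aeval_C, Module.algebraMap_end_apply] at hQu
    apply huY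
    have := Y.smul_mem (Q'.coeff 0)⁻¹ hQu
    rwa [smul_smul, inv_mul_cancel₀ ha, one_smul] at this
  | succ k ih =>
    intro Q' h0 hdeg hdvd u huU huY hQu
    by_cases hunit : IsUnit Q'
    · exfalso
      have hdeg0 : Q'.natDegree = 0 := natDegree_eq_zero_of_isUnit hunit
      have hC : Q' = C (Q'.coeff 0) := eq_C_of_natDegree_le_zero (le_of_eq hdeg0)
      have ha : Q'.coeff 0 ≠ 0 := by
        intro h
        rw [h, C_0] at hC
        exact h0 hC
      rw [hC, aeval_C, Module.algebraMap_end_apply] at hQu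
      apply huY
      have := Y.smul_mem (Q'.coeff 0)⁻¹ hQu
      rwa [smul_smul, inv_mul_cancel₀ ha, one_smul] at this
    · obtain ⟨P, hP, hPQ⟩ := WfDvdMonoid.exists_irreducible_factor hunit h0
      obtain ⟨Q'', rfl⟩ := hPQ
      have hQ''0 : Q'' ≠ 0 := right_ne_zero_of_mul h0
      have hP0 : P ≠ 0 := left_ne_zero_of_mul h0
      have hPdeg : 0 < P.natDegree := Irreducible.natDegree_pos hP
      have hdeg'' : Q''.natDegree ≤ k := by
        rw [natDegree_mul hP0 hQ''0] at hdeg
        omega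
      by_cases hcase : aeval g Q'' u ∈ Y
      · exact ih Q'' hQ''0 hdeg'' (Dvd.dvd.trans (Dvd.intro_left P rfl) hdvd) u huU huY hcase
      · refine ⟨aeval g Q'' u, el_aeval_mem hU Q'' huU, hcase, P, hP,
          Dvd.dvd.trans (Dvd.intro Q'' rfl) hdvd, ?_⟩
        rw [← Module.End.mul_apply, ← map_mul]
        exact hQu

theorem el_low_mem (g : Module.End F V) (w : V) (d : ℕ) (R : F[X]) (hR : R.natDegree < d) :
    aeval g R w ∈ Submodule.span F (Set.range (fun k : Fin d => (g ^ (k : ℕ)) w)) := by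
  rw [as_sum_range' R d hR, map_sum, LinearMap.sum_apply]
  apply Submodule.sum_mem
  intro i hi
  rw [aeval_monomial, Module.End.mul_apply, Module.algebraMap_end_apply]
  apply Submodule.smul_mem
  apply Submodule.subset_span
  exact ⟨⟨i, Finset.mem_range.mp hi⟩, rfl⟩

theorem el_comb (g : Module.End F V) (w : V) (d : ℕ) (a : Fin d → F) :
    ∑ k : Fin d, a k • (g ^ (k : ℕ)) w = aeval g (∑ k : Fin d, C (a k) * X ^ (k : ℕ)) w := by
  rw [map_sum, LinearMap.sum_apply]
  apply Finset.sum_congr rfl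
  intro k _
  rw [map_mul, aeval_C, map_pow, aeval_X, Module.End.mul_apply, Module.algebraMap_end_apply]

theorem el_comb_coeff (d : ℕ) (a : Fin d → F) (k : Fin d) :
    (∑ j : Fin d, C (a j) * X ^ (j : ℕ)).coeff (k : ℕ) = a k := by
  rw [finsetSum_coeff]
  rw [Finset.sum_eq_single k]
  · rw [coeff_C_mul, coeff_X_pow, if_pos rfl, mul_one]
  · intro j _ hjk
    rw [coeff_C_mul, coeff_X_pow, if_neg, mul_zero]
    intro h
    exact hjk (Fin.ext h.symm)
  · intro h
    exact absurd (Finset.mem_univ k) h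

theorem el_comb_deg (d : ℕ) (hd : 0 < d) (a : Fin d → F) :
    (∑ j : Fin d, C (a j) * X ^ (j : ℕ)).natDegree < d := by
  have h := degree_sum_fin_lt a
  by_cases h0 : (∑ j : Fin d, C (a j) * X ^ (j : ℕ)) = 0
  · rw [h0, natDegree_zero]; exact hd
  · rwa [degree_eq_natDegree h0, Nat.cast_lt] at h

theorem el_chain [FiniteDimensional F V] (g : Module.End F V) (Y U : Submodule F V) (hYU : Y ≤ U)
    (hY : ElInv g Y) (hU : ElInv g U)
    (Q : F[X]) (hQ0 : Q ≠ 0) (hQ : ∀ u ∈ U, aeval g Q u ∈ Y) (d : ℕ)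
    (hd : ∀ P : F[X], Irreducible P → P ∣ Q → P.natDegree = d) (hne : Y ≠ U) :
    ∃ Y' : Submodule F V, Y ≤ Y' ∧ Y' ≤ U ∧ ElInv g Y' ∧ finrank F Y' = finrank F Y + d := by
  obtain ⟨u, huU, huY⟩ : ∃ u ∈ U, u ∉ Y := by
    by_contra h
    push Not at h
    exact hne (le_antisymm hYU h)
  obtain ⟨w, hwU, hwY, P, hP, hPQ, hPw⟩ :=
    el_find g Y U hU Q Q.natDegree Q hQ0 le_rfl dvd_rfl u huU huY (hQ u huU)
  have hPd := hd P hP hPQ
  have hdpos : 0 < d := hPd ▸ Irreducible.natDegree_pos hP
  have key : ∀ A : F[X], A.natDegree < d → aeval g A w ∈ Y → A = 0 := by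
    intro A hA hAw
    by_contra hA0
    have hnd : ¬ P ∣ A := fun h => by
      have := natDegree_le_of_dvd h hA0
      omega
    have hcop : IsCoprime P A := (Irreducible.coprime_iff_not_dvd hP).mpr hnd
    obtain ⟨S, T, hST⟩ := hcop
    apply hwY
    have : w = aeval g (S * P) w + aeval g (T * A) w := by
      rw [← LinearMap.add_apply, ← map_add, hST, map_one, Module.End.one_apply]
    rw [this]
    apply Y.add_mem
    · rw [map_mul, Module.End.mul_apply]
      exact el_aeval_mem hY S hPw
    · rw [map_mul, Module.End.mul_apply]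
      exact el_aeval_mem hY T hAw
  set b : Fin d → V := fun k => (g ^ (k : ℕ)) w with hb
  set Z := Submodule.span F (Set.range b) with hZ
  have hzero : ∀ a : Fin d → F, (∑ k : Fin d, a k • b k) ∈ Y → ∀ k, a k = 0 := by
    intro a ha k
    rw [hb] at ha
    simp only at ha
    rw [el_comb] at ha
    have h0 := key _ (el_comb_deg d hdpos a) ha
    rw [← el_comb_coeff d a k, h0, coeff_zero]
  have hli : LinearIndependent F b := by
    rw [Fintype.linearIndependent_iff]
    intro a ha k
    exact hzero a (ha ▸ Y.zero_mem) k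
  have hZd : finrank F Z = d := by
    rw [hZ, finrank_span_eq_card hli, Fintype.card_fin]
  have hinf : Y ⊓ Z = ⊥ := by
    rw [eq_bot_iff]
    intro z hz
    obtain ⟨hzY, hzZ⟩ := Submodule.mem_inf.mp hz
    obtain ⟨a, rfl⟩ := (Submodule.mem_span_range_iff_exists_fun F).mp hzZ
    have h0 := hzero a hzY
    rw [Submodule.mem_bot]
    apply Finset.sum_eq_zero
    intro k _
    rw [h0 k, zero_smul]
  have hZU : Z ≤ U := by
    rw [hZ, Submodule.span_le]
    rintro _ ⟨k, rfl⟩
    exact el_pow_mem hU _ hwU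
  refine ⟨Y ⊔ Z, le_sup_left, sup_le hYU hZU, ?_, ?_⟩
  · have hZmap : Z.map g ≤ Y ⊔ Z := by
      rw [hZ, Submodule.map_span_le]
      rintro _ ⟨k, rfl⟩
      by_cases hk : (k : ℕ) + 1 < d
      · apply Submodule.mem_sup_right
        apply Submodule.subset_span
        refine ⟨⟨(k : ℕ) + 1, hk⟩, ?_⟩
        show (g ^ ((k : ℕ) + 1)) w = g ((g ^ (k : ℕ)) w)
        rw [pow_succ', Module.End.mul_apply]
      · have hkd : (k : ℕ) + 1 = d := by
          have := k.isLt
          omega
        have e1 : g (b k) = (g ^ d) w := by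
          show g ((g ^ (k : ℕ)) w) = (g ^ d) w
          have e2 : (g ^ d) w = (g ^ ((k : ℕ) + 1)) w := by rw [hkd]
          rw [e2, pow_succ', Module.End.mul_apply]
        rw [e1]
        have hlc : P.leadingCoeff ≠ 0 := leadingCoeff_ne_zero.mpr hP.ne_zero
        have hsplit : aeval g P w = aeval g P.eraseLead w + P.leadingCoeff • (g ^ d) w := by
          conv_lhs => rw [← eraseLead_add_C_mul_X_pow P]
          rw [map_add, LinearMap.add_apply, map_mul, aeval_C, map_pow, aeval_X,
            Module.End.mul_apply, Module.algebraMap_end_apply, hPd]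
        have hR : aeval g P.eraseLead w ∈ Z := by
          rw [hZ]
          apply el_low_mem
          have := eraseLead_natDegree_lt_or_eraseLead_eq_zero P
          rcases this with h | h
          · omega
          · rw [h, natDegree_zero]; exact hdpos
        have : (g ^ d) w = P.leadingCoeff⁻¹ • (aeval g P w - aeval g P.eraseLead w) := by
          rw [hsplit, add_sub_cancel_left, smul_smul, inv_mul_cancel₀ hlc, one_smul]
        rw [this]
        apply Submodule.smul_mem
        apply Submodule.sub_mem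
        · exact Submodule.mem_sup_left hPw
        · exact Submodule.mem_sup_right hR
    intro v hv
    obtain ⟨y, hy, z, hz, rfl⟩ := Submodule.mem_sup.mp hv
    rw [map_add]
    apply Submodule.add_mem
    · exact Submodule.mem_sup_left (hY y hy)
    · exact hZmap (Submodule.mem_map_of_mem hz)
  · have h := Submodule.finrank_sup_add_finrank_inf_eq Y Z
    rw [hinf, finrank_bot, add_zero, hZd] at h
    exact h

theorem el_inv_bot (g : Module.End F V) : ElInv g (⊥ : Submodule F V) := by
  intro w hw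
  rw [Submodule.mem_bot] at hw
  rw [hw, map_zero]
  exact Submodule.zero_mem _

theorem el_exists_dim [FiniteDimensional F V] (g : Module.End F V) (U : Submodule F V)
    (hU : ElInv g U) (Q : F[X]) (hQ0 : Q ≠ 0) (hQ : ∀ u ∈ U, aeval g Q u = 0) (d : ℕ)
    (hd : ∀ P : F[X], Irreducible P → P ∣ Q → P.natDegree = d) :
    ∀ k : ℕ, k * d ≤ finrank F U →
      ∃ Y : Submodule F V, Y ≤ U ∧ ElInv g Y ∧ finrank F Y = k * d := by
  intro k
  induction k with
  | zero =>
    intro _
    exact ⟨⊥, bot_le, el_inv_bot g, by rw [finrank_bot, zero_mul]⟩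
  | succ k ih =>
    intro hk
    rcases Nat.eq_zero_or_pos d with h0 | hpos
    · exact ⟨⊥, bot_le, el_inv_bot g, by rw [finrank_bot, h0, mul_zero]⟩
    · have hk' : k * d ≤ finrank F U := by
        have : k * d ≤ (k + 1) * d := Nat.mul_le_mul_right d (Nat.le_succ k)
        omega
      obtain ⟨Y, hYU, hY, hYd⟩ := ih hk'
      have hne : Y ≠ U := by
        intro h
        rw [h] at hYd
        rw [hYd, Nat.succ_mul] at hk
        omega
      obtain ⟨Y', _, hY'U, hY', hY'd⟩ := el_chain g Y U hYU hY hU Q hQ0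
        (fun u hu => by rw [hQ u hu]; exact Y.zero_mem) d hd hne
      exact ⟨Y', hY'U, hY', by rw [hY'd, hYd, Nat.succ_mul]⟩

theorem el_dvd_dim [FiniteDimensional F V] (g : Module.End F V) (U : Submodule F V)
    (hU : ElInv g U) (Q : F[X]) (hQ0 : Q ≠ 0) (hQ : ∀ u ∈ U, aeval g Q u = 0) (d : ℕ)
    (hdpos : 0 < d)
    (hd : ∀ P : F[X], Irreducible P → P ∣ Q → P.natDegree = d) :
    d ∣ finrank F U := by
  obtain ⟨Y, hYU, hY, hYd⟩ := el_exists_dim g U hU Q hQ0 hQ d hd (finrank F U / d)
    (Nat.div_mul_le_self _ _)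
  by_cases hne : Y = U
  · rw [← hne, hYd]
    exact Dvd.intro_left _ rfl
  · exfalso
    obtain ⟨Y', _, hY'U, _, hY'd⟩ := el_chain g Y U hYU hY hU Q hQ0
      (fun u hu => by rw [hQ u hu]; exact Y.zero_mem) d hd hne
    have h1 : finrank F Y' ≤ finrank F U := Submodule.finrank_mono hY'U
    rw [hY'd, hYd] at h1
    have h2 := Nat.lt_div_mul_add hdpos (a := finrank F U)
    omega

end Cfsg.Agent.Lib.Helper24
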