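import Mathlib
import Cfsg.Agent.Lib.Helper24.ElB

set_option autoImplicit false

namespace Cfsg.Agent.Lib.Helper24

open Polynomial Module

variable {F : Type*} [Field F] {V : Type*} [AddCommGroup V] [Module F V]

theorem el_inv_ker (f : Module.End F V) (A : F[X]) : ElInv f (LinearMap.ker (aeval f A)) := by
  intro w hw
  rw [LinearMap.mem_ker] at hw ⊢
  have : aeval f A (f w) = f (aeval f A w) := by
    have h : aeval f A * f = f * aeval f A := by
      have h1 : aeval f (A * X) = aeval f (X * A) := by rw [mul_comm]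
      rw [map_mul, map_mul, aeval_X] at h1
      exact h1
    have := congrArg (fun t : Module.End F V => t w) h
    simpa [Module.End.mul_apply] using this
  rw [this, hw, map_zero]

theorem el_inv_inf {f : Module.End F V} {W W' : Submodule F V} (h : ElInv f W) (h' : ElInv f W') :
    ElInv f (W ⊓ W') := by
  intro w hw
  obtain ⟨h1, h2⟩ := Submodule.mem_inf.mp hw
  exact Submodule.mem_inf.mpr ⟨h w h1, h' w h2⟩

theorem el_inv_sup {f : Module.End F V} {W W' : Submodule F V} (h : ElInv f W) (h' : ElInv f W') :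
    ElInv f (W ⊔ W') := by
  intro w hw
  obtain ⟨y, hy, z, hz, rfl⟩ := Submodule.mem_sup.mp hw
  rw [map_add]
  exact Submodule.add_mem _ (Submodule.mem_sup_left (h y hy)) (Submodule.mem_sup_right (h' z hz))

theorem el_inv_of_le_fix (f : Module.End F V) (W : Submodule F V)
    (hW : W ≤ LinearMap.ker (aeval f (X - 1 : F[X]))) : ElInv f W := by
  intro w hw
  have h := hW hw
  rw [LinearMap.mem_ker, map_sub, aeval_X, map_one, LinearMap.sub_apply,
    Module.End.one_apply, sub_eq_zero] at h
  rw [h]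
  exact hw

theorem el_X_sub_one_ne : (X - 1 : F[X]) ≠ 0 := by
  have := X_sub_C_ne_zero (1 : F)
  rwa [C_1] at this

theorem el_X_sub_one_deg : (X - 1 : F[X]).natDegree = 1 := by
  have := natDegree_X_sub_C (1 : F)
  rwa [C_1] at this

section
variable [FiniteDimensional F V]

theorem el_split_dim (f : Module.End F V) (Φ : F[X]) (hcop : IsCoprime (X - 1 : F[X]) Φ)
    (hkill : aeval f ((X - 1) * Φ) = 0) :
    finrank F (LinearMap.ker (aeval f (X - 1 : F[X]))) + finrank F (LinearMap.ker (aeval f Φ)) =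
      finrank F V := by
  have h := Submodule.finrank_sup_add_finrank_inf_eq (LinearMap.ker (aeval f (X - 1 : F[X])))
    (LinearMap.ker (aeval f Φ))
  rw [sup_ker_aeval_eq_ker_aeval_mul_of_coprime f hcop, hkill, LinearMap.ker_zero,
    (disjoint_ker_aeval_of_isCoprime f hcop).eq_bot, finrank_bot, add_zero, finrank_top] at h
  exact h.symm

theorem el_split_W (f : Module.End F V) (Φ : F[X]) (hcop : IsCoprime (X - 1 : F[X]) Φ)
    (hkill : aeval f ((X - 1) * Φ) = 0) (W : Submodule F V) (hW : ElInv f W) :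
    finrank F W = finrank F ↥(W ⊓ LinearMap.ker (aeval f (X - 1 : F[X]))) +
      finrank F ↥(W ⊓ LinearMap.ker (aeval f Φ)) := by
  have h := Submodule.finrank_sup_add_finrank_inf_eq
    (W ⊓ LinearMap.ker (aeval f (X - 1 : F[X]))) (W ⊓ LinearMap.ker (aeval f Φ))
  have hinf : (W ⊓ LinearMap.ker (aeval f (X - 1 : F[X]))) ⊓ (W ⊓ LinearMap.ker (aeval f Φ)) = ⊥ := by
    rw [eq_bot_iff]
    intro v hv
    obtain ⟨h1, h2⟩ := Submodule.mem_inf.mp hv
    have h3 := (Submodule.mem_inf.mp h1).2
    have h4 := (Submodule.mem_inf.mp h2).2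
    have := (disjoint_ker_aeval_of_isCoprime f hcop).eq_bot
    rw [← this]
    exact Submodule.mem_inf.mpr ⟨h3, h4⟩
  have hsup : (W ⊓ LinearMap.ker (aeval f (X - 1 : F[X]))) ⊔ (W ⊓ LinearMap.ker (aeval f Φ)) = W := by
    apply le_antisymm
    · exact sup_le inf_le_left inf_le_left
    · intro w hw
      obtain ⟨S, T, hST⟩ := hcop
      have hw' : w = aeval f (T * Φ) w + aeval f (S * (X - 1)) w := by
        rw [← LinearMap.add_apply, ← map_add, add_comm, hST, map_one, Module.End.one_apply]
      rw [hw']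
      apply Submodule.add_mem
      · apply Submodule.mem_sup_left
        refine Submodule.mem_inf.mpr ⟨el_aeval_mem hW _ hw, ?_⟩
        rw [LinearMap.mem_ker, ← Module.End.mul_apply, ← map_mul]
        have : (X - 1 : F[X]) * (T * Φ) = T * ((X - 1) * Φ) := by ring
        rw [this, map_mul, hkill, mul_zero, LinearMap.zero_apply]
      · apply Submodule.mem_sup_right
        refine Submodule.mem_inf.mpr ⟨el_aeval_mem hW _ hw, ?_⟩
        rw [LinearMap.mem_ker, ← Module.End.mul_apply, ← map_mul]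
        have : Φ * (S * (X - 1)) = S * ((X - 1) * Φ) := by ring
        rw [this, map_mul, hkill, mul_zero, LinearMap.zero_apply]
  rw [hinf, hsup, finrank_bot, add_zero] at h
  exact h

theorem el_split_iff (f : Module.End F V) (Φ : F[X]) (hΦ0 : Φ ≠ 0)
    (hcop : IsCoprime (X - 1 : F[X]) Φ)
    (hkill : aeval f ((X - 1) * Φ) = 0) (d : ℕ) (hdpos : 0 < d)
    (hd : ∀ P : F[X], Irreducible P → P ∣ Φ → P.natDegree = d) (m : ℕ) :
    (∃ W : Submodule F V, ElInv f W ∧ finrank F W = m) ↔
      ∃ a' k : ℕ, a' ≤ finrank F (LinearMap.ker (aeval f (X - 1 : F[X]))) ∧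
        k * d ≤ finrank F (LinearMap.ker (aeval f Φ)) ∧ m = a' + k * d := by
  constructor
  · rintro ⟨W, hW, rfl⟩
    have hdvd : d ∣ finrank F ↥(W ⊓ LinearMap.ker (aeval f Φ)) := by
      apply el_dvd_dim f _ (el_inv_inf hW (el_inv_ker f Φ)) Φ hΦ0 _ d hdpos hd
      intro u hu
      exact LinearMap.mem_ker.mp (Submodule.mem_inf.mp hu).2
    obtain ⟨k, hk⟩ := hdvd
    refine ⟨finrank F ↥(W ⊓ LinearMap.ker (aeval f (X - 1 : F[X]))), k,
      Submodule.finrank_mono inf_le_right, ?_, ?_⟩
    · rw [mul_comm, ← hk]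
      exact Submodule.finrank_mono inf_le_right
    · rw [el_split_W f Φ hcop hkill W hW, hk, mul_comm]
  · rintro ⟨a', k, ha', hk, rfl⟩
    obtain ⟨C', hC'le, _, hC'd⟩ := el_exists_dim (1 : Module.End F V)
      (LinearMap.ker (aeval f (X - 1 : F[X]))) (fun w hw => hw) (X - 1 : F[X])
      el_X_sub_one_ne (fun u _ => by
        rw [map_sub, aeval_X, map_one, sub_self, LinearMap.zero_apply]) 1
      (fun P hP hPd => by
        have h1 : P.natDegree ≤ 1 := by
          have := natDegree_le_of_dvd hPd (el_X_sub_one_ne (F := F))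
          rwa [el_X_sub_one_deg] at this
        have h2 : 0 < P.natDegree := Irreducible.natDegree_pos hP
        omega) a' (by rw [mul_one]; exact ha')
    obtain ⟨Y, hYle, hY, hYd⟩ := el_exists_dim f (LinearMap.ker (aeval f Φ)) (el_inv_ker f Φ) Φ hΦ0
      (fun u hu => LinearMap.mem_ker.mp hu) d hd k hk
    refine ⟨C' ⊔ Y, el_inv_sup (el_inv_of_le_fix f C' hC'le) hY, ?_⟩
    have h := Submodule.finrank_sup_add_finrank_inf_eq C' Y
    have hinf : C' ⊓ Y = ⊥ := by
      rw [eq_bot_iff]
      have := (disjoint_ker_aeval_of_isCoprime f hcop).eq_bot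
      rw [← this]
      exact inf_le_inf hC'le hYle
    rw [hinf, finrank_bot, add_zero, hC'd, hYd, mul_one] at h
    exact h

end

end Cfsg.Agent.Lib.Helper24
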