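import Mathlib
import Cfsg.Agent.Lib.Helper24.ElC

set_option autoImplicit false

namespace Cfsg.Agent.Lib.Helper24

open Polynomial Module

section
variable {F : Type*} [Field F] [Fintype F] {p : ℕ} [hp : Fact p.Prime] [CharP F p]

omit [Fintype F] in
theorem el_cast_ne_zero (r : ℕ) [hr : Fact r.Prime] (hrp : r ≠ p) : (r : F) ≠ 0 := by
  intro h
  have := (CharP.cast_eq_zero_iff F p r).mp h
  exact hrp ((Nat.prime_dvd_prime_iff_eq hp.out hr.out).mp this).symm

theorem el_cyc_deg (r : ℕ) [hr : Fact r.Prime] (hrp : r ≠ p) (P : F[X]) (hP : Irreducible P)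
    (hPd : P ∣ cyclotomic r F) : P.natDegree = orderOf ((Fintype.card F : ℕ) : ZMod r) := by
  obtain ⟨n, _, hn⟩ := FiniteField.card F p
  have hcop : p.Coprime r := (Nat.coprime_primes hp.out hr.out).mpr (Ne.symm hrp)
  have h := natDegree_of_dvd_cyclotomic_of_irreducible (K := F) (p := p) (f := n) (n := r) hn hcop
    hPd hP
  rw [h, ← orderOf_units, ZMod.coe_unitOfCoprime, hn]

theorem el_ord_pos (r : ℕ) [hr : Fact r.Prime] (hrp : r ≠ p) :
    0 < orderOf ((Fintype.card F : ℕ) : ZMod r) := by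
  obtain ⟨n, _, hn⟩ := FiniteField.card F p
  have hcop : p.Coprime r := (Nat.coprime_primes hp.out hr.out).mpr (Ne.symm hrp)
  have h : ((Fintype.card F : ℕ) : ZMod r) = ((ZMod.unitOfCoprime (p ^ (n : ℕ)) (hcop.pow_left n) :
      (ZMod r)ˣ) : ZMod r) := by
    rw [ZMod.coe_unitOfCoprime, hn]
  rw [h, orderOf_units]
  exact orderOf_pos _

omit [Fintype F] in
theorem el_cyc_coprime (r : ℕ) [hr : Fact r.Prime] (hrp : r ≠ p) :
    IsCoprime (X - 1 : F[X]) (cyclotomic r F) := by
  have hirr : Irreducible (X - 1 : F[X]) := by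
    have := irreducible_X_sub_C (1 : F)
    rwa [C_1] at this
  apply (Irreducible.coprime_iff_not_dvd hirr).mpr
  intro hdvd
  have h1 : (X - C (1 : F)) ∣ cyclotomic r F := by rwa [C_1]
  rw [dvd_iff_isRoot, IsRoot.def, eval_one_cyclotomic_prime] at h1
  exact el_cast_ne_zero (F := F) r hrp h1

end

theorem el_cyc_kill {F : Type*} [Field F] {V : Type*} [AddCommGroup V] [Module F V]
    (r : ℕ) [hr : Fact r.Prime] (f : Module.End F V) (hf : f ^ r = 1) :
    aeval f ((X - 1) * cyclotomic r F) = 0 := by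
  rw [mul_comm, cyclotomic_prime_mul_X_sub_one, map_sub, map_pow, aeval_X, map_one, hf, sub_self]

theorem el_order_iff {F : Type*} [Field F] [Fintype F] {p : ℕ} [hp : Fact p.Prime] [CharP F p]
    {V : Type*} [AddCommGroup V] [Module F V] [FiniteDimensional F V]
    (r : ℕ) [hr : Fact r.Prime] (hrp : r ≠ p) (f : Module.End F V) (hf : f ^ r = 1) (m : ℕ) :
    (∃ W : Submodule F V, ElInv f W ∧ finrank F W = m) ↔
      ∃ a' k : ℕ, a' ≤ finrank F (LinearMap.ker (aeval f (X - 1 : F[X]))) ∧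
        k * orderOf ((Fintype.card F : ℕ) : ZMod r) +
          finrank F (LinearMap.ker (aeval f (X - 1 : F[X]))) ≤ finrank F V ∧
        m = a' + k * orderOf ((Fintype.card F : ℕ) : ZMod r) := by
  have h := el_split_iff f (cyclotomic r F) (cyclotomic_ne_zero r F) (el_cyc_coprime r hrp)
    (el_cyc_kill r f hf) _ (el_ord_pos (F := F) r hrp) (el_cyc_deg r hrp) m
  have hdim := el_split_dim f (cyclotomic r F) (el_cyc_coprime r hrp) (el_cyc_kill r f hf)
  rw [h]
  constructor
  · rintro ⟨a', k, h1, h2, h3⟩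
    exact ⟨a', k, h1, by omega, h3⟩
  · rintro ⟨a', k, h1, h2, h3⟩
    exact ⟨a', k, h1, by omega, h3⟩

theorem el_order_dvd {F : Type*} [Field F] [Fintype F] {p : ℕ} [hp : Fact p.Prime] [CharP F p]
    {V : Type*} [AddCommGroup V] [Module F V] [FiniteDimensional F V]
    (r : ℕ) [hr : Fact r.Prime] (hrp : r ≠ p) (f : Module.End F V) (hf : f ^ r = 1) :
    orderOf ((Fintype.card F : ℕ) : ZMod r) ∣
      finrank F V - finrank F (LinearMap.ker (aeval f (X - 1 : F[X]))) := by
  have hdim := el_split_dim f (cyclotomic r F) (el_cyc_coprime r hrp) (el_cyc_kill r f hf)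
  have h := el_dvd_dim f (LinearMap.ker (aeval f (cyclotomic r F))) (el_inv_ker f _)
    (cyclotomic r F) (cyclotomic_ne_zero r F) (fun u hu => LinearMap.mem_ker.mp hu) _
    (el_ord_pos (F := F) r hrp) (el_cyc_deg r hrp)
  have : finrank F V - finrank F (LinearMap.ker (aeval f (X - 1 : F[X]))) =
      finrank F (LinearMap.ker (aeval f (cyclotomic r F))) := by omega
  rw [this]
  exact h

end Cfsg.Agent.Lib.Helper24
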