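import Mathlib

set_option autoImplicit false

namespace Cfsg.Agent.Lib.Helper24

open Polynomial Module

theorem el_det_smul_tower {F K V : Type*} [Field F] [Field K] [Algebra F K]
    [AddCommGroup V] [Module F V] [Module K V] [IsScalarTower F K V]
    [FiniteDimensional F K] [FiniteDimensional F V] (α : K) (g : Module.End F V)
    (hg : ∀ v : V, g v = α • v) :
    LinearMap.det g = (Algebra.norm F α) ^ (finrank F V / finrank F K) := by
  have : Module.Finite K V := Module.Finite.of_restrictScalars_finite F K V
  have h1 : g = (α • (LinearMap.id : V →ₗ[K] V)).restrictScalars F := by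
    ext v
    rw [hg]
    rfl
  have hK : 0 < finrank F K := finrank_pos
  have h2 : finrank F V / finrank F K = finrank K V := by
    rw [← Module.finrank_mul_finrank F K V, Nat.mul_div_cancel_left _ hK]
  rw [h1, LinearMap.det_restrictScalars, LinearMap.det_smul, LinearMap.det_id, mul_one, map_pow, h2]

theorem el_det_of_irred {F V : Type*} [Field F] [AddCommGroup V] [Module F V]
    [FiniteDimensional F V] (g : Module.End F V) (P : F[X]) (hP : Irreducible P) (hm : P.Monic)
    (hPg : aeval g P = 0) :
    LinearMap.det g = ((-1) ^ P.natDegree * P.coeff 0) ^ (finrank F V / P.natDegree) := by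
  have : Fact (Irreducible P) := ⟨hP⟩
  let K := AdjoinRoot P
  have h0 : ∀ a ∈ (Ideal.span {P} : Ideal F[X]), aeval g a = 0 := by
    intro a ha
    obtain ⟨b, rfl⟩ := Ideal.mem_span_singleton.mp ha
    rw [map_mul, hPg, zero_mul]
  let φ : K →ₐ[F] Module.End F V := Ideal.Quotient.liftₐ (Ideal.span {P}) (aeval g) h0
  let _ : Module K V := Module.compHom V (φ : K →+* Module.End F V)
  have hsm : ∀ (k : K) (v : V), k • v = φ k v := fun k v => rfl
  have : IsScalarTower F K V := ⟨fun a k v => by
    rw [hsm, hsm, map_smul, LinearMap.smul_apply]⟩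
  let pb := AdjoinRoot.powerBasis hP.ne_zero
  have : FiniteDimensional F K := pb.finite
  have hfr : finrank F K = P.natDegree := by
    rw [pb.finrank]
    rfl
  have hroot : ∀ v : V, g v = (AdjoinRoot.root P) • v := by
    intro v
    rw [hsm]
    have : φ (AdjoinRoot.root P) = g := by
      show Ideal.Quotient.liftₐ (Ideal.span {P}) (aeval g) h0 (Ideal.Quotient.mk _ X) = g
      rw [Ideal.Quotient.liftₐ_apply]
      exact (Ideal.Quotient.lift_mk _ _ _).trans (aeval_X g)
    rw [this]
  rw [el_det_smul_tower (AdjoinRoot.root P) g hroot, hfr]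
  congr 1
  have hn := Algebra.PowerBasis.norm_gen_eq_coeff_zero_minpoly pb
  have hgen : pb.gen = AdjoinRoot.root P := rfl
  have hdim : pb.dim = P.natDegree := rfl
  rw [hgen, hdim, AdjoinRoot.minpoly_root hP.ne_zero, hm.leadingCoeff, inv_one, C_1, mul_one] at hn
  exact hn

end Cfsg.Agent.Lib.Helper24
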