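import Mathlib
import Cfsg.Agent.Lib.Helper24.ElE
import Cfsg.Agent.Lib.Helper24.ElD

set_option autoImplicit false

namespace Cfsg.Agent.Lib.Helper24

open Polynomial Module

theorem el_aeval_one {F A : Type*} [Field F] [Ring A] [Algebra F A] (Q : F[X]) :
    aeval (1 : A) Q = algebraMap F A (Q.eval 1) := by
  have h := aeval_algebraMap_apply A (1 : F) Q
  rw [map_one] at h
  rw [h, coe_aeval_eq_eval]

section
variable {F : Type*} [Field F] (P : F[X]) [hPf : Fact (Irreducible P)] (b a₀ : ℕ)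

noncomputable def elG₁ : Module.End F (Fin b → AdjoinRoot P) :=
  Algebra.lsmul F F (Fin b → AdjoinRoot P) (AdjoinRoot.root P)

noncomputable def elG : Module.End F ((Fin b → AdjoinRoot P) × (Fin a₀ → F)) :=
  LinearMap.prodMapAlgHom F (Fin b → AdjoinRoot P) (Fin a₀ → F) (elG₁ P b, 1)

theorem el_aeval_G₁ (Q : F[X]) :
    aeval (elG₁ P b) Q = Algebra.lsmul F F (Fin b → AdjoinRoot P) (aeval (AdjoinRoot.root P) Q) := by
  unfold elG₁
  rw [aeval_algHom_apply]

theorem el_aeval_G (Q : F[X]) :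
    aeval (elG P b a₀) Q = LinearMap.prodMap
      (Algebra.lsmul F F (Fin b → AdjoinRoot P) (aeval (AdjoinRoot.root P) Q))
      (algebraMap F (Module.End F (Fin a₀ → F)) (Q.eval 1)) := by
  unfold elG
  rw [aeval_algHom_apply, aeval_prod_apply]
  show (LinearMap.prodMapAlgHom F (Fin b → AdjoinRoot P) (Fin a₀ → F))
    (aeval (elG₁ P b) Q, aeval (1 : Module.End F (Fin a₀ → F)) Q) = _
  rw [el_aeval_G₁, el_aeval_one]
  rfl

theorem el_aeval_G_of_dvd (Q : F[X]) (hQ : P ∣ Q) (h1 : a₀ ≠ 0 → Q.eval 1 = 0) :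
    aeval (elG P b a₀) Q = 0 := by
  rw [el_aeval_G]
  have h0 : aeval (AdjoinRoot.root P) Q = 0 := by
    obtain ⟨R, rfl⟩ := hQ
    rw [map_mul, AdjoinRoot.aeval_eq, AdjoinRoot.mk_self, zero_mul]
  rw [h0, map_zero]
  have h2 : algebraMap F (Module.End F (Fin a₀ → F)) (Q.eval 1) = 0 := by
    by_cases ha : a₀ = 0
    · subst ha
      apply LinearMap.ext
      intro v
      exact Subsingleton.elim _ _
    · rw [h1 ha, map_zero]
  rw [h2]
  exact LinearMap.prodMap_zero

theorem el_finrank_K : FiniteDimensional F (AdjoinRoot P) ∧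
    finrank F (AdjoinRoot P) = P.natDegree := by
  let pb := AdjoinRoot.powerBasis hPf.out.ne_zero
  refine ⟨pb.finite, ?_⟩
  rw [pb.finrank]
  rfl

theorem el_finrank_V :
    FiniteDimensional F ((Fin b → AdjoinRoot P) × (Fin a₀ → F)) ∧
    finrank F ((Fin b → AdjoinRoot P) × (Fin a₀ → F)) = b * P.natDegree + a₀ := by
  obtain ⟨h1, h2⟩ := el_finrank_K P
  refine ⟨inferInstance, ?_⟩
  rw [Module.finrank_prod, Module.finrank_pi_fintype, Module.finrank_fin_fun]
  simp [h2]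

theorem el_det_G (hm : P.Monic) :
    LinearMap.det (elG P b a₀) = ((-1) ^ P.natDegree * P.coeff 0) ^ b := by
  obtain ⟨h1, h2⟩ := el_finrank_K P
  have hd : 0 < P.natDegree := hPf.out.natDegree_pos
  have e1 : elG P b a₀ = LinearMap.prodMap (elG₁ P b) 1 := rfl
  rw [e1, LinearMap.det_prodMap, map_one, mul_one]
  have h0 : aeval (elG₁ P b) P = 0 := by
    rw [el_aeval_G₁, AdjoinRoot.aeval_eq, AdjoinRoot.mk_self, map_zero]
  rw [el_det_of_irred (elG₁ P b) P hPf.out hm h0]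
  congr 1
  rw [Module.finrank_pi_fintype]
  simp [h2, Nat.mul_div_cancel _ hd]

theorem el_root_ne_one (h1 : P.eval 1 ≠ 0) : AdjoinRoot.root P - 1 ≠ 0 := by
  intro h
  have h2 : AdjoinRoot.root P = 1 := sub_eq_zero.mp h
  have h3 : aeval (AdjoinRoot.root P) P = 0 := by
    rw [AdjoinRoot.aeval_eq, AdjoinRoot.mk_self]
  rw [h2, el_aeval_one] at h3
  exact h1 ((map_eq_zero _).mp h3)

theorem el_ker_G (h1 : P.eval 1 ≠ 0) :
    finrank F (LinearMap.ker (aeval (elG P b a₀) (X - 1 : F[X]))) ≤ a₀ := by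
  obtain ⟨hfd, _⟩ := el_finrank_V P b a₀
  have hle : LinearMap.ker (aeval (elG P b a₀) (X - 1 : F[X])) ≤
      LinearMap.ker (LinearMap.fst F (Fin b → AdjoinRoot P) (Fin a₀ → F)) := by
    intro v hv
    rw [LinearMap.mem_ker, el_aeval_G] at hv
    rw [LinearMap.mem_ker, LinearMap.fst_apply]
    have h2 := congrArg Prod.fst hv
    rw [LinearMap.prodMap_apply] at h2
    simp only [Prod.fst_zero] at h2
    have h3 : (aeval (AdjoinRoot.root P) (X - 1 : F[X])) • v.1 = 0 := h2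
    rw [map_sub, aeval_X, map_one] at h3
    exact (smul_eq_zero.mp h3).resolve_left (el_root_ne_one P h1)
  have h2 := Submodule.finrank_mono hle
  rw [LinearMap.ker_fst, LinearMap.finrank_range_of_inj LinearMap.inr_injective,
    Module.finrank_fin_fun] at h2
  exact h2

theorem el_G_not_scalar (hb : 1 ≤ b) (hd : 2 ≤ P.natDegree) (c : F) :
    elG P b a₀ ≠ c • 1 := by
  intro h
  have h2 := congrArg (fun f => (f ((fun _ => 1 : Fin b → AdjoinRoot P), (0 : Fin a₀ → F))).1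
    (⟨0, hb⟩ : Fin b)) h
  have h3 : AdjoinRoot.root P * 1 = c • (1 : AdjoinRoot P) := h2
  rw [mul_one, Algebra.smul_def, mul_one] at h3
  have h4 : AdjoinRoot.mk P (X - C c) = 0 := by
    rw [map_sub, AdjoinRoot.mk_X, AdjoinRoot.mk_C, h3]
    exact sub_self _
  rw [AdjoinRoot.mk_eq_zero] at h4
  have h5 := natDegree_le_of_dvd h4 (X_sub_C_ne_zero c)
  rw [natDegree_X_sub_C] at h5
  omega

end

theorem el_transport {F V : Type*} [Field F] [AddCommGroup V] [Module F V]
    [FiniteDimensional F V] (n : ℕ) (hn : finrank F V = n) (g : Module.End F V) :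
    ∃ x : Matrix (Fin n) (Fin n) F, x.det = LinearMap.det g ∧
      (∀ (r : ℕ) (c : F), g ^ r = c • 1 → x ^ r = c • 1) ∧
      (∀ c : F, x = c • 1 → g = c • 1) ∧
      (∀ W : Submodule F (Fin n → F), W.map (Matrix.toLin' x) ≤ W →
        ∃ W' : Submodule F V, ElInv g W' ∧ finrank F W' = finrank F W) := by
  have hfr : finrank F V = finrank F (Fin n → F) := by rw [hn, Module.finrank_fin_fun]
  let e : V ≃ₗ[F] (Fin n → F) := LinearEquiv.ofFinrankEq V (Fin n → F) hfr
  let φ : Module.End F V ≃ₐ[F] Matrix (Fin n) (Fin n) F :=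
    (LinearEquiv.conjAlgEquiv F e).trans LinearMap.toMatrixAlgEquiv'
  have hφ : ∀ h : Module.End F V, Matrix.toLin' (φ h) = (e : V →ₗ[F] (Fin n → F)) ∘ₗ h ∘ₗ
      (e.symm : (Fin n → F) →ₗ[F] V) := by
    intro h
    show Matrix.toLin' (LinearMap.toMatrix' (e.conj h)) = _
    rw [Matrix.toLin'_toMatrix']
    rfl
  refine ⟨φ g, ?_, ?_, ?_, ?_⟩
  · rw [← LinearMap.det_toLin', hφ, LinearMap.det_conj]
  · intro r c h
    rw [← map_pow, h, map_smul, map_one]
  · intro c h
    apply φ.injective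
    rw [h, map_smul, map_one]
  · intro W hW
    refine ⟨W.map (e.symm : (Fin n → F) →ₗ[F] V), ?_, ?_⟩
    · rintro _ ⟨w, hw, rfl⟩
      refine ⟨Matrix.toLin' (φ g) w, hW ⟨w, hw, rfl⟩, ?_⟩
      rw [hφ]
      simp
    · exact LinearEquiv.finrank_map_eq e.symm W

theorem el_build {F : Type*} [Field F] (P : F[X]) (hP : Irreducible P) (hm : P.Monic)
    (h1 : P.eval 1 ≠ 0) (b a₀ n : ℕ) (hn : n = b * P.natDegree + a₀) :
    ∃ x : Matrix (Fin n) (Fin n) F,
      x.det = ((-1) ^ P.natDegree * P.coeff 0) ^ b ∧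
      (∀ (r : ℕ) (c : F), P ∣ X ^ r - C c → (a₀ ≠ 0 → c = 1) → x ^ r = c • 1) ∧
      (1 ≤ b → 2 ≤ P.natDegree → ∀ c : F, x ≠ c • 1) ∧
      (∀ W : Submodule F (Fin n → F), W.map (Matrix.toLin' x) ≤ W →
        ∃ a' k : ℕ, a' ≤ a₀ ∧ finrank F W = a' + k * P.natDegree) := by
  have : Fact (Irreducible P) := ⟨hP⟩
  obtain ⟨hfd, hfr⟩ := el_finrank_V P b a₀
  obtain ⟨x, hdet, hpow, hsc, hinv⟩ := el_transport n (hfr.trans hn.symm) (elG P b a₀)
  have hX1 : Irreducible (X - 1 : F[X]) := by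
    have := irreducible_X_sub_C (1 : F)
    rwa [C_1] at this
  have hcop : IsCoprime (X - 1 : F[X]) P := by
    apply (Irreducible.coprime_iff_not_dvd hX1).mpr
    intro hdvd
    have h2 : (X - C (1 : F)) ∣ P := by rwa [C_1]
    rw [dvd_iff_isRoot] at h2
    exact h1 h2
  refine ⟨x, ?_, ?_, ?_, ?_⟩
  · rw [hdet, el_det_G P b a₀ hm]
  · intro r c hdvd hc
    apply hpow
    have h2 := el_aeval_G_of_dvd P b a₀ (X ^ r - C c) hdvd (by
      intro ha
      rw [hc ha]
      simp)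
    rw [map_sub, map_pow, aeval_X, aeval_C, Algebra.algebraMap_eq_smul_one] at h2
    exact sub_eq_zero.mp h2
  · intro hb hd c hx
    exact el_G_not_scalar P b a₀ hb hd c (hsc c hx)
  · intro W hW
    obtain ⟨W', hW', hWd⟩ := hinv W hW
    have hkill : aeval (elG P b a₀) ((X - 1) * P) = 0 := by
      apply el_aeval_G_of_dvd P b a₀ _ (Dvd.intro_left _ rfl)
      intro _
      simp
    have hdeg : ∀ P' : F[X], Irreducible P' → P' ∣ P → P'.natDegree = P.natDegree := by
      intro P' hP' hdvd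
      exact natDegree_eq_of_degree_eq (degree_eq_degree_of_associated
        (hP'.associated_of_dvd hP hdvd))
    obtain ⟨a', k, ha', _, hk⟩ := (el_split_iff (elG P b a₀) P hP.ne_zero hcop hkill P.natDegree
      hP.natDegree_pos hdeg (finrank F W)).mp ⟨W', hW', hWd⟩
    exact ⟨a', k, le_trans ha' (el_ker_G P b a₀ h1), hk⟩

end Cfsg.Agent.Lib.Helper24
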