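import Mathlib

set_option autoImplicit false

namespace Cfsg.Agent.Lib.Helper24

section
variable {F : Type*} [Field F] [Fintype F]

theorem el_card_units : Nat.card Fˣ = Fintype.card F - 1 := by
  classical
  rw [Nat.card_eq_fintype_card, Fintype.card_units]

theorem el_gen : ∃ γ : Fˣ, orderOf γ = Fintype.card F - 1 ∧ ∀ y : Fˣ, ∃ t : ℕ, γ ^ t = y := by
  obtain ⟨γ, hγ⟩ := IsCyclic.exists_monoid_generator (α := Fˣ)
  refine ⟨γ, ?_, fun y => ?_⟩
  · rw [orderOf_eq_card_of_forall_mem_powers hγ, el_card_units]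
  · obtain ⟨t, ht⟩ := hγ y
    exact ⟨t, ht⟩

theorem el_all_pow (r : ℕ) (hr : r ≠ 0) (hcop : Nat.Coprime (Fintype.card F - 1) r) (c : F) :
    ∃ b : F, b ^ r = c := by
  by_cases hc : c = 0
  · exact ⟨0, by rw [hc, zero_pow hr]⟩
  · have h : (Nat.card Fˣ).Coprime r := by rw [el_card_units]; exact hcop
    obtain ⟨b, hb⟩ := (powCoprime h).surjective (Units.mk0 c hc)
    refine ⟨(b : F), ?_⟩
    have := congrArg (fun u : Fˣ => (u : F)) hb
    simpa using this

theorem el_eq_one_of_pow (r : ℕ) (hcop : Nat.Coprime (Fintype.card F - 1) r) (δ : F)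
    (hδ : δ ^ r = 1) (hr : r ≠ 0) : δ = 1 := by
  have h0 : δ ≠ 0 := by
    intro h
    rw [h, zero_pow hr] at hδ
    exact zero_ne_one hδ
  have h1 := FiniteField.pow_card_sub_one_eq_one δ h0
  have h2 := pow_gcd_eq_one.mpr ⟨h1, hδ⟩
  rw [Nat.Coprime.gcd_eq_one hcop, pow_one] at h2
  exact h2

theorem el_pow_of_val_lt (r : ℕ) [hr : Fact r.Prime] (d : Fˣ) (n' : ℕ) (hn' : n' ≠ 0)
    (hd : d ^ n' = 1) (hv : padicValNat r n' < padicValNat r (Fintype.card F - 1)) :
    ∃ b : Fˣ, b ^ r = d := by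
  obtain ⟨γ, hγ, hgen⟩ := el_gen (F := F)
  obtain ⟨t, rfl⟩ := hgen d
  rw [← pow_mul] at hd
  have h1 : Fintype.card F - 1 ∣ t * n' := by
    rw [← hγ]
    exact orderOf_dvd_of_pow_eq_one hd
  have h2 : r ^ padicValNat r (Fintype.card F - 1) ∣ t * n' :=
    dvd_trans pow_padicValNat_dvd h1
  have h3 : r ∣ t := by
    by_contra hnd
    have hcop : Nat.Coprime (r ^ padicValNat r (Fintype.card F - 1)) t :=
      Nat.Coprime.pow_left _ ((Nat.Prime.coprime_iff_not_dvd hr.out).mpr hnd)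
    have h4 := hcop.dvd_of_dvd_mul_left h2
    have h5 := (padicValNat_dvd_iff_le hn').mp h4
    omega
  obtain ⟨s, rfl⟩ := h3
  exact ⟨γ ^ s, by rw [← pow_mul, mul_comm]⟩

omit [Fintype F] in
theorem el_neg_one_pow_even (r n : ℕ) [hr : Fact r.Prime] (v : ℕ) (hv : 1 ≤ v) (w : ℕ)
    (hn : n / r = r ^ v * w) : ((-1 : F) ^ (r + 1)) ^ (n / r) = 1 := by
  rw [← pow_mul]
  apply Even.neg_one_pow
  rcases hr.out.eq_two_or_odd' with h2 | hodd
  · subst h2
    rw [hn]
    obtain ⟨v', rfl⟩ : ∃ v', v = v' + 1 := ⟨v - 1, by omega⟩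
    rw [pow_succ]
    exact ⟨3 * (2 ^ v' * w), by ring⟩
  · obtain ⟨k, hk⟩ := hodd
    exact ⟨(k + 1) * (n / r), by rw [hk]; ring⟩

theorem el_exists_nonpow (r n : ℕ) [hr : Fact r.Prime] (hrq : r ∣ Fintype.card F - 1)
    (hq1 : Fintype.card F - 1 ≠ 0)
    (hrn : r ∣ n) (hn : n ≠ 0)
    (h : padicValNat r (Fintype.card F - 1) < padicValNat r n ∨
      (r = 2 ∧ Even n ∧ Fintype.card F % 4 ≠ 1)) :
    ∃ c : F, (∀ b : F, b ^ r ≠ c) ∧ ((-1) ^ (r + 1) * c) ^ (n / r) = 1 := by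
  rcases h with h | ⟨h2, hev, h4⟩
  · obtain ⟨γ, hγ, hgen⟩ := el_gen (F := F)
    set v := padicValNat r (Fintype.card F - 1) with hv
    have hv1 : 1 ≤ v := by
      have := (padicValNat_dvd_iff_le (p := r) (n := 1) hq1).mp (by rwa [pow_one])
      exact this
    obtain ⟨u, hu⟩ : r ^ v ∣ Fintype.card F - 1 := pow_padicValNat_dvd
    have hru : ¬ r ∣ u := by
      rintro ⟨u', rfl⟩
      have h5 : r ^ (v + 1) ∣ Fintype.card F - 1 := ⟨u', by rw [hu, pow_succ]; ring⟩
      have := (padicValNat_dvd_iff_le hq1).mp h5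
      omega
    have h6 : r ^ (v + 1) ∣ n := (padicValNat_dvd_iff_le hn).mpr h
    obtain ⟨w, hw⟩ := h6
    have hnr : n / r = r ^ v * w := by
      rw [hw, pow_succ, mul_assoc, mul_comm r w, ← mul_assoc]
      exact Nat.mul_div_cancel _ hr.out.pos
    refine ⟨((γ ^ u : Fˣ) : F), ?_, ?_⟩
    · intro b hb
      have hb0 : b ≠ 0 := by
        intro hb0
        rw [hb0, zero_pow hr.out.ne_zero] at hb
        exact (Units.ne_zero (γ ^ u)) hb.symm
      obtain ⟨s, hs⟩ := hgen (Units.mk0 b hb0)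
      have h7 : γ ^ (s * r) = γ ^ u := by
        rw [pow_mul, hs]
        apply Units.ext
        simpa using hb
      rw [pow_eq_pow_iff_modEq, hγ] at h7
      have h8 : s * r ≡ u [MOD r] := h7.of_dvd hrq
      have h9 : r ∣ u := by
        have := (Nat.modEq_zero_iff_dvd.mpr (Dvd.intro_left s rfl)).symm.trans h8
        exact Nat.modEq_zero_iff_dvd.mp this.symm
      exact hru h9
    · rw [mul_pow, el_neg_one_pow_even r n v hv1 w hnr, one_mul, hnr]
      have h7 : (γ ^ u) ^ (r ^ v * w) = 1 := by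
        rw [← pow_mul, ← mul_assoc, mul_comm u, ← hu, pow_mul, ← hγ, pow_orderOf_eq_one, one_pow]
      have := congrArg (fun x : Fˣ => (x : F)) h7
      simpa using this
  · subst h2
    refine ⟨-1, ?_, ?_⟩
    · intro b hb
      have hsq : IsSquare (-1 : F) := ⟨b, by rw [← hb, sq]⟩
      rw [FiniteField.isSquare_neg_one_iff] at hsq
      omega
    · have : ((-1 : F) ^ (2 + 1) * -1) = 1 := by ring
      rw [this, one_pow]

theorem el_nonpow_val (r n : ℕ) [hr : Fact r.Prime] (hrq : r ∣ Fintype.card F - 1)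
    (hrn : r ∣ n) (hn : n ≠ 0) (c : F) (hc : ∀ b : F, b ^ r ≠ c)
    (hdet : ((-1) ^ (r + 1) * c) ^ (n / r) = 1) :
    padicValNat r (Fintype.card F - 1) < padicValNat r n ∨
      (r = 2 ∧ Even n ∧ Fintype.card F % 4 ≠ 1) := by
  by_contra hcon
  rw [not_or] at hcon
  obtain ⟨hc1, hc2⟩ := hcon
  obtain ⟨n', rfl⟩ := hrn
  have hn'0 : n' ≠ 0 := by
    rintro rfl
    exact hn (mul_zero r)
  rw [Nat.mul_div_cancel_left _ hr.out.pos] at hdet
  rw [padicValNat.mul hr.out.ne_zero hn'0, padicValNat_self] at hc1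
  have hv : padicValNat r n' < padicValNat r (Fintype.card F - 1) := by omega
  have hc0 : c ≠ 0 := by
    intro h0
    exact hc 0 (by rw [h0, zero_pow hr.out.ne_zero])
  rcases hr.out.eq_two_or_odd' with h2 | hodd
  · subst h2
    have h4 : Fintype.card F % 4 = 1 := by
      by_contra h4
      exact hc2 ⟨rfl, ⟨n', by ring⟩, h4⟩
    have hsq : IsSquare (-1 : F) := by
      rw [FiniteField.isSquare_neg_one_iff]
      omega
    obtain ⟨s, hs⟩ := hsq
    have e1 : ((-1 : F) ^ (2 + 1) * c) = -c := by ring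
    rw [e1] at hdet
    have hd : (Units.mk0 (-c) (neg_ne_zero.mpr hc0)) ^ n' = 1 := by
      apply Units.ext
      simpa using hdet
    obtain ⟨b, hb⟩ := el_pow_of_val_lt 2 _ n' hn'0 hd hv
    have hb' : (b : F) ^ 2 = -c := by
      have := congrArg (fun x : Fˣ => (x : F)) hb
      simpa using this
    apply hc (s * b)
    rw [mul_pow, hb', sq, ← hs]
    ring
  · have e1 : ((-1 : F) ^ (r + 1)) = 1 := by
      apply Even.neg_one_pow
      obtain ⟨k, hk⟩ := hodd
      exact ⟨k + 1, by rw [hk]; ring⟩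
    rw [e1, one_mul] at hdet
    have hd : (Units.mk0 c hc0) ^ n' = 1 := by
      apply Units.ext
      simpa using hdet
    obtain ⟨b, hb⟩ := el_pow_of_val_lt r _ n' hn'0 hd hv
    apply hc (b : F)
    have := congrArg (fun x : Fˣ => (x : F)) hb
    simpa using this

end

end Cfsg.Agent.Lib.Helper24
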