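import Mathlib
import Cfsg.Agent.Lib.Helper24.ElA
import Cfsg.Agent.Lib.Helper24.ElF
import Cfsg.Agent.Lib.Helper24.ElG

set_option autoImplicit false

namespace Cfsg.Agent.Lib.Helper24

open Polynomial Module

theorem el_ord_dvd_iff (q r k : ℕ) (hq : 1 ≤ q) :
    r ∣ q ^ k - 1 ↔ orderOf (q : ZMod r) ∣ k := by
  rw [orderOf_dvd_iff_pow_eq_one, ← ZMod.natCast_eq_zero_iff,
    Nat.cast_sub (Nat.one_le_pow _ _ hq), Nat.cast_pow, Nat.cast_one, sub_eq_zero]

theorem el_ord_one_iff (q r : ℕ) (hq : 1 ≤ q) :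
    orderOf (q : ZMod r) = 1 ↔ r ∣ q - 1 := by
  have h := el_ord_dvd_iff q r 1 hq
  rw [pow_one] at h
  rw [h, Nat.dvd_one]

theorem el_arith_suff (i n m cdim : ℕ) (hi : 1 ≤ i) (hc : cdim ≤ n) (hdvd : i ∣ n - cdim)
    (hmn : m ≤ n) (hcond : i = 1 ∨ m % i ≤ n % i) :
    ∃ a' k : ℕ, a' ≤ cdim ∧ k * i + cdim ≤ n ∧ m = a' + k * i := by
  obtain ⟨t, ht⟩ := hdvd
  by_cases hcase : m / i ≤ t
  · refine ⟨m % i, m / i, ?_, ?_, ?_⟩
    · rcases hcond with h1 | h2
      · subst h1
        rw [Nat.mod_one]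
        exact Nat.zero_le _
      · have hn : n = cdim + i * t := by omega
        have : n % i = cdim % i := by rw [hn, Nat.add_mul_mod_self_left]
        have h3 : cdim % i ≤ cdim := Nat.mod_le _ _
        omega
    · have : m / i * i ≤ t * i := Nat.mul_le_mul_right i hcase
      have h2 : t * i = i * t := mul_comm _ _
      omega
    · have := Nat.mod_add_div m i
      rw [mul_comm] at this
      exact this.symm
  · push Not at hcase
    have h1 : (t + 1) * i ≤ m / i * i := Nat.mul_le_mul_right i hcase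
    have h2 : m / i * i ≤ m := Nat.div_mul_le_self m i
    have h3 : t * i = i * t := mul_comm _ _
    have h4 : (t + 1) * i = t * i + i := by ring
    refine ⟨m - t * i, t, ?_, ?_, ?_⟩
    · omega
    · omega
    · omega

theorem el_arith_nec (i n m j a' k : ℕ) (hi : 1 ≤ i) (hj : j < m) (hjn : j ≤ n)
    (hdvd : i ∣ n - j) (ha : a' ≤ n % i) (hm : m = a' + k * i) :
    i ≤ m ∧ m % i ≤ n % i := by
  have hlt : n % i < i := Nat.mod_lt _ hi
  have h1 : m % i = a' := by
    rw [hm, Nat.add_mul_mod_self_right]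
    exact Nat.mod_eq_of_lt (by omega)
  refine ⟨?_, by omega⟩
  rcases Nat.eq_zero_or_pos k with hk | hk
  · exfalso
    subst hk
    obtain ⟨t, ht⟩ := hdvd
    have hn : n = j + i * t := by omega
    have h2 : n % i = j % i := by rw [hn, Nat.add_mul_mod_self_left]
    have h3 : j % i ≤ j := Nat.mod_le _ _
    omega
  · have : i ≤ k * i := Nat.le_mul_of_pos_left i hk
    omega

theorem el_ne_char {F : Type*} [Field F] [Fintype F] {p : ℕ} [hp : Fact p.Prime] [CharP F p]
    (n m : ℕ) (hmn : m ≤ n) (r : ℕ) [hr : Fact r.Prime]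
    (hrΩ : r ∣ Nat.card {W : Submodule F (Fin n → F) // Module.finrank F ↥W = m}) :
    r ≠ p := by
  have hfr : finrank F (Fin n → F) = n := Module.finrank_fin_fun F
  obtain ⟨j, hj, hdvd⟩ := el_count_dvd (F := F) (V := Fin n → F) m (by rw [hfr]; exact hmn) r
    hr.out hrΩ
  rw [hfr] at hdvd
  rintro rfl
  obtain ⟨e, _, he⟩ := FiniteField.card F r
  have h1 : r ∣ Fintype.card F ^ (n - j) := by
    apply dvd_pow _ (by omega)
    rw [he]
    exact dvd_pow_self r e.ne_zero
  have h2 : 1 ≤ Fintype.card F ^ (n - j) := Nat.one_le_pow _ _ Fintype.card_pos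
  have h3 : r ∣ 1 := by
    have := (Nat.dvd_sub h1 hdvd)
    have e1 : Fintype.card F ^ (n - j) - (Fintype.card F ^ (n - j) - 1) = 1 := by omega
    rwa [e1] at this
  exact hr.out.one_lt.ne' (Nat.dvd_one.mp h3)

theorem el_inv_iff {F : Type*} [Field F] {V : Type*} [AddCommGroup V] [Module F V]
    (f : Module.End F V) (W : Submodule F V) : W.map f ≤ W ↔ ElInv f W := by
  rw [Submodule.map_le_iff_le_comap]
  exact Iff.rfl

theorem el_suff {F : Type*} [Field F] [Fintype F] {p : ℕ} [hp : Fact p.Prime] [CharP F p]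
    (n m : ℕ) (hn : 2 ≤ n) (hmn : m ≤ n) (r : ℕ) [hr : Fact r.Prime] (hrp : r ≠ p)
    (hcond : (orderOf ((Fintype.card F : ℕ) : ZMod r) = 1 ∧ (r ∣ m ∨
        (padicValNat r n ≤ padicValNat r (Fintype.card F - 1) ∧
          (r = 2 → Even n → Fintype.card F % 4 = 1)))) ∨
      (2 ≤ orderOf ((Fintype.card F : ℕ) : ZMod r) ∧
        m % orderOf ((Fintype.card F : ℕ) : ZMod r) ≤ n % orderOf ((Fintype.card F : ℕ) : ZMod r)))
    (x : Matrix (Fin n) (Fin n) F) (hdet : x.det = 1) (c : F) (hx : x ^ r = c • 1) :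
    ∃ W : Submodule F (Fin n → F), finrank F W = m ∧ W.map (Matrix.toLin' x) ≤ W := by
  have hq1 : 1 ≤ Fintype.card F := Fintype.card_pos
  have hfr : finrank F (Fin n → F) = n := Module.finrank_fin_fun F
  have hc0 : c ≠ 0 := by
    intro h0
    have h1 := congrArg Matrix.det hx
    have hne : Nonempty (Fin n) := ⟨⟨0, by omega⟩⟩
    rw [Matrix.det_pow, hdet, one_pow, h0, zero_smul, Matrix.det_zero] at h1
    exact one_ne_zero h1
  have hf : Matrix.toLin' x ^ r = c • 1 := by
    rw [← Matrix.toLin'_pow, hx, map_smul, Matrix.toLin'_one]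
    rfl
  by_cases hpow : ∃ c₀ : F, c₀ ^ r = c
  · obtain ⟨c₀, rfl⟩ := hpow
    have hc₀ : c₀ ≠ 0 := by
      intro h
      rw [h, zero_pow hr.out.ne_zero] at hc0
      exact hc0 rfl
    have hf' : (c₀⁻¹ • Matrix.toLin' x) ^ r = 1 := by
      rw [_root_.smul_pow, hf, smul_smul, inv_pow, inv_mul_cancel₀ (pow_ne_zero _ hc₀), one_smul]
    have hdvd := el_order_dvd r hrp _ hf'
    rw [hfr] at hdvd
    have hcd : finrank F (LinearMap.ker (aeval (c₀⁻¹ • Matrix.toLin' x) (X - 1 : F[X]))) ≤ n := by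
      have := Submodule.finrank_le
        (LinearMap.ker (aeval (c₀⁻¹ • Matrix.toLin' x) (X - 1 : F[X])))
      rwa [hfr] at this
    have hipos := el_ord_pos (F := F) r hrp
    obtain ⟨a', k, h1, h2, h3⟩ := el_arith_suff _ n m _ hipos hcd hdvd hmn (by
      rcases hcond with ⟨h, _⟩ | ⟨_, h⟩
      · exact Or.inl h
      · exact Or.inr h)
    obtain ⟨W, hW, hWd⟩ := (el_order_iff r hrp _ hf' m).mpr ⟨a', k, h1, by rw [hfr]; exact h2, h3⟩
    refine ⟨W, hWd, ?_⟩
    rw [el_inv_iff]
    intro w hw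
    have h4 := W.smul_mem c₀ (hW w hw)
    rwa [LinearMap.smul_apply, smul_smul, mul_inv_cancel₀ hc₀, one_smul] at h4
  · push Not at hpow
    have hirr : Irreducible (X ^ r - C c : F[X]) := X_pow_sub_C_irreducible_of_prime hr.out hpow
    have hmon : (X ^ r - C c : F[X]).Monic := monic_X_pow_sub_C c hr.out.ne_zero
    have hkill : aeval (Matrix.toLin' x) (X ^ r - C c : F[X]) = 0 := by
      rw [map_sub, map_pow, aeval_X, aeval_C, Algebra.algebraMap_eq_smul_one, hf, sub_self]
    have hdeg : ∀ P' : F[X], Irreducible P' → P' ∣ (X ^ r - C c : F[X]) → P'.natDegree = r := by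
      intro P' hP' hdvd
      rw [natDegree_eq_of_degree_eq (degree_eq_degree_of_associated
        (hP'.associated_of_dvd hirr hdvd)), natDegree_X_pow_sub_C]
    have hkill' : ∀ u ∈ (⊤ : Submodule F (Fin n → F)),
        aeval (Matrix.toLin' x) (X ^ r - C c : F[X]) u = 0 := by
      intro u _
      rw [hkill, LinearMap.zero_apply]
    have hinvtop : ElInv (Matrix.toLin' x) (⊤ : Submodule F (Fin n → F)) :=
      fun _ _ => Submodule.mem_top
    have hrn : r ∣ n := by
      have := el_dvd_dim (Matrix.toLin' x) ⊤ hinvtop _ hirr.ne_zero hkill' r hr.out.pos hdeg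
      rwa [finrank_top, hfr] at this
    by_cases hrm : r ∣ m
    · obtain ⟨k, hk⟩ := hrm
      obtain ⟨Y, _, hY, hYd⟩ := el_exists_dim (Matrix.toLin' x) ⊤ hinvtop _ hirr.ne_zero hkill' r
        hdeg k (by rw [finrank_top, hfr, mul_comm, ← hk]; exact hmn)
      refine ⟨Y, by rw [hYd, hk, mul_comm], ?_⟩
      rw [el_inv_iff]
      exact hY
    · exfalso
      rcases hcond with ⟨hi1, hor⟩ | ⟨hi2, _⟩
      · rw [el_ord_one_iff _ _ hq1] at hi1
        rcases hor with h | ⟨hv, h4⟩
        · exact hrm h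
        · have hd := el_det_of_irred (Matrix.toLin' x) _ hirr hmon hkill
          rw [LinearMap.det_toLin', hdet, natDegree_X_pow_sub_C, hfr] at hd
          have hcoeff : (X ^ r - C c : F[X]).coeff 0 = -c := by
            rw [coeff_sub, coeff_X_pow, coeff_C_zero, if_neg hr.out.ne_zero.symm, zero_sub]
          rw [hcoeff] at hd
          have e1 : ((-1 : F) ^ r * -c) = (-1) ^ (r + 1) * c := by ring
          rw [e1] at hd
          rcases el_nonpow_val r n hi1 hrn (by omega) c hpow hd.symm with h5 | ⟨h5, h6, h7⟩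
          · omega
          · exact h7 (h4 h5 h6)
      · have hnd : ¬ r ∣ Fintype.card F - 1 := by
          rw [← el_ord_one_iff _ _ hq1]
          omega
        have hcop : Nat.Coprime (Fintype.card F - 1) r :=
          ((Nat.Prime.coprime_iff_not_dvd hr.out).mpr hnd).symm
        obtain ⟨b, hb⟩ := el_all_pow r hr.out.ne_zero hcop c
        exact hpow b hb

theorem el_nec {F : Type*} [Field F] [Fintype F] {p : ℕ} [hp : Fact p.Prime] [CharP F p]
    (n m : ℕ) (hn : 2 ≤ n) (hmn : 2 * m ≤ n) (r : ℕ) [hr : Fact r.Prime] (hrp : r ≠ p)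
    (hrΩ : r ∣ Nat.card {W : Submodule F (Fin n → F) // Module.finrank F ↥W = m})
    (hall : ∀ x : Matrix (Fin n) (Fin n) F, x.det = 1 → (∃ c : F, x ^ r = c • 1) →
      (∀ c : F, x ≠ c • 1) →
      ∃ W : Submodule F (Fin n → F), finrank F W = m ∧ W.map (Matrix.toLin' x) ≤ W) :
    (orderOf ((Fintype.card F : ℕ) : ZMod r) = 1 ∧ (r ∣ m ∨
        (padicValNat r n ≤ padicValNat r (Fintype.card F - 1) ∧
          (r = 2 → Even n → Fintype.card F % 4 = 1)))) ∨
      (2 ≤ orderOf ((Fintype.card F : ℕ) : ZMod r) ∧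
        orderOf ((Fintype.card F : ℕ) : ZMod r) ≤ m ∧
        m % orderOf ((Fintype.card F : ℕ) : ZMod r) ≤ n % orderOf ((Fintype.card F : ℕ) : ZMod r)) := by
  have hq1 : 1 ≤ Fintype.card F := Fintype.card_pos
  have hfr : finrank F (Fin n → F) = n := Module.finrank_fin_fun F
  have hipos := el_ord_pos (F := F) r hrp
  by_cases hi : orderOf ((Fintype.card F : ℕ) : ZMod r) = 1
  · refine Or.inl ⟨hi, ?_⟩
    have hrq : r ∣ Fintype.card F - 1 := (el_ord_one_iff _ _ hq1).mp hi
    have hq0 : Fintype.card F - 1 ≠ 0 := by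
      intro h0
      rw [h0] at hrq
      have := Fintype.one_lt_card (α := F)
      omega
    by_contra hcon
    rw [not_or] at hcon
    obtain ⟨hrm, hcon2⟩ := hcon
    have hor : padicValNat r (Fintype.card F - 1) < padicValNat r n ∨
        (r = 2 ∧ Even n ∧ Fintype.card F % 4 ≠ 1) := by
      by_contra h
      rw [not_or] at h
      apply hcon2
      refine ⟨by omega, fun h2 hev => ?_⟩
      by_contra h4
      exact h.2 ⟨h2, hev, h4⟩
    have hrn : r ∣ n := by
      rcases hor with h | ⟨h2, hev, _⟩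
      · exact dvd_of_one_le_padicValNat (by omega)
      · rw [h2]
        exact even_iff_two_dvd.mp hev
    obtain ⟨c, hc, hdetc⟩ := el_exists_nonpow r n hrq hq0 hrn (by omega) hor
    have hirr : Irreducible (X ^ r - C c : F[X]) := X_pow_sub_C_irreducible_of_prime hr.out hc
    have hmon : (X ^ r - C c : F[X]).Monic := monic_X_pow_sub_C c hr.out.ne_zero
    have hev1 : (X ^ r - C c : F[X]).eval 1 ≠ 0 := by
      rw [eval_sub, eval_pow, eval_X, eval_C, one_pow]
      intro h
      exact hc 1 (by rw [one_pow]; exact (sub_eq_zero.mp h))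
    have hdeg : (X ^ r - C c : F[X]).natDegree = r := natDegree_X_pow_sub_C
    obtain ⟨x, hdet, hpow, hns, hinv⟩ := el_build (X ^ r - C c : F[X]) hirr hmon hev1 (n / r) 0 n
      (by rw [hdeg, add_zero, Nat.div_mul_cancel hrn])
    have hcoeff : (X ^ r - C c : F[X]).coeff 0 = -c := by
      rw [coeff_sub, coeff_X_pow, coeff_C_zero, if_neg hr.out.ne_zero.symm, zero_sub]
    rw [hdeg, hcoeff] at hdet
    have e1 : ((-1 : F) ^ r * -c) = (-1) ^ (r + 1) * c := by ring
    rw [e1, hdetc] at hdet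
    have hnr : 1 ≤ n / r := Nat.div_pos (Nat.le_of_dvd (by omega) hrn) hr.out.pos
    obtain ⟨W, hWd, hW⟩ := hall x hdet ⟨c, hpow r c dvd_rfl (fun h => absurd rfl h)⟩
      (hns hnr (by rw [hdeg]; exact hr.out.two_le))
    obtain ⟨a', k, ha', hk⟩ := hinv W hW
    rw [hdeg, hWd] at hk
    apply hrm
    have : a' = 0 := by omega
    rw [hk, this, zero_add]
    exact Dvd.intro_left _ rfl
  · right
    have hi2 : 2 ≤ orderOf ((Fintype.card F : ℕ) : ZMod r) := by omega
    have hnd : ¬ r ∣ Fintype.card F - 1 := by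
      rw [← el_ord_one_iff _ _ hq1]
      exact hi
    have hcop : Nat.Coprime (Fintype.card F - 1) r :=
      ((Nat.Prime.coprime_iff_not_dvd hr.out).mpr hnd).symm
    obtain ⟨j, hj, hdvd⟩ := el_count_dvd (F := F) (V := Fin n → F) m (by rw [hfr]; omega) r
      hr.out hrΩ
    rw [hfr, el_ord_dvd_iff _ _ _ hq1] at hdvd
    have hile : orderOf ((Fintype.card F : ℕ) : ZMod r) ≤ n := by
      have := Nat.le_of_dvd (by omega) hdvd
      omega
    have hnu : ¬ IsUnit (cyclotomic r F) := by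
      intro hu
      have := natDegree_eq_zero_of_isUnit hu
      rw [natDegree_cyclotomic, Nat.totient_prime hr.out] at this
      have := hr.out.two_le
      omega
    obtain ⟨P, hmon, hirr, hPdvd⟩ := exists_monic_irreducible_factor (cyclotomic r F) hnu
    have hdeg := el_cyc_deg r hrp P hirr hPdvd
    have hev1 : P.eval 1 ≠ 0 := by
      intro h
      obtain ⟨R, hR⟩ := hPdvd
      have h2 := congrArg (eval 1) hR
      rw [eval_mul, h, zero_mul, eval_one_cyclotomic_prime] at h2
      exact el_cast_ne_zero (F := F) r hrp h2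
    obtain ⟨x, hdet, hpow, hns, hinv⟩ := el_build P hirr hmon hev1
      (n / orderOf ((Fintype.card F : ℕ) : ZMod r)) (n % orderOf ((Fintype.card F : ℕ) : ZMod r)) n
      (by rw [hdeg]; exact (Nat.div_add_mod' n _).symm)
    have hPx : P ∣ X ^ r - C (1 : F) := by
      rw [C_1]
      exact dvd_trans hPdvd (cyclotomic.dvd_X_pow_sub_one r F)
    have hxr : x ^ r = (1 : F) • 1 := hpow r 1 hPx (fun _ => rfl)
    have hdet1 : x.det = 1 := by
      apply el_eq_one_of_pow r hcop _ _ hr.out.ne_zero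
      rw [← Matrix.det_pow, hxr, one_smul, Matrix.det_one]
    have hb : 1 ≤ n / orderOf ((Fintype.card F : ℕ) : ZMod r) := Nat.div_pos hile hipos
    obtain ⟨W, hWd, hW⟩ := hall x hdet1 ⟨1, hxr⟩ (hns hb (by rw [hdeg]; exact hi2))
    obtain ⟨a', k, ha', hk⟩ := hinv W hW
    rw [hdeg, hWd] at hk
    obtain ⟨h1, h2⟩ := el_arith_nec _ n m j a' k hipos hj (by omega) hdvd ha' hk
    exact ⟨hi2, h1, h2⟩

end Cfsg.Agent.Lib.Helper24
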