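import Mathlib
import Cfsg.Agent.Lib.helper15.S5972.Defs
import Cfsg.Agent.Lib.Helper24.S5972SPLIT

set_option autoImplicit false

namespace Cfsg.Agent.Lib.helper15.S5972

open Polynomial Module Cfsg.Agent.Lib.Helper13.S5955

variable {F : Type*} [Field F] {V : Type*} [AddCommGroup V] [Module F V]

theorem s5972restrict_x_mul_pow {r : ℕ} (hr : 0 < r) {x : Module.End F V} (hpow : x ^ r = 1)
    (v : V) : x ((x ^ (r - 1)) v) = v := by
  have h : x * x ^ (r - 1) = 1 := by
    rw [← pow_succ', Nat.sub_add_cancel hr, hpow]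
  have h2 := congrArg (fun f : Module.End F V => f v) h
  simpa using h2

theorem s5972restrict_pow_mul_x {r : ℕ} (hr : 0 < r) {x : Module.End F V} (hpow : x ^ r = 1)
    (v : V) : (x ^ (r - 1)) (x v) = v := by
  have h : x ^ (r - 1) * x = 1 := by
    rw [← pow_succ, Nat.sub_add_cancel hr, hpow]
  have h2 := congrArg (fun f : Module.End F V => f v) h
  simpa using h2

theorem s5972restrict_adj {r : ℕ} (hr : 0 < r) {B : LinearMap.BilinForm F V} {x : Module.End F V}
    (h : OCtx r B x) (u v : V) : B (x u) v = B u ((x ^ (r - 1)) v) := by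
  conv_lhs => rw [← s5972restrict_x_mul_pow hr h.pow v]
  rw [h.pres]

theorem s5972restrict_adj' {r : ℕ} (hr : 0 < r) {B : LinearMap.BilinForm F V}
    {x : Module.End F V} (h : OCtx r B x) (u v : V) : B ((x ^ (r - 1)) u) v = B u (x v) := by
  conv_rhs => rw [← s5972restrict_x_mul_pow hr h.pow u]
  rw [h.pres]

theorem s5972restrict_flip {r : ℕ} (hr : 0 < r) {B : LinearMap.BilinForm F V}
    {x : Module.End F V} (h : OCtx r B x) (u v : V) :
    altB B x r u v = - B (x u - (x ^ (r - 1)) u) v := by
  rw [altB_apply, map_sub, map_sub, LinearMap.sub_apply, s5972restrict_adj hr h,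
    s5972restrict_adj' hr h]
  ring

theorem s5972restrict_alt {r : ℕ} (hr : 0 < r) {B : LinearMap.BilinForm F V}
    {x : Module.End F V} (h : OCtx r B x) (v : V) : altB B x r v v = 0 := by
  rw [altB_apply, map_sub, ← s5972restrict_adj hr h, h.symm (x v) v, sub_self]

theorem s5972restrict_pres {r : ℕ} (hr : 0 < r) {B : LinearMap.BilinForm F V}
    {x : Module.End F V} (h : OCtx r B x) (u v : V) : altB B x r (x u) (x v) = altB B x r u v := by
  rw [altB_apply, altB_apply, s5972restrict_pow_mul_x hr h.pow]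
  have e : x (x v) - v = x (x v - (x ^ (r - 1)) v) := by
    rw [map_sub, s5972restrict_x_mul_pow hr h.pow]
  rw [e, h.pres]

theorem s5972restrict_aeval (x : Module.End F V) (C : Submodule F V) (hC : ∀ v ∈ C, x v ∈ C)
    (P : F[X]) (u : C) : ((aeval (x.restrict hC) P) u : V) = (aeval x P) (u : V) := by
  induction P using Polynomial.induction_on' with
  | add p q hp hq =>
    rw [map_add, map_add, LinearMap.add_apply, LinearMap.add_apply, Submodule.coe_add, hp, hq]
  | monomial n a =>
    rw [aeval_monomial, aeval_monomial, Module.End.mul_apply, Module.End.mul_apply,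
      Module.algebraMap_end_apply, Module.algebraMap_end_apply, Submodule.coe_smul,
      Module.End.pow_restrict n hC, LinearMap.coe_restrict_apply]

theorem s5972restrict_fix_of_sq {r : ℕ} (hr : 0 < r) (hodd : Odd r) {x : Module.End F V}
    (hpow : x ^ r = 1) (u : V) (hu : x u = (x ^ (r - 1)) u) : x u = u := by
  have h2 : x (x u) = u := by rw [hu, s5972restrict_x_mul_pow hr hpow]
  have hk : ∀ k : ℕ, (x ^ (2 * k)) u = u := by
    intro k
    induction k with
    | zero => rw [Nat.mul_zero, pow_zero, Module.End.one_apply]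
    | succ k ih =>
      rw [Nat.mul_succ, pow_add, Module.End.mul_apply, pow_two, Module.End.mul_apply, h2, ih]
  obtain ⟨k, hk2⟩ := hodd
  have h3 := hk (k + 1)
  have h4 : 2 * (k + 1) = r + 1 := by omega
  rw [h4, pow_succ, hpow, one_mul] at h3
  exact h3

theorem s5972restrict_apply (B : LinearMap.BilinForm F V) (W : Submodule F V) (a b : W) :
    B.restrict W a b = B (a : V) (b : V) := rfl

theorem s5972restrict_mem_cyc (r : ℕ) (x : Module.End F V) (v : V) :
    v ∈ cycS r x ↔ (aeval x (cyclotomic r F)) v = 0 := LinearMap.mem_ker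

theorem s5972restrict_cyc_inv (r : ℕ) (x : Module.End F V) : ∀ v ∈ cycS r x, x v ∈ cycS r x :=
  Cfsg.Agent.Lib.Helper24.el_inv_ker x (cyclotomic r F)

theorem o_restrict {F : Type*} [Field F] [Fintype F] {p : ℕ} [Fact p.Prime] [CharP F p]
    {V : Type*} [AddCommGroup V] [Module F V] [FiniteDimensional F V]
    {r : ℕ} [Fact r.Prime] (hrp : r ≠ p) (hr2 : r ≠ 2) {B : LinearMap.BilinForm F V}
    {x : Module.End F V} (h : OCtx r B x) :
    ∃ (x' : Module.End F ↥(cycS r x)) (A' : LinearMap.BilinForm F ↥(cycS r x)),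
      SCtx r A' x' ∧ (∀ u : ↥(cycS r x), ((x' u : ↥(cycS r x)) : V) = x (u : V)) ∧
      cycS r x' = ⊤ ∧
      (∀ W' : Submodule F ↥(cycS r x), SInv x' W' → STI A' W' →
        STI B (W'.map (cycS r x).subtype)) := by
  classical
  have hr : 0 < r := (Fact.out : r.Prime).pos
  have hodd : Odd r := (Fact.out : r.Prime).odd_of_ne_two hr2
  obtain ⟨-, hcompl, -, hcnd⟩ := o_split hrp h
  have hzero : ∀ u : V, u ∈ cycS r x → x u = (x ^ (r - 1)) u → u = 0 := by
    intro u huC hu
    have hfix : x u = u := s5972restrict_fix_of_sq hr hodd h.pow u hu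
    have hmem : u ∈ fixS x ⊓ cycS r x := ⟨(s5955t2_mem_fixS x u).mpr hfix, huC⟩
    rw [hcompl.inf_eq_bot, Submodule.mem_bot] at hmem
    exact hmem
  refine ⟨x.restrict (s5972restrict_cyc_inv r x), (altB B x r).restrict (cycS r x),
    ⟨?_, ?_, ?_, ?_⟩, ?_, ?_, ?_⟩
  · intro v
    rw [s5972restrict_apply]
    exact s5972restrict_alt hr h _
  · intro u hu
    have hz : x (u : V) - (x ^ (r - 1)) (u : V) ∈ cycS r x :=
      Submodule.sub_mem _ (s5972restrict_cyc_inv r x _ u.2)
        (Cfsg.Agent.Lib.Helper24.el_pow_mem (s5972restrict_cyc_inv r x) (r - 1) u.2)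
    have hz0 : x (u : V) - (x ^ (r - 1)) (u : V) = 0 := by
      apply hcnd _ hz
      intro v hv
      have := hu ⟨v, hv⟩
      rw [s5972restrict_apply, s5972restrict_flip hr h, neg_eq_zero] at this
      exact this
    exact Subtype.ext (hzero _ u.2 (sub_eq_zero.mp hz0))
  · intro u v
    rw [s5972restrict_apply, s5972restrict_apply, LinearMap.coe_restrict_apply,
      LinearMap.coe_restrict_apply]
    exact s5972restrict_pres hr h _ _
  · rw [Module.End.pow_restrict r (s5972restrict_cyc_inv r x)]
    ext u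
    rw [LinearMap.coe_restrict_apply, h.pow]
    rfl
  · intro u
    rw [LinearMap.coe_restrict_apply]
  · rw [eq_top_iff]
    intro u _
    rw [s5972restrict_mem_cyc]
    apply Subtype.ext
    rw [s5972restrict_aeval]
    have hu : (u : V) ∈ cycS r x := u.2
    rw [s5972restrict_mem_cyc] at hu
    rw [hu]
    rfl
  · intro W' hW'inv hW'ti
    have hinv : SInv x (W'.map (cycS r x).subtype) := by
      rintro v ⟨u, hu, rfl⟩
      exact ⟨(x.restrict (s5972restrict_cyc_inv r x)) u, hW'inv u hu, rfl⟩
    have hinvp : ∀ v ∈ W'.map (cycS r x).subtype, (x ^ (r - 1)) v ∈ W'.map (cycS r x).subtype :=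
      fun v hv => Cfsg.Agent.Lib.Helper24.el_pow_mem hinv (r - 1) hv
    let D : (W'.map (cycS r x).subtype) →ₗ[F] (W'.map (cycS r x).subtype) :=
      (x - x ^ (r - 1)).restrict (fun v hv => Submodule.sub_mem _ (hinv v hv) (hinvp v hv))
    have hDinj : Function.Injective D := by
      rw [← LinearMap.ker_eq_bot, eq_bot_iff]
      intro u hu
      rw [LinearMap.mem_ker] at hu
      have hu' : (x - x ^ (r - 1)) (u : V) = 0 := by
        have := congrArg Subtype.val hu
        simpa [D, LinearMap.coe_restrict_apply] using this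
      rw [LinearMap.sub_apply, sub_eq_zero] at hu'
      have huC : (u : V) ∈ cycS r x := Submodule.map_subtype_le (cycS r x) W' u.2
      rw [Submodule.mem_bot]
      exact Subtype.ext (hzero _ huC hu')
    have hDsurj : Function.Surjective D := LinearMap.surjective_of_injective hDinj
    intro u hu w hw
    obtain ⟨v₀, hv₀⟩ := hDsurj ⟨w, hw⟩
    have hv₀' : x (v₀ : V) - (x ^ (r - 1)) (v₀ : V) = w := by
      have := congrArg Subtype.val hv₀
      simpa [D, LinearMap.coe_restrict_apply] using this
    obtain ⟨a, ha, haeq⟩ := hu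
    obtain ⟨b, hb, hbeq⟩ := v₀.2
    have hti := hW'ti a ha b hb
    rw [s5972restrict_apply, altB_apply] at hti
    rw [← hv₀', ← haeq, ← hbeq]
    exact hti

end Cfsg.Agent.Lib.helper15.S5972
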