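import Mathlib
import Cfsg.Agent.Lib.helper15.S5972.Defs
import Cfsg.Agent.Lib.helper15.S5972STDO
import Cfsg.Agent.Lib.Helper16.OReal2

set_option autoImplicit false

namespace Cfsg.Agent.Lib.helper15.S5972

open Polynomial Module Cfsg.Agent.Lib.Helper13.S5955

theorem s5972transport_std_single {F : Type*} [Field F] (d : ℕ)
    (k l : Unit ⊕ (Fin d ⊕ Fin d)) :
    stdO d F (Pi.single k 1) (Pi.single l 1) =
      match k, l with
      | Sum.inl _, Sum.inl _ => 2
      | Sum.inr (Sum.inl i), Sum.inr (Sum.inr j) => if i = j then 1 else 0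
      | Sum.inr (Sum.inr i), Sum.inr (Sum.inl j) => if i = j then 1 else 0
      | _, _ => 0 := by
  classical
  rw [s5972stdo_formula]
  rcases k with ⟨⟩ | i | i <;> rcases l with ⟨⟩ | j | j <;>
    simp [Pi.single_apply, eq_comm]

theorem o_transport {F : Type*} [Field F] [Fintype F] (h2 : (2 : F) ≠ 0)
    {V' : Type*} [AddCommGroup V'] [Module F V'] [FiniteDimensional F V'] {r : ℕ}
    (B' : LinearMap.BilinForm F V') (x' : Module.End F V') (h : OCtx r B' x') (d : ℕ)
    (hV : finrank F V' = 2 * d + 1) :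
    ∃ (y : Module.End F (Unit ⊕ (Fin d ⊕ Fin d) → F))
      (ψ : (Unit ⊕ (Fin d ⊕ Fin d) → F) ≃ₗ[F] V') (c : F), c ≠ 0 ∧ OCtx r (stdO d F) y ∧
      (∀ u v, B' (ψ u) (ψ v) = c * stdO d F u v) ∧ (∀ u, ψ (y u) = x' (ψ u)) := by
  classical
  have hS : B'.IsSymm := ⟨h.symm⟩
  have hB : B'.Nondegenerate :=
    ⟨h.nd, fun v hv => h.nd v (fun u => by rw [h.symm]; exact hv u)⟩
  obtain ⟨e, hh, w, hee, hhh, heh, hwe, hwh, hww⟩ :=
    Cfsg.Agent.Lib.Helper16.OSemi.hyp_frame h2 d V' B' hS hB hV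
  obtain ⟨c, hc⟩ : ∃ c : F, c = B' w w * 2⁻¹ := ⟨_, rfl⟩
  have hc0 : c ≠ 0 := by
    rw [hc]
    exact mul_ne_zero hww (inv_ne_zero h2)
  have hc2 : B' w w = c * 2 := by
    rw [hc, mul_assoc, inv_mul_cancel₀ h2, mul_one]
  let col : Unit ⊕ (Fin d ⊕ Fin d) → V' :=
    Sum.elim (fun _ => w) (Sum.elim e (fun a => c • hh a))
  let Ψ : (Unit ⊕ (Fin d ⊕ Fin d) → F) →ₗ[F] V' :=
    (Pi.basisFun F (Unit ⊕ (Fin d ⊕ Fin d))).constr F col
  have hΨ : ∀ k, Ψ (Pi.single k 1) = col k := by
    intro k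
    have := (Pi.basisFun F (Unit ⊕ (Fin d ⊕ Fin d))).constr_basis F col k
    rwa [Pi.basisFun_apply] at this
  have hgram : ∀ u v, B' (Ψ u) (Ψ v) = c * stdO d F u v := by
    have heq : B'.compl₁₂ Ψ Ψ = c • stdO d F := by
      apply LinearMap.BilinForm.ext_basis (Pi.basisFun F (Unit ⊕ (Fin d ⊕ Fin d)))
      intro k l
      rw [LinearMap.compl₁₂_apply, Pi.basisFun_apply, Pi.basisFun_apply, hΨ, hΨ,
        LinearMap.smul_apply, LinearMap.smul_apply, smul_eq_mul, s5972transport_std_single]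
      rcases k with ⟨⟩ | i | i <;> rcases l with ⟨⟩ | j | j
      · show B' w w = _
        rw [hc2]
      · show B' w (e j) = _
        rw [hwe, mul_zero]
      · show B' w (c • hh j) = _
        rw [map_smul, hwh, smul_zero, mul_zero]
      · show B' (e i) w = _
        rw [h.symm, hwe, mul_zero]
      · show B' (e i) (e j) = _
        rw [hee, mul_zero]
      · show B' (e i) (c • hh j) = _
        rw [map_smul, heh, smul_eq_mul]
      · show B' (c • hh i) w = _
        rw [h.symm, map_smul, hwh, smul_zero, mul_zero]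
      · show B' (c • hh i) (e j) = c * (if i = j then 1 else 0)
        rw [h.symm, map_smul, heh, smul_eq_mul]
        by_cases hij : i = j
        · rw [if_pos hij, if_pos hij.symm]
        · rw [if_neg hij, if_neg (Ne.symm hij)]
      · show B' (c • hh i) (c • hh j) = c * 0
        rw [map_smul, h.symm, map_smul, hhh, smul_zero, smul_zero, mul_zero]
    intro u v
    have := congrArg (fun A : LinearMap.BilinForm F (Unit ⊕ (Fin d ⊕ Fin d) → F) => A u v) heq
    simpa [LinearMap.compl₁₂_apply] using this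
  obtain ⟨hsymm, hnd, -, -⟩ := stdO_facts h2 d
  have hinj : Function.Injective Ψ := by
    rw [← LinearMap.ker_eq_bot, eq_bot_iff]
    intro u hu
    rw [LinearMap.mem_ker] at hu
    rw [Submodule.mem_bot]
    apply hnd u
    intro v
    have := hgram u v
    rw [hu, map_zero, LinearMap.zero_apply] at this
    exact (mul_eq_zero.mp this.symm).resolve_left hc0
  have hdim : finrank F (Unit ⊕ (Fin d ⊕ Fin d) → F) = finrank F V' := by
    rw [hV, Module.finrank_fintype_fun_eq_card, Fintype.card_sum, Fintype.card_sum,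
      Fintype.card_unit, Fintype.card_fin]
    omega
  let ψ : (Unit ⊕ (Fin d ⊕ Fin d) → F) ≃ₗ[F] V' := LinearEquiv.ofInjectiveOfFinrankEq Ψ hinj hdim
  have hψ : ∀ u, ψ u = Ψ u := fun u => rfl
  let y : Module.End F (Unit ⊕ (Fin d ⊕ Fin d) → F) :=
    ψ.symm.toLinearMap ∘ₗ x' ∘ₗ ψ.toLinearMap
  have hy : ∀ u, ψ (y u) = x' (ψ u) := by
    intro u
    show ψ (ψ.symm (x' (ψ u))) = _
    rw [LinearEquiv.apply_symm_apply]
  have hypow : ∀ (k : ℕ) (u : Unit ⊕ (Fin d ⊕ Fin d) → F), ψ ((y ^ k) u) = (x' ^ k) (ψ u) := by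
    intro k
    induction k with
    | zero => intro u; rw [pow_zero, pow_zero, Module.End.one_apply, Module.End.one_apply]
    | succ k ih =>
      intro u
      rw [pow_succ, pow_succ, Module.End.mul_apply, Module.End.mul_apply, ih, hy]
  refine ⟨y, ψ, c, hc0, ⟨hsymm, hnd, ?_, ?_⟩, ?_, hy⟩
  · intro u v
    have h1 := hgram (y u) (y v)
    rw [← hψ, ← hψ, hy, hy, h.pres, hψ, hψ, hgram] at h1
    exact (mul_left_cancel₀ hc0 h1).symm
  · apply LinearMap.ext
    intro u
    apply ψ.injective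
    rw [hypow, h.pow, Module.End.one_apply, Module.End.one_apply]
  · intro u v
    rw [hψ, hψ]
    exact hgram u v

end Cfsg.Agent.Lib.helper15.S5972
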