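import Mathlib
import Cfsg.Prelude.Def_Blocks
import Cfsg.Agent.Lib.helper7.BlockFirstMain
import Cfsg.Agent.Lib.helper7.BlockFirstMain2

set_option autoImplicit false
set_option linter.style.haveILetI false
set_option linter.unusedSectionVars false
set_option linter.unusedVariables false

namespace Cfsg.Agent.Lib.Helper24

open scoped ComplexConjugate
open Cfsg.Agent.Lib.Helper25 Cfsg.Agent.Lib.Helper11 Cfsg.Agent.Lib.helper2 Cfsg.Agent.Lib.helper7

variable {G : Type*} [Group G]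

theorem ef_mem_centralizer [Finite G] {p : ℕ} [hp : Fact p.Prime]
    {M : Ideal Cfsg.AlgInt} (hM : Cfsg.IsPModular p M) (P H : Subgroup G) (hP : IsPGroup p P)
    (hPH : P ≤ H) (hHN : H ≤ Subgroup.normalizer (P : Set G))
    (ξ : Cfsg.IrrCharacter H) (l : H)
    (h : ¬ Cfsg.MemLocalIdeal M (Cfsg.centralChar (ξ : H → ℂ) l)) :
    (l : G) ∈ Subgroup.centralizer (P : Set G) := by
  classical
  haveI : Fintype H := Fintype.ofFinite _
  haveI : Fintype (Cfsg.IrrCharacter H) := Fintype.ofFinite _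
  by_contra hl
  apply h
  haveI : (P.subgroupOf H).Normal := (Subgroup.normal_subgroupOf_iff_le_normalizer hPH).mpr hHN
  apply h7_centralChar_mem_of_not_centralize hM (P.subgroupOf H) hP.comap_subtype ξ l
  intro hle
  apply hl
  rw [Subgroup.mem_centralizer_iff]
  intro u hu
  have h1 : (⟨u, hPH hu⟩ : H) ∈ P.subgroupOf H := Subgroup.mem_subgroupOf.mpr hu
  have h2 := Subgroup.mem_centralizer_singleton_iff.mp (hle h1)
  have h3 := congrArg (fun t : H => (t : G)) h2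
  simp only [Subgroup.coe_mul] at h3
  exact h3

theorem ef_subgroupOf_le_centralizer (P H : Subgroup G)
    (l : H) (hl : (l : G) ∈ Subgroup.centralizer (P : Set G)) :
    P.subgroupOf H ≤ Subgroup.centralizer ({l} : Set H) := by
  intro u hu
  rw [Subgroup.mem_centralizer_singleton_iff]
  apply Subtype.ext
  simp only [Subgroup.coe_mul]
  exact Subgroup.mem_centralizer_iff.mp hl (u : G) (Subgroup.mem_subgroupOf.mp hu)

theorem ef_exists [Fintype G] [Fintype (Cfsg.IrrCharacter G)] {p : ℕ}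
    [hp : Fact p.Prime] {M : Ideal Cfsg.AlgInt} (hM : Cfsg.IsPModular p M) (P H : Subgroup G)
    (hP : IsPGroup p P) (hPH : P ≤ H) (hCH : Subgroup.centralizer (P : Set G) ≤ H)
    (hHN : H ≤ Subgroup.normalizer (P : Set G))
    (B : Set (Cfsg.IrrCharacter G)) (hB : Cfsg.IsPBlock M B)
    (hD : Cfsg.IsDefectGroup p M B P) :
    ∃ b : Set (Cfsg.IrrCharacter H), Cfsg.IsPBlock M b ∧
      Cfsg.IsDefectGroup p M b (P.subgroupOf H) ∧
      Cfsg.IsInducedBlock M H b B := by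
  classical
  haveI : Fintype H := Fintype.ofFinite _
  haveI : Fintype (Cfsg.IrrCharacter H) := Fintype.ofFinite _
  have hPr := hM.2.1.isPrime
  obtain ⟨χ₀, rfl⟩ := hB
  obtain ⟨g, hg, Q, hQ⟩ := hD
  have hPC : P ≤ Subgroup.centralizer ({g} : Set G) := by
    rw [hQ]
    exact Subgroup.map_subtype_le _
  have hgC : g ∈ Subgroup.centralizer (P : Set G) := h7_mem_centralizer_of_le hPC
  have hgN : g ∈ H := hCH hgC
  have hcardP : Nat.card P = p ^ Cfsg.blockDefect p (Cfsg.blockOf M (χ₀ : G → ℂ)) := by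
    rw [hQ]
    exact Cfsg.Agent.S0908.defect_card p M hM χ₀ g hg Q
  set e : Cfsg.IrrCharacter G → ℂ :=
    fun χ => if χ ∈ Cfsg.blockOf M (χ₀ : G → ℂ) then (1 : ℂ) else 0 with he
  have heS : e ∈ h7_intSubring (G := G) M hPr := h7_block_indicator_mem hPr χ₀
  have hee : e * e = e := by
    funext χ
    rw [Pi.mul_apply, he]
    by_cases h : χ ∈ Cfsg.blockOf M (χ₀ : G → ℂ)
    · simp only [if_pos h, mul_one]
    · simp only [if_neg h, mul_zero]
  obtain ⟨ψ, hψ⟩ : ∃ ψ : Cfsg.IrrCharacter H,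
      ¬ Cfsg.MemLocalIdeal M (h7_brEval P H (ψ : H → ℂ) e) := by
    by_contra hall
    push Not at hall
    have h1 := h7_brFun_idem_zero P H hM hP hCH hHN e heS hee hall ⟨g, hgN⟩
    rw [h7_brFun_of_mem _ _ _ _ hgC, he, h7_coef_indicator] at h1
    exact hg.2.1 h1
  obtain ⟨χψ, hχψ⟩ := h7_brauer_hom_block P H hM hP hCH hHN ψ
  have h1 := hχψ e heS
  have hχψB : χψ ∈ Cfsg.blockOf M (χ₀ : G → ℂ) := by
    by_contra hne
    have h0 : e χψ = 0 := if_neg hne
    rw [h0, sub_zero] at h1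
    exact hψ h1
  have hBeq := h7_blockOf_eq_of_mem hPr χ₀ χψ hχψB
  have hind := h7_brauer_induced P H hM hP hPH hHN ψ χψ hχψ
  rw [← hBeq] at hind
  refine ⟨Cfsg.blockOf M (ψ : H → ℂ), ⟨ψ, rfl⟩, ?_, hind⟩
  obtain ⟨l, hl⟩ := Cfsg.Agent.S0906.result p M hM (Cfsg.blockOf M (ψ : H → ℂ)) ⟨ψ, rfl⟩
  obtain ⟨Q''⟩ : Nonempty (Sylow p (Subgroup.centralizer ({l} : Set H))) := inferInstance
  have hψb : ψ ∈ Cfsg.blockOf M (ψ : H → ℂ) := h7_sameBlock_refl hPr _
  have hχ₀B : χ₀ ∈ Cfsg.blockOf M (χ₀ : G → ℂ) := h7_sameBlock_refl hPr _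
  have hlC : (l : G) ∈ Subgroup.centralizer (P : Set G) :=
    ef_mem_centralizer hM P H hP hPH hHN ψ l (hl.2.2 ψ hψb)
  have hPl := ef_subgroupOf_le_centralizer P H l hlC
  apply h7_isDefectGroup_of_card p M _ l hl _ hPl
  obtain ⟨E, hE, hle⟩ := h7_induced_defect_le hM H ψ χ₀
    (fun g => hind.2.2 ψ hψb χ₀ hχ₀B g)
    ((Q'' : Subgroup (Subgroup.centralizer ({l} : Set H))).map
      (Subgroup.centralizer ({l} : Set H)).subtype)
    ⟨l, hl, Q'', rfl⟩
  obtain ⟨gE, hgE, QE, hQE⟩ := hE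
  have c1 := Cfsg.Agent.S0908.defect_card p M hM χ₀ gE hgE QE
  have hEP : Nat.card E = Nat.card P := by
    rw [hQE, c1, hcardP]
  have h2 := Subgroup.card_le_of_le hle
  rw [Subgroup.card_map_of_injective (Subgroup.subtype_injective _), h7_card_defect_sylow,
    hEP] at h2
  have h3 := Cfsg.Agent.S0916.pgroup_card_dvd p (P.subgroupOf H)
    (Subgroup.centralizer ({l} : Set H)) hP.comap_subtype hPl
  rw [h7_card_subgroupOf hPH] at h3 ⊢
  exact le_antisymm (Nat.le_of_dvd (pow_pos hp.out.pos _) h3) h2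

end Cfsg.Agent.Lib.Helper24
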