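import Mathlib
import Cfsg.Prelude.Def_Blocks
import Cfsg.Agent.Lib.helper2.CharNat
import Cfsg.Agent.Lib.Helper25.CharLinear
import Cfsg.Agent.Lib.Helper25.CharAbelian

set_option autoImplicit false
set_option linter.style.haveILetI false

namespace Cfsg.Agent.Lib.Helper24

open Polynomial
open Cfsg.Agent.Lib.Helper25 Cfsg.Agent.Lib.helper2

theorem gn_isIntegral_aeval {L : Type*} [CommRing L] [Algebra ℤ L] (μ : L) (hμ : IsIntegral ℤ μ) (f : ℤ[X]) :
    IsIntegral ℤ (aeval μ f) := by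
  have h := Subalgebra.aeval_coe (integralClosure ℤ L) ⟨μ, hμ⟩ f
  have h2 : aeval μ f = ((aeval (⟨μ, hμ⟩ : integralClosure ℤ L) f : integralClosure ℤ L) : L) := h
  rw [h2]
  exact (aeval (⟨μ, hμ⟩ : integralClosure ℤ L) f).2

theorem gn_prod_aux (n : ℕ) (hn : 0 < n) (L : Type) [Field L] [Algebra ℚ L]
    [IsCyclotomicExtension {n} ℚ L] (f : ℤ[X]) (ζ : ℂ) (hζ : IsPrimitiveRoot ζ n)
    (hf : aeval ζ f ≠ 0) :
    ∃ y : ℤ, y ≠ 0 ∧ ∏ ξ : primitiveRoots n ℂ, aeval (ξ : ℂ) f = (y : ℂ) := by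
  haveI : NeZero n := ⟨hn.ne'⟩
  have hirr : Irreducible (cyclotomic n ℚ) := cyclotomic.irreducible_rat hn
  have hμ : IsPrimitiveRoot (IsCyclotomicExtension.zeta n ℚ L) n :=
    IsCyclotomicExtension.zeta_spec n ℚ L
  set μ := IsCyclotomicExtension.zeta n ℚ L with hμdef
  set x : L := aeval μ f with hx
  haveI := IsCyclotomicExtension.finiteDimensional {n} ℚ L
  haveI := IsCyclotomicExtension.isGalois {n} ℚ L
  have hσ : ∀ σ : L →ₐ[ℚ] ℂ, σ x = aeval (σ μ) f := by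
    intro σ
    rw [hx]
    have := Polynomial.aeval_algHom_apply (σ.restrictScalars ℤ) μ f
    exact this.symm
  have hprod : algebraMap ℚ ℂ (Algebra.norm ℚ x) = ∏ ξ : primitiveRoots n ℂ, aeval (ξ : ℂ) f := by
    rw [Algebra.norm_eq_prod_embeddings]
    refine Fintype.prod_equiv (hμ.embeddingsEquivPrimitiveRoots ℂ hirr) _ _ fun σ => ?_
    rw [IsPrimitiveRoot.embeddingsEquivPrimitiveRoots_apply_coe]
    exact hσ σ
  have hint : IsIntegral ℤ x := gn_isIntegral_aeval μ (hμ.isIntegral hn) f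
  have hnint : IsIntegral ℤ (Algebra.norm ℚ x) := Algebra.isIntegral_norm ℚ hint
  obtain ⟨y, hy⟩ := IsIntegrallyClosed.isIntegral_iff.mp hnint
  refine ⟨y, ?_, ?_⟩
  · rintro rfl
    rw [map_zero] at hy
    have hx0 : x = 0 := Algebra.norm_eq_zero_iff.mp hy.symm
    have hζmem : ζ ∈ primitiveRoots n ℂ := (mem_primitiveRoots hn).mpr hζ
    set σ₀ := (hμ.embeddingsEquivPrimitiveRoots ℂ hirr).symm ⟨ζ, hζmem⟩ with hσ₀
    have h1 : σ₀ μ = ζ := by
      have := IsPrimitiveRoot.embeddingsEquivPrimitiveRoots_apply_coe hμ ℂ hirr σ₀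
      rw [hσ₀, Equiv.apply_symm_apply] at this
      exact this.symm
    apply hf
    rw [← h1, ← hσ σ₀, hx0, map_zero]
  · rw [← hprod, ← hy]
    simp

theorem gn_prod_primitiveRoots (n : ℕ) (hn : 0 < n) (f : ℤ[X]) (ζ : ℂ) (hζ : IsPrimitiveRoot ζ n)
    (hf : aeval ζ f ≠ 0) :
    ∃ y : ℤ, y ≠ 0 ∧ ∏ ξ : primitiveRoots n ℂ, aeval (ξ : ℂ) f = (y : ℂ) := by
  haveI : NeZero n := ⟨hn.ne'⟩
  haveI : IsCyclotomicExtension {n} ℚ (CyclotomicField n ℚ) :=
    CyclotomicField.isCyclotomicExtension n ℚ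
  exact gn_prod_aux n hn (CyclotomicField n ℚ) f ζ hζ hf

theorem gn_prod_range (n : ℕ) (hn : 0 < n) (f : ℤ[X]) (ζ : ℂ) (hζ : IsPrimitiveRoot ζ n)
    (hf : aeval ζ f ≠ 0) :
    ∃ y : ℤ, y ≠ 0 ∧
      ∏ k ∈ (Finset.range n).filter (Nat.Coprime n), aeval (ζ ^ k) f = (y : ℂ) := by
  haveI : NeZero n := ⟨hn.ne'⟩
  obtain ⟨y, hy0, hy⟩ := gn_prod_primitiveRoots n hn f ζ hζ hf
  refine ⟨y, hy0, ?_⟩
  rw [← hy, Finset.prod_coe_sort (primitiveRoots n ℂ) (fun ξ => aeval (ξ : ℂ) f)]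
  refine Finset.prod_bij (fun i _ ↦ ζ ^ i) ?_ ?_ ?_ ?_
  · simp only [and_imp, Finset.mem_filter, Finset.mem_range]
    rintro i - hi
    rw [mem_primitiveRoots hn]
    exact hζ.pow_of_coprime i hi.symm
  · simp only [and_imp, Finset.mem_filter, Finset.mem_range]
    rintro i hi - j hj - H
    exact hζ.pow_inj hi hj H
  · simp only [exists_prop, Finset.mem_filter, Finset.mem_range]
    intro ξ hξ
    rw [mem_primitiveRoots hn, hζ.isPrimitiveRoot_iff] at hξ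
    rcases hξ with ⟨i, hin, hi, H⟩
    exact ⟨i, ⟨hin, hi.symm⟩, H⟩
  · intro i _
    rfl

theorem gn_sum_ge_of_prod_ge {ι : Type*} (s : Finset ι) (x : ι → ℝ) (hpos : ∀ i ∈ s, 0 < x i)
    (hprod : 1 ≤ ∏ i ∈ s, x i) : (s.card : ℝ) ≤ ∑ i ∈ s, x i := by
  have h1 : ∑ i ∈ s, Real.log (x i) ≤ ∑ i ∈ s, (x i - 1) :=
    Finset.sum_le_sum fun i hi => Real.log_le_sub_one_of_pos (hpos i hi)
  rw [← Real.log_prod (fun i hi => (hpos i hi).ne')] at h1
  have h2 : 0 ≤ Real.log (∏ i ∈ s, x i) := Real.log_nonneg hprod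
  rw [Finset.sum_sub_distrib, Finset.sum_const, nsmul_eq_mul, mul_one] at h1
  linarith

theorem gn_sum_sq (n : ℕ) (hn : 0 < n) (f : ℤ[X]) (ζ : ℂ) (hζ : IsPrimitiveRoot ζ n)
    (hf : aeval ζ f ≠ 0) :
    (((Finset.range n).filter (Nat.Coprime n)).card : ℝ) ≤
      ∑ k ∈ (Finset.range n).filter (Nat.Coprime n), ‖aeval (ζ ^ k) f‖ ^ 2 := by
  obtain ⟨y, hy0, hy⟩ := gn_prod_range n hn f ζ hζ hf
  have hne : ∀ k ∈ (Finset.range n).filter (Nat.Coprime n), aeval (ζ ^ k) f ≠ 0 := by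
    intro k hk h0
    apply hy0
    have : (y : ℂ) = 0 := by
      rw [← hy]
      exact Finset.prod_eq_zero hk h0
    exact_mod_cast this
  apply gn_sum_ge_of_prod_ge
  · intro k hk
    have := norm_pos_iff.mpr (hne k hk)
    positivity
  · rw [Finset.prod_pow, ← norm_prod, hy]
    have h1 : (1 : ℝ) ≤ ‖(y : ℂ)‖ := by
      rw [Complex.norm_intCast]
      have : (1 : ℤ) ≤ |y| := Int.one_le_abs hy0
      exact_mod_cast this
    nlinarith

theorem gn_irr_one_of_isMulCommutative {G : Type*} [Group G] [IsMulCommutative G]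
    (μ : Cfsg.IrrCharacter G) : (μ : G → ℂ) 1 = 1 := by
  obtain ⟨m, τ, hτ, hμ⟩ := μ.2
  haveI := hτ
  rw [← hμ, Representation.char_one]
  have := Representation.IsIrreducible.finrank_eq_one_of_isMulCommutative τ
  rw [this]
  simp

theorem gn_irr_linear_pow {G : Type*} [Group G] (μ : Cfsg.IrrCharacter G)
    (h1 : (μ : G → ℂ) 1 = 1) (g : G) (k : ℕ) : (μ : G → ℂ) (g ^ k) = ((μ : G → ℂ) g) ^ k := by
  induction k with
  | zero => rw [pow_zero, pow_zero, h1]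
  | succ k ih => rw [pow_succ, pow_succ, irr_linear_mul μ h1, ih]

theorem gn_char_pow_expansion {G : Type*} [Group G] [Finite G] {ψ : G → ℂ}
    (hψ : Cfsg.IsCharacter G ψ) (g : G) :
    ∃ (s : Finset ℂ) (c : ℂ → ℕ), (∀ z ∈ s, z ^ Nat.card G = 1) ∧
      ∀ k : ℕ, ψ (g ^ k) = ∑ z ∈ s, (c z : ℂ) * z ^ k := by
  classical
  set C := Subgroup.zpowers g with hC
  haveI : Fintype C := Fintype.ofFinite _
  haveI : Fintype (Cfsg.IrrCharacter C) := Fintype.ofFinite _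
  have hres := isCharacter_restrict hψ C
  obtain ⟨m, -, hm⟩ := isCharacter_expansion hres
  let gC : C := ⟨g, Subgroup.mem_zpowers g⟩
  have hz : ∀ μ : Cfsg.IrrCharacter C, ((μ : C → ℂ) gC) ^ Nat.card G = 1 := by
    intro μ
    have h1 := gn_irr_one_of_isMulCommutative μ
    rw [← gn_irr_linear_pow μ h1]
    have : gC ^ Nat.card G = 1 := by
      apply Subtype.ext
      push_cast
      exact pow_card_eq_one'
    rw [this, h1]
  have hk : ∀ k : ℕ, ψ (g ^ k) = ∑ μ : Cfsg.IrrCharacter C, (m μ : ℂ) * ((μ : C → ℂ) gC) ^ k := by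
    intro k
    have := congrFun hm (gC ^ k)
    simp only [Finset.sum_apply, Pi.smul_apply, smul_eq_mul] at this
    have h2 : ((gC ^ k : C) : G) = g ^ k := by push_cast; rfl
    rw [h2] at this
    rw [this]
    apply Finset.sum_congr rfl
    intro μ _
    rw [gn_irr_linear_pow μ (gn_irr_one_of_isMulCommutative μ)]
  refine ⟨Finset.univ.image (fun μ : Cfsg.IrrCharacter C => (μ : C → ℂ) gC),
    fun z => ∑ μ ∈ Finset.univ.filter (fun μ : Cfsg.IrrCharacter C => (μ : C → ℂ) gC = z), m μ, ?_, ?_⟩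
  · intro z hzs
    obtain ⟨μ, -, rfl⟩ := Finset.mem_image.mp hzs
    exact hz μ
  · intro k
    rw [hk k]
    rw [← Finset.sum_fiberwise_of_maps_to (s := Finset.univ)
      (t := Finset.univ.image (fun μ : Cfsg.IrrCharacter C => (μ : C → ℂ) gC))
      (g := fun μ : Cfsg.IrrCharacter C => (μ : C → ℂ) gC)
      (fun μ _ => Finset.mem_image_of_mem _ (Finset.mem_univ μ))]
    apply Finset.sum_congr rfl
    intro z _
    push_cast
    rw [Finset.sum_mul]
    apply Finset.sum_congr rfl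
    intro μ hμ
    rw [(Finset.mem_filter.mp hμ).2]


theorem gn_char_poly {G : Type*} [Group G] [Finite G] {ψ : G → ℂ}
    (hψ : Cfsg.IsCharacter G ψ) (g : G) (ζ : ℂ) (hζ : IsPrimitiveRoot ζ (Nat.card G)) :
    ∃ f : ℤ[X], ∀ k : ℕ, aeval (ζ ^ k) f = ψ (g ^ k) := by
  classical
  set n := Nat.card G with hn
  have hnpos : 0 < n := Nat.card_pos
  haveI : NeZero n := ⟨hnpos.ne'⟩
  obtain ⟨s, c, hs, hk⟩ := gn_char_pow_expansion hψ g
  have ha : ∀ z ∈ s, ∃ a : ℕ, ζ ^ a = z := by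
    intro z hz
    obtain ⟨a, -, ha⟩ := hζ.eq_pow_of_pow_eq_one (hs z hz)
    exact ⟨a, ha⟩
  choose! a ha using ha
  refine ⟨∑ z ∈ s, C (c z : ℤ) * X ^ (a z), ?_⟩
  intro k
  rw [hk k, map_sum]
  apply Finset.sum_congr rfl
  intro z hz
  rw [map_mul, map_pow, aeval_X, aeval_C, ← pow_mul, mul_comm k, pow_mul, ha z hz]
  simp

theorem gn_char_sum_sq {G : Type*} [Group G] [Finite G] {ψ : G → ℂ}
    (hψ : Cfsg.IsCharacter G ψ) (g : G) (hg : ψ g ≠ 0) :
    (((Finset.range (Nat.card G)).filter (Nat.Coprime (Nat.card G))).card : ℝ) ≤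
      ∑ k ∈ (Finset.range (Nat.card G)).filter (Nat.Coprime (Nat.card G)), ‖ψ (g ^ k)‖ ^ 2 := by
  classical
  set n := Nat.card G with hn
  have hnpos : 0 < n := Nat.card_pos
  set ζ : ℂ := Complex.exp (2 * Real.pi * Complex.I / n) with hζdef
  have hζ : IsPrimitiveRoot ζ n := Complex.isPrimitiveRoot_exp n hnpos.ne'
  obtain ⟨f, hev⟩ := gn_char_poly hψ g ζ hζ
  have hf1 : aeval ζ f ≠ 0 := by
    have := hev 1
    rw [pow_one, pow_one] at this
    rw [this]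
    exact hg
  have := gn_sum_sq n hnpos f ζ hζ hf1
  refine le_trans this (le_of_eq ?_)
  apply Finset.sum_congr rfl
  intro k _
  rw [hev k]

theorem gn_char_pow_ne_zero {G : Type*} [Group G] [Finite G] {ψ : G → ℂ}
    (hψ : Cfsg.IsCharacter G ψ) (g : G) (hg : ψ g ≠ 0) (k : ℕ)
    (hk : (Nat.card G).Coprime k) : ψ (g ^ k) ≠ 0 := by
  classical
  set n := Nat.card G with hn
  have hnpos : 0 < n := Nat.card_pos
  set ζ : ℂ := Complex.exp (2 * Real.pi * Complex.I / n) with hζdef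
  have hζ : IsPrimitiveRoot ζ n := Complex.isPrimitiveRoot_exp n hnpos.ne'
  obtain ⟨f, hev⟩ := gn_char_poly hψ g ζ hζ
  have hf1 : aeval ζ f ≠ 0 := by
    have := hev 1
    rw [pow_one, pow_one] at this
    rw [this]
    exact hg
  obtain ⟨y, hy0, hy⟩ := gn_prod_range n hnpos f ζ hζ hf1
  have hmem : k % n ∈ (Finset.range n).filter (Nat.Coprime n) := by
    rw [Finset.mem_filter, Finset.mem_range]
    refine ⟨Nat.mod_lt _ hnpos, ?_⟩
    have h1 : Nat.gcd n (k % n) = Nat.gcd n k := by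
      rw [Nat.gcd_comm n (k % n), Nat.gcd_comm n k, ← Nat.gcd_rec, Nat.gcd_comm]
    exact h1.trans hk
  have hpow : g ^ k = g ^ (k % n) := by
    rw [hn, pow_mod_natCard]
  rw [hpow, ← hev]
  intro h0
  apply hy0
  have : (y : ℂ) = 0 := by
    rw [← hy]
    exact Finset.prod_eq_zero hmem h0
  exact_mod_cast this

theorem gn_avg {G : Type*} [Group G] [Finite G] {ψ : G → ℂ}
    (hψ : Cfsg.IsCharacter G ψ) (R : Finset G) (hR0 : ∀ g ∈ R, ψ g ≠ 0)
    (hRpow : ∀ g ∈ R, ∀ k : ℕ, (Nat.card G).Coprime k → g ^ k ∈ R) :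
    (R.card : ℝ) ≤ ∑ g ∈ R, ‖ψ g‖ ^ 2 := by
  classical
  set n := Nat.card G with hn
  have hnpos : 0 < n := Nat.card_pos
  set K := (Finset.range n).filter (Nat.Coprime n) with hK
  have hKpos : 0 < K.card := by
    rw [hK, ← Nat.totient_eq_card_coprime]
    exact Nat.totient_pos.mpr hnpos
  have hperm : ∀ k ∈ K, ∑ g ∈ R, ‖ψ (g ^ k)‖ ^ 2 = ∑ g ∈ R, ‖ψ g‖ ^ 2 := by
    intro k hk
    have hcop : (Nat.card G).Coprime k := (Finset.mem_filter.mp hk).2
    have hinj : Function.Injective (fun g : G => g ^ k) := (powCoprime hcop).injective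
    have himg : R.image (fun g : G => g ^ k) = R := by
      apply Finset.eq_of_subset_of_card_le
      · intro x hx
        obtain ⟨g, hg, rfl⟩ := Finset.mem_image.mp hx
        exact hRpow g hg k hcop
      · rw [Finset.card_image_of_injective _ hinj]
    conv_rhs => rw [← himg]
    rw [Finset.sum_image (fun a _ b _ h => hinj h)]
  have h1 : (K.card : ℝ) * ∑ g ∈ R, ‖ψ g‖ ^ 2 = ∑ g ∈ R, ∑ k ∈ K, ‖ψ (g ^ k)‖ ^ 2 := by
    rw [Finset.sum_comm, ← nsmul_eq_mul, ← Finset.sum_const]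
    exact Finset.sum_congr rfl fun k hk => (hperm k hk).symm
  have h2 : (R.card : ℝ) * (K.card : ℝ) ≤ ∑ g ∈ R, ∑ k ∈ K, ‖ψ (g ^ k)‖ ^ 2 := by
    rw [← nsmul_eq_mul, ← Finset.sum_const]
    apply Finset.sum_le_sum
    intro g hg
    exact gn_char_sum_sq hψ g (hR0 g hg)
  rw [← h1] at h2
  have hKR : (0 : ℝ) < (K.card : ℝ) := by exact_mod_cast hKpos
  have h3 : (K.card : ℝ) * (R.card : ℝ) ≤ (K.card : ℝ) * ∑ g ∈ R, ‖ψ g‖ ^ 2 := by
    rw [mul_comm]; exact h2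
  exact le_of_mul_le_mul_left h3 hKR

end Cfsg.Agent.Lib.Helper24
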