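import Mathlib
import Cfsg.Agent.Lib.Helper25.CharBasic

set_option autoImplicit false

namespace Cfsg.Agent.Lib.Helper24

open Matrix

variable {G : Type*} [Group G] {n : ℕ}

noncomputable def fsX (ρ : Representation ℂ G (Fin n → ℂ)) (g : G) : Matrix (Fin n) (Fin n) ℂ :=
  LinearMap.toMatrix' (ρ g)

theorem fsX_mul (ρ : Representation ℂ G (Fin n → ℂ)) (g h : G) : fsX ρ (g * h) = fsX ρ g * fsX ρ h := by
  unfold fsX
  rw [map_mul, Module.End.mul_eq_comp, LinearMap.toMatrix'_comp]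

theorem fsX_one (ρ : Representation ℂ G (Fin n → ℂ)) : fsX ρ 1 = 1 := by
  unfold fsX
  rw [map_one, Module.End.one_eq_id, LinearMap.toMatrix'_id]

theorem fsX_mul_inv (ρ : Representation ℂ G (Fin n → ℂ)) (g : G) : fsX ρ g * fsX ρ g⁻¹ = 1 := by
  rw [← fsX_mul, mul_inv_cancel, fsX_one]

theorem fsX_inv_mul (ρ : Representation ℂ G (Fin n → ℂ)) (g : G) : fsX ρ g⁻¹ * fsX ρ g = 1 := by
  rw [← fsX_mul, inv_mul_cancel, fsX_one]

theorem fs_char (ρ : Representation ℂ G (Fin n → ℂ)) (g : G) : ρ.character g = (fsX ρ g).trace := by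
  unfold fsX
  rw [Representation.character, LinearMap.trace_eq_matrix_trace ℂ (Pi.basisFun ℂ (Fin n)),
    LinearMap.toMatrix_eq_toMatrix']

theorem fs_toLin (ρ : Representation ℂ G (Fin n → ℂ)) (g : G) : Matrix.toLin' (fsX ρ g) = ρ g := by
  unfold fsX
  rw [Matrix.toLin'_toMatrix']

theorem fs_schur (ρ : Representation ℂ G (Fin n → ℂ)) [ρ.IsIrreducible] (T : Matrix (Fin n) (Fin n) ℂ)
    (hT : ∀ g, T * fsX ρ g = fsX ρ g * T) : ∃ c : ℂ, T = c • (1 : Matrix (Fin n) (Fin n) ℂ) := by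
  have h : ∀ g : G, Matrix.toLin' T ∘ₗ ρ g = ρ g ∘ₗ Matrix.toLin' T := by
    intro g
    rw [← fs_toLin ρ g, ← Matrix.toLin'_mul, ← Matrix.toLin'_mul, hT g]
  obtain ⟨c, hc⟩ := Cfsg.Agent.Lib.Helper25.commuting_end_scalar ρ (Matrix.toLin' T) h
  refine ⟨c, ?_⟩
  have := congrArg LinearMap.toMatrix' hc
  rw [LinearMap.toMatrix'_toLin', map_smul, LinearMap.toMatrix'_id] at this
  exact this

theorem fs_n_ne_zero (ρ : Representation ℂ G (Fin n → ℂ)) [ρ.IsIrreducible] : n ≠ 0 := by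
  have := Cfsg.Agent.Lib.Helper25.finrank_ne_zero_of_irr ρ
  rwa [Module.finrank_fin_fun] at this

theorem fs_orth [Fintype G] (ρ : Representation ℂ G (Fin n → ℂ)) [ρ.IsIrreducible]
    (A : Matrix (Fin n) (Fin n) ℂ) :
    ∑ s : G, fsX ρ s * A * fsX ρ s⁻¹ =
      ((Fintype.card G : ℂ) * A.trace / (n : ℂ)) • (1 : Matrix (Fin n) (Fin n) ℂ) := by
  set T : Matrix (Fin n) (Fin n) ℂ := ∑ s : G, fsX ρ s * A * fsX ρ s⁻¹ with hT
  have hcomm : ∀ h : G, T * fsX ρ h = fsX ρ h * T := by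
    intro h
    rw [hT, Finset.sum_mul, Finset.mul_sum]
    rw [← Equiv.sum_comp (Equiv.mulLeft h) (fun s => fsX ρ s * A * fsX ρ s⁻¹ * fsX ρ h)]
    apply Finset.sum_congr rfl
    intro s _
    rw [Equiv.coe_mulLeft]
    have e1 : fsX ρ (h * s)⁻¹ * fsX ρ h = fsX ρ s⁻¹ := by
      rw [← fsX_mul]
      congr 1
      group
    rw [Matrix.mul_assoc _ (fsX ρ (h * s)⁻¹), e1, fsX_mul, Matrix.mul_assoc, Matrix.mul_assoc,
      Matrix.mul_assoc]
  obtain ⟨c, hc⟩ := fs_schur ρ T hcomm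
  have hn : (n : ℂ) ≠ 0 := Nat.cast_ne_zero.mpr (fs_n_ne_zero ρ)
  have htr1 : T.trace = c * n := by
    rw [hc, Matrix.trace_smul, Matrix.trace_one, Fintype.card_fin, smul_eq_mul]
  have htr2 : T.trace = (Fintype.card G : ℂ) * A.trace := by
    rw [hT, Matrix.trace_sum]
    have : ∀ s : G, (fsX ρ s * A * fsX ρ s⁻¹).trace = A.trace := by
      intro s
      rw [Matrix.trace_mul_cycle, fsX_inv_mul, Matrix.one_mul]
    simp only [this, Finset.sum_const, Finset.card_univ, nsmul_eq_mul]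
  rw [hc]
  congr 1
  rw [eq_div_iff hn, ← htr1, htr2]

theorem fs_mul_single_mul (X Y : Matrix (Fin n) (Fin n) ℂ) (i j k l : Fin n) :
    (X * Matrix.single j k (1 : ℂ) * Y) i l = X i j * Y k l := by
  rw [Matrix.mul_apply]
  rw [Finset.sum_eq_single k]
  · rw [Matrix.mul_single_apply_same, mul_one]
  · intro b _ hb
    rw [Matrix.mul_single_apply_of_ne (1 : ℂ) j k i b hb X, zero_mul]
  · intro h
    exact absurd (Finset.mem_univ k) h

theorem fs_orth_entry [Fintype G] (ρ : Representation ℂ G (Fin n → ℂ)) [ρ.IsIrreducible]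
    (i j k l : Fin n) :
    ∑ s : G, fsX ρ s i j * fsX ρ s⁻¹ k l =
      if j = k ∧ i = l then (Fintype.card G : ℂ) / (n : ℂ) else 0 := by
  have h := congrFun (congrFun (fs_orth ρ (Matrix.single j k (1 : ℂ))) i) l
  rw [Matrix.sum_apply] at h
  simp only [fs_mul_single_mul] at h
  rw [h, Matrix.smul_apply, Matrix.one_apply, smul_eq_mul]
  by_cases hjk : j = k
  · subst hjk
    rw [Matrix.trace_single_eq_same, mul_one]
    by_cases hil : i = l
    · simp [hil]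
    · simp [hil]
  · rw [Matrix.trace_single_eq_of_ne _ _ _ hjk]
    simp [hjk]

theorem fs_avg_invariant [Fintype G] (ρ : Representation ℂ G (Fin n → ℂ))
    (A : Matrix (Fin n) (Fin n) ℂ) (h : G) :
    (fsX ρ h)ᵀ * (∑ g : G, (fsX ρ g)ᵀ * A * fsX ρ g) * fsX ρ h = ∑ g : G, (fsX ρ g)ᵀ * A * fsX ρ g := by
  rw [Finset.mul_sum, Finset.sum_mul]
  rw [← Equiv.sum_comp (Equiv.mulRight h) (fun g => (fsX ρ g)ᵀ * A * fsX ρ g)]
  apply Finset.sum_congr rfl
  intro g _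
  rw [Equiv.coe_mulRight, fsX_mul, Matrix.transpose_mul]
  simp only [Matrix.mul_assoc]

theorem fs_exists [Fintype G] (ρ : Representation ℂ G (Fin n → ℂ)) [ρ.IsIrreducible]
    (hreal : ∀ g : G, (ρ.character g).im = 0) :
    ∃ M : Matrix (Fin n) (Fin n) ℂ, M ≠ 0 ∧ ∀ g : G, (fsX ρ g)ᵀ * M * fsX ρ g = M := by
  by_contra hcon
  have hzero : ∀ A : Matrix (Fin n) (Fin n) ℂ, ∑ g : G, (fsX ρ g)ᵀ * A * fsX ρ g = 0 := by
    intro A
    by_contra hne
    exact hcon ⟨_, hne, fs_avg_invariant ρ A⟩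
  have hentry : ∀ i j : Fin n, ∑ g : G, fsX ρ g i i * fsX ρ g j j = 0 := by
    intro i j
    have h := congrFun (congrFun (hzero (Matrix.single i j (1 : ℂ))) i) j
    rw [Matrix.sum_apply] at h
    simp only [fs_mul_single_mul, Matrix.transpose_apply, Matrix.zero_apply] at h
    exact h
  have hsq : ∑ g : G, (ρ.character g) ^ 2 = 0 := by
    have : ∀ g : G, (ρ.character g) ^ 2 = ∑ i : Fin n, ∑ j : Fin n, fsX ρ g i i * fsX ρ g j j := by
      intro g
      rw [fs_char, Matrix.trace, pow_two, Finset.sum_mul_sum]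
      rfl
    simp only [this]
    rw [Finset.sum_comm]
    apply Finset.sum_eq_zero
    intro i _
    rw [Finset.sum_comm]
    apply Finset.sum_eq_zero
    intro j _
    exact hentry i j
  have hre : ∀ g : G, ρ.character g = ((ρ.character g).re : ℂ) := by
    intro g
    apply Complex.ext
    · simp
    · simp [hreal g]
  have hsq' : ∑ g : G, ((ρ.character g).re) ^ 2 = 0 := by
    have h1 : ((∑ g : G, ((ρ.character g).re) ^ 2 : ℝ) : ℂ) = 0 := by
      rw [← hsq]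
      push_cast
      apply Finset.sum_congr rfl
      intro g _
      rw [← hre g]
    exact_mod_cast h1
  have hall := (Finset.sum_eq_zero_iff_of_nonneg (fun g _ => sq_nonneg ((ρ.character g).re))).mp hsq'
  have h1 := hall 1 (Finset.mem_univ 1)
  rw [Representation.char_one, Module.finrank_fin_fun] at h1
  have hn := fs_n_ne_zero ρ
  simp at h1
  exact hn h1

theorem fs_intertwine (ρ : Representation ℂ G (Fin n → ℂ)) (M : Matrix (Fin n) (Fin n) ℂ)
    (hM : ∀ g : G, (fsX ρ g)ᵀ * M * fsX ρ g = M) (g : G) :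
    M * fsX ρ g = (fsX ρ g⁻¹)ᵀ * M := by
  have h1 : (fsX ρ g⁻¹)ᵀ * (fsX ρ g)ᵀ = 1 := by
    rw [← Matrix.transpose_mul, fsX_mul_inv, Matrix.transpose_one]
  calc M * fsX ρ g = ((fsX ρ g⁻¹)ᵀ * (fsX ρ g)ᵀ) * (M * fsX ρ g) := by rw [h1, Matrix.one_mul]
    _ = (fsX ρ g⁻¹)ᵀ * ((fsX ρ g)ᵀ * M * fsX ρ g) := by simp only [Matrix.mul_assoc]
    _ = (fsX ρ g⁻¹)ᵀ * M := by rw [hM g]

theorem fs_isUnit (ρ : Representation ℂ G (Fin n → ℂ)) [hirr : ρ.IsIrreducible]
    (M : Matrix (Fin n) (Fin n) ℂ)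
    (hM : ∀ g : G, (fsX ρ g)ᵀ * M * fsX ρ g = M) (hne : M ≠ 0) : IsUnit M := by
  let K : Subrepresentation ρ :=
    { toSubmodule := LinearMap.ker (Matrix.toLin' M)
      apply_mem_toSubmodule := by
        intro g v hv
        rw [LinearMap.mem_ker, Matrix.toLin'_apply] at hv ⊢
        rw [← fs_toLin ρ g, Matrix.toLin'_apply, Matrix.mulVec_mulVec, fs_intertwine ρ M hM g,
          ← Matrix.mulVec_mulVec, hv, Matrix.mulVec_zero] }
  rcases eq_bot_or_eq_top K with h | h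
  · have hker : LinearMap.ker (Matrix.toLin' M) = ⊥ := congrArg Subrepresentation.toSubmodule h
    rw [LinearMap.ker_eq_bot] at hker
    rw [← Matrix.mulVec_injective_iff_isUnit]
    exact hker
  · exfalso
    have hker : LinearMap.ker (Matrix.toLin' M) = ⊤ := congrArg Subrepresentation.toSubmodule h
    rw [LinearMap.ker_eq_top] at hker
    apply hne
    have := congrArg LinearMap.toMatrix' hker
    rwa [LinearMap.toMatrix'_toLin', map_zero] at this

omit [Group G] in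
theorem fs_sum4 {ι : Type*} [Fintype ι] [Fintype G] (g : G → ι → ι → ι → ι → ℂ) :
    ∑ s : G, ∑ i, ∑ j, ∑ k, ∑ l, g s i j k l = ∑ i, ∑ j, ∑ k, ∑ l, ∑ s : G, g s i j k l := by
  rw [Finset.sum_comm]
  refine Finset.sum_congr rfl fun i _ => ?_
  rw [Finset.sum_comm]
  refine Finset.sum_congr rfl fun j _ => ?_
  rw [Finset.sum_comm]
  refine Finset.sum_congr rfl fun k _ => ?_
  rw [Finset.sum_comm]

theorem fs_triple_apply (M Y Mi : Matrix (Fin n) (Fin n) ℂ) (i j : Fin n) :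
    (M * Y * Mi) i j = ∑ k, ∑ l, M i k * Y k l * Mi l j := by
  rw [Matrix.mul_apply]
  simp only [Matrix.mul_apply, Finset.sum_mul]
  rw [Finset.sum_comm]

theorem fs_key_sum [Fintype G] (ρ : Representation ℂ G (Fin n → ℂ)) [ρ.IsIrreducible]
    (M Mi : Matrix (Fin n) (Fin n) ℂ) :
    ∑ s : G, ∑ i, ∑ j, fsX ρ s i j * (M * fsX ρ s⁻¹ * Mi) i j =
      ((Fintype.card G : ℂ) / (n : ℂ)) * ∑ i, ∑ j, M i j * Mi i j := by
  have h1 : ∀ s : G, ∀ i j : Fin n, fsX ρ s i j * (M * fsX ρ s⁻¹ * Mi) i j =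
      ∑ k, ∑ l, M i k * Mi l j * (fsX ρ s i j * fsX ρ s⁻¹ k l) := by
    intro s i j
    rw [fs_triple_apply, Finset.mul_sum]
    refine Finset.sum_congr rfl fun k _ => ?_
    rw [Finset.mul_sum]
    refine Finset.sum_congr rfl fun l _ => ?_
    ring
  simp only [h1]
  rw [fs_sum4]
  rw [Finset.mul_sum]
  refine Finset.sum_congr rfl fun i _ => ?_
  rw [Finset.mul_sum]
  refine Finset.sum_congr rfl fun j _ => ?_
  have h2 : ∀ k l : Fin n, ∑ s : G, M i k * Mi l j * (fsX ρ s i j * fsX ρ s⁻¹ k l) =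
      M i k * Mi l j * (if j = k ∧ i = l then (Fintype.card G : ℂ) / (n : ℂ) else 0) := by
    intro k l
    rw [← Finset.mul_sum, fs_orth_entry]
  simp only [h2]
  rw [Finset.sum_eq_single j]
  · rw [Finset.sum_eq_single i]
    · simp; ring
    · intro l _ hl
      simp [Ne.symm hl]
    · intro h; exact absurd (Finset.mem_univ i) h
  · intro k _ hk
    apply Finset.sum_eq_zero
    intro l _
    simp [Ne.symm hk]
  · intro h; exact absurd (Finset.mem_univ j) h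

theorem fs_symm [Fintype G] (ρ : Representation ℂ G (Fin n → ℂ)) [ρ.IsIrreducible]
    (M : Matrix (Fin n) (Fin n) ℂ) (hM : ∀ g : G, (fsX ρ g)ᵀ * M * fsX ρ g = M) :
    Mᵀ = ((Nat.card G : ℂ)⁻¹ * ∑ s : G, ρ.character (s * s)) • M := by
  by_cases hM0 : M = 0
  · rw [hM0, Matrix.transpose_zero, smul_zero]
  have hu := fs_isUnit ρ M hM hM0
  have hdet : IsUnit M.det := (Matrix.isUnit_iff_isUnit_det M).mp hu
  have hMMi : M * M⁻¹ = 1 := Matrix.mul_nonsing_inv M hdet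
  have hMiM : M⁻¹ * M = 1 := Matrix.nonsing_inv_mul M hdet
  have hMT : ∀ g : G, (fsX ρ g)ᵀ * Mᵀ * fsX ρ g = Mᵀ := by
    intro g
    have := congrArg Matrix.transpose (hM g)
    rw [Matrix.transpose_mul, Matrix.transpose_mul, Matrix.transpose_transpose] at this
    rw [Matrix.mul_assoc]
    exact this
  have hcomm : ∀ g : G, (M⁻¹ * Mᵀ) * fsX ρ g = fsX ρ g * (M⁻¹ * Mᵀ) := by
    intro g
    have h1 : fsX ρ g * M⁻¹ = M⁻¹ * (fsX ρ g⁻¹)ᵀ := by
      calc fsX ρ g * M⁻¹ = (M⁻¹ * M) * fsX ρ g * M⁻¹ := by rw [hMiM, Matrix.one_mul]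
        _ = M⁻¹ * (M * fsX ρ g) * M⁻¹ := by simp only [Matrix.mul_assoc]
        _ = M⁻¹ * ((fsX ρ g⁻¹)ᵀ * M) * M⁻¹ := by rw [fs_intertwine ρ M hM g]
        _ = M⁻¹ * (fsX ρ g⁻¹)ᵀ * (M * M⁻¹) := by simp only [Matrix.mul_assoc]
        _ = M⁻¹ * (fsX ρ g⁻¹)ᵀ := by rw [hMMi, Matrix.mul_one]
    rw [Matrix.mul_assoc, fs_intertwine ρ Mᵀ hMT g, ← Matrix.mul_assoc, ← Matrix.mul_assoc, h1]
  obtain ⟨c, hc⟩ := fs_schur ρ (M⁻¹ * Mᵀ) hcomm
  have hMTc : Mᵀ = c • M := by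
    calc Mᵀ = (M * M⁻¹) * Mᵀ := by rw [hMMi, Matrix.one_mul]
      _ = M * (M⁻¹ * Mᵀ) := Matrix.mul_assoc _ _ _
      _ = c • M := by rw [hc, Matrix.mul_smul, Matrix.mul_one]
  have hc0 : c ≠ 0 := by
    intro h0
    rw [h0, zero_smul] at hMTc
    apply hM0
    have := congrArg Matrix.transpose hMTc
    rwa [Matrix.transpose_transpose, Matrix.transpose_zero] at this
  have hcc : c * c = 1 := by
    have h1 : M = (c * c) • M := by
      have := congrArg Matrix.transpose hMTc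
      rw [Matrix.transpose_transpose, Matrix.transpose_smul, hMTc, smul_smul] at this
      exact this
    have h2 : (c * c - 1) • M = 0 := by
      rw [sub_smul, one_smul, ← h1, sub_self]
    rcases smul_eq_zero.mp h2 with h | h
    · exact sub_eq_zero.mp h
    · exact absurd h hM0
  have hXT : ∀ s : G, (fsX ρ s)ᵀ = M * fsX ρ s⁻¹ * M⁻¹ := by
    intro s
    have := fs_intertwine ρ M hM s⁻¹
    rw [inv_inv] at this
    rw [this, Matrix.mul_assoc, hMMi, Matrix.mul_one]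
  have hchar : ∀ s : G, ρ.character (s * s) =
      ∑ i, ∑ j, fsX ρ s i j * (M * fsX ρ s⁻¹ * M⁻¹) i j := by
    intro s
    rw [fs_char, fsX_mul, Matrix.trace]
    refine Finset.sum_congr rfl fun i _ => ?_
    rw [Matrix.diag_apply, Matrix.mul_apply]
    refine Finset.sum_congr rfl fun j _ => ?_
    rw [← hXT s, Matrix.transpose_apply]
  have hMN : M * (M⁻¹)ᵀ = c⁻¹ • (1 : Matrix (Fin n) (Fin n) ℂ) := by
    have h1 : Mᵀ * (M⁻¹)ᵀ = 1 := by
      rw [← Matrix.transpose_mul, hMiM, Matrix.transpose_one]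
    rw [hMTc, Matrix.smul_mul] at h1
    rw [← h1, smul_smul, inv_mul_cancel₀ hc0, one_smul]
  have htr : ∑ i, ∑ j, M i j * M⁻¹ i j = c⁻¹ * (n : ℂ) := by
    have h1 : (M * (M⁻¹)ᵀ).trace = ∑ i, ∑ j, M i j * M⁻¹ i j := by
      rw [Matrix.trace]
      refine Finset.sum_congr rfl fun i _ => ?_
      rw [Matrix.diag_apply, Matrix.mul_apply]
      rfl
    rw [← h1, hMN, Matrix.trace_smul, Matrix.trace_one, Fintype.card_fin, smul_eq_mul]
  have hn : (n : ℂ) ≠ 0 := Nat.cast_ne_zero.mpr (fs_n_ne_zero ρ)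
  have hG : (Fintype.card G : ℂ) ≠ 0 := Nat.cast_ne_zero.mpr Fintype.card_ne_zero
  simp only [hchar]
  rw [fs_key_sum, htr, Nat.card_eq_fintype_card, hMTc]
  congr 1
  have hci : c⁻¹ = c := by
    field_simp
    rw [← hcc, pow_two]
  rw [hci]
  field_simp

end Cfsg.Agent.Lib.Helper24
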