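import Mathlib
import Cfsg.Prelude.Def_Blocks
import Cfsg.Agent.Lib.Helper24.FrobSchurForm
import Cfsg.Agent.Lib.Helper25.CharReal
import Cfsg.Agent.Lib.Helper25.CharAbelian
import Cfsg.Agent.S0133

set_option autoImplicit false

namespace Cfsg.Agent.Lib.Helper24

open scoped ComplexConjugate
open Cfsg.Agent.Lib.Helper25

variable {G : Type*} [Group G] [Fintype G]

noncomputable def fsNu (χ : Cfsg.IrrCharacter G) : ℂ :=
  (Nat.card G : ℂ)⁻¹ * ∑ s : G, (χ : G → ℂ) (s * s)

theorem fsNu_mul_self_of_real (χ : Cfsg.IrrCharacter G) (hreal : ∀ g : G, ((χ : G → ℂ) g).im = 0) :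
    fsNu χ * fsNu χ = 1 := by
  obtain ⟨n, ρ, hirr, hχ⟩ := χ.2
  have := hirr
  have hreal' : ∀ g : G, (ρ.character g).im = 0 := by
    intro g; rw [hχ]; exact hreal g
  obtain ⟨M, hM0, hM⟩ := fs_exists ρ hreal'
  have h1 := fs_symm ρ M hM
  have hnu : fsNu χ = (Nat.card G : ℂ)⁻¹ * ∑ s : G, ρ.character (s * s) := by
    unfold fsNu; rw [hχ]
  rw [← hnu] at h1
  have h2 : M = (fsNu χ * fsNu χ) • M := by
    have := congrArg Matrix.transpose h1
    rw [Matrix.transpose_transpose, Matrix.transpose_smul, h1, smul_smul] at this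
    exact this
  have h3 : (fsNu χ * fsNu χ - 1) • M = 0 := by
    rw [sub_smul, one_smul, ← h2, sub_self]
  rcases smul_eq_zero.mp h3 with h | h
  · exact sub_eq_zero.mp h
  · exact absurd h hM0

theorem fsNu_cases (χ : Cfsg.IrrCharacter G) :
    fsNu χ = 0 ∨ ((fsNu χ = 1 ∨ fsNu χ = -1) ∧ ∀ g : G, ((χ : G → ℂ) g).im = 0) := by
  by_cases h : fsNu χ = 0
  · left; exact h
  · right
    have hsum : ∑ s : G, (χ : G → ℂ) (s * s) ≠ 0 := by
      intro h0
      apply h
      unfold fsNu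
      rw [h0, mul_zero]
    have hreal := irr_real_of_fs_ne_zero χ hsum
    exact ⟨mul_self_eq_one_iff.mp (fsNu_mul_self_of_real χ hreal), hreal⟩

theorem fsNu_triv : fsNu (trivIrr G) = 1 := by
  unfold fsNu
  simp only [trivIrr_apply, Finset.sum_const, Finset.card_univ, nsmul_eq_mul, mul_one]
  rw [Nat.card_eq_fintype_card]
  have : (Fintype.card G : ℂ) ≠ 0 := Nat.cast_ne_zero.mpr Fintype.card_ne_zero
  field_simp

theorem fs_card_sq_eq_one [DecidableEq G] :
    Nat.card {h : G // h * h = 1} = Nat.card {x : G // orderOf x = 2} + 1 := by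
  rw [Nat.card_eq_fintype_card, Nat.card_eq_fintype_card, Fintype.card_subtype, Fintype.card_subtype]
  have h1 : (Finset.univ.filter (fun h : G => h * h = 1)) =
      insert 1 (Finset.univ.filter (fun x : G => orderOf x = 2)) := by
    ext h
    simp only [Finset.mem_filter, Finset.mem_univ, true_and, Finset.mem_insert]
    constructor
    · intro hh
      by_cases h1 : h = 1
      · left; exact h1
      · right
        exact orderOf_eq_prime (by rw [pow_two]; exact hh) h1
    · rintro (rfl | hh)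
      · exact one_mul 1
      · rw [← pow_two, ← hh]; exact pow_orderOf_eq_one h
  rw [h1, Finset.card_insert_of_notMem]
  simp

theorem fs_count [Fintype (Cfsg.IrrCharacter G)] :
    ((Nat.card {x : G // orderOf x = 2} : ℂ) + 1) =
      ∑ χ : Cfsg.IrrCharacter G, fsNu χ * (Cfsg.charDegree (χ : G → ℂ) : ℂ) := by
  classical
  have h := sqrt_count_expansion (G := G) 1
  rw [fs_card_sq_eq_one] at h
  push_cast at h
  rw [h]
  apply Finset.sum_congr rfl
  intro χ _
  rw [(charDegree_irr χ).1]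
  rfl

open Classical in
noncomputable def fsEps (χ : Cfsg.IrrCharacter G) : ℤ :=
  if fsNu χ = 1 then 1 else if fsNu χ = -1 then -1 else 0

theorem fsEps_cast (χ : Cfsg.IrrCharacter G) : ((fsEps χ : ℤ) : ℂ) = fsNu χ := by
  unfold fsEps
  rcases fsNu_cases χ with h | ⟨h | h, _⟩
  · have h1 : fsNu χ ≠ 1 := by rw [h]; norm_num
    have h2 : fsNu χ ≠ -1 := by rw [h]; norm_num
    rw [if_neg h1, if_neg h2, h]; simp
  · rw [if_pos h, h]; simp
  · have h1 : fsNu χ ≠ 1 := by rw [h]; norm_num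
    rw [if_neg h1, if_pos h, h]; simp

theorem fsEps_le_one (χ : Cfsg.IrrCharacter G) : fsEps χ ≤ 1 := by
  unfold fsEps
  split_ifs <;> norm_num

theorem fsEps_real (χ : Cfsg.IrrCharacter G) (h : fsEps χ ≠ 0) : ∀ g : G, ((χ : G → ℂ) g).im = 0 := by
  rcases fsNu_cases χ with h0 | ⟨_, hr⟩
  · exfalso
    apply h
    have := fsEps_cast χ
    rw [h0] at this
    exact_mod_cast this
  · exact hr

theorem fsEps_triv : fsEps (trivIrr G) = 1 := by
  have := fsEps_cast (trivIrr G)
  rw [fsNu_triv] at this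
  exact_mod_cast this

omit [Fintype G] in
theorem charDegree_triv : Cfsg.charDegree ((trivIrr G : Cfsg.IrrCharacter G) : G → ℂ) = 1 := by
  have := (charDegree_irr (trivIrr G)).1
  rw [trivIrr_apply] at this
  exact_mod_cast this

theorem fs_count_int [Fintype (Cfsg.IrrCharacter G)] :
    ((Nat.card {x : G // orderOf x = 2} : ℤ) + 1) =
      ∑ χ : Cfsg.IrrCharacter G, fsEps χ * (Cfsg.charDegree (χ : G → ℂ) : ℤ) := by
  have h := fs_count (G := G)
  have h2 : (((Nat.card {x : G // orderOf x = 2} : ℤ) + 1 : ℤ) : ℂ) =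
      ((∑ χ : Cfsg.IrrCharacter G, fsEps χ * (Cfsg.charDegree (χ : G → ℂ) : ℤ) : ℤ) : ℂ) := by
    push_cast
    rw [h]
    apply Finset.sum_congr rfl
    intro χ _
    rw [fsEps_cast]
  exact_mod_cast h2

theorem fs_sum_sq [Fintype (Cfsg.IrrCharacter G)] :
    ∑ χ : Cfsg.IrrCharacter G, (Cfsg.charDegree (χ : G → ℂ)) ^ 2 = Nat.card G := by
  classical
  have h := irr_column_orthogonality (G := G) 1 1
  rw [if_pos (IsConj.refl 1)] at h
  have hc : Nat.card (Subgroup.centralizer ({(1 : G)} : Set G)) = Nat.card G := by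
    have : Subgroup.centralizer ({(1 : G)} : Set G) = ⊤ := by
      rw [Subgroup.centralizer_eq_top_iff_subset]
      intro x hx
      rw [Set.mem_singleton_iff] at hx
      rw [hx]
      exact Subgroup.one_mem _
    rw [this, Subgroup.card_top]
  rw [hc] at h
  have h2 : ((∑ χ : Cfsg.IrrCharacter G, (Cfsg.charDegree (χ : G → ℂ)) ^ 2 : ℕ) : ℂ) =
      ((Nat.card G : ℕ) : ℂ) := by
    rw [← h]
    push_cast
    apply Finset.sum_congr rfl
    intro χ _
    rw [← (charDegree_irr χ).1, Complex.conj_natCast, pow_two]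
  exact_mod_cast h2

theorem fs_t_le [Fintype (Cfsg.IrrCharacter G)] [DecidableEq (Cfsg.IrrCharacter G)] :
    (Nat.card {x : G // orderOf x = 2} : ℤ) ≤
      ∑ χ ∈ (Finset.univ.erase (trivIrr G)).filter
        (fun χ : Cfsg.IrrCharacter G => ∀ g : G, ((χ : G → ℂ) g).im = 0),
        (Cfsg.charDegree (χ : G → ℂ) : ℤ) := by
  classical
  have h := fs_count_int (G := G)
  rw [← Finset.add_sum_erase Finset.univ _ (Finset.mem_univ (trivIrr G)), fsEps_triv,
    charDegree_triv] at h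
  have h1 : (Nat.card {x : G // orderOf x = 2} : ℤ) =
      ∑ χ ∈ Finset.univ.erase (trivIrr G), fsEps χ * (Cfsg.charDegree (χ : G → ℂ) : ℤ) := by
    push_cast at h
    linarith
  rw [h1, ← Finset.sum_filter_add_sum_filter_not (Finset.univ.erase (trivIrr G))
    (fun χ : Cfsg.IrrCharacter G => ∀ g : G, ((χ : G → ℂ) g).im = 0)]
  have h2 : ∑ χ ∈ (Finset.univ.erase (trivIrr G)).filter
      (fun χ : Cfsg.IrrCharacter G => ¬ ∀ g : G, ((χ : G → ℂ) g).im = 0),
      fsEps χ * (Cfsg.charDegree (χ : G → ℂ) : ℤ) = 0 := by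
    apply Finset.sum_eq_zero
    intro χ hχ
    have hnr := (Finset.mem_filter.mp hχ).2
    have : fsEps χ = 0 := by
      by_contra hne
      exact hnr (fsEps_real χ hne)
    rw [this, zero_mul]
  rw [h2, add_zero]
  apply Finset.sum_le_sum
  intro χ _
  have h3 := fsEps_le_one χ
  have h4 : (0 : ℤ) ≤ (Cfsg.charDegree (χ : G → ℂ) : ℤ) := Int.natCast_nonneg _
  nlinarith

theorem fs_sum_sq_erase [Fintype (Cfsg.IrrCharacter G)] [DecidableEq (Cfsg.IrrCharacter G)] :
    ∑ χ ∈ Finset.univ.erase (trivIrr G), ((Cfsg.charDegree (χ : G → ℂ) : ℤ)) ^ 2 =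
      (Nat.card G : ℤ) - 1 := by
  have h := fs_sum_sq (G := G)
  rw [← Finset.add_sum_erase Finset.univ _ (Finset.mem_univ (trivIrr G)), charDegree_triv] at h
  have h2 : ((1 ^ 2 + ∑ χ ∈ Finset.univ.erase (trivIrr G), (Cfsg.charDegree (χ : G → ℂ)) ^ 2 : ℕ) : ℤ) =
      ((Nat.card G : ℕ) : ℤ) := by rw [h]
  push_cast at h2
  linarith

theorem fs_exists_real_small [Fintype (Cfsg.IrrCharacter G)]
    (ht : 0 < Nat.card {x : G // orderOf x = 2}) :
    ∃ χ : Cfsg.IrrCharacter G, χ ≠ trivIrr G ∧ (∀ g : G, ((χ : G → ℂ) g).im = 0) ∧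
      (Cfsg.charDegree (χ : G → ℂ) : ℤ) * (Nat.card {x : G // orderOf x = 2} : ℤ) ≤
        (Nat.card G : ℤ) - 1 := by
  classical
  by_contra hcon
  set t : ℤ := (Nat.card {x : G // orderOf x = 2} : ℤ) with htdef
  have ht' : 0 < t := by rw [htdef]; exact_mod_cast ht
  set R := (Finset.univ.erase (trivIrr G)).filter
    (fun χ : Cfsg.IrrCharacter G => ∀ g : G, ((χ : G → ℂ) g).im = 0) with hR
  have hall : ∀ χ ∈ R, (Nat.card G : ℤ) ≤ (Cfsg.charDegree (χ : G → ℂ) : ℤ) * t := by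
    intro χ hχ
    by_contra hlt
    apply hcon
    have h1 := Finset.mem_filter.mp hχ
    refine ⟨χ, (Finset.mem_erase.mp h1.1).1, h1.2, ?_⟩
    omega
  have h1 : t ≤ ∑ χ ∈ R, (Cfsg.charDegree (χ : G → ℂ) : ℤ) := fs_t_le
  have h2 : ∑ χ ∈ R, ((Cfsg.charDegree (χ : G → ℂ) : ℤ)) ^ 2 ≤ (Nat.card G : ℤ) - 1 := by
    rw [← fs_sum_sq_erase]
    apply Finset.sum_le_sum_of_subset_of_nonneg (Finset.filter_subset _ _)
    intro χ _ _
    positivity
  have h3 : (Nat.card G : ℤ) * ∑ χ ∈ R, (Cfsg.charDegree (χ : G → ℂ) : ℤ) ≤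
      t * ∑ χ ∈ R, ((Cfsg.charDegree (χ : G → ℂ) : ℤ)) ^ 2 := by
    rw [Finset.mul_sum, Finset.mul_sum]
    apply Finset.sum_le_sum
    intro χ hχ
    have h4 := hall χ hχ
    have h5 : (0 : ℤ) ≤ (Cfsg.charDegree (χ : G → ℂ) : ℤ) := Int.natCast_nonneg _
    nlinarith
  have hg : (0 : ℤ) < (Nat.card G : ℤ) := by exact_mod_cast Nat.card_pos
  nlinarith

theorem fs_comm_count :
    ∑ x : G, (Nat.card (Subgroup.centralizer ({x} : Set G)) : ℤ) =
      (Nat.card (ConjClasses G) : ℤ) * (Nat.card G : ℤ) := by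
  classical
  have h := card_comm_eq_card_conjClasses_mul_card G
  have h1 : Nat.card { p : G × G // Commute p.1 p.2 } =
      ∑ x : G, Nat.card (Subgroup.centralizer ({x} : Set G)) := by
    rw [Nat.card_congr (Equiv.subtypeProdEquivSigmaSubtype (fun a b : G => Commute a b)),
      Nat.card_sigma]
    apply Finset.sum_congr rfl
    intro x _
    apply Nat.card_congr
    apply Equiv.subtypeEquivRight
    intro y
    rw [Subgroup.mem_centralizer_iff]
    constructor
    · intro hc z hz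
      rw [Set.mem_singleton_iff] at hz
      rw [hz]
      exact hc.eq
    · intro hc
      exact hc x rfl
  rw [h1] at h
  have h2 : ((∑ x : G, Nat.card (Subgroup.centralizer ({x} : Set G)) : ℕ) : ℤ) =
      ((Nat.card (ConjClasses G) * Nat.card G : ℕ) : ℤ) := by rw [h]
  push_cast at h2
  exact h2

theorem fs_exists_small_class [Fintype (Cfsg.IrrCharacter G)]
    (ht : 0 < Nat.card {x : G // orderOf x = 2}) (hg2 : 2 ≤ Nat.card G) :
    ∃ x : G, x ≠ 1 ∧ ((Subgroup.centralizer ({x} : Set G)).index : ℤ) *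
      (Nat.card {x : G // orderOf x = 2} : ℤ) ^ 2 ≤ ((Nat.card G : ℤ) - 1) ^ 2 := by
  classical
  by_contra hcon
  set t : ℤ := (Nat.card {x : G // orderOf x = 2} : ℤ) with htdef
  set g : ℤ := (Nat.card G : ℤ) with hgdef
  set k : ℤ := (Nat.card (ConjClasses G) : ℤ) with hkdef
  have ht' : 0 < t := by rw [htdef]; exact_mod_cast ht
  have hg' : 2 ≤ g := by rw [hgdef]; exact_mod_cast hg2
  have hall : ∀ x : G, x ≠ 1 → (g - 1) ^ 2 + 1 ≤
      ((Subgroup.centralizer ({x} : Set G)).index : ℤ) * t ^ 2 := by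
    intro x hx
    by_contra hlt
    apply hcon
    refine ⟨x, hx, ?_⟩
    omega
  have hcen : ∀ x : G, (Nat.card (Subgroup.centralizer ({x} : Set G)) : ℤ) *
      ((Subgroup.centralizer ({x} : Set G)).index : ℤ) = g := by
    intro x
    rw [hgdef]
    exact_mod_cast Subgroup.card_mul_index (Subgroup.centralizer ({x} : Set G))
  have hsum := fs_comm_count (G := G)
  rw [← Finset.add_sum_erase Finset.univ _ (Finset.mem_univ (1 : G))] at hsum
  have hc1 : (Nat.card (Subgroup.centralizer ({(1 : G)} : Set G)) : ℤ) = g := by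
    have : Subgroup.centralizer ({(1 : G)} : Set G) = ⊤ := by
      rw [Subgroup.centralizer_eq_top_iff_subset]
      intro x hx
      rw [Set.mem_singleton_iff] at hx
      rw [hx]
      exact Subgroup.one_mem _
    rw [this, Subgroup.card_top]
  rw [hc1] at hsum
  have hsum' : ∑ x ∈ Finset.univ.erase (1 : G),
      (Nat.card (Subgroup.centralizer ({x} : Set G)) : ℤ) = (k - 1) * g := by linarith
  have hterm : ∀ x ∈ Finset.univ.erase (1 : G),
      (Nat.card (Subgroup.centralizer ({x} : Set G)) : ℤ) * (g - 1) ^ 2 + 1 ≤ g * t ^ 2 := by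
    intro x hx
    have hx1 := (Finset.mem_erase.mp hx).1
    have h1 := hall x hx1
    have h2 := hcen x
    have h3 : (1 : ℤ) ≤ (Nat.card (Subgroup.centralizer ({x} : Set G)) : ℤ) := by
      exact_mod_cast Nat.card_pos
    nlinarith
  have hcard : ((Finset.univ.erase (1 : G)).card : ℤ) = g - 1 := by
    rw [Finset.card_erase_of_mem (Finset.mem_univ _), Finset.card_univ, hgdef,
      Nat.card_eq_fintype_card]
    have : 1 ≤ Fintype.card G := Fintype.card_pos
    omega
  have hS : ∑ x ∈ Finset.univ.erase (1 : G),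
      ((Nat.card (Subgroup.centralizer ({x} : Set G)) : ℤ) * (g - 1) ^ 2 + 1) ≤
      ∑ _x ∈ Finset.univ.erase (1 : G), g * t ^ 2 := Finset.sum_le_sum hterm
  rw [Finset.sum_add_distrib, ← Finset.sum_mul, hsum', Finset.sum_const, Finset.sum_const,
    nsmul_eq_mul, nsmul_eq_mul, hcard, mul_one] at hS
  have hkey : (g - 1) * (k - 1) < t ^ 2 := by
    have hg1 : 0 < g - 1 := by linarith
    have hg0 : 0 < g := by linarith
    have h5 : (g - 1) * ((k - 1) * g * (g - 1) + 1) ≤ (g - 1) * (g * t ^ 2) := by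
      have : (k - 1) * g * (g - 1) ^ 2 + (g - 1) = (g - 1) * ((k - 1) * g * (g - 1) + 1) := by ring
      linarith
    have h6 : (k - 1) * g * (g - 1) + 1 ≤ g * t ^ 2 := le_of_mul_le_mul_left h5 hg1
    have h7 : g * ((g - 1) * (k - 1)) < g * t ^ 2 := by
      have : g * ((g - 1) * (k - 1)) = (k - 1) * g * (g - 1) := by ring
      linarith
    exact lt_of_mul_lt_mul_left h7 hg0.le
  have hm : (Nat.card (Cfsg.IrrCharacter G) : ℤ) = k := by
    rw [hkdef, Cfsg.Agent.S0133.result]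
  have h1 : t ≤ ∑ χ ∈ Finset.univ.erase (trivIrr G), (Cfsg.charDegree (χ : G → ℂ) : ℤ) := by
    refine le_trans fs_t_le ?_
    apply Finset.sum_le_sum_of_subset_of_nonneg (Finset.filter_subset _ _)
    intro χ _ _
    positivity
  have h2 : (∑ χ ∈ Finset.univ.erase (trivIrr G), (Cfsg.charDegree (χ : G → ℂ) : ℤ)) ^ 2 ≤
      ((Finset.univ.erase (trivIrr G)).card : ℤ) *
        ∑ χ ∈ Finset.univ.erase (trivIrr G), ((Cfsg.charDegree (χ : G → ℂ) : ℤ)) ^ 2 :=
    sq_sum_le_card_mul_sum_sq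
  rw [fs_sum_sq_erase] at h2
  have hcardS : ((Finset.univ.erase (trivIrr G)).card : ℤ) = k - 1 := by
    rw [Finset.card_erase_of_mem (Finset.mem_univ _), Finset.card_univ, ← hm,
      Nat.card_eq_fintype_card]
    have : 1 ≤ Fintype.card (Cfsg.IrrCharacter G) := Fintype.card_pos_iff.mpr ⟨trivIrr G⟩
    omega
  rw [hcardS] at h2
  have h3 : t ^ 2 ≤ (∑ χ ∈ Finset.univ.erase (trivIrr G), (Cfsg.charDegree (χ : G → ℂ) : ℤ)) ^ 2 := by
    apply pow_le_pow_left₀ ht'.le h1
  have : t ^ 2 ≤ (k - 1) * (g - 1) := le_trans h3 h2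
  linarith [mul_comm (g - 1) (k - 1)]

end Cfsg.Agent.Lib.Helper24
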