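import Mathlib
import Cfsg.Prelude.Def_Blocks
import Cfsg.Agent.Lib.Helper24.ExtFirstMain
import Cfsg.Agent.S0963
import Cfsg.Agent.S0964
import Cfsg.Agent.Lib.Helper25.ItoSolvable
import Cfsg.Agent.Lib.helper7.CliffordSub

set_option autoImplicit false
set_option linter.style.haveILetI false
set_option linter.unusedSectionVars false
set_option linter.unusedVariables false

namespace Cfsg.Agent.Lib.Helper24

open scoped ComplexConjugate
open Cfsg.Agent.Lib.Helper25 Cfsg.Agent.Lib.Helper11 Cfsg.Agent.Lib.helper2 Cfsg.Agent.Lib.helper7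

theorem ef_clifford_sum {Γ : Type*} [Group Γ] [Fintype Γ] (N : Subgroup Γ) [N.Normal] [Fintype N]
    (ψ : Cfsg.IrrCharacter Γ) (θ : Cfsg.IrrCharacter N)
    (hcon : Cfsg.classInner (fun n : N => (ψ : Γ → ℂ) n) (θ : N → ℂ) ≠ 0)
    (s : Γ → Prop) [DecidablePred s] (hs : ∀ x t : Γ, s (t * x * t⁻¹) ↔ s x)
    (hsN : ∀ x, s x → x ∈ N) :
    ∑ x : Γ, (if s x then (ψ : Γ → ℂ) x / (ψ : Γ → ℂ) 1 else 0) =
      ∑ n : N, (if s (n : Γ) then (θ : N → ℂ) n / (θ : N → ℂ) 1 else 0) := by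
  classical
  haveI : Fintype (ConjClasses Γ) := Fintype.ofFinite _
  have h63 := (Cfsg.Agent.S0963.result N ψ θ).mp hcon
  have hcl : ∀ g h : Γ, (if s (h * g * h⁻¹) then (ψ : Γ → ℂ) (h * g * h⁻¹) / (ψ : Γ → ℂ) 1 else 0) =
      (if s g then (ψ : Γ → ℂ) g / (ψ : Γ → ℂ) 1 else 0) := by
    intro g h
    rw [irr_conj_invariant]
    simp only [hs g h]
  rw [h7_sum_eq_sum_conjClasses _ hcl]
  have hsconj : ∀ x y : Γ, IsConj x y → (s x ↔ s y) := by
    intro x y hxy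
    obtain ⟨t, ht⟩ := isConj_iff.mp hxy
    rw [← ht, hs]
  have h1 : ∀ C : ConjClasses Γ,
      (Subgroup.centralizer ({Quotient.out C} : Set Γ)).index •
        (if s (Quotient.out C) then (ψ : Γ → ℂ) (Quotient.out C) / (ψ : Γ → ℂ) 1 else 0) =
      ∑ n : N, (if s (Quotient.out C) ∧ IsConj (Quotient.out C) (n : Γ) then
        (θ : N → ℂ) n / (θ : N → ℂ) 1 else 0) := by
    intro C
    by_cases hC : s (Quotient.out C)
    · rw [if_pos hC]
      have h2 := h63 ⟨Quotient.out C, hsN _ hC⟩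
      unfold Cfsg.centralChar at h2
      simp only at h2
      rw [nsmul_eq_mul, ← mul_div_assoc, h2]
      unfold Cfsg.inducedCentralChar
      rw [h7_finsum_mem_fintype]
      refine Finset.sum_congr rfl fun n _ => ?_
      simp only [Set.mem_ofPred_eq, hC, true_and]
    · rw [if_neg hC, smul_zero]
      symm
      apply Finset.sum_eq_zero
      intro n _
      rw [if_neg (fun h => hC h.1)]
  rw [Finset.sum_congr rfl (fun C _ => h1 C), Finset.sum_comm]
  refine Finset.sum_congr rfl fun n _ => ?_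
  rw [Finset.sum_eq_single (ConjClasses.mk (n : Γ))]
  · have hout : IsConj (Quotient.out (ConjClasses.mk (n : Γ))) (n : Γ) :=
      ConjClasses.mk_eq_mk_iff_isConj.mp (Quotient.out_eq (ConjClasses.mk (n : Γ)))
    by_cases hn : s (n : Γ)
    · rw [if_pos ⟨(hsconj _ _ hout).mpr hn, hout⟩, if_pos hn]
    · rw [if_neg hn, if_neg (fun h => hn ((hsconj _ _ hout).mp h.1))]
  · intro C _ hC
    rw [if_neg]
    rintro ⟨-, h2⟩
    apply hC
    rw [← Quotient.out_eq C]
    exact ConjClasses.mk_eq_mk_iff_isConj.mpr h2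
  · intro h
    exact absurd (Finset.mem_univ _) h

variable {G : Type*} [Group G]

def ef_tr {A B : Type*} [Group A] [Group B] (e : A ≃* B) (θ : Cfsg.IrrCharacter B) :
    Cfsg.IrrCharacter A :=
  ⟨fun a => (θ : B → ℂ) (e a), h7_isIrr_comp_equiv e _ θ.2⟩

theorem ef_tr_apply {A B : Type*} [Group A] [Group B] (e : A ≃* B) (θ : Cfsg.IrrCharacter B)
    (a : A) : (ef_tr e θ : A → ℂ) a = (θ : B → ℂ) (e a) := rfl

theorem ef_bcc_eq [Fintype G] (P H K : Subgroup G) (hHK : H ≤ K)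
    (hCH : Subgroup.centralizer (P : Set G) ≤ H) (hKN : K ≤ Subgroup.normalizer (P : Set G))
    [hn : (H.subgroupOf K).Normal] [Fintype K] [Fintype (H.subgroupOf K)]
    (ξ : Cfsg.IrrCharacter H) (ψ : Cfsg.IrrCharacter K)
    (hcon : Cfsg.classInner (fun n : H.subgroupOf K => (ψ : K → ℂ) n)
      ((ef_tr (Subgroup.subgroupOfEquivOfLe hHK) ξ : Cfsg.IrrCharacter (H.subgroupOf K)) :
        H.subgroupOf K → ℂ) ≠ 0) (g : G) :
    Cfsg.brauerCentralChar P K (ψ : K → ℂ) g = Cfsg.brauerCentralChar P H (ξ : H → ℂ) g := by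
  classical
  haveI : Fintype H := Fintype.ofFinite _
  set e := Subgroup.subgroupOfEquivOfLe hHK with he
  unfold Cfsg.brauerCentralChar
  rw [h7_finsum_mem_fintype, h7_finsum_mem_fintype]
  simp only [Set.mem_ofPred_eq]
  have hs : ∀ x t : K, (IsConj g ((t * x * t⁻¹ : K) : G) ∧
      ((t * x * t⁻¹ : K) : G) ∈ Subgroup.centralizer (P : Set G)) ↔
      (IsConj g (x : G) ∧ (x : G) ∈ Subgroup.centralizer (P : Set G)) := by
    intro x t
    have h1 : ((t * x * t⁻¹ : K) : G) = (t : G) * (x : G) * (t : G)⁻¹ := by simp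
    rw [h1, h7_conj_mem_centralizer_of_normalizer P (t : G) (x : G) (hKN t.2)]
    have h2 : IsConj g ((t : G) * (x : G) * (t : G)⁻¹) ↔ IsConj g (x : G) := by
      constructor
      · intro h
        exact h.trans (isConj_iff.mpr ⟨(t : G)⁻¹, by group⟩)
      · intro h
        exact h.trans (isConj_iff.mpr ⟨(t : G), rfl⟩)
    rw [h2]
  have hsN : ∀ x : K, (IsConj g (x : G) ∧ (x : G) ∈ Subgroup.centralizer (P : Set G)) →
      x ∈ H.subgroupOf K := by
    intro x hx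
    exact Subgroup.mem_subgroupOf.mpr (hCH hx.2)
  rw [ef_clifford_sum (H.subgroupOf K) ψ (ef_tr e ξ) hcon
    (fun x : K => IsConj g (x : G) ∧ (x : G) ∈ Subgroup.centralizer (P : Set G)) hs hsN]
  rw [← Equiv.sum_comp e.toEquiv]
  refine Finset.sum_congr rfl fun n _ => ?_
  rfl

theorem ef_over_induced [Fintype G] {p : ℕ} [hp : Fact p.Prime] {M : Ideal Cfsg.AlgInt}
    (hM : Cfsg.IsPModular p M) (P H K : Subgroup G) (hP : IsPGroup p P) (hPH : P ≤ H)
    (hHK : H ≤ K)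
    (hCH : Subgroup.centralizer (P : Set G) ≤ H) (hKN : K ≤ Subgroup.normalizer (P : Set G))
    [hn : (H.subgroupOf K).Normal] [Fintype K] [Fintype (H.subgroupOf K)]
    (ξ : Cfsg.IrrCharacter H) (ψ : Cfsg.IrrCharacter K)
    (hcon : Cfsg.classInner (fun n : H.subgroupOf K => (ψ : K → ℂ) n)
      ((ef_tr (Subgroup.subgroupOfEquivOfLe hHK) ξ : Cfsg.IrrCharacter (H.subgroupOf K)) :
        H.subgroupOf K → ℂ) ≠ 0)
    (b : Set (Cfsg.IrrCharacter H)) (B : Set (Cfsg.IrrCharacter G))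
    (hI : Cfsg.IsInducedBlock M H b B) (hξ : ξ ∈ b) :
    Cfsg.IsInducedBlock M K (Cfsg.blockOf M (ψ : K → ℂ)) B := by
  classical
  haveI : Fintype H := Fintype.ofFinite _
  haveI : Fintype (Cfsg.IrrCharacter G) := Fintype.ofFinite _
  haveI : Fintype (Cfsg.IrrCharacter H) := Fintype.ofFinite _
  haveI : Fintype (Cfsg.IrrCharacter K) := Fintype.ofFinite _
  have hPr := hM.2.1.isPrime
  refine ⟨⟨ψ, rfl⟩, hI.2.1, ?_⟩
  intro ζ hζ χ hχ g
  have h1 := h7_icc_congr' K hPr ψ ζ hζ g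
  have h2 := h7_icc_sub_bcc hM P K hP (hPH.trans hHK) hKN ψ g
  have h3 := h7_icc_sub_bcc hM P H hP hPH (hHK.trans hKN) ξ g
  have h4 := hI.2.2 ξ hξ χ hχ g
  rw [ef_bcc_eq P H K hHK hCH hKN ξ ψ hcon g] at h2
  have h5 := h7_memLocalIdeal_add hPr (h7_memLocalIdeal_sub hPr
    (h7_memLocalIdeal_sub hPr h2 h1) h3) h4
  have e : Cfsg.inducedCentralChar K (ζ : K → ℂ) g - Cfsg.centralChar (χ : G → ℂ) g =
      Cfsg.inducedCentralChar K (ψ : K → ℂ) g - Cfsg.brauerCentralChar P H (ξ : H → ℂ) g -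
      (Cfsg.inducedCentralChar K (ψ : K → ℂ) g - Cfsg.inducedCentralChar K (ζ : K → ℂ) g) -
      (Cfsg.inducedCentralChar H (ξ : H → ℂ) g - Cfsg.brauerCentralChar P H (ξ : H → ℂ) g) +
      (Cfsg.inducedCentralChar H (ξ : H → ℂ) g - Cfsg.centralChar (χ : G → ℂ) g) := by ring
  rw [e]
  exact h5

theorem ef_index_centralizer_equiv {A B : Type*} [Group A] [Group B] [Finite A] [Finite B]
    (φ : A ≃* B) (a : A) :
    (Subgroup.centralizer ({φ a} : Set B)).index = (Subgroup.centralizer ({a} : Set A)).index := by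
  rw [h7_index_centralizer_eq_card_class, h7_index_centralizer_eq_card_class]
  apply Nat.card_congr
  refine ⟨fun y => ⟨φ.symm y.1, ?_⟩, fun y => ⟨φ y.1, ?_⟩, ?_, ?_⟩
  · have := (φ.symm : B →* A).map_isConj y.2
    simpa using this
  · exact (φ : A →* B).map_isConj y.2
  · intro y
    apply Subtype.ext
    simp
  · intro y
    apply Subtype.ext
    simp

theorem ef_centralChar_comp {A B : Type*} [Group A] [Group B] [Finite A] [Finite B]
    (φ : A ≃* B) (f : B → ℂ) (a : A) :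
    Cfsg.centralChar (fun x => f (φ x)) a = Cfsg.centralChar f (φ a) := by
  unfold Cfsg.centralChar
  simp only [ef_index_centralizer_equiv φ a, map_one]

theorem ef_sameBlock_comp {A B : Type*} [Group A] [Group B] [Finite A] [Finite B]
    {M : Ideal Cfsg.AlgInt} (φ : A ≃* B) (f₁ f₂ : B → ℂ) (h : Cfsg.SameBlock M f₁ f₂) :
    Cfsg.SameBlock M (fun a => f₁ (φ a)) (fun a => f₂ (φ a)) := by
  intro a
  rw [ef_centralChar_comp, ef_centralChar_comp]
  exact h _

theorem ef_unique [Fintype G] [Fintype (Cfsg.IrrCharacter G)] {p : ℕ}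
    [hp : Fact p.Prime] {M : Ideal Cfsg.AlgInt} (hM : Cfsg.IsPModular p M) (P H : Subgroup G)
    (hP : IsPGroup p P) (hPH : P ≤ H) (hCH : Subgroup.centralizer (P : Set G) ≤ H)
    (hHN : H ≤ Subgroup.normalizer (P : Set G))
    (hNH : Subgroup.normalizer (P : Set G) ≤ Subgroup.normalizer (H : Set G))
    (B : Set (Cfsg.IrrCharacter G)) (hB : Cfsg.IsPBlock M B)
    (hD : Cfsg.IsDefectGroup p M B P)
    (b b' : Set (Cfsg.IrrCharacter H))
    (hI : Cfsg.IsInducedBlock M H b B) (hI' : Cfsg.IsInducedBlock M H b' B) :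
    ∃ n ∈ Subgroup.normalizer (P : Set G), ∀ θ ∈ b, ∃ θ' ∈ b', ∀ x : H,
      ∀ hx : n * (x : G) * n⁻¹ ∈ H, (θ' : H → ℂ) x = (θ : H → ℂ) ⟨n * (x : G) * n⁻¹, hx⟩ := by
  classical
  have hPr := hM.2.1.isPrime
  haveI : Fintype H := Fintype.ofFinite _
  haveI : Fintype (Subgroup.normalizer (P : Set G)) := Fintype.ofFinite _
  haveI : Fintype (H.subgroupOf (Subgroup.normalizer (P : Set G))) := Fintype.ofFinite _
  haveI : Fintype (Cfsg.IrrCharacter H) := Fintype.ofFinite _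
  haveI : Fintype (Cfsg.IrrCharacter (Subgroup.normalizer (P : Set G))) := Fintype.ofFinite _
  haveI : Fintype (Cfsg.IrrCharacter (H.subgroupOf (Subgroup.normalizer (P : Set G)))) :=
    Fintype.ofFinite _
  haveI hn : (H.subgroupOf (Subgroup.normalizer (P : Set G))).Normal :=
    (Subgroup.normal_subgroupOf_iff_le_normalizer hHN).mpr hNH
  obtain ⟨ξ, rfl⟩ := hI.1
  obtain ⟨ξ', rfl⟩ := hI'.1
  have hξ : ξ ∈ Cfsg.blockOf M (ξ : H → ℂ) := h7_sameBlock_refl hPr _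
  have hξ' : ξ' ∈ Cfsg.blockOf M (ξ' : H → ℂ) := h7_sameBlock_refl hPr _
  set e := Subgroup.subgroupOfEquivOfLe hHN with he
  obtain ⟨ψ, hψ⟩ := itn_exists_over (H.subgroupOf (Subgroup.normalizer (P : Set G))) (ef_tr e ξ)
  obtain ⟨ψ', hψ'⟩ := itn_exists_over (H.subgroupOf (Subgroup.normalizer (P : Set G))) (ef_tr e ξ')
  have hIψ := ef_over_induced hM P H (Subgroup.normalizer (P : Set G)) hP hPH hHN hCH le_rfl
    ξ ψ hψ _ B hI hξ
  have hIψ' := ef_over_induced hM P H (Subgroup.normalizer (P : Set G)) hP hPH hHN hCH le_rfl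
    ξ' ψ' hψ' _ B hI' hξ'
  obtain ⟨bN, hbN, hDN, hIN⟩ := h7_first_main_exists hM P hP B hB hD
  have e1 := h7_first_main_unique hM P hP B bN _ hDN hIN hIψ
  have e2 := h7_first_main_unique hM P hP B bN _ hDN hIN hIψ'
  have hψ'b : ψ' ∈ Cfsg.blockOf M (ψ : Subgroup.normalizer (P : Set G) → ℂ) := by
    rw [← e1, e2]
    exact h7_sameBlock_refl hPr _
  obtain ⟨t, θ₀, hθ₀, hconj⟩ := Cfsg.Agent.S0964.result p M hM
    (H.subgroupOf (Subgroup.normalizer (P : Set G)))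
    (Cfsg.blockOf M (ψ : Subgroup.normalizer (P : Set G) → ℂ)) ⟨ψ, rfl⟩
    (Cfsg.blockOf M ((ef_tr e ξ : Cfsg.IrrCharacter (H.subgroupOf (Subgroup.normalizer (P : Set G)))) :
      H.subgroupOf (Subgroup.normalizer (P : Set G)) → ℂ)) ⟨_, rfl⟩
    ψ (h7_sameBlock_refl hPr _) (ef_tr e ξ) (h7_sameBlock_refl hPr _) hψ ψ' hψ'b (ef_tr e ξ') hψ'
  refine ⟨(t : G), t.2, ?_⟩
  intro θ hθ
  set φ : H ≃* H := e.symm.trans ((MulAut.conjNormal t :
    H.subgroupOf (Subgroup.normalizer (P : Set G)) ≃*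
      H.subgroupOf (Subgroup.normalizer (P : Set G))).trans e) with hφ
  have hφv : ∀ x : H, ((φ x : H) : G) = (t : G) * (x : G) * (t : G)⁻¹ := by
    intro x
    rfl
  set θ₀L : Cfsg.IrrCharacter H := ef_tr e.symm θ₀ with hθ₀L
  have hξ'eq : (ξ' : H → ℂ) = fun x => (θ₀L : H → ℂ) (φ x) := by
    funext x
    have h1 := hconj (e.symm x)
    rw [ef_tr_apply, MulEquiv.apply_symm_apply] at h1
    rw [h1]
    rfl
  have hs1 : Cfsg.SameBlock M (ξ : H → ℂ) (θ₀L : H → ℂ) := by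
    have h2 := ef_sameBlock_comp e.symm _ _ hθ₀
    have h3 : (fun a : H => ((ef_tr e ξ : Cfsg.IrrCharacter
        (H.subgroupOf (Subgroup.normalizer (P : Set G)))) :
        H.subgroupOf (Subgroup.normalizer (P : Set G)) → ℂ) (e.symm a)) = (ξ : H → ℂ) := by
      funext a
      rw [ef_tr_apply, MulEquiv.apply_symm_apply]
    rw [h3] at h2
    exact h2
  have hs2 : Cfsg.SameBlock M (θ₀L : H → ℂ) (θ : H → ℂ) :=
    h7_sameBlock_trans hPr (h7_sameBlock_symm hs1) hθ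
  refine ⟨ef_tr φ θ, ?_, ?_⟩
  · change Cfsg.SameBlock M (ξ' : H → ℂ) _
    rw [hξ'eq]
    exact ef_sameBlock_comp φ _ _ hs2
  · intro x hx
    rw [ef_tr_apply]
    congr 1

end Cfsg.Agent.Lib.Helper24
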