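import Mathlib
import Cfsg.Prelude.Def_Blocks
import Cfsg.Agent.Lib.Helper24.ExtFirstMain2
import Cfsg.Agent.Lib.helper7.Clifford

set_option autoImplicit false
set_option linter.style.haveILetI false
set_option linter.unusedSectionVars false
set_option linter.unusedVariables false

namespace Cfsg.Agent.Lib.Helper24

open scoped ComplexConjugate
open Cfsg.Agent.Lib.Helper25 Cfsg.Agent.Lib.Helper11 Cfsg.Agent.Lib.helper2 Cfsg.Agent.Lib.helper7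

variable {G : Type*} [Group G]

def fr_cj (N : Subgroup G) [hN : N.Normal] (g : G) (θ : Cfsg.IrrCharacter N) :
    Cfsg.IrrCharacter N :=
  ⟨cj N (θ : N → ℂ) g, isIrr_cj N (θ : N → ℂ) θ.2 g⟩

theorem fr_cj_val (N : Subgroup G) [hN : N.Normal] (g : G) (θ : Cfsg.IrrCharacter N) :
    (fr_cj N g θ : N → ℂ) = cj N (θ : N → ℂ) g := rfl

theorem fr_sameBlock_cj (N : Subgroup G) [hN : N.Normal] [Finite N] {M : Ideal Cfsg.AlgInt} (g : G)
    (θ₁ θ₂ : N → ℂ) (h : Cfsg.SameBlock M θ₁ θ₂) :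
    Cfsg.SameBlock M (cj N θ₁ g) (cj N θ₂ g) :=
  ef_sameBlock_comp (MulAut.conjNormal g : N ≃* N) θ₁ θ₂ h

def fr_res (N T : Subgroup G) (hNT : N ≤ T) (ψ : T → ℂ) : N → ℂ :=
  fun n => ψ ⟨(n : G), hNT n.2⟩

theorem fr_res_apply (N T : Subgroup G) (hNT : N ≤ T) (ψ : T → ℂ) (n : N) :
    fr_res N T hNT ψ n = ψ ⟨(n : G), hNT n.2⟩ := rfl

theorem fr_mem_T_of_cj {M : Ideal Cfsg.AlgInt} (hPr : M.IsPrime) (N : Subgroup G) [hN : N.Normal]
    [Finite N]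
    (b : Set (Cfsg.IrrCharacter N)) (hb : Cfsg.IsPBlock M b) (T : Subgroup G)
    (hT : ∀ g : G, g ∈ T ↔ ∀ θ ∈ b, ∀ θ' : Cfsg.IrrCharacter N,
      (∀ n : N, (θ' : N → ℂ) n = (θ : N → ℂ) ⟨g * n * g⁻¹, hN.conj_mem n n.2 g⟩) → θ' ∈ b)
    (θ : Cfsg.IrrCharacter N) (hθ : θ ∈ b) (g : G) (hg : fr_cj N g θ ∈ b) : g ∈ T := by
  classical
  haveI : Fintype N := Fintype.ofFinite _
  haveI : Fintype (Cfsg.IrrCharacter N) := Fintype.ofFinite _
  rw [hT]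
  intro θ₁ hθ₁ θ' hθ'
  obtain ⟨θ₀, rfl⟩ := hb
  have e : (θ' : N → ℂ) = cj N (θ₁ : N → ℂ) g := funext hθ'
  have h1 : Cfsg.SameBlock M (θ : N → ℂ) (θ₁ : N → ℂ) :=
    h7_sameBlock_trans hPr (h7_sameBlock_symm hθ) hθ₁
  have h2 := fr_sameBlock_cj N g _ _ h1
  change Cfsg.SameBlock M (θ₀ : N → ℂ) (θ' : N → ℂ)
  rw [e]
  exact h7_sameBlock_trans hPr hg h2

theorem fr_cj_mem_of_mem_T (N : Subgroup G) [hN : N.Normal]
    (b : Set (Cfsg.IrrCharacter N)) (T : Subgroup G)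
    (hT : ∀ g : G, g ∈ T ↔ ∀ θ ∈ b, ∀ θ' : Cfsg.IrrCharacter N,
      (∀ n : N, (θ' : N → ℂ) n = (θ : N → ℂ) ⟨g * n * g⁻¹, hN.conj_mem n n.2 g⟩) → θ' ∈ b)
    (θ : Cfsg.IrrCharacter N) (hθ : θ ∈ b) (g : G) (hg : g ∈ T) : fr_cj N g θ ∈ b :=
  (hT g).mp hg θ hθ (fr_cj N g θ) (fun n => rfl)

theorem fr_clifford_conj_le [Fintype G] (N T : Subgroup G) [hN : N.Normal] [Fintype N] [Fintype T]
    (hNT : N ≤ T) (ψ : Cfsg.IrrCharacter T) (θ φ : Cfsg.IrrCharacter N)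
    (h1 : Cfsg.classInner (fr_res N T hNT (ψ : T → ℂ)) (θ : N → ℂ) ≠ 0)
    (h2 : Cfsg.classInner (fr_res N T hNT (ψ : T → ℂ)) (φ : N → ℂ) ≠ 0) :
    ∃ t ∈ T, φ = fr_cj N t θ := by
  classical
  haveI : Fintype (N.subgroupOf T) := Fintype.ofFinite _
  set e : N.subgroupOf T ≃* N := Subgroup.subgroupOfEquivOfLe hNT with he
  have hres : (fun k : N.subgroupOf T => (ψ : T → ℂ) (k : T)) =
      fun k => fr_res N T hNT (ψ : T → ℂ) (e k) := by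
    funext k
    rfl
  have h1' : Cfsg.classInner (fun k : N.subgroupOf T => (ψ : T → ℂ) (k : T))
      (fun k => (θ : N → ℂ) (e k)) ≠ 0 := by
    rw [hres, h7_classInner_comp_equiv e]
    exact h1
  have h2' : Cfsg.classInner (fun k : N.subgroupOf T => (ψ : T → ℂ) (k : T))
      (fun k => (φ : N → ℂ) (e k)) ≠ 0 := by
    rw [hres, h7_classInner_comp_equiv e]
    exact h2
  obtain ⟨t, ht⟩ := h7_clifford_conj (N.subgroupOf T) (ψ : T → ℂ) ψ.2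
    (fun k => (θ : N → ℂ) (e k)) (fun k => (φ : N → ℂ) (e k))
    (h7_isIrr_comp_equiv e _ θ.2) (h7_isIrr_comp_equiv e _ φ.2) h1' h2'
  refine ⟨(t : G), t.2, ?_⟩
  apply Subtype.ext
  funext n
  have h3 := congrFun ht (e.symm n)
  simp only [MulEquiv.apply_symm_apply] at h3
  rw [h3, fr_cj_val, cj_apply, cj_apply]
  congr 1

theorem fr_res_cj_of_mem (N T : Subgroup G) [hN : N.Normal] [Finite T] (hNT : N ≤ T)
    (ψ : Cfsg.IrrCharacter T) (x : G) (hx : x ∈ T) :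
    cj N (fr_res N T hNT (ψ : T → ℂ)) x = fr_res N T hNT (ψ : T → ℂ) := by
  funext n
  rw [cj_apply, fr_res_apply, fr_res_apply]
  have h := irr_conj_invariant ψ ⟨(n : G), hNT n.2⟩ ⟨x, hx⟩
  rw [← h]
  congr 1

theorem fr_indFun_res [Fintype G] (N T : Subgroup G) [hN : N.Normal] (hNT : N ≤ T)
    (ψ : T → ℂ) :
    (fun n : N => Cfsg.indFun T ψ (n : G)) =
      (Nat.card T : ℂ)⁻¹ • ∑ x : G, cj N (fr_res N T hNT ψ) x := by
  funext n
  unfold Cfsg.indFun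
  rw [Pi.smul_apply, smul_eq_mul, Finset.sum_apply]
  congr 1
  rw [← Equiv.sum_comp (Equiv.inv G)]
  refine Finset.sum_congr rfl fun x _ => ?_
  simp only [Equiv.inv_apply, inv_inv]
  rw [cj_apply, fr_res_apply]
  exact h7_extendByZero_mem T ψ _ (hNT (hN.conj_mem n n.2 x))

theorem fr_L1 [Fintype G] {M : Ideal Cfsg.AlgInt} (hPr : M.IsPrime) (N : Subgroup G)
    [hN : N.Normal] [Fintype N]
    (b : Set (Cfsg.IrrCharacter N)) (hb : Cfsg.IsPBlock M b) (T : Subgroup G) [Fintype T]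
    (hT : ∀ g : G, g ∈ T ↔ ∀ θ ∈ b, ∀ θ' : Cfsg.IrrCharacter N,
      (∀ n : N, (θ' : N → ℂ) n = (θ : N → ℂ) ⟨g * n * g⁻¹, hN.conj_mem n n.2 g⟩) → θ' ∈ b)
    (hNT : N ≤ T) (ψ : Cfsg.IrrCharacter T) (θ : Cfsg.IrrCharacter N) (hθ : θ ∈ b)
    (hcon : Cfsg.classInner (fr_res N T hNT (ψ : T → ℂ)) (θ : N → ℂ) ≠ 0) :
    Cfsg.classInner (fun n : N => Cfsg.indFun T (ψ : T → ℂ) (n : G)) (θ : N → ℂ) =
      Cfsg.classInner (fr_res N T hNT (ψ : T → ℂ)) (θ : N → ℂ) := by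
  classical
  rw [fr_indFun_res N T hNT, classInner_smul_left, classInner_sum_left]
  have hterm : ∀ x : G, Cfsg.classInner (cj N (fr_res N T hNT (ψ : T → ℂ)) x) (θ : N → ℂ) =
      if x ∈ T then Cfsg.classInner (fr_res N T hNT (ψ : T → ℂ)) (θ : N → ℂ) else 0 := by
    intro x
    by_cases hx : x ∈ T
    · rw [if_pos hx, fr_res_cj_of_mem N T hNT ψ x hx]
    · rw [if_neg hx]
      by_contra hne
      apply hx
      have h1 := h7_classInner_cj_cj N (cj N (fr_res N T hNT (ψ : T → ℂ)) x) (θ : N → ℂ) x⁻¹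
      rw [cj_mul, mul_inv_cancel, cj_one] at h1
      rw [← h1] at hne
      obtain ⟨t, ht, hte⟩ := fr_clifford_conj_le N T hNT ψ θ (fr_cj N x⁻¹ θ) hcon hne
      have h2 : fr_cj N x⁻¹ θ ∈ b := by
        rw [hte]
        exact fr_cj_mem_of_mem_T N b T hT θ hθ t ht
      have h3 := fr_mem_T_of_cj hPr N b hb T hT θ hθ x⁻¹ h2
      have := T.inv_mem h3
      rwa [inv_inv] at this
  rw [Finset.sum_congr rfl (fun x _ => hterm x), ← Finset.sum_filter, Finset.sum_const,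
    nsmul_eq_mul]
  have hcard : ((Finset.univ.filter (fun x : G => x ∈ T)).card : ℂ) = (Nat.card T : ℂ) := by
    congr 1
    rw [Nat.card_eq_fintype_card, Fintype.card_subtype]
  rw [hcard]
  have hT0 : (Nat.card T : ℂ) ≠ 0 := by exact_mod_cast Nat.card_pos.ne'
  field_simp

end Cfsg.Agent.Lib.Helper24
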