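import Mathlib
import Cfsg.Prelude.Def_Blocks
import Cfsg.Agent.Lib.Helper24.FongReynolds1
import Cfsg.Agent.Lib.Helper25.ItoSolvable

set_option autoImplicit false
set_option linter.style.haveILetI false
set_option linter.unusedSectionVars false
set_option linter.unusedVariables false

namespace Cfsg.Agent.Lib.Helper24

open scoped ComplexConjugate
open Cfsg.Agent.Lib.Helper25 Cfsg.Agent.Lib.Helper11 Cfsg.Agent.Lib.helper2 Cfsg.Agent.Lib.helper7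

variable {G : Type*} [Group G]

theorem fr_res_inner_nat [Fintype G] (N T : Subgroup G) [Fintype N] (hNT : N ≤ T)
    {Ψ : T → ℂ} (hΨ : Cfsg.IsCharacter T Ψ) (θ : Cfsg.IrrCharacter N) :
    ∃ k : ℕ, Cfsg.classInner (fr_res N T hNT Ψ) (θ : N → ℂ) = (k : ℂ) := by
  have h1 : Cfsg.IsCharacter N (fr_res N T hNT Ψ) :=
    isCharacter_comp_hom hΨ (Subgroup.inclusion hNT)
  exact classInner_character_nat h1 (isCharacter_of_irr θ)

theorem fr_inner_res_expand [Fintype G] (N T : Subgroup G) [Fintype N] [Fintype T]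
    [Fintype (Cfsg.IrrCharacter T)] (hNT : N ≤ T)
    (m : Cfsg.IrrCharacter T → ℕ) (θ : N → ℂ) :
    Cfsg.classInner (fr_res N T hNT (∑ ψ' : Cfsg.IrrCharacter T, (m ψ' : ℂ) • (ψ' : T → ℂ))) θ =
      ∑ ψ' : Cfsg.IrrCharacter T, (m ψ' : ℂ) *
        Cfsg.classInner (fr_res N T hNT (ψ' : T → ℂ)) θ := by
  have h1 : fr_res N T hNT (∑ ψ' : Cfsg.IrrCharacter T, (m ψ' : ℂ) • (ψ' : T → ℂ)) =
      ∑ ψ' : Cfsg.IrrCharacter T, (m ψ' : ℂ) • fr_res N T hNT (ψ' : T → ℂ) := by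
    funext n
    simp only [fr_res_apply, Finset.sum_apply, Pi.smul_apply]
  rw [h1, classInner_sum_left]
  refine Finset.sum_congr rfl fun ψ' _ => ?_
  rw [classInner_smul_left]

theorem fr_ind_irr [Fintype G] {M : Ideal Cfsg.AlgInt} (hPr : M.IsPrime) (N : Subgroup G)
    [hN : N.Normal] [Fintype N]
    (b : Set (Cfsg.IrrCharacter N)) (hb : Cfsg.IsPBlock M b) (T : Subgroup G) [Fintype T]
    (hT : ∀ g : G, g ∈ T ↔ ∀ θ ∈ b, ∀ θ' : Cfsg.IrrCharacter N,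
      (∀ n : N, (θ' : N → ℂ) n = (θ : N → ℂ) ⟨g * n * g⁻¹, hN.conj_mem n n.2 g⟩) → θ' ∈ b)
    (hNT : N ≤ T) (ψ : Cfsg.IrrCharacter T) (θ : Cfsg.IrrCharacter N) (hθ : θ ∈ b)
    (hcon : Cfsg.classInner (fr_res N T hNT (ψ : T → ℂ)) (θ : N → ℂ) ≠ 0) :
    Cfsg.IsIrrCharacter G (Cfsg.indFun T (ψ : T → ℂ)) := by
  classical
  haveI : Fintype (Cfsg.IrrCharacter T) := Fintype.ofFinite _
  haveI : Fintype (Cfsg.IrrCharacter G) := Fintype.ofFinite _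
  set Ψ := Cfsg.indFun T (ψ : T → ℂ) with hΨdef
  have hΨ : Cfsg.IsCharacter G Ψ := isCharacter_indFun T _ (isCharacter_of_irr ψ)
  have hcl : Cfsg.IsClassFunction G Ψ := isCharacter_isClassFunction hΨ
  have hΨT : Cfsg.IsCharacter T (fun t : T => Ψ t) := isCharacter_restrict hΨ T
  obtain ⟨m, hm, hexp⟩ := isCharacter_expansion hΨT
  have hfrob : Cfsg.classInner Ψ Ψ = Cfsg.classInner (ψ : T → ℂ) (fun t : T => Ψ t) :=
    h7_frobenius_reciprocity T (ψ : T → ℂ) Ψ hcl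
  have hnorm : Cfsg.classInner Ψ Ψ = (m ψ : ℂ) := by
    rw [hfrob, Cfsg.Agent.Lib.helper2.classInner_conj_symm, hm ψ, Complex.conj_natCast]
  have hL1 := fr_L1 hPr N b hb T hT hNT ψ θ hθ hcon
  have hresN : (fun n : N => Ψ (n : G)) = fr_res N T hNT (fun t : T => Ψ t) := rfl
  rw [← hΨdef, hresN, hexp, fr_inner_res_expand] at hL1
  obtain ⟨f, hf⟩ := fr_res_inner_nat N T hNT (isCharacter_of_irr ψ) θ
  have hf0 : f ≠ 0 := by
    rintro rfl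
    apply hcon
    rw [hf, Nat.cast_zero]
  choose k hk using fun ψ' : Cfsg.IrrCharacter T =>
    fr_res_inner_nat N T hNT (isCharacter_of_irr ψ') θ
  have hkψ : k ψ = f := by
    have := hk ψ
    rw [hf] at this
    exact_mod_cast this.symm
  have hsumN : ∑ ψ' : Cfsg.IrrCharacter T, m ψ' * k ψ' = f := by
    have : ((∑ ψ' : Cfsg.IrrCharacter T, m ψ' * k ψ' : ℕ) : ℂ) = (f : ℂ) := by
      rw [← hf, ← hL1]
      push_cast
      refine Finset.sum_congr rfl fun ψ' _ => ?_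
      rw [hk ψ']
    exact_mod_cast this
  have hle : m ψ * f ≤ f := by
    rw [← hkψ] at hsumN ⊢
    calc m ψ * k ψ ≤ ∑ ψ' : Cfsg.IrrCharacter T, m ψ' * k ψ' :=
          Finset.single_le_sum (f := fun ψ' => m ψ' * k ψ') (fun _ _ => Nat.zero_le _)
            (Finset.mem_univ ψ)
      _ = k ψ := hsumN
  have hm1 : m ψ ≤ 1 := by
    by_contra h
    push Not at h
    have : 2 * f ≤ m ψ * f := Nat.mul_le_mul_right f h
    omega
  obtain ⟨χ, hχ⟩ := itn_exists_over T ψ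
  have hΨχ : Cfsg.classInner Ψ (χ : G → ℂ) ≠ 0 := by
    rw [h7_frobenius_irr T (χ : G → ℂ) (h7_irr_isClassFunction χ.2) (ψ : T → ℂ)]
    intro h
    apply hχ
    have := congrArg conj h
    simpa using this
  obtain ⟨Δ, hΔ, hsplit⟩ := h7_char_split hΨ (χ : G → ℂ) χ.2 hΨχ
  have hχc := isCharacter_of_irr χ
  obtain ⟨a1, ha1⟩ := classInner_character_nat hχc hΔ
  obtain ⟨a2, ha2⟩ := classInner_character_nat hΔ hχc
  obtain ⟨a3, ha3⟩ := classInner_character_nat hΔ hΔ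
  have hnorm2 : Cfsg.classInner Ψ Ψ = ((1 + a1 + (a2 + a3) : ℕ) : ℂ) := by
    rw [hsplit, classInner_add_left, h7_classInner_add_right, h7_classInner_add_right,
      h7_irr_norm χ.2, ha1, ha2, ha3]
    push_cast
    ring
  have hmeq : m ψ = 1 + a1 + (a2 + a3) := by
    have : (m ψ : ℂ) = ((1 + a1 + (a2 + a3) : ℕ) : ℂ) := by rw [← hnorm, hnorm2]
    exact_mod_cast this
  apply h7_irr_of_norm_one hΨ
  rw [hnorm]
  have : m ψ = 1 := by omega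
  rw [this, Nat.cast_one]

theorem fr_over_conj [Fintype G] (N T : Subgroup G) [hN : N.Normal] [Fintype N] [Fintype T]
    (hNT : N ≤ T) (ψ : Cfsg.IrrCharacter T) (θ : Cfsg.IrrCharacter N) (g : G) (hg : g ∈ T) :
    Cfsg.classInner (fr_res N T hNT (ψ : T → ℂ)) (fr_cj N g θ : N → ℂ) =
      Cfsg.classInner (fr_res N T hNT (ψ : T → ℂ)) (θ : N → ℂ) := by
  have h1 := h7_classInner_cj_cj N (fr_res N T hNT (ψ : T → ℂ)) (θ : N → ℂ) g
  rw [fr_res_cj_of_mem N T hNT ψ g hg] at h1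
  exact h1

theorem fr_restrict_mult [Fintype G] (T : Subgroup G) [Fintype T]
    (ψ : Cfsg.IrrCharacter T) (χ : Cfsg.IrrCharacter G)
    (h : (χ : G → ℂ) = Cfsg.indFun T (ψ : T → ℂ)) :
    Cfsg.classInner (fun t : T => (χ : G → ℂ) t) (ψ : T → ℂ) = 1 := by
  have h1 := h7_frobenius_reciprocity T (ψ : T → ℂ) (χ : G → ℂ) (h7_irr_isClassFunction χ.2)
  rw [← h, h7_irr_norm χ.2] at h1
  rw [Cfsg.Agent.Lib.helper2.classInner_conj_symm, ← h1, map_one]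

theorem fr_ind_injective [Fintype G] {M : Ideal Cfsg.AlgInt} (hPr : M.IsPrime) (N : Subgroup G)
    [hN : N.Normal] [Fintype N]
    (b : Set (Cfsg.IrrCharacter N)) (hb : Cfsg.IsPBlock M b) (T : Subgroup G) [Fintype T]
    (hT : ∀ g : G, g ∈ T ↔ ∀ θ ∈ b, ∀ θ' : Cfsg.IrrCharacter N,
      (∀ n : N, (θ' : N → ℂ) n = (θ : N → ℂ) ⟨g * n * g⁻¹, hN.conj_mem n n.2 g⟩) → θ' ∈ b)
    (hNT : N ≤ T) (ψ₁ ψ₂ : Cfsg.IrrCharacter T) (θ₁ θ₂ : Cfsg.IrrCharacter N)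
    (hθ₁ : θ₁ ∈ b) (hθ₂ : θ₂ ∈ b)
    (hcon₁ : Cfsg.classInner (fr_res N T hNT (ψ₁ : T → ℂ)) (θ₁ : N → ℂ) ≠ 0)
    (hcon₂ : Cfsg.classInner (fr_res N T hNT (ψ₂ : T → ℂ)) (θ₂ : N → ℂ) ≠ 0)
    (heq : Cfsg.indFun T (ψ₁ : T → ℂ) = Cfsg.indFun T (ψ₂ : T → ℂ)) : ψ₁ = ψ₂ := by
  classical
  haveI : Fintype (Cfsg.IrrCharacter T) := Fintype.ofFinite _
  set χ : Cfsg.IrrCharacter G := ⟨Cfsg.indFun T (ψ₁ : T → ℂ),
    fr_ind_irr hPr N b hb T hT hNT ψ₁ θ₁ hθ₁ hcon₁⟩ with hχ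
  have hχ1 : (χ : G → ℂ) = Cfsg.indFun T (ψ₁ : T → ℂ) := rfl
  have hχ2 : (χ : G → ℂ) = Cfsg.indFun T (ψ₂ : T → ℂ) := heq ▸ rfl
  have hL1 := fr_L1 hPr N b hb T hT hNT ψ₁ θ₁ hθ₁ hcon₁
  have hL2 := fr_L1 hPr N b hb T hT hNT ψ₂ θ₂ hθ₂ hcon₂
  rw [← hχ1] at hL1
  rw [← hχ2] at hL2
  have hc1 : Cfsg.classInner (fun n : N => (χ : G → ℂ) n) (θ₁ : N → ℂ) ≠ 0 := by
    rw [hL1]; exact hcon₁
  have hc2 : Cfsg.classInner (fun n : N => (χ : G → ℂ) n) (θ₂ : N → ℂ) ≠ 0 := by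
    rw [hL2]; exact hcon₂
  obtain ⟨g, hg⟩ := h7_clifford_conj N (χ : G → ℂ) χ.2 (θ₁ : N → ℂ) (θ₂ : N → ℂ) θ₁.2 θ₂.2 hc1 hc2
  have hθ₂eq : θ₂ = fr_cj N g θ₁ := Subtype.ext hg
  have hgT : g ∈ T := fr_mem_T_of_cj hPr N b hb T hT θ₁ hθ₁ g (hθ₂eq ▸ hθ₂)
  have hcon₁' : Cfsg.classInner (fr_res N T hNT (ψ₁ : T → ℂ)) (θ₂ : N → ℂ) ≠ 0 := by
    rw [hθ₂eq, fr_over_conj N T hNT ψ₁ θ₁ g hgT]
    exact hcon₁
  by_contra hne
  have hχT : Cfsg.IsCharacter T (fun t : T => (χ : G → ℂ) t) :=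
    isCharacter_restrict (isCharacter_of_irr χ) T
  obtain ⟨m, hm, hexp⟩ := isCharacter_expansion hχT
  have hm1 : m ψ₁ = 1 := by
    have := hm ψ₁
    rw [fr_restrict_mult T ψ₁ χ hχ1] at this
    exact_mod_cast this.symm
  have hm2 : m ψ₂ = 1 := by
    have := hm ψ₂
    rw [fr_restrict_mult T ψ₂ χ hχ2] at this
    exact_mod_cast this.symm
  have hresN : (fun n : N => (χ : G → ℂ) (n : G)) =
      fr_res N T hNT (fun t : T => (χ : G → ℂ) t) := rfl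
  rw [hresN, hexp, fr_inner_res_expand] at hL2
  choose k hk using fun ψ' : Cfsg.IrrCharacter T =>
    fr_res_inner_nat N T hNT (isCharacter_of_irr ψ') θ₂
  have hsumN : ∑ ψ' : Cfsg.IrrCharacter T, m ψ' * k ψ' = k ψ₂ := by
    have : ((∑ ψ' : Cfsg.IrrCharacter T, m ψ' * k ψ' : ℕ) : ℂ) = (k ψ₂ : ℂ) := by
      rw [← hk ψ₂, ← hL2]
      push_cast
      refine Finset.sum_congr rfl fun ψ' _ => ?_
      rw [hk ψ']
    exact_mod_cast this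
  have hk1 : k ψ₁ ≠ 0 := by
    intro h0
    apply hcon₁'
    rw [hk ψ₁, h0, Nat.cast_zero]
  have hpair : m ψ₁ * k ψ₁ + m ψ₂ * k ψ₂ ≤ ∑ ψ' : Cfsg.IrrCharacter T, m ψ' * k ψ' := by
    have hsub : ({ψ₁, ψ₂} : Finset (Cfsg.IrrCharacter T)) ⊆ Finset.univ := Finset.subset_univ _
    have := Finset.sum_le_sum_of_subset (f := fun ψ' => m ψ' * k ψ') hsub
    rw [Finset.sum_pair hne] at this
    exact this
  rw [hsumN, hm1, hm2] at hpair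
  omega

theorem fr_ind_surjective [Fintype G] {M : Ideal Cfsg.AlgInt} (hPr : M.IsPrime) (N : Subgroup G)
    [hN : N.Normal] [Fintype N]
    (b : Set (Cfsg.IrrCharacter N)) (hb : Cfsg.IsPBlock M b) (T : Subgroup G) [Fintype T]
    (hT : ∀ g : G, g ∈ T ↔ ∀ θ ∈ b, ∀ θ' : Cfsg.IrrCharacter N,
      (∀ n : N, (θ' : N → ℂ) n = (θ : N → ℂ) ⟨g * n * g⁻¹, hN.conj_mem n n.2 g⟩) → θ' ∈ b)
    (hNT : N ≤ T) (χ : Cfsg.IrrCharacter G) (θ : Cfsg.IrrCharacter N) (hθ : θ ∈ b)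
    (hcon : Cfsg.classInner (fun n : N => (χ : G → ℂ) n) (θ : N → ℂ) ≠ 0) :
    ∃ ψ : Cfsg.IrrCharacter T, Cfsg.classInner (fr_res N T hNT (ψ : T → ℂ)) (θ : N → ℂ) ≠ 0 ∧
      (χ : G → ℂ) = Cfsg.indFun T (ψ : T → ℂ) := by
  classical
  haveI : Fintype (Cfsg.IrrCharacter T) := Fintype.ofFinite _
  have hχT : Cfsg.IsCharacter T (fun t : T => (χ : G → ℂ) t) :=
    isCharacter_restrict (isCharacter_of_irr χ) T
  obtain ⟨m, hm, hexp⟩ := isCharacter_expansion hχT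
  have hresN : (fun n : N => (χ : G → ℂ) (n : G)) =
      fr_res N T hNT (fun t : T => (χ : G → ℂ) t) := rfl
  rw [hresN, hexp, fr_inner_res_expand] at hcon
  obtain ⟨ψ, -, hψ⟩ := Finset.exists_ne_zero_of_sum_ne_zero hcon
  have hmψ : (m ψ : ℂ) ≠ 0 := left_ne_zero_of_mul hψ
  have hkψ := right_ne_zero_of_mul hψ
  refine ⟨ψ, hkψ, ?_⟩
  have hirr := fr_ind_irr hPr N b hb T hT hNT ψ θ hθ hkψ
  by_contra hne
  have h0 := h7_irr_inner_ne hirr χ.2 (fun h => hne h.symm)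
  rw [h7_frobenius_irr T (χ : G → ℂ) (h7_irr_isClassFunction χ.2) (ψ : T → ℂ), hm ψ,
    Complex.conj_natCast] at h0
  exact hmψ h0

end Cfsg.Agent.Lib.Helper24
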