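import Mathlib
import Cfsg.Prelude.Def_Blocks
import Cfsg.Agent.Lib.Helper24.FongReynolds2
import Cfsg.Agent.Lib.helper7.BlockDefGrp
import Cfsg.Agent.Lib.Helper11.IndTrans
import Cfsg.Agent.S0964

set_option autoImplicit false
set_option linter.style.haveILetI false
set_option linter.unusedSectionVars false
set_option linter.unusedVariables false

namespace Cfsg.Agent.Lib.Helper24

open scoped ComplexConjugate
open Cfsg.Agent.Lib.Helper25 Cfsg.Agent.Lib.Helper11 Cfsg.Agent.Lib.helper2 Cfsg.Agent.Lib.helper7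

variable {G : Type*} [Group G]

theorem fr_cov [Fintype G] {p : ℕ} [Fact p.Prime] {M : Ideal Cfsg.AlgInt}
    (hM : Cfsg.IsPModular p M) (N : Subgroup G)
    [hN : N.Normal] [Fintype N]
    (b : Set (Cfsg.IrrCharacter N)) (hb : Cfsg.IsPBlock M b) (T : Subgroup G) [Fintype T]
    (hT : ∀ g : G, g ∈ T ↔ ∀ θ ∈ b, ∀ θ' : Cfsg.IrrCharacter N,
      (∀ n : N, (θ' : N → ℂ) n = (θ : N → ℂ) ⟨g * n * g⁻¹, hN.conj_mem n n.2 g⟩) → θ' ∈ b)
    (hNT : N ≤ T) (B' : Set (Cfsg.IrrCharacter T)) (hB' : Cfsg.IsPBlock M B')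
    (ψ₀ : Cfsg.IrrCharacter T) (hψ₀ : ψ₀ ∈ B') (θ₀ : Cfsg.IrrCharacter N) (hθ₀ : θ₀ ∈ b)
    (hcon : Cfsg.classInner (fr_res N T hNT (ψ₀ : T → ℂ)) (θ₀ : N → ℂ) ≠ 0)
    (ψ : Cfsg.IrrCharacter T) (hψ : ψ ∈ B') :
    ∃ θ ∈ b, Cfsg.classInner (fr_res N T hNT (ψ : T → ℂ)) (θ : N → ℂ) ≠ 0 := by
  classical
  have hPr := hM.2.1.isPrime
  haveI : Fintype (N.subgroupOf T) := Fintype.ofFinite _
  haveI : Fintype (Cfsg.IrrCharacter (N.subgroupOf T)) := Fintype.ofFinite _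
  haveI : Fintype (Cfsg.IrrCharacter N) := Fintype.ofFinite _
  haveI : (N.subgroupOf T).Normal := hN.subgroupOf T
  set e : N.subgroupOf T ≃* N := Subgroup.subgroupOfEquivOfLe hNT with he
  have hres : ∀ ψ' : Cfsg.IrrCharacter T, (fun k : N.subgroupOf T => (ψ' : T → ℂ) (k : T)) =
      fun k => fr_res N T hNT (ψ' : T → ℂ) (e k) := by
    intro ψ'
    funext k
    rfl
  have hcon' : Cfsg.classInner (fun k : N.subgroupOf T => (ψ₀ : T → ℂ) (k : T))
      (ef_tr e θ₀ : N.subgroupOf T → ℂ) ≠ 0 := by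
    rw [hres]
    change Cfsg.classInner _ (fun k => (θ₀ : N → ℂ) (e k)) ≠ 0
    rw [h7_classInner_comp_equiv e]
    exact hcon
  have hψK : Cfsg.IsCharacter (N.subgroupOf T) (fun k : N.subgroupOf T => (ψ : T → ℂ) (k : T)) :=
    isCharacter_restrict (isCharacter_of_irr ψ) (N.subgroupOf T)
  obtain ⟨φ, m, hm, hφ⟩ := isCharacter_exists_constituent hψK (irr_one_ne_zero ψ)
  have hφ0 : Cfsg.classInner (fun k : N.subgroupOf T => (ψ : T → ℂ) (k : T))
      (φ : N.subgroupOf T → ℂ) ≠ 0 := by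
    rw [hφ]
    exact_mod_cast hm.ne'
  obtain ⟨g, θ', hθ', hg⟩ := Cfsg.Agent.S0964.result p M hM (N.subgroupOf T) B' hB'
    (Cfsg.blockOf M (ef_tr e θ₀ : N.subgroupOf T → ℂ)) ⟨_, rfl⟩ ψ₀ hψ₀ (ef_tr e θ₀)
    (h7_sameBlock_refl hPr _) hcon' ψ hψ φ hφ0
  have hθ'' : ef_tr e.symm θ' ∈ b := by
    obtain ⟨θ₁, rfl⟩ := hb
    have h1 : Cfsg.SameBlock M (θ₁ : N → ℂ) (θ₀ : N → ℂ) := hθ₀
    have h2 := ef_sameBlock_comp e.symm _ _ hθ'
    have h3 : (fun a => (ef_tr e θ₀ : N.subgroupOf T → ℂ) (e.symm a)) = (θ₀ : N → ℂ) := by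
      funext a
      rw [ef_tr_apply, MulEquiv.apply_symm_apply]
    rw [h3] at h2
    exact h7_sameBlock_trans hPr h1 h2
  refine ⟨fr_cj N (g : G) (ef_tr e.symm θ'), fr_cj_mem_of_mem_T N b T hT _ hθ'' g g.2, ?_⟩
  have h4 : (fr_cj N (g : G) (ef_tr e.symm θ') : N → ℂ) = fun n => (φ : N.subgroupOf T → ℂ) (e.symm n) := by
    funext n
    rw [fr_cj_val, cj_apply, hg, ef_tr_apply]
    congr 1
  rw [h4]
  have h5 := h7_classInner_comp_equiv e.symm (fun k : N.subgroupOf T => (ψ : T → ℂ) (k : T))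
    (φ : N.subgroupOf T → ℂ)
  rw [← h5] at hφ0
  convert hφ0 using 2
  funext a
  rfl

theorem fr_card_centralizer_dvd [Finite G] (T : Subgroup G) (l : T) :
    Nat.card (Subgroup.centralizer ({l} : Set T)) ∣
      Nat.card (Subgroup.centralizer ({(l : G)} : Set G)) := by
  have hle : (Subgroup.centralizer ({l} : Set T)).map T.subtype ≤
      Subgroup.centralizer ({(l : G)} : Set G) := by
    rintro _ ⟨t, ht, rfl⟩
    rw [SetLike.mem_coe, Subgroup.mem_centralizer_singleton_iff] at ht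
    rw [Subgroup.mem_centralizer_singleton_iff]
    have := congrArg (Subtype.val) ht
    simpa using this
  have := Subgroup.card_dvd_of_le hle
  rwa [Subgroup.card_map_of_injective T.subtype_injective] at this

theorem fr_ind_memLocalRing [Fintype G] {M : Ideal Cfsg.AlgInt} (hPr : M.IsPrime)
    (T : Subgroup G) [Fintype T]
    (F : T → ℂ) (hcl : ∀ t s : T, F (s * t * s⁻¹) = F t)
    (hF : ∀ t, Cfsg.MemLocalRing M (F t)) (g : G) :
    Cfsg.MemLocalRing M (Cfsg.indFun T F g) := by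
  classical
  haveI : Fintype (ConjClasses T) := Fintype.ofFinite _
  rw [h7_indFun_eq_class_sum T F g]
  have hf : ∀ t s : T, (if IsConj g ((s * t * s⁻¹ : T) : G) then F (s * t * s⁻¹) else 0) =
      if IsConj g (t : G) then F t else 0 := by
    intro t s
    have hiff : IsConj g ((s * t * s⁻¹ : T) : G) ↔ IsConj g (t : G) := by
      have hc : IsConj (t : G) ((s * t * s⁻¹ : T) : G) := by
        rw [isConj_iff]
        exact ⟨(s : G), by simp⟩
      exact ⟨fun h => h.trans hc.symm, fun h => h.trans hc⟩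
    rw [hcl t s]
    simp only [hiff]
  rw [h7_sum_eq_sum_conjClasses (fun t : T => if IsConj g (t : G) then F t else 0) hf,
    Finset.mul_sum, Finset.mul_sum]
  apply h7_memLocalRing_sum hPr
  intro K _
  set l : T := Quotient.out K with hl
  by_cases hc : IsConj g (l : G)
  · rw [if_pos hc]
    obtain ⟨x, hx⟩ := isConj_iff.mp hc
    have h1 : Nat.card (Subgroup.centralizer ({g} : Set G)) =
        Nat.card (Subgroup.centralizer ({(l : G)} : Set G)) := by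
      rw [← hx, h7_card_centralizer_conj]
    obtain ⟨n, hn⟩ := fr_card_centralizer_dvd T l
    have h2 := Subgroup.index_mul_card (Subgroup.centralizer ({l} : Set T))
    have hc0 : (Nat.card (Subgroup.centralizer ({l} : Set T)) : ℂ) ≠ 0 := by
      exact_mod_cast Nat.card_pos.ne'
    have ha0 : ((Subgroup.centralizer ({l} : Set T)).index : ℂ) ≠ 0 := by
      exact_mod_cast Subgroup.index_ne_zero_of_finite
    have : (Nat.card T : ℂ)⁻¹ * ((Nat.card (Subgroup.centralizer ({g} : Set G)) : ℂ) *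
        ((Subgroup.centralizer ({l} : Set T)).index • F l)) = (n : ℂ) * F l := by
      rw [h1, hn, ← h2, nsmul_eq_mul]
      push_cast
      field_simp
    rw [this]
    exact h7_memLocalRing_mul hPr (h7_memLocalRing_natCast hPr n) (hF l)
  · rw [if_neg hc, smul_zero, mul_zero, mul_zero]
    exact h7_memLocalRing_zero hPr

theorem fr_indFun_conj [Fintype G] (H : Subgroup G) (θ : H → ℂ) (g : G) :
    Cfsg.indFun H (fun h => conj (θ h)) g = conj (Cfsg.indFun H θ g) := by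
  unfold Cfsg.indFun
  rw [map_mul, map_inv₀, map_natCast, map_sum]
  congr 1
  refine Finset.sum_congr rfl fun x _ => ?_
  by_cases hx : x⁻¹ * g * x ∈ H
  · rw [h7_extendByZero_mem H _ _ hx, h7_extendByZero_mem H _ _ hx]
  · rw [h7_extendByZero_not_mem H _ _ hx, h7_extendByZero_not_mem H _ _ hx, map_zero]

theorem fr_blockCoeff_ind [Fintype G] {M : Ideal Cfsg.AlgInt} (hPr : M.IsPrime) (N : Subgroup G)
    [hN : N.Normal] [Fintype N]
    (b : Set (Cfsg.IrrCharacter N)) (hb : Cfsg.IsPBlock M b) (T : Subgroup G) [Fintype T]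
    (hT : ∀ g : G, g ∈ T ↔ ∀ θ ∈ b, ∀ θ' : Cfsg.IrrCharacter N,
      (∀ n : N, (θ' : N → ℂ) n = (θ : N → ℂ) ⟨g * n * g⁻¹, hN.conj_mem n n.2 g⟩) → θ' ∈ b)
    (hNT : N ≤ T) (B' : Set (Cfsg.IrrCharacter T))
    (hover : ∀ ψ ∈ B', ∃ θ ∈ b, Cfsg.classInner (fr_res N T hNT (ψ : T → ℂ)) (θ : N → ℂ) ≠ 0)
    (g : G) :
    Cfsg.blockCoeff {χ : Cfsg.IrrCharacter G | ∃ ψ ∈ B', (χ : G → ℂ) = Cfsg.indFun T (ψ : T → ℂ)} g =
      Cfsg.indFun T (fun t => Cfsg.blockCoeff B' t) g := by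
  classical
  haveI : Fintype (Cfsg.IrrCharacter T) := Fintype.ofFinite _
  haveI : Fintype (Cfsg.IrrCharacter G) := Fintype.ofFinite _
  have hfun : (fun t : T => Cfsg.blockCoeff B' t) = (Nat.card T : ℂ)⁻¹ •
      ∑ ψ ∈ Finset.univ.filter (fun ψ : Cfsg.IrrCharacter T => ψ ∈ B'),
        ((ψ : T → ℂ) 1) • (fun t : T => conj ((ψ : T → ℂ) t)) := by
    funext t
    unfold Cfsg.blockCoeff
    rw [h7_finsum_mem_fintype, ← Finset.sum_filter]
    simp only [Pi.smul_apply, Finset.sum_apply, smul_eq_mul]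
  rw [hfun, Cfsg.Agent.Lib.Helper11.indFun_smul, Cfsg.Agent.Lib.Helper11.indFun_sum]
  simp only [Cfsg.Agent.Lib.Helper11.indFun_smul, Pi.smul_apply, Finset.sum_apply, smul_eq_mul,
    fr_indFun_conj]
  unfold Cfsg.blockCoeff
  rw [h7_finsum_mem_fintype, ← Finset.sum_filter]
  have hbij : ∑ χ ∈ Finset.univ.filter (fun χ : Cfsg.IrrCharacter G =>
      χ ∈ {χ : Cfsg.IrrCharacter G | ∃ ψ ∈ B', (χ : G → ℂ) = Cfsg.indFun T (ψ : T → ℂ)}),
        (χ : G → ℂ) 1 * conj ((χ : G → ℂ) g) =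
      ∑ ψ ∈ Finset.univ.filter (fun ψ : Cfsg.IrrCharacter T => ψ ∈ B'),
        (T.index : ℂ) * ((ψ : T → ℂ) 1 * conj (Cfsg.indFun T (ψ : T → ℂ) g)) := by
    symm
    refine Finset.sum_bij (fun ψ hψ => (⟨Cfsg.indFun T (ψ : T → ℂ), ?_⟩ : Cfsg.IrrCharacter G))
      ?_ ?_ ?_ ?_
    · obtain ⟨θ, hθ, hc⟩ := hover ψ (Finset.mem_filter.mp hψ).2
      exact fr_ind_irr hPr N b hb T hT hNT ψ θ hθ hc
    · intro ψ hψ
      rw [Finset.mem_filter]
      exact ⟨Finset.mem_univ _, ψ, (Finset.mem_filter.mp hψ).2, rfl⟩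
    · intro ψ₁ hψ₁ ψ₂ hψ₂ heq
      obtain ⟨θ₁, hθ₁, hc₁⟩ := hover ψ₁ (Finset.mem_filter.mp hψ₁).2
      obtain ⟨θ₂, hθ₂, hc₂⟩ := hover ψ₂ (Finset.mem_filter.mp hψ₂).2
      exact fr_ind_injective hPr N b hb T hT hNT ψ₁ ψ₂ θ₁ θ₂ hθ₁ hθ₂ hc₁ hc₂
        (congrArg Subtype.val heq)
    · intro χ hχ
      obtain ⟨ψ, hψ, he⟩ := (Finset.mem_filter.mp hχ).2
      exact ⟨ψ, Finset.mem_filter.mpr ⟨Finset.mem_univ _, hψ⟩, Subtype.ext he.symm⟩
    · intro ψ hψ
      change _ = Cfsg.indFun T (ψ : T → ℂ) 1 * conj (Cfsg.indFun T (ψ : T → ℂ) g)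
      rw [h7_indFun_one]
      ring
  rw [hbij, ← Finset.mul_sum, ← mul_assoc]
  congr 1
  have h2 := Subgroup.index_mul_card T
  have hT0 : (Nat.card T : ℂ) ≠ 0 := by exact_mod_cast Nat.card_pos.ne'
  have hG0 : (Nat.card G : ℂ) ≠ 0 := by exact_mod_cast Nat.card_pos.ne'
  have hI0 : (T.index : ℂ) ≠ 0 := by exact_mod_cast Subgroup.index_ne_zero_of_finite
  rw [← h2]
  push_cast
  field_simp

end Cfsg.Agent.Lib.Helper24
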