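import Mathlib
import Cfsg.Prelude.Def_Blocks
import Cfsg.Agent.Lib.Helper24.FongReynolds3
import Cfsg.Agent.Lib.Helper25.BlockPIndex
import Cfsg.Agent.Lib.helper7.BlockBrauer2
import Cfsg.Agent.S0913
import Cfsg.Agent.S0932

set_option autoImplicit false
set_option linter.style.haveILetI false
set_option linter.unusedSectionVars false
set_option linter.unusedVariables false

namespace Cfsg.Agent.Lib.Helper24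

open scoped ComplexConjugate
open Cfsg.Agent.Lib.Helper25 Cfsg.Agent.Lib.Helper11 Cfsg.Agent.Lib.helper2 Cfsg.Agent.Lib.helper7

variable {G : Type*} [Group G]

theorem fr_block_eq_of_mem [Fintype G] {M : Ideal Cfsg.AlgInt} (hPr : M.IsPrime)
    (B₁ B₂ : Set (Cfsg.IrrCharacter G)) (h₁ : Cfsg.IsPBlock M B₁) (h₂ : Cfsg.IsPBlock M B₂)
    (χ : Cfsg.IrrCharacter G) (hχ₁ : χ ∈ B₁) (hχ₂ : χ ∈ B₂) : B₁ = B₂ := by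
  haveI : Fintype (Cfsg.IrrCharacter G) := Fintype.ofFinite _
  obtain ⟨χ₁, rfl⟩ := h₁
  obtain ⟨χ₂, rfl⟩ := h₂
  rw [h7_blockOf_eq_of_mem hPr χ₁ χ hχ₁, h7_blockOf_eq_of_mem hPr χ₂ χ hχ₂]

theorem fr_induced_unique [Fintype G] {M : Ideal Cfsg.AlgInt} (hPr : M.IsPrime) (T : Subgroup G)
    [Fintype T]
    (B' : Set (Cfsg.IrrCharacter T)) (B₁ B₂ : Set (Cfsg.IrrCharacter G))
    (h₁ : Cfsg.IsInducedBlock M T B' B₁) (h₂ : Cfsg.IsInducedBlock M T B' B₂) : B₁ = B₂ := by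
  haveI : Fintype (Cfsg.IrrCharacter G) := Fintype.ofFinite _
  haveI : Fintype (Cfsg.IrrCharacter T) := Fintype.ofFinite _
  obtain ⟨⟨ψ', rfl⟩, hB₁, hi₁⟩ := h₁
  obtain ⟨-, hB₂, hi₂⟩ := h₂
  have hψ' : ψ' ∈ Cfsg.blockOf M (ψ' : T → ℂ) := h7_sameBlock_refl hPr _
  obtain ⟨χ₁, rfl⟩ := hB₁
  obtain ⟨χ₂, rfl⟩ := hB₂
  have hχ₁ : χ₁ ∈ Cfsg.blockOf M (χ₁ : G → ℂ) := h7_sameBlock_refl hPr _
  have hχ₂ : χ₂ ∈ Cfsg.blockOf M (χ₂ : G → ℂ) := h7_sameBlock_refl hPr _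
  have hs : χ₂ ∈ Cfsg.blockOf M (χ₁ : G → ℂ) := by
    intro g
    have a := hi₁ ψ' hψ' χ₁ hχ₁ g
    have c := hi₂ ψ' hψ' χ₂ hχ₂ g
    have := h7_memLocalIdeal_sub hPr c a
    convert this using 1
    ring
  exact h7_blockOf_eq_of_mem hPr χ₁ χ₂ hs

theorem fr_part1 [Fintype G] {p : ℕ} [Fact p.Prime] {M : Ideal Cfsg.AlgInt}
    (hM : Cfsg.IsPModular p M) (N : Subgroup G)
    [hN : N.Normal] [Fintype N]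
    (b : Set (Cfsg.IrrCharacter N)) (hb : Cfsg.IsPBlock M b) (T : Subgroup G) [Fintype T]
    (hT : ∀ g : G, g ∈ T ↔ ∀ θ ∈ b, ∀ θ' : Cfsg.IrrCharacter N,
      (∀ n : N, (θ' : N → ℂ) n = (θ : N → ℂ) ⟨g * n * g⁻¹, hN.conj_mem n n.2 g⟩) → θ' ∈ b)
    (hNT : N ≤ T) (B' : Set (Cfsg.IrrCharacter T)) (hB' : Cfsg.IsPBlock M B')
    (hcov : ∃ ψ ∈ B', ∃ θ ∈ b, Cfsg.classInner (fr_res N T hNT (ψ : T → ℂ)) (θ : N → ℂ) ≠ 0) :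
    Cfsg.IsInducedBlock M T B'
        {χ : Cfsg.IrrCharacter G | ∃ ψ ∈ B', (χ : G → ℂ) = Cfsg.indFun T (ψ : T → ℂ)} ∧
      (∃ χ ∈ {χ : Cfsg.IrrCharacter G | ∃ ψ ∈ B', (χ : G → ℂ) = Cfsg.indFun T (ψ : T → ℂ)},
        ∃ θ ∈ b, Cfsg.classInner (fun n : N => (χ : G → ℂ) n) (θ : N → ℂ) ≠ 0) ∧
      (∀ ψ ∈ B', Cfsg.IsIrrCharacter G (Cfsg.indFun T (ψ : T → ℂ))) ∧
      (∀ ψ ∈ B', ∃ θ ∈ b, Cfsg.classInner (fr_res N T hNT (ψ : T → ℂ)) (θ : N → ℂ) ≠ 0) := by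
  classical
  have hPr := hM.2.1.isPrime
  haveI : Fintype (Cfsg.IrrCharacter T) := Fintype.ofFinite _
  haveI : Fintype (Cfsg.IrrCharacter G) := Fintype.ofFinite _
  obtain ⟨ψ₀, hψ₀, θ₀, hθ₀, hcon₀⟩ := hcov
  have hover : ∀ ψ ∈ B', ∃ θ ∈ b,
      Cfsg.classInner (fr_res N T hNT (ψ : T → ℂ)) (θ : N → ℂ) ≠ 0 :=
    fun ψ hψ => fr_cov hM N b hb T hT hNT B' hB' ψ₀ hψ₀ θ₀ hθ₀ hcon₀ ψ hψ
  have hirr : ∀ ψ ∈ B', Cfsg.IsIrrCharacter G (Cfsg.indFun T (ψ : T → ℂ)) := by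
    intro ψ hψ
    obtain ⟨θ, hθ, hc⟩ := hover ψ hψ
    exact fr_ind_irr hPr N b hb T hT hNT ψ θ hθ hc
  set X : Set (Cfsg.IrrCharacter G) :=
    {χ : Cfsg.IrrCharacter G | ∃ ψ ∈ B', (χ : G → ℂ) = Cfsg.indFun T (ψ : T → ℂ)} with hX
  set χ₀ : Cfsg.IrrCharacter G := ⟨Cfsg.indFun T (ψ₀ : T → ℂ), hirr ψ₀ hψ₀⟩ with hχ₀
  have hχ₀X : χ₀ ∈ X := ⟨ψ₀, hψ₀, rfl⟩
  have hloc : ∀ g : G, Cfsg.MemLocalRing M (Cfsg.blockCoeff X g) := by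
    intro g
    rw [hX, fr_blockCoeff_ind hPr N b hb T hT hNT B' hover g]
    apply fr_ind_memLocalRing hPr T
    · intro t s
      exact bu_blockCoeff_conj B' t s
    · intro t
      exact Cfsg.Agent.S0913.result p M hM B' hB' t
  have hsub : Cfsg.blockOf M (χ₀ : G → ℂ) ⊆ X := h7_union_of_blocks hPr X hloc χ₀ hχ₀X
  have hsame : ∀ ψ₁ ∈ B', ∀ ψ₂ ∈ B', Cfsg.SameBlock M (ψ₁ : T → ℂ) (ψ₂ : T → ℂ) := by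
    intro ψ₁ h₁ ψ₂ h₂
    obtain ⟨ψ', rfl⟩ := hB'
    exact h7_sameBlock_trans hPr (h7_sameBlock_symm h₁) h₂
  have hsup : X ⊆ Cfsg.blockOf M (χ₀ : G → ℂ) := by
    rintro χ ⟨ψ, hψ, he⟩ g
    change Cfsg.MemLocalIdeal M (Cfsg.centralChar (Cfsg.indFun T (ψ₀ : T → ℂ)) g -
      Cfsg.centralChar (χ : G → ℂ) g)
    rw [he, ← Cfsg.Agent.S0932.induced_eq, ← Cfsg.Agent.S0932.induced_eq]
    exact h7_icc_congr' T hPr ψ₀ ψ (hsame ψ₀ hψ₀ ψ hψ) g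
  have hXeq : X = Cfsg.blockOf M (χ₀ : G → ℂ) := Set.Subset.antisymm hsup hsub
  refine ⟨⟨hB', ⟨χ₀, hXeq⟩, ?_⟩, ⟨χ₀, hχ₀X, θ₀, hθ₀, ?_⟩, hirr, hover⟩
  · rintro ξ hξ χ ⟨ψ, hψ, he⟩ g
    rw [he, ← Cfsg.Agent.S0932.induced_eq]
    exact h7_icc_congr' T hPr ξ ψ (hsame ξ hξ ψ hψ) g
  · have := fr_L1 hPr N b hb T hT hNT ψ₀ θ₀ hθ₀ hcon₀
    change Cfsg.classInner (fun n : N => Cfsg.indFun T (ψ₀ : T → ℂ) (n : G)) (θ₀ : N → ℂ) ≠ 0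
    rw [this]
    exact hcon₀

theorem fr_main {G : Type*} [Group G] [Fintype G] (p : ℕ) [Fact p.Prime] (M : Ideal Cfsg.AlgInt) (hM : Cfsg.IsPModular p M) (N : Subgroup G) [hN : N.Normal] [Fintype N] (b : Set (Cfsg.IrrCharacter N)) (hb : Cfsg.IsPBlock M b) (T : Subgroup G) [Fintype T] (hT : ∀ g : G, g ∈ T ↔ ∀ θ ∈ b, ∀ θ' : Cfsg.IrrCharacter N, (∀ n : N, (θ' : N → ℂ) n = (θ : N → ℂ) ⟨g * n * g⁻¹, hN.conj_mem n n.2 g⟩) → θ' ∈ b) (hNT : N ≤ T) : (∀ B' : Set (Cfsg.IrrCharacter T), Cfsg.IsPBlock M B' → (∃ ψ ∈ B', ∃ θ ∈ b, Cfsg.classInner (fun n : N => (ψ : T → ℂ) ⟨(n : G), hNT n.2⟩) (θ : N → ℂ) ≠ 0) → ∃ B : Set (Cfsg.IrrCharacter G), Cfsg.IsInducedBlock M T B' B ∧ (∃ χ ∈ B, ∃ θ ∈ b, Cfsg.classInner (fun n : N => (χ : G → ℂ) n) (θ : N → ℂ) ≠ 0) ∧ (∀ ψ ∈ B', Cfsg.IsIrrCharacter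 G (Cfsg.indFun T (ψ : T → ℂ))) ∧ ∀ χ : Cfsg.IrrCharacter G, χ ∈ B ↔ ∃ ψ ∈ B', (χ : G → ℂ) = Cfsg.indFun T (ψ : T → ℂ)) ∧ (∀ B'₁ B'₂ : Set (Cfsg.IrrCharacter T), Cfsg.IsPBlock M B'₁ → Cfsg.IsPBlock M B'₂ → (∃ ψ ∈ B'₁, ∃ θ ∈ b, Cfsg.classInner (fun n : N => (ψ : T → ℂ) ⟨(n : G), hNT n.2⟩) (θ : N → ℂ) ≠ 0) → (∃ ψ ∈ B'₂, ∃ θ ∈ b, Cfsg.classInner (fun n : N => (ψ : T → ℂ) ⟨(n : G), hNT n.2⟩) (θ : N → ℂ) ≠ 0) → ∀ B : Set (Cfsg.IrrCharacter G), Cfsg.IsInducedBlock M T B'₁ B → Cfsg.IsInducedBlock M T B'₂ B → B'₁ = B'₂) ∧ (∀ B : Set (Cfsg.IrrCharacter G), Cfsg.IsPBlock M B → (∃ χ ∈ B, ∃ θ ∈ b, Cfsg.classInner (fun n : N => (χ : G → ℂ) n) (θ : N → ℂ) ≠ 0) → ∃ B' : Set (Cfsg.IrrCharacter T), Cfsg.IsPBlock M B' ∧ (∃ ψ ∈ B', ∃ θ ∈ b, Cfsg.classInner (fun n : N => (ψ : T → ℂ) ⟨(n :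 G), hNT n.2⟩) (θ : N → ℂ) ≠ 0) ∧ Cfsg.IsInducedBlock M T B' B) := by
  classical
  have hPr := hM.2.1.isPrime
  haveI : Fintype (Cfsg.IrrCharacter T) := Fintype.ofFinite _
  haveI : Fintype (Cfsg.IrrCharacter G) := Fintype.ofFinite _
  refine ⟨?_, ?_, ?_⟩
  · intro B' hB' hcov
    obtain ⟨h1, h2, h3, -⟩ := fr_part1 hM N b hb T hT hNT B' hB' hcov
    exact ⟨_, h1, h2, h3, fun χ => Iff.rfl⟩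
  · intro B'₁ B'₂ hB'₁ hB'₂ hcov₁ hcov₂ B hi₁ hi₂
    obtain ⟨h1, -, hirr₁, hover₁⟩ := fr_part1 hM N b hb T hT hNT B'₁ hB'₁ hcov₁
    obtain ⟨h2, -, hirr₂, hover₂⟩ := fr_part1 hM N b hb T hT hNT B'₂ hB'₂ hcov₂
    have e1 := fr_induced_unique hPr T B'₁ _ _ h1 hi₁
    have e2 := fr_induced_unique hPr T B'₂ _ _ h2 hi₂
    obtain ⟨ψ₁, hψ₁, -⟩ := hcov₁
    have hmem : (⟨Cfsg.indFun T (ψ₁ : T → ℂ), hirr₁ ψ₁ hψ₁⟩ : Cfsg.IrrCharacter G) ∈ B := by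
      rw [← e1]
      exact ⟨ψ₁, hψ₁, rfl⟩
    rw [← e2] at hmem
    obtain ⟨ψ₂, hψ₂, he⟩ := hmem
    obtain ⟨θ₁, hθ₁, hc₁⟩ := hover₁ ψ₁ hψ₁
    obtain ⟨θ₂, hθ₂, hc₂⟩ := hover₂ ψ₂ hψ₂
    have heq := fr_ind_injective hPr N b hb T hT hNT ψ₁ ψ₂ θ₁ θ₂ hθ₁ hθ₂ hc₁ hc₂ he
    exact fr_block_eq_of_mem hPr B'₁ B'₂ hB'₁ hB'₂ ψ₁ hψ₁ (heq ▸ hψ₂)
  · intro B hB hcov
    obtain ⟨χ, hχ, θ, hθ, hcon⟩ := hcov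
    obtain ⟨ψ, hψ, he⟩ := fr_ind_surjective hPr N b hb T hT hNT χ θ hθ hcon
    have hψmem : ψ ∈ Cfsg.blockOf M (ψ : T → ℂ) := h7_sameBlock_refl hPr _
    have hcov' : ∃ ψ' ∈ Cfsg.blockOf M (ψ : T → ℂ), ∃ θ ∈ b,
        Cfsg.classInner (fr_res N T hNT (ψ' : T → ℂ)) (θ : N → ℂ) ≠ 0 := ⟨ψ, hψmem, θ, hθ, hψ⟩
    obtain ⟨h1, -, -, -⟩ := fr_part1 hM N b hb T hT hNT _ ⟨ψ, rfl⟩ hcov'
    have hχX : χ ∈ {χ : Cfsg.IrrCharacter G | ∃ ψ' ∈ Cfsg.blockOf M (ψ : T → ℂ),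
        (χ : G → ℂ) = Cfsg.indFun T (ψ' : T → ℂ)} := ⟨ψ, hψmem, he⟩
    have hBX := fr_block_eq_of_mem hPr _ B h1.2.1 hB χ hχX hχ
    refine ⟨_, ⟨ψ, rfl⟩, hcov', ?_⟩
    rw [← hBX]
    exact h1

end Cfsg.Agent.Lib.Helper24
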