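import Mathlib
import Cfsg.Prelude.Def_Blocks
import Cfsg.Agent.Lib.Helper24.FongReynolds4
import Cfsg.Agent.Lib.Helper25.CharAbelian
import Cfsg.Agent.S0908

set_option autoImplicit false
set_option linter.style.haveILetI false
set_option linter.unusedSectionVars false
set_option linter.unusedVariables false

namespace Cfsg.Agent.Lib.Helper24

open scoped ComplexConjugate
open Cfsg.Agent.Lib.Helper25 Cfsg.Agent.Lib.Helper11 Cfsg.Agent.Lib.helper2 Cfsg.Agent.Lib.helper7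

variable {G : Type*} [Group G]

theorem fr_sInf_add (a : ℕ) (S : Set ℕ) (hS : S.Nonempty) :
    sInf ((fun s => a + s) '' S) = a + sInf S := by
  apply le_antisymm
  · exact Nat.sInf_le ⟨sInf S, Nat.sInf_mem hS, rfl⟩
  · have hne : ((fun s => a + s) '' S).Nonempty := hS.image _
    obtain ⟨s, hs, he⟩ := Nat.sInf_mem hne
    rw [← he]
    exact Nat.add_le_add_left (Nat.sInf_le hs) a

theorem fr_charDegree_ind [Fintype G] (T : Subgroup G) (ψ : Cfsg.IrrCharacter T)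
    (χ : Cfsg.IrrCharacter G) (h : (χ : G → ℂ) = Cfsg.indFun T (ψ : T → ℂ)) :
    Cfsg.charDegree (χ : G → ℂ) = T.index * Cfsg.charDegree (ψ : T → ℂ) := by
  have h1 := (charDegree_irr χ).1
  have h2 := (charDegree_irr ψ).1
  have h3 : (χ : G → ℂ) 1 = (T.index : ℂ) * (ψ : T → ℂ) 1 := by
    rw [h, h7_indFun_one]
  rw [h3, ← h2] at h1
  exact_mod_cast h1

theorem fr_factorization_ind [Fintype G] (p : ℕ) (T : Subgroup G) (ψ : Cfsg.IrrCharacter T)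
    (χ : Cfsg.IrrCharacter G) (h : (χ : G → ℂ) = Cfsg.indFun T (ψ : T → ℂ)) :
    (Cfsg.charDegree (χ : G → ℂ)).factorization p =
      T.index.factorization p + (Cfsg.charDegree (ψ : T → ℂ)).factorization p := by
  rw [fr_charDegree_ind T ψ χ h, Nat.factorization_mul Subgroup.index_ne_zero_of_finite
    (charDegree_irr ψ).2.ne']
  rfl

theorem fr_image_eq [Fintype G] (p : ℕ) (T : Subgroup G)
    (B' : Set (Cfsg.IrrCharacter T)) (B : Set (Cfsg.IrrCharacter G))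
    (hirr : ∀ ψ ∈ B', Cfsg.IsIrrCharacter G (Cfsg.indFun T (ψ : T → ℂ)))
    (hB : B = {χ : Cfsg.IrrCharacter G | ∃ ψ ∈ B', (χ : G → ℂ) = Cfsg.indFun T (ψ : T → ℂ)}) :
    (fun χ : Cfsg.IrrCharacter G => (Cfsg.charDegree (χ : G → ℂ)).factorization p) '' B =
      (fun s => T.index.factorization p + s) ''
        ((fun ψ : Cfsg.IrrCharacter T => (Cfsg.charDegree (ψ : T → ℂ)).factorization p) '' B') := by
  ext n
  constructor
  · rintro ⟨χ, hχ, rfl⟩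
    rw [hB] at hχ
    obtain ⟨ψ, hψ, he⟩ := hχ
    exact ⟨_, ⟨ψ, hψ, rfl⟩, (fr_factorization_ind p T ψ χ he).symm⟩
  · rintro ⟨_, ⟨ψ, hψ, rfl⟩, rfl⟩
    refine ⟨⟨Cfsg.indFun T (ψ : T → ℂ), hirr ψ hψ⟩, ?_, ?_⟩
    · rw [hB]
      exact ⟨ψ, hψ, rfl⟩
    · exact fr_factorization_ind p T ψ _ rfl

theorem fr_heights {G : Type*} [Group G] [Fintype G] (p : ℕ) [Fact p.Prime] (M : Ideal Cfsg.AlgInt) (hM : Cfsg.IsPModular p M) (N : Subgroup G) [hN : N.Normal] [Fintype N] (b : Set (Cfsg.IrrCharacter N)) (hb : Cfsg.IsPBlock M b) (T : Subgroup G) [Fintype T] (hT : ∀ g : G, g ∈ T ↔ ∀ θ ∈ b, ∀ θ' : Cfsg.IrrCharacter N, (∀ n : N, (θ' : N → ℂ) n = (θ : N → ℂ) ⟨g * n * g⁻¹, hN.conj_mem n n.2 g⟩) → θ' ∈ b) (hNT : N ≤ T) (B' : Set (Cfsg.IrrCharacter T)) (hB' : Cfsg.IsPBlock M B') (hcov : (∃ ψ ∈ B', ∃ θ ∈ b, Cfsg.classInner (fun n : N => (ψ : T → ℂ) ⟨(n : G), hNT n.2⟩) (θ : N → ℂ) ≠ 0)) (B : Set (Cfsg.IrrCharacter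 G)) (hind : Cfsg.IsInducedBlock M T B' B) : (∀ D : Subgroup T, Cfsg.IsDefectGroup p M B' D → Cfsg.IsDefectGroup p M B (D.map T.subtype)) ∧ ∀ ψ ∈ B', ∃ χ ∈ B, (χ : G → ℂ) = Cfsg.indFun T (ψ : T → ℂ) ∧ Cfsg.blockHeight p B (χ : G → ℂ) = Cfsg.blockHeight p B' (ψ : T → ℂ) := by
  classical
  have hPr := hM.2.1.isPrime
  haveI : Fintype (Cfsg.IrrCharacter T) := Fintype.ofFinite _
  haveI : Fintype (Cfsg.IrrCharacter G) := Fintype.ofFinite _
  obtain ⟨h1, -, hirr, hover⟩ := fr_part1 hM N b hb T hT hNT B' hB' hcov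
  have hB : B = {χ : Cfsg.IrrCharacter G | ∃ ψ ∈ B', (χ : G → ℂ) = Cfsg.indFun T (ψ : T → ℂ)} :=
    fr_induced_unique hPr T B' _ _ hind h1
  have himg := fr_image_eq p T B' B hirr hB
  have hB'ne : ((fun ψ : Cfsg.IrrCharacter T =>
      (Cfsg.charDegree (ψ : T → ℂ)).factorization p) '' B').Nonempty := by
    obtain ⟨ψ, hψ, -⟩ := hcov
    exact ⟨_, ψ, hψ, rfl⟩
  have hinf := fr_sInf_add (T.index.factorization p) _ hB'ne
  rw [← himg] at hinf
  refine ⟨?_, ?_⟩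
  · intro D hD
    have hdef : Cfsg.blockDefect p B = Cfsg.blockDefect p B' := by
      unfold Cfsg.blockDefect
      rw [hinf, ← Subgroup.index_mul_card T, Nat.factorization_mul
        Subgroup.index_ne_zero_of_finite Nat.card_pos.ne', Finsupp.add_apply]
      omega
    obtain ⟨ξ₀, rfl⟩ := hB'
    obtain ⟨-, ⟨χ₀, hBχ₀⟩, hcong⟩ := hind
    have hξ₀ : ξ₀ ∈ Cfsg.blockOf M (ξ₀ : T → ℂ) := h7_sameBlock_refl hPr _
    have hχ₀ : χ₀ ∈ B := by
      rw [hBχ₀]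
      exact h7_sameBlock_refl hPr _
    obtain ⟨E, hE, hle⟩ := h7_induced_defect_le hM T ξ₀ χ₀ (fun g => hcong ξ₀ hξ₀ χ₀ hχ₀ g) D hD
    rw [← hBχ₀] at hE
    have hcE := Cfsg.Agent.S0908.result p M hM B ⟨χ₀, hBχ₀⟩ E hE
    have hcD := Cfsg.Agent.S0908.result p M hM _ ⟨ξ₀, rfl⟩ D hD
    have hcm : Nat.card (D.map T.subtype) = Nat.card D :=
      Subgroup.card_map_of_injective T.subtype_injective
    have heq : D.map T.subtype = E := by
      apply Subgroup.eq_of_le_of_card_ge hle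
      rw [hcE, hcm, hcD, hdef]
    rw [heq]
    exact hE
  · intro ψ hψ
    refine ⟨⟨Cfsg.indFun T (ψ : T → ℂ), hirr ψ hψ⟩, ?_, rfl, ?_⟩
    · rw [hB]
      exact ⟨ψ, hψ, rfl⟩
    · unfold Cfsg.blockHeight
      rw [hinf, fr_factorization_ind p T ψ _ rfl]
      omega

end Cfsg.Agent.Lib.Helper24
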