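import Mathlib
import Cfsg.Prelude.Def_Blocks
import Cfsg.Agent.Lib.Helper24.FongReynolds5
import Cfsg.Agent.Lib.helper7.BlockCover2
import Cfsg.Agent.Lib.helper7.LocalIdeal2
import Cfsg.Agent.Lib.helper7.BlockInd2

set_option autoImplicit false
set_option linter.style.haveILetI false
set_option linter.unusedSectionVars false
set_option linter.unusedVariables false

namespace Cfsg.Agent.Lib.Helper24

open scoped ComplexConjugate
open Cfsg.Agent.Lib.Helper25 Cfsg.Agent.Lib.Helper11 Cfsg.Agent.Lib.helper2 Cfsg.Agent.Lib.helper7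

variable {G : Type*} [Group G]

def fc_inv (N : Subgroup G) [hN : N.Normal] (b : Set (Cfsg.IrrCharacter N)) : Prop :=
  ∀ g : G, ∀ θ ∈ b, fr_cj N g θ ∈ b

theorem fc_gstable (N : Subgroup G) [hN : N.Normal] (b : Set (Cfsg.IrrCharacter N))
    (h : fc_inv N b) : h7_GStable N b :=
  fun g θ hθ => h g⁻¹ θ hθ

theorem fc_inv_of_hinv (N : Subgroup G) [hN : N.Normal] (b : Set (Cfsg.IrrCharacter N))
    (hinv : ∀ g : G, ∀ θ ∈ b, ∀ θ' : Cfsg.IrrCharacter N,
      (∀ n : N, (θ' : N → ℂ) n = (θ : N → ℂ) ⟨g * n * g⁻¹, hN.conj_mem n n.2 g⟩) → θ' ∈ b) :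
    fc_inv N b :=
  fun g θ hθ => hinv g θ hθ (fr_cj N g θ) (fun n => rfl)

theorem fc_omega_conj (N : Subgroup G) [hN : N.Normal] [Finite N] {M : Ideal Cfsg.AlgInt}
    (hPr : M.IsPrime)
    (b : Set (Cfsg.IrrCharacter N)) (hb : Cfsg.IsPBlock M b) (hinv : fc_inv N b)
    (θ : Cfsg.IrrCharacter N) (hθ : θ ∈ b) (g : G) (n : N) :
    Cfsg.MemLocalIdeal M (Cfsg.centralChar (θ : N → ℂ) ((MulAut.conjNormal g : N ≃* N) n) -
      Cfsg.centralChar (θ : N → ℂ) n) := by
  classical
  haveI : Fintype N := Fintype.ofFinite _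
  haveI : Fintype (Cfsg.IrrCharacter N) := Fintype.ofFinite _
  have h1 : fr_cj N g θ ∈ b := hinv g θ hθ
  obtain ⟨θ₀, rfl⟩ := hb
  have h2 : Cfsg.SameBlock M (fr_cj N g θ : N → ℂ) (θ : N → ℂ) :=
    h7_sameBlock_trans hPr (h7_sameBlock_symm h1) hθ
  have h3 := h2 n
  have h4 : Cfsg.centralChar (fr_cj N g θ : N → ℂ) n =
      Cfsg.centralChar (θ : N → ℂ) ((MulAut.conjNormal g : N ≃* N) n) :=
    ef_centralChar_comp (MulAut.conjNormal g : N ≃* N) (θ : N → ℂ) n
  rw [h4] at h3
  exact h3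

theorem fc_isConj_coe (N : Subgroup G) [hN : N.Normal] (x y : N) (h : IsConj (x : G) (y : G)) :
    ∃ g : G, (MulAut.conjNormal g : N ≃* N) x = y := by
  obtain ⟨g, hg⟩ := isConj_iff.mp h
  refine ⟨g, ?_⟩
  apply Subtype.ext
  rw [MulAut.conjNormal_apply]
  exact hg

theorem fc_count [Fintype G] (N : Subgroup G) [hN : N.Normal] [Fintype N]
    [Fintype (ConjClasses N)] (x : N)
    [DecidablePred (fun L : ConjClasses N => IsConj (x : G) ((Quotient.out L : N) : G))] :
    (Finset.univ.filter (fun L : ConjClasses N =>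
      IsConj (x : G) ((Quotient.out L : N) : G))).card *
        (Subgroup.centralizer ({x} : Set N)).index =
      (Subgroup.centralizer ({(x : G)} : Set G)).index := by
  classical
  have h1 : ∑ n : N, (if IsConj (x : G) (n : G) then 1 else 0 : ℕ) =
      (Subgroup.centralizer ({(x : G)} : Set G)).index := by
    rw [h7_index_centralizer_eq_card_class, Nat.card_eq_fintype_card, Fintype.card_subtype,
      Finset.sum_boole, Nat.cast_id]
    apply Finset.card_bij (fun (n : N) _ => (n : G))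
    · intro n hn
      simpa using hn
    · intro a _ b _ hab
      exact Subtype.ext hab
    · intro y hy
      have hy' : IsConj (x : G) y := by simpa using hy
      obtain ⟨g, hg⟩ := isConj_iff.mp hy'
      refine ⟨⟨y, ?_⟩, ?_, rfl⟩
      · rw [← hg]
        exact hN.conj_mem _ x.2 g
      · simpa using hy'
  have hcl : ∀ a c : N, (if IsConj (x : G) ((c * a * c⁻¹ : N) : G) then 1 else 0 : ℕ) =
      if IsConj (x : G) (a : G) then 1 else 0 := by
    intro a c
    have hc : IsConj (a : G) ((c * a * c⁻¹ : N) : G) := by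
      rw [isConj_iff]
      exact ⟨(c : G), by simp⟩
    have hiff : IsConj (x : G) ((c * a * c⁻¹ : N) : G) ↔ IsConj (x : G) (a : G) :=
      ⟨fun h => h.trans hc.symm, fun h => h.trans hc⟩
    simp only [hiff]
  rw [h7_sum_eq_sum_conjClasses _ hcl] at h1
  rw [← h1, Finset.card_filter, Finset.sum_mul]
  refine Finset.sum_congr rfl fun L _ => ?_
  by_cases hL : IsConj (x : G) ((Quotient.out L : N) : G)
  · rw [if_pos hL, if_pos hL, one_mul, smul_eq_mul, mul_one]
    obtain ⟨g, hg⟩ := fc_isConj_coe N x _ hL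
    rw [← hg, ef_index_centralizer_equiv]
  · rw [if_neg hL, if_neg hL, zero_mul, smul_zero]

theorem fc_icc_cong [Fintype G] (N : Subgroup G) [hN : N.Normal] [Fintype N]
    {M : Ideal Cfsg.AlgInt} (hPr : M.IsPrime)
    (b : Set (Cfsg.IrrCharacter N)) (hb : Cfsg.IsPBlock M b) (hinv : fc_inv N b)
    (θ : Cfsg.IrrCharacter N) (hθ : θ ∈ b) (x : N) :
    ∃ r : ℕ, r * (Subgroup.centralizer ({x} : Set N)).index =
        (Subgroup.centralizer ({(x : G)} : Set G)).index ∧
      Cfsg.MemLocalIdeal M (Cfsg.inducedCentralChar N (θ : N → ℂ) (x : G) -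
        (r : ℂ) * Cfsg.centralChar (θ : N → ℂ) x) := by
  classical
  haveI : Fintype (ConjClasses N) := Fintype.ofFinite _
  haveI : Fintype (Cfsg.IrrCharacter N) := Fintype.ofFinite _
  haveI : Fintype (Cfsg.IrrCharacter G) := Fintype.ofFinite _
  refine ⟨_, fc_count N x, ?_⟩
  rw [h7_icc_expand N θ (x : G), Finset.card_filter]
  push_cast
  rw [Finset.sum_mul, ← Finset.sum_sub_distrib]
  apply h7_memLocalIdeal_sum hPr
  intro L _
  by_cases hL : IsConj (x : G) ((Quotient.out L : N) : G)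
  · rw [if_pos hL, one_mul, one_mul]
    obtain ⟨g, hg⟩ := fc_isConj_coe N x _ hL
    rw [← hg]
    exact fc_omega_conj N hPr b hb hinv θ hθ g x
  · rw [if_neg hL, zero_mul, zero_mul, sub_zero]
    exact h7_memLocalIdeal_zero hPr

end Cfsg.Agent.Lib.Helper24
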