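import Mathlib
import Cfsg.Prelude.Def_Blocks
import Cfsg.Agent.Lib.Helper24.FongCover1

set_option autoImplicit false
set_option linter.style.haveILetI false
set_option linter.unusedSectionVars false
set_option linter.unusedVariables false

namespace Cfsg.Agent.Lib.Helper24

open scoped ComplexConjugate
open Cfsg.Agent.Lib.Helper25 Cfsg.Agent.Lib.Helper11 Cfsg.Agent.Lib.helper2 Cfsg.Agent.Lib.helper7

variable {G : Type*} [Group G]

theorem fc_not_ideal_of_sameBlock {H : Type*} [Group H] [Fintype H] {M : Ideal Cfsg.AlgInt}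
    (hPr : M.IsPrime)
    (b : Set (Cfsg.IrrCharacter H)) (hb : Cfsg.IsPBlock M b) (θ₀ θ : Cfsg.IrrCharacter H)
    (hθ₀ : θ₀ ∈ b) (hθ : θ ∈ b) (x : H)
    (h : ¬ Cfsg.MemLocalIdeal M (Cfsg.centralChar (θ₀ : H → ℂ) x)) :
    ¬ Cfsg.MemLocalIdeal M (Cfsg.centralChar (θ : H → ℂ) x) := by
  haveI : Fintype (Cfsg.IrrCharacter H) := Fintype.ofFinite _
  obtain ⟨θ₁, rfl⟩ := hb
  have hs : Cfsg.SameBlock M (θ₀ : H → ℂ) (θ : H → ℂ) :=
    h7_sameBlock_trans hPr (h7_sameBlock_symm hθ₀) hθ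
  intro hc
  apply h
  have := h7_memLocalIdeal_add hPr (hs x) hc
  simpa using this

theorem fc_exists_good [Fintype G] {p : ℕ} [hp : Fact p.Prime] {M : Ideal Cfsg.AlgInt}
    (hM : Cfsg.IsPModular p M) (N : Subgroup G) [hN : N.Normal] [Fintype N]
    (b : Set (Cfsg.IrrCharacter N)) (hb : Cfsg.IsPBlock M b) (hinv : fc_inv N b) :
    ∃ x : N, Cfsg.IsDefectClass M b x ∧
      (Nat.card (Subgroup.centralizer ({(x : G)} : Set G))).factorization p =
        (Nat.card (Subgroup.centralizer ({x} : Set N))).factorization p +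
          N.index.factorization p := by
  classical
  have hPr := hM.2.1.isPrime
  haveI : Fintype (ConjClasses G) := Fintype.ofFinite _
  haveI : Fintype (Cfsg.IrrCharacter N) := Fintype.ofFinite _
  haveI : Fintype (Cfsg.IrrCharacter G) := Fintype.ofFinite _
  obtain ⟨θ₀, hbeq⟩ := id hb
  have hθ₀ : θ₀ ∈ b := by
    rw [hbeq]
    exact h7_sameBlock_refl hPr _
  have hexp := h7_T_expand N b (fc_gstable N b hinv) θ₀
  rw [if_pos hθ₀] at hexp
  have hex : ∃ K : ConjClasses G, ¬ Cfsg.MemLocalIdeal M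
      (Cfsg.blockCoeff (h7_over N b) (Quotient.out K) *
        Cfsg.inducedCentralChar N (θ₀ : N → ℂ) (Quotient.out K)) := by
    by_contra hcon
    push Not at hcon
    apply h7_not_memLocalIdeal_one hPr
    rw [hexp]
    exact h7_memLocalIdeal_sum hPr _ _ (fun K _ => hcon K)
  obtain ⟨K, hK⟩ := hex
  set g : G := Quotient.out K with hg
  rw [h7_cover_coef N b (fc_gstable N b hinv)] at hK
  have hgN : g ∈ N := by
    by_contra hgN
    apply hK
    rw [h7_extendByZero_not_mem N _ g hgN, zero_mul]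
    exact h7_memLocalIdeal_zero hPr
  rw [h7_extendByZero_mem N _ g hgN] at hK
  set x : N := ⟨g, hgN⟩ with hx
  have hA : Cfsg.MemLocalRing M (Cfsg.blockCoeff b x) := Cfsg.Agent.S0913.result p M hM b hb x
  have hI : Cfsg.MemLocalRing M (Cfsg.inducedCentralChar N (θ₀ : N → ℂ) g) :=
    h7_icc_memLocalRing hPr N θ₀ g
  have hA' : ¬ Cfsg.MemLocalIdeal M (Cfsg.blockCoeff b x) :=
    fun h => hK (h7_memLocalIdeal_mul_right hPr h hI)
  have hI' : ¬ Cfsg.MemLocalIdeal M (Cfsg.inducedCentralChar N (θ₀ : N → ℂ) g) :=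
    fun h => hK (h7_memLocalIdeal_mul_left hPr hA h)
  obtain ⟨r, hr, hcong⟩ := fc_icc_cong N hPr b hb hinv θ₀ hθ₀ x
  have hrω : ¬ Cfsg.MemLocalIdeal M ((r : ℂ) * Cfsg.centralChar (θ₀ : N → ℂ) x) := by
    intro h
    apply hI'
    have := h7_memLocalIdeal_add hPr hcong h
    simpa using this
  have hω : ¬ Cfsg.MemLocalIdeal M (Cfsg.centralChar (θ₀ : N → ℂ) x) :=
    fun h => hrω (h7_memLocalIdeal_mul_left hPr (h7_memLocalRing_natCast hPr r) h)
  have hr' : ¬ Cfsg.MemLocalIdeal M (r : ℂ) :=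
    fun h => hrω (h7_memLocalIdeal_mul_right hPr h (h7_memLocalRing_centralChar hPr θ₀ x))
  have hpr : ¬ p ∣ r := fun h => hr' ((h7_memLocalIdeal_natCast_iff hM r).mpr h)
  refine ⟨x, ⟨hA, hA', fun θ hθ => fc_not_ideal_of_sameBlock hPr b hb θ₀ θ hθ₀ hθ x hω⟩, ?_⟩
  have hr0 : r ≠ 0 := by
    rintro rfl
    exact hpr (dvd_zero p)
  have e1 := Subgroup.index_mul_card (Subgroup.centralizer ({x} : Set N))
  have e2 := Subgroup.index_mul_card (Subgroup.centralizer ({(x : G)} : Set G))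
  have e3 := Subgroup.index_mul_card N
  have f1 := congrArg (fun n => n.factorization p) e1
  have f2 := congrArg (fun n => n.factorization p) e2
  have f3 := congrArg (fun n => n.factorization p) e3
  have f4 := congrArg (fun n => n.factorization p) hr
  simp only [Nat.factorization_mul Subgroup.index_ne_zero_of_finite Nat.card_pos.ne',
    Nat.factorization_mul hr0 Subgroup.index_ne_zero_of_finite, Finsupp.add_apply,
    Nat.factorization_eq_zero_of_not_dvd hpr] at f1 f2 f3 f4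
  have hxg : (x : G) = g := rfl
  rw [hxg] at f2 f4 ⊢
  omega

theorem fc_card_centralizer_eq_defect [Fintype G] {p : ℕ} [hp : Fact p.Prime]
    {M : Ideal Cfsg.AlgInt}
    (hM : Cfsg.IsPModular p M)
    (b : Set (Cfsg.IrrCharacter G)) (hb : Cfsg.IsPBlock M b) (x : G)
    (hx : Cfsg.IsDefectClass M b x) :
    (Nat.card (Subgroup.centralizer ({x} : Set G))).factorization p = Cfsg.blockDefect p b := by
  classical
  haveI : Fintype (Cfsg.IrrCharacter G) := Fintype.ofFinite _
  obtain ⟨θ₀, rfl⟩ := hb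
  obtain ⟨P⟩ : Nonempty (Sylow p (Subgroup.centralizer ({x} : Set G))) := inferInstance
  have h1 := Cfsg.Agent.S0908.defect_card p M hM θ₀ x hx P
  rw [Subgroup.card_map_of_injective (Subgroup.subtype_injective _),
    Sylow.card_eq_multiplicity] at h1
  exact Nat.pow_right_injective hp.out.two_le h1

end Cfsg.Agent.Lib.Helper24
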