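import Mathlib
import Cfsg.Prelude.Def_Blocks
import Cfsg.Agent.S0911
import Cfsg.Agent.S0906
import Cfsg.Agent.Lib.helper7.BlockDefGrp
import Cfsg.Agent.Lib.helper7.BlockQuot
import Cfsg.Agent.Lib.helper7.BlockInd2
import Cfsg.Agent.Lib.Helper25.ExtraspecialUnique

set_option autoImplicit false
set_option linter.style.haveILetI false
set_option linter.unusedSectionVars false
set_option linter.unusedVariables false

namespace Cfsg.Agent.Lib.Helper24

open scoped ComplexConjugate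
open Cfsg.Agent.Lib.Helper25 Cfsg.Agent.Lib.Helper11 Cfsg.Agent.Lib.helper2 Cfsg.Agent.Lib.helper7

theorem qg_conj_into {Γ : Type*} [Group Γ] [Finite Γ] (p : ℕ) [hp : Fact p.Prime]
    (H U : Subgroup Γ) (hH : ¬ p ∣ H.index) (hU : IsPGroup p U) :
    ∃ k : Γ, ∀ u ∈ U, k⁻¹ * u * k ∈ H := by
  have hcard : ¬ p ∣ Nat.card (Γ ⧸ H) := hH
  obtain ⟨q, hq⟩ := hU.nonempty_fixed_point_of_prime_not_dvd_card (Γ ⧸ H) hcard
  obtain ⟨k, rfl⟩ := QuotientGroup.mk_surjective q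
  refine ⟨k, fun u hu => ?_⟩
  have h1 := hq ⟨u, hu⟩
  have h2 : ((u * k : Γ) : Γ ⧸ H) = (k : Γ ⧸ H) := h1
  rw [QuotientGroup.eq] at h2
  have h3 := H.inv_mem h2
  have e : ((u * k)⁻¹ * k)⁻¹ = k⁻¹ * u * k := by group
  rwa [e] at h3

theorem qg_sylow_map_top {W Q : Type*} [Group W] [Group Q] [Finite W] (p : ℕ) [hp : Fact p.Prime]
    (f : W →* Q) (hf : Function.Surjective f) (hQ : IsPGroup p Q) (S : Sylow p W) :
    (S : Subgroup W).map f = ⊤ := by
  have h1 := (S.mapSurjective hf).is_maximal' (Q := ⊤)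
    (fun x => by
      obtain ⟨k, hk⟩ := hQ (x : Q)
      exact ⟨k, Subtype.ext (by simpa using hk)⟩) le_top
  rw [Sylow.coe_mapSurjective] at h1
  exact h1.symm

variable {G : Type*} [Group G]

theorem qg_lift_pgroup [Finite G] (p : ℕ) [hp : Fact p.Prime] (N : Subgroup G) [N.Normal] (l : G)
    (hr : ¬ p ∣ (Subgroup.centralizer ({l} : Set G)).relIndex
      ((Subgroup.centralizer ({(QuotientGroup.mk l : G ⧸ N)} : Set (G ⧸ N))).comap
        (QuotientGroup.mk' N)))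
    (Vb : Subgroup (G ⧸ N)) (hV : IsPGroup p Vb)
    (hVC : Vb ≤ Subgroup.centralizer ({(QuotientGroup.mk l : G ⧸ N)} : Set (G ⧸ N))) :
    ∃ V : Subgroup G, IsPGroup p V ∧ V ≤ Subgroup.centralizer ({l} : Set G) ∧
      ∃ k : G, Vb ≤ (V.map (MulAut.conj k).toMonoidHom).map (QuotientGroup.mk' N) := by
  classical
  set Ct := (Subgroup.centralizer ({(QuotientGroup.mk l : G ⧸ N)} : Set (G ⧸ N))).comap
    (QuotientGroup.mk' N) with hCt
  set Ut := Vb.comap (QuotientGroup.mk' N) with hUt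
  have hUC : Ut ≤ Ct := Subgroup.comap_mono hVC
  let f : Ut →* Vb := ((QuotientGroup.mk' N).comp Ut.subtype).codRestrict Vb (fun u => u.2)
  have hf : Function.Surjective f := by
    rintro ⟨v, hv⟩
    obtain ⟨g, rfl⟩ := QuotientGroup.mk_surjective v
    exact ⟨⟨g, hv⟩, rfl⟩
  obtain ⟨S⟩ : Nonempty (Sylow p Ut) := inferInstance
  have hS := qg_sylow_map_top p f hf hV S
  set UG := (S : Subgroup Ut).map Ut.subtype with hUG
  have hUGp : IsPGroup p UG := S.isPGroup'.map _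
  have hUGC : UG ≤ Ct := (Subgroup.map_subtype_le _).trans hUC
  obtain ⟨k, hk⟩ := qg_conj_into p ((Subgroup.centralizer ({l} : Set G)).subgroupOf Ct)
    (UG.subgroupOf Ct) hr hUGp.comap_subtype
  refine ⟨UG.map (MulAut.conj (k : G)⁻¹).toMonoidHom, hUGp.map _, ?_, (k : G), ?_⟩
  · rintro _ ⟨u, hu, rfl⟩
    have h1 := hk ⟨u, hUGC hu⟩ (Subgroup.mem_subgroupOf.mpr hu)
    rw [Subgroup.mem_subgroupOf] at h1
    simp only [Subgroup.coe_mul, Subgroup.coe_inv] at h1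
    simp only [MulEquiv.toMonoidHom_eq_coe, MonoidHom.coe_coe, MulAut.conj_apply, inv_inv]
    exact h1
  · have hmm : (UG.map (MulAut.conj (k : G)⁻¹).toMonoidHom).map (MulAut.conj (k : G)).toMonoidHom =
        UG := by
      rw [Subgroup.map_map]
      have : (MulAut.conj (k : G)).toMonoidHom.comp (MulAut.conj (k : G)⁻¹).toMonoidHom =
          MonoidHom.id G := by
        ext x
        simp only [MulEquiv.toMonoidHom_eq_coe, MonoidHom.coe_comp, MonoidHom.coe_coe,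
          Function.comp_apply, MulAut.conj_apply, inv_inv, MonoidHom.id_apply]
        group
      rw [this, Subgroup.map_id]
    rw [hmm]
    intro v hv
    have h2 : (⟨v, hv⟩ : Vb) ∈ (⊤ : Subgroup Vb) := Subgroup.mem_top _
    rw [← hS] at h2
    obtain ⟨s, hs, hse⟩ := Subgroup.mem_map.mp h2
    refine Subgroup.mem_map.mpr ⟨(s : G), Subgroup.mem_map.mpr ⟨s, hs, rfl⟩, ?_⟩
    have := congrArg (fun t : Vb => (t : G ⧸ N)) hse
    exact this

theorem qg_sylow_le_conj [Finite G] (p : ℕ) [hp : Fact p.Prime] (K : Subgroup G) (Q : Sylow p K)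
    (V : Subgroup G) (hV : IsPGroup p V) (hVK : V ≤ K) :
    ∃ c : G, V ≤ ((Q : Subgroup K).map K.subtype).map (MulAut.conj c).toMonoidHom := by
  obtain ⟨Q', hQ'⟩ := (hV.comap_subtype (K := K)).exists_le_sylow
  obtain ⟨c, hc⟩ := MulAction.exists_smul_eq K Q Q'
  refine ⟨(c : G), ?_⟩
  intro v hv
  have h1 : (⟨v, hVK hv⟩ : K) ∈ (Q' : Subgroup K) := hQ' (Subgroup.mem_subgroupOf.mpr hv)
  rw [← hc, Sylow.smul_def, Sylow.pointwise_smul_def,
    Subgroup.mem_pointwise_smul_iff_inv_smul_mem] at h1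
  refine Subgroup.mem_map.mpr ⟨(c : G)⁻¹ * v * (c : G), Subgroup.mem_map.mpr ⟨_, h1, ?_⟩, ?_⟩
  · simp [MulAut.smul_def]
  · simp only [MulEquiv.toMonoidHom_eq_coe, MonoidHom.coe_coe, MulAut.conj_apply]
    group

theorem qg_mm_a [Finite G] (p : ℕ) [hp : Fact p.Prime] (M : Ideal Cfsg.AlgInt)
    (hM : Cfsg.IsPModular p M) (B : Set (Cfsg.IrrCharacter G)) (hB : Cfsg.IsPBlock M B) (h : G)
    (h1 : Cfsg.MemLocalRing M (Cfsg.blockCoeff B h))
    (h2 : ¬ Cfsg.MemLocalIdeal M (Cfsg.blockCoeff B h))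
    (V : Subgroup G) (hV : IsPGroup p V) (hVC : V ≤ Subgroup.centralizer ({h} : Set G)) :
    ∃ P : Subgroup G, Cfsg.IsDefectGroup p M B P ∧ V ≤ P := by
  classical
  haveI : Fintype G := Fintype.ofFinite _
  obtain ⟨g, hg⟩ := Cfsg.Agent.S0906.result p M hM B hB
  obtain ⟨D⟩ : Nonempty (Sylow p (Subgroup.centralizer ({g} : Set G))) := inferInstance
  obtain ⟨x, Q, hQ⟩ := (Cfsg.Agent.S0911.result p M hM B hB g hg D h).1 h1 h2
  obtain ⟨c, hc⟩ := qg_sylow_le_conj p _ Q V hV hVC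
  refine ⟨((D : Subgroup (Subgroup.centralizer ({g} : Set G))).map
    (Subgroup.centralizer ({g} : Set G)).subtype).map (MulAut.conj (c * x)).toMonoidHom,
    h7_isDefectGroup_conj p M B _ ⟨g, hg, D, rfl⟩ (c * x), ?_⟩
  refine hc.trans ?_
  have h3 := Subgroup.map_mono (f := (MulAut.conj c).toMonoidHom) hQ
  refine h3.trans ?_
  rw [Subgroup.map_map]
  apply le_of_eq
  congr 1
  ext y
  simp

theorem qg_main [Finite G] (p : ℕ) [hp : Fact p.Prime] (M : Ideal Cfsg.AlgInt)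
    (hM : Cfsg.IsPModular p M) (N : Subgroup G) [N.Normal]
    (Bbar : Set (Cfsg.IrrCharacter (G ⧸ N))) (hBbar : Cfsg.IsPBlock M Bbar)
    (B : Set (Cfsg.IrrCharacter G)) (hB : Cfsg.IsPBlock M B)
    (hsub : ∀ χ ∈ Bbar, ∀ ψ : Cfsg.IrrCharacter G,
      (ψ : G → ℂ) = (χ : G ⧸ N → ℂ) ∘ QuotientGroup.mk → ψ ∈ B)
    (Dbar : Subgroup (G ⧸ N)) (hDbar : Cfsg.IsDefectGroup p M Bbar Dbar) :
    ∃ P : Subgroup G, Cfsg.IsDefectGroup p M B P ∧ Dbar ≤ P.map (QuotientGroup.mk' N) := by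
  classical
  haveI : Fintype G := Fintype.ofFinite _
  haveI : Fintype (G ⧸ N) := Fintype.ofFinite _
  haveI : Fintype (Cfsg.IrrCharacter G) := Fintype.ofFinite _
  haveI : Fintype (ConjClasses G) := Fintype.ofFinite _
  haveI : Fintype (Cfsg.IrrCharacter (G ⧸ N)) := Fintype.ofFinite _
  have hPr := hM.2.1.isPrime
  have hBbar' := hBbar
  obtain ⟨χb₀, rfl⟩ := hBbar
  have hχb₀ : χb₀ ∈ Cfsg.blockOf M (χb₀ : G ⧸ N → ℂ) := h7_sameBlock_refl hPr _
  set ψ : Cfsg.IrrCharacter G :=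
    xs_infl (QuotientGroup.mk' N) (QuotientGroup.mk'_surjective N) χb₀ with hψ
  have hψB : ψ ∈ B := hsub χb₀ hχb₀ ψ (funext fun g => rfl)
  have hB' := hB
  obtain ⟨χ₀, rfl⟩ := hB
  set c : Cfsg.IrrCharacter G → ℂ :=
    fun χ => if χ ∈ Cfsg.blockOf M (χ₀ : G → ℂ) then (1 : ℂ) else 0 with hc
  have hcm : c ∈ h7_intSubring (G := G) M hPr := h7_block_indicator_mem hPr χ₀
  have h1 := h7_eval_expand c ψ
  have hcψ : c ψ = 1 := by simp only [hc, if_pos hψB]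
  rw [hcψ] at h1
  obtain ⟨K, hK⟩ : ∃ K : ConjClasses G, ¬ Cfsg.MemLocalIdeal M
      (h7_coef c (Quotient.out K) * Cfsg.centralChar (ψ : G → ℂ) (Quotient.out K)) := by
    by_contra hall
    push Not at hall
    apply h7_not_memLocalIdeal_one hPr
    rw [h1]
    exact h7_memLocalIdeal_sum hPr _ _ fun K _ => hall K
  set l := Quotient.out K with hl
  have ha : h7_coef c l = Cfsg.blockCoeff (Cfsg.blockOf M (χ₀ : G → ℂ)) l := h7_coef_indicator _ l
  have ha1 : Cfsg.MemLocalRing M (Cfsg.blockCoeff (Cfsg.blockOf M (χ₀ : G → ℂ)) l) := by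
    rw [← ha]
    exact hcm l
  have ha2 : ¬ Cfsg.MemLocalIdeal M (Cfsg.blockCoeff (Cfsg.blockOf M (χ₀ : G → ℂ)) l) := by
    intro h
    apply hK
    rw [ha]
    exact h7_memLocalIdeal_mul_right hPr h (h7_memLocalRing_centralChar hPr ψ l)
  have hw : ¬ Cfsg.MemLocalIdeal M (Cfsg.centralChar (ψ : G → ℂ) l) := by
    intro h
    apply hK
    rw [ha]
    exact h7_memLocalIdeal_mul_left hPr ha1 h
  have hinf := h7_centralChar_inflate N (χb₀ : G ⧸ N → ℂ) l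
  have hψfun : (ψ : G → ℂ) = fun x : G => (χb₀ : G ⧸ N → ℂ) (QuotientGroup.mk x) := rfl
  rw [← hψfun] at hinf
  rw [hinf] at hw
  have hr : ¬ p ∣ (Subgroup.centralizer ({l} : Set G)).relIndex
      ((Subgroup.centralizer ({(QuotientGroup.mk l : G ⧸ N)} : Set (G ⧸ N))).comap
        (QuotientGroup.mk' N)) := by
    intro h
    apply hw
    exact h7_memLocalIdeal_mul_right hPr ((h7_memLocalIdeal_natCast_iff hM _).mpr h)
      (h7_memLocalRing_centralChar hPr χb₀ _)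
  have hwb : ¬ Cfsg.MemLocalIdeal M
      (Cfsg.centralChar (χb₀ : G ⧸ N → ℂ) (QuotientGroup.mk l)) := by
    intro h
    apply hw
    exact h7_memLocalIdeal_mul_left hPr (h7_memLocalRing_natCast hPr _) h
  obtain ⟨yb, hyb, Sb, hSb⟩ := hDbar
  obtain ⟨xb, Qb, hQb⟩ := (Cfsg.Agent.S0911.result p M hM _ hBbar' yb hyb Sb
    (QuotientGroup.mk l)).2 ⟨χb₀, hχb₀, hwb⟩
  rw [← hSb] at hQb
  have hDp : IsPGroup p Dbar := by
    rw [hSb]
    exact Sb.isPGroup'.map _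
  obtain ⟨V, hVp, hVC, k, hk⟩ := qg_lift_pgroup p N l hr
    (Dbar.map (MulAut.conj xb).toMonoidHom) (hDp.map _)
    (hQb.trans (Subgroup.map_subtype_le _))
  obtain ⟨P, hP, hVP⟩ := qg_mm_a p M hM _ hB' l ha1 ha2 V hVp hVC
  obtain ⟨t, ht⟩ := QuotientGroup.mk_surjective xb⁻¹
  refine ⟨(P.map (MulAut.conj k).toMonoidHom).map (MulAut.conj t).toMonoidHom,
    h7_isDefectGroup_conj p M _ _ (h7_isDefectGroup_conj p M _ _ hP k) t, ?_⟩
  intro d hd
  have h2 : xb * d * xb⁻¹ ∈ Dbar.map (MulAut.conj xb).toMonoidHom :=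
    Subgroup.mem_map.mpr ⟨d, hd, by simp⟩
  have h3 := hk h2
  obtain ⟨u, hu, hue⟩ := Subgroup.mem_map.mp h3
  have hu' : u ∈ P.map (MulAut.conj k).toMonoidHom := Subgroup.map_mono hVP hu
  refine Subgroup.mem_map.mpr ⟨t * u * t⁻¹, Subgroup.mem_map.mpr ⟨u, hu', by simp⟩, ?_⟩
  have h4 : (QuotientGroup.mk' N) (t * u * t⁻¹) = xb⁻¹ * (xb * d * xb⁻¹) * xb⁻¹⁻¹ := by
    rw [← hue, ← ht]
    simp
  rw [h4]
  group

end Cfsg.Agent.Lib.Helper24
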