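import Mathlib
import Cfsg.Prelude.Def_Blocks
import Cfsg.Agent.Lib.Helper24.FongCover2
import Cfsg.Agent.Lib.Helper24.QuotDefect

set_option autoImplicit false
set_option linter.style.haveILetI false
set_option linter.unusedSectionVars false
set_option linter.unusedVariables false

namespace Cfsg.Agent.Lib.Helper24

open scoped ComplexConjugate
open Cfsg.Agent.Lib.Helper25 Cfsg.Agent.Lib.Helper11 Cfsg.Agent.Lib.helper2 Cfsg.Agent.Lib.helper7

variable {G : Type*} [Group G]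

theorem fc_blockCoeff_finset [Fintype G] (s : Finset (Cfsg.IrrCharacter G)) (g : G) :
    Cfsg.blockCoeff (↑s : Set (Cfsg.IrrCharacter G)) g =
      (Nat.card G : ℂ)⁻¹ * ∑ χ ∈ s, (χ : G → ℂ) 1 * conj ((χ : G → ℂ) g) := by
  unfold Cfsg.blockCoeff
  rw [finsum_mem_coe_finset]

theorem fc_blockCoeff_union [Fintype G] [DecidableEq (Cfsg.IrrCharacter G)]
    (s t : Finset (Cfsg.IrrCharacter G)) (h : Disjoint s t) (g : G) :
    Cfsg.blockCoeff (↑(s ∪ t) : Set (Cfsg.IrrCharacter G)) g =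
      Cfsg.blockCoeff (↑s : Set (Cfsg.IrrCharacter G)) g +
        Cfsg.blockCoeff (↑t : Set (Cfsg.IrrCharacter G)) g := by
  rw [fc_blockCoeff_finset, fc_blockCoeff_finset, fc_blockCoeff_finset, Finset.sum_union h,
    mul_add]

theorem fc_union_ideal [Fintype G] {M : Ideal Cfsg.AlgInt} (hPr : M.IsPrime) (g : G)
    (s : Finset (Cfsg.IrrCharacter G))
    (hcl : ∀ χ ∈ s, ∀ ψ : Cfsg.IrrCharacter G, Cfsg.SameBlock M (χ : G → ℂ) (ψ : G → ℂ) → ψ ∈ s)
    (hid : ∀ χ ∈ s, Cfsg.MemLocalIdeal M (Cfsg.blockCoeff (Cfsg.blockOf M (χ : G → ℂ)) g)) :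
    Cfsg.MemLocalIdeal M (Cfsg.blockCoeff (↑s : Set (Cfsg.IrrCharacter G)) g) := by
  classical
  haveI : Fintype (Cfsg.IrrCharacter G) := Fintype.ofFinite _
  induction s using Finset.strongInduction with
  | H s ih =>
    by_cases hs : s = ∅
    · subst hs
      rw [fc_blockCoeff_finset, Finset.sum_empty, mul_zero]
      exact h7_memLocalIdeal_zero hPr
    · obtain ⟨χ, hχ⟩ := Finset.nonempty_iff_ne_empty.mpr hs
      set t : Finset (Cfsg.IrrCharacter G) :=
        Finset.univ.filter (fun ψ => Cfsg.SameBlock M (χ : G → ℂ) (ψ : G → ℂ)) with ht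
      have htB : (↑t : Set (Cfsg.IrrCharacter G)) = Cfsg.blockOf M (χ : G → ℂ) := by
        ext ψ
        simp [ht, Cfsg.blockOf]
      have hts : t ⊆ s := by
        intro ψ hψ
        exact hcl χ hχ ψ (Finset.mem_filter.mp hψ).2
      have hχt : χ ∈ t := Finset.mem_filter.mpr ⟨Finset.mem_univ _, h7_sameBlock_refl hPr _⟩
      have hdec : s = t ∪ (s \ t) := (Finset.union_sdiff_of_subset hts).symm
      have hss : s \ t ⊂ s := by
        refine Finset.ssubset_iff_subset_ne.mpr ⟨Finset.sdiff_subset, fun h => ?_⟩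
        have : χ ∈ s \ t := by
          rw [h]
          exact hχ
        exact (Finset.mem_sdiff.mp this).2 hχt
      have h1 := ih (s \ t) hss ?_ ?_
      · rw [hdec, fc_blockCoeff_union _ _ Finset.disjoint_sdiff, htB]
        exact h7_memLocalIdeal_add hPr (hid χ hχ) h1
      · intro ψ hψ φ hφ
        obtain ⟨hψs, hψt⟩ := Finset.mem_sdiff.mp hψ
        refine Finset.mem_sdiff.mpr ⟨hcl ψ hψs φ hφ, fun hφt => hψt ?_⟩
        have h2 := (Finset.mem_filter.mp hφt).2
        exact Finset.mem_filter.mpr ⟨Finset.mem_univ _,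
          h7_sameBlock_trans hPr h2 (h7_sameBlock_symm hφ)⟩
      · intro ψ hψ
        exact hid ψ (Finset.mem_sdiff.mp hψ).1

theorem fc_over_closed [Fintype G] {p : ℕ} [hp : Fact p.Prime] {M : Ideal Cfsg.AlgInt}
    (hM : Cfsg.IsPModular p M) (N : Subgroup G) [hN : N.Normal] [Fintype N]
    (b : Set (Cfsg.IrrCharacter N)) (hb : Cfsg.IsPBlock M b) (hinv : fc_inv N b)
    (χ ψ : Cfsg.IrrCharacter G) (h : Cfsg.SameBlock M (χ : G → ℂ) (ψ : G → ℂ))
    (hχ : χ ∈ h7_over N b) : ψ ∈ h7_over N b := by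
  haveI : Fintype (Cfsg.IrrCharacter N) := Fintype.ofFinite _
  haveI : Fintype (Cfsg.IrrCharacter G) := Fintype.ofFinite _
  exact h7_over_congr N hM.2.1.isPrime b (fc_gstable N b hinv)
    (fun n => Cfsg.Agent.S0913.result p M hM b hb n) χ ψ h hχ

theorem fc_exists_big_block [Fintype G] {p : ℕ} [hp : Fact p.Prime] {M : Ideal Cfsg.AlgInt}
    (hM : Cfsg.IsPModular p M) (N : Subgroup G) [hN : N.Normal] [Fintype N]
    (b : Set (Cfsg.IrrCharacter N)) (hb : Cfsg.IsPBlock M b) (hinv : fc_inv N b) :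
    ∃ B₁ : Set (Cfsg.IrrCharacter G), Cfsg.IsPBlock M B₁ ∧
      (∃ χ ∈ B₁, ∃ θ ∈ b, Cfsg.classInner (fun n : N => (χ : G → ℂ) n) (θ : N → ℂ) ≠ 0) ∧
      Cfsg.blockDefect p b + N.index.factorization p ≤ Cfsg.blockDefect p B₁ := by
  classical
  have hPr := hM.2.1.isPrime
  haveI : Fintype (Cfsg.IrrCharacter N) := Fintype.ofFinite _
  haveI : Fintype (Cfsg.IrrCharacter G) := Fintype.ofFinite _
  obtain ⟨x, hx, hν⟩ := fc_exists_good hM N b hb hinv
  have hd := fc_card_centralizer_eq_defect hM b hb x hx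
  set s : Finset (Cfsg.IrrCharacter G) := Finset.univ.filter (fun χ => χ ∈ h7_over N b) with hs
  have hsA : (↑s : Set (Cfsg.IrrCharacter G)) = h7_over N b := by
    ext χ
    simp [hs]
  have hcoef : Cfsg.blockCoeff (↑s : Set (Cfsg.IrrCharacter G)) (x : G) = Cfsg.blockCoeff b x := by
    rw [hsA, h7_cover_coef N b (fc_gstable N b hinv), h7_extendByZero_mem N _ _ x.2]
  have hex : ∃ χ ∈ s, ¬ Cfsg.MemLocalIdeal M
      (Cfsg.blockCoeff (Cfsg.blockOf M (χ : G → ℂ)) (x : G)) := by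
    by_contra hcon
    push Not at hcon
    apply hx.2.1
    rw [← hcoef]
    apply fc_union_ideal hPr (x : G) s _ hcon
    intro χ hχ ψ hψ
    rw [hs, Finset.mem_filter] at hχ ⊢
    exact ⟨Finset.mem_univ _, fc_over_closed hM N b hb hinv χ ψ hψ hχ.2⟩
  obtain ⟨χ, hχs, hχ⟩ := hex
  have hχA : χ ∈ h7_over N b := (Finset.mem_filter.mp hχs).2
  refine ⟨Cfsg.blockOf M (χ : G → ℂ), ⟨χ, rfl⟩, ⟨χ, h7_sameBlock_refl hPr _, hχA⟩, ?_⟩
  obtain ⟨S⟩ : Nonempty (Sylow p (Subgroup.centralizer ({(x : G)} : Set G))) := inferInstance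
  set V : Subgroup G := (S : Subgroup (Subgroup.centralizer ({(x : G)} : Set G))).map
    (Subgroup.centralizer ({(x : G)} : Set G)).subtype with hV
  have hVp : IsPGroup p V := S.2.map _
  have hVC : V ≤ Subgroup.centralizer ({(x : G)} : Set G) := by
    rintro _ ⟨v, _, rfl⟩
    exact v.2
  obtain ⟨P, hP, hVP⟩ := qg_mm_a p M hM _ ⟨χ, rfl⟩ (x : G)
    (Cfsg.Agent.S0913.result p M hM _ ⟨χ, rfl⟩ _) hχ V hVp hVC
  have hcP := Cfsg.Agent.S0908.result p M hM _ ⟨χ, rfl⟩ P hP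
  have hcV : Nat.card V = p ^ (Nat.card (Subgroup.centralizer ({(x : G)} : Set G))).factorization p := by
    rw [hV, Subgroup.card_map_of_injective (Subgroup.subtype_injective _),
      Sylow.card_eq_multiplicity]
  have hle : Nat.card V ≤ Nat.card P := Subgroup.card_le_of_le hVP
  rw [hcV, hcP] at hle
  have := (Nat.pow_le_pow_iff_right hp.out.one_lt).mp hle
  omega

end Cfsg.Agent.Lib.Helper24
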