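import Mathlib
import Cfsg.Prelude.Def_Blocks
import Cfsg.Agent.Lib.Helper24.FongCover3

set_option autoImplicit false
set_option linter.style.haveILetI false
set_option linter.unusedSectionVars false
set_option linter.unusedVariables false

namespace Cfsg.Agent.Lib.Helper24

open scoped ComplexConjugate
open Cfsg.Agent.Lib.Helper25 Cfsg.Agent.Lib.Helper11 Cfsg.Agent.Lib.helper2 Cfsg.Agent.Lib.helper7

variable {G : Type*} [Group G]

theorem fc_degree_dvd [Fintype G] (N : Subgroup G) [hN : N.Normal] [Fintype N]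
    (χ : Cfsg.IrrCharacter G) (θ : Cfsg.IrrCharacter N)
    (hcon : Cfsg.classInner (fun n : N => (χ : G → ℂ) n) (θ : N → ℂ) ≠ 0) :
    Cfsg.charDegree (θ : N → ℂ) ∣ Cfsg.charDegree (χ : G → ℂ) := by
  classical
  obtain ⟨e, he, h1, h2⟩ := h7_clifford N (χ : G → ℂ) χ.2 (θ : N → ℂ) θ.2 hcon
  have h3 := congrFun h2 1
  simp only [Pi.smul_apply, Finset.sum_apply, smul_eq_mul] at h3
  have h4 : ∀ ψ ∈ Finset.univ.image (fun g : G => cj N (θ : N → ℂ) g), ψ 1 = (θ : N → ℂ) 1 := by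
    intro ψ hψ
    obtain ⟨g, -, rfl⟩ := Finset.mem_image.mp hψ
    rw [cj_apply]
    exact congrArg (θ : N → ℂ) (Subtype.ext (by simp))
  rw [Finset.sum_congr rfl h4, Finset.sum_const, nsmul_eq_mul] at h3
  have h5 := (charDegree_irr χ).1
  have h6 := (charDegree_irr θ).1
  have h7 : ((1 : N) : G) = 1 := rfl
  rw [h7, ← h5, ← h6] at h3
  refine ⟨e * (Finset.univ.image (fun g : G => cj N (θ : N → ℂ) g)).card, ?_⟩
  have : ((Cfsg.charDegree (χ : G → ℂ) : ℕ) : ℂ) =
      ((Cfsg.charDegree (θ : N → ℂ) *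
        (e * (Finset.univ.image (fun g : G => cj N (θ : N → ℂ) g)).card) : ℕ) : ℂ) := by
    rw [h3]
    push_cast
    ring
  exact_mod_cast this

theorem fc_block_sub_over [Fintype G] {p : ℕ} [hp : Fact p.Prime] {M : Ideal Cfsg.AlgInt}
    (hM : Cfsg.IsPModular p M) (N : Subgroup G) [hN : N.Normal] [Fintype N]
    (b : Set (Cfsg.IrrCharacter N)) (hb : Cfsg.IsPBlock M b) (hinv : fc_inv N b)
    (B : Set (Cfsg.IrrCharacter G)) (hB : Cfsg.IsPBlock M B)
    (hcov : ∃ χ ∈ B, ∃ θ ∈ b, Cfsg.classInner (fun n : N => (χ : G → ℂ) n) (θ : N → ℂ) ≠ 0) :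
    B ⊆ h7_over N b := by
  haveI : Fintype (Cfsg.IrrCharacter G) := Fintype.ofFinite _
  have hPr := hM.2.1.isPrime
  obtain ⟨χ, hχ, hχA⟩ := hcov
  obtain ⟨χ₀, rfl⟩ := hB
  intro ψ hψ
  exact fc_over_closed hM N b hb hinv χ ψ (h7_sameBlock_trans hPr (h7_sameBlock_symm hχ) hψ) hχA

theorem fc_defect_le [Fintype G] {p : ℕ} [hp : Fact p.Prime] {M : Ideal Cfsg.AlgInt}
    (hM : Cfsg.IsPModular p M) (N : Subgroup G) [hN : N.Normal] [Fintype N]
    (b : Set (Cfsg.IrrCharacter N)) (hb : Cfsg.IsPBlock M b) (hinv : fc_inv N b)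
    (B : Set (Cfsg.IrrCharacter G)) (hB : Cfsg.IsPBlock M B)
    (hcov : ∃ χ ∈ B, ∃ θ ∈ b, Cfsg.classInner (fun n : N => (χ : G → ℂ) n) (θ : N → ℂ) ≠ 0) :
    Cfsg.blockDefect p B ≤ Cfsg.blockDefect p b + N.index.factorization p := by
  classical
  haveI : Fintype (Cfsg.IrrCharacter G) := Fintype.ofFinite _
  have hPr := hM.2.1.isPrime
  have hsub := fc_block_sub_over hM N b hb hinv B hB hcov
  have hne : ((fun χ : Cfsg.IrrCharacter G => (Cfsg.charDegree (χ : G → ℂ)).factorization p) ''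
      B).Nonempty := by
    obtain ⟨χ, hχ, -⟩ := hcov
    exact ⟨_, χ, hχ, rfl⟩
  obtain ⟨χ, hχ, heq⟩ := Nat.sInf_mem hne
  obtain ⟨θ, hθ, hcon⟩ := hsub hχ
  have hdvd := fc_degree_dvd N χ θ hcon
  have h1 : (Cfsg.charDegree (θ : N → ℂ)).factorization p ≤
      (Cfsg.charDegree (χ : G → ℂ)).factorization p :=
    (Nat.factorization_le_iff_dvd (charDegree_irr θ).2.ne' (charDegree_irr χ).2.ne').mpr hdvd p
  have h2 : (Cfsg.charDegree (θ : N → ℂ)).factorization p ≤ (Nat.card N).factorization p :=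
    (Nat.factorization_le_iff_dvd (charDegree_irr θ).2.ne' Nat.card_pos.ne').mpr
      (h7_charDegree_props θ).1 p
  have h3 : sInf ((fun θ : Cfsg.IrrCharacter N => (Cfsg.charDegree (θ : N → ℂ)).factorization p) ''
      b) ≤ (Cfsg.charDegree (θ : N → ℂ)).factorization p := Nat.sInf_le ⟨θ, hθ, rfl⟩
  have h4 : (Nat.card G).factorization p =
      N.index.factorization p + (Nat.card N).factorization p := by
    rw [← Subgroup.index_mul_card N, Nat.factorization_mul Subgroup.index_ne_zero_of_finite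
      Nat.card_pos.ne', Finsupp.add_apply]
  have heq' : sInf ((fun χ : Cfsg.IrrCharacter G =>
      (Cfsg.charDegree (χ : G → ℂ)).factorization p) '' B) =
      (Cfsg.charDegree (χ : G → ℂ)).factorization p := heq.symm
  unfold Cfsg.blockDefect
  rw [heq']
  omega

theorem fc_brauer [Fintype G] {p : ℕ} [hp : Fact p.Prime] {M : Ideal Cfsg.AlgInt}
    (hM : Cfsg.IsPModular p M) (N : Subgroup G) [hN : N.Normal] [Fintype N]
    (b : Set (Cfsg.IrrCharacter N)) (hb : Cfsg.IsPBlock M b) (hinv : fc_inv N b)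
    (B : Set (Cfsg.IrrCharacter G)) (hB : Cfsg.IsPBlock M B) (hBA : B ⊆ h7_over N b)
    (R : Subgroup G) (hR : IsPGroup p R) (g : G)
    (hg : g ∈ Subgroup.centralizer (R : Set G))
    (ha : ¬ Cfsg.MemLocalIdeal M (Cfsg.blockCoeff B g)) :
    ∃ n : N, (n : G) ∈ Subgroup.centralizer (R : Set G) ∧
      ¬ Cfsg.MemLocalIdeal M (Cfsg.blockCoeff b n) := by
  classical
  haveI : Fintype (Cfsg.IrrCharacter G) := Fintype.ofFinite _
  haveI : Fintype (Cfsg.IrrCharacter N) := Fintype.ofFinite _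
  haveI : Fintype (Subgroup.centralizer (R : Set G)) := Fintype.ofFinite _
  have hPr := hM.2.1.isPrime
  by_contra hcon
  push Not at hcon
  apply ha
  set c : Cfsg.IrrCharacter G → ℂ := fun χ => if χ ∈ B then 1 else 0 with hc
  set d : Cfsg.IrrCharacter G → ℂ := fun χ => if χ ∈ h7_over N b then 1 else 0 with hd
  have hcd : c * d = c := by
    funext χ
    simp only [Pi.mul_apply, hc, hd]
    by_cases hχ : χ ∈ B
    · rw [if_pos hχ, if_pos (hBA hχ), mul_one]
    · rw [if_neg hχ, zero_mul]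
  have hmul := h7_coef_mul c d g
  rw [hcd] at hmul
  simp only [hc, hd, h7_coef_indicator] at hmul
  rw [hmul]
  set f : G → ℂ := fun h => Cfsg.blockCoeff B (g * h⁻¹) * Cfsg.blockCoeff (h7_over N b) h with hf
  have hAcoef : ∀ h : G, Cfsg.blockCoeff (h7_over N b) h =
      Cfsg.extendByZero N (fun n : N => Cfsg.blockCoeff b n) h :=
    fun h => h7_cover_coef N b (fc_gstable N b hinv) h
  have hAR : ∀ h : G, Cfsg.MemLocalRing M (Cfsg.blockCoeff (h7_over N b) h) := by
    intro h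
    rw [hAcoef]
    by_cases hh : h ∈ N
    · rw [h7_extendByZero_mem N _ h hh]
      exact Cfsg.Agent.S0913.result p M hM b hb _
    · rw [h7_extendByZero_not_mem N _ h hh]
      exact h7_memLocalRing_zero hPr
  have hfinv : ∀ u ∈ R, ∀ x : G, f (u * x * u⁻¹) = f x := by
    intro u hu x
    have hgu : u * g = g * u := (Subgroup.mem_centralizer_iff.mp hg u hu)
    have e1 : g * (u * x * u⁻¹)⁻¹ = u * (g * x⁻¹) * u⁻¹ := by
      have : g * (u * x * u⁻¹)⁻¹ = (g * u) * x⁻¹ * u⁻¹ := by group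
      rw [this, ← hgu]
      group
    simp only [hf]
    rw [e1, bu_blockCoeff_conj, bu_blockCoeff_conj]
  have hfR : ∀ x, Cfsg.MemLocalRing M (f x) :=
    fun x => h7_memLocalRing_mul hPr (Cfsg.Agent.S0913.result p M hM B hB _) (hAR x)
  have hsum := h7_sum_centralizer hM R hR f hfinv hfR
  have hcent : Cfsg.MemLocalIdeal M (∑ c : Subgroup.centralizer (R : Set G), f (c : G)) := by
    apply h7_memLocalIdeal_sum hPr
    intro c _
    apply h7_memLocalIdeal_mul_left hPr (Cfsg.Agent.S0913.result p M hM B hB _)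
    rw [hAcoef]
    by_cases hh : (c : G) ∈ N
    · rw [h7_extendByZero_mem N _ _ hh]
      exact hcon ⟨(c : G), hh⟩ c.2
    · rw [h7_extendByZero_not_mem N _ _ hh]
      exact h7_memLocalIdeal_zero hPr
  have := h7_memLocalIdeal_add hPr hsum hcent
  simpa using this

end Cfsg.Agent.Lib.Helper24
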