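import Mathlib
import Cfsg.Prelude.Def_Blocks
import Cfsg.Agent.Lib.Helper24.FongCover4

set_option autoImplicit false
set_option linter.style.haveILetI false
set_option linter.unusedSectionVars false
set_option linter.unusedVariables false

namespace Cfsg.Agent.Lib.Helper24

open scoped ComplexConjugate
open Cfsg.Agent.Lib.Helper25 Cfsg.Agent.Lib.Helper11 Cfsg.Agent.Lib.helper2 Cfsg.Agent.Lib.helper7

variable {G : Type*} [Group G]

theorem fc_inter_le [Fintype G] {p : ℕ} [hp : Fact p.Prime] {M : Ideal Cfsg.AlgInt}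
    (hM : Cfsg.IsPModular p M) (N : Subgroup G) [hN : N.Normal] [Fintype N]
    (b : Set (Cfsg.IrrCharacter N)) (hb : Cfsg.IsPBlock M b) (hinv : fc_inv N b)
    (B : Set (Cfsg.IrrCharacter G)) (hB : Cfsg.IsPBlock M B)
    (hcov : ∃ χ ∈ B, ∃ θ ∈ b, Cfsg.classInner (fun n : N => (χ : G → ℂ) n) (θ : N → ℂ) ≠ 0)
    (P : Subgroup G) (hP : Cfsg.IsDefectGroup p M B P) :
    ∃ Q : Subgroup N, Cfsg.IsDefectGroup p M b Q ∧ (P ⊓ N).subgroupOf N ≤ Q := by
  classical
  obtain ⟨g, hg, D, rfl⟩ := hP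
  set P : Subgroup G := (D : Subgroup (Subgroup.centralizer ({g} : Set G))).map
    (Subgroup.centralizer ({g} : Set G)).subtype with hPdef
  have hPp : IsPGroup p P := D.2.map _
  have hRp : IsPGroup p (P ⊓ N : Subgroup G) := hPp.to_le inf_le_left
  have hgR : g ∈ Subgroup.centralizer ((P ⊓ N : Subgroup G) : Set G) := by
    rw [Subgroup.mem_centralizer_iff]
    intro r hr
    obtain ⟨q, -, rfl⟩ := (Subgroup.mem_inf.mp hr).1
    exact (Subgroup.mem_centralizer_singleton_iff.mp q.2)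
  have hBA := fc_block_sub_over hM N b hb hinv B hB hcov
  obtain ⟨n, hnR, hna⟩ := fc_brauer hM N b hb hinv B hB hBA _ hRp g hgR hg.2.1
  have hVp : IsPGroup p ((P ⊓ N).subgroupOf N) := hRp.comap_subtype
  have hVC : (P ⊓ N).subgroupOf N ≤ Subgroup.centralizer ({n} : Set N) := by
    intro v hv
    rw [Subgroup.mem_centralizer_singleton_iff]
    have h1 := Subgroup.mem_centralizer_iff.mp hnR (v : G) (Subgroup.mem_subgroupOf.mp hv)
    apply Subtype.ext
    simpa using h1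
  exact qg_mm_a p M hM b hb n (Cfsg.Agent.S0913.result p M hM b hb n) hna _ hVp hVC

theorem fc_fong [Fintype G] {p : ℕ} [hp : Fact p.Prime] {M : Ideal Cfsg.AlgInt}
    (hM : Cfsg.IsPModular p M) (N : Subgroup G) [hN : N.Normal] [Fintype N]
    (b : Set (Cfsg.IrrCharacter N)) (hb : Cfsg.IsPBlock M b) (hinv : fc_inv N b)
    (B : Set (Cfsg.IrrCharacter G)) (hB : Cfsg.IsPBlock M B)
    (hcov : ∃ χ ∈ B, ∃ θ ∈ b, Cfsg.classInner (fun n : N => (χ : G → ℂ) n) (θ : N → ℂ) ≠ 0)
    (hmax : ∀ B' : Set (Cfsg.IrrCharacter G), Cfsg.IsPBlock M B' →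
      (∃ χ ∈ B', ∃ θ ∈ b, Cfsg.classInner (fun n : N => (χ : G → ℂ) n) (θ : N → ℂ) ≠ 0) →
      Cfsg.blockDefect p B' ≤ Cfsg.blockDefect p B)
    (P : Subgroup G) (hP : Cfsg.IsDefectGroup p M B P) :
    ¬ p ∣ (P ⊔ N).index ∧ Cfsg.IsDefectGroup p M b ((P ⊓ N).subgroupOf N) ∧
      Cfsg.blockDefect p B = Cfsg.blockDefect p b + N.index.factorization p := by
  classical
  have hp1 := hp.out.one_lt
  have hd1 := fc_defect_le hM N b hb hinv B hB hcov
  obtain ⟨B₁, hB₁, hcov₁, hd₂⟩ := fc_exists_big_block hM N b hb hinv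
  have hd3 := hmax B₁ hB₁ hcov₁
  have hdB : Cfsg.blockDefect p B = Cfsg.blockDefect p b + N.index.factorization p := by omega
  obtain ⟨Q, hQ, hle⟩ := fc_inter_le hM N b hb hinv B hB hcov P hP
  have hcP := Cfsg.Agent.S0908.result p M hM B hB P hP
  have hcQ := Cfsg.Agent.S0908.result p M hM b hb Q hQ
  have hcR : Nat.card ((P ⊓ N).subgroupOf N) = Nat.card (P ⊓ N : Subgroup G) :=
    Nat.card_congr (Subgroup.subgroupOfEquivOfLe inf_le_right).toEquiv
  have hRle : Nat.card (P ⊓ N : Subgroup G) ≤ p ^ Cfsg.blockDefect p b := by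
    rw [← hcR, ← hcQ]
    exact Subgroup.card_le_of_le hle
  have hi1 : (P ⊓ N).relIndex P = N.relIndex P := Subgroup.inf_relIndex_left P N
  have hi2 : (P ⊓ N).relIndex P * Nat.card (P ⊓ N : Subgroup G) = Nat.card P := by
    have h1 := Subgroup.index_mul_card ((P ⊓ N).subgroupOf P)
    have h2 : Nat.card ((P ⊓ N).subgroupOf P) = Nat.card (P ⊓ N : Subgroup G) :=
      Nat.card_congr (Subgroup.subgroupOfEquivOfLe inf_le_left).toEquiv
    rw [h2] at h1
    exact h1
  have hi3 : N.relIndex (P ⊔ N) = N.relIndex P := Subgroup.relIndex_sup_right P N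
  have hi4 : N.relIndex (P ⊔ N) * (P ⊔ N).index = N.index :=
    Subgroup.relIndex_mul_index le_sup_right
  rw [hi1, hcP] at hi2
  rw [hi3] at hi4
  set i := N.relIndex P with hi
  have hidvd : i ∣ p ^ Cfsg.blockDefect p B := Dvd.intro _ hi2
  obtain ⟨a, ha, hia⟩ := (Nat.dvd_prime_pow hp.out).mp hidvd
  have hRdvd : Nat.card (P ⊓ N : Subgroup G) ∣ p ^ Cfsg.blockDefect p B := Dvd.intro_left _ hi2
  obtain ⟨c, hc, hRc⟩ := (Nat.dvd_prime_pow hp.out).mp hRdvd
  rw [hia, hRc, ← pow_add] at hi2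
  have hac : a + c = Cfsg.blockDefect p B := Nat.pow_right_injective hp.out.two_le hi2
  rw [hRc] at hRle
  have hcle : c ≤ Cfsg.blockDefect p b := (Nat.pow_le_pow_iff_right hp1).mp hRle
  have hidx0 : (P ⊔ N).index ≠ 0 := Subgroup.index_ne_zero_of_finite
  have hf := congrArg (fun n => n.factorization p) hi4
  simp only [hia, Nat.factorization_mul (pow_ne_zero a hp.out.ne_zero) hidx0, Finsupp.add_apply,
    Nat.Prime.factorization_pow hp.out, Finsupp.single_eq_same] at hf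
  have hc_eq : c = Cfsg.blockDefect p b := by omega
  have hidx : ((P ⊔ N).index).factorization p = 0 := by omega
  refine ⟨?_, ?_, hdB⟩
  · intro hdvd
    have := (hp.out.factorization_pos_of_dvd hidx0 hdvd)
    omega
  · have heq : (P ⊓ N).subgroupOf N = Q := by
      apply Subgroup.eq_of_le_of_card_ge hle
      rw [hcQ, hcR, hRc, hc_eq]
    rw [heq]
    exact hQ

end Cfsg.Agent.Lib.Helper24
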