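import Mathlib
import Cfsg.Prelude.Def_Blocks
import Cfsg.Agent.Lib.Helper24.FongCover5

set_option autoImplicit false
set_option linter.style.haveILetI false
set_option linter.unusedSectionVars false
set_option linter.unusedVariables false

namespace Cfsg.Agent.Lib.Helper24

open scoped ComplexConjugate
open Cfsg.Agent.Lib.Helper25 Cfsg.Agent.Lib.Helper11 Cfsg.Agent.Lib.helper2 Cfsg.Agent.Lib.helper7

section

variable {A B : Type*} [Group A] [Group B]

theorem bt_tr_symm_tr (e : A ≃* B) (θ : Cfsg.IrrCharacter B) :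
    ef_tr e.symm (ef_tr e θ) = θ := by
  apply Subtype.ext
  funext x
  rw [ef_tr_apply, ef_tr_apply, MulEquiv.apply_symm_apply]

theorem bt_tr_tr_symm (e : A ≃* B) (θ : Cfsg.IrrCharacter A) :
    ef_tr e (ef_tr e.symm θ) = θ := by
  apply Subtype.ext
  funext x
  rw [ef_tr_apply, ef_tr_apply, MulEquiv.symm_apply_apply]

def bt_trb (e : A ≃* B) (b : Set (Cfsg.IrrCharacter B)) : Set (Cfsg.IrrCharacter A) :=
  {θ' | ef_tr e.symm θ' ∈ b}

theorem bt_mem_trb (e : A ≃* B) (b : Set (Cfsg.IrrCharacter B)) (θ : Cfsg.IrrCharacter B) :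
    ef_tr e θ ∈ bt_trb e b ↔ θ ∈ b := by
  unfold bt_trb
  rw [Set.mem_ofPred_eq, bt_tr_symm_tr]

theorem bt_mem_trb' (e : A ≃* B) (b : Set (Cfsg.IrrCharacter B)) (θ' : Cfsg.IrrCharacter A) :
    θ' ∈ bt_trb e b ↔ ef_tr e.symm θ' ∈ b := Iff.rfl

theorem bt_trb_blockOf [Finite A] [Finite B] {M : Ideal Cfsg.AlgInt} (e : A ≃* B)
    (θ₀ : Cfsg.IrrCharacter B) :
    bt_trb e (Cfsg.blockOf M (θ₀ : B → ℂ)) = Cfsg.blockOf M (ef_tr e θ₀ : A → ℂ) := by
  ext θ'
  rw [bt_mem_trb']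
  constructor
  · intro h
    have h1 := ef_sameBlock_comp e _ _ h
    have h2 : (fun a => (ef_tr e.symm θ' : B → ℂ) (e a)) = (θ' : A → ℂ) := by
      funext a
      rw [ef_tr_apply, MulEquiv.symm_apply_apply]
    rw [h2] at h1
    exact h1
  · intro h
    have h1 := ef_sameBlock_comp e.symm _ _ h
    have h2 : (fun a => (ef_tr e θ₀ : A → ℂ) (e.symm a)) = (θ₀ : B → ℂ) := by
      funext a
      rw [ef_tr_apply, MulEquiv.apply_symm_apply]
    rw [h2] at h1
    exact h1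

theorem bt_trb_isPBlock [Finite A] [Finite B] {M : Ideal Cfsg.AlgInt} (e : A ≃* B)
    (b : Set (Cfsg.IrrCharacter B)) (hb : Cfsg.IsPBlock M b) : Cfsg.IsPBlock M (bt_trb e b) := by
  obtain ⟨θ₀, rfl⟩ := hb
  exact ⟨ef_tr e θ₀, bt_trb_blockOf e θ₀⟩

theorem bt_charDegree_tr (e : A ≃* B) (θ : Cfsg.IrrCharacter B) :
    Cfsg.charDegree (ef_tr e θ : A → ℂ) = Cfsg.charDegree (θ : B → ℂ) := by
  unfold Cfsg.charDegree
  rw [ef_tr_apply, map_one]

theorem bt_blockDefect [Finite A] [Finite B] (p : ℕ) (e : A ≃* B)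
    (b : Set (Cfsg.IrrCharacter B)) :
    Cfsg.blockDefect p (bt_trb e b) = Cfsg.blockDefect p b := by
  unfold Cfsg.blockDefect
  have h1 : Nat.card A = Nat.card B := Nat.card_congr e.toEquiv
  have h2 : (fun χ : Cfsg.IrrCharacter A => (Cfsg.charDegree (χ : A → ℂ)).factorization p) ''
      bt_trb e b =
      (fun χ : Cfsg.IrrCharacter B => (Cfsg.charDegree (χ : B → ℂ)).factorization p) '' b := by
    ext n
    constructor
    · rintro ⟨θ', hθ', rfl⟩
      refine ⟨ef_tr e.symm θ', hθ', ?_⟩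
      simp only [bt_charDegree_tr]
    · rintro ⟨θ, hθ, rfl⟩
      refine ⟨ef_tr e θ, (bt_mem_trb e b θ).mpr hθ, ?_⟩
      simp only [bt_charDegree_tr]
  rw [h1, h2]

end

end Cfsg.Agent.Lib.Helper24
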