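import Mathlib

set_option autoImplicit false

namespace Cfsg.Agent.Lib.Helper24

variable {G : Type*} [Group G]

theorem ci_conj_pow (g x : G) (k : ℕ) (h : g * x * g⁻¹ = x ^ k) (m : ℕ) :
    g ^ m * x * (g ^ m)⁻¹ = x ^ (k ^ m) := by
  induction m with
  | zero => simp
  | succ m ih =>
    calc g ^ (m + 1) * x * (g ^ (m + 1))⁻¹ = g * (g ^ m * x * (g ^ m)⁻¹) * g⁻¹ := by
          rw [pow_succ', mul_inv_rev]
          group
      _ = g * x ^ (k ^ m) * g⁻¹ := by rw [ih]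
      _ = (g * x * g⁻¹) ^ (k ^ m) := by rw [conj_pow]
      _ = x ^ (k ^ (m + 1)) := by rw [h, ← pow_mul, pow_succ']

theorem ci_key [Finite G] (p : ℕ) [hp : Fact p.Prime] (P : Subgroup G) (n : ℕ) (hn : 0 < n)
    (hcard : Nat.card P = p ^ n) (x₀ : G) (hx₀ : x₀ ∈ P) (hgen : ∀ y ∈ P, ∃ j : ℕ, y = x₀ ^ j)
    (g : G) (hg : g ∈ Subgroup.normalizer (P : Set G)) (x : G) (hx : x ∈ P) (hx1 : x ≠ 1)
    (hfix : g * x * g⁻¹ = x) :
    g ^ (p ^ (n - 1)) ∈ Subgroup.centralizer (P : Set G) := by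
  have hord : orderOf x₀ = p ^ n := by
    have h1 : Nat.card (Subgroup.zpowers x₀) = p ^ n := by
      have : Subgroup.zpowers x₀ = P := by
        apply le_antisymm
        · rw [Subgroup.zpowers_le]
          exact hx₀
        · intro y hy
          obtain ⟨j, rfl⟩ := hgen y hy
          exact Subgroup.pow_mem _ (Subgroup.mem_zpowers x₀) j
      rw [this, hcard]
    rw [← h1, Nat.card_zpowers]
  have hgx : g * x₀ * g⁻¹ ∈ P := (Subgroup.mem_normalizer_iff.mp hg x₀).mp hx₀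
  obtain ⟨k, hk⟩ := hgen _ hgx
  obtain ⟨j, hj⟩ := hgen x hx
  have hjn : ¬ p ^ n ∣ j := by
    intro hdvd
    apply hx1
    rw [hj, ← hord] at *
    exact orderOf_dvd_iff_pow_eq_one.mp hdvd
  have h1 : x₀ ^ (k * j) = x₀ ^ j := by
    calc x₀ ^ (k * j) = (g * x₀ * g⁻¹) ^ j := by rw [hk, ← pow_mul]
      _ = g * x₀ ^ j * g⁻¹ := by rw [conj_pow]
      _ = x₀ ^ j := by rw [← hj, hfix]
  have h2 : k * j ≡ j [MOD p ^ n] := by
    rw [← hord]
    exact pow_eq_pow_iff_modEq.mp h1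
  have h3 : (p : ℤ) ∣ (k : ℤ) - 1 := by
    by_contra hnd
    apply hjn
    have h4 : ((p ^ n : ℕ) : ℤ) ∣ ((k : ℤ) - 1) * j := by
      have := (Nat.modEq_iff_dvd.mp h2.symm)
      have e : ((k * j : ℕ) : ℤ) - (j : ℤ) = ((k : ℤ) - 1) * j := by push_cast; ring
      rw [e] at this
      exact this
    have hcop : IsCoprime ((p ^ n : ℕ) : ℤ) ((k : ℤ) - 1) := by
      rw [Nat.cast_pow]
      apply IsCoprime.pow_left
      rw [Prime.coprime_iff_not_dvd (Nat.prime_iff_prime_int.mp hp.out)]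
      exact hnd
    have := hcop.dvd_of_dvd_mul_left h4
    exact_mod_cast this
  have h5 : ((p : ℤ) ^ (n - 1 + 1)) ∣ (k : ℤ) ^ (p ^ (n - 1)) - 1 ^ (p ^ (n - 1)) :=
    dvd_sub_pow_of_dvd_sub h3 (n - 1)
  rw [Nat.sub_add_cancel hn, one_pow] at h5
  have h6 : k ^ (p ^ (n - 1)) ≡ 1 [MOD p ^ n] := by
    apply (Nat.modEq_iff_dvd.mpr _).symm
    push_cast
    exact h5
  have h7 : g ^ (p ^ (n - 1)) * x₀ * (g ^ (p ^ (n - 1)))⁻¹ = x₀ := by
    rw [ci_conj_pow g x₀ k hk]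
    have : x₀ ^ (k ^ (p ^ (n - 1))) = x₀ ^ 1 := by
      rw [pow_eq_pow_iff_modEq, hord]
      exact h6
    rw [this, pow_one]
  rw [Subgroup.mem_centralizer_iff]
  intro y hy
  obtain ⟨i, rfl⟩ := hgen y hy
  have h8 : g ^ (p ^ (n - 1)) * x₀ = x₀ * g ^ (p ^ (n - 1)) := by
    have := congrArg (· * g ^ (p ^ (n - 1))) h7
    simpa [mul_assoc] using this
  exact ((Commute.pow_right (show Commute (g ^ (p ^ (n - 1))) x₀ from h8) i).eq).symm

end Cfsg.Agent.Lib.Helper24
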