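import Mathlib
import Cfsg.Agent.Lib.Helper24.CyclicInertial1

set_option autoImplicit false

namespace Cfsg.Agent.Lib.Helper24

variable {G : Type*} [Group G]

theorem ci_main [Finite G] (p : ℕ) [hp : Fact p.Prime] (P : Subgroup G) (hP : IsPGroup p P)
    (hP1 : P ≠ ⊥) (hcyc : IsCyclic P) (T : Subgroup G)
    (hTN : T ≤ Subgroup.normalizer (P : Set G))
    [hn : ((Subgroup.centralizer (P : Set G)).subgroupOf T).Normal]
    (hidx : ¬ p ∣ (Subgroup.centralizer (P : Set G)).relIndex T) :
    IsCyclic (T ⧸ (Subgroup.centralizer (P : Set G)).subgroupOf T) ∧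
      (Subgroup.centralizer (P : Set G)).relIndex T ∣ p - 1 ∧
      ∀ g ∈ T, ∀ x ∈ P, x ≠ 1 → g * x * g⁻¹ = x → g ∈ Subgroup.centralizer (P : Set G) := by
  classical
  obtain ⟨n, hcard⟩ := hP.exists_card_eq
  have hn0 : 0 < n := by
    rcases Nat.eq_zero_or_pos n with h0 | h0
    · exfalso
      rw [h0, pow_zero] at hcard
      exact hP1 (Subgroup.card_eq_one.mp hcard)
    · exact h0
  set C := Subgroup.centralizer (P : Set G) with hC
  let φ : T →* MulAut P := (Subgroup.normalizerMonoidHom P).comp (Subgroup.inclusion hTN)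
  have hker : φ.ker = C.subgroupOf T := by
    ext t
    rw [MonoidHom.mem_ker, MonoidHom.comp_apply, ← MonoidHom.mem_ker,
      Subgroup.normalizerMonoidHom_ker, Subgroup.mem_subgroupOf, Subgroup.mem_subgroupOf]
    rfl
  have hQcard : Nat.card (T ⧸ C.subgroupOf T) = C.relIndex T := by
    rw [Subgroup.relIndex, Subgroup.index]
  have hinj : Function.Injective (QuotientGroup.kerLift φ) := QuotientGroup.kerLift_injective φ
  let e : (T ⧸ C.subgroupOf T) ≃* (T ⧸ φ.ker) := QuotientGroup.quotientMulEquivOfEq hker.symm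
  let ψ : (T ⧸ C.subgroupOf T) →* MulAut P := (QuotientGroup.kerLift φ).comp e.toMonoidHom
  have hψinj : Function.Injective ψ := hinj.comp e.injective
  have hAut : Nat.card (MulAut P) = p ^ (n - 1) * (p - 1) := by
    rw [IsCyclic.card_mulAut, hcard, Nat.totient_prime_pow hp.out hn0]
  have hdvd : C.relIndex T ∣ p - 1 := by
    have h1 : Nat.card (T ⧸ C.subgroupOf T) ∣ Nat.card (MulAut P) :=
      Subgroup.card_dvd_of_injective ψ hψinj
    rw [hQcard, hAut] at h1
    have hcop : Nat.Coprime (C.relIndex T) (p ^ (n - 1)) := by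
      apply Nat.Coprime.pow_right
      rw [Nat.coprime_comm, Nat.Prime.coprime_iff_not_dvd hp.out]
      exact hidx
    exact hcop.dvd_of_dvd_mul_left h1
  refine ⟨?_, hdvd, ?_⟩
  · by_cases hp2 : p = 2
    · have h1 : C.relIndex T = 1 := by
        rw [hp2] at hdvd
        exact Nat.dvd_one.mp hdvd
      rw [← hQcard] at h1
      haveI : Subsingleton (T ⧸ C.subgroupOf T) := (Nat.card_eq_one_iff_unique.mp h1).1
      exact isCyclic_of_subsingleton
    · haveI : IsCyclic (ZMod (Nat.card P))ˣ := by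
        rw [hcard]
        exact ZMod.isCyclic_units_of_prime_pow p hp.out hp2 n
      haveI : IsCyclic (MulAut P) :=
        isCyclic_of_injective (IsCyclic.mulAutMulEquiv P).toMonoidHom (IsCyclic.mulAutMulEquiv P).injective
      exact isCyclic_of_injective ψ hψinj
  · intro g hg x hx hx1 hfix
    obtain ⟨⟨x₀, hx₀⟩, hgen0⟩ := hcyc.exists_generator
    have hgen : ∀ y ∈ P, ∃ j : ℕ, y = x₀ ^ j := by
      intro y hy
      have h1 : (⟨y, hy⟩ : P) ∈ Subgroup.zpowers (⟨x₀, hx₀⟩ : P) := hgen0 _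
      rw [← mem_powers_iff_mem_zpowers] at h1
      obtain ⟨j, hj⟩ := h1
      refine ⟨j, ?_⟩
      have := congrArg Subtype.val hj
      simpa using this.symm
    have hkey := ci_key p P n hn0 hcard x₀ hx₀ hgen g (hTN hg) x hx hx1 hfix
    set q : T ⧸ C.subgroupOf T := QuotientGroup.mk (⟨g, hg⟩ : T) with hq
    have h1 : q ^ (p ^ (n - 1)) = 1 := by
      rw [hq, ← QuotientGroup.mk_pow, QuotientGroup.eq_one_iff, Subgroup.mem_subgroupOf]
      simpa using hkey
    have h2 : orderOf q ∣ p ^ (n - 1) := orderOf_dvd_of_pow_eq_one h1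
    have h3 : orderOf q ∣ C.relIndex T := by
      rw [← hQcard]
      exact orderOf_dvd_natCard q
    have hcop : Nat.Coprime (C.relIndex T) (p ^ (n - 1)) := by
      apply Nat.Coprime.pow_right
      rw [Nat.coprime_comm, Nat.Prime.coprime_iff_not_dvd hp.out]
      exact hidx
    have h4 : orderOf q = 1 := Nat.eq_one_of_dvd_coprimes hcop h3 h2
    have h5 : q = 1 := orderOf_eq_one_iff.mp h4
    rw [hq, QuotientGroup.eq_one_iff, Subgroup.mem_subgroupOf] at h5
    exact h5

end Cfsg.Agent.Lib.Helper24
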