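import Mathlib
import Cfsg.Prelude.Def_Blocks
import Cfsg.Agent.Lib.Helper24.ExtFirstMain2

set_option autoImplicit false
set_option linter.style.haveILetI false
set_option linter.unusedSectionVars false
set_option linter.unusedVariables false

namespace Cfsg.Agent.Lib.Helper24

open scoped ComplexConjugate
open Cfsg.Agent.Lib.Helper25 Cfsg.Agent.Lib.Helper11 Cfsg.Agent.Lib.helper2 Cfsg.Agent.Lib.helper7

variable {G : Type*} [Group G]

theorem ef_isPGroup_of_defect {p : ℕ} [Fact p.Prime] {M : Ideal Cfsg.AlgInt}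
    {B : Set (Cfsg.IrrCharacter G)} {P : Subgroup G} (hP : Cfsg.IsDefectGroup p M B P) :
    IsPGroup p P := by
  obtain ⟨g, hg, Q, hQ⟩ := hP
  rw [hQ]
  exact Q.isPGroup'.map _

theorem ef_normalizer_le (P : Subgroup G) :
    Subgroup.normalizer (P : Set G) ≤
      Subgroup.normalizer ((P ⊔ Subgroup.centralizer (P : Set G) : Subgroup G) : Set G) := by
  intro n hn
  have h1 : (P ⊔ Subgroup.centralizer (P : Set G)).map (MulAut.conj n).toMonoidHom =
      P ⊔ Subgroup.centralizer (P : Set G) := by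
    rw [Subgroup.map_sup]
    have hPm : P.map (MulAut.conj n).toMonoidHom = P := by
      ext y
      rw [Subgroup.mem_map]
      constructor
      · rintro ⟨u, hu, rfl⟩
        exact (Subgroup.mem_normalizer_iff.mp hn u).mp hu
      · intro hy
        refine ⟨n⁻¹ * y * n, ?_, ?_⟩
        · rw [Subgroup.mem_normalizer_iff.mp hn]
          have : n * (n⁻¹ * y * n) * n⁻¹ = y := by group
          rw [this]
          exact hy
        · simp only [MulEquiv.toMonoidHom_eq_coe, MonoidHom.coe_coe, MulAut.conj_apply]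
          group
    have hCm : (Subgroup.centralizer (P : Set G)).map (MulAut.conj n).toMonoidHom =
        Subgroup.centralizer (P : Set G) := by
      ext y
      rw [Subgroup.mem_map]
      constructor
      · rintro ⟨u, hu, rfl⟩
        simp only [MulEquiv.toMonoidHom_eq_coe, MonoidHom.coe_coe, MulAut.conj_apply]
        exact (h7_conj_mem_centralizer_of_normalizer P n u hn).mpr hu
      · intro hy
        refine ⟨n⁻¹ * y * n, ?_, ?_⟩
        · apply (h7_conj_mem_centralizer_of_normalizer P n _ hn).mp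
          have : n * (n⁻¹ * y * n) * n⁻¹ = y := by group
          rw [this]
          exact hy
        · simp only [MulEquiv.toMonoidHom_eq_coe, MonoidHom.coe_coe, MulAut.conj_apply]
          group
    rw [hPm, hCm]
  rw [Subgroup.mem_normalizer_iff]
  intro h
  constructor
  · intro hh
    rw [← h1]
    exact Subgroup.mem_map.mpr ⟨h, hh, by simp⟩
  · intro hh
    rw [← h1] at hh
    obtain ⟨u, hu, hue⟩ := Subgroup.mem_map.mp hh
    simp only [MulEquiv.toMonoidHom_eq_coe, MonoidHom.coe_coe, MulAut.conj_apply] at hue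
    have : u = h := by
      have h2 : n⁻¹ * (n * u * n⁻¹) * n = n⁻¹ * (n * h * n⁻¹) * n := by rw [hue]
      have e1 : n⁻¹ * (n * u * n⁻¹) * n = u := by group
      have e2 : n⁻¹ * (n * h * n⁻¹) * n = h := by group
      rw [e1, e2] at h2
      exact h2
    rw [← this]
    exact hu

theorem ef_main [Finite G] (p : ℕ) [Fact p.Prime] (M : Ideal Cfsg.AlgInt)
    (hM : Cfsg.IsPModular p M) (B : Set (Cfsg.IrrCharacter G)) (hB : Cfsg.IsPBlock M B)
    (P : Subgroup G) (hP : Cfsg.IsDefectGroup p M B P) :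
    (∃ b : Set (Cfsg.IrrCharacter ↥(P ⊔ Subgroup.centralizer (P : Set G))),
      Cfsg.IsDefectGroup p M b (P.subgroupOf (P ⊔ Subgroup.centralizer (P : Set G))) ∧
      Cfsg.IsInducedBlock M (P ⊔ Subgroup.centralizer (P : Set G)) b B) ∧
    ∀ b b' : Set (Cfsg.IrrCharacter ↥(P ⊔ Subgroup.centralizer (P : Set G))),
      Cfsg.IsInducedBlock M (P ⊔ Subgroup.centralizer (P : Set G)) b B →
      Cfsg.IsInducedBlock M (P ⊔ Subgroup.centralizer (P : Set G)) b' B →
      ∃ n ∈ Subgroup.normalizer (P : Set G), ∀ θ ∈ b, ∃ θ' ∈ b',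
        ∀ x : ↥(P ⊔ Subgroup.centralizer (P : Set G)),
        ∀ hx : n * (x : G) * n⁻¹ ∈ P ⊔ Subgroup.centralizer (P : Set G),
        (θ' : ↥(P ⊔ Subgroup.centralizer (P : Set G)) → ℂ) x =
          (θ : ↥(P ⊔ Subgroup.centralizer (P : Set G)) → ℂ) ⟨n * (x : G) * n⁻¹, hx⟩ := by
  classical
  haveI : Fintype G := Fintype.ofFinite _
  haveI : Fintype (Cfsg.IrrCharacter G) := Fintype.ofFinite _
  have hPg := ef_isPGroup_of_defect hP
  have hPH : P ≤ P ⊔ Subgroup.centralizer (P : Set G) := le_sup_left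
  have hCH : Subgroup.centralizer (P : Set G) ≤ P ⊔ Subgroup.centralizer (P : Set G) :=
    le_sup_right
  have hHN : P ⊔ Subgroup.centralizer (P : Set G) ≤ Subgroup.normalizer (P : Set G) :=
    sup_le Subgroup.le_normalizer (Subgroup.centralizer_le_normalizer _)
  constructor
  · obtain ⟨b, hb, hD, hI⟩ := ef_exists hM P _ hPg hPH hCH hHN B hB hP
    exact ⟨b, hD, hI⟩
  · intro b b' hI hI'
    exact ef_unique hM P _ hPg hPH hCH hHN (ef_normalizer_le P) B hB hP b b' hI hI'

end Cfsg.Agent.Lib.Helper24
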