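import Mathlib
import Cfsg.Prelude.Def_Blocks
import Cfsg.Agent.Lib.Helper24.BlockTransport
import Cfsg.Agent.Lib.Helper24.ExtFirstMain3

set_option autoImplicit false
set_option linter.style.haveILetI false
set_option linter.unusedSectionVars false
set_option linter.unusedVariables false

namespace Cfsg.Agent.Lib.Helper24

open scoped ComplexConjugate
open Cfsg.Agent.Lib.Helper25 Cfsg.Agent.Lib.Helper11 Cfsg.Agent.Lib.helper2 Cfsg.Agent.Lib.helper7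

variable {G : Type*} [Group G]

theorem si_H_le_T [Finite G] (P H T : Subgroup G) (b : Set (Cfsg.IrrCharacter H))
    (hHN : H ≤ Subgroup.normalizer (P : Set G))
    (hT : ∀ g : G, g ∈ T ↔ (g ∈ Subgroup.normalizer (P : Set G) ∧ ∀ θ ∈ b,
      ∀ θ' : Cfsg.IrrCharacter H, (∀ h h' : H, (h' : G) = g * h * g⁻¹ →
        (θ' : H → ℂ) h' = (θ : H → ℂ) h) → θ' ∈ b)) : H ≤ T := by
  intro g hg
  rw [hT]
  refine ⟨hHN hg, fun θ hθ θ' h => ?_⟩
  have : θ' = θ := by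
    apply Subtype.ext
    funext x
    have h1 := h (⟨g, hg⟩⁻¹ * x * ⟨g, hg⟩) x (by simp; group)
    rw [h1]
    have h2 := irr_conj_invariant θ x (⟨g, hg⟩⁻¹ : H)
    rw [inv_inv] at h2
    exact h2
  rw [this]
  exact hθ

theorem si_T_le_K (P H T : Subgroup G) (b : Set (Cfsg.IrrCharacter H))
    (hT : ∀ g : G, g ∈ T ↔ (g ∈ Subgroup.normalizer (P : Set G) ∧ ∀ θ ∈ b,
      ∀ θ' : Cfsg.IrrCharacter H, (∀ h h' : H, (h' : G) = g * h * g⁻¹ →
        (θ' : H → ℂ) h' = (θ : H → ℂ) h) → θ' ∈ b)) :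
    T ≤ Subgroup.normalizer (P : Set G) :=
  fun g hg => ((hT g).mp hg).1

theorem si_inv (P H T : Subgroup G) (b : Set (Cfsg.IrrCharacter H)) (hHT : H ≤ T)
    [hn : (H.subgroupOf T).Normal]
    (hT : ∀ g : G, g ∈ T ↔ (g ∈ Subgroup.normalizer (P : Set G) ∧ ∀ θ ∈ b,
      ∀ θ' : Cfsg.IrrCharacter H, (∀ h h' : H, (h' : G) = g * h * g⁻¹ →
        (θ' : H → ℂ) h' = (θ : H → ℂ) h) → θ' ∈ b)) :
    fc_inv (H.subgroupOf T) (bt_trb (Subgroup.subgroupOfEquivOfLe hHT) b) := by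
  intro t θ₁ hθ₁
  rw [bt_mem_trb'] at hθ₁ ⊢
  set e₁ := Subgroup.subgroupOfEquivOfLe hHT with he₁
  have ht : ((t⁻¹ : T) : G) ∈ T := (t⁻¹).2
  obtain ⟨-, h2⟩ := (hT _).mp ht
  apply h2 _ hθ₁
  intro h h' hh'
  rw [ef_tr_apply, ef_tr_apply, fr_cj_val, cj_apply]
  refine congrArg (θ₁ : H.subgroupOf T → ℂ) ?_
  apply Subtype.ext
  apply Subtype.ext
  change (t : G) * (h' : G) * ((t : G))⁻¹ = (h : G)
  rw [hh']
  simp
  group

theorem si_stab (P H T K : Subgroup G) (b : Set (Cfsg.IrrCharacter H)) (hHK : H ≤ K)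
    (hKN : K ≤ Subgroup.normalizer (P : Set G))
    [hn : (H.subgroupOf K).Normal]
    (hT : ∀ g : G, g ∈ T ↔ (g ∈ Subgroup.normalizer (P : Set G) ∧ ∀ θ ∈ b,
      ∀ θ' : Cfsg.IrrCharacter H, (∀ h h' : H, (h' : G) = g * h * g⁻¹ →
        (θ' : H → ℂ) h' = (θ : H → ℂ) h) → θ' ∈ b)) :
    ∀ k : K, k ∈ T.subgroupOf K ↔
      ∀ θ ∈ bt_trb (Subgroup.subgroupOfEquivOfLe hHK) b,
        ∀ θ' : Cfsg.IrrCharacter (H.subgroupOf K),
          (∀ n : H.subgroupOf K, (θ' : H.subgroupOf K → ℂ) n =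
            (θ : H.subgroupOf K → ℂ) ⟨k * n * k⁻¹, hn.conj_mem n n.2 k⟩) →
          θ' ∈ bt_trb (Subgroup.subgroupOfEquivOfLe hHK) b := by
  intro k
  set e := Subgroup.subgroupOfEquivOfLe hHK with he
  constructor
  · intro hk θ hθ θ' hθ'
    rw [bt_mem_trb'] at hθ ⊢
    have hk' : ((k⁻¹ : K) : G) ∈ T := T.inv_mem (Subgroup.mem_subgroupOf.mp hk)
    obtain ⟨-, h2⟩ := (hT _).mp hk'
    apply h2 _ hθ
    intro h h' hh'
    rw [ef_tr_apply, ef_tr_apply, hθ']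
    refine congrArg (θ : H.subgroupOf K → ℂ) ?_
    apply Subtype.ext
    apply Subtype.ext
    change (k : G) * (h' : G) * ((k : G))⁻¹ = (h : G)
    rw [hh']
    simp
    group
  · intro hk
    rw [Subgroup.mem_subgroupOf]
    have : ((k : G))⁻¹ ∈ T := by
      rw [hT]
      refine ⟨(Subgroup.normalizer (P : Set G)).inv_mem (hKN k.2), ?_⟩
      intro θ hθ θ' hθ'
      have h1 := hk (ef_tr e θ) ((bt_mem_trb e b θ).mpr hθ) (ef_tr e θ') ?_
      · rw [bt_mem_trb', bt_tr_symm_tr] at h1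
        exact h1
      · intro n
        rw [ef_tr_apply, ef_tr_apply]
        apply hθ'
        change ((n : K) : G) = (k : G)⁻¹ * ((k : G) * ((n : K) : G) * ((k : G))⁻¹) * ((k : G)⁻¹)⁻¹
        group
    have h2 := T.inv_mem this
    rwa [inv_inv] at h2

end Cfsg.Agent.Lib.Helper24
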