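import Mathlib
import Cfsg.Prelude.Def_Blocks
import Cfsg.Agent.Lib.Helper24.StabIndex1
import Cfsg.Agent.Lib.helper7.BlockFirstMain
import Cfsg.Agent.S0912

set_option autoImplicit false
set_option linter.style.haveILetI false
set_option linter.unusedSectionVars false
set_option linter.unusedVariables false

namespace Cfsg.Agent.Lib.Helper24

open scoped ComplexConjugate
open Cfsg.Agent.Lib.Helper25 Cfsg.Agent.Lib.Helper11 Cfsg.Agent.Lib.helper2 Cfsg.Agent.Lib.helper7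

variable {G : Type*} [Group G]

theorem si_cover_transport [Fintype G] (H T K : Subgroup G) [Fintype T] [Fintype K]
    [Fintype (H.subgroupOf T)] [Fintype (H.subgroupOf K)]
    (hHT : H ≤ T) (hTK : T ≤ K)
    (hHTK : H.subgroupOf K ≤ T.subgroupOf K)
    (b : Set (Cfsg.IrrCharacter H)) (B₁ : Set (Cfsg.IrrCharacter T))
    (hcov : ∃ ψ ∈ B₁, ∃ θ₁ ∈ bt_trb (Subgroup.subgroupOfEquivOfLe hHT) b,
      Cfsg.classInner (fun n : H.subgroupOf T => (ψ : T → ℂ) n) (θ₁ : H.subgroupOf T → ℂ) ≠ 0) :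
    ∃ ψ' ∈ bt_trb (Subgroup.subgroupOfEquivOfLe hTK) B₁,
      ∃ θ'' ∈ bt_trb (Subgroup.subgroupOfEquivOfLe (hHT.trans hTK)) b,
        Cfsg.classInner (fr_res (H.subgroupOf K) (T.subgroupOf K) hHTK
          (ψ' : T.subgroupOf K → ℂ)) (θ'' : H.subgroupOf K → ℂ) ≠ 0 := by
  obtain ⟨ψ, hψ, θ₁, hθ₁, hcon⟩ := hcov
  set e₁ := Subgroup.subgroupOfEquivOfLe hHT with he₁
  set eK := Subgroup.subgroupOfEquivOfLe (hHT.trans hTK) with heK
  set eT := Subgroup.subgroupOfEquivOfLe hTK with heT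
  set φ : H.subgroupOf K ≃* H.subgroupOf T := eK.trans e₁.symm with hφ
  refine ⟨ef_tr eT ψ, (bt_mem_trb eT B₁ ψ).mpr hψ, ef_tr φ θ₁, ?_, ?_⟩
  · rw [bt_mem_trb'] at hθ₁ ⊢
    have : ef_tr eK.symm (ef_tr φ θ₁) = ef_tr e₁.symm θ₁ := by
      apply Subtype.ext
      funext h
      rw [ef_tr_apply, ef_tr_apply, ef_tr_apply, hφ, MulEquiv.trans_apply,
        MulEquiv.apply_symm_apply]
    rw [this]
    exact hθ₁
  · have h1 := h7_classInner_comp_equiv φ (fun n : H.subgroupOf T => (ψ : T → ℂ) n)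
      (θ₁ : H.subgroupOf T → ℂ)
    rw [← h1] at hcon
    convert hcon using 2
    · funext a
      rw [fr_res_apply, ef_tr_apply]
      refine congrArg (ψ : T → ℂ) ?_
      apply Subtype.ext
      rfl
    · funext a
      rfl

theorem si_defect_of_normal [Finite G] {p : ℕ} [hp : Fact p.Prime] {M : Ideal Cfsg.AlgInt}
    (hM : Cfsg.IsPModular p M) (B : Set (Cfsg.IrrCharacter G)) (hB : Cfsg.IsPBlock M B)
    (Q : Subgroup G) [hQn : Q.Normal] (hQ : IsPGroup p Q)
    (hcard : Nat.card Q = p ^ Cfsg.blockDefect p B) : Cfsg.IsDefectGroup p M B Q := by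
  classical
  obtain ⟨g, hg⟩ := Cfsg.Agent.S0906.result p M hM B hB
  obtain ⟨D⟩ : Nonempty (Sylow p (Subgroup.centralizer ({g} : Set G))) := inferInstance
  have hD : Cfsg.IsDefectGroup p M B ((D : Subgroup (Subgroup.centralizer ({g} : Set G))).map
    (Subgroup.centralizer ({g} : Set G)).subtype) := ⟨g, hg, D, rfl⟩
  have h1 := Cfsg.Agent.S0912.result p M hM B hB _ hD
  have h2 : Q ≤ Cfsg.pCore p G := le_sSup ⟨hQn, hQ⟩
  have h3 := Cfsg.Agent.S0908.result p M hM B hB _ hD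
  have heq : Q = (D : Subgroup (Subgroup.centralizer ({g} : Set G))).map
      (Subgroup.centralizer ({g} : Set G)).subtype := by
    apply Subgroup.eq_of_le_of_card_ge (h2.trans h1)
    rw [h3, hcard]
  rw [heq]
  exact hD

theorem si_exists_defect [Finite G] {p : ℕ} [hp : Fact p.Prime] {M : Ideal Cfsg.AlgInt}
    (hM : Cfsg.IsPModular p M) (B : Set (Cfsg.IrrCharacter G)) (hB : Cfsg.IsPBlock M B) :
    ∃ D : Subgroup G, Cfsg.IsDefectGroup p M B D := by
  obtain ⟨g, hg⟩ := Cfsg.Agent.S0906.result p M hM B hB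
  obtain ⟨D⟩ : Nonempty (Sylow p (Subgroup.centralizer ({g} : Set G))) := inferInstance
  exact ⟨_, g, hg, D, rfl⟩

theorem si_main {G : Type*} [Group G] [Fintype G] (p : ℕ) [hp : Fact p.Prime] (M : Ideal Cfsg.AlgInt) (hM : Cfsg.IsPModular p M) (P : Subgroup G) (hP : IsPGroup p P) (H : Subgroup G) [Fintype H] (hH : H = P ⊔ Subgroup.centralizer (P : Set G)) (b : Set (Cfsg.IrrCharacter H)) (hb : Cfsg.IsPBlock M b) (hbP : Cfsg.IsDefectGroup p M b (P.subgroupOf H)) (B : Set (Cfsg.IrrCharacter G)) (hind : Cfsg.IsInducedBlock M H b B) (T : Subgroup G) (hT : ∀ g : G, g ∈ T ↔ (g ∈ Subgroup.normalizer (P : Set G) ∧ ∀ θ ∈ b, ∀ θ' : Cfsg.IrrCharacter H, (∀ h h' : H, (h' : G) = g * h * g⁻¹ → (θ' : H → ℂ) h' = (θ : H → ℂ) h) → θ' ∈ b)) : Cfsg.IsDefectGroup p M B P ↔ ¬ p ∣ H.relIndex T := by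
  classical
  have hPr := hM.2.1.isPrime
  haveI : Fintype (Cfsg.IrrCharacter G) := Fintype.ofFinite _
  set K := Subgroup.normalizer (P : Set G) with hK
  have hPH : P ≤ H := by
    rw [hH]
    exact le_sup_left
  have hCH : Subgroup.centralizer (P : Set G) ≤ H := by
    rw [hH]
    exact le_sup_right
  have hHK : H ≤ K := by
    rw [hH]
    exact sup_le Subgroup.le_normalizer (Subgroup.centralizer_le_normalizer _)
  have hKH : K ≤ Subgroup.normalizer (H : Set G) := by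
    rw [hH]
    exact ef_normalizer_le P
  have hHT : H ≤ T := si_H_le_T P H T b hHK hT
  have hTK : T ≤ K := si_T_le_K P H T b hT
  haveI : Fintype T := Fintype.ofFinite _
  haveI : Fintype K := Fintype.ofFinite _
  haveI : Fintype (H.subgroupOf T) := Fintype.ofFinite _
  haveI : Fintype (H.subgroupOf K) := Fintype.ofFinite _
  haveI : Fintype (T.subgroupOf K) := Fintype.ofFinite _
  haveI : Fintype (Cfsg.IrrCharacter K) := Fintype.ofFinite _
  haveI hnK : (H.subgroupOf K).Normal :=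
    (Subgroup.normal_subgroupOf_iff_le_normalizer hHK).mpr hKH
  haveI hnT : (H.subgroupOf T).Normal :=
    (Subgroup.normal_subgroupOf_iff_le_normalizer hHT).mpr (hTK.trans hKH)
  set e₁ := Subgroup.subgroupOfEquivOfLe hHT with he₁
  set eK := Subgroup.subgroupOfEquivOfLe hHK with heK
  set eT := Subgroup.subgroupOfEquivOfLe hTK with heT
  have hb₁ : Cfsg.IsPBlock M (bt_trb e₁ b) := bt_trb_isPBlock e₁ b hb
  have hb' : Cfsg.IsPBlock M (bt_trb eK b) := bt_trb_isPBlock eK b hb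
  have hinv₁ : fc_inv (H.subgroupOf T) (bt_trb e₁ b) := si_inv P H T b hHT hT
  obtain ⟨B₁, hB₁, hcov₁, hbig⟩ := fc_exists_big_block hM (H.subgroupOf T) _ hb₁ hinv₁
  have hle₁ := fc_defect_le hM (H.subgroupOf T) _ hb₁ hinv₁ B₁ hB₁ hcov₁
  have hHTK : H.subgroupOf K ≤ T.subgroupOf K :=
    fun x hx => Subgroup.mem_subgroupOf.mpr (hHT (Subgroup.mem_subgroupOf.mp hx))
  have hT' := si_stab P H T K b hHK le_rfl hT
  have hB₁' : Cfsg.IsPBlock M (bt_trb eT B₁) := bt_trb_isPBlock eT B₁ hB₁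
  have hcov' := si_cover_transport H T K hHT hTK hHTK b B₁ hcov₁
  obtain ⟨hI, hcovX, -, -⟩ := fr_part1 hM (H.subgroupOf K) (bt_trb eK b) hb' (T.subgroupOf K) hT'
    hHTK (bt_trb eT B₁) hB₁' hcov'
  set X : Set (Cfsg.IrrCharacter K) := {χ : Cfsg.IrrCharacter K | ∃ ψ ∈ bt_trb eT B₁,
    (χ : K → ℂ) = Cfsg.indFun (T.subgroupOf K) (ψ : T.subgroupOf K → ℂ)} with hXdef
  have hX : Cfsg.IsPBlock M X := hI.2.1
  have hdX : Cfsg.blockDefect p X = Cfsg.blockDefect p (bt_trb eT B₁) := by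
    obtain ⟨D, hD⟩ := si_exists_defect hM (bt_trb eT B₁) hB₁'
    have h1 := (fr_heights p M hM (H.subgroupOf K) (bt_trb eK b) hb' (T.subgroupOf K) hT' hHTK
      (bt_trb eT B₁) hB₁' hcov' X hI).1 D hD
    have h2 := Cfsg.Agent.S0908.result p M hM X hX _ h1
    have h3 := Cfsg.Agent.S0908.result p M hM _ hB₁' D hD
    rw [Subgroup.card_map_of_injective (Subgroup.subtype_injective _), h3] at h2
    exact (Nat.pow_right_injective hp.out.two_le h2).symm
  have hdB₁' : Cfsg.blockDefect p (bt_trb eT B₁) = Cfsg.blockDefect p B₁ := bt_blockDefect p eT B₁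
  have hdb₁ : Cfsg.blockDefect p (bt_trb e₁ b) = Cfsg.blockDefect p b := bt_blockDefect p e₁ b
  have hcP : Nat.card P = p ^ Cfsg.blockDefect p b := by
    rw [← h7_card_subgroupOf hPH]
    exact Cfsg.Agent.S0908.result p M hM b hb _ hbP
  have hXB : Cfsg.IsInducedBlock M K X B := by
    obtain ⟨ψ, hψX, θ, hθ, hcon⟩ := hcovX
    have hθ' : ef_tr eK.symm θ ∈ b := hθ
    have hcon' : Cfsg.classInner (fun n : H.subgroupOf K => (ψ : K → ℂ) n)
        ((ef_tr eK (ef_tr eK.symm θ) : Cfsg.IrrCharacter (H.subgroupOf K)) :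
          H.subgroupOf K → ℂ) ≠ 0 := by
      rw [bt_tr_tr_symm]
      exact hcon
    have h1 := ef_over_induced hM P H K hP hPH hHK hCH le_rfl (ef_tr eK.symm θ) ψ hcon' b B
      hind hθ'
    have h2 := fr_block_eq_of_mem hPr X (Cfsg.blockOf M (ψ : K → ℂ)) hX ⟨ψ, rfl⟩ ψ hψX
      (h7_sameBlock_refl hPr _)
    rw [h2]
    exact h1
  haveI : (P.subgroupOf K).Normal := Subgroup.normal_in_normalizer
  have hPKp : IsPGroup p (P.subgroupOf K) := hP.comap_subtype
  have hcPK : Nat.card (P.subgroupOf K) = Nat.card P := h7_card_subgroupOf Subgroup.le_normalizer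
  have hidx0 : (H.subgroupOf T).index ≠ 0 := Subgroup.index_ne_zero_of_finite
  change _ ↔ ¬ p ∣ (H.subgroupOf T).index
  constructor
  · intro hD
    obtain ⟨bK, hbK, hDK, hIK⟩ := h7_first_main_exists hM P hP B hind.2.1 hD
    have heq := h7_first_main_unique hM P hP B bK X hDK hIK hXB
    rw [heq] at hDK
    have hc := Cfsg.Agent.S0908.result p M hM X hX _ hDK
    rw [hcPK, hcP] at hc
    have h5 := Nat.pow_right_injective hp.out.two_le hc
    intro hdvd
    have := hp.out.factorization_pos_of_dvd hidx0 hdvd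
    omega
  · intro hnd
    have hν : (H.subgroupOf T).index.factorization p = 0 :=
      Nat.factorization_eq_zero_of_not_dvd hnd
    have hDX : Cfsg.IsDefectGroup p M X (P.subgroupOf K) := by
      apply si_defect_of_normal hM X hX _ hPKp
      rw [hcPK, hcP]
      congr 1
      omega
    obtain ⟨B₂, hB₂, hD₂, hI₂⟩ := h7_first_main_i hM P hP X hX hDX
    have h6 := fr_induced_unique hPr K X B₂ B hI₂ hXB
    rw [← h6]
    exact hD₂

end Cfsg.Agent.Lib.Helper24
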