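import Mathlib
import Cfsg.Agent.Lib.Helper24.CyclicInertial2
import Cfsg.Agent.Lib.Helper24.StabIndex2
import Cfsg.Agent.Lib.Helper25.BrauerPairNormal

set_option autoImplicit false

namespace Cfsg.Agent.Lib.Helper24

open Cfsg.Agent.Lib.helper7 Cfsg.Agent.Lib.Helper25

variable {G : Type*} [Group G]

theorem ci_normalizer_le (P : Subgroup G) :
    Subgroup.normalizer (P : Set G) ≤ Subgroup.normalizer ((Subgroup.centralizer (P : Set G) : Subgroup G) : Set G) := by
  intro g hg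
  have key : ∀ g : G, g ∈ Subgroup.normalizer (P : Set G) → ∀ c ∈ Subgroup.centralizer (P : Set G),
      g * c * g⁻¹ ∈ Subgroup.centralizer (P : Set G) := by
    intro g hg c hc
    rw [Subgroup.mem_centralizer_iff] at hc ⊢
    intro y hy
    have hy' : g⁻¹ * y * g ∈ P := by
      have := (Subgroup.mem_normalizer_iff.mp (Subgroup.inv_mem _ hg) y).mp hy
      simpa using this
    have h1 := hc _ hy'
    calc y * (g * c * g⁻¹) = g * ((g⁻¹ * y * g) * c) * g⁻¹ := by group
      _ = g * (c * (g⁻¹ * y * g)) * g⁻¹ := by rw [h1]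
      _ = g * c * g⁻¹ * y := by group
  rw [Subgroup.mem_normalizer_iff]
  intro c
  constructor
  · exact key g hg c
  · intro h
    have := key g⁻¹ (Subgroup.inv_mem _ hg) _ h
    simpa [mul_assoc] using this

theorem ci_defect [Finite G] {p : ℕ} [hp : Fact p.Prime] {M : Ideal Cfsg.AlgInt}
    (hM : Cfsg.IsPModular p M) (B : Set (Cfsg.IrrCharacter G)) (P : Subgroup G)
    (hPD : Cfsg.IsDefectGroup p M B P) (hPg : IsPGroup p P) (C : Subgroup G)
    (hPC : P ≤ C) (hCP : C ≤ Subgroup.centralizer (P : Set G))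
    (c : Set (Cfsg.IrrCharacter C))
    (hc : Cfsg.IsInducedBlock M C c B) :
    Cfsg.IsDefectGroup p M c (P.subgroupOf C) := by
  classical
  haveI : Fintype G := Fintype.ofFinite _
  haveI : Fintype (Cfsg.IrrCharacter G) := Fintype.ofFinite _
  haveI : Fintype (Cfsg.IrrCharacter C) := Fintype.ofFinite _
  have hPr := hM.2.1.isPrime
  obtain ⟨hcb, hBb, hcong⟩ := hc
  obtain ⟨Dc, hDc⟩ := si_exists_defect hM c hcb
  have h1 : Cfsg.pCore p C ≤ Dc := Cfsg.Agent.S0912.result p M hM c hcb Dc hDc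
  have hPn : (P.subgroupOf C).Normal := by
    constructor
    intro n hn g
    rw [Subgroup.mem_subgroupOf] at hn ⊢
    have hg := hCP g.2
    rw [Subgroup.mem_centralizer_iff] at hg
    have := hg _ hn
    have e : ((g * n * g⁻¹ : C) : G) = (n : G) := by
      push_cast
      rw [← this]
      group
    rw [e]
    exact hn
  have hPp : IsPGroup p (P.subgroupOf C) := hPg.comap_subtype
  have h2 : P.subgroupOf C ≤ Dc := le_trans (le_sSup (show P.subgroupOf C ∈ {N : Subgroup C | N.Normal ∧ IsPGroup p N} from ⟨hPn, hPp⟩)) h1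
  obtain ⟨ξ₀, rfl⟩ := hcb
  obtain ⟨χ₀, rfl⟩ := hBb
  have hξ₀ : ξ₀ ∈ Cfsg.blockOf M (ξ₀ : C → ℂ) := h7_sameBlock_refl hPr _
  have hχ₀ : χ₀ ∈ Cfsg.blockOf M (χ₀ : G → ℂ) := h7_sameBlock_refl hPr _
  obtain ⟨E, hE, hDE⟩ := h7_induced_defect_le hM C ξ₀ χ₀ (hcong ξ₀ hξ₀ χ₀ hχ₀) Dc hDc
  have hEcard := Cfsg.Agent.S0908.result p M hM _ ⟨χ₀, rfl⟩ E hE
  have hPcard := Cfsg.Agent.S0908.result p M hM _ ⟨χ₀, rfl⟩ P hPD
  have h3 : Nat.card Dc ≤ Nat.card (P.subgroupOf C) := by
    have e1 : Nat.card (Dc.map C.subtype) = Nat.card Dc :=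
      Subgroup.card_map_of_injective C.subtype_injective
    have e2 : Nat.card (P.subgroupOf C) = Nat.card P :=
      Nat.card_congr (Subgroup.subgroupOfEquivOfLe hPC).toEquiv
    rw [← e1, e2, hPcard, ← hEcard]
    exact Subgroup.card_le_of_le hDE
  have h4 : P.subgroupOf C = Dc := Subgroup.eq_of_le_of_card_ge h2 h3
  rw [h4]
  exact hDc

end Cfsg.Agent.Lib.Helper24
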