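import Cfsg.Agent.Lib.Helper24.CentralProd2

set_option autoImplicit false
open scoped ComplexConjugate

namespace Cfsg.Agent.Lib.Helper24

open Cfsg.Agent.Lib.helper2 Cfsg.Agent.Lib.helper7 Cfsg.Agent.Lib.Helper11 Cfsg.Agent.Lib.Helper25

section cp3

variable {G : Type*} [Group G] [Fintype G]

theorem cp_regular_decomp (p : ℕ) [hp : Fact p.Prime] (U₁ U₂ : Subgroup G)
    (hcomm : ∀ u ∈ U₁, ∀ v ∈ U₂, u * v = v * u) (hgen : U₁ ⊔ U₂ = ⊤) (g : G)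
    (hg : ¬ p ∣ orderOf g) :
    ∃ (t₁ : U₁) (t₂ : U₂), g = (t₁ : G) * (t₂ : G) ∧ ¬ p ∣ orderOf t₁ ∧ ¬ p ∣ orderOf t₂ := by
  obtain ⟨u₁, u₂, hu⟩ := cp_decomp U₁ U₂ hcomm hgen g
  set q := p ^ (Nat.card G).factorization p with hq
  have hG : Nat.card G ≠ 0 := Nat.card_pos.ne'
  have hcop : Nat.Coprime (orderOf g) q :=
    Nat.Coprime.pow_right _ ((Nat.Prime.coprime_iff_not_dvd hp.out).mpr hg).symm
  obtain ⟨m, hm1, hm0⟩ := Nat.chineseRemainder hcop 1 0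
  have hqm : q ∣ m := (Nat.modEq_zero_iff_dvd).mp hm0
  have hgm : g ^ m = g := by
    nth_rewrite 2 [← pow_one g]
    rw [pow_eq_pow_iff_modEq]
    exact hm1
  have hc : Commute (u₁ : G) (u₂ : G) := hcomm u₁ u₁.2 u₂ u₂.2
  have hreg : ∀ u : G, ¬ p ∣ orderOf (u ^ m) := by
    intro u hdvd
    obtain ⟨m', hm'⟩ := hqm
    have h1 : (u ^ m) ^ (Nat.card G / q) = 1 := by
      rw [← pow_mul, hm', mul_comm q m', mul_assoc, hq, Nat.ordProj_mul_ordCompl_eq_self,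
        pow_mul, pow_card_eq_one']
    have h2 : orderOf (u ^ m) ∣ Nat.card G / q := orderOf_dvd_of_pow_eq_one h1
    exact Nat.not_dvd_ordCompl hp.out hG (hdvd.trans h2)
  refine ⟨u₁ ^ m, u₂ ^ m, ?_, ?_, ?_⟩
  · push_cast
    rw [← hc.mul_pow, ← hu, hgm]
  · rw [← Subgroup.orderOf_coe]
    push_cast
    exact hreg _
  · rw [← Subgroup.orderOf_coe]
    push_cast
    exact hreg _

theorem cp_block_congr [Fintype (Cfsg.IrrCharacter G)] (p : ℕ) [hp : Fact p.Prime]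
    (M : Ideal Cfsg.AlgInt) (hM : Cfsg.IsPModular p M)
    (χ₀ χ ψ : Cfsg.IrrCharacter G)
    (h : ∀ x : G, ¬ p ∣ orderOf x → Cfsg.MemLocalIdeal M
      (Cfsg.centralChar (ψ : G → ℂ) x - Cfsg.centralChar (χ : G → ℂ) x))
    (hχ : χ ∈ Cfsg.blockOf M (χ₀ : G → ℂ)) : ψ ∈ Cfsg.blockOf M (χ₀ : G → ℂ) := by
  classical
  haveI : Fintype (ConjClasses G) := Fintype.ofFinite _
  have hMp := hM.2.1.isPrime
  set B := Cfsg.blockOf M (χ₀ : G → ℂ) with hB
  set c : Cfsg.IrrCharacter G → ℂ := fun φ => if φ ∈ B then (1 : ℂ) else 0 with hc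
  have h1 : Cfsg.MemLocalIdeal M (c ψ - c χ) := by
    rw [h7_eval_expand c ψ, h7_eval_expand c χ, ← Finset.sum_sub_distrib]
    apply h7_memLocalIdeal_sum hMp
    intro K _
    rw [h7_coef_indicator, ← mul_sub]
    by_cases hK : p ∣ orderOf (Quotient.out K)
    · rw [h7_blockCoeff_psingular hM χ₀ _ hK, zero_mul]
      exact h7_memLocalIdeal_zero hMp
    · exact h7_memLocalIdeal_mul_left hMp (h7_osima hMp χ₀ _) (h _ hK)
  by_contra hψ
  simp only [hc, if_pos hχ, if_neg hψ, zero_sub] at h1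
  have h2 := h7_memLocalIdeal_neg h1
  rw [neg_neg] at h2
  exact h7_not_memLocalIdeal_one hMp h2

end cp3

end Cfsg.Agent.Lib.Helper24
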