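import Mathlib

set_option autoImplicit false

namespace Cfsg.Agent.Lib.Helper24

section ClassThree

variable {G : Type*} [Group G]

theorem c3_cz {z : G} (hz : z ∈ Subgroup.center G) (g : G) : g * z = z * g :=
  Subgroup.mem_center_iff.mp hz g

theorem c3_A (c x u : G) (hu : u ∈ Subgroup.center G) (h : c * x = u * x * c) (k : ℕ) :
    c ^ k * x = u ^ k * x * c ^ k := by
  induction k with
  | zero => simp
  | succ k ih =>
    have hc : c * u ^ k = u ^ k * c := c3_cz (Subgroup.pow_mem _ hu k) c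
    calc c ^ (k + 1) * x = c * (c ^ k * x) := by rw [pow_succ', mul_assoc]
      _ = c * (u ^ k * x * c ^ k) := by rw [ih]
      _ = (c * u ^ k) * x * c ^ k := by group
      _ = u ^ k * (c * x) * c ^ k := by rw [hc]; group
      _ = u ^ k * (u * x * c) * c ^ k := by rw [h]
      _ = u ^ (k + 1) * x * c ^ (k + 1) := by rw [pow_succ, pow_succ]; group

theorem c3_A' (c y v : G) (hv : v ∈ Subgroup.center G) (h : c * y = v * y * c) (k n : ℕ) :
    c ^ k * y ^ n = v ^ (k * n) * y ^ n * c ^ k := by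
  induction n with
  | zero => simp
  | succ n ih =>
    have h1 := c3_A c y v hv h k
    have hc : y ^ n * v ^ k = v ^ k * y ^ n := c3_cz (Subgroup.pow_mem _ hv k) _
    calc c ^ k * y ^ (n + 1) = (c ^ k * y ^ n) * y := by rw [pow_succ, mul_assoc]
      _ = v ^ (k * n) * y ^ n * c ^ k * y := by rw [ih]
      _ = v ^ (k * n) * y ^ n * (c ^ k * y) := by group
      _ = v ^ (k * n) * y ^ n * (v ^ k * y * c ^ k) := by rw [h1]
      _ = v ^ (k * n) * (y ^ n * v ^ k) * y * c ^ k := by group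
      _ = v ^ (k * n) * (v ^ k * y ^ n) * y * c ^ k := by rw [hc]
      _ = v ^ (k * (n + 1)) * y ^ (n + 1) * c ^ k := by
        rw [mul_add, mul_one, pow_add, pow_succ]; group

theorem c3_B (x y c u v : G) (hu : u ∈ Subgroup.center G) (hv : v ∈ Subgroup.center G)
    (h1 : y * x = c * x * y) (h2 : c * x = u * x * c) (h3 : c * y = v * y * c) (n : ℕ) :
    y ^ n * x = (u ^ n * v ^ ((n + 1).choose 2)) * (x * y ^ n * c ^ n) := by
  induction n with
  | zero => simp
  | succ n ih =>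
    have hZ : u ^ n * v ^ ((n + 1).choose 2) ∈ Subgroup.center G :=
      Subgroup.mul_mem _ (Subgroup.pow_mem _ hu n) (Subgroup.pow_mem _ hv _)
    have hA := c3_A' c y v hv h3 1 (n + 1)
    rw [pow_one, one_mul] at hA
    have hch : (n + 1 + 1).choose 2 = (n + 1).choose 2 + (n + 1) := by
      rw [Nat.choose_succ_succ' (n + 1) 1, Nat.choose_one_right, add_comm]
    have hxv : x * v ^ (n + 1) = v ^ (n + 1) * x := c3_cz (Subgroup.pow_mem _ hv _) x
    calc y ^ (n + 1) * x = y * (y ^ n * x) := by rw [pow_succ', mul_assoc]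
      _ = y * ((u ^ n * v ^ ((n + 1).choose 2)) * (x * y ^ n * c ^ n)) := by rw [ih]
      _ = (y * (u ^ n * v ^ ((n + 1).choose 2))) * (x * y ^ n * c ^ n) := by group
      _ = ((u ^ n * v ^ ((n + 1).choose 2)) * y) * (x * y ^ n * c ^ n) := by rw [c3_cz hZ y]
      _ = (u ^ n * v ^ ((n + 1).choose 2)) * ((y * x) * y ^ n * c ^ n) := by group
      _ = (u ^ n * v ^ ((n + 1).choose 2)) * ((c * x * y) * y ^ n * c ^ n) := by rw [h1]
      _ = (u ^ n * v ^ ((n + 1).choose 2)) * ((c * x) * y ^ (n + 1) * c ^ n) := by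
        rw [pow_succ' y n]; group
      _ = (u ^ n * v ^ ((n + 1).choose 2)) * ((u * x * c) * y ^ (n + 1) * c ^ n) := by rw [h2]
      _ = (u ^ n * v ^ ((n + 1).choose 2)) * (u * x * (c * y ^ (n + 1)) * c ^ n) := by group
      _ = (u ^ n * v ^ ((n + 1).choose 2)) * (u * x * (v ^ (n + 1) * y ^ (n + 1) * c) * c ^ n) := by
        rw [hA]
      _ = (u ^ n * v ^ ((n + 1).choose 2)) * (u * (x * v ^ (n + 1)) * y ^ (n + 1) * c * c ^ n) := by
        group
      _ = (u ^ n * v ^ ((n + 1).choose 2)) * (u * (v ^ (n + 1) * x) * y ^ (n + 1) * c * c ^ n) := by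
        rw [hxv]
      _ = (u ^ n * (v ^ ((n + 1).choose 2) * u) * v ^ (n + 1)) * (x * y ^ (n + 1) * c ^ (n + 1)) := by
        rw [pow_succ' c n]; group
      _ = (u ^ n * (u * v ^ ((n + 1).choose 2)) * v ^ (n + 1)) * (x * y ^ (n + 1) * c ^ (n + 1)) := by
        rw [c3_cz hu (v ^ ((n + 1).choose 2))]
      _ = (u ^ (n + 1) * v ^ ((n + 1 + 1).choose 2)) * (x * y ^ (n + 1) * c ^ (n + 1)) := by
        rw [hch, pow_add v, pow_succ u n]; group

theorem c3_main (x y c u v : G) (hu : u ∈ Subgroup.center G) (hv : v ∈ Subgroup.center G)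
    (h1 : y * x = c * x * y) (h2 : c * x = u * x * c) (h3 : c * y = v * y * c) (n : ℕ) :
    (x * y) ^ n = (u ^ ((n + 1).choose 3) * v ^ (2 * (n + 1).choose 3)) *
      (x ^ n * y ^ n * c ^ (n.choose 2)) := by
  induction n with
  | zero =>
    have : Nat.choose 1 3 = 0 := by decide
    simp [this]
  | succ n ih =>
    set k := n.choose 2 with hk
    set a := (n + 1).choose 3 with ha
    have hZ : u ^ a * v ^ (2 * a) ∈ Subgroup.center G :=
      Subgroup.mul_mem _ (Subgroup.pow_mem _ hu _) (Subgroup.pow_mem _ hv _)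
    have hA := c3_A c x u hu h2 k
    have hB := c3_B x y c u v hu hv h1 h2 h3 n
    have hA2 := c3_A c y v hv h3 (n + k)
    have hW : u ^ n * v ^ ((n + 1).choose 2) ∈ Subgroup.center G :=
      Subgroup.mul_mem _ (Subgroup.pow_mem _ hu _) (Subgroup.pow_mem _ hv _)
    have hch2 : (n + 1).choose 2 = n + k := by
      rw [hk, Nat.choose_succ_succ' n 1, Nat.choose_one_right]
    have hch3 : (n + 1 + 1).choose 3 = a + (n + 1).choose 2 := by
      rw [ha, Nat.choose_succ_succ' (n + 1) 2, add_comm]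
    have huk : ∀ g : G, g * u ^ k = u ^ k * g := fun g => c3_cz (Subgroup.pow_mem _ hu k) g
    have hvk : ∀ g : G, g * v ^ (n + k) = v ^ (n + k) * g :=
      fun g => c3_cz (Subgroup.pow_mem _ hv _) g
    calc (x * y) ^ (n + 1) = (x * y) ^ n * (x * y) := pow_succ _ _
      _ = (u ^ a * v ^ (2 * a)) * (x ^ n * y ^ n * c ^ k) * (x * y) := by rw [ih]
      _ = (u ^ a * v ^ (2 * a)) * (x ^ n * y ^ n * (c ^ k * x) * y) := by group
      _ = (u ^ a * v ^ (2 * a)) * (x ^ n * y ^ n * (u ^ k * x * c ^ k) * y) := by rw [hA]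
      _ = (u ^ a * v ^ (2 * a)) * ((x ^ n * y ^ n * u ^ k) * x * c ^ k * y) := by group
      _ = (u ^ a * v ^ (2 * a)) * ((u ^ k * (x ^ n * y ^ n)) * x * c ^ k * y) := by rw [huk]
      _ = (u ^ a * v ^ (2 * a)) * u ^ k * (x ^ n * (y ^ n * x) * c ^ k * y) := by group
      _ = (u ^ a * v ^ (2 * a)) * u ^ k *
          (x ^ n * ((u ^ n * v ^ ((n + 1).choose 2)) * (x * y ^ n * c ^ n)) * c ^ k * y) := by
        rw [hB]
      _ = (u ^ a * v ^ (2 * a)) * u ^ k *
          ((x ^ n * (u ^ n * v ^ ((n + 1).choose 2))) * (x * y ^ n * c ^ n) * c ^ k * y) := by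
        group
      _ = (u ^ a * v ^ (2 * a)) * u ^ k *
          (((u ^ n * v ^ ((n + 1).choose 2)) * x ^ n) * (x * y ^ n * c ^ n) * c ^ k * y) := by
        rw [c3_cz hW]
      _ = (u ^ a * v ^ (2 * a)) * u ^ k * (u ^ n * v ^ ((n + 1).choose 2)) *
          (x ^ (n + 1) * y ^ n * (c ^ (n + k) * y)) := by
        rw [pow_succ x n, pow_add c n k]; group
      _ = (u ^ a * v ^ (2 * a)) * u ^ k * (u ^ n * v ^ ((n + 1).choose 2)) *
          (x ^ (n + 1) * y ^ n * (v ^ (n + k) * y * c ^ (n + k))) := by rw [hA2]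
      _ = (u ^ a * v ^ (2 * a)) * u ^ k * (u ^ n * v ^ ((n + 1).choose 2)) *
          ((x ^ (n + 1) * y ^ n * v ^ (n + k)) * y * c ^ (n + k)) := by group
      _ = (u ^ a * v ^ (2 * a)) * u ^ k * (u ^ n * v ^ ((n + 1).choose 2)) *
          ((v ^ (n + k) * (x ^ (n + 1) * y ^ n)) * y * c ^ (n + k)) := by rw [hvk]
      _ = ((u ^ a * v ^ (2 * a)) * u ^ k * (u ^ n * v ^ ((n + 1).choose 2)) * v ^ (n + k)) *
          (x ^ (n + 1) * y ^ (n + 1) * c ^ (n + k)) := by
        rw [pow_succ y n]; group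
      _ = (u ^ ((n + 1 + 1).choose 3) * v ^ (2 * (n + 1 + 1).choose 3)) *
          (x ^ (n + 1) * y ^ (n + 1) * c ^ ((n + 1).choose 2)) := by
        congr 1
        · rw [hch3, hch2]
          have e1 : u ^ a * v ^ (2 * a) * u ^ k * (u ^ n * v ^ (n + k)) * v ^ (n + k) =
              (u ^ a * u ^ k * u ^ n) * (v ^ (2 * a) * v ^ (n + k) * v ^ (n + k)) := by
            have hvv : ∀ g : G, g * v ^ (2 * a) = v ^ (2 * a) * g :=
              fun g => c3_cz (Subgroup.pow_mem _ hv _) g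
            calc u ^ a * v ^ (2 * a) * u ^ k * (u ^ n * v ^ (n + k)) * v ^ (n + k)
                = (u ^ a * v ^ (2 * a)) * (u ^ k * u ^ n) * v ^ (n + k) * v ^ (n + k) := by group
              _ = (v ^ (2 * a) * u ^ a) * (u ^ k * u ^ n) * v ^ (n + k) * v ^ (n + k) := by
                rw [hvv]
              _ = v ^ (2 * a) * ((u ^ a * u ^ k * u ^ n) * v ^ (n + k) * v ^ (n + k)) := by group
              _ = ((u ^ a * u ^ k * u ^ n) * v ^ (n + k) * v ^ (n + k)) * v ^ (2 * a) := by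
                rw [← hvv]
              _ = (u ^ a * u ^ k * u ^ n) * ((v ^ (n + k) * v ^ (n + k)) * v ^ (2 * a)) := by group
              _ = (u ^ a * u ^ k * u ^ n) * (v ^ (2 * a) * (v ^ (n + k) * v ^ (n + k))) := by
                rw [hvv]
              _ = (u ^ a * u ^ k * u ^ n) * (v ^ (2 * a) * v ^ (n + k) * v ^ (n + k)) := by group
          rw [e1, ← pow_add, ← pow_add, ← pow_add, ← pow_add]
          congr 2 <;> ring
        · rw [hch2]

end ClassThree

section ClassThreeApp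

open scoped commutatorElement

variable {R : Type*} [Group R]

theorem c3_gamma3_le_center (hcl : ⁅⁅commutator R, (⊤ : Subgroup R)⁆, (⊤ : Subgroup R)⁆ = ⊥) :
    ⁅commutator R, (⊤ : Subgroup R)⁆ ≤ Subgroup.center R := by
  rw [Subgroup.commutator_eq_bot_iff_le_centralizer, Subgroup.coe_top,
    Subgroup.centralizer_univ] at hcl
  exact hcl

theorem c3_comm_mem (x y : R) : ⁅x, y⁆ ∈ commutator R := by
  rw [commutator_def]
  exact Subgroup.commutator_mem_commutator (Subgroup.mem_top x) (Subgroup.mem_top y)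

theorem c3_comm3_mem (c x : R) (hc : c ∈ commutator R) :
    ⁅c, x⁆ ∈ ⁅commutator R, (⊤ : Subgroup R)⁆ :=
  Subgroup.commutator_mem_commutator hc (Subgroup.mem_top x)

theorem c3_comm3_mem' (c x : R) (hc : c ∈ commutator R) : ⁅c, x⁆ ∈ commutator R := by
  rw [commutator_def]
  exact Subgroup.commutator_mem_commutator (Subgroup.mem_top c) (Subgroup.mem_top x)

theorem c3_rel (y x : R) : y * x = ⁅y, x⁆ * x * y := by
  rw [commutatorElement_def]; group

theorem c3_dvd_choose_two {p : ℕ} (hp : p.Prime) (h2 : 2 < p) : p ∣ p.choose 2 :=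
  hp.dvd_choose_self (by norm_num) h2

theorem c3_dvd_choose_succ_two {p : ℕ} (hp : p.Prime) (h2 : 2 < p) : p ∣ (p + 1).choose 2 := by
  rw [Nat.choose_succ_succ' p 1, Nat.choose_one_right]
  exact dvd_add dvd_rfl (c3_dvd_choose_two hp h2)

theorem c3_dvd_choose_succ_three {p : ℕ} (hp : p.Prime) (h3 : 3 < p) : p ∣ (p + 1).choose 3 := by
  rw [Nat.choose_succ_succ' p 2]
  exact dvd_add (c3_dvd_choose_two hp (by omega)) (hp.dvd_choose_self (by norm_num) h3)

theorem c3_pow_of_dvd {z : R} {p m : ℕ} (hz : z ^ p = 1) (hm : p ∣ m) : z ^ m = 1 := by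
  obtain ⟨k, rfl⟩ := hm
  rw [pow_mul, hz, one_pow]

theorem c3_mul_pow_prime {p : ℕ} (hp : p.Prime) (h3 : 3 < p)
    (hcl : ⁅⁅commutator R, (⊤ : Subgroup R)⁆, (⊤ : Subgroup R)⁆ = ⊥) {x y : R}
    (hx : x ^ p = 1) (hy : y ^ p = 1) : (x * y) ^ p = 1 := by
  have hZ := c3_gamma3_le_center hcl
  set c := ⁅y, x⁆ with hc
  set u := ⁅c, x⁆ with hu
  set v := ⁅c, y⁆ with hv
  have hcm : c ∈ commutator R := c3_comm_mem y x
  have huZ : u ∈ Subgroup.center R := hZ (c3_comm3_mem c x hcm)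
  have hvZ : v ∈ Subgroup.center R := hZ (c3_comm3_mem c y hcm)
  have h1 : y * x = c * x * y := c3_rel y x
  have h2 : c * x = u * x * c := c3_rel c x
  have h3' : c * y = v * y * c := c3_rel c y
  have hup : u ^ p = 1 := by
    have := c3_A' c x u huZ h2 1 p
    rw [hx, pow_one, one_mul, mul_one, mul_one] at this
    exact (mul_eq_right.mp this.symm)
  have hvp : v ^ p = 1 := by
    have := c3_A' c y v hvZ h3' 1 p
    rw [hy, pow_one, one_mul, mul_one, mul_one] at this
    exact (mul_eq_right.mp this.symm)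
  have hcp : c ^ p = 1 := by
    have := c3_B x y c u v huZ hvZ h1 h2 h3' p
    rw [hy, hup, one_mul, one_mul, mul_one,
      c3_pow_of_dvd hvp (c3_dvd_choose_succ_two hp (by omega)), one_mul] at this
    exact (mul_eq_left.mp this.symm)
  rw [c3_main x y c u v huZ hvZ h1 h2 h3' p, hx, hy, one_mul, one_mul,
    c3_pow_of_dvd hup (c3_dvd_choose_succ_three hp h3),
    c3_pow_of_dvd hvp (Dvd.dvd.mul_left (c3_dvd_choose_succ_three hp h3) 2),
    c3_pow_of_dvd hcp (c3_dvd_choose_two hp (by omega)), one_mul, one_mul]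

theorem c3_closure_exp {p : ℕ} (hp : p.Prime) (h3 : 3 < p)
    (hcl : ⁅⁅commutator R, (⊤ : Subgroup R)⁆, (⊤ : Subgroup R)⁆ = ⊥) (g : R)
    (hg : g ∈ Subgroup.closure {x : R | x ^ p = 1}) : g ^ p = 1 := by
  induction hg using Subgroup.closure_induction with
  | mem x hx => exact hx
  | one => exact one_pow p
  | mul x y _ _ hx hy => exact c3_mul_pow_prime hp h3 hcl hx hy
  | inv x _ hx => rw [inv_pow, hx, inv_one]

theorem c3_mul_pow_hom {p : ℕ} (hp : p.Prime) (h3 : 3 < p)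
    (hcl : ⁅⁅commutator R, (⊤ : Subgroup R)⁆, (⊤ : Subgroup R)⁆ = ⊥)
    (hder : commutator R ≤ Subgroup.closure {x : R | x ^ p = 1}) (x y : R) :
    (x * y) ^ p = x ^ p * y ^ p := by
  have hZ := c3_gamma3_le_center hcl
  set c := ⁅y, x⁆ with hc
  set u := ⁅c, x⁆ with hu
  set v := ⁅c, y⁆ with hv
  have hcm : c ∈ commutator R := c3_comm_mem y x
  have huZ : u ∈ Subgroup.center R := hZ (c3_comm3_mem c x hcm)
  have hvZ : v ∈ Subgroup.center R := hZ (c3_comm3_mem c y hcm)
  have h1 : y * x = c * x * y := c3_rel y x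
  have h2 : c * x = u * x * c := c3_rel c x
  have h3' : c * y = v * y * c := c3_rel c y
  have hcp : c ^ p = 1 := c3_closure_exp hp h3 hcl c (hder hcm)
  have hup : u ^ p = 1 := c3_closure_exp hp h3 hcl u (hder (c3_comm3_mem' c x hcm))
  have hvp : v ^ p = 1 := c3_closure_exp hp h3 hcl v (hder (c3_comm3_mem' c y hcm))
  rw [c3_main x y c u v huZ hvZ h1 h2 h3' p,
    c3_pow_of_dvd hup (c3_dvd_choose_succ_three hp h3),
    c3_pow_of_dvd hvp (Dvd.dvd.mul_left (c3_dvd_choose_succ_three hp h3) 2),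
    c3_pow_of_dvd hcp (c3_dvd_choose_two hp (by omega)), one_mul, one_mul, mul_one]

end ClassThreeApp

end Cfsg.Agent.Lib.Helper24
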