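import Mathlib
import Cfsg.Agent.Lib.Helper24.ClassThree

set_option autoImplicit false
set_option linter.style.haveILetI false

namespace Cfsg.Agent.Lib.Helper24

section Alperin

open scoped commutatorElement

variable {G : Type*} [Group G]

theorem alp_c2_pow (x y : G) (hx : ⁅y, x⁆ * x = x * ⁅y, x⁆) (hy : ⁅y, x⁆ * y = y * ⁅y, x⁆) (n : ℕ) :
    (x * y) ^ n = x ^ n * y ^ n * ⁅y, x⁆ ^ (n.choose 2) := by
  have h := c3_main x y ⁅y, x⁆ 1 1 (Subgroup.one_mem _) (Subgroup.one_mem _) (c3_rel y x)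
    (by rw [one_mul]; exact hx) (by rw [one_mul]; exact hy) n
  simpa using h

theorem alp_c2_comm_pow (x y : G) (hx : ⁅y, x⁆ * x = x * ⁅y, x⁆) (hy : ⁅y, x⁆ * y = y * ⁅y, x⁆)
    (n : ℕ) : y ^ n * x = x * y ^ n * ⁅y, x⁆ ^ n := by
  have h := c3_B x y ⁅y, x⁆ 1 1 (Subgroup.one_mem _) (Subgroup.one_mem _) (c3_rel y x)
    (by rw [one_mul]; exact hx) (by rw [one_mul]; exact hy) n
  simpa using h

theorem alp_dvd_choose {p : ℕ} (hp : p.Prime) (n : ℕ) (hn : p ^ n ≠ 2) :
    p ∣ (p ^ n).choose 2 := by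
  rw [Nat.choose_two_right]
  rcases Nat.eq_zero_or_pos n with rfl | hpos
  · simp
  · obtain ⟨k, rfl⟩ : ∃ k, n = k + 1 := ⟨n - 1, by omega⟩
    rcases hp.eq_two_or_odd' with rfl | hodd
    · have hk : k ≠ 0 := by
        rintro rfl
        simp at hn
      obtain ⟨j, rfl⟩ : ∃ j, k = j + 1 := ⟨k - 1, by omega⟩
      have : 2 ^ (j + 1 + 1) * (2 ^ (j + 1 + 1) - 1) / 2 = 2 * (2 ^ j * (2 ^ (j + 1 + 1) - 1)) := by
        have e : 2 ^ (j + 1 + 1) * (2 ^ (j + 1 + 1) - 1) =
            2 * (2 * (2 ^ j * (2 ^ (j + 1 + 1) - 1))) := by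
          rw [pow_succ, pow_succ]; ring
        rw [e, Nat.mul_div_cancel_left _ (by norm_num : 0 < 2)]
      rw [this]
      exact dvd_mul_right _ _
    · have hq : Odd (p ^ (k + 1)) := hodd.pow
      obtain ⟨r, hr⟩ := hq
      have : p ^ (k + 1) * (p ^ (k + 1) - 1) / 2 = p ^ (k + 1) * r := by
        have e : p ^ (k + 1) - 1 = 2 * r := by omega
        rw [e, ← mul_assoc, mul_comm (p ^ (k + 1)) 2, mul_assoc,
          Nat.mul_div_cancel_left _ (by norm_num : 0 < 2)]
      rw [this, pow_succ]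
      exact Dvd.dvd.mul_right (dvd_mul_left _ _) _

theorem alp_comm_mem (A : Subgroup G) [A.Normal] (m : ℕ) {x : G}
    (hx : x ∈ (⊤ : Subgroup G).lowerCentralSeries m ⊔ A) (g : G) :
    x⁻¹ * g * x * g⁻¹ ∈ (⊤ : Subgroup G).lowerCentralSeries (m + 1) ⊔ A := by
  obtain ⟨l, hl, a, ha, rfl⟩ := Subgroup.mem_sup_of_normal_right.mp hx
  have e : (l * a)⁻¹ * g * (l * a) * g⁻¹ = a⁻¹ * ⁅l⁻¹, g⁆ * (g * a * g⁻¹) := by
    rw [commutatorElement_def]; group
  rw [e]
  have h1 : ⁅l⁻¹, g⁆ ∈ (⊤ : Subgroup G).lowerCentralSeries (m + 1) := by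
    rw [Subgroup.lowerCentralSeries_succ]
    exact Subgroup.commutator_mem_commutator (Subgroup.inv_mem _ hl) (Subgroup.mem_top g)
  have hA1 : a⁻¹ ∈ (⊤ : Subgroup G).lowerCentralSeries (m + 1) ⊔ A :=
    (le_sup_right : A ≤ _) (A.inv_mem ha)
  have hA2 : g * a * g⁻¹ ∈ (⊤ : Subgroup G).lowerCentralSeries (m + 1) ⊔ A :=
    (le_sup_right : A ≤ _) (‹A.Normal›.conj_mem a ha g)
  have h1' : ⁅l⁻¹, g⁆ ∈ (⊤ : Subgroup G).lowerCentralSeries (m + 1) ⊔ A :=
    (le_sup_left : (⊤ : Subgroup G).lowerCentralSeries (m + 1) ≤ _) h1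
  exact Subgroup.mul_mem _ (Subgroup.mul_mem _ hA1 h1') hA2

theorem alp_conj_mem_centralizer (A : Subgroup G) [A.Normal] {x : G}
    (hx : x ∈ Subgroup.centralizer (A : Set G)) (g : G) :
    g * x * g⁻¹ ∈ Subgroup.centralizer (A : Set G) := by
  rw [Subgroup.mem_centralizer_iff] at hx ⊢
  intro a ha
  have h1 : g⁻¹ * a * g ∈ A := by
    have := ‹A.Normal›.conj_mem a ha g⁻¹
    simpa using this
  have h2 := hx _ h1
  calc a * (g * x * g⁻¹) = g * ((g⁻¹ * a * g) * x) * g⁻¹ := by group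
    _ = g * (x * (g⁻¹ * a * g)) * g⁻¹ := by rw [h2]
    _ = g * x * g⁻¹ * a := by group

end Alperin

section Alperin2

open scoped commutatorElement

variable {G : Type*} [Group G]

theorem alp_inner {p : ℕ} (hp : p.Prime) (n : ℕ) (hn : p ^ n ≠ 2) (A : Subgroup G) [A.Normal]
    (hA : IsMulCommutative A) (hAe : ∀ a ∈ A, a ^ p ^ n = 1) (m : ℕ)
    (hQ : ∀ u ∈ Subgroup.centralizer (A : Set G), u ^ p ^ n = 1 →
      u ∈ (⊤ : Subgroup G).lowerCentralSeries (m + 1) ⊔ A → u ∈ A)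
    {x : G} (hxC : x ∈ Subgroup.centralizer (A : Set G)) (hxq : x ^ p ^ n = 1)
    (hxL : x ∈ (⊤ : Subgroup G).lowerCentralSeries m ⊔ A) (hxp : x ^ p ∈ A) (j : ℕ)
    (hR : ∀ g' ∈ (⊤ : Subgroup G).lowerCentralSeries (j + 1), x⁻¹ * g' * x * g'⁻¹ ∈ A)
    (g : G) (hg : g ∈ (⊤ : Subgroup G).lowerCentralSeries j) : x⁻¹ * g * x * g⁻¹ ∈ A := by
  set y := x⁻¹ * g * x * g⁻¹ with hy
  have hyj : y ∈ (⊤ : Subgroup G).lowerCentralSeries (j + 1) := by
    rw [Subgroup.lowerCentralSeries_succ, Subgroup.commutator_comm]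
    have : y = ⁅x⁻¹, g⁆ := by rw [commutatorElement_def, inv_inv]
    rw [this]
    exact Subgroup.commutator_mem_commutator (Subgroup.mem_top _) hg
  have hd := hR y hyj
  have hc : ⁅y, x⁆ ∈ A := by
    have := ‹A.Normal›.conj_mem _ hd x
    have e : x * (x⁻¹ * y * x * y⁻¹) * x⁻¹ = ⁅y, x⁆ := by
      rw [commutatorElement_def]; group
    rwa [e] at this
  have htC : g * x * g⁻¹ ∈ Subgroup.centralizer (A : Set G) := alp_conj_mem_centralizer A hxC g
  have hxy : x * y = g * x * g⁻¹ := by rw [hy]; group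
  have hyC : y ∈ Subgroup.centralizer (A : Set G) := by
    have : y = x⁻¹ * (g * x * g⁻¹) := by rw [hy]; group
    rw [this]
    exact Subgroup.mul_mem _ (Subgroup.inv_mem _ hxC) htC
  have hcx : ⁅y, x⁆ * x = x * ⁅y, x⁆ := (Subgroup.mem_centralizer_iff.mp hxC _ hc)
  have hcy : ⁅y, x⁆ * y = y * ⁅y, x⁆ := (Subgroup.mem_centralizer_iff.mp hyC _ hc)
  have htp : (x * y) ^ p ∈ A := by
    rw [hxy, conj_pow]
    exact ‹A.Normal›.conj_mem _ hxp g
  have hyp : y ^ p ∈ A := by
    have h1 := alp_c2_pow x y hcx hcy p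
    have h2 : y ^ p = (x ^ p)⁻¹ * (x * y) ^ p * (⁅y, x⁆ ^ (p.choose 2))⁻¹ := by
      rw [h1]; group
    rw [h2]
    exact A.mul_mem (A.mul_mem (A.inv_mem hxp) htp) (A.inv_mem (A.pow_mem hc _))
  have hcp : ⁅y, x⁆ ^ p = 1 := by
    have h1 := alp_c2_comm_pow x y hcx hcy p
    have h2 : y ^ p * x = x * y ^ p := (Subgroup.mem_centralizer_iff.mp hxC _ hyp)
    rw [h2] at h1
    exact (mul_eq_left.mp h1.symm)
  have hyq : y ^ p ^ n = 1 := by
    have h1 := alp_c2_pow x y hcx hcy (p ^ n)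
    rw [hxy, conj_pow, hxq, mul_one, mul_inv_cancel, one_mul,
      c3_pow_of_dvd hcp (alp_dvd_choose hp n hn), mul_one] at h1
    exact h1.symm
  exact hQ y hyC hyq (alp_comm_mem A m hxL g)

theorem alp_final {p : ℕ} (n : ℕ) (A : Subgroup G) [A.Normal]
    (hA : IsMulCommutative A) (hAe : ∀ a ∈ A, a ^ p ^ n = 1)
    (hmax : ∀ B : Subgroup G, B.Normal → IsMulCommutative B → (∀ b ∈ B, b ^ p ^ n = 1) →
      A ≤ B → B = A)
    {x : G} (hxC : x ∈ Subgroup.centralizer (A : Set G)) (hxq : x ^ p ^ n = 1)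
    (hall : ∀ g : G, x⁻¹ * g * x * g⁻¹ ∈ A) : x ∈ A := by
  set B := A ⊔ Subgroup.zpowers x with hB
  have hAB : A ≤ B := le_sup_left
  have hxB : x ∈ B := (le_sup_right : Subgroup.zpowers x ≤ B) (Subgroup.mem_zpowers x)
  have hAcomm : A ≤ Subgroup.centralizer (A : Set G) :=
    Subgroup.le_centralizer_iff_isMulCommutative.mpr hA
  have hzC : Subgroup.zpowers x ≤ Subgroup.centralizer (A : Set G) := by
    rw [Subgroup.zpowers_le]; exact hxC
  have hBcomm : IsMulCommutative B := by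
    rw [← Subgroup.le_centralizer_iff_isMulCommutative]
    have h1 : B ≤ Subgroup.centralizer (A : Set G) := sup_le hAcomm hzC
    have h2 : B ≤ Subgroup.centralizer (Subgroup.zpowers x : Set G) := by
      apply sup_le
      · exact Subgroup.le_centralizer_iff.mp hzC
      · exact Subgroup.le_centralizer_iff_isMulCommutative.mpr inferInstance
    apply sup_le
    · exact Subgroup.le_centralizer_iff.mp h1
    · exact Subgroup.le_centralizer_iff.mp h2
  have hBn : B.Normal := by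
    constructor
    intro b hb g
    have hmap : B.map (MulAut.conj g).toMonoidHom ≤ B := by
      rw [hB, Subgroup.map_sup]
      apply sup_le
      · rintro _ ⟨a, ha, rfl⟩
        exact hAB (‹A.Normal›.conj_mem a ha g)
      · rw [MonoidHom.map_zpowers, Subgroup.zpowers_le]
        have e : (MulAut.conj g).toMonoidHom x = x * (x⁻¹ * g * x * g⁻¹) := by
          simp [MulAut.conj_apply]; group
        rw [e]
        exact Subgroup.mul_mem _ hxB (hAB (hall g))
    exact hmap ⟨b, hb, by simp [MulAut.conj_apply]⟩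
  have hBe : ∀ b ∈ B, b ^ p ^ n = 1 := by
    intro b hb
    rw [hB, sup_comm] at hb
    obtain ⟨z, hz, a, ha, rfl⟩ := Subgroup.mem_sup_of_normal_right.mp hb
    obtain ⟨k, rfl⟩ := Subgroup.mem_zpowers_iff.mp hz
    have hcomm : Commute (x ^ k) a :=
      (Subgroup.mem_centralizer_iff.mp (Subgroup.zpow_mem _ hxC k) a ha).symm
    rw [hcomm.mul_pow, hAe a ha, mul_one, ← zpow_natCast, ← zpow_mul, mul_comm, zpow_mul,
      zpow_natCast, hxq, one_zpow]
  have := hmax B hBn hBcomm hBe hAB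
  rw [← this]
  exact hxB

end Alperin2

section Alperin3

variable {G : Type*} [Group G]

theorem alp_down_ind (P : ℕ → Prop) (N : ℕ) (hN : ∀ m, N ≤ m → P m)
    (hstep : ∀ m, P (m + 1) → P m) : ∀ m, P m := by
  have key : ∀ k m, N ≤ m + k → P m := by
    intro k
    induction k with
    | zero => intro m hm; exact hN m hm
    | succ k ih =>
      intro m hm
      exact hstep m (ih (m + 1) (by omega))
  intro m
  exact key N m (by omega)

theorem alp_main [Finite G] {p : ℕ} [Fact p.Prime] (hG : IsPGroup p G) (n : ℕ) (hn : p ^ n ≠ 2)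
    (A : Subgroup G) [A.Normal] (hA : IsMulCommutative A) (hAe : ∀ a ∈ A, a ^ p ^ n = 1)
    (hmax : ∀ B : Subgroup G, B.Normal → IsMulCommutative B → (∀ b ∈ B, b ^ p ^ n = 1) →
      A ≤ B → B = A)
    (x : G) (hx : x ∈ Subgroup.centralizer (A : Set G)) (hxn : x ^ p ^ n = 1) : x ∈ A := by
  have hp := (Fact.out : p.Prime)
  haveI : Group.IsNilpotent G := hG.isNilpotent
  obtain ⟨N, hN⟩ := Subgroup.nilpotent_iff_lowerCentralSeries.mp (inferInstance : Group.IsNilpotent G)
  have hbot : ∀ m, N ≤ m → (⊤ : Subgroup G).lowerCentralSeries m = ⊥ := by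
    intro m hm
    have := Subgroup.lowerCentralSeries_antitone (S := (⊤ : Subgroup G)) hm
    rw [hN] at this
    exact le_bot_iff.mp this
  have hQ : ∀ m, ∀ u ∈ Subgroup.centralizer (A : Set G), u ^ p ^ n = 1 →
      u ∈ (⊤ : Subgroup G).lowerCentralSeries m ⊔ A → u ∈ A := by
    apply alp_down_ind
    · intro m hm u _ _ hu
      rw [hbot m hm, bot_sup_eq] at hu
      exact hu
    · intro m hQm
      have core : ∀ w ∈ Subgroup.centralizer (A : Set G), w ^ p ^ n = 1 →
          w ∈ (⊤ : Subgroup G).lowerCentralSeries m ⊔ A → w ^ p ∈ A → w ∈ A := by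
        intro w hwC hwq hwL hwp
        have hR : ∀ j, ∀ g ∈ (⊤ : Subgroup G).lowerCentralSeries j, w⁻¹ * g * w * g⁻¹ ∈ A := by
          apply alp_down_ind
          · intro j hj g hg
            rw [hbot j hj, Subgroup.mem_bot] at hg
            rw [hg]
            simp
          · intro j hRj g hg
            exact alp_inner hp n hn A hA hAe m hQm hwC hwq hwL hwp j hRj g hg
        apply alp_final n A hA hAe hmax hwC hwq
        intro g
        exact hR 0 g (by rw [Subgroup.lowerCentralSeries_zero]; exact Subgroup.mem_top g)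
      intro u huC huq huL
      have hpow : ∀ k, k ≤ n → u ^ p ^ (n - k) ∈ A := by
        intro k
        induction k with
        | zero =>
          intro _
          rw [Nat.sub_zero, huq]
          exact A.one_mem
        | succ k ih =>
          intro hk
          have h1 := ih (by omega)
          have e : n - k = (n - (k + 1)) + 1 := by omega
          rw [e, pow_succ, pow_mul] at h1
          apply core _ (Subgroup.pow_mem _ huC _) _ (Subgroup.pow_mem _ huL _) h1
          rw [← pow_mul, mul_comm, pow_mul, huq, one_pow]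
      have := hpow n le_rfl
      simpa using this
  apply hQ 0 x hx hxn
  rw [Subgroup.lowerCentralSeries_zero, top_sup_eq]
  exact Subgroup.mem_top x

end Alperin3

end Cfsg.Agent.Lib.Helper24
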