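import Mathlib
import Cfsg.Agent.Lib.Helper1.Nilp
import Cfsg.Agent.Lib.helper7.ClassSum

set_option autoImplicit false
set_option linter.style.haveILetI false

namespace Cfsg.Agent.Lib.Helper24

section AutBound

open scoped commutatorElement

variable {G : Type*} [Group G]

theorem ab_comm_lt [Group.IsNilpotent G] (A : Subgroup G) [A.Normal] (hA : A ≠ ⊥) :
    ⁅A, (⊤ : Subgroup G)⁆ ≠ A := by
  intro h
  apply hA
  obtain ⟨N, hN⟩ := Subgroup.nilpotent_iff_lowerCentralSeries.mp (inferInstance : Group.IsNilpotent G)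
  have key : ∀ n, A ≤ (⊤ : Subgroup G).lowerCentralSeries n := by
    intro n
    induction n with
    | zero => rw [Subgroup.lowerCentralSeries_zero]; exact le_top
    | succ n ih =>
      rw [Subgroup.lowerCentralSeries_succ]
      calc A = ⁅A, (⊤ : Subgroup G)⁆ := h.symm
        _ ≤ ⁅(⊤ : Subgroup G).lowerCentralSeries n, ⊤⁆ := Subgroup.commutator_mono ih le_rfl
  have := key N
  rw [hN] at this
  exact le_bot_iff.mp this

theorem ab_exists_sub [Finite G] {p : ℕ} [Fact p.Prime] (hG : IsPGroup p G) (A : Subgroup G)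
    [A.Normal] (a : ℕ) (hA : Nat.card A = p ^ (a + 1)) :
    ∃ B : Subgroup G, B ≤ A ∧ ⁅A, (⊤ : Subgroup G)⁆ ≤ B ∧ Nat.card B = p ^ a := by
  have hp := (Fact.out : p.Prime)
  haveI : Group.IsNilpotent G := hG.isNilpotent
  have hA1 : A ≠ ⊥ := by
    intro h
    rw [h, Subgroup.card_bot] at hA
    have : 1 < p ^ (a + 1) := Nat.one_lt_pow (by omega) hp.one_lt
    omega
  have hle : ⁅A, (⊤ : Subgroup G)⁆ ≤ A := Subgroup.commutator_le_left A ⊤
  have hne := ab_comm_lt A hA1
  obtain ⟨n', hn'⟩ := (hG.to_subgroup (⁅A, (⊤ : Subgroup G)⁆ : Subgroup G)).exists_card_eq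
  have hlt : Nat.card (⁅A, (⊤ : Subgroup G)⁆ : Subgroup G) < Nat.card A := by
    rcases lt_or_eq_of_le (Subgroup.card_le_of_le hle) with h | h
    · exact h
    · exact absurd (Subgroup.eq_of_le_of_card_ge hle h.ge) hne
  have hn'a : n' ≤ a := by
    rw [hn', hA] at hlt
    have := (Nat.pow_lt_pow_iff_right hp.one_lt).mp hlt
    omega
  have hcardH : Nat.card ((⁅A, (⊤ : Subgroup G)⁆ : Subgroup G).subgroupOf A) = p ^ n' := by
    rw [← hn']
    exact Nat.card_congr (Subgroup.subgroupOfEquivOfLe hle).toEquiv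
  obtain ⟨K, hK, hHK⟩ := Sylow.exists_subgroup_card_pow_prime_le p (G := A) (m := a)
    (by rw [hA]; exact pow_dvd_pow p (Nat.le_succ a)) _ hcardH hn'a
  refine ⟨K.map A.subtype, Subgroup.map_subtype_le K, ?_, ?_⟩
  · intro x hx
    have hxA : x ∈ A := hle hx
    exact ⟨⟨x, hxA⟩, hHK (Subgroup.mem_subgroupOf.mpr hx), rfl⟩
  · rw [Subgroup.card_subtype, hK]

theorem ab_class_le [Finite G] (A B : Subgroup G) (hAB : ⁅A, (⊤ : Subgroup G)⁆ ≤ B) (x : G)
    (hx : x ∈ A) : (Subgroup.centralizer ({x} : Set G)).index ≤ Nat.card B := by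
  rw [Cfsg.Agent.Lib.helper7.h7_index_centralizer_eq_card_class]
  let f : {y : G // IsConj x y} → B := fun y => ⟨(y : G) * x⁻¹, by
    obtain ⟨g, hg⟩ := isConj_iff.mp y.2
    apply hAB
    rw [← hg, Subgroup.commutator_comm]
    have : g * x * g⁻¹ * x⁻¹ = ⁅g, x⁆ := by rw [commutatorElement_def]
    rw [this]
    exact Subgroup.commutator_mem_commutator (Subgroup.mem_top g) hx⟩
  apply Nat.card_le_card_of_injective f
  intro y z hyz
  have := congrArg Subtype.val hyz
  simp only [f] at this
  exact Subtype.ext (mul_right_cancel this)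

end AutBound

section AutBound2

open scoped commutatorElement

variable {G : Type*} [Group G]

theorem ab_normal_of_between (A B : Subgroup G) (hBA : B ≤ A)
    (hAB : ⁅A, (⊤ : Subgroup G)⁆ ≤ B) : B.Normal := by
  constructor
  intro b hb g
  have h1 : ⁅g, b⁆ ∈ B := by
    apply hAB
    rw [Subgroup.commutator_comm]
    exact Subgroup.commutator_mem_commutator (Subgroup.mem_top g) (hBA hb)
  have : g * b * g⁻¹ = ⁅g, b⁆ * b := by rw [commutatorElement_def]; group
  rw [this]
  exact B.mul_mem h1 hb

theorem ab_arith (a : ℕ) : (a + 1) * (a + 1 - 1) / 2 = a * (a - 1) / 2 + a := by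
  rw [Nat.add_sub_cancel]
  rcases Nat.eq_zero_or_pos a with rfl | ha
  · simp
  · obtain ⟨b, rfl⟩ : ∃ b, a = b + 1 := ⟨a - 1, by omega⟩
    rw [Nat.add_sub_cancel]
    have h1 : (b + 1 + 1) * (b + 1) = (b + 1) * b + (b + 1) * 2 := by ring
    rw [h1, Nat.add_mul_div_right _ _ (by norm_num : 0 < 2)]

theorem ab_index_le [Finite G] {p : ℕ} [Fact p.Prime] (hG : IsPGroup p G) :
    ∀ (a : ℕ) (A : Subgroup G) [A.Normal], Nat.card A = p ^ a →
      (Subgroup.centralizer (A : Set G)).index ≤ p ^ (a * (a - 1) / 2) := by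
  have hp := (Fact.out : p.Prime)
  intro a
  induction a with
  | zero =>
    intro A _ hA
    rw [pow_zero, Subgroup.card_eq_one] at hA
    have htop : Subgroup.centralizer ((A : Subgroup G) : Set G) = ⊤ := by
      rw [eq_top_iff]
      intro g _
      rw [Subgroup.mem_centralizer_iff]
      intro y hy
      have : y = 1 := by
        have h1 : y ∈ A := hy
        rw [hA, Subgroup.mem_bot] at h1
        exact h1
      rw [this, one_mul, mul_one]
    rw [htop, Subgroup.index_top]
    simp
  | succ a ih =>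
    intro A _ hA
    obtain ⟨B, hBA, hAB, hBc⟩ := ab_exists_sub hG A a hA
    haveI hBn : B.Normal := ab_normal_of_between A B hBA hAB
    have hIH := ih B hBc
    have hlt : Nat.card B < Nat.card A := by
      rw [hBc, hA]; exact Nat.pow_lt_pow_right hp.one_lt (Nat.lt_succ_self a)
    obtain ⟨x, hxA, hxB⟩ : ∃ x ∈ A, x ∉ B := by
      by_contra hcon
      push Not at hcon
      have : A ≤ B := hcon
      have := Subgroup.card_le_of_le this
      omega
    have hD : B ⊔ Subgroup.zpowers x = A := by
      have hDA : B ⊔ Subgroup.zpowers x ≤ A :=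
        sup_le hBA (by rw [Subgroup.zpowers_le]; exact hxA)
      apply Subgroup.eq_of_le_of_card_ge hDA
      obtain ⟨d, hd⟩ := (hG.to_subgroup (B ⊔ Subgroup.zpowers x)).exists_card_eq
      have hBD : B < B ⊔ Subgroup.zpowers x := by
        refine lt_of_le_of_ne le_sup_left ?_
        intro h
        apply hxB
        rw [h]
        exact (le_sup_right : Subgroup.zpowers x ≤ _) (Subgroup.mem_zpowers x)
      have h1 : Nat.card B < Nat.card ↥(B ⊔ Subgroup.zpowers x) := by
        rcases lt_or_eq_of_le (Subgroup.card_le_of_le hBD.le) with h | h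
        · exact h
        · exact absurd (Subgroup.eq_of_le_of_card_ge hBD.le h.ge) hBD.ne
      rw [hd, hBc] at h1
      have h2 := (Nat.pow_lt_pow_iff_right hp.one_lt).mp h1
      rw [hA, hd]
      exact Nat.pow_le_pow_right hp.pos h2
    have hsub : Subgroup.centralizer (B : Set G) ⊓ Subgroup.centralizer ({x} : Set G) ≤
        Subgroup.centralizer (A : Set G) := by
      intro g hg
      rw [Subgroup.mem_centralizer_iff]
      have hle : A ≤ Subgroup.centralizer ({g} : Set G) := by
        rw [← hD]
        apply sup_le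
        · intro b hb
          rw [Subgroup.mem_centralizer_iff]
          intro y hy
          rw [Set.mem_singleton_iff] at hy
          rw [hy]
          exact (Subgroup.mem_centralizer_iff.mp hg.1 b hb).symm
        · rw [Subgroup.zpowers_le, Subgroup.mem_centralizer_iff]
          intro y hy
          rw [Set.mem_singleton_iff] at hy
          rw [hy]
          exact (Subgroup.mem_centralizer_iff.mp hg.2 x rfl).symm
      intro y hy
      have := Subgroup.mem_centralizer_iff.mp (hle hy) g rfl
      exact this.symm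
    have h1 : (Subgroup.centralizer (A : Set G)).index ≤
        (Subgroup.centralizer (B : Set G) ⊓ Subgroup.centralizer ({x} : Set G)).index :=
      Nat.le_of_dvd (Nat.pos_of_ne_zero Subgroup.index_ne_zero_of_finite)
        (Subgroup.index_dvd_of_le hsub)
    have h2 := Subgroup.index_inf_le (H := Subgroup.centralizer (B : Set G))
      (K := Subgroup.centralizer ({x} : Set G))
    have h3 := ab_class_le A B hAB x hxA
    rw [ab_arith, pow_add]
    calc (Subgroup.centralizer (A : Set G)).index
        ≤ (Subgroup.centralizer (B : Set G)).index *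
          (Subgroup.centralizer ({x} : Set G)).index := h1.trans h2
      _ ≤ p ^ (a * (a - 1) / 2) * p ^ a := by
        rw [← hBc]
        exact Nat.mul_le_mul hIH h3

theorem ab_card_le [Finite G] {p : ℕ} [Fact p.Prime] (hG : IsPGroup p G) (A : Subgroup G)
    [A.Normal] (hA : IsMulCommutative A)
    (hmax : ∀ B : Subgroup G, B.Normal → IsMulCommutative B → A ≤ B → B = A) (a : ℕ)
    (ha : Nat.card A = p ^ a) : Nat.card G ≤ p ^ (a * (a + 1) / 2) := by
  haveI : Group.IsNilpotent G := hG.isNilpotent
  have hC := Cfsg.Agent.Lib.Helper1.centralizer_eq_self_of_max_abelian_normal A hmax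
  have h1 := ab_index_le hG a A ha
  rw [hC] at h1
  have h2 := Subgroup.card_mul_index A
  rw [← h2, ha]
  have e : a * (a + 1) / 2 = a + a * (a - 1) / 2 := by
    have := ab_arith a
    rw [Nat.add_sub_cancel] at this
    rw [mul_comm a (a + 1), this, add_comm]
  rw [e, pow_add]
  exact Nat.mul_le_mul_left _ h1

end AutBound2

end Cfsg.Agent.Lib.Helper24
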