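import Mathlib

set_option autoImplicit false
set_option linter.style.haveILetI false

namespace Cfsg.Agent.Lib.Helper24

section CritAut

variable {G : Type*} [Group G]

theorem ca_pow_apply (a : MulAut G) (g c : G) (hg : a g = g * c) (hc : a c = c) (k : ℕ) :
    (a ^ k) g = g * c ^ k := by
  induction k with
  | zero => simp
  | succ k ih =>
    rw [pow_succ', MulAut.mul_apply, ih, map_mul, map_pow, hg, hc, pow_succ']
    group

theorem ca_stab_trivial [Finite G] {p : ℕ} [Fact p.Prime] (hG : IsPGroup p G) (a : MulAut G)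
    (ha : Nat.Coprime (orderOf a) p) (H : Subgroup G) (h : ∀ x ∈ H, a x = x)
    (hq : ∀ g : G, g⁻¹ * a g ∈ H) : a = 1 := by
  ext g
  rw [MulAut.one_apply]
  set c := g⁻¹ * a g with hc
  have hg : a g = g * c := by rw [hc]; group
  have hfix : a c = c := h c (hq g)
  have h1 := ca_pow_apply a g c hg hfix (orderOf a)
  rw [pow_orderOf_eq_one, MulAut.one_apply] at h1
  have hck : c ^ orderOf a = 1 := by
    have : g * c ^ orderOf a = g * 1 := by rw [mul_one]; exact h1.symm
    exact mul_left_cancel this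
  obtain ⟨j, hj⟩ := hG c
  have hd1 : orderOf c ∣ orderOf a := orderOf_dvd_of_pow_eq_one hck
  have hd2 : orderOf c ∣ p ^ j := orderOf_dvd_of_pow_eq_one hj
  have hcop : Nat.Coprime (orderOf a) (p ^ j) := Nat.Coprime.pow_right j ha
  have h2 : orderOf c = 1 := Nat.eq_one_of_dvd_coprimes hcop hd1 hd2
  rw [orderOf_eq_one_iff] at h2
  rw [hg, h2, mul_one]

theorem ca_crit [Finite G] {p : ℕ} [Fact p.Prime] (hG : IsPGroup p G) (H : Subgroup G)
    (hH : H.Normal) (h3 : Subgroup.centralizer (H : Set G) ≤ H) (a : MulAut G)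
    (ha : Nat.Coprime (orderOf a) p) (h : ∀ x ∈ H, a x = x) : a = 1 := by
  apply ca_stab_trivial hG a ha H h
  intro g
  apply h3
  rw [Subgroup.mem_centralizer_iff]
  intro x hx
  have h1 : g * x * g⁻¹ ∈ H := hH.conj_mem x hx g
  have h2 := h _ h1
  rw [map_mul, map_mul, map_inv, h x hx] at h2
  calc x * (g⁻¹ * a g) = g⁻¹ * (g * x * g⁻¹) * a g := by group
    _ = g⁻¹ * (a g * x * (a g)⁻¹) * a g := by rw [h2]
    _ = g⁻¹ * a g * x := by group

end CritAut

end Cfsg.Agent.Lib.Helper24
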