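import Mathlib
import Cfsg.Agent.Lib.Helper24.Alperin
import Cfsg.Agent.Lib.Helper24.AutBound
import Cfsg.Agent.Lib.Helper24.CritAut

set_option autoImplicit false
set_option linter.style.haveILetI false

namespace Cfsg.Agent.Lib.Helper24

section OmegaAut

open scoped commutatorElement

variable {G : Type*} [Group G]

theorem oa_restrict [Finite G] (a : MulAut G) (K : Subgroup G) (hK : ∀ k ∈ K, a k ∈ K) :
    ∃ b : MulAut K, (∀ k : K, ((b k : K) : G) = a k) ∧ orderOf b ∣ orderOf a := by
  let f : K →* K := (a.toMonoidHom.comp K.subtype).codRestrict K (fun k => hK k k.2)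
  have hf : ∀ k : K, ((f k : K) : G) = a k := fun k => rfl
  have hinj : Function.Injective f := by
    intro x y hxy
    have := congrArg Subtype.val hxy
    rw [hf, hf] at this
    exact Subtype.ext (a.injective this)
  have hbij : Function.Bijective f := Finite.injective_iff_bijective.mp hinj
  let b : MulAut K := MulEquiv.ofBijective f hbij
  have hb : ∀ k : K, ((b k : K) : G) = a k := fun k => rfl
  refine ⟨b, hb, ?_⟩
  have hpow : ∀ (j : ℕ) (k : K), (((b ^ j) k : K) : G) = (a ^ j) k := by
    intro j
    induction j with
    | zero => intro k; simp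
    | succ j ih =>
      intro k
      rw [pow_succ', pow_succ', MulAut.mul_apply, MulAut.mul_apply, hb, ih]
  apply orderOf_dvd_of_pow_eq_one
  ext k
  rw [hpow, pow_orderOf_eq_one]
  simp

end OmegaAut

section OmegaAut2

open scoped commutatorElement

universe u

theorem oa_main {p : ℕ} [Fact p.Prime] (hp2 : p ≠ 2) :
    ∀ (n : ℕ) (G : Type u) [Group G] [Finite G], Nat.card G = n → IsPGroup p G →
      ∀ a : MulAut G, Nat.Coprime (orderOf a) p → (∀ x : G, x ^ p = 1 → a x = x) → a = 1 := by
  have hp := (Fact.out : p.Prime)
  have h2p : 2 < p := lt_of_le_of_ne hp.two_le (fun h => hp2 h.symm)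
  intro n
  induction n using Nat.strong_induction_on with
  | _ n ih =>
    intro G _ _ hn hG a ha h
    have IH' : ∀ K : Subgroup G, K ≠ ⊤ → (∀ k ∈ K, a k ∈ K) → ∀ k ∈ K, a k = k := by
      intro K hKtop hK k hk
      obtain ⟨b, hb, hbo⟩ := oa_restrict a K hK
      have hlt : Nat.card K < n := by
        rw [← hn]
        rcases lt_or_eq_of_le (Subgroup.card_le_card_group K) with h1 | h1
        · exact h1
        · exact absurd ((Subgroup.card_eq_iff_eq_top K).mp h1) hKtop
      have hb1 : b = 1 := by
        apply ih (Nat.card K) hlt K rfl (hG.to_subgroup K) b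
          (Nat.Coprime.coprime_dvd_left hbo ha)
        intro x hx
        apply Subtype.ext
        rw [hb]
        apply h
        have := congrArg Subtype.val hx
        simpa using this
      have := hb ⟨k, hk⟩
      rw [hb1] at this
      exact this.symm
    by_cases htriv : Nat.card G = 1
    · haveI : Subsingleton G := (Nat.card_eq_one_iff_unique.mp htriv).1
      ext g
      exact Subsingleton.elim _ _
    set D := Subgroup.closure {z : G | ∃ g : G, z = g⁻¹ * a g} with hD
    have hgenD : ∀ g : G, g⁻¹ * a g ∈ D := fun g => Subgroup.subset_closure ⟨g, rfl⟩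
    have hDinv : ∀ k ∈ D, a k ∈ D := by
      intro k hk
      induction hk using Subgroup.closure_induction with
      | mem z hz =>
        obtain ⟨g, rfl⟩ := hz
        rw [map_mul, map_inv]
        exact hgenD (a g)
      | one => rw [map_one]; exact D.one_mem
      | mul x y _ _ hx hy => rw [map_mul]; exact D.mul_mem hx hy
      | inv x _ hx => rw [map_inv]; exact D.inv_mem hx
    by_cases hDtop : D = ⊤
    · obtain ⟨e', he'⟩ := hG.exists_card_eq
      have he1 : 1 ≤ e' := by
        by_contra hlt
        have : e' = 0 := by omega
        rw [this, pow_zero] at he'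
        exact htriv he'
      obtain ⟨e, rfl⟩ : ∃ e, e' = e + 1 := ⟨e' - 1, by omega⟩
      obtain ⟨B, -, hcB, hBc⟩ := ab_exists_sub hG (⊤ : Subgroup G) e
        (by rw [Subgroup.card_top]; exact he')
      haveI hBn : B.Normal := ab_normal_of_between ⊤ B le_top hcB
      have hBi : B.index = p := by
        have h1 := Subgroup.card_mul_index B
        rw [hBc, he', pow_succ] at h1
        exact Nat.eq_of_mul_eq_mul_left (pow_pos hp.pos e) h1
      have hBpow : ∀ x : G, x ^ p ∈ B := by
        intro x
        have := Subgroup.pow_index_mem B x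
        rwa [hBi] at this
      set N := Subgroup.closure {z : G | (∃ x y : G, z = ⁅x, y⁆) ∨ ∃ x : G, z = x ^ p} with hN
      have hNB : N ≤ B := by
        rw [hN, Subgroup.closure_le]
        rintro z (⟨x, y, rfl⟩ | ⟨x, rfl⟩)
        · exact hcB (Subgroup.commutator_mem_commutator (Subgroup.mem_top x) (Subgroup.mem_top y))
        · exact hBpow x
      have hNtop : N ≠ ⊤ := by
        intro h1
        have h2 : B = ⊤ := top_le_iff.mp (h1 ▸ hNB)
        rw [h2, Subgroup.index_top] at hBi
        exact hp.one_lt.ne hBi
      have hNinv : ∀ k ∈ N, a k ∈ N := by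
        intro k hk
        induction hk using Subgroup.closure_induction with
        | mem z hz =>
          apply Subgroup.subset_closure
          rcases hz with ⟨x, y, rfl⟩ | ⟨x, rfl⟩
          · left
            exact ⟨a x, a y, by rw [map_commutatorElement]⟩
          · right
            exact ⟨a x, by rw [map_pow]⟩
        | one => rw [map_one]; exact N.one_mem
        | mul x y _ _ hx hy => rw [map_mul]; exact N.mul_mem hx hy
        | inv x _ hx => rw [map_inv]; exact N.inv_mem hx
      have hNfix := IH' N hNtop hNinv
      have hcN : (⁅(⊤ : Subgroup G), (⊤ : Subgroup G)⁆ : Subgroup G) ≤ N := by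
        rw [Subgroup.commutator_le]
        intro x _ y _
        exact Subgroup.subset_closure (Or.inl ⟨x, y, rfl⟩)
      haveI hNn : N.Normal := ab_normal_of_between ⊤ N le_top hcN
      have hNZ : N ≤ Subgroup.center G := by
        have hDC : D ≤ Subgroup.centralizer (N : Set G) := by
          rw [hD, Subgroup.closure_le]
          rintro z ⟨g, rfl⟩
          rw [SetLike.mem_coe, Subgroup.mem_centralizer_iff]
          intro x hx
          have h1 : g * x * g⁻¹ ∈ N := hNn.conj_mem x hx g
          have h2 := hNfix _ h1
          rw [map_mul, map_mul, map_inv, hNfix x hx] at h2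
          calc x * (g⁻¹ * a g) = g⁻¹ * (g * x * g⁻¹) * a g := by group
            _ = g⁻¹ * (a g * x * (a g)⁻¹) * a g := by rw [h2]
            _ = g⁻¹ * a g * x := by group
        intro x hx
        rw [Subgroup.mem_center_iff]
        intro g
        have hg : g ∈ Subgroup.centralizer (N : Set G) := hDC (by rw [hDtop]; exact Subgroup.mem_top g)
        rw [Subgroup.mem_centralizer_iff] at hg
        exact (hg x hx).symm
      have hhom : ∀ x y : G, (x * y) ^ p = x ^ p * y ^ p := by
        intro x y
        have hc : ⁅y, x⁆ ∈ N := Subgroup.subset_closure (Or.inl ⟨y, x, rfl⟩)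
        have hcz := Subgroup.mem_center_iff.mp (hNZ hc)
        have hyp : y ^ p ∈ N := Subgroup.subset_closure (Or.inr ⟨y, rfl⟩)
        have hypz := Subgroup.mem_center_iff.mp (hNZ hyp)
        have hcp : ⁅y, x⁆ ^ p = 1 := by
          have h1 := alp_c2_comm_pow x y (hcz x).symm (hcz y).symm p
          rw [← hypz x] at h1
          exact (mul_eq_left.mp h1.symm)
        rw [alp_c2_pow x y (hcz x).symm (hcz y).symm p,
          c3_pow_of_dvd hcp (c3_dvd_choose_two hp h2p), mul_one]
      let F : Subgroup G :=
        { carrier := {x | a x = x}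
          one_mem' := map_one a
          mul_mem' := by
            intro x y hx hy
            show a (x * y) = x * y
            rw [map_mul, hx, hy]
          inv_mem' := by
            intro x hx
            show a x⁻¹ = x⁻¹
            rw [map_inv, hx] }
      apply ca_stab_trivial hG a ha F (fun x hx => hx)
      intro g
      show a (g⁻¹ * a g) = g⁻¹ * a g
      apply h
      rw [hhom, inv_pow, ← map_pow, hNfix (g ^ p) (Subgroup.subset_closure (Or.inr ⟨g, rfl⟩)),
        inv_mul_cancel]
    · exact ca_stab_trivial hG a ha D (IH' D hDtop hDinv) hgenD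

end OmegaAut2

end Cfsg.Agent.Lib.Helper24
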