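import Mathlib
import Cfsg.Agent.Lib.Helper18.PPrimeCore

set_option autoImplicit false
set_option linter.style.haveILetI false

namespace Cfsg.Agent.Lib.Helper24

variable {G : Type*} [Group G]

def bsCj (g : G) (X : Subgroup G) : Subgroup G := X.map (MulAut.conj g).toMonoidHom

theorem mem_bsCj (g : G) (X : Subgroup G) (y : G) : y ∈ bsCj g X ↔ g⁻¹ * y * g ∈ X := by
  unfold bsCj
  rw [Subgroup.mem_map]
  constructor
  · rintro ⟨x, hx, rfl⟩
    have : g⁻¹ * ((MulAut.conj g).toMonoidHom x) * g = x := by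
      simp [MulAut.conj_apply, mul_assoc]
    rw [this]; exact hx
  · intro h
    refine ⟨g⁻¹ * y * g, h, ?_⟩
    simp [MulAut.conj_apply, mul_assoc]

theorem bsCj_mul (a b : G) (X : Subgroup G) : bsCj (a * b) X = bsCj a (bsCj b X) := by
  ext y
  rw [mem_bsCj, mem_bsCj, mem_bsCj]
  have : (a * b)⁻¹ * y * (a * b) = b⁻¹ * (a⁻¹ * y * a) * b := by group
  rw [this]

theorem bsCj_one (X : Subgroup G) : bsCj 1 X = X := by
  ext y
  rw [mem_bsCj]
  simp

theorem bsCj_le_iff (g : G) (X Y : Subgroup G) : bsCj g X ≤ Y ↔ X ≤ bsCj g⁻¹ Y := by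
  constructor
  · intro h x hx
    rw [mem_bsCj, inv_inv]
    apply h
    rw [mem_bsCj]
    have : g⁻¹ * (g * x * g⁻¹) * g = x := by group
    rw [this]; exact hx
  · intro h y hy
    rw [mem_bsCj] at hy
    have := h hy
    rw [mem_bsCj, inv_inv] at this
    have h2 : g * (g⁻¹ * y * g) * g⁻¹ = y := by group
    rw [h2] at this
    exact this

theorem bsCj_mono (g : G) {X Y : Subgroup G} (h : X ≤ Y) : bsCj g X ≤ bsCj g Y :=
  Subgroup.map_mono h

theorem bsCj_sup (g : G) (X Y : Subgroup G) : bsCj g (X ⊔ Y) = bsCj g X ⊔ bsCj g Y :=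
  Subgroup.map_sup X Y _

theorem bsCj_injective (g : G) : Function.Injective (bsCj (G := G) g) := by
  intro X Y h
  have h1 : bsCj g⁻¹ (bsCj g X) = bsCj g⁻¹ (bsCj g Y) := by rw [h]
  rw [← bsCj_mul, ← bsCj_mul, inv_mul_cancel, bsCj_one, bsCj_one] at h1
  exact h1

theorem bsCj_isPGroup {p : ℕ} (g : G) {X : Subgroup G} (hX : IsPGroup p X) :
    IsPGroup p (bsCj g X) :=
  hX.map _

theorem bsCj_le_of_mem_normalizer {g : G} {E : Subgroup G}
    (hg : g ∈ Subgroup.normalizer (E : Set G)) : bsCj g E = E := by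
  ext y
  rw [mem_bsCj]
  have hg' : g⁻¹ ∈ Subgroup.normalizer (E : Set G) := Subgroup.inv_mem _ hg
  rw [Subgroup.mem_normalizer_iff] at hg'
  have := hg' y
  rw [inv_inv] at this
  exact this.symm

def bsFam (X : Subgroup G) : Set (Subgroup G) := {Y | ∃ g : G, Y = bsCj g X}

theorem bsFam_conj {X Y : Subgroup G} (hY : Y ∈ bsFam X) (g : G) : bsCj g Y ∈ bsFam X := by
  obtain ⟨a, rfl⟩ := hY
  exact ⟨g * a, (bsCj_mul g a X).symm⟩

theorem bsFam_pair {p : ℕ} (X : Subgroup G)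
    (h : ∀ g : G, IsPGroup p ↥(X ⊔ X.map (MulAut.conj g).toMonoidHom))
    {Y₁ Y₂ : Subgroup G} (h1 : Y₁ ∈ bsFam X) (h2 : Y₂ ∈ bsFam X) : IsPGroup p ↥(Y₁ ⊔ Y₂) := by
  obtain ⟨a, rfl⟩ := h1
  obtain ⟨b, rfl⟩ := h2
  have : bsCj a X ⊔ bsCj b X = bsCj a (X ⊔ bsCj (a⁻¹ * b) X) := by
    rw [bsCj_sup, ← bsCj_mul, mul_inv_cancel_left]
  rw [this]
  exact bsCj_isPGroup a (h (a⁻¹ * b))


def bsSigma (X : Subgroup G) (P : Subgroup G) : Set (Subgroup G) := {Y | Y ∈ bsFam X ∧ Y ≤ P}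

theorem bs_key [Finite G] {p : ℕ} [Fact p.Prime] (X : Subgroup G) (P Q : Subgroup G)
    (hP : IsPGroup p P)
    (Y₀ : Subgroup G) (hY₀ : Y₀ ∈ bsSigma X P) (hY₀Q : Y₀ ∉ bsSigma X Q) :
    ∃ Y ∈ bsSigma X P, Y ∉ bsSigma X Q ∧
      Y ≤ Subgroup.normalizer ((sSup (bsSigma X P ∩ bsSigma X Q) : Subgroup G) : Set G) := by
  classical
  set S := bsSigma X P ∩ bsSigma X Q with hS
  set E := sSup S with hE
  have hEP : E ≤ P := sSup_le (fun W hW => hW.1.2)
  have hEQ : E ≤ Q := sSup_le (fun W hW => hW.2.2)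
  set 𝒯 : Set (Subgroup G) := {T | E ≤ T ∧ T ≤ P ∧ ∀ Z ∈ bsFam X, Z ≤ T → Z ≤ Q} with h𝒯
  have hE𝒯 : E ∈ 𝒯 := ⟨le_refl _, hEP, fun Z _ hZ => le_trans hZ hEQ⟩
  have hfin : 𝒯.Finite := Set.toFinite _
  obtain ⟨T, hT𝒯, hTmax⟩ := hfin.exists_maximal ⟨E, hE𝒯⟩
  obtain ⟨hET, hTP, hTprop⟩ := hT𝒯
  have hTneP : T ≠ P := by
    intro h
    apply hY₀Q
    exact ⟨hY₀.1, hTprop Y₀ hY₀.1 (by rw [h]; exact hY₀.2)⟩
  have hTltP : T < P := lt_of_le_of_ne hTP hTneP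
  obtain ⟨z, hzP, hzN, hzT⟩ :=
    Cfsg.Agent.Lib.Helper18.exists_mem_normalizer_not_mem_of_lt_pGroup hP hTltP
  set T' := Subgroup.normalizer (T : Set G) ⊓ P with hT'
  have hTT' : T ≤ T' := le_inf Subgroup.le_normalizer hTP
  have hT'notin : T' ∉ 𝒯 := by
    intro hmem
    have hle : T' ≤ T := hTmax hmem hTT'
    exact hzT (hle ⟨hzN, hzP⟩)
  have hex : ∃ Z ∈ bsFam X, Z ≤ T' ∧ ¬ Z ≤ Q := by
    by_contra hno
    push Not at hno
    exact hT'notin ⟨le_trans hET hTT', inf_le_right, hno⟩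
  obtain ⟨Z, hZF, hZT', hZQ⟩ := hex
  have hSeq : S = {W | W ∈ bsFam X ∧ W ≤ T} := by
    ext W
    constructor
    · intro hW
      exact ⟨hW.1.1, le_trans (le_sSup hW) hET⟩
    · rintro ⟨hWF, hWT⟩
      exact ⟨⟨hWF, le_trans hWT hTP⟩, ⟨hWF, hTprop W hWF hWT⟩⟩
  refine ⟨Z, ⟨hZF, le_trans hZT' inf_le_right⟩, fun h => hZQ h.2, ?_⟩
  have hconj : ∀ g ∈ Subgroup.normalizer (T : Set G), bsCj g E ≤ E := by
    intro g hg
    rw [bsCj_le_iff]
    apply sSup_le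
    intro W hW
    rw [← bsCj_le_iff]
    apply le_sSup
    rw [hSeq] at hW ⊢
    refine ⟨bsFam_conj hW.1 g, ?_⟩
    calc bsCj g W ≤ bsCj g T := bsCj_mono g hW.2
      _ = T := bsCj_le_of_mem_normalizer hg
  intro g hgZ
  have hgN : g ∈ Subgroup.normalizer (T : Set G) := (hZT' hgZ).1
  have hgN' : g⁻¹ ∈ Subgroup.normalizer (T : Set G) := Subgroup.inv_mem _ hgN
  rw [Subgroup.mem_normalizer_iff]
  intro y
  constructor
  · intro hy
    have : g * y * g⁻¹ ∈ bsCj g E := by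
      rw [mem_bsCj]
      have : g⁻¹ * (g * y * g⁻¹) * g = y := by group
      rw [this]; exact hy
    exact hconj g hgN this
  · intro hy
    have : y ∈ bsCj g⁻¹ E := by
      rw [mem_bsCj, inv_inv]; exact hy
    exact hconj g⁻¹ hgN' this


theorem bsSigma_conj (X : Subgroup G) (P : Subgroup G) (g : G) :
    bsSigma X (bsCj g P) = (bsCj g) '' (bsSigma X P) := by
  ext Y
  constructor
  · rintro ⟨hYF, hYP⟩
    refine ⟨bsCj g⁻¹ Y, ⟨bsFam_conj hYF g⁻¹, ?_⟩, ?_⟩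
    · rw [bsCj_le_iff, inv_inv]; exact hYP
    · rw [← bsCj_mul, mul_inv_cancel, bsCj_one]
  · rintro ⟨W, ⟨hWF, hWP⟩, rfl⟩
    exact ⟨bsFam_conj hWF g, bsCj_mono g hWP⟩

theorem bs_sylow_cj {p : ℕ} [Fact p.Prime] [Finite G] (P : Sylow p G) (g : G) :
    ((g • P : Sylow p G) : Subgroup G) = bsCj g (P : Subgroup G) := by
  ext y
  rw [mem_bsCj, Sylow.coe_subgroup_smul, Subgroup.mem_pointwise_smul_iff_inv_smul_mem]
  simp only [MulAut.smul_def, MulAut.conj_inv_apply]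

theorem bs_sigma_eq [Finite G] {p : ℕ} [Fact p.Prime] (X : Subgroup G)
    (h : ∀ g : G, IsPGroup p ↥(X ⊔ X.map (MulAut.conj g).toMonoidHom)) :
    ∀ P Q : Sylow p G, bsSigma X (P : Subgroup G) = bsSigma X (Q : Subgroup G) := by
  classical
  by_contra hcon
  push Not at hcon
  haveI : Fintype (Sylow p G × Sylow p G) := Fintype.ofFinite _
  set bad := Finset.univ.filter (fun pq : Sylow p G × Sylow p G =>
    bsSigma X (pq.1 : Subgroup G) ≠ bsSigma X (pq.2 : Subgroup G)) with hbad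
  have hbadne : bad.Nonempty := by
    obtain ⟨P, Q, hPQ⟩ := hcon
    exact ⟨(P, Q), by rw [hbad, Finset.mem_filter]; exact ⟨Finset.mem_univ _, hPQ⟩⟩
  obtain ⟨⟨P, Q⟩, hPQbad, hmax⟩ := Finset.exists_max_image bad
    (fun pq => (bsSigma X (pq.1 : Subgroup G) ∩ bsSigma X (pq.2 : Subgroup G)).ncard) hbadne
  have hPQ : bsSigma X (P : Subgroup G) ≠ bsSigma X (Q : Subgroup G) :=
    (Finset.mem_filter.mp hPQbad).2
  have hcard : (bsSigma X (P : Subgroup G)).ncard = (bsSigma X (Q : Subgroup G)).ncard := by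
    obtain ⟨g, hg⟩ := MulAction.exists_smul_eq G P Q
    rw [← hg, bs_sylow_cj, bsSigma_conj, Set.ncard_image_of_injective _ (bsCj_injective g)]
  have hexP : ∃ Y₀ ∈ bsSigma X (P : Subgroup G), Y₀ ∉ bsSigma X (Q : Subgroup G) := by
    by_contra hno
    push Not at hno
    apply hPQ
    exact Set.eq_of_subset_of_ncard_le hno hcard.ge (Set.toFinite _)
  have hexQ : ∃ Y₀ ∈ bsSigma X (Q : Subgroup G), Y₀ ∉ bsSigma X (P : Subgroup G) := by
    by_contra hno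
    push Not at hno
    apply hPQ
    exact (Set.eq_of_subset_of_ncard_le hno hcard.le (Set.toFinite _)).symm
  obtain ⟨Y₀, hY₀, hY₀'⟩ := hexP
  obtain ⟨Y₁, hY₁, hY₁'⟩ := hexQ
  obtain ⟨Y, hYP, hYQ, hYN⟩ := bs_key X (P : Subgroup G) (Q : Subgroup G) P.isPGroup' Y₀ hY₀ hY₀'
  obtain ⟨Y', hY'Q, hY'P, hY'N⟩ := bs_key X (Q : Subgroup G) (P : Subgroup G) Q.isPGroup' Y₁ hY₁ hY₁'
  rw [Set.inter_comm] at hY'N
  set S := bsSigma X (P : Subgroup G) ∩ bsSigma X (Q : Subgroup G) with hS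
  set E := sSup S with hE
  have hEP : E ≤ P := sSup_le (fun W hW => hW.1.2)
  have hEpg : IsPGroup p E := P.isPGroup'.to_le hEP
  have hYY' : IsPGroup p ↥(Y ⊔ Y') := bsFam_pair X h hYP.1 hY'Q.1
  have hU : IsPGroup p ↥((Y ⊔ Y') ⊔ E) :=
    IsPGroup.to_sup_of_normal_right' hYY' hEpg (sup_le hYN hY'N)
  obtain ⟨R, hR⟩ := hU.exists_le_sylow
  have hER : E ≤ R := le_trans le_sup_right hR
  have hYR : Y ≤ R := le_trans (le_trans le_sup_left le_sup_left) hR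
  have hY'R : Y' ≤ R := le_trans (le_trans le_sup_right le_sup_left) hR
  have hPR : bsSigma X (P : Subgroup G) = bsSigma X (R : Subgroup G) := by
    by_contra hne
    have hmem : (P, R) ∈ bad := by
      rw [hbad, Finset.mem_filter]; exact ⟨Finset.mem_univ _, hne⟩
    have hle := hmax (P, R) hmem
    have hlt : S.ncard < (bsSigma X (P : Subgroup G) ∩ bsSigma X (R : Subgroup G)).ncard := by
      apply Set.ncard_lt_ncard _ (Set.toFinite _)
      constructor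
      · intro W hW
        exact ⟨hW.1, ⟨hW.1.1, le_trans (le_sSup hW) hER⟩⟩
      · intro hsub
        have : Y ∈ S := hsub ⟨hYP, ⟨hYP.1, hYR⟩⟩
        exact hYQ this.2
    exact absurd hle (not_le.mpr hlt)
  have hQR : bsSigma X (Q : Subgroup G) = bsSigma X (R : Subgroup G) := by
    by_contra hne
    have hmem : (Q, R) ∈ bad := by
      rw [hbad, Finset.mem_filter]; exact ⟨Finset.mem_univ _, hne⟩
    have hne' : bsSigma X (R : Subgroup G) ≠ bsSigma X (Q : Subgroup G) := fun h => hne h.symm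
    have hmem' : (R, Q) ∈ bad := by
      rw [hbad, Finset.mem_filter]; exact ⟨Finset.mem_univ _, hne'⟩
    have hle := hmax (R, Q) hmem'
    have hlt : S.ncard < (bsSigma X (R : Subgroup G) ∩ bsSigma X (Q : Subgroup G)).ncard := by
      apply Set.ncard_lt_ncard _ (Set.toFinite _)
      constructor
      · intro W hW
        exact ⟨⟨hW.1.1, le_trans (le_sSup hW) hER⟩, hW.2⟩
      · intro hsub
        have : Y' ∈ S := hsub ⟨⟨hY'Q.1, hY'R⟩, hY'Q⟩
        exact hY'P this.1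
    exact absurd hle (not_le.mpr hlt)
  exact hPQ (hPR.trans hQR.symm)

theorem baer_suzuki [Finite G] {p : ℕ} [Fact p.Prime] (X : Subgroup G) (hX : IsPGroup p X)
    (h : ∀ g : G, IsPGroup p ↥(X ⊔ X.map (MulAut.conj g).toMonoidHom)) :
    ∃ N : Subgroup G, N.Normal ∧ IsPGroup p N ∧ X ≤ N := by
  obtain ⟨P₀, hP₀⟩ := hX.exists_le_sylow
  refine ⟨(P₀ : Subgroup G).normalCore, Subgroup.normalCore_normal _,
    P₀.isPGroup'.to_le (Subgroup.normalCore_le _), ?_⟩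
  intro x hx
  show ∀ b : G, b * x * b⁻¹ ∈ (P₀ : Subgroup G)
  intro b
  have hmem : b * x * b⁻¹ ∈ bsCj b X := by
    rw [mem_bsCj]
    have : b⁻¹ * (b * x * b⁻¹) * b = x := by group
    rw [this]; exact hx
  obtain ⟨Q, hQ⟩ := (bsCj_isPGroup b hX).exists_le_sylow
  have h1 : bsCj b X ∈ bsSigma X (Q : Subgroup G) := ⟨⟨b, rfl⟩, hQ⟩
  rw [bs_sigma_eq X h Q P₀] at h1
  exact h1.2 hmem

end Cfsg.Agent.Lib.Helper24
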