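import Mathlib
import Cfsg.Agent.Lib.Helper24.Alperin

set_option autoImplicit false
set_option linter.style.haveILetI false

namespace Cfsg.Agent.Lib.Helper24


section CyclicMaxNT

theorem cm_lte {p : ℕ} [Fact p.Prime] (hp2 : p ≠ 2) (k m : ℕ) (hk : 1 ≤ k) (hm : 1 ≤ m)
    (h : p ^ m ∣ k ^ p - 1) : p ∣ k - 1 ∧ p ^ m ∣ p * (k - 1) := by
  have hp := (Fact.out : p.Prime)
  have hodd : Odd p := hp.odd_of_ne_two hp2
  have hpk : p ∣ k ^ p - 1 := dvd_trans (dvd_pow_self p (by omega)) h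
  have hk1 : (k : ZMod p) = 1 := by
    have h1 : ((k ^ p - 1 : ℕ) : ZMod p) = 0 := (ZMod.natCast_eq_zero_iff _ _).mpr hpk
    have hge : 1 ≤ k ^ p := Nat.one_le_pow _ _ hk
    rw [Nat.cast_sub hge, Nat.cast_pow, ZMod.pow_card, Nat.cast_one, sub_eq_zero] at h1
    exact h1
  have hpk1 : p ∣ k - 1 := by
    rw [← ZMod.natCast_eq_zero_iff, Nat.cast_sub hk, hk1, Nat.cast_one, sub_self]
  refine ⟨hpk1, ?_⟩
  rcases Nat.eq_or_lt_of_le hk with hk' | hk'
  · rw [← hk']; simp
  · have hnk : ¬ p ∣ k := by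
      intro hd
      have : (k : ZMod p) = 0 := (ZMod.natCast_eq_zero_iff _ _).mpr hd
      rw [hk1] at this
      exact one_ne_zero this
    have hv := padicValNat.pow_sub_pow hodd hk' hpk1 hnk (n := p) hp.ne_zero
    rw [one_pow, padicValNat_self] at hv
    have hne : k ^ p - 1 ≠ 0 := by
      have : 1 < k ^ p := Nat.one_lt_pow hp.ne_zero hk'
      omega
    have h1 : m ≤ padicValNat p (k ^ p - 1) := (padicValNat_dvd_iff_le hne).mp h
    rw [hv] at h1
    have hne2 : k - 1 ≠ 0 := by omega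
    have h2 : p ^ (m - 1) ∣ k - 1 := (padicValNat_dvd_iff_le hne2).mpr (by omega)
    obtain ⟨j, hj⟩ := h2
    refine ⟨j, ?_⟩
    rw [hj]
    obtain ⟨m', rfl⟩ : ∃ m', m = m' + 1 := ⟨m - 1, by omega⟩
    rw [Nat.add_sub_cancel, pow_succ]
    ring

end CyclicMaxNT



section CyclicMaxComm

open scoped commutatorElement

variable {R : Type*} [Group R]

def cmT (K : Subgroup R) (hK : K ≤ Subgroup.center R) (s : R) : Subgroup R where
  carrier := {g | ⁅g, s⁆ ∈ K}
  one_mem' := by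
    show ⁅(1 : R), s⁆ ∈ K
    rw [commutatorElement_one_left]
    exact K.one_mem
  mul_mem' := by
    intro a b ha hb
    show ⁅a * b, s⁆ ∈ K
    have ha' : ⁅a, s⁆ ∈ K := ha
    have hb' : ⁅b, s⁆ ∈ K := hb
    have hbc := Subgroup.mem_center_iff.mp (hK hb')
    have e : ⁅a * b, s⁆ = a * ⁅b, s⁆ * a⁻¹ * ⁅a, s⁆ := by
      rw [commutatorElement_def, commutatorElement_def, commutatorElement_def]; group
    rw [e, hbc a, mul_inv_cancel_right]
    exact K.mul_mem hb' ha'
  inv_mem' := by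
    intro a ha
    show ⁅a⁻¹, s⁆ ∈ K
    have ha' : ⁅a, s⁆ ∈ K := ha
    have hac := Subgroup.mem_center_iff.mp (hK ha')
    have e : ⁅a⁻¹, s⁆ = a⁻¹ * ⁅a, s⁆⁻¹ * a := by
      rw [commutatorElement_def, commutatorElement_def]; group
    have hinv : ⁅a, s⁆⁻¹ ∈ K := K.inv_mem ha'
    have hic := Subgroup.mem_center_iff.mp (hK hinv)
    rw [e, hic a⁻¹, mul_assoc, inv_mul_cancel, mul_one]
    exact hinv

theorem mem_cmT (K : Subgroup R) (hK : K ≤ Subgroup.center R) (s g : R) :
    g ∈ cmT K hK s ↔ ⁅g, s⁆ ∈ K := Iff.rfl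

theorem cm_comm_symm (K : Subgroup R) {g s : R} (h : ⁅g, s⁆ ∈ K) : ⁅s, g⁆ ∈ K := by
  rw [← commutatorElement_inv]
  exact K.inv_mem h

theorem cm_all_comm (K : Subgroup R) (hK : K ≤ Subgroup.center R) (C : Subgroup R) (y : R)
    (htop : C ⊔ Subgroup.zpowers y = ⊤)
    (hCC : ∀ u ∈ C, ∀ w ∈ C, ⁅u, w⁆ ∈ K) (hyC : ∀ u ∈ C, ⁅y, u⁆ ∈ K) :
    ∀ g s : R, ⁅g, s⁆ ∈ K := by
  have hyy : ⁅y, y⁆ ∈ K := by rw [commutatorElement_self]; exact K.one_mem
  have h1 : ∀ u ∈ C, ∀ g : R, ⁅g, u⁆ ∈ K := by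
    intro u hu g
    have : (⊤ : Subgroup R) ≤ cmT K hK u := by
      rw [← htop]
      apply sup_le
      · intro w hw
        exact hCC w hw u hu
      · rw [Subgroup.zpowers_le]
        exact hyC u hu
    exact this (Subgroup.mem_top g)
  have h2 : ∀ g : R, ⁅g, y⁆ ∈ K := by
    intro g
    have : (⊤ : Subgroup R) ≤ cmT K hK y := by
      rw [← htop]
      apply sup_le
      · intro w hw
        exact cm_comm_symm K (hyC w hw)
      · rw [Subgroup.zpowers_le]
        exact hyy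
    exact this (Subgroup.mem_top g)
  intro g s
  apply cm_comm_symm
  have : (⊤ : Subgroup R) ≤ cmT K hK g := by
    rw [← htop]
    apply sup_le
    · intro w hw
      exact cm_comm_symm K (h1 w hw g)
    · rw [Subgroup.zpowers_le]
      exact cm_comm_symm K (h2 g)
  exact this (Subgroup.mem_top s)

end CyclicMaxComm



section CyclicMaxMain

open scoped commutatorElement

variable {R : Type*} [Group R]

theorem cm_conj_pow_iter (y c : R) (k : ℕ) (h : y * c * y⁻¹ = c ^ k) (j : ℕ) :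
    y ^ j * c * (y ^ j)⁻¹ = c ^ (k ^ j) := by
  induction j with
  | zero => simp
  | succ j ih =>
    have e : y ^ (j + 1) * c * (y ^ (j + 1))⁻¹ = y * (y ^ j * c * (y ^ j)⁻¹) * y⁻¹ := by
      rw [pow_succ']; group
    rw [e, ih, ← conj_pow, h, ← pow_mul, pow_succ, mul_comm]

theorem cm_setup [Finite R] {p : ℕ} [Fact p.Prime] (hR : IsPGroup p R) (hnc : ¬ IsCyclic R)
    (C : Subgroup R) (hC : IsCyclic C) (hCi : C.index = p) :
    ∃ (c y : R) (m : ℕ), C = Subgroup.zpowers c ∧ orderOf c = p ^ m ∧ 1 ≤ m ∧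
      Nat.card R = p ^ (m + 1) ∧ y ∉ C ∧ C ⊔ Subgroup.zpowers y = ⊤ ∧ C.Normal := by
  have hp := (Fact.out : p.Prime)
  obtain ⟨⟨c, hcC⟩, hgen⟩ := hC.exists_generator
  have hCz : C = Subgroup.zpowers c := by
    apply le_antisymm
    · intro u hu
      obtain ⟨i, hi⟩ := Subgroup.mem_zpowers_iff.mp (hgen ⟨u, hu⟩)
      rw [Subgroup.mem_zpowers_iff]
      refine ⟨i, ?_⟩
      have := congrArg Subtype.val hi
      simpa using this
    · rw [Subgroup.zpowers_le]; exact hcC
  obtain ⟨m, hm⟩ := (hR.to_subgroup C).exists_card_eq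
  have hord : orderOf c = p ^ m := by
    rw [← hm, hCz, Nat.card_zpowers]
  have hcard : Nat.card R = p ^ (m + 1) := by
    rw [← Subgroup.card_mul_index C, hm, hCi, pow_succ]
  have hm1 : 1 ≤ m := by
    by_contra hlt
    have hm0 : m = 0 := by omega
    apply hnc
    rw [hm0, zero_add, pow_one] at hcard
    exact isCyclic_of_prime_card hcard
  have hlt : Nat.card C < Nat.card R := by
    rw [hm, hcard]; exact Nat.pow_lt_pow_right hp.one_lt (Nat.lt_succ_self m)
  obtain ⟨y, hy⟩ : ∃ y : R, y ∉ C := by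
    by_contra hcon
    push Not at hcon
    have : C = ⊤ := eq_top_iff.mpr (fun g _ => hcon g)
    rw [this, Subgroup.card_top] at hlt
    omega
  have htop : C ⊔ Subgroup.zpowers y = ⊤ := by
    rw [← Subgroup.card_eq_iff_eq_top]
    obtain ⟨d, hd⟩ := (hR.to_subgroup (C ⊔ Subgroup.zpowers y)).exists_card_eq
    have hCD : C < C ⊔ Subgroup.zpowers y := by
      refine lt_of_le_of_ne le_sup_left ?_
      intro h
      apply hy
      rw [h]
      exact (le_sup_right : Subgroup.zpowers y ≤ _) (Subgroup.mem_zpowers y)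
    have h1 : Nat.card C < Nat.card ↥(C ⊔ Subgroup.zpowers y) := by
      rcases lt_or_eq_of_le (Subgroup.card_le_of_le hCD.le) with h | h
      · exact h
      · exact absurd (Subgroup.eq_of_le_of_card_ge hCD.le h.ge) hCD.ne
    rw [hd, hm] at h1
    have h2 := (Nat.pow_lt_pow_iff_right hp.one_lt).mp h1
    have h3 : Nat.card ↥(C ⊔ Subgroup.zpowers y) ≤ Nat.card R := Subgroup.card_le_card_group _
    rw [hd, hcard] at h3 ⊢
    have h4 := (Nat.pow_le_pow_iff_right hp.one_lt).mp h3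
    have : d = m + 1 := by omega
    rw [this]
  have hCn : C.Normal := by
    apply Subgroup.normal_of_index_eq_minFac_card
    rw [hCi, hcard]
    exact (Nat.Prime.pow_minFac hp (Nat.succ_ne_zero m)).symm
  exact ⟨c, y, m, hCz, hord, hm1, hcard, hy, htop, hCn⟩

end CyclicMaxMain


section CyclicMaxMain2

open scoped commutatorElement

variable {R : Type*} [Group R]

theorem cm_comm_central [Finite R] {p : ℕ} [Fact p.Prime] (hp2 : p ≠ 2) (c y : R) (m : ℕ)
    (C : Subgroup R) (hCz : C = Subgroup.zpowers c) (hord : orderOf c = p ^ m) (hm1 : 1 ≤ m)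
    (hCi : C.index = p) (htop : C ⊔ Subgroup.zpowers y = ⊤) (hCn : C.Normal) :
    ∃ K : Subgroup R, K ≤ Subgroup.center R ∧ (∀ z ∈ K, z ^ p = 1) ∧ ∀ g s : R, ⁅g, s⁆ ∈ K := by
  have hp := (Fact.out : p.Prime)
  have hcC : c ∈ C := by rw [hCz]; exact Subgroup.mem_zpowers c
  have hNpos : 0 < orderOf c := by rw [hord]; exact pow_pos hp.pos m
  have hc1 : c ≠ 1 := by
    intro h
    rw [h, orderOf_one] at hord
    have : 1 < p ^ m := Nat.one_lt_pow (by omega) hp.one_lt
    omega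
  obtain ⟨k, hk⟩ : ∃ k : ℕ, c ^ k = y * c * y⁻¹ := by
    have hmem : y * c * y⁻¹ ∈ C := hCn.conj_mem c hcC y
    rw [hCz] at hmem
    obtain ⟨i, hi⟩ := Subgroup.mem_zpowers_iff.mp hmem
    refine ⟨(i % (orderOf c : ℤ)).toNat, ?_⟩
    have hnn : 0 ≤ i % (orderOf c : ℤ) := Int.emod_nonneg _ (by exact_mod_cast hNpos.ne')
    rw [← zpow_natCast, Int.toNat_of_nonneg hnn, zpow_mod_orderOf, hi]
  have hk1 : 1 ≤ k := by
    by_contra hlt
    have hk0 : k = 0 := by omega
    rw [hk0, pow_zero] at hk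
    apply hc1
    have : c = y⁻¹ * (y * c * y⁻¹) * y := by group
    rw [this, ← hk]; group
  have hypC : y ^ p ∈ C := by
    haveI := hCn
    have := Subgroup.pow_index_mem C y
    rwa [hCi] at this
  have hypc : y ^ p * c * (y ^ p)⁻¹ = c := by
    rw [hCz] at hypC
    obtain ⟨i, hi⟩ := Subgroup.mem_zpowers_iff.mp hypC
    rw [← hi]
    have : Commute (c ^ i) c := (Commute.refl c).zpow_left i
    rw [this.eq, mul_inv_cancel_right]
  have hkp : c ^ (k ^ p) = c ^ 1 := by
    rw [pow_one, ← cm_conj_pow_iter y c k hk.symm p, hypc]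
  have hdvd : p ^ m ∣ k ^ p - 1 := by
    have h1 := pow_eq_pow_iff_modEq.mp hkp
    rw [hord] at h1
    exact (Nat.modEq_iff_dvd' (Nat.one_le_pow _ _ hk1)).mp h1.symm
  obtain ⟨hpk, hpm⟩ := cm_lte hp2 k m hk1 hm1 hdvd
  set d := ⁅y, c⁆ with hd
  have hdk : d = c ^ (k - 1) := by
    rw [hd, commutatorElement_def, ← hk]
    have : c ^ k = c ^ (k - 1) * c := by rw [← pow_succ, Nat.sub_add_cancel hk1]
    rw [this, mul_inv_cancel_right]
  set z0 := c ^ (p ^ (m - 1)) with hz0
  have hz0p : z0 ^ p = 1 := by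
    rw [hz0, ← pow_mul, ← pow_succ, Nat.sub_add_cancel hm1, ← hord, pow_orderOf_eq_one]
  have hKp : ∀ z ∈ Subgroup.zpowers z0, z ^ p = 1 := by
    intro z hz
    obtain ⟨i, rfl⟩ := Subgroup.mem_zpowers_iff.mp hz
    rw [← zpow_natCast, ← zpow_mul, mul_comm, zpow_mul, zpow_natCast, hz0p, one_zpow]
  have hmemK : ∀ u ∈ C, u ^ p = 1 → u ∈ Subgroup.zpowers z0 := by
    intro u hu hup
    rw [hCz] at hu
    obtain ⟨i, rfl⟩ := Subgroup.mem_zpowers_iff.mp hu
    rw [← zpow_natCast, ← zpow_mul, ← orderOf_dvd_iff_zpow_eq_one, hord] at hup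
    have h1 : ((p : ℤ) ^ (m - 1)) ∣ i := by
      obtain ⟨m', rfl⟩ : ∃ m', m = m' + 1 := ⟨m - 1, by omega⟩
      rw [Nat.add_sub_cancel]
      push_cast at hup
      rw [pow_succ] at hup
      exact (mul_dvd_mul_iff_right (by exact_mod_cast hp.ne_zero)).mp hup
    obtain ⟨j, hj⟩ := h1
    rw [Subgroup.mem_zpowers_iff]
    refine ⟨j, ?_⟩
    rw [hz0, ← zpow_natCast, ← zpow_mul, hj]
    push_cast
    rfl
  have hdC : d ∈ C := by
    rw [hdk]; exact Subgroup.pow_mem _ hcC _
  have hdp : d ^ p = 1 := by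
    rw [hdk, ← pow_mul, mul_comm]
    apply orderOf_dvd_iff_pow_eq_one.mp
    rw [hord]; exact hpm
  have hdK : d ∈ Subgroup.zpowers z0 := hmemK d hdC hdp
  have hz0c : z0 ∈ Subgroup.center R := by
    have hle : (⊤ : Subgroup R) ≤ Subgroup.centralizer ({z0} : Set R) := by
      rw [← htop]
      apply sup_le
      · intro u hu
        rw [hCz] at hu
        obtain ⟨i, rfl⟩ := Subgroup.mem_zpowers_iff.mp hu
        rw [Subgroup.mem_centralizer_iff]
        intro w hw
        rw [Set.mem_singleton_iff] at hw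
        rw [hw, hz0]
        exact (((Commute.refl c).pow_left _).zpow_right i).eq
      · rw [Subgroup.zpowers_le, Subgroup.mem_centralizer_iff]
        intro w hw
        rw [Set.mem_singleton_iff] at hw
        rw [hw]
        have h1 : y * z0 * y⁻¹ = z0 ^ k := by
          rw [hz0, ← conj_pow, ← hk, ← pow_mul, ← pow_mul, mul_comm]
        have h2 : z0 ^ k = z0 := by
          obtain ⟨j, hj⟩ := hpk
          have : k = 1 + p * j := by omega
          rw [this, pow_add, pow_one, pow_mul, hz0p, one_pow, mul_one]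
        rw [h2] at h1
        calc z0 * y = (y * z0 * y⁻¹) * y := by rw [h1]
          _ = y * z0 := by group
    rw [Subgroup.mem_center_iff]
    intro g
    have := hle (Subgroup.mem_top g)
    rw [Subgroup.mem_centralizer_iff] at this
    exact (this z0 rfl).symm
  have hK : Subgroup.zpowers z0 ≤ Subgroup.center R := by
    rw [Subgroup.zpowers_le]; exact hz0c
  refine ⟨Subgroup.zpowers z0, hK, hKp, ?_⟩
  apply cm_all_comm _ hK C y htop
  · intro u hu w hw
    rw [hCz] at hu hw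
    obtain ⟨i, rfl⟩ := Subgroup.mem_zpowers_iff.mp hu
    obtain ⟨j, rfl⟩ := Subgroup.mem_zpowers_iff.mp hw
    have : Commute (c ^ i) (c ^ j) := ((Commute.refl c).zpow_left i).zpow_right j
    rw [commutatorElement_eq_one_iff_commute.mpr this]
    exact Subgroup.one_mem _
  · intro u hu
    rw [hCz] at hu
    obtain ⟨i, rfl⟩ := Subgroup.mem_zpowers_iff.mp hu
    have : ⁅y, c ^ i⁆ = d ^ i := by
      rw [commutatorElement_def, ← conj_zpow, ← hk, hdk, ← zpow_natCast, ← zpow_natCast,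
        ← zpow_mul, ← zpow_mul, ← zpow_neg, ← zpow_add]
      congr 1
      push_cast [Nat.cast_sub hk1]
      ring
    rw [this]
    exact Subgroup.zpow_mem _ hdK i

end CyclicMaxMain2

section CyclicMaxMain3

open scoped commutatorElement

variable {R : Type*} [Group R]

def cmPow (p : ℕ) (h : ∀ x y : R, (x * y) ^ p = x ^ p * y ^ p) : R →* R where
  toFun x := x ^ p
  map_one' := one_pow p
  map_mul' := h

theorem cm_main [Finite R] {p : ℕ} [Fact p.Prime] (hp2 : p ≠ 2) (hR : IsPGroup p R)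
    (hnc : ¬ IsCyclic R) (C : Subgroup R) (hC : IsCyclic C) (hCi : C.index = p) :
    ∃ S : Subgroup R, (S : Set R) = {x : R | x ^ p = 1} ∧ Nat.card S = p ^ 2 := by
  have hp := (Fact.out : p.Prime)
  obtain ⟨c, y, m, hCz, hord, hm1, hcard, hy, htop, hCn⟩ := cm_setup hR hnc C hC hCi
  obtain ⟨K, hK, hKp, hcomm⟩ := cm_comm_central hp2 c y m C hCz hord hm1 hCi htop hCn
  have h2p : 2 < p := lt_of_le_of_ne hp.two_le (fun h => hp2 h.symm)
  have hhom : ∀ a b : R, (a * b) ^ p = a ^ p * b ^ p := by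
    intro a b
    have hc := hcomm b a
    have hcz := Subgroup.mem_center_iff.mp (hK hc)
    rw [alp_c2_pow a b (hcz a).symm (hcz b).symm p,
      c3_pow_of_dvd (hKp _ hc) (c3_dvd_choose_two hp h2p), mul_one]
  set π := cmPow p hhom with hπ
  have hπa : ∀ x : R, π x = x ^ p := fun x => rfl
  have hcC : c ∈ C := by rw [hCz]; exact Subgroup.mem_zpowers c
  have hrC : π.range ≤ C := by
    rintro _ ⟨x, rfl⟩
    rw [hπa]
    haveI := hCn
    have := Subgroup.pow_index_mem C x
    rwa [hCi] at this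
  have hcpr : Subgroup.zpowers (c ^ p) ≤ π.range := by
    rw [Subgroup.zpowers_le]
    exact ⟨c, rfl⟩
  have hcard_cp : Nat.card (Subgroup.zpowers (c ^ p)) = p ^ (m - 1) := by
    rw [Nat.card_zpowers, orderOf_pow_of_dvd hp.ne_zero (by rw [hord]; exact dvd_pow_self p (by omega)),
      hord]
    obtain ⟨m', rfl⟩ : ∃ m', m = m' + 1 := ⟨m - 1, by omega⟩
    rw [Nat.add_sub_cancel, pow_succ, Nat.mul_div_cancel _ hp.pos]
  have hCcard : Nat.card C = p ^ m := by rw [hCz, Nat.card_zpowers, hord]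
  obtain ⟨r, hr⟩ := (hR.to_subgroup π.range).exists_card_eq
  have hr1 : m - 1 ≤ r := by
    have := Subgroup.card_le_of_le hcpr
    rw [hcard_cp, hr] at this
    exact (Nat.pow_le_pow_iff_right hp.one_lt).mp this
  have hr2 : r ≤ m := by
    have := Subgroup.card_le_of_le hrC
    rw [hCcard, hr] at this
    exact (Nat.pow_le_pow_iff_right hp.one_lt).mp this
  have hrm : r ≠ m := by
    intro hrm
    apply hnc
    have heq : π.range = C := Subgroup.eq_of_le_of_card_ge hrC (by rw [hCcard, hr, hrm])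
    have hcr : c ∈ π.range := by rw [heq]; exact hcC
    obtain ⟨x, hx⟩ := hcr
    rw [hπa] at hx
    obtain ⟨e, he⟩ := IsPGroup.iff_orderOf.mp hR x
    have he1 : 1 ≤ e := by
      by_contra hlt
      have he0 : e = 0 := by omega
      rw [he0, pow_zero, orderOf_eq_one_iff] at he
      rw [he, one_pow] at hx
      rw [← hx, orderOf_one] at hord
      have : 1 < p ^ m := Nat.one_lt_pow (by omega) hp.one_lt
      omega
    have h1 : orderOf (x ^ p) = orderOf x / p :=
      orderOf_pow_of_dvd hp.ne_zero (by rw [he]; exact dvd_pow_self p (by omega))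
    rw [hx, hord, he] at h1
    obtain ⟨e', rfl⟩ : ∃ e', e = e' + 1 := ⟨e - 1, by omega⟩
    rw [pow_succ, Nat.mul_div_cancel _ hp.pos] at h1
    have h2 := Nat.pow_right_injective hp.two_le h1
    apply isCyclic_of_orderOf_eq_card x
    rw [he, hcard, h2]
  have hrr : r = m - 1 := by omega
  have hker : Nat.card π.ker = p ^ 2 := by
    have h1 := Subgroup.card_mul_index π.ker
    rw [Subgroup.index_ker, hr, hrr, hcard] at h1
    obtain ⟨m', rfl⟩ : ∃ m', m = m' + 1 := ⟨m - 1, by omega⟩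
    rw [Nat.add_sub_cancel] at h1
    have h2 : p ^ (m' + 1 + 1) = p ^ 2 * p ^ m' := by rw [← pow_add]; congr 1; omega
    rw [h2] at h1
    exact Nat.eq_of_mul_eq_mul_right (pow_pos hp.pos m') h1
  refine ⟨π.ker, ?_, hker⟩
  ext x
  simp only [SetLike.mem_coe, MonoidHom.mem_ker, Set.mem_ofPred_eq]
  rw [hπa]

end CyclicMaxMain3

section CyclicMaxFinal

variable {R : Type*} [Group R]

theorem cm_final [Finite R] {p : ℕ} [Fact p.Prime] (hp2 : p ≠ 2) (hR : IsPGroup p R)
    (hnc : ¬ IsCyclic R) (C : Subgroup R) (hC : IsCyclic C) (hCi : C.index = p) :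
    (IsMulCommutative (Subgroup.closure {x : R | x ^ p = 1}) ∧
      ∀ a ∈ Subgroup.closure {x : R | x ^ p = 1}, a ^ p = 1) ∧
    Nat.card (Subgroup.closure {x : R | x ^ p = 1}) = p ^ 2 := by
  obtain ⟨S, hS, hcard⟩ := cm_main hp2 hR hnc C hC hCi
  have hcl : Subgroup.closure {x : R | x ^ p = 1} = S := by
    rw [← hS]
    exact Subgroup.closure_eq S
  rw [hcl]
  refine ⟨⟨IsPGroup.isMulCommutative_of_card_eq_prime_sq hcard, ?_⟩, hcard⟩
  intro a ha
  have : a ∈ (S : Set R) := ha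
  rw [hS] at this
  exact this

end CyclicMaxFinal

end Cfsg.Agent.Lib.Helper24
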