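import Mathlib
import Cfsg.Prelude.Def_Transfer
import Cfsg.Agent.Lib.Helper24.CyclicMax
import Cfsg.Agent.Lib.Helper24.AutBound
import Cfsg.Agent.Lib.Helper1.NonCyclic
import Cfsg.Agent.Lib.Helper18.PPrimeCore

set_option autoImplicit false
set_option linter.style.haveILetI false

namespace Cfsg.Agent.Lib.Helper24

section NormalRank

open scoped commutatorElement

variable {R : Type*} [Group R]

theorem nr_card_sup [Finite R] {p : ℕ} [Fact p.Prime] (A : Subgroup R) [A.Normal] (x : R)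
    (hx : x ∉ A) (hxp : x ^ p ∈ A) :
    Nat.card (A ⊔ Subgroup.zpowers x : Subgroup R) = p * Nat.card A := by
  have h1 : Nat.card A * A.relIndex (A ⊔ Subgroup.zpowers x) =
      Nat.card (A ⊔ Subgroup.zpowers x : Subgroup R) :=
    Cfsg.Agent.Lib.Helper18.card_mul_relIndex_of_le_h18 le_sup_left
  rw [← h1, mul_comm]
  congr 1
  have h2 : A.relIndex (A ⊔ Subgroup.zpowers x) =
      Nat.card ((A ⊔ Subgroup.zpowers x).map (QuotientGroup.mk' A)) := by
    rw [← Subgroup.relIndex_ker, QuotientGroup.ker_mk']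
  rw [h2, Subgroup.map_sup, MonoidHom.map_zpowers, QuotientGroup.map_mk'_self, bot_sup_eq,
    Nat.card_zpowers]
  have h3 : (QuotientGroup.mk' A x) ^ p = 1 := by
    rw [← map_pow]
    exact (QuotientGroup.eq_one_iff _).mpr hxp
  have h4 : orderOf (QuotientGroup.mk' A x) ∣ p := orderOf_dvd_of_pow_eq_one h3
  rcases (Nat.dvd_prime (Fact.out : p.Prime)).mp h4 with h5 | h5
  · exfalso
    rw [orderOf_eq_one_iff] at h5
    exact hx ((QuotientGroup.eq_one_iff x).mp h5)
  · exact h5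

theorem nr_sup_normal (A : Subgroup R) [A.Normal] (x : R)
    (hall : ∀ g : R, x⁻¹ * g * x * g⁻¹ ∈ A) : (A ⊔ Subgroup.zpowers x).Normal := by
  constructor
  intro b hb g
  have hxB : x ∈ A ⊔ Subgroup.zpowers x :=
    (le_sup_right : Subgroup.zpowers x ≤ _) (Subgroup.mem_zpowers x)
  have hmap : (A ⊔ Subgroup.zpowers x).map (MulAut.conj g).toMonoidHom ≤
      A ⊔ Subgroup.zpowers x := by
    rw [Subgroup.map_sup]
    apply sup_le
    · rintro _ ⟨a, ha, rfl⟩
      exact (le_sup_left : A ≤ _) (‹A.Normal›.conj_mem a ha g)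
    · rw [MonoidHom.map_zpowers, Subgroup.zpowers_le]
      have e : (MulAut.conj g).toMonoidHom x = x * (x⁻¹ * g * x * g⁻¹) := by
        simp [MulAut.conj_apply]; group
      rw [e]
      exact Subgroup.mul_mem _ hxB ((le_sup_left : A ≤ _) (hall g))
  exact hmap ⟨b, hb, by simp [MulAut.conj_apply]⟩

theorem nr_exists_over [Finite R] {p : ℕ} [Fact p.Prime] (hR : IsPGroup p R) (A : Subgroup R)
    [A.Normal] (hA : A ≠ ⊤) :
    ∃ x : R, x ∉ A ∧ x ^ p ∈ A ∧ ∀ g : R, x⁻¹ * g * x * g⁻¹ ∈ A := by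
  classical
  haveI : Group.IsNilpotent R := hR.isNilpotent
  obtain ⟨N, hN⟩ := Subgroup.nilpotent_iff_lowerCentralSeries.mp
    (inferInstance : Group.IsNilpotent R)
  have hex : ∃ j, (⊤ : Subgroup R).lowerCentralSeries j ≤ A := ⟨N, by rw [hN]; exact bot_le⟩
  have hspec := Nat.find_spec hex
  have hmin := fun j (hj : j < Nat.find hex) => Nat.find_min hex hj
  have hpos : Nat.find hex ≠ 0 := by
    intro h0
    rw [h0, Subgroup.lowerCentralSeries_zero] at hspec
    exact hA (top_le_iff.mp hspec)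
  obtain ⟨j, hj⟩ : ∃ j, Nat.find hex = j + 1 := ⟨Nat.find hex - 1, by omega⟩
  rw [hj] at hspec
  have hnot := hmin j (by omega)
  obtain ⟨x0, hx0L, hx0A⟩ := SetLike.not_le_iff_exists.mp hnot
  have hcomm : ∀ u ∈ (⊤ : Subgroup R).lowerCentralSeries j, ∀ g : R, u⁻¹ * g * u * g⁻¹ ∈ A := by
    intro u hu g
    apply hspec
    rw [Subgroup.lowerCentralSeries_succ]
    have : u⁻¹ * g * u * g⁻¹ = ⁅u⁻¹, g⁆ := by rw [commutatorElement_def, inv_inv]
    rw [this]
    exact Subgroup.commutator_mem_commutator (Subgroup.inv_mem _ hu) (Subgroup.mem_top g)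
  have hexi : ∃ i, x0 ^ p ^ i ∈ A := by
    obtain ⟨e, he⟩ := hR x0
    exact ⟨e, by rw [he]; exact A.one_mem⟩
  have hspec2 := Nat.find_spec hexi
  have hmin2 := fun i (hi : i < Nat.find hexi) => Nat.find_min hexi hi
  have hpos2 : Nat.find hexi ≠ 0 := by
    intro h0
    rw [h0, pow_zero, pow_one] at hspec2
    exact hx0A hspec2
  obtain ⟨i, hi⟩ : ∃ i, Nat.find hexi = i + 1 := ⟨Nat.find hexi - 1, by omega⟩
  rw [hi] at hspec2
  refine ⟨x0 ^ p ^ i, hmin2 i (by omega), ?_, ?_⟩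
  · rw [← pow_mul, ← pow_succ]; exact hspec2
  · exact hcomm _ (Subgroup.pow_mem _ hx0L _)

theorem nr_exists_normal_card [Finite R] {p : ℕ} [Fact p.Prime] (hR : IsPGroup p R) (k : ℕ) :
    ∀ (d : ℕ) (A : Subgroup R) [A.Normal], Nat.card A = p ^ (k + d) →
      ∃ B : Subgroup R, B ≤ A ∧ B.Normal ∧ Nat.card B = p ^ k := by
  intro d
  induction d with
  | zero =>
    intro A hAn hA
    exact ⟨A, le_rfl, hAn, hA⟩
  | succ d ih =>
    intro A hAn hA
    obtain ⟨B, hBA, hAB, hBc⟩ := ab_exists_sub hR A (k + d) hA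
    haveI hBn : B.Normal := ab_normal_of_between A B hBA hAB
    obtain ⟨B', hB'B, hB'n, hB'c⟩ := ih B hBc
    exact ⟨B', hB'B.trans hBA, hB'n, hB'c⟩

end NormalRank

section NormalRank2

variable {R : Type*} [Group R]

theorem nr_isMulCommutative_of_isCyclic (B : Subgroup R) (h : IsCyclic B) : IsMulCommutative B := by
  obtain ⟨g, hg⟩ := h.exists_generator
  refine ⟨⟨fun a b => ?_⟩⟩
  obtain ⟨i, rfl⟩ := Subgroup.mem_zpowers_iff.mp (hg a)
  obtain ⟨j, rfl⟩ := Subgroup.mem_zpowers_iff.mp (hg b)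
  exact (((Commute.refl g).zpow_left i).zpow_right j).eq

theorem nr_case_cyclic [Finite R] {p : ℕ} [Fact p.Prime] (hp2 : p ≠ 2) (hR : IsPGroup p R)
    (A : Subgroup R) [A.Normal] (hAc : IsCyclic A)
    (hmax : ∀ M : Subgroup R, M.Normal → IsMulCommutative M → A ≤ M → M = A) (hAtop : A ≠ ⊤) :
    ∃ E : Subgroup R, E.Normal ∧ Cfsg.IsElementaryAbelian p E ∧ Nat.card E = p ^ 2 := by
  have hp := (Fact.out : p.Prime)
  obtain ⟨x, hxA, hxp, hall⟩ := nr_exists_over hR A hAtop
  set B := A ⊔ Subgroup.zpowers x with hB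
  have hAB : A ≤ B := le_sup_left
  have hxB : x ∈ B := (le_sup_right : Subgroup.zpowers x ≤ B) (Subgroup.mem_zpowers x)
  have hBn : B.Normal := nr_sup_normal A x hall
  have hBcard : Nat.card B = p * Nat.card A := nr_card_sup A x hxA hxp
  have hBnc : ¬ IsCyclic B := by
    intro hc
    have := hmax B hBn (nr_isMulCommutative_of_isCyclic B hc) hAB
    rw [this] at hxB
    exact hxA hxB
  have hCc : IsCyclic (A.subgroupOf B) :=
    isCyclic_of_surjective (Subgroup.subgroupOfEquivOfLe hAB).symm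
      (Subgroup.subgroupOfEquivOfLe hAB).symm.surjective
  have hCi : (A.subgroupOf B).index = p := by
    have h1 : Nat.card A * A.relIndex B = Nat.card B :=
      Cfsg.Agent.Lib.Helper18.card_mul_relIndex_of_le_h18 hAB
    rw [hBcard, mul_comm] at h1
    exact Nat.eq_of_mul_eq_mul_right Nat.card_pos h1
  obtain ⟨S, hS, hScard⟩ := cm_main hp2 (hR.to_subgroup B) hBnc (A.subgroupOf B) hCc hCi
  refine ⟨S.map B.subtype, ?_, ⟨?_, ?_⟩, ?_⟩
  · constructor
    rintro _ ⟨s, hs, rfl⟩ g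
    have hsp : s ^ p = 1 := by
      have : s ∈ (S : Set B) := hs
      rw [hS] at this
      exact this
    have hconjB : g * (s : R) * g⁻¹ ∈ B := hBn.conj_mem _ s.2 g
    refine ⟨⟨g * (s : R) * g⁻¹, hconjB⟩, ?_, rfl⟩
    have : (⟨g * (s : R) * g⁻¹, hconjB⟩ : B) ∈ (S : Set B) := by
      rw [hS]
      show (⟨g * (s : R) * g⁻¹, hconjB⟩ : B) ^ p = 1
      apply Subtype.ext
      simp only [Subgroup.coe_pow, Subgroup.coe_one]
      rw [conj_pow]
      have := congrArg Subtype.val hsp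
      simp only [Subgroup.coe_pow, Subgroup.coe_one] at this
      rw [this]
      group
    exact this
  · apply IsPGroup.isMulCommutative_of_card_eq_prime_sq (p := p)
    rw [Subgroup.card_subtype, hScard]
  · rintro _ ⟨s, hs, rfl⟩
    have hsp : s ^ p = 1 := by
      have : s ∈ (S : Set B) := hs
      rw [hS] at this
      exact this
    have := congrArg Subtype.val hsp
    simpa using this
  · rw [Subgroup.card_subtype, hScard]

end NormalRank2

section NormalRank3

variable {R : Type*} [Group R]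

def nrOmega (p : ℕ) (A : Subgroup R) (hA : IsMulCommutative A) : Subgroup R where
  carrier := {u | u ∈ A ∧ u ^ p = 1}
  one_mem' := ⟨A.one_mem, one_pow p⟩
  mul_mem' := by
    rintro a b ⟨ha, hap⟩ ⟨hb, hbp⟩
    refine ⟨A.mul_mem ha hb, ?_⟩
    have hc : Commute a b := by
      have := hA.is_comm.comm ⟨a, ha⟩ ⟨b, hb⟩
      exact congrArg Subtype.val this
    rw [hc.mul_pow, hap, hbp, one_mul]
  inv_mem' := by
    rintro a ⟨ha, hap⟩
    exact ⟨A.inv_mem ha, by rw [inv_pow, hap, inv_one]⟩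

theorem mem_nrOmega (p : ℕ) (A : Subgroup R) (hA : IsMulCommutative A) (u : R) :
    u ∈ nrOmega p A hA ↔ u ∈ A ∧ u ^ p = 1 := Iff.rfl

open scoped IsMulCommutative in
theorem nr_case_noncyclic [Finite R] {p : ℕ} [Fact p.Prime] (hR : IsPGroup p R)
    (A : Subgroup R) [A.Normal] (hA : IsMulCommutative A) (hAnc : ¬ IsCyclic A) :
    ∃ E : Subgroup R, E.Normal ∧ Cfsg.IsElementaryAbelian p E ∧ Nat.card E = p ^ 2 := by
  have hp := (Fact.out : p.Prime)
  obtain ⟨r, hr, x, y, hx1, hxr, hyr, hyx⟩ := Cfsg.Agent.Lib.Helper1.exists_noncyclic_pair hAnc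
  have hrp : r = p := by
    haveI : Fact r.Prime := ⟨hr⟩
    have ho : orderOf x = r := orderOf_eq_prime hxr hx1
    obtain ⟨k, hk⟩ := (hR.to_subgroup A) x
    have hd : r ∣ p ^ k := by rw [← ho]; exact orderOf_dvd_of_pow_eq_one hk
    exact (Nat.prime_dvd_prime_iff_eq hr hp).mp (hr.dvd_of_dvd_pow hd)
  subst hrp
  set Ω := nrOmega r A hA with hΩ
  have hxΩ : (x : R) ∈ Ω := ⟨x.2, by
    have := congrArg Subtype.val hxr
    simpa using this⟩
  have hyΩ : (y : R) ∈ Ω := ⟨y.2, by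
    have := congrArg Subtype.val hyr
    simpa using this⟩
  have hΩn : Ω.Normal := by
    constructor
    rintro u ⟨hu, hup⟩ g
    exact ⟨‹A.Normal›.conj_mem u hu g, by rw [conj_pow, hup]; group⟩
  have hox : orderOf (x : R) = r := by
    rw [Subgroup.orderOf_coe]
    exact orderOf_eq_prime hxr hx1
  have hlt : Subgroup.zpowers (x : R) < Ω := by
    refine lt_of_le_of_ne (by rw [Subgroup.zpowers_le]; exact hxΩ) ?_
    intro h
    apply hyx
    have : (y : R) ∈ Subgroup.zpowers (x : R) := by rw [h]; exact hyΩ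
    obtain ⟨i, hi⟩ := Subgroup.mem_zpowers_iff.mp this
    rw [Subgroup.mem_zpowers_iff]
    exact ⟨i, Subtype.ext (by simpa using hi)⟩
  obtain ⟨e, he⟩ := (hR.to_subgroup Ω).exists_card_eq
  have he2 : 2 ≤ e := by
    have h1 : Nat.card (Subgroup.zpowers (x : R)) < Nat.card Ω := by
      rcases lt_or_eq_of_le (Subgroup.card_le_of_le hlt.le) with h | h
      · exact h
      · exact absurd (Subgroup.eq_of_le_of_card_ge hlt.le h.ge) hlt.ne
    rw [Nat.card_zpowers, hox, he] at h1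
    have : r ^ 1 < r ^ e := by rwa [pow_one]
    have := (Nat.pow_lt_pow_iff_right hp.one_lt).mp this
    omega
  haveI := hΩn
  obtain ⟨E, hEΩ, hEn, hEc⟩ := nr_exists_normal_card hR 2 (e - 2) Ω
    (by rw [he]; congr 1; omega)
  refine ⟨E, hEn, ⟨?_, ?_⟩, hEc⟩
  · exact IsPGroup.isMulCommutative_of_card_eq_prime_sq hEc
  · intro a ha
    exact (hEΩ ha).2

theorem nr_main [Finite R] {p : ℕ} [Fact p.Prime] (hp2 : p ≠ 2) (hR : IsPGroup p R)
    (hnc : ¬ IsCyclic R) :
    ∃ A : Subgroup R, A.Normal ∧ Cfsg.IsElementaryAbelian p A ∧ Nat.card A = p ^ 2 := by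
  have hfin : {A : Subgroup R | A.Normal ∧ IsMulCommutative A}.Finite := Set.toFinite _
  have hne : {A : Subgroup R | A.Normal ∧ IsMulCommutative A}.Nonempty :=
    ⟨⊥, Subgroup.normal_bot, by
      refine ⟨⟨fun a b => ?_⟩⟩
      have ha : a = 1 := Subsingleton.elim _ _
      have hb : b = 1 := Subsingleton.elim _ _
      rw [ha, hb]⟩
  obtain ⟨A, hAmax⟩ := hfin.exists_maximal hne
  obtain ⟨⟨hAn, hAc⟩, hAm⟩ := hAmax
  haveI := hAn
  have hmax : ∀ M : Subgroup R, M.Normal → IsMulCommutative M → A ≤ M → M = A := by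
    intro M hMn hMc hAM
    exact le_antisymm (hAm ⟨hMn, hMc⟩ hAM) hAM
  by_cases hcyc : IsCyclic A
  · have hAtop : A ≠ ⊤ := by
      intro h
      apply hnc
      rw [h] at hcyc
      exact isCyclic_of_surjective Subgroup.topEquiv Subgroup.topEquiv.surjective
    exact nr_case_cyclic hp2 hR A hcyc hmax hAtop
  · exact nr_case_noncyclic hR A hAc hcyc

end NormalRank3

end Cfsg.Agent.Lib.Helper24
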