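import Mathlib

set_option autoImplicit false

namespace Cfsg.Agent.Lib.Helper24

open scoped Pointwise

theorem cs_mem_zpowers_aux {Q : Type*} [Group Q] [Finite Q] [IsCyclic Q] (p : ℕ) (hp : p.Prime)
    (x y : Q) (hx : orderOf x = p) (hy : y ^ p = 1) : y ∈ Subgroup.zpowers x := by
  classical
  haveI : Fintype Q := Fintype.ofFinite Q
  by_contra h
  set S := Finset.univ.filter (fun a : Q => a ^ p = 1) with hS
  have hle : S.card ≤ p := IsCyclic.card_pow_eq_one_le hp.pos
  set T := Finset.image (fun i : ℕ => x ^ i) (Finset.range p) with hT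
  have hTcard : T.card = p := by
    rw [hT, Finset.card_image_of_injOn, Finset.card_range]
    intro i hi j hj hij
    have hi' : i ∈ Set.Iio (orderOf x) := by
      rw [hx]
      simpa using hi
    have hj' : j ∈ Set.Iio (orderOf x) := by
      rw [hx]
      simpa using hj
    exact pow_injOn_Iio_orderOf hi' hj' hij
  have hyT : y ∉ T := by
    intro hy'
    rw [hT, Finset.mem_image] at hy'
    obtain ⟨i, -, hi⟩ := hy'
    apply h
    rw [← hi]
    exact Subgroup.pow_mem _ (Subgroup.mem_zpowers x) i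
  have hsub : insert y T ⊆ S := by
    intro a ha
    rw [Finset.mem_insert] at ha
    rw [hS, Finset.mem_filter]
    refine ⟨Finset.mem_univ _, ?_⟩
    rcases ha with rfl | ha
    · exact hy
    · rw [hT, Finset.mem_image] at ha
      obtain ⟨i, -, rfl⟩ := ha
      rw [← pow_mul, mul_comm, pow_mul, ← hx, pow_orderOf_eq_one, one_pow]
  have h1 := Finset.card_le_card hsub
  rw [Finset.card_insert_of_notMem hyT, hTcard] at h1
  omega

theorem cs_mem_zpowers_sub {G : Type*} [Group G] [Finite G] (P : Subgroup G) (hP : IsCyclic P)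
    (p : ℕ) (hp : p.Prime) (x y : G) (hxP : x ∈ P) (hyP : y ∈ P) (hx : orderOf x = p)
    (hy : y ^ p = 1) : y ∈ Subgroup.zpowers x := by
  haveI := hP
  have h := cs_mem_zpowers_aux (Q := P) p hp ⟨x, hxP⟩ ⟨y, hyP⟩
    (by rw [← hx]; exact Subgroup.orderOf_mk x hxP)
    (by apply Subtype.ext; simpa using hy)
  rw [Subgroup.mem_zpowers_iff] at h ⊢
  obtain ⟨k, hk⟩ := h
  refine ⟨k, ?_⟩
  have := congrArg Subtype.val hk
  simpa using this

theorem cs_comm {G : Type*} [Group G] (P : Subgroup G) (hP : IsCyclic P) :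
    ∀ x ∈ P, ∀ y ∈ P, x * y = y * x := by
  intro x hx y hy
  obtain ⟨g, hg⟩ := hP.exists_generator
  obtain ⟨i, hi⟩ := Subgroup.mem_zpowers_iff.mp (hg ⟨x, hx⟩)
  obtain ⟨j, hj⟩ := Subgroup.mem_zpowers_iff.mp (hg ⟨y, hy⟩)
  have h : (⟨x, hx⟩ : P) * ⟨y, hy⟩ = ⟨y, hy⟩ * ⟨x, hx⟩ := by
    rw [← hi, ← hj, ← zpow_add, ← zpow_add, add_comm]
  exact congrArg Subtype.val h

theorem cs_isPGroup_zpowers {G : Type*} [Group G] {p : ℕ} [Fact p.Prime] (x : G) (hx : orderOf x = p) :
    IsPGroup p (Subgroup.zpowers x) := by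
  apply IsPGroup.of_card (n := 1)
  rw [Nat.card_zpowers, hx, pow_one]

def CycProp (p : ℕ) (X : Type*) [Group X] : Prop :=
  ∀ x y : X, orderOf x = p → orderOf y = p → x * y = y * x → y ∈ Subgroup.zpowers x

theorem cs_cycProp {G : Type*} [Group G] [Finite G] {p : ℕ} [Fact p.Prime] (P : Sylow p G)
    (hP : IsCyclic (P : Subgroup G)) : CycProp p G := by
  intro x y hx hy hc
  have h1 := cs_isPGroup_zpowers (p := p) x hx
  have h2 := cs_isPGroup_zpowers (p := p) y hy
  have hn : Subgroup.zpowers y ≤ Subgroup.normalizer ((Subgroup.zpowers x : Subgroup G) : Set G) := by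
    rw [Subgroup.zpowers_le]
    rw [Subgroup.mem_normalizer_iff]
    intro w
    have hcw : ∀ w ∈ Subgroup.zpowers x, y * w * y⁻¹ = w := by
      intro w hw
      obtain ⟨k, rfl⟩ := Subgroup.mem_zpowers_iff.mp hw
      have : Commute y (x ^ k) := (Commute.zpow_right (show Commute y x from hc.symm) k)
      rw [this.eq, mul_inv_cancel_right]
    constructor
    · intro hw
      rw [hcw w hw]
      exact hw
    · intro hw
      have := hcw _ hw
      have e : y⁻¹ * (y * w * y⁻¹) * y = w := by group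
      have h3 : y⁻¹ * (y * w * y⁻¹) * y = y * w * y⁻¹ := by
        have hcy : Commute y (y * w * y⁻¹) := by
          show y * (y * w * y⁻¹) = y * w * y⁻¹ * y
          have := hcw _ hw
          calc y * (y * w * y⁻¹) = (y * (y * w * y⁻¹) * y⁻¹) * y := by group
            _ = y * w * y⁻¹ * y := by rw [this]
        calc y⁻¹ * (y * w * y⁻¹) * y = y⁻¹ * ((y * w * y⁻¹) * y) := by group
          _ = y⁻¹ * (y * (y * w * y⁻¹)) := by rw [hcy.eq]
          _ = y * w * y⁻¹ := by group
      rw [← e, h3]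
      exact hw
  have h3 := IsPGroup.to_sup_of_normal_right' h2 h1 hn
  obtain ⟨Q, hQ⟩ := h3.exists_le_sylow
  obtain ⟨g, rfl⟩ := MulAction.exists_smul_eq G P Q
  have hxQ : x ∈ MulAut.conj g • (P : Subgroup G) := hQ (le_sup_right (a := Subgroup.zpowers y) (Subgroup.mem_zpowers x))
  have hyQ : y ∈ MulAut.conj g • (P : Subgroup G) := hQ (le_sup_left (b := Subgroup.zpowers x) (Subgroup.mem_zpowers y))
  rw [Subgroup.mem_pointwise_smul_iff_inv_smul_mem] at hxQ hyQ
  have ex : (MulAut.conj g)⁻¹ • x = g⁻¹ * x * g := by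
    simp only [MulAut.smul_def, ← map_inv, MulAut.conj_apply, inv_inv]
  have ey : (MulAut.conj g)⁻¹ • y = g⁻¹ * y * g := by
    simp only [MulAut.smul_def, ← map_inv, MulAut.conj_apply, inv_inv]
  rw [ex] at hxQ
  rw [ey] at hyQ
  have hox : orderOf (g⁻¹ * x * g) = p := by
    have := orderOf_injective (MulAut.conj g⁻¹).toMonoidHom (MulAut.conj g⁻¹).injective x
    rw [← hx, ← this]
    simp [MulAut.conj_apply]
  have hyp : (g⁻¹ * y * g) ^ p = 1 := by
    have : (g⁻¹ * y * g) ^ p = g⁻¹ * y ^ p * g := by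
      have := map_pow (MulAut.conj g⁻¹).toMonoidHom y p
      simpa [MulAut.conj_apply] using this.symm
    rw [this, ← hy, pow_orderOf_eq_one]
    group
  have h4 := cs_mem_zpowers_sub (P : Subgroup G) hP p Fact.out _ _ hxQ hyQ hox hyp
  obtain ⟨k, hk⟩ := Subgroup.mem_zpowers_iff.mp h4
  rw [Subgroup.mem_zpowers_iff]
  refine ⟨k, ?_⟩
  have e1 : (g⁻¹ * x * g) ^ k = g⁻¹ * x ^ k * g := by
    have := map_zpow (MulAut.conj g⁻¹).toMonoidHom x k
    simpa [MulAut.conj_apply] using this.symm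
  rw [e1] at hk
  have : x ^ k = g * (g⁻¹ * x ^ k * g) * g⁻¹ := by group
  rw [this, hk]
  group

end Cfsg.Agent.Lib.Helper24
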