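import Mathlib
import Cfsg.Prelude.Def_OddOrderLocal
import Cfsg.Agent.Lib.Lead.Coprime
import Cfsg.Agent.Lib.Helper1.BurnsideBasis

set_option autoImplicit false

namespace Cfsg.Agent.Lib.Helper24

theorem mn_nt {p r j k : ℕ} (hp : p.Prime) (hr : r.Prime) (hrp : r ≠ p) (hr2 : ¬ r ∣ p ^ 2 - 1)
    (hjk : j ≤ k) (hk : k ≤ 2) (h : p ^ k ≡ p ^ j [MOD r]) : j = k := by
  by_contra hne
  have hlt : j < k := lt_of_le_of_ne hjk hne
  obtain ⟨d, rfl⟩ := Nat.exists_eq_add_of_le hjk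
  have hd : 0 < d := by omega
  have h1 : p ^ j * p ^ d ≡ p ^ j * 1 [MOD r] := by
    rw [← pow_add, mul_one]; exact h
  have hcop : Nat.gcd r (p ^ j) = 1 := by
    apply Nat.Coprime.pow_right
    exact (Nat.coprime_primes hr hp).mpr hrp
  have h2 : p ^ d ≡ 1 [MOD r] := Nat.ModEq.cancel_left_of_coprime hcop h1
  have h3 : r ∣ p ^ d - 1 := (Nat.modEq_iff_dvd' (Nat.one_le_pow _ _ hp.pos)).mp h2.symm
  have hd2 : d = 1 ∨ d = 2 := by omega
  rcases hd2 with rfl | rfl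
  · apply hr2
    have : p ^ 2 - 1 = (p ^ 1 - 1) * (p + 1) := by
      have h1 : 1 ≤ p := hp.pos
      obtain ⟨m, rfl⟩ := Nat.exists_eq_add_of_le h1
      simp only [pow_one, Nat.add_sub_cancel_left]
      have : (1 + m) ^ 2 = 1 + m * (1 + m + 1) := by ring
      rw [this, Nat.add_sub_cancel_left]
    rw [this]
    exact Dvd.dvd.mul_right h3 _
  · exact hr2 h3

theorem mn_fix_all {V : Type*} [Group V] [Finite V] {p r k : ℕ} (hp : p.Prime) (hr : r.Prime)
    (hrp : r ≠ p) (hr2 : ¬ r ∣ p ^ 2 - 1) (hk : k ≤ 2) (hV : Nat.card V = p ^ k)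
    (φ : V ≃* V) (hφ : ∀ v, (φ ^ r) v = v) : ∀ v, φ v = v := by
  classical
  haveI := Fintype.ofFinite V
  haveI : Fact r.Prime := ⟨hr⟩
  let f : Function.End V := (φ : V → V)
  have hf : f ^ r ^ 1 = 1 := by
    rw [pow_one]
    funext v
    have h1 : ∀ n : ℕ, ∀ v, (f ^ n) v = (φ ^ n) v := by
      intro n
      induction n with
      | zero => intro v; rfl
      | succ n ih =>
        intro v
        rw [pow_succ, pow_succ]
        show (f ^ n) (f v) = (φ ^ n) (φ v)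
        rw [ih]
    rw [h1, hφ]
    rfl
  have hmod := Equiv.Perm.card_fixedPoints_modEq (f := f) hf
  let E : Subgroup V := MonoidHom.eqLocus φ.toMonoidHom (MonoidHom.id V)
  have hE : (Function.fixedPoints f) = (E : Set V) := by
    ext v
    rfl
  have hcardE : Fintype.card (Function.fixedPoints f) = Nat.card E := by
    rw [← Nat.card_eq_fintype_card]
    exact Nat.card_congr (Equiv.setCongr hE)
  rw [hcardE, ← Nat.card_eq_fintype_card, hV] at hmod
  have hdvd : Nat.card E ∣ p ^ k := hV ▸ Subgroup.card_subgroup_dvd_card E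
  obtain ⟨j, hjk, hj⟩ := (Nat.dvd_prime_pow hp).mp hdvd
  rw [hj] at hmod
  have hjk' := mn_nt hp hr hrp hr2 hjk hk hmod
  have hEtop : E = ⊤ := by
    apply Subgroup.eq_top_of_card_eq
    rw [hj, hjk', hV]
  intro v
  have : v ∈ E := hEtop ▸ Subgroup.mem_top v
  exact this

theorem mn_two_gen {R : Type*} [Group R] (hR : Cfsg.IsMetacyclic R) (Q : Subgroup R) :
    ∃ a b : R, a ∈ Q ∧ b ∈ Q ∧ Subgroup.closure {a, b} = Q := by
  obtain ⟨N, hNn, hNc, hRN⟩ := hR
  haveI : IsCyclic ↥(N ⊓ Q) := Subgroup.isCyclic_of_le (inf_le_left : N ⊓ Q ≤ N)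
  obtain ⟨a, ha⟩ := ((N ⊓ Q).isCyclic_iff_exists_zpowers_eq_top).mp inferInstance
  haveI : IsCyclic ↥(Q.map (QuotientGroup.mk' N)) := inferInstance
  obtain ⟨c, hc⟩ := ((Q.map (QuotientGroup.mk' N)).isCyclic_iff_exists_zpowers_eq_top).mp inferInstance
  have hcmem : c ∈ Q.map (QuotientGroup.mk' N) := by
    rw [← hc]; exact Subgroup.mem_zpowers c
  obtain ⟨b, hbQ, hbc⟩ := hcmem
  have haQ : a ∈ N ⊓ Q := by rw [← ha]; exact Subgroup.mem_zpowers a
  refine ⟨a, b, haQ.2, hbQ, ?_⟩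
  apply le_antisymm
  · rw [Subgroup.closure_le]
    rintro x (rfl | rfl)
    · exact haQ.2
    · exact hbQ
  · intro x hx
    have hxm : QuotientGroup.mk' N x ∈ Q.map (QuotientGroup.mk' N) := Subgroup.mem_map_of_mem _ hx
    rw [← hc] at hxm
    obtain ⟨i, hi⟩ := Subgroup.mem_zpowers_iff.mp hxm
    have h1 : x * (b ^ i)⁻¹ ∈ N := by
      rw [← QuotientGroup.eq_one_iff, ← QuotientGroup.mk'_apply, map_mul, map_inv, map_zpow, hbc, hi,
        mul_inv_cancel]
    have h2 : x * (b ^ i)⁻¹ ∈ N ⊓ Q := ⟨h1, Q.mul_mem hx (Q.inv_mem (Q.zpow_mem hbQ i))⟩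
    rw [← ha] at h2
    obtain ⟨j, hj⟩ := Subgroup.mem_zpowers_iff.mp h2
    have hx' : x = a ^ j * b ^ i := by rw [hj]; group
    have hacl : a ∈ Subgroup.closure ({a, b} : Set R) := Subgroup.subset_closure (by simp)
    have hbcl : b ∈ Subgroup.closure ({a, b} : Set R) := Subgroup.subset_closure (by simp)
    rw [hx']
    exact Subgroup.mul_mem _ (Subgroup.zpow_mem _ hacl j) (Subgroup.zpow_mem _ hbcl i)

theorem mn_frattini_index {G : Type*} [Group G] [Finite G] {p : ℕ} [Fact p.Prime] (Q : Subgroup G)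
    (hQ : IsPGroup p Q) (a b : G) (hab : Subgroup.closure {a, b} = Q) :
    ∃ k : ℕ, k ≤ 2 ∧ Nat.card (↥Q ⧸ frattini ↥Q) = p ^ k := by
  classical
  have hp := (Fact.out : p.Prime)
  have ha : a ∈ Q := by rw [← hab]; exact Subgroup.subset_closure (by simp)
  have hb : b ∈ Q := by rw [← hab]; exact Subgroup.subset_closure (by simp)
  obtain ⟨n, hn⟩ := IsPGroup.iff_card.mp hQ
  have hdvd : (frattini ↥Q).index ∣ p ^ n := hn ▸ Subgroup.index_dvd_card _
  obtain ⟨k, _, hk⟩ := (Nat.dvd_prime_pow hp).mp hdvd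
  refine ⟨k, ?_, ?_⟩
  · let T : Finset ↥Q := {⟨a, ha⟩, ⟨b, hb⟩}
    have hT : Subgroup.closure (T : Set ↥Q) = ⊤ := by
      apply Subgroup.map_injective Q.subtype_injective
      rw [MonoidHom.map_closure, ← MonoidHom.range_eq_map, Subgroup.range_subtype]
      have hset : (Q.subtype '' (T : Set ↥Q)) = ({a, b} : Set G) := by
        simp only [T, Finset.coe_insert, Finset.coe_singleton, Set.image_insert_eq, Set.image_singleton,
          Subgroup.coe_subtype]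
      rw [hset, hab]
    have := Cfsg.Agent.Lib.Helper1.burnside_basis_lower p k hQ hk T hT
    have hcard : T.card ≤ 2 := Finset.card_le_two
    omega
  · rw [← Subgroup.index_eq_card, hk]

theorem mn_pow_triv {G : Type*} [Group G] (Q D : Subgroup G) (h : G)
    (hQ : h ∈ Subgroup.normalizer (Q : Set G))
    (htriv : ∀ x ∈ Q, x⁻¹ * (h * x * h⁻¹) ∈ D) (n : ℕ) :
    ∀ x ∈ Q, x⁻¹ * (h ^ n * x * (h ^ n)⁻¹) ∈ D := by
  induction n with
  | zero => intro x _; simp
  | succ n ih =>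
    intro x hx
    have hy : h * x * h⁻¹ ∈ Q := (Subgroup.mem_normalizer_iff.mp hQ x).mp hx
    have e : x⁻¹ * (h ^ (n + 1) * x * (h ^ (n + 1))⁻¹) =
        (x⁻¹ * (h * x * h⁻¹)) * ((h * x * h⁻¹)⁻¹ * (h ^ n * (h * x * h⁻¹) * (h ^ n)⁻¹)) := by
      rw [pow_succ]; group
    rw [e]
    exact D.mul_mem (htriv x hx) (ih _ hy)

theorem mn_burnside {G : Type*} [Group G] [Finite G] {p : ℕ} [Fact p.Prime] (Q : Subgroup G)
    (hQp : IsPGroup p Q) (h : G) (hQ : h ∈ Subgroup.normalizer (Q : Set G))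
    (hcop : (orderOf h).Coprime p)
    (htriv : ∀ x ∈ Q, x⁻¹ * (h * x * h⁻¹) ∈ (frattini ↥Q).map Q.subtype) :
    h ∈ Subgroup.centralizer (Q : Set G) := by
  set D := (frattini ↥Q).map Q.subtype with hD
  have hDQ : D ≤ Q := Subgroup.map_subtype_le _
  set A := Subgroup.zpowers h with hA
  have hAQ : A ≤ Subgroup.normalizer (Q : Set G) := by
    rw [hA, Subgroup.zpowers_le]; exact hQ
  have hAD : A ≤ Subgroup.normalizer (D : Set G) :=
    Cfsg.Agent.Lib.Lead.le_normalizer_map_characteristic Q A hAQ (frattini ↥Q)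
  have hcopAD : (Nat.card A).Coprime (Nat.card D) := by
    rw [hA, Nat.card_zpowers]
    obtain ⟨n, hn⟩ := IsPGroup.iff_card.mp (hQp.to_le hDQ)
    rw [hn]
    exact Nat.Coprime.pow_right _ hcop
  have hsolv : Group.IsSolvable A ∨ Group.IsSolvable D := by
    left
    rw [hA]
    infer_instance
  have hall : ∀ a ∈ A, ∀ x ∈ Q, x⁻¹ * (a * x * a⁻¹) ∈ D := by
    intro a ha x hx
    have hfin : IsOfFinOrder h := isOfFinOrder_of_finite h
    rw [hA, ← hfin.mem_powers_iff_mem_zpowers] at ha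
    obtain ⟨n, rfl⟩ := ha
    exact mn_pow_triv Q D h hQ htriv n x hx
  set C := Q ⊓ Subgroup.centralizer (A : Set G) with hC
  have htop : C.subgroupOf Q ⊔ frattini ↥Q = ⊤ := by
    rw [eq_top_iff]
    intro x _
    obtain ⟨d, hd, hxd⟩ := Cfsg.Agent.Lib.Lead.coset_fixed A D hAD hcopAD hsolv x
      (fun a ha => hall a ha x x.2)
    have hdQ : d ∈ Q := hDQ hd
    have hd' : (⟨d, hdQ⟩ : ↥Q) ∈ frattini ↥Q := by
      obtain ⟨d', hd', hdd⟩ := hd
      have : d' = ⟨d, hdQ⟩ := Subtype.ext hdd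
      rw [← this]; exact hd'
    have hxd' : x * ⟨d, hdQ⟩ ∈ C.subgroupOf Q := by
      rw [Subgroup.mem_subgroupOf]
      exact ⟨Q.mul_mem x.2 hdQ, hxd⟩
    have : x = (x * ⟨d, hdQ⟩) * (⟨d, hdQ⟩ : ↥Q)⁻¹ := by group
    rw [this]
    exact Subgroup.mul_mem _ (Subgroup.mem_sup_left hxd')
      (Subgroup.mem_sup_right (Subgroup.inv_mem _ hd'))
  have hCtop : C.subgroupOf Q = ⊤ := frattini_nongenerating htop
  have hQleC : Q ≤ C := by
    rw [Subgroup.subgroupOf_eq_top] at hCtop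
    exact hCtop
  rw [Subgroup.mem_centralizer_iff]
  intro x hx
  have : x ∈ Subgroup.centralizer (A : Set G) := (hQleC hx).2
  rw [Subgroup.mem_centralizer_iff] at this
  exact (this h (Subgroup.mem_zpowers h)).symm

theorem mn_conjAut_pow {G : Type*} [Group G] (Q : Subgroup G) (h : G)
    (hQ : h ∈ Subgroup.normalizer (Q : Set G)) (n : ℕ) (x : ↥Q) :
    ((((Cfsg.Agent.Lib.Lead.conjAut Q h hQ) ^ n) x : ↥Q) : G) = h ^ n * x * (h ^ n)⁻¹ := by
  induction n generalizing x with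
  | zero => simp
  | succ n ih =>
    rw [pow_succ, MulAut.mul_apply, ih, Cfsg.Agent.Lib.Lead.conjAut_coe, pow_succ]
    group

theorem mn_quot_triv {G : Type*} [Group G] [Finite G] {p r k : ℕ} (hp : p.Prime) (hrP : r.Prime)
    (hrp : r ≠ p) (hr2 : ¬ r ∣ p ^ 2 - 1) (hk : k ≤ 2) (Q : Subgroup G)
    (hV : Nat.card (↥Q ⧸ frattini ↥Q) = p ^ k) (h : G)
    (hQ : h ∈ Subgroup.normalizer (Q : Set G))
    (hr : h ^ r ∈ Subgroup.centralizer (Q : Set G)) :
    ∀ x ∈ Q, x⁻¹ * (h * x * h⁻¹) ∈ (frattini ↥Q).map Q.subtype := by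
  set α := Cfsg.Agent.Lib.Lead.conjAut Q h hQ with hα
  have he : (frattini ↥Q).map (α : ↥Q →* ↥Q) = frattini ↥Q :=
    (Subgroup.characteristic_iff_map_eq.mp inferInstance) α
  set φ := QuotientGroup.congr (frattini ↥Q) (frattini ↥Q) α he with hφ
  have hpow : ∀ n : ℕ, ∀ x : ↥Q, (φ ^ n) (QuotientGroup.mk x) = QuotientGroup.mk ((α ^ n) x) := by
    intro n
    induction n with
    | zero => intro x; rfl
    | succ n ih =>
      intro x
      rw [pow_succ, pow_succ, MulAut.mul_apply, MulAut.mul_apply]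
      have : φ (QuotientGroup.mk x) = QuotientGroup.mk (α x) := rfl
      rw [this, ih]
  have hαr : ∀ x : ↥Q, (α ^ r) x = x := by
    intro x
    apply Subtype.ext
    rw [hα, mn_conjAut_pow]
    rw [Subgroup.mem_centralizer_iff] at hr
    rw [← hr x x.2]
    group
  have hφr : ∀ v, (φ ^ r) v = v := by
    intro v
    induction v using QuotientGroup.induction_on with
    | H x => rw [hpow, hαr]
  have hfix := mn_fix_all hp hrP hrp hr2 hk hV φ hφr
  intro x hx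
  have h1 := hfix (QuotientGroup.mk ⟨x, hx⟩)
  have h2 : φ (QuotientGroup.mk ⟨x, hx⟩) = QuotientGroup.mk (α ⟨x, hx⟩) := rfl
  rw [h2] at h1
  have h3 : (⟨x, hx⟩ : ↥Q)⁻¹ * α ⟨x, hx⟩ ∈ frattini ↥Q := QuotientGroup.eq.mp h1.symm
  refine ⟨_, h3, ?_⟩
  simp only [Subgroup.coe_subtype, Subgroup.coe_mul, Subgroup.coe_inv, hα,
    Cfsg.Agent.Lib.Lead.conjAut_coe]

end Cfsg.Agent.Lib.Helper24
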