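import Mathlib

set_option autoImplicit false

namespace Cfsg.Agent.Lib.Helper24

open scoped commutatorElement

variable {G : Type*} [Group G]

theorem cx_comm_mk (N : Subgroup G) [N.Normal] {u v : G} (hu : u ∈ N) (hv : v ∈ N) :
    (QuotientGroup.mk u : G ⧸ ⁅N, N⁆) * QuotientGroup.mk v = QuotientGroup.mk v * QuotientGroup.mk u := by
  rw [← QuotientGroup.mk_mul, ← QuotientGroup.mk_mul, QuotientGroup.eq]
  have h : (u * v)⁻¹ * (v * u) = ⁅v⁻¹, u⁻¹⁆ := by
    rw [commutatorElement_def]; group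
  rw [h]
  exact Subgroup.commutator_mem_commutator (inv_mem hv) (inv_mem hu)

noncomputable def cxHom (N : Subgroup G) [hN : N.Normal] (x : G) : N →* G ⧸ ⁅N, N⁆ :=
  MonoidHom.mk' (fun n => QuotientGroup.mk (x * n * x⁻¹ * (n : G)⁻¹)) (by
    intro a b
    have ha' : x * a * x⁻¹ ∈ N := hN.conj_mem _ a.2 x
    have hb' : x * b * x⁻¹ * (b : G)⁻¹ ∈ N := mul_mem (hN.conj_mem _ b.2 x) (inv_mem b.2)
    have e : x * ((a * b : N) : G) * x⁻¹ * ((a * b : N) : G)⁻¹ =
        (x * a * x⁻¹) * (x * b * x⁻¹ * (b : G)⁻¹) * (a : G)⁻¹ := by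
      rw [Subgroup.coe_mul]; group
    show (QuotientGroup.mk (x * ((a * b : N) : G) * x⁻¹ * ((a * b : N) : G)⁻¹) : G ⧸ ⁅N, N⁆) =
      QuotientGroup.mk (x * a * x⁻¹ * (a : G)⁻¹) * QuotientGroup.mk (x * b * x⁻¹ * (b : G)⁻¹)
    rw [e]
    calc (QuotientGroup.mk ((x * a * x⁻¹) * (x * b * x⁻¹ * (b : G)⁻¹) * (a : G)⁻¹) : G ⧸ ⁅N, N⁆)
        = QuotientGroup.mk (x * a * x⁻¹) * (QuotientGroup.mk (x * b * x⁻¹ * (b : G)⁻¹) *
            QuotientGroup.mk ((a : G)⁻¹)) := by
          rw [QuotientGroup.mk_mul, QuotientGroup.mk_mul, mul_assoc]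
      _ = QuotientGroup.mk (x * a * x⁻¹) * (QuotientGroup.mk ((a : G)⁻¹) *
            QuotientGroup.mk (x * b * x⁻¹ * (b : G)⁻¹)) := by
          rw [cx_comm_mk N hb' (inv_mem a.2)]
      _ = QuotientGroup.mk (x * a * x⁻¹ * (a : G)⁻¹) * QuotientGroup.mk (x * b * x⁻¹ * (b : G)⁻¹) := by
          rw [← mul_assoc, ← QuotientGroup.mk_mul])

theorem cxHom_apply (N : Subgroup G) [N.Normal] (x : G) (n : N) :
    cxHom N x n = QuotientGroup.mk (x * n * x⁻¹ * (n : G)⁻¹) := rfl

theorem cxHom_mem_ker (N : Subgroup G) [N.Normal] (x : G) (n : N) :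
    n ∈ (cxHom N x).ker ↔ x * n * x⁻¹ * (n : G)⁻¹ ∈ ⁅N, N⁆ := by
  rw [MonoidHom.mem_ker, cxHom_apply, QuotientGroup.eq_one_iff]

theorem cx_eq_top_of_mem {H : Subgroup G} (N : Subgroup G) (x : G)
    (hsup : Subgroup.zpowers x ⊔ N = ⊤) (hx : x ∈ H) (hN : N ≤ H) : H = ⊤ := by
  rw [eq_top_iff, ← hsup]
  exact sup_le (by rwa [Subgroup.zpowers_le]) hN

theorem cx_commutator_le [Finite G] (N : Subgroup G) [hN : N.Normal] (x : G)
    (hsup : Subgroup.zpowers x ⊔ N = ⊤) (R : Subgroup G) (h1 : ⁅N, N⁆ ≤ R) (h2 : R ≤ N)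
    (h3 : ∀ n ∈ N, x * n * x⁻¹ * n⁻¹ ∈ R) (h4 : ∀ r ∈ R, x * r * x⁻¹ ∈ R) :
    commutator G ≤ R := by
  have hnorm : Subgroup.normalizer (R : Set G) = ⊤ := by
    apply cx_eq_top_of_mem N x hsup
    · exact Subgroup.mem_normalizer_fintype h4
    · intro a ha
      apply Subgroup.mem_normalizer_fintype
      intro r hr
      have hc : a * r * a⁻¹ * r⁻¹ ∈ R := by
        apply h1
        have : a * r * a⁻¹ * r⁻¹ = ⁅a, r⁆ := by rw [commutatorElement_def]
        rw [this]
        exact Subgroup.commutator_mem_commutator ha (h2 hr)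
      have : a * r * a⁻¹ = (a * r * a⁻¹ * r⁻¹) * r := by group
      rw [this]
      exact mul_mem hc hr
  have hRn : R.Normal := Subgroup.normalizer_eq_top_iff.mp hnorm
  have hcomm_xa : ∀ a ∈ N, (QuotientGroup.mk x : G ⧸ R) * QuotientGroup.mk a =
      QuotientGroup.mk a * QuotientGroup.mk x := by
    intro a ha
    rw [← QuotientGroup.mk_mul, ← QuotientGroup.mk_mul, eq_comm, QuotientGroup.eq]
    have : (a * x)⁻¹ * (x * a) = x⁻¹ * (a⁻¹ * x * a * x⁻¹) * x := by group
    rw [this]
    have h5 : a⁻¹ * x * a * x⁻¹ ∈ R := by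
      have := inv_mem (h3 a⁻¹ (inv_mem ha))
      have e : (x * a⁻¹ * x⁻¹ * a⁻¹⁻¹)⁻¹ = a⁻¹ * x * a * x⁻¹ := by group
      rwa [e] at this
    have := hRn.conj_mem _ h5 x⁻¹
    rwa [inv_inv] at this
  have hcomm_ab : ∀ a ∈ N, ∀ b ∈ N, (QuotientGroup.mk a : G ⧸ R) * QuotientGroup.mk b =
      QuotientGroup.mk b * QuotientGroup.mk a := by
    intro a ha b hb
    rw [← QuotientGroup.mk_mul, ← QuotientGroup.mk_mul, QuotientGroup.eq]
    have h : (a * b)⁻¹ * (b * a) = ⁅b⁻¹, a⁻¹⁆ := by
      rw [commutatorElement_def]; group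
    rw [h]
    exact h1 (Subgroup.commutator_mem_commutator (inv_mem hb) (inv_mem ha))
  have hxc : ∀ g : G, (QuotientGroup.mk x : G ⧸ R) * QuotientGroup.mk g =
      QuotientGroup.mk g * QuotientGroup.mk x := by
    have htop : (Subgroup.centralizer ({(QuotientGroup.mk x : G ⧸ R)} : Set (G ⧸ R))).comap
        (QuotientGroup.mk' R) = ⊤ := by
      apply cx_eq_top_of_mem N x hsup
      · rw [Subgroup.mem_comap, Subgroup.mem_centralizer_iff]
        intro y hy
        rw [Set.mem_singleton_iff] at hy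
        rw [hy]
        rfl
      · intro a ha
        rw [Subgroup.mem_comap, Subgroup.mem_centralizer_iff]
        intro y hy
        rw [Set.mem_singleton_iff] at hy
        rw [hy]
        exact hcomm_xa a ha
    intro g
    have hg : g ∈ (Subgroup.centralizer ({(QuotientGroup.mk x : G ⧸ R)} : Set (G ⧸ R))).comap
        (QuotientGroup.mk' R) := by rw [htop]; exact Subgroup.mem_top g
    rw [Subgroup.mem_comap, Subgroup.mem_centralizer_iff] at hg
    exact hg _ rfl
  have hac : ∀ a ∈ N, ∀ g : G, (QuotientGroup.mk a : G ⧸ R) * QuotientGroup.mk g =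
      QuotientGroup.mk g * QuotientGroup.mk a := by
    intro a ha
    have htop : (Subgroup.centralizer ({(QuotientGroup.mk a : G ⧸ R)} : Set (G ⧸ R))).comap
        (QuotientGroup.mk' R) = ⊤ := by
      apply cx_eq_top_of_mem N x hsup
      · rw [Subgroup.mem_comap, Subgroup.mem_centralizer_iff]
        intro y hy
        rw [Set.mem_singleton_iff] at hy
        rw [hy]
        exact (hcomm_xa a ha).symm
      · intro b hb
        rw [Subgroup.mem_comap, Subgroup.mem_centralizer_iff]
        intro y hy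
        rw [Set.mem_singleton_iff] at hy
        rw [hy]
        exact hcomm_ab a ha b hb
    intro g
    have hg : g ∈ (Subgroup.centralizer ({(QuotientGroup.mk a : G ⧸ R)} : Set (G ⧸ R))).comap
        (QuotientGroup.mk' R) := by rw [htop]; exact Subgroup.mem_top g
    rw [Subgroup.mem_comap, Subgroup.mem_centralizer_iff] at hg
    exact hg _ rfl
  have hcenter : (Subgroup.center (G ⧸ R)).comap (QuotientGroup.mk' R) = ⊤ := by
    apply cx_eq_top_of_mem N x hsup
    · rw [Subgroup.mem_comap, Subgroup.mem_center_iff]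
      intro q
      obtain ⟨g, rfl⟩ := QuotientGroup.mk_surjective q
      exact (hxc g).symm
    · intro a ha
      rw [Subgroup.mem_comap, Subgroup.mem_center_iff]
      intro q
      obtain ⟨g, rfl⟩ := QuotientGroup.mk_surjective q
      exact (hac a ha g).symm
  rw [commutator_def, Subgroup.commutator_le]
  intro g _ h _
  have hg : g ∈ (Subgroup.center (G ⧸ R)).comap (QuotientGroup.mk' R) := by
    rw [hcenter]; exact Subgroup.mem_top g
  rw [Subgroup.mem_comap, Subgroup.mem_center_iff] at hg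
  have h6 := hg (QuotientGroup.mk h)
  rw [← QuotientGroup.eq_one_iff, commutatorElement_def]
  have h7 : (QuotientGroup.mk' R) g = (QuotientGroup.mk g : G ⧸ R) := rfl
  rw [h7] at h6
  rw [QuotientGroup.mk_mul, QuotientGroup.mk_mul, QuotientGroup.mk_mul, QuotientGroup.mk_inv,
    QuotientGroup.mk_inv, ← h6]
  group

theorem cx_map_commutator (N : Subgroup G) : (commutator N).map N.subtype = ⁅N, N⁆ := by
  rw [commutator_def, Subgroup.map_commutator, ← MonoidHom.range_eq_map, Subgroup.range_subtype]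

theorem cx_card_comap [Finite G] (D : Subgroup G) [D.Normal] (K : Subgroup (G ⧸ D)) :
    Nat.card (K.comap (QuotientGroup.mk' D)) = Nat.card K * Nat.card D := by
  have h1 := Subgroup.index_comap_of_surjective K (QuotientGroup.mk'_surjective D)
  have h2 := Subgroup.card_mul_index (K.comap (QuotientGroup.mk' D))
  have h3 := Subgroup.card_mul_index K
  have h4 := Subgroup.card_eq_card_quotient_mul_card_subgroup D
  have hpos : 0 < K.index := Nat.pos_of_ne_zero (Subgroup.index_ne_zero_of_finite)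
  rw [h1] at h2
  apply Nat.eq_of_mul_eq_mul_right hpos
  rw [h2, h4, ← h3]
  ring

theorem cx_card [Finite G] (N : Subgroup G) [hN : N.Normal] (x : G)
    (hsup : Subgroup.zpowers x ⊔ N = ⊤) :
    Nat.card (commutator G) *
      Nat.card {n : N // x * n * x⁻¹ * (n : G)⁻¹ ∈ (commutator N).map N.subtype}
      = Nat.card N * Nat.card (commutator N) := by
  have hD := cx_map_commutator N
  have hDN : ⁅N, N⁆ ≤ N := Subgroup.commutator_le_left N N
  have hcardD : Nat.card (commutator N) = Nat.card (⁅N, N⁆ : Subgroup G) := by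
    rw [← hD]
    exact (Subgroup.card_map_of_injective N.subtype_injective).symm
  have hker : Nat.card {n : N // x * n * x⁻¹ * (n : G)⁻¹ ∈ (commutator N).map N.subtype} =
      Nat.card (cxHom N x).ker :=
    Nat.card_congr (Equiv.subtypeEquivRight (fun n => by rw [hD]; exact (cxHom_mem_ker N x n).symm))
  have hR : commutator G = (cxHom N x).range.comap (QuotientGroup.mk' ⁅N, N⁆) := by
    apply le_antisymm
    · apply cx_commutator_le N x hsup
      · intro d hd
        rw [Subgroup.mem_comap]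
        have : (QuotientGroup.mk' ⁅N, N⁆) d = 1 := (QuotientGroup.eq_one_iff d).mpr hd
        rw [this]
        exact Subgroup.one_mem _
      · intro g hg
        rw [Subgroup.mem_comap] at hg
        obtain ⟨n, hn⟩ := hg
        rw [cxHom_apply] at hn
        have h1 : (x * n * x⁻¹ * (n : G)⁻¹)⁻¹ * g ∈ ⁅N, N⁆ := QuotientGroup.eq.mp hn
        have h2 : x * n * x⁻¹ * (n : G)⁻¹ ∈ N := mul_mem (hN.conj_mem _ n.2 x) (inv_mem n.2)
        have : g = (x * n * x⁻¹ * (n : G)⁻¹) * ((x * n * x⁻¹ * (n : G)⁻¹)⁻¹ * g) := by group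
        rw [this]
        exact mul_mem h2 (hDN h1)
      · intro n hn
        rw [Subgroup.mem_comap]
        exact ⟨⟨n, hn⟩, rfl⟩
      · intro r hr
        rw [Subgroup.mem_comap] at hr ⊢
        obtain ⟨n, hn⟩ := hr
        rw [cxHom_apply] at hn
        refine ⟨⟨x * n * x⁻¹, hN.conj_mem _ n.2 x⟩, ?_⟩
        rw [cxHom_apply]
        have e1 : (QuotientGroup.mk' ⁅N, N⁆) (x * r * x⁻¹) =
            QuotientGroup.mk x * QuotientGroup.mk r * (QuotientGroup.mk x)⁻¹ := by
          simp
        have e2 : (QuotientGroup.mk' ⁅N, N⁆) r = (QuotientGroup.mk r : G ⧸ ⁅N, N⁆) := rfl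
        rw [e1, ← e2, ← hn]
        simp only [QuotientGroup.mk_mul, QuotientGroup.mk_inv]
        group
    · intro g hg
      rw [Subgroup.mem_comap] at hg
      obtain ⟨n, hn⟩ := hg
      rw [cxHom_apply] at hn
      have h1 : (x * n * x⁻¹ * (n : G)⁻¹)⁻¹ * g ∈ ⁅N, N⁆ := QuotientGroup.eq.mp hn
      have h2 : x * n * x⁻¹ * (n : G)⁻¹ ∈ commutator G := by
        have : x * n * x⁻¹ * (n : G)⁻¹ = ⁅x, (n : G)⁆ := by rw [commutatorElement_def]
        rw [this, commutator_def]
        exact Subgroup.commutator_mem_commutator (Subgroup.mem_top _) (Subgroup.mem_top _)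
      have h3 : ⁅N, N⁆ ≤ commutator G := by
        rw [commutator_def]
        exact Subgroup.commutator_mono le_top le_top
      have : g = (x * n * x⁻¹ * (n : G)⁻¹) * ((x * n * x⁻¹ * (n : G)⁻¹)⁻¹ * g) := by group
      rw [this]
      exact mul_mem h2 (h3 h1)
  have hcardR := cx_card_comap ⁅N, N⁆ (cxHom N x).range
  have hidx := Subgroup.index_ker (cxHom N x)
  have hmul := Subgroup.card_mul_index (cxHom N x).ker
  rw [hker, hR, hcardR, hcardD, ← hmul, hidx]
  ring

theorem cx_sup_eq_top_of_prime_index {p : ℕ} (hp : p.Prime) (N : Subgroup G) (hN : N.index = p)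
    {x : G} (hx : x ∉ N) : Subgroup.zpowers x ⊔ N = ⊤ := by
  have hle : N ≤ Subgroup.zpowers x ⊔ N := le_sup_right
  have h1 := Subgroup.relIndex_mul_index hle
  rw [hN] at h1
  have h2 : N.relIndex (Subgroup.zpowers x ⊔ N) ≠ 1 := by
    intro h
    rw [Subgroup.relIndex_eq_one] at h
    exact hx (h (le_sup_left (a := Subgroup.zpowers x) (Subgroup.mem_zpowers x)))
  have h3 : N.relIndex (Subgroup.zpowers x ⊔ N) ∣ p := Dvd.intro _ h1
  rcases (Nat.dvd_prime hp).mp h3 with h | h
  · exact absurd h h2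
  · rw [h] at h1
    have h4 : (Subgroup.zpowers x ⊔ N).index = 1 := by
      have := hp.pos
      exact Nat.eq_of_mul_eq_mul_left this (h1.trans (mul_one p).symm)
    exact Subgroup.index_eq_one.mp h4

theorem cx_index_commutator [Finite G] {p : ℕ} (hp : p.Prime) (N : Subgroup G) [hNn : N.Normal]
    (hN : N.index = p) {x : G} (hx : x ∉ N) :
    (commutator G).index = p ^ 2 ↔
      Nat.card {n : N // x * n * x⁻¹ * (n : G)⁻¹ ∈ (commutator N).map N.subtype} =
        p * Nat.card (commutator N) := by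
  have hsup := cx_sup_eq_top_of_prime_index hp N hN hx
  have hc := cx_card N x hsup
  have h1 := Subgroup.card_mul_index N
  rw [hN] at h1
  have h2 := Subgroup.card_mul_index (commutator G)
  have hNpos : 0 < Nat.card N := Nat.card_pos
  have hCpos : 0 < Nat.card (commutator G) := Nat.card_pos
  set c := Nat.card {n : N // x * n * x⁻¹ * (n : G)⁻¹ ∈ (commutator N).map N.subtype} with hcdef
  set d := Nat.card (commutator N) with hd
  set a := Nat.card (commutator G) with ha
  set n := Nat.card N with hn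
  set i := (commutator G).index with hi
  constructor
  · intro h
    rw [h] at h2
    have h3 : n = p * a := by
      have : p * n = p * (p * a) := by rw [mul_comm p n, h1, ← h2]; ring
      exact Nat.eq_of_mul_eq_mul_left hp.pos this
    rw [h3] at hc
    have : a * c = a * (p * d) := by rw [hc]; ring
    exact Nat.eq_of_mul_eq_mul_left hCpos this
  · intro h
    rw [h] at hc
    have h3 : n = p * a := by
      have hdpos : 0 < d := Nat.card_pos
      have : d * n = d * (p * a) := by
        have : a * (p * d) = d * (p * a) := by ring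
        rw [← this, hc]; ring
      exact Nat.eq_of_mul_eq_mul_left hdpos this
    have : a * i = a * p ^ 2 := by
      rw [h2, ← h1, h3]; ring
    exact Nat.eq_of_mul_eq_mul_left hCpos this

end Cfsg.Agent.Lib.Helper24
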