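import Mathlib
import Cfsg.Agent.Lib.Helper1.Nilp
import Cfsg.Agent.Lib.Helper1.Frat
import Cfsg.Agent.Lib.Helper24.CommIndex

set_option autoImplicit false

namespace Cfsg.Agent.Lib.Helper24

open scoped commutatorElement
open Cfsg.Agent.Lib.Helper1

variable {G : Type*} [Group G]

theorem pf_comm_of_central_index [Finite G] {p : ℕ} (hp : p.Prime) (H : Subgroup G)
    (hH : H ≤ Subgroup.center G) (hidx : H.index ∣ p) : ∀ a b : G, a * b = b * a := by
  have hHn : H.Normal := by
    constructor
    intro n hn g
    have := hH hn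
    rw [Subgroup.mem_center_iff] at this
    have e : g * n * g⁻¹ = n := by rw [this g]; group
    rw [e]; exact hn
  have hcyc : IsCyclic (G ⧸ H) := by
    rcases (Nat.dvd_prime hp).mp hidx with h | h
    · rw [Subgroup.index_eq_card] at h
      have : Subsingleton (G ⧸ H) := (Nat.card_eq_one_iff_unique.mp h).1
      exact isCyclic_of_subsingleton
    · rw [Subgroup.index_eq_card] at h
      have : Fact p.Prime := ⟨hp⟩
      exact isCyclic_of_prime_card h
  exact isMulCommutative_iff.mp (MonoidHom.isMulCommutative_of_isCyclic_of_ker_le_center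
    (QuotientGroup.mk' H) (by rw [QuotientGroup.ker_mk']; exact hH))

theorem pf_index_centralizer_le [Finite G] (x : G) :
    (Subgroup.centralizer ({x} : Set G)).index ≤ Nat.card (commutator G) := by
  rw [Subgroup.index_eq_card]
  let f : G ⧸ Subgroup.centralizer ({x} : Set G) → commutator G :=
    fun q => Quotient.liftOn' q (fun g => (⟨⁅g, x⁆, by
      rw [commutator_def]
      exact Subgroup.commutator_mem_commutator (Subgroup.mem_top _) (Subgroup.mem_top _)⟩ : commutator G))
      (by
        intro a b hab
        rw [QuotientGroup.leftRel_apply, Subgroup.mem_centralizer_iff] at hab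
        have h := hab x rfl
        apply Subtype.ext
        show ⁅a, x⁆ = ⁅b, x⁆
        rw [commutatorElement_def, commutatorElement_def]
        have h2 : a * x * a⁻¹ = b * x * b⁻¹ := by
          have : b * x * b⁻¹ = a * (a⁻¹ * b * x) * b⁻¹ := by group
          rw [this, ← h]; group
        rw [h2])
  apply Nat.card_le_card_of_injective f
  intro q1 q2
  induction q1 using Quotient.inductionOn' with | _ a => ?_
  induction q2 using Quotient.inductionOn' with | _ b => ?_
  intro h
  have h1 : ⁅a, x⁆ = ⁅b, x⁆ := congrArg Subtype.val h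
  rw [commutatorElement_def, commutatorElement_def] at h1
  have h2 : a * x * a⁻¹ = b * x * b⁻¹ := mul_right_cancel h1
  apply Quotient.sound'
  rw [QuotientGroup.leftRel_apply, Subgroup.mem_centralizer_iff]
  intro y hy
  rw [Set.mem_singleton_iff] at hy
  rw [hy]
  calc x * (a⁻¹ * b) = a⁻¹ * (a * x * a⁻¹) * b := by group
    _ = a⁻¹ * (b * x * b⁻¹) * b := by rw [h2]
    _ = a⁻¹ * b * x := by group

theorem pf_card_mul_relIndex {H K : Subgroup G} (h : H ≤ K) :
    Nat.card H * H.relIndex K = Nat.card K := by
  rw [← Subgroup.relIndex_bot_left, ← Subgroup.relIndex_bot_left (H := K)]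
  exact Subgroup.relIndex_mul_relIndex ⊥ H K bot_le h

theorem pf_pow_lt_of_dvd_ne {p j k : ℕ} (hp : p.Prime) (hd : p ^ j ∣ p ^ k) (hne : p ^ j ≠ p ^ k) :
    j < k := by
  have hle : j ≤ k := (Nat.pow_dvd_pow_iff_le_right hp.one_lt).mp hd
  rcases Nat.lt_or_ge j k with h | h
  · exact h
  · exfalso
    apply hne
    have : j = k := le_antisymm hle h
    rw [this]

theorem pf_centralizer_comm [Finite G] {p : ℕ} [Fact p.Prime] (hG : IsPGroup p G) {x : G}
    (hx : x ∉ Subgroup.center G) (hC : Nat.card (Subgroup.centralizer ({x} : Set G)) = p ^ 3) :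
    ∀ a ∈ Subgroup.centralizer ({x} : Set G), ∀ b ∈ Subgroup.centralizer ({x} : Set G),
      a * b = b * a := by
  have hp : p.Prime := Fact.out
  set C := Subgroup.centralizer ({x} : Set G) with hCdef
  set K := Subgroup.center G ⊔ Subgroup.zpowers x with hK
  have hxC : x ∈ C := by
    rw [hCdef, Subgroup.mem_centralizer_iff]
    intro y hy
    rw [Set.mem_singleton_iff] at hy
    rw [hy]
  have hZC : Subgroup.center G ≤ C := Subgroup.center_le_centralizer _
  have hKC : K ≤ C := sup_le hZC (by rwa [Subgroup.zpowers_le])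
  have hKcent : K ≤ Subgroup.centralizer (C : Set G) := by
    apply sup_le (Subgroup.center_le_centralizer _)
    rw [Subgroup.zpowers_le, Subgroup.mem_centralizer_iff]
    intro c hc
    have := (Subgroup.mem_centralizer_iff.mp hc) x rfl
    exact this.symm
  have hnt : Nontrivial G := by
    by_contra h
    rw [not_nontrivial_iff_subsingleton] at h
    apply hx
    have : x = 1 := Subsingleton.elim _ _
    rw [this]
    exact Subgroup.one_mem _
  obtain ⟨j, hj0, hj⟩ : ∃ j > 0, Nat.card (Subgroup.center G) = p ^ j := by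
    have hcnt := hG.center_nontrivial
    have hZp : IsPGroup p (Subgroup.center G) := hG.to_subgroup _
    exact hZp.nontrivial_iff_card.mp hcnt
  obtain ⟨k, hk3, hk⟩ : ∃ k ≤ 3, Nat.card K = p ^ k := by
    have := Subgroup.card_dvd_of_le hKC
    rw [hC] at this
    exact (Nat.dvd_prime_pow hp).mp this
  have hjk : j < k := by
    apply pf_pow_lt_of_dvd_ne hp
    · rw [← hj, ← hk]
      exact Subgroup.card_dvd_of_le le_sup_left
    · rw [← hj, ← hk]
      intro heq
      have : Subgroup.center G = K :=
        Subgroup.eq_of_le_of_card_ge le_sup_left (le_of_eq heq.symm)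
      apply hx
      rw [this]
      exact le_sup_right (a := Subgroup.center G) (Subgroup.mem_zpowers x)
  have hrel : K.relIndex C ∣ p := by
    have h1 := pf_card_mul_relIndex hKC
    rw [hk, hC] at h1
    have h2 : K.relIndex C = p ^ (3 - k) := by
      have hpk : 0 < p ^ k := pow_pos hp.pos k
      apply Nat.eq_of_mul_eq_mul_left hpk
      rw [h1, ← pow_add]
      congr 1
      omega
    rw [h2]
    have : 3 - k ≤ 1 := by omega
    calc p ^ (3 - k) ∣ p ^ 1 := pow_dvd_pow p this
      _ = p := pow_one p
  have hsub : K.subgroupOf C ≤ Subgroup.center C := by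
    intro c hc
    rw [Subgroup.mem_subgroupOf] at hc
    rw [Subgroup.mem_center_iff]
    intro d
    apply Subtype.ext
    have := (Subgroup.mem_centralizer_iff.mp (hKcent hc)) d d.2
    exact this
  have hcomm := pf_comm_of_central_index hp (K.subgroupOf C) hsub hrel
  intro a ha b hb
  have := hcomm ⟨a, ha⟩ ⟨b, hb⟩
  exact congrArg Subtype.val this

theorem pf_card_of_abelian_index [Finite G] {p : ℕ} (hp : p.Prime) (N : Subgroup G) [hNn : N.Normal]
    (hN : N.index = p) (hab : ∀ a ∈ N, ∀ b ∈ N, a * b = b * a) (hZ : Subgroup.center G ≤ N) :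
    Nat.card (commutator G) * Nat.card (Subgroup.center G) = Nat.card N := by
  have hex : ∃ y : G, y ∉ N := by
    by_contra h
    have hall : ∀ y : G, y ∈ N := by
      intro y
      by_contra hy
      exact h ⟨y, hy⟩
    have : N = ⊤ := by
      rw [eq_top_iff]
      intro y _
      exact hall y
    rw [this, Subgroup.index_top] at hN
    exact hp.one_lt.ne hN
  obtain ⟨y, hy⟩ := hex
  have hsup := cx_sup_eq_top_of_prime_index hp N hN hy
  have hc := cx_card N y hsup
  have hbot : commutator N = ⊥ := by
    rw [commutator_def, Subgroup.commutator_eq_bot_iff_le_centralizer]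
    intro a _
    rw [Subgroup.mem_centralizer_iff]
    intro b _
    exact Subtype.ext (hab b b.2 a a.2)
  rw [hbot, Subgroup.card_bot, mul_one] at hc
  rw [← hc]
  congr 1
  symm
  apply Nat.card_eq_of_bijective
    (fun n : {n : N // y * n * y⁻¹ * (n : G)⁻¹ ∈ (⊥ : Subgroup N).map N.subtype} =>
      (⟨(n.1 : G), by
        have h1 : y * (n.1 : G) * y⁻¹ * (n.1 : G)⁻¹ = 1 := by
          obtain ⟨m, hm, hmeq⟩ := Subgroup.mem_map.mp n.2
          rw [Subgroup.mem_bot] at hm
          rw [hm, map_one] at hmeq
          exact hmeq.symm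
        have h2 : y * (n.1 : G) = (n.1 : G) * y := by
          have : y * (n.1 : G) = (y * n.1 * y⁻¹ * (n.1 : G)⁻¹) * ((n.1 : G) * y) := by group
          rw [this, h1, one_mul]
        have htop : Subgroup.centralizer ({(n.1 : G)} : Set G) = ⊤ := by
          apply cx_eq_top_of_mem N y hsup
          · rw [Subgroup.mem_centralizer_iff]
            intro z hz
            rw [Set.mem_singleton_iff] at hz
            rw [hz]
            exact h2.symm
          · intro a ha
            rw [Subgroup.mem_centralizer_iff]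
            intro z hz
            rw [Set.mem_singleton_iff] at hz
            rw [hz]
            exact hab _ n.1.2 a ha
        rw [Subgroup.mem_center_iff]
        intro g
        have hg : g ∈ Subgroup.centralizer ({(n.1 : G)} : Set G) := by
          rw [htop]; exact Subgroup.mem_top g
        rw [Subgroup.mem_centralizer_iff] at hg
        exact (hg _ rfl).symm⟩ : Subgroup.center G))
  constructor
  · intro a b h
    have : ((a.1 : N) : G) = ((b.1 : N) : G) := congrArg (fun z : Subgroup.center G => (z : G)) h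
    exact Subtype.ext (Subtype.ext this)
  · intro z
    refine ⟨⟨⟨z.1, hZ z.2⟩, ?_⟩, Subtype.ext rfl⟩
    have := Subgroup.mem_center_iff.mp z.2 y
    have h1 : y * (z : G) * y⁻¹ * (z : G)⁻¹ = 1 := by
      rw [this]
      group
    show y * (z : G) * y⁻¹ * (z : G)⁻¹ ∈ (⊥ : Subgroup N).map N.subtype
    rw [h1]
    exact Subgroup.one_mem _

theorem pf_centralizer_ne_top {x : G} (hx : x ∉ Subgroup.center G) :
    Subgroup.centralizer ({x} : Set G) ≠ ⊤ := by
  intro h
  rw [Subgroup.centralizer_eq_top_iff_subset] at h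
  exact hx (h rfl)

theorem pf_mem_centralizer_self (x : G) : x ∈ Subgroup.centralizer ({x} : Set G) := by
  rw [Subgroup.mem_centralizer_iff]
  intro y hy
  rw [Set.mem_singleton_iff] at hy
  rw [hy]

theorem pf_card_centralizer_of_comm [Finite G] {p : ℕ} [Fact p.Prime] (hG : Nat.card G = p ^ 4)
    (hc : Nat.card (commutator G) = p) {x : G} (hx : x ∉ Subgroup.center G) :
    Nat.card (Subgroup.centralizer ({x} : Set G)) = p ^ 3 := by
  have hp : p.Prime := Fact.out
  have h1 := pf_index_centralizer_le x
  rw [hc] at h1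
  have h2 := Subgroup.card_mul_index (Subgroup.centralizer ({x} : Set G))
  rw [hG] at h2
  have h3 : (Subgroup.centralizer ({x} : Set G)).index ∣ p ^ 4 := Dvd.intro_left _ h2
  obtain ⟨k, hk4, hk⟩ := (Nat.dvd_prime_pow hp).mp h3
  have hk0 : k ≠ 0 := by
    intro h0
    rw [h0, pow_zero, Subgroup.index_eq_one] at hk
    exact pf_centralizer_ne_top hx hk
  have hk1 : k ≤ 1 := by
    rw [hk] at h1
    by_contra hlt
    have : p ^ 2 ≤ p ^ k := Nat.pow_le_pow_right hp.pos (by omega)
    have h5 : p < p ^ 2 := by
      calc p = p ^ 1 := (pow_one p).symm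
        _ < p ^ 2 := Nat.pow_lt_pow_right hp.one_lt (by norm_num)
    omega
  have hk' : k = 1 := by omega
  rw [hk, hk', pow_one] at h2
  have : Nat.card (Subgroup.centralizer ({x} : Set G)) * p = p ^ 3 * p := by
    rw [h2]; ring
  exact Nat.eq_of_mul_eq_mul_right hp.pos this

theorem pf_card_centralizer_of_center [Finite G] {p : ℕ} [Fact p.Prime] (hG : Nat.card G = p ^ 4)
    (hc : Nat.card (Subgroup.center G) = p ^ 2) {x : G} (hx : x ∉ Subgroup.center G) :
    Nat.card (Subgroup.centralizer ({x} : Set G)) = p ^ 3 := by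
  have hp : p.Prime := Fact.out
  have hZC : Subgroup.center G ≤ Subgroup.centralizer ({x} : Set G) :=
    Subgroup.center_le_centralizer _
  have h3 : Nat.card (Subgroup.centralizer ({x} : Set G)) ∣ p ^ 4 := by
    rw [← hG]; exact Subgroup.card_subgroup_dvd_card _
  obtain ⟨k, hk4, hk⟩ := (Nat.dvd_prime_pow hp).mp h3
  have h2k : 2 < k := by
    apply pf_pow_lt_of_dvd_ne hp
    · rw [← hc, ← hk]; exact Subgroup.card_dvd_of_le hZC
    · rw [← hc, ← hk]
      intro heq
      have : Subgroup.center G = Subgroup.centralizer ({x} : Set G) :=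
        Subgroup.eq_of_le_of_card_ge hZC (le_of_eq heq.symm)
      apply hx
      rw [this]
      exact pf_mem_centralizer_self x
  have hk4' : k ≠ 4 := by
    intro h4
    rw [h4, ← hG, Subgroup.card_eq_iff_eq_top] at hk
    exact pf_centralizer_ne_top hx hk
  have : k = 3 := by omega
  rw [hk, this]

theorem pf_centralizer_normal [Finite G] {p : ℕ} [Fact p.Prime] (hG : Nat.card G = p ^ 4) {x : G}
    (hC : Nat.card (Subgroup.centralizer ({x} : Set G)) = p ^ 3) :
    (Subgroup.centralizer ({x} : Set G)).Normal ∧ (Subgroup.centralizer ({x} : Set G)).index = p := by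
  have hp : p.Prime := Fact.out
  have h2 := Subgroup.card_mul_index (Subgroup.centralizer ({x} : Set G))
  rw [hG, hC] at h2
  have hidx : (Subgroup.centralizer ({x} : Set G)).index = p := by
    have hpos : 0 < p ^ 3 := pow_pos hp.pos 3
    apply Nat.eq_of_mul_eq_mul_left hpos
    rw [h2]; ring
  refine ⟨?_, hidx⟩
  apply Subgroup.normal_of_index_eq_minFac_card
  rw [hidx, hG, Nat.pow_minFac (by norm_num), Nat.Prime.minFac_eq hp]

theorem pf_card_comm_mul_card_center [Finite G] {p : ℕ} [Fact p.Prime] (hG : Nat.card G = p ^ 4) {x : G}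
    (hx : x ∉ Subgroup.center G) (hC : Nat.card (Subgroup.centralizer ({x} : Set G)) = p ^ 3) :
    Nat.card (commutator G) * Nat.card (Subgroup.center G) = p ^ 3 := by
  have hp : p.Prime := Fact.out
  have hGp : IsPGroup p G := IsPGroup.of_card hG
  obtain ⟨hn, hidx⟩ := pf_centralizer_normal hG hC
  have hab := pf_centralizer_comm hGp hx hC
  have := pf_card_of_abelian_index hp (Subgroup.centralizer ({x} : Set G)) hidx hab
    (Subgroup.center_le_centralizer _)
  rw [this, hC]

theorem pf_exists_not_mem_center (h : Subgroup.center G ≠ ⊤) : ∃ x : G, x ∉ Subgroup.center G := by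
  by_contra hne
  apply h
  rw [eq_top_iff]
  intro x _
  by_contra hx
  exact hne ⟨x, hx⟩

theorem pf_card_center_of_card_comm [Finite G] {p : ℕ} [Fact p.Prime] (hG : Nat.card G = p ^ 4)
    (hc : Nat.card (commutator G) = p) : Nat.card (Subgroup.center G) = p ^ 2 := by
  have hp : p.Prime := Fact.out
  have hne : Subgroup.center G ≠ ⊤ := by
    intro h
    rw [← commutator_eq_bot_iff_center_eq_top] at h
    rw [h, Subgroup.card_bot] at hc
    exact hp.one_lt.ne hc
  obtain ⟨x, hx⟩ := pf_exists_not_mem_center hne
  have hC := pf_card_centralizer_of_comm hG hc hx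
  have h1 := pf_card_comm_mul_card_center hG hx hC
  rw [hc] at h1
  apply Nat.eq_of_mul_eq_mul_left hp.pos
  rw [h1]; ring

theorem pf_card_comm_of_card_center [Finite G] {p : ℕ} [Fact p.Prime] (hG : Nat.card G = p ^ 4)
    (hc : Nat.card (Subgroup.center G) = p ^ 2) : Nat.card (commutator G) = p := by
  have hp : p.Prime := Fact.out
  have hne : Subgroup.center G ≠ ⊤ := by
    intro h
    rw [← Subgroup.card_eq_iff_eq_top, hc, hG] at h
    have : p ^ 2 < p ^ 4 := Nat.pow_lt_pow_right hp.one_lt (by norm_num)
    omega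
  obtain ⟨x, hx⟩ := pf_exists_not_mem_center hne
  have hC := pf_card_centralizer_of_center hG hc hx
  have h1 := pf_card_comm_mul_card_center hG hx hC
  rw [hc] at h1
  have hpos : 0 < p ^ 2 := pow_pos hp.pos 2
  apply Nat.eq_of_mul_eq_mul_right hpos
  rw [h1]; ring

theorem pf_index_iff_card {p a b : ℕ} (hp : p.Prime) (H : Subgroup G) (hG : Nat.card G = p ^ (a + b)) :
    H.index = p ^ a ↔ Nat.card H = p ^ b := by
  have h := Subgroup.card_mul_index H
  rw [hG] at h
  constructor
  · intro hi
    rw [hi] at h
    have hpos : 0 < p ^ a := pow_pos hp.pos a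
    apply Nat.eq_of_mul_eq_mul_right hpos
    rw [h, pow_add]; ring
  · intro hc
    rw [hc] at h
    have hpos : 0 < p ^ b := pow_pos hp.pos b
    apply Nat.eq_of_mul_eq_mul_left hpos
    rw [h, pow_add]; ring

end Cfsg.Agent.Lib.Helper24
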