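import Mathlib
import Cfsg.Agent.Lib.Helper24.POrderFour

set_option autoImplicit false

namespace Cfsg.Agent.Lib.Helper24

open scoped commutatorElement
open Cfsg.Agent.Lib.Helper1

variable {G : Type*} [Group G]

theorem pf_le_center_of_card_prime [Finite G] {p : ℕ} [Fact p.Prime] (hG : IsPGroup p G)
    (K : Subgroup G) [K.Normal] (hK : Nat.card K = p) : K ≤ Subgroup.center G := by
  have hp : p.Prime := Fact.out
  have hnil : Group.IsNilpotent G := hG.isNilpotent
  have hKne : K ≠ ⊥ := by
    intro h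
    rw [h, Subgroup.card_bot] at hK
    exact hp.one_lt.ne hK
  have h1 := normal_inf_center_ne_bot K hKne
  have h2 : Nat.card (K ⊓ Subgroup.center G : Subgroup G) ∣ p := by
    rw [← hK]; exact Subgroup.card_dvd_of_le inf_le_left
  rcases (Nat.dvd_prime hp).mp h2 with h | h
  · exact absurd (Subgroup.card_eq_one.mp h) h1
  · have : K ⊓ Subgroup.center G = K :=
      Subgroup.eq_of_le_of_card_ge inf_le_left (by rw [h, hK])
    rw [← this]
    exact inf_le_right

theorem pf_comm_top_eq_bot_iff (K : Subgroup G) : ⁅K, (⊤ : Subgroup G)⁆ = ⊥ ↔ K ≤ Subgroup.center G := by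
  rw [Subgroup.commutator_eq_bot_iff_le_centralizer, Subgroup.coe_top, Subgroup.centralizer_univ]

theorem pf_eq_bot_of_comm_top_eq [Group.IsNilpotent G] (K : Subgroup G) (h : ⁅K, (⊤ : Subgroup G)⁆ = K) :
    K = ⊥ := by
  have hall : ∀ n : ℕ, K ≤ Subgroup.lowerCentralSeries (⊤ : Subgroup G) n := by
    intro n
    induction n with
    | zero => rw [Subgroup.lowerCentralSeries_zero]; exact le_top
    | succ n ih =>
      rw [Subgroup.lowerCentralSeries_succ]
      calc K = ⁅K, (⊤ : Subgroup G)⁆ := h.symm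
        _ ≤ _ := Subgroup.commutator_mono ih le_rfl
  have := hall (Group.nilpotencyClass G)
  rw [Subgroup.lowerCentralSeries_nilpotencyClass] at this
  exact le_bot_iff.mp this

theorem pf_class_eq_three_iff [Group.IsNilpotent G] :
    Group.nilpotencyClass G = 3 ↔
      ⁅⁅commutator G, (⊤ : Subgroup G)⁆, (⊤ : Subgroup G)⁆ = ⊥ ∧ ⁅commutator G, (⊤ : Subgroup G)⁆ ≠ ⊥ := by
  have h3 : Subgroup.lowerCentralSeries (⊤ : Subgroup G) 3 = ⁅⁅commutator G, (⊤ : Subgroup G)⁆, (⊤ : Subgroup G)⁆ := by
    rw [Subgroup.lowerCentralSeries_succ, Subgroup.lowerCentralSeries_succ, Subgroup.top_lowerCentralSeries_one]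
  have h2 : Subgroup.lowerCentralSeries (⊤ : Subgroup G) 2 = ⁅commutator G, (⊤ : Subgroup G)⁆ := by
    rw [Subgroup.lowerCentralSeries_succ, Subgroup.top_lowerCentralSeries_one]
  rw [← h3, ← h2, Subgroup.lowerCentralSeries_eq_bot_iff_nilpotencyClass_le, Ne,
    Subgroup.lowerCentralSeries_eq_bot_iff_nilpotencyClass_le]
  omega

theorem pf_comm_ne_top [Finite G] {p : ℕ} [Fact p.Prime] (hG : Nat.card G = p ^ 4) :
    commutator G ≠ ⊤ := by
  have hp : p.Prime := Fact.out
  have hnil : Group.IsNilpotent G := (IsPGroup.of_card hG).isNilpotent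
  have hnt : Nontrivial G := by
    rw [← Finite.one_lt_card_iff_nontrivial, hG]
    exact Nat.one_lt_pow (by norm_num) hp.one_lt
  exact (Group.IsSolvable.commutator_lt_top_of_nontrivial (G := G)).ne

theorem pf_index_comm_ne_prime [Finite G] {p : ℕ} [Fact p.Prime] (hG : Nat.card G = p ^ 4) :
    (commutator G).index ≠ p := by
  have hp : p.Prime := Fact.out
  intro hidx
  have hGp : IsPGroup p G := IsPGroup.of_card hG
  have hex : ∃ g : G, g ∉ commutator G := by
    by_contra h
    have : commutator G = ⊤ := by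
      rw [eq_top_iff]
      intro g _
      by_contra hg
      exact h ⟨g, hg⟩
    exact pf_comm_ne_top hG this
  obtain ⟨g, hg⟩ := hex
  have hsup := cx_sup_eq_top_of_prime_index hp (commutator G) hidx hg
  have hfr : Subgroup.zpowers g ⊔ frattini G = ⊤ := by
    rw [eq_top_iff, ← hsup]
    exact sup_le_sup_left (pgroup_commutator_le_frattini hGp) _
  have hz : Subgroup.zpowers g = ⊤ := frattini_nongenerating hfr
  have hcomm : ∀ a b : G, a * b = b * a := by
    intro a b
    have ha : a ∈ Subgroup.zpowers g := by rw [hz]; exact Subgroup.mem_top a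
    have hb : b ∈ Subgroup.zpowers g := by rw [hz]; exact Subgroup.mem_top b
    obtain ⟨i, rfl⟩ := Subgroup.mem_zpowers_iff.mp ha
    obtain ⟨j, rfl⟩ := Subgroup.mem_zpowers_iff.mp hb
    rw [← zpow_add, ← zpow_add, add_comm]
  have hbot : commutator G = ⊥ := by
    rw [commutator_eq_bot_iff_center_eq_top, eq_top_iff]
    intro a _
    rw [Subgroup.mem_center_iff]
    intro b
    exact hcomm b a
  rw [hbot, Subgroup.index_bot, hG] at hidx
  have : p ^ 1 < p ^ 4 := Nat.pow_lt_pow_right hp.one_lt (by norm_num)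
  rw [pow_one] at this
  omega

theorem pf_class_three_of_index [Finite G] {p : ℕ} [Fact p.Prime] (hG : Nat.card G = p ^ 4)
    (hidx : (commutator G).index = p ^ 2) :
    ⁅⁅commutator G, (⊤ : Subgroup G)⁆, (⊤ : Subgroup G)⁆ = ⊥ ∧ ⁅commutator G, (⊤ : Subgroup G)⁆ ≠ ⊥ := by
  have hp : p.Prime := Fact.out
  have hGp : IsPGroup p G := IsPGroup.of_card hG
  have hnil : Group.IsNilpotent G := hGp.isNilpotent
  have hcard : Nat.card (commutator G) = p ^ 2 :=
    (pf_index_iff_card (a := 2) (b := 2) hp (commutator G) hG).mp hidx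
  have hp2 : 1 < p ^ 2 := Nat.one_lt_pow (by norm_num) hp.one_lt
  have hcne : commutator G ≠ ⊥ := by
    intro h
    rw [h, Subgroup.card_bot] at hcard
    omega
  have hZne : Subgroup.center G ≠ ⊤ := by
    intro h
    exact hcne ((commutator_eq_bot_iff_center_eq_top (G := G)).mpr h)
  constructor
  · rw [pf_comm_top_eq_bot_iff]
    have hle : ⁅commutator G, (⊤ : Subgroup G)⁆ ≤ commutator G := Subgroup.commutator_le_left _ _
    have hne : ⁅commutator G, (⊤ : Subgroup G)⁆ ≠ commutator G := by
      intro h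
      exact hcne (pf_eq_bot_of_comm_top_eq _ h)
    have hd : Nat.card (⁅commutator G, (⊤ : Subgroup G)⁆ : Subgroup G) ∣ p ^ 2 := by
      rw [← hcard]; exact Subgroup.card_dvd_of_le hle
    obtain ⟨k, hk2, hk⟩ := (Nat.dvd_prime_pow hp).mp hd
    have hk2' : k ≠ 2 := by
      intro h2
      apply hne
      exact Subgroup.eq_of_le_of_card_ge hle (by rw [hk, h2, hcard])
    rcases Nat.lt_or_ge k 1 with h0 | h1
    · have : k = 0 := by omega
      rw [this, pow_zero, Subgroup.card_eq_one] at hk
      rw [hk]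
      exact bot_le
    · have : k = 1 := by omega
      rw [this, pow_one] at hk
      exact pf_le_center_of_card_prime hGp _ hk
  · intro h
    rw [pf_comm_top_eq_bot_iff] at h
    have hd : p ^ 2 ∣ Nat.card (Subgroup.center G) := by
      rw [← hcard]; exact Subgroup.card_dvd_of_le h
    have hd4 : Nat.card (Subgroup.center G) ∣ p ^ 4 := by
      rw [← hG]; exact Subgroup.card_subgroup_dvd_card _
    obtain ⟨k, hk4, hk⟩ := (Nat.dvd_prime_pow hp).mp hd4
    have hk2 : 2 ≤ k := by
      rw [hk] at hd
      exact (Nat.pow_dvd_pow_iff_le_right hp.one_lt).mp hd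
    have hk4' : k ≠ 4 := by
      intro h4
      rw [h4, ← hG, Subgroup.card_eq_iff_eq_top] at hk
      exact hZne hk
    have hk3' : k ≠ 3 := by
      intro h3
      rw [h3] at hk
      have hi : (Subgroup.center G).index = p ^ 1 :=
        (pf_index_iff_card (a := 1) (b := 3) hp (Subgroup.center G) hG).mpr hk
      rw [pow_one] at hi
      have hcomm := pf_comm_of_central_index hp (Subgroup.center G) le_rfl (by rw [hi])
      apply hZne
      rw [eq_top_iff]
      intro a _
      rw [Subgroup.mem_center_iff]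
      intro b
      exact hcomm b a
    have : k = 2 := by omega
    rw [this] at hk
    have := pf_card_comm_of_card_center hG hk
    rw [hcard] at this
    have h5 : p ^ 1 < p ^ 2 := Nat.pow_lt_pow_right hp.one_lt (by norm_num)
    rw [pow_one] at h5
    omega

theorem pf_index_of_class_three [Finite G] {p : ℕ} [Fact p.Prime] (hG : Nat.card G = p ^ 4)
    (h3 : ⁅commutator G, (⊤ : Subgroup G)⁆ ≠ ⊥) : (commutator G).index = p ^ 2 := by
  have hp : p.Prime := Fact.out
  have hGp : IsPGroup p G := IsPGroup.of_card hG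
  rw [pf_index_iff_card (a := 2) (b := 2) hp (commutator G) hG]
  have hd4 : Nat.card (commutator G) ∣ p ^ 4 := by
    rw [← hG]; exact Subgroup.card_subgroup_dvd_card _
  obtain ⟨k, hk4, hk⟩ := (Nat.dvd_prime_pow hp).mp hd4
  have hk0 : k ≠ 0 := by
    intro h0
    rw [h0, pow_zero, Subgroup.card_eq_one] at hk
    apply h3
    rw [hk]
    exact Subgroup.commutator_bot_left _
  have hk1 : k ≠ 1 := by
    intro h1
    rw [h1, pow_one] at hk
    apply h3
    rw [pf_comm_top_eq_bot_iff]
    exact pf_le_center_of_card_prime hGp _ hk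
  have hk3 : k ≠ 3 := by
    intro h
    rw [h] at hk
    have hi : (commutator G).index = p ^ 1 :=
      (pf_index_iff_card (a := 1) (b := 3) hp (commutator G) hG).mpr hk
    rw [pow_one] at hi
    exact pf_index_comm_ne_prime hG hi
  have hk4' : k ≠ 4 := by
    intro h
    rw [h, ← hG, Subgroup.card_eq_iff_eq_top] at hk
    exact pf_comm_ne_top hG hk
  have : k = 2 := by omega
  rw [hk, this]

end Cfsg.Agent.Lib.Helper24
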