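import Mathlib
import Cfsg.Agent.Lib.helper7.BR.Defs
import Cfsg.Agent.Lib.helper2.CharNat
import Cfsg.Agent.Lib.helper7.Induction

set_option autoImplicit false
set_option linter.unusedVariables false
set_option linter.unusedSectionVars false
set_option linter.style.haveILetI false

namespace Cfsg.Agent.Lib.helper7.BR

open Classical
open Cfsg.Agent.Lib.Helper25

universe u

variable {G : Type u} [Group G] [Fintype G] {p : ℕ} [Fact p.Prime] {P : Sylow p G} {q t : ℕ}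
  {Xp Xm Y : Finset (Cfsg.IrrCharacter G)} {H : Subgroup G}

theorem brdec0_sum (B : Subgroup G) {n : ℕ} (ρ : Representation ℂ G (Fin n → ℂ)) :
    ∑ x : ↥B, ρ.character (x : G) = (Nat.card ↥B : ℂ) *
      (Module.finrank ℂ (Representation.invariants (ρ.comp B.subtype)) : ℂ) := by
  have hne : (Nat.card ↥B : ℂ) ≠ 0 := by exact_mod_cast Nat.card_pos.ne'
  haveI : Invertible (Nat.card ↥B : ℂ) := invertibleOfNonzero hne
  have h := Representation.card_inv_mul_sum_char_eq_finrank (ρ.comp B.subtype)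
  rw [← h, ← mul_assoc, mul_inv_cancel₀ hne, one_mul]
  rfl

theorem triv_mult_mono (A B : Subgroup G) (hAB : A ≤ B) (χ : G → ℂ) (hχ : Cfsg.IsCharacter G χ) :
    ∃ a b : ℕ, ∑ x : ↥B, χ (x : G) = (Nat.card ↥B : ℂ) * (a : ℂ) ∧
      ∑ x : ↥A, χ (x : G) = (Nat.card ↥A : ℂ) * (b : ℂ) ∧ a ≤ b := by
  obtain ⟨n, ρ, rfl⟩ := hχ
  refine ⟨_, _, brdec0_sum B ρ, brdec0_sum A ρ, ?_⟩
  apply Submodule.finrank_mono
  intro v hv
  rw [Representation.mem_invariants] at hv ⊢
  intro g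
  exact hv ⟨g.1, hAB g.2⟩


theorem brdec0_inner_perm (χ : G → ℂ) (hχ : Cfsg.IsCharacter G χ) (a : ℕ)
    (ha : ∑ x : ↥(nrm P), χ (x : G) = (Nat.card ↥(nrm P) : ℂ) * (a : ℂ)) :
    Cfsg.classInner (permChar P) χ = (a : ℂ) := by
  unfold permChar
  rw [h7_frobenius_reciprocity (nrm P) (fun _ => (1 : ℂ)) χ
    (Cfsg.Agent.Lib.helper2.isCharacter_isClassFunction hχ)]
  unfold Cfsg.classInner
  have hne : (Nat.card ↥(nrm P) : ℂ) ≠ 0 := by exact_mod_cast Nat.card_pos.ne'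
  have h1 : ∑ g : ↥(nrm P), (1 : ℂ) * (starRingEnd ℂ) (χ (g : G)) =
      (starRingEnd ℂ) (∑ g : ↥(nrm P), χ (g : G)) := by
    rw [map_sum]
    apply Finset.sum_congr rfl
    intro g _
    rw [one_mul]
  rw [h1, ha, map_mul, Complex.conj_natCast, Complex.conj_natCast, ← mul_assoc,
    inv_mul_cancel₀ hne, one_mul]

theorem inner_perm_Xm (hS : Setting p P q t) (hD : CharData p P q t Xp Xm Y)
    (χ : Cfsg.IrrCharacter G) (hχ : χ ∈ Xm) :
    Cfsg.classInner (permChar P) (χ : G → ℂ) = 0 := by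
  have hchar : Cfsg.IsCharacter G (χ : G → ℂ) := Cfsg.Agent.Lib.helper2.isCharacter_of_irr χ
  obtain ⟨a, b, ha, hb, hab⟩ := triv_mult_mono (P : Subgroup G) (nrm P) Subgroup.le_normalizer
    (χ : G → ℂ) hchar
  have hp1 : 1 ≤ p := hS.prime.pos
  have hval : ∀ x : ↥(P : Subgroup G), (χ : G → ℂ) (x : G) =
      (if x = 1 then (p : ℂ) else 0) - 1 := by
    intro x
    by_cases hx : x = 1
    · rw [if_pos hx, hx, Subgroup.coe_one, hD.deg_Xm χ hχ, Nat.cast_sub hp1, Nat.cast_one]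
    · rw [if_neg hx, zero_sub]
      apply hD.val_Xm χ hχ _ x.2
      intro h1
      exact hx (Subtype.ext h1)
  have hsum : ∑ x : ↥(P : Subgroup G), (χ : G → ℂ) (x : G) = 0 := by
    rw [Finset.sum_congr rfl (fun x _ => hval x), Finset.sum_sub_distrib, Finset.sum_ite_eq',
      if_pos (Finset.mem_univ _), Finset.sum_const, Finset.card_univ, nsmul_eq_mul, mul_one,
      Fintype.card_eq_nat_card, hS.cardP, sub_self]
  rw [hsum] at hb
  have hb0 : b = 0 := by
    have hne : (Nat.card ↥(P : Subgroup G) : ℂ) ≠ 0 := by exact_mod_cast Nat.card_pos.ne'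
    have := (mul_eq_zero.mp hb.symm).resolve_left hne
    exact_mod_cast this
  have ha0 : a = 0 := by omega
  rw [brdec0_inner_perm (χ : G → ℂ) hchar a ha, ha0, Nat.cast_zero]

end Cfsg.Agent.Lib.helper7.BR
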