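import Cfsg.Agent.Lib.Helper24.SigmaParity2
import Cfsg.Agent.Lib.Helper24.GaloisNorm
import Cfsg.Agent.Lib.Helper25.PrincipalDefect

set_option autoImplicit false
open scoped ComplexConjugate

namespace Cfsg.Agent.Lib.Helper24

open Cfsg.Agent.Lib.helper2 Cfsg.Agent.Lib.helper7 Cfsg.Agent.Lib.Helper11 Cfsg.Agent.Lib.Helper25

section sp3

theorem sp_char_pow_expansion {G : Type*} [Group G] [Finite G] {ψ : G → ℂ}
    (hψ : Cfsg.IsCharacter G ψ) (g : G) :
    ∃ (s : Finset ℂ) (c : ℂ → ℕ), (∀ z ∈ s, z ^ orderOf g = 1) ∧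
      ∀ k : ℕ, ψ (g ^ k) = ∑ z ∈ s, (c z : ℂ) * z ^ k := by
  classical
  set C := Subgroup.zpowers g with hC
  haveI : Fintype C := Fintype.ofFinite _
  haveI : Fintype (Cfsg.IrrCharacter C) := Fintype.ofFinite _
  have hres := isCharacter_restrict hψ C
  obtain ⟨m, -, hm⟩ := isCharacter_expansion hres
  let gC : C := ⟨g, Subgroup.mem_zpowers g⟩
  have hz : ∀ μ : Cfsg.IrrCharacter C, ((μ : C → ℂ) gC) ^ orderOf g = 1 := by
    intro μ
    have h1 := gn_irr_one_of_isMulCommutative μ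
    rw [← gn_irr_linear_pow μ h1]
    have : gC ^ orderOf g = 1 := by
      apply Subtype.ext
      push_cast
      exact pow_orderOf_eq_one g
    rw [this, h1]
  have hk : ∀ k : ℕ, ψ (g ^ k) = ∑ μ : Cfsg.IrrCharacter C, (m μ : ℂ) * ((μ : C → ℂ) gC) ^ k := by
    intro k
    have := congrFun hm (gC ^ k)
    simp only [Finset.sum_apply, Pi.smul_apply, smul_eq_mul] at this
    have h2 : ((gC ^ k : C) : G) = g ^ k := by push_cast; rfl
    rw [h2] at this
    rw [this]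
    apply Finset.sum_congr rfl
    intro μ _
    rw [gn_irr_linear_pow μ (gn_irr_one_of_isMulCommutative μ)]
  refine ⟨Finset.univ.image (fun μ : Cfsg.IrrCharacter C => (μ : C → ℂ) gC),
    fun z => ∑ μ ∈ Finset.univ.filter (fun μ : Cfsg.IrrCharacter C => (μ : C → ℂ) gC = z), m μ, ?_, ?_⟩
  · intro z hzs
    obtain ⟨μ, -, rfl⟩ := Finset.mem_image.mp hzs
    exact hz μ
  · intro k
    rw [hk k]
    rw [← Finset.sum_fiberwise_of_maps_to (s := Finset.univ)
      (t := Finset.univ.image (fun μ : Cfsg.IrrCharacter C => (μ : C → ℂ) gC))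
      (g := fun μ : Cfsg.IrrCharacter C => (μ : C → ℂ) gC)
      (fun μ _ => Finset.mem_image_of_mem _ (Finset.mem_univ μ))]
    apply Finset.sum_congr rfl
    intro z _
    push_cast
    rw [Finset.sum_mul]
    apply Finset.sum_congr rfl
    intro μ hμ
    rw [(Finset.mem_filter.mp hμ).2]

variable {G : Type*} [Group G] [Fintype G]

theorem sp_invol_cong (M : Ideal Cfsg.AlgInt) (hM : Cfsg.IsPModular 2 M)
    (χ : Cfsg.IrrCharacter G) (y : G) (hy : orderOf y = 2) :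
    Cfsg.MemLocalIdeal M ((χ : G → ℂ) 1 - conj ((χ : G → ℂ) y)) := by
  have hMp := hM.2.1.isPrime
  obtain ⟨s, c, hs, hk⟩ := sp_char_pow_expansion (isCharacter_of_irr χ) y
  have h0 := hk 0
  have h1 := hk 1
  rw [pow_zero] at h0
  rw [pow_one] at h1
  have hyinv : y⁻¹ = y := by
    have h2 : y ^ 2 = 1 := by
      rw [← hy]
      exact pow_orderOf_eq_one y
    rw [inv_eq_iff_mul_eq_one, ← pow_two, h2]
  rw [← rb_irr_inv, hyinv, h0, h1, ← Finset.sum_sub_distrib]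
  apply h7_memLocalIdeal_sum hMp
  intro z hz
  have hz2 : z ^ 2 = 1 := by
    rw [← hy]
    exact hs z hz
  have hz3 : z = 1 ∨ z = -1 := sq_eq_one_iff.mp hz2
  rw [pow_zero, pow_one, ← mul_sub]
  apply h7_memLocalIdeal_mul_left hMp
  · have : Cfsg.MemLocalRing M (((c z : ℕ) : Cfsg.AlgInt) : ℂ) := h7_memLocalRing_of_algInt hMp _
    simpa using this
  · rcases hz3 with h | h
    · rw [h, sub_self]
      exact h7_memLocalIdeal_zero hMp
    · rw [h]
      have h2 : Cfsg.MemLocalIdeal M ((2 : ℕ) : ℂ) := h7_memLocalIdeal_p hM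
      have e : (1 : ℂ) - -1 = ((2 : ℕ) : ℂ) := by norm_num
      rw [e]
      exact h2

theorem sp_two_dvd_of_mem (M : Ideal Cfsg.AlgInt) (hM : Cfsg.IsPModular 2 M) (n : ℕ)
    (h : Cfsg.MemLocalIdeal M (n : ℂ)) : Even n := by
  have hMp := hM.2.1.isPrime
  by_contra hne
  obtain ⟨m, hm⟩ := Nat.not_even_iff_odd.mp hne
  have h6 : Cfsg.MemLocalIdeal M (m • ((2 : ℕ) : ℂ)) :=
    h7_memLocalIdeal_nsmul hMp m (h7_memLocalIdeal_p hM)
  have h7 := h7_memLocalIdeal_sub hMp h h6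
  have e : ((n : ℕ) : ℂ) - m • ((2 : ℕ) : ℂ) = 1 := by
    rw [hm, nsmul_eq_mul]
    push_cast
    ring
  rw [e] at h7
  exact h7_not_memLocalIdeal_one hMp h7

theorem sp_card_even [Fintype (Cfsg.IrrCharacter G)] (M : Ideal Cfsg.AlgInt)
    (hM : Cfsg.IsPModular 2 M) (hev : Even (Nat.card G)) :
    Even (Nat.card {χ : Cfsg.IrrCharacter G // χ ∈ Cfsg.principalBlock M G ∧
      Odd (Cfsg.charDegree (χ : G → ℂ))}) := by
  classical
  haveI : Fact (Nat.Prime 2) := ⟨Nat.prime_two⟩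
  have hMp := hM.2.1.isPrime
  obtain ⟨y, hy⟩ := exists_prime_orderOf_dvd_card' 2 (even_iff_two_dvd.mp hev)
  have h1 := br_weak_orth hM (trivIrr G) 1 y (by rw [orderOf_one]; norm_num) (by rw [hy])
  rw [← pb_principal_eq] at h1
  set S := Finset.univ.filter (fun χ : Cfsg.IrrCharacter G => χ ∈ Cfsg.principalBlock M G) with hS
  rw [← Finset.sum_filter] at h1
  have h2 : Cfsg.MemLocalIdeal M (∑ χ ∈ S, (χ : G → ℂ) 1 * (χ : G → ℂ) 1) := by
    have e : ∑ χ ∈ S, (χ : G → ℂ) 1 * (χ : G → ℂ) 1 =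
        ∑ χ ∈ S, (χ : G → ℂ) 1 * ((χ : G → ℂ) 1 - conj ((χ : G → ℂ) y)) := by
      have e2 : ∑ χ ∈ S, (χ : G → ℂ) 1 * ((χ : G → ℂ) 1 - conj ((χ : G → ℂ) y)) =
          ∑ χ ∈ S, (χ : G → ℂ) 1 * (χ : G → ℂ) 1 -
            ∑ χ ∈ S, (χ : G → ℂ) 1 * conj ((χ : G → ℂ) y) := by
        rw [← Finset.sum_sub_distrib]
        refine Finset.sum_congr rfl fun χ _ => ?_
        ring
      rw [e2, h1, sub_zero]
    rw [e]
    apply h7_memLocalIdeal_sum hMp
    intro χ _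
    refine h7_memLocalIdeal_mul_left hMp ?_ (sp_invol_cong M hM χ y hy)
    rw [← (h7_charDegree_props χ).2.2]
    have : Cfsg.MemLocalRing M (((Cfsg.charDegree (χ : G → ℂ) : ℕ) : Cfsg.AlgInt) : ℂ) :=
      h7_memLocalRing_of_algInt hMp _
    simpa using this
  have h3 : ∑ χ ∈ S, (χ : G → ℂ) 1 * (χ : G → ℂ) 1 =
      ((∑ χ ∈ S, Cfsg.charDegree (χ : G → ℂ) * Cfsg.charDegree (χ : G → ℂ) : ℕ) : ℂ) := by
    push_cast
    refine Finset.sum_congr rfl fun χ _ => ?_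
    rw [(h7_charDegree_props χ).2.2]
  rw [h3] at h2
  have h4 := sp_two_dvd_of_mem M hM _ h2
  rw [Finset.even_sum_iff_even_card_odd] at h4
  have h5 : Nat.card {χ : Cfsg.IrrCharacter G // χ ∈ Cfsg.principalBlock M G ∧
      Odd (Cfsg.charDegree (χ : G → ℂ))} =
      (S.filter (fun χ : Cfsg.IrrCharacter G =>
        Odd (Cfsg.charDegree (χ : G → ℂ) * Cfsg.charDegree (χ : G → ℂ)))).card := by
    rw [Nat.card_eq_fintype_card, Fintype.card_subtype, hS, Finset.filter_filter]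
    congr 1
    ext χ
    simp only [Finset.mem_filter, Finset.mem_univ, true_and]
    rw [Nat.odd_mul, and_self]
  rw [h5]
  exact h4

end sp3

end Cfsg.Agent.Lib.Helper24
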