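import Mathlib
import Cfsg.Agent.Lib.Helper24.FSCount
import Cfsg.Agent.Lib.helper7.CharMul
import Cfsg.Agent.Lib.helper7.CharTools
import Cfsg.Agent.Lib.Helper11.LinChar

set_option autoImplicit false

namespace Cfsg.Agent.Lib.Helper24

open scoped ComplexConjugate

section AF1

variable {G : Type*} [Group G]

noncomputable def afLinRep (η : G →* ℂˣ) : Representation ℂ G (Fin 1 → ℂ) where
  toFun g := ((η g : ℂˣ) : ℂ) • LinearMap.id
  map_one' := by
    rw [map_one, Units.val_one, one_smul]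
    rfl
  map_mul' a b := by
    rw [map_mul, Units.val_mul]
    ext v i
    simp only [LinearMap.smul_apply, LinearMap.id_coe, id_eq, Module.End.mul_apply, Pi.smul_apply,
      smul_eq_mul, LinearMap.coe_comp, LinearMap.coe_single, Function.comp_apply]
    ring

theorem afLinRep_char (η : G →* ℂˣ) (g : G) : (afLinRep η).character g = ((η g : ℂˣ) : ℂ) := by
  unfold Representation.character afLinRep
  simp

noncomputable def afLin (η : G →* ℂˣ) : Cfsg.IrrCharacter G :=
  ⟨fun g => ((η g : ℂˣ) : ℂ), 1, afLinRep η,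
    Cfsg.Agent.Lib.Helper25.isIrreducible_of_finrank_eq_one _ (by simp), by
      funext g
      exact afLinRep_char η g⟩

theorem afLin_apply (η : G →* ℂˣ) (g : G) : (afLin η : G → ℂ) g = ((η g : ℂˣ) : ℂ) := rfl

theorem af_unit_conj [Finite G] (η : G →* ℂˣ) (g : G) :
    ((η g : ℂˣ) : ℂ) * conj ((η g : ℂˣ) : ℂ) = 1 := by
  rw [Cfsg.Agent.Lib.Helper11.linChar_conj, ← Units.val_mul, mul_inv_cancel, Units.val_one]

theorem af_smul_irr [Fintype G] (η : G →* ℂˣ) (χ : Cfsg.IrrCharacter G) :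
    Cfsg.IsIrrCharacter G (fun g => ((η g : ℂˣ) : ℂ) * (χ : G → ℂ) g) := by
  apply Cfsg.Agent.Lib.helper7.h7_irr_of_norm_one
  · exact Cfsg.Agent.Lib.helper7.h7_isCharacter_mul
      (Cfsg.Agent.Lib.helper2.isCharacter_of_irr (afLin η))
      (Cfsg.Agent.Lib.helper2.isCharacter_of_irr χ)
  · have h1 := Cfsg.Agent.Lib.helper7.h7_irr_norm χ.2
    unfold Cfsg.classInner at h1 ⊢
    rw [← h1]
    congr 1
    apply Finset.sum_congr rfl
    intro g _
    rw [map_mul]
    have := af_unit_conj η g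
    calc ((η g : ℂˣ) : ℂ) * (χ : G → ℂ) g * (conj ((η g : ℂˣ) : ℂ) * conj ((χ : G → ℂ) g))
        = (((η g : ℂˣ) : ℂ) * conj ((η g : ℂˣ) : ℂ)) * ((χ : G → ℂ) g * conj ((χ : G → ℂ) g)) := by ring
      _ = (χ : G → ℂ) g * conj ((χ : G → ℂ) g) := by rw [this, one_mul]

noncomputable def afSmul [Fintype G] (η : G →* ℂˣ) (χ : Cfsg.IrrCharacter G) : Cfsg.IrrCharacter G :=
  ⟨fun g => ((η g : ℂˣ) : ℂ) * (χ : G → ℂ) g, af_smul_irr η χ⟩

theorem afSmul_apply [Fintype G] (η : G →* ℂˣ) (χ : Cfsg.IrrCharacter G) (g : G) :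
    (afSmul η χ : G → ℂ) g = ((η g : ℂˣ) : ℂ) * (χ : G → ℂ) g := rfl

theorem afSmul_one [Fintype G] (χ : Cfsg.IrrCharacter G) : afSmul 1 χ = χ := by
  apply Subtype.ext
  funext g
  rw [afSmul_apply]
  simp

theorem afSmul_mul [Fintype G] (η μ : G →* ℂˣ) (χ : Cfsg.IrrCharacter G) :
    afSmul (η * μ) χ = afSmul η (afSmul μ χ) := by
  apply Subtype.ext
  funext g
  rw [afSmul_apply, afSmul_apply, afSmul_apply, MonoidHom.mul_apply, Units.val_mul, mul_assoc]

theorem afSmul_degree [Fintype G] (η : G →* ℂˣ) (χ : Cfsg.IrrCharacter G) :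
    Cfsg.charDegree (afSmul η χ : G → ℂ) = Cfsg.charDegree (χ : G → ℂ) := by
  unfold Cfsg.charDegree
  rw [afSmul_apply, map_one, Units.val_one, one_mul]

theorem afSmul_fsNu [Fintype G] (η : G →* ℂˣ) (hη : η * η = 1) (χ : Cfsg.IrrCharacter G) :
    fsNu (afSmul η χ) = fsNu χ := by
  unfold fsNu
  congr 1
  apply Finset.sum_congr rfl
  intro s _
  rw [afSmul_apply, map_mul]
  have : η s * η s = 1 := by
    have := congrArg (fun f => f s) hη
    simpa using this
  rw [this, Units.val_one, one_mul]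

theorem afSmul_fsEps [Fintype G] (η : G →* ℂˣ) (hη : η * η = 1) (χ : Cfsg.IrrCharacter G) :
    fsEps (afSmul η χ) = fsEps χ := by
  have h1 := fsEps_cast (afSmul η χ)
  have h2 := fsEps_cast χ
  rw [afSmul_fsNu η hη χ, ← h2] at h1
  exact_mod_cast h1

theorem afLin_fsNu [Fintype G] (η : G →* ℂˣ) [Decidable (η * η = 1)] :
    fsNu (afLin η) = if η * η = 1 then 1 else 0 := by
  unfold fsNu
  have h1 : ∀ s : G, (afLin η : G → ℂ) (s * s) = (((η * η) s : ℂˣ) : ℂ) := by
    intro s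
    rw [afLin_apply, map_mul, MonoidHom.mul_apply]
  simp only [h1]
  have hcard : (Nat.card G : ℂ) ≠ 0 := Nat.cast_ne_zero.mpr Nat.card_pos.ne'
  split_ifs with h
  · rw [h]
    simp only [MonoidHom.one_apply, Units.val_one, Finset.sum_const, Finset.card_univ, nsmul_eq_mul, mul_one]
    rw [Nat.card_eq_fintype_card] at hcard ⊢
    field_simp
  · rw [Cfsg.Agent.Lib.Helper11.sum_linChar_eq_zero _ h, mul_zero]

theorem afLin_fsEps [Fintype G] (η : G →* ℂˣ) [Decidable (η * η = 1)] :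
    fsEps (afLin η) = if η * η = 1 then 1 else 0 := by
  have h1 := fsEps_cast (afLin η)
  rw [afLin_fsNu] at h1
  split_ifs with h
  · rw [if_pos h] at h1; exact_mod_cast h1
  · rw [if_neg h] at h1; exact_mod_cast h1

theorem afLin_injective : Function.Injective (afLin (G := G)) := by
  intro η μ h
  ext g
  have := congrArg (fun χ : Cfsg.IrrCharacter G => (χ : G → ℂ) g) h
  simpa [afLin_apply] using this

theorem afLin_degree (η : G →* ℂˣ) : Cfsg.charDegree (afLin η : G → ℂ) = 1 := by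
  unfold Cfsg.charDegree
  rw [afLin_apply, map_one, Units.val_one]
  simp

theorem afLin_surj (χ : Cfsg.IrrCharacter G) (h : Cfsg.charDegree (χ : G → ℂ) = 1) :
    ∃ η : G →* ℂˣ, afLin η = χ := by
  have h1 : (χ : G → ℂ) 1 = 1 := by
    rw [← (Cfsg.Agent.Lib.Helper25.charDegree_irr χ).1, h]; simp
  refine ⟨Cfsg.Agent.Lib.Helper25.irrLinearHom χ h1, ?_⟩
  apply Subtype.ext
  funext g
  rw [afLin_apply, Cfsg.Agent.Lib.Helper25.irrLinearHom_apply]

end AF1

end Cfsg.Agent.Lib.Helper24
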