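import Mathlib
import Cfsg.Agent.Lib.Helper24.AFT1
import Cfsg.Agent.Lib.helper2.CharInt
import Cfsg.Agent.Lib.Helper25.CharBound

set_option autoImplicit false

namespace Cfsg.Agent.Lib.Helper24

open scoped ComplexConjugate

section AF2

variable {G : Type*} [Group G] [Fintype G]

theorem af_degree_pow (hG : IsPGroup 2 G) (χ : Cfsg.IrrCharacter G) :
    ∃ j : ℕ, Cfsg.charDegree (χ : G → ℂ) = 2 ^ j := by
  obtain ⟨n, _, h1, hdvd⟩ := Cfsg.Agent.Lib.helper2.irr_degree_dvd_card χ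
  have h2 := (Cfsg.Agent.Lib.Helper25.charDegree_irr χ).1
  rw [h1] at h2
  have h3 : Cfsg.charDegree (χ : G → ℂ) = n := by exact_mod_cast h2
  obtain ⟨k, hk⟩ := IsPGroup.iff_card.mp hG
  rw [hk] at hdvd
  obtain ⟨j, _, hj⟩ := (Nat.dvd_prime_pow Nat.prime_two).mp hdvd
  exact ⟨j, by rw [h3, hj]⟩

theorem af_mod_four [Fintype (Cfsg.IrrCharacter G)] (hG : IsPGroup 2 G) :
    ((Nat.card {x : G // orderOf x = 2} : ℤ) + 1) ≡
      (∑ χ : Cfsg.IrrCharacter G, (if Cfsg.charDegree (χ : G → ℂ) = 1 then fsEps χ else 0)) +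
      2 * (∑ χ : Cfsg.IrrCharacter G, (if Cfsg.charDegree (χ : G → ℂ) = 2 then fsEps χ else 0))
      [ZMOD 4] := by
  rw [fs_count_int, Finset.mul_sum, ← Finset.sum_add_distrib]
  apply Int.ModEq.symm
  rw [Int.modEq_iff_dvd, ← Finset.sum_sub_distrib]
  apply Finset.dvd_sum
  intro χ _
  obtain ⟨j, hj⟩ := af_degree_pow hG χ
  rw [hj]
  rcases j with _ | _ | j
  · simp
  · simp only [zero_add, pow_one, OfNat.ofNat_ne_one, if_false, if_true, mul_zero, zero_add]
    push_cast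
    exact ⟨0, by ring⟩
  · have h1 : (2 : ℕ) ^ (j + 1 + 1) ≠ 1 := by
      have : 4 ≤ 2 ^ (j + 1 + 1) := by
        calc 4 = 2 ^ 2 := by norm_num
          _ ≤ 2 ^ (j + 1 + 1) := Nat.pow_le_pow_right (by norm_num) (by omega)
      omega
    have h2 : (2 : ℕ) ^ (j + 1 + 1) ≠ 2 := by
      have : 4 ≤ 2 ^ (j + 1 + 1) := by
        calc 4 = 2 ^ 2 := by norm_num
          _ ≤ 2 ^ (j + 1 + 1) := Nat.pow_le_pow_right (by norm_num) (by omega)
      omega
    rw [if_neg h1, if_neg h2]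
    simp only [mul_zero, add_zero, sub_zero]
    push_cast
    rw [pow_succ, pow_succ]
    exact ⟨fsEps χ * 2 ^ j, by ring⟩

theorem af_sum_lin [Fintype (Cfsg.IrrCharacter G)] [Fintype (G →* ℂˣ)] [DecidableEq (G →* ℂˣ)] :
    (∑ χ : Cfsg.IrrCharacter G, (if Cfsg.charDegree (χ : G → ℂ) = 1 then fsEps χ else 0)) =
      ((Finset.univ.filter (fun η : G →* ℂˣ => η * η = 1)).card : ℤ) := by
  classical
  rw [← Finset.sum_filter]
  have himg : Finset.univ.filter (fun χ : Cfsg.IrrCharacter G => Cfsg.charDegree (χ : G → ℂ) = 1) =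
      Finset.univ.image (afLin (G := G)) := by
    ext χ
    simp only [Finset.mem_filter, Finset.mem_univ, true_and, Finset.mem_image]
    constructor
    · intro h
      exact afLin_surj χ h
    · rintro ⟨η, rfl⟩
      exact afLin_degree η
  rw [himg, Finset.sum_image (fun a _ b _ h => afLin_injective h)]
  simp only [afLin_fsEps]
  rw [Finset.sum_boole]

end AF2

section AF3

variable {G : Type*} [Group G]

theorem af_two_max [Finite G] (hG : IsPGroup 2 G) (hnc : ¬ IsCyclic G) :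
    ∃ M₁ M₂ : Subgroup G, M₁.index = 2 ∧ M₂.index = 2 ∧ M₁ ≠ M₂ := by
  haveI : Fact (Nat.Prime 2) := ⟨Nat.prime_two⟩
  obtain ⟨n, hn⟩ := IsPGroup.iff_card.mp hG
  have hn1 : 1 ≤ n := by
    by_contra h0
    have : n = 0 := by omega
    rw [this, pow_zero] at hn
    apply hnc
    haveI : Subsingleton G := (Nat.card_eq_one_iff_unique.mp hn).1
    exact isCyclic_of_subsingleton
  have hdvd : 2 ^ (n - 1) ∣ Nat.card G := by
    rw [hn]; exact pow_dvd_pow 2 (by omega)
  have hidx : ∀ K : Subgroup G, Nat.card K = 2 ^ (n - 1) → K.index = 2 := by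
    intro K hK
    have h1 := Subgroup.card_mul_index K
    rw [hK, hn] at h1
    have h2 : 2 ^ n = 2 ^ (n - 1) * 2 := by
      rw [← pow_succ]; congr 1; omega
    rw [h2] at h1
    exact Nat.eq_of_mul_eq_mul_left (by positivity) h1
  obtain ⟨M₁, hM₁⟩ := Sylow.exists_subgroup_card_pow_prime 2 hdvd
  have hM₁i := hidx M₁ hM₁
  have hM₁top : M₁ ≠ ⊤ := by
    intro h
    rw [h, Subgroup.index_top] at hM₁i
    omega
  obtain ⟨x, hx⟩ : ∃ x : G, x ∉ M₁ := by
    by_contra hall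
    push Not at hall
    exact hM₁top (eq_top_iff.mpr (fun x _ => hall x))
  obtain ⟨m, hm⟩ := IsPGroup.iff_card.mp (hG.to_subgroup (Subgroup.zpowers x))
  have hmn : m ≤ n - 1 := by
    by_contra hlt
    push Not at hlt
    have hle : Nat.card (Subgroup.zpowers x) ≤ Nat.card G := Subgroup.card_le_card_group _
    rw [hm, hn] at hle
    have hmn' : m ≤ n := (Nat.pow_le_pow_iff_right (by norm_num)).mp hle
    have hmeq : m = n := by omega
    apply hnc
    have htop : Subgroup.zpowers x = ⊤ := by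
      apply Subgroup.eq_top_of_card_eq
      rw [hm, hn, hmeq]
    refine ⟨x, fun y => ?_⟩
    have hy : y ∈ Subgroup.zpowers x := by rw [htop]; exact Subgroup.mem_top y
    exact hy
  obtain ⟨M₂, hM₂, hxM₂⟩ := Sylow.exists_subgroup_card_pow_prime_le 2 hdvd (Subgroup.zpowers x) hm hmn
  refine ⟨M₁, M₂, hM₁i, hidx M₂ hM₂, ?_⟩
  intro h
  apply hx
  rw [h]
  exact hxM₂ (Subgroup.mem_zpowers x)

noncomputable def afSign (M : Subgroup G) (hM : M.index = 2) : G →* ℂˣ where
  toFun g := by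
    classical
    exact if g ∈ M then 1 else -1
  map_one' := by
    simp [M.one_mem]
  map_mul' a b := by
    classical
    have h := Subgroup.mul_mem_iff_of_index_two hM (a := a) (b := b)
    by_cases ha : a ∈ M <;> by_cases hb : b ∈ M
    · have : a * b ∈ M := h.mpr ⟨fun _ => hb, fun _ => ha⟩
      simp [ha, hb, this]
    · have : a * b ∉ M := fun hab => hb ((h.mp hab).mp ha)
      simp [ha, hb, this]
    · have : a * b ∉ M := fun hab => ha ((h.mp hab).mpr hb)
      simp [ha, hb, this]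
    · have : a * b ∈ M := h.mpr ⟨fun h' => absurd h' ha, fun h' => absurd h' hb⟩
      simp [ha, hb, this]

theorem afSign_apply_mem (M : Subgroup G) (hM : M.index = 2) {g : G} (hg : g ∈ M) :
    afSign M hM g = 1 := by
  classical
  show (if g ∈ M then (1 : ℂˣ) else -1) = 1
  rw [if_pos hg]

theorem afSign_apply_not_mem (M : Subgroup G) (hM : M.index = 2) {g : G} (hg : g ∉ M) :
    afSign M hM g = -1 := by
  classical
  show (if g ∈ M then (1 : ℂˣ) else -1) = -1
  rw [if_neg hg]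

theorem af_neg_one_ne : (-1 : ℂˣ) ≠ 1 := by
  intro h
  have := congrArg Units.val h
  simp only [Units.val_neg, Units.val_one] at this
  norm_num at this

theorem afSign_sq (M : Subgroup G) (hM : M.index = 2) : afSign M hM * afSign M hM = 1 := by
  ext g
  rw [MonoidHom.mul_apply, MonoidHom.one_apply]
  by_cases hg : g ∈ M
  · rw [afSign_apply_mem M hM hg, mul_one]
  · rw [afSign_apply_not_mem M hM hg]; simp

theorem afSign_mem_iff (M : Subgroup G) (hM : M.index = 2) (g : G) :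
    afSign M hM g = 1 ↔ g ∈ M := by
  constructor
  · intro h
    by_contra hg
    rw [afSign_apply_not_mem M hM hg] at h
    exact af_neg_one_ne h
  · exact afSign_apply_mem M hM

def afA2 (G : Type*) [Group G] : Subgroup (G →* ℂˣ) where
  carrier := {η | η * η = 1}
  one_mem' := by simp
  mul_mem' := by
    intro a b ha hb
    show a * b * (a * b) = 1
    have ha' : a * a = 1 := ha
    have hb' : b * b = 1 := hb
    have ha'' : ∀ g, a g * a g = 1 := fun g => by
      have := congrArg (fun f : G →* ℂˣ => f g) ha'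
      simpa using this
    have hb'' : ∀ g, b g * b g = 1 := fun g => by
      have := congrArg (fun f : G →* ℂˣ => f g) hb'
      simpa using this
    ext g
    simp only [MonoidHom.mul_apply, MonoidHom.one_apply, Units.val_mul, Units.val_one]
    have h1 := congrArg Units.val (ha'' g)
    have h2 := congrArg Units.val (hb'' g)
    simp only [Units.val_mul, Units.val_one] at h1 h2
    calc ((a g : ℂˣ) : ℂ) * (b g : ℂˣ) * ((a g : ℂˣ) * (b g : ℂˣ))
        = (((a g : ℂˣ) : ℂ) * (a g : ℂˣ)) * (((b g : ℂˣ) : ℂ) * (b g : ℂˣ)) := by ring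
      _ = 1 := by rw [h1, h2, mul_one]
  inv_mem' := by
    intro a ha
    show a⁻¹ * a⁻¹ = 1
    have ha' : a * a = 1 := ha
    have ha'' : ∀ g, a g * a g = 1 := fun g => by
      have := congrArg (fun f : G →* ℂˣ => f g) ha'
      simpa using this
    ext g
    have h1 : (a g)⁻¹ * (a g)⁻¹ = 1 := by rw [← mul_inv, ha'' g, inv_one]
    have h2 := congrArg Units.val h1
    simpa using h2

theorem mem_afA2 (η : G →* ℂˣ) : η ∈ afA2 G ↔ η * η = 1 := Iff.rfl

theorem afA2_isPGroup : IsPGroup 2 ↥(afA2 G) := by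
  intro η
  refine ⟨1, ?_⟩
  apply Subtype.ext
  rw [pow_one, pow_two]
  exact η.2

theorem af_four_dvd [Finite G] (hG : IsPGroup 2 G) (hnc : ¬ IsCyclic G) :
    4 ∣ Nat.card ↥(afA2 G) := by
  classical
  obtain ⟨M₁, M₂, h1, h2, hne⟩ := af_two_max hG hnc
  obtain ⟨k, hk⟩ := IsPGroup.iff_card.mp (afA2_isPGroup (G := G))
  have hmem1 : afSign M₁ h1 ∈ afA2 G := afSign_sq M₁ h1
  have hmem2 : afSign M₂ h2 ∈ afA2 G := afSign_sq M₂ h2
  have hne1 : afSign M₁ h1 ≠ 1 := by
    intro h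
    have hM₁top : M₁ = ⊤ := by
      rw [eq_top_iff]
      intro g _
      rw [← afSign_mem_iff M₁ h1, h]; rfl
    rw [hM₁top, Subgroup.index_top] at h1
    omega
  have hne2 : afSign M₂ h2 ≠ 1 := by
    intro h
    have hM₂top : M₂ = ⊤ := by
      rw [eq_top_iff]
      intro g _
      rw [← afSign_mem_iff M₂ h2, h]; rfl
    rw [hM₂top, Subgroup.index_top] at h2
    omega
  have hne12 : afSign M₁ h1 ≠ afSign M₂ h2 := by
    intro h
    apply hne
    ext g
    rw [← afSign_mem_iff M₁ h1, ← afSign_mem_iff M₂ h2, h]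
  haveI : Finite ↥(afA2 G) := Finite.of_injective (fun x => (x : G →* ℂˣ)) Subtype.val_injective
  haveI := Fintype.ofFinite ↥(afA2 G)
  have h3 : ({⟨1, (afA2 G).one_mem⟩, ⟨afSign M₁ h1, hmem1⟩, ⟨afSign M₂ h2, hmem2⟩} :
      Finset ↥(afA2 G)).card = 3 := by
    rw [Finset.card_eq_three]
    refine ⟨_, _, _, ?_, ?_, ?_, rfl⟩
    · intro h; exact hne1 (congrArg Subtype.val h).symm
    · intro h; exact hne2 (congrArg Subtype.val h).symm
    · intro h; exact hne12 (congrArg Subtype.val h)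
  have h4 := Finset.card_le_univ ({⟨1, (afA2 G).one_mem⟩, ⟨afSign M₁ h1, hmem1⟩, ⟨afSign M₂ h2, hmem2⟩} :
      Finset ↥(afA2 G))
  rw [h3, ← Nat.card_eq_fintype_card, hk] at h4
  rw [hk]
  have hk2 : 2 ≤ k := by
    by_contra hlt
    have : k = 0 ∨ k = 1 := by omega
    rcases this with h | h <;> rw [h] at h4 <;> norm_num at h4
  calc 4 = 2 ^ 2 := by norm_num
    _ ∣ 2 ^ k := pow_dvd_pow 2 hk2

end AF3


section AF5

variable {G : Type*} [Group G] [Fintype G]

theorem af_sum_B (B : Subgroup (G →* ℂˣ)) [Fintype ↥B] (g : G)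
    (hg : ∃ β ∈ B, β g ≠ 1) : ∑ β : ↥B, (((β : G →* ℂˣ) g : ℂˣ) : ℂ) = 0 := by
  obtain ⟨β₀, hβ₀, hne⟩ := hg
  set S := ∑ β : ↥B, (((β : G →* ℂˣ) g : ℂˣ) : ℂ) with hS
  have h1 : S = ((β₀ g : ℂˣ) : ℂ) * S := by
    rw [hS, Finset.mul_sum]
    rw [← Equiv.sum_comp (Equiv.mulLeft (⟨β₀, hβ₀⟩ : ↥B))]
    apply Finset.sum_congr rfl
    intro β _
    simp only [Equiv.coe_mulLeft, Subgroup.coe_mul, MonoidHom.mul_apply, Units.val_mul]
  have h2 : (1 - ((β₀ g : ℂˣ) : ℂ)) * S = 0 := by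
    rw [sub_mul, one_mul, ← h1, sub_self]
  rcases mul_eq_zero.mp h2 with h | h
  · exfalso
    apply hne
    have : ((β₀ g : ℂˣ) : ℂ) = 1 := (sub_eq_zero.mp h).symm
    exact Units.ext this
  · exact h

theorem af_card_B_mul [DecidableEq G] (B : Subgroup (G →* ℂˣ)) [Fintype ↥B] [DecidableEq ↥B]
    (K : Finset G) (hK : ∀ g, g ∈ K ↔ ∀ β ∈ B, β g = 1) :
    Fintype.card ↥B * K.card = Fintype.card G := by
  have h1 : ∑ β : ↥B, ∑ g : G, (((β : G →* ℂˣ) g : ℂˣ) : ℂ) = (Fintype.card G : ℂ) := by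
    have : ∀ β : ↥B, ∑ g : G, (((β : G →* ℂˣ) g : ℂˣ) : ℂ) = if β = 1 then (Fintype.card G : ℂ) else 0 := by
      intro β
      split_ifs with h
      · rw [h]
        simp
      · apply Cfsg.Agent.Lib.Helper11.sum_linChar_eq_zero
        intro h'
        apply h
        exact Subtype.ext h'
    simp only [this]
    rw [Finset.sum_ite_eq' Finset.univ (1 : ↥B)]
    simp
  have h2 : ∑ g : G, ∑ β : ↥B, (((β : G →* ℂˣ) g : ℂˣ) : ℂ) =
      (Fintype.card ↥B : ℂ) * (K.card : ℂ) := by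
    have : ∀ g : G, ∑ β : ↥B, (((β : G →* ℂˣ) g : ℂˣ) : ℂ) =
        if g ∈ K then (Fintype.card ↥B : ℂ) else 0 := by
      intro g
      split_ifs with h
      · have hg := (hK g).mp h
        have : ∀ β : ↥B, (((β : G →* ℂˣ) g : ℂˣ) : ℂ) = 1 := by
          intro β
          rw [hg β β.2, Units.val_one]
        simp only [this]
        simp
      · apply af_sum_B
        by_contra hno
        push Not at hno
        exact h ((hK g).mpr hno)
    simp only [this]
    rw [Finset.sum_ite_mem, Finset.univ_inter, Finset.sum_const, nsmul_eq_mul, mul_comm]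
  rw [Finset.sum_comm, h2] at h1
  exact_mod_cast h1

theorem af_norm_sum (χ : Cfsg.IrrCharacter G) :
    ∑ g : G, ‖(χ : G → ℂ) g‖ ^ 2 = (Fintype.card G : ℝ) := by
  have h1 := Cfsg.Agent.Lib.helper7.h7_irr_norm χ.2
  unfold Cfsg.classInner at h1
  have hcard : (Nat.card G : ℂ) ≠ 0 := Nat.cast_ne_zero.mpr Nat.card_pos.ne'
  have h2 : ∑ g : G, (χ : G → ℂ) g * conj ((χ : G → ℂ) g) = (Nat.card G : ℂ) := by
    field_simp at h1
    exact h1
  have h3 : ∀ g : G, (χ : G → ℂ) g * conj ((χ : G → ℂ) g) = ((‖(χ : G → ℂ) g‖ ^ 2 : ℝ) : ℂ) := by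
    intro g
    rw [Complex.mul_conj']
    push_cast
    rfl
  simp only [h3] at h2
  rw [← Complex.ofReal_sum, Nat.card_eq_fintype_card] at h2
  exact_mod_cast h2

theorem af_stab_card_le [DecidableEq G] (χ : Cfsg.IrrCharacter G)
    (hdeg : Cfsg.charDegree (χ : G → ℂ) = 2)
    (B : Subgroup (G →* ℂˣ)) [Fintype ↥B] [DecidableEq ↥B]
    (hB : ∀ β ∈ B, afSmul β χ = χ) : Fintype.card ↥B ≤ 4 := by
  classical
  set K : Finset G := Finset.univ.filter (fun g => ∀ β ∈ B, β g = 1) with hKdef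
  have hK : ∀ g, g ∈ K ↔ ∀ β ∈ B, β g = 1 := by
    intro g
    rw [hKdef, Finset.mem_filter]
    simp
  have hcard := af_card_B_mul B K hK
  have hvanish : ∀ g, g ∉ K → (χ : G → ℂ) g = 0 := by
    intro g hg
    rw [hK] at hg
    push Not at hg
    obtain ⟨β, hβ, hne⟩ := hg
    have h1 := congrArg (fun ψ : Cfsg.IrrCharacter G => (ψ : G → ℂ) g) (hB β hβ)
    simp only [afSmul_apply] at h1
    have h2 : (((β g : ℂˣ) : ℂ) - 1) * (χ : G → ℂ) g = 0 := by
      rw [sub_mul, one_mul, h1, sub_self]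
    rcases mul_eq_zero.mp h2 with h | h
    · exfalso
      apply hne
      exact Units.ext (sub_eq_zero.mp h)
    · exact h
  have hone : (χ : G → ℂ) 1 = 2 := by
    rw [← (Cfsg.Agent.Lib.Helper25.charDegree_irr χ).1, hdeg]; norm_num
  have hbound : ∀ g, ‖(χ : G → ℂ) g‖ ^ 2 ≤ 4 := by
    intro g
    have h1 := Cfsg.Agent.Lib.Helper25.irr_norm_le χ g
    rw [hone] at h1
    have h2 : ‖(2 : ℂ)‖ = 2 := by simp
    rw [h2] at h1
    have h0 : 0 ≤ ‖(χ : G → ℂ) g‖ := norm_nonneg _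
    nlinarith
  have hsum := af_norm_sum χ
  have hsum2 : ∑ g : G, ‖(χ : G → ℂ) g‖ ^ 2 ≤ 4 * (K.card : ℝ) := by
    have h1 : ∑ g : G, ‖(χ : G → ℂ) g‖ ^ 2 = ∑ g ∈ K, ‖(χ : G → ℂ) g‖ ^ 2 := by
      symm
      apply Finset.sum_subset (Finset.subset_univ K)
      intro g _ hg
      rw [hvanish g hg]
      simp
    rw [h1]
    calc ∑ g ∈ K, ‖(χ : G → ℂ) g‖ ^ 2 ≤ ∑ _g ∈ K, (4 : ℝ) := Finset.sum_le_sum (fun g _ => hbound g)
      _ = 4 * (K.card : ℝ) := by rw [Finset.sum_const, nsmul_eq_mul, mul_comm]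
  rw [hsum] at hsum2
  have hKpos : 0 < K.card := by
    apply Finset.card_pos.mpr
    refine ⟨1, (hK 1).mpr ?_⟩
    intro β _
    exact map_one β
  have h5 : (Fintype.card ↥B : ℝ) * (K.card : ℝ) ≤ 4 * (K.card : ℝ) := by
    have : ((Fintype.card ↥B * K.card : ℕ) : ℝ) = (Fintype.card G : ℝ) := by rw [hcard]
    push_cast at this
    rw [this]
    exact hsum2
  have hKpos' : (0 : ℝ) < (K.card : ℝ) := by exact_mod_cast hKpos
  have h6 : (Fintype.card ↥B : ℝ) ≤ 4 := le_of_mul_le_mul_right h5 hKpos'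
  exact_mod_cast h6

end AF5

theorem af_card_hom {G : Type*} [Group G] [Finite G] :
    Nat.card (G →* ℂˣ) = (commutator G).index := by
  rw [Nat.card_congr (Abelianization.lift (G := G) (A := ℂˣ))]
  rw [CommGroup.card_monoidHom_of_hasEnoughRootsOfUnity (Abelianization G) ℂ]
  rw [Subgroup.index_eq_card]
  rfl

end Cfsg.Agent.Lib.Helper24
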