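import Mathlib
import Cfsg.Agent.Lib.helper7.BR.Defs
import Cfsg.Agent.Lib.Helper29.AbFrobDual

set_option autoImplicit false
set_option linter.unusedVariables false
set_option linter.unusedSectionVars false
set_option linter.style.haveILetI false

namespace Cfsg.Agent.Lib.helper7.BR

open Classical
open Cfsg.Agent.Lib.Helper25
open scoped ComplexConjugate

universe u

variable {G : Type u} [Group G] [Fintype G] {p : ℕ} [Fact p.Prime] {P : Sylow p G} {q t : ℕ}
  {Xp Xm Y : Finset (Cfsg.IrrCharacter G)} {H : Subgroup G}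

theorem brmu_comm (hS : Setting p P q t) (a b : ↥(nrm P)) :
    ((b * a)⁻¹ * (a * b) : ↥(nrm P)) ∈ (P : Subgroup G).subgroupOf (nrm P) := by
  have hcycP : IsCyclic ↥(P : Subgroup G) := isCyclic_of_prime_card hS.cardP
  have hcommA : ∀ x y : MulAut ↥(P : Subgroup G), x * y = y * x := by
    intro x y
    apply (IsCyclic.mulAutMulEquiv ↥(P : Subgroup G)).injective
    rw [map_mul, map_mul, mul_comm]
  have hk : ((b * a)⁻¹ * (a * b) : ↥(nrm P)) ∈ (P : Subgroup G).normalizerMonoidHom.ker := by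
    rw [MonoidHom.mem_ker, map_mul, map_inv, map_mul, map_mul]
    have hc : (P : Subgroup G).normalizerMonoidHom a * (P : Subgroup G).normalizerMonoidHom b =
        (P : Subgroup G).normalizerMonoidHom b * (P : Subgroup G).normalizerMonoidHom a :=
      hcommA _ _
    rw [hc, inv_mul_cancel]
  rw [Subgroup.normalizerMonoidHom_ker] at hk
  rw [Subgroup.mem_subgroupOf] at hk ⊢
  have : (((b * a)⁻¹ * (a * b) : ↥(nrm P)) : G) ∈ cen P := hk
  rwa [hS.cent] at this

theorem brmu_sum_sub (χ : G → ℂ) :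
    ∑ x : ↥(nrm P), (if (x : G) ∈ (P : Subgroup G) then χ (x : G) else 0) =
      ∑ y : ↥(P : Subgroup G), χ (y : G) := by
  symm
  apply Fintype.sum_of_injective (Subgroup.inclusion (Subgroup.le_normalizer (H := (P : Subgroup G))))
    (Subgroup.inclusion_injective _)
  · intro x hx
    rw [if_neg]
    intro hxP
    apply hx
    exact ⟨⟨(x : G), hxP⟩, Subtype.ext rfl⟩
  · intro y
    rw [if_pos]
    · rfl
    · exact y.2

theorem exists_linear_constituent (hS : Setting p P q t) (χ : G → ℂ) (hχ : Cfsg.IsCharacter G χ)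
    (hne : ∑ x : ↥(P : Subgroup G), χ (x : G) ≠ 0) :
    ∃ μ : ↥(nrm P) →* ℂˣ, (∀ x : ↥(nrm P), (x : G) ∈ (P : Subgroup G) → μ x = 1) ∧
      Cfsg.classInner (fun h : ↥(nrm P) => χ (h : G)) (fun h : ↥(nrm P) => ((μ h : ℂˣ) : ℂ)) ≠ 0 := by
  haveI hnorm : ((P : Subgroup G).subgroupOf (nrm P)).Normal := Subgroup.normal_in_normalizer
  set W := ↥(nrm P) ⧸ (P : Subgroup G).subgroupOf (nrm P) with hW
  have hcomm : ∀ a b : W, a * b = b * a := by
    intro a b
    obtain ⟨a, rfl⟩ := QuotientGroup.mk_surjective a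
    obtain ⟨b, rfl⟩ := QuotientGroup.mk_surjective b
    rw [← QuotientGroup.mk_mul, ← QuotientGroup.mk_mul]
    symm
    rw [QuotientGroup.eq]
    exact brmu_comm hS a b
  haveI : Finite (W →* ℂˣ) := Nat.finite_of_card_ne_zero (by
    rw [Cfsg.Agent.Lib.Helper29.afd_card_dual hcomm]
    exact Nat.card_pos.ne')
  haveI : Fintype (W →* ℂˣ) := Fintype.ofFinite _
  set π := QuotientGroup.mk' ((P : Subgroup G).subgroupOf (nrm P)) with hπ
  by_contra hcon
  push Not at hcon
  have hall : ∀ η : W →* ℂˣ,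
      Cfsg.classInner (fun h : ↥(nrm P) => χ (h : G))
        (fun h : ↥(nrm P) => (((η.comp π) h : ℂˣ) : ℂ)) = 0 := by
    intro η
    apply hcon
    intro x hx
    have : π x = 1 := by
      rw [hπ, QuotientGroup.mk'_apply, QuotientGroup.eq_one_iff, Subgroup.mem_subgroupOf]
      exact hx
    rw [MonoidHom.comp_apply, this, map_one]
  have hsum : ∑ η : W →* ℂˣ, Cfsg.classInner (fun h : ↥(nrm P) => χ (h : G))
      (fun h : ↥(nrm P) => (((η.comp π) h : ℂˣ) : ℂ)) = 0 :=
    Finset.sum_eq_zero (fun η _ => hall η)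
  unfold Cfsg.classInner at hsum
  rw [← Finset.mul_sum, Finset.sum_comm] at hsum
  have h1 : ∀ x : ↥(nrm P), ∑ η : W →* ℂˣ, χ (x : G) * conj ((((η.comp π) x : ℂˣ) : ℂ)) =
      if (x : G) ∈ (P : Subgroup G) then (Nat.card W : ℂ) * χ (x : G) else 0 := by
    intro x
    rw [← Finset.mul_sum]
    have h2 : ∀ η : W →* ℂˣ, conj ((((η.comp π) x : ℂˣ) : ℂ)) = ((η (π x)⁻¹ : ℂˣ) : ℂ) :=
      fun η => Cfsg.Agent.Lib.Helper29.afd_conj η (π x)
    simp only [h2]
    rw [Cfsg.Agent.Lib.Helper29.afd_sum_chars hcomm]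
    have h3 : (π x)⁻¹ = 1 ↔ (x : G) ∈ (P : Subgroup G) := by
      rw [inv_eq_one, hπ, QuotientGroup.mk'_apply, QuotientGroup.eq_one_iff, Subgroup.mem_subgroupOf]
    by_cases hx : (x : G) ∈ (P : Subgroup G)
    · rw [if_pos (h3.mpr hx), if_pos hx, mul_comm]
    · rw [if_neg (fun h => hx (h3.mp h)), if_neg hx, mul_zero]
  rw [Finset.sum_congr rfl (fun x _ => h1 x)] at hsum
  have h4 : ∑ x : ↥(nrm P), (if (x : G) ∈ (P : Subgroup G) then (Nat.card W : ℂ) * χ (x : G) else 0) =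
      (Nat.card W : ℂ) * ∑ y : ↥(P : Subgroup G), χ (y : G) := by
    rw [← brmu_sum_sub (P := P) χ, Finset.mul_sum]
    apply Finset.sum_congr rfl
    intro x _
    by_cases hx : (x : G) ∈ (P : Subgroup G)
    · rw [if_pos hx, if_pos hx]
    · rw [if_neg hx, if_neg hx, mul_zero]
  rw [h4] at hsum
  have hN : (Nat.card ↥(nrm P) : ℂ)⁻¹ ≠ 0 := by
    apply inv_ne_zero
    exact_mod_cast Nat.card_pos.ne'
  have hWne : (Nat.card W : ℂ) ≠ 0 := by exact_mod_cast Nat.card_pos.ne'
  rcases mul_eq_zero.mp hsum with h | h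
  · exact hN h
  · rcases mul_eq_zero.mp h with h | h
    · exact hWne h
    · exact hne h

end Cfsg.Agent.Lib.helper7.BR
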