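import Mathlib

set_option autoImplicit false

namespace Cfsg.Agent.Lib.Helper24

section KF1
variable {G : Type*} [Group G]

structure KFData (J : G) (P O : Subgroup G) : Prop where
  hJ : orderOf J = 2
  hJP : J ∈ P
  hPcard : Nat.card P = 4
  hPsq : ∀ x ∈ P, x * x = 1
  hOC : ∀ o ∈ O, o * J = J * o
  hOnorm : ∀ c : G, c * J = J * c → ∀ o ∈ O, c * o * c⁻¹ ∈ O
  hOodd : Odd (Nat.card O)
  hdecomp : ∀ c : G, c * J = J * c → ∃ o ∈ O, ∃ x ∈ P, c = o * x
  hoddmem : ∀ c : G, c * J = J * c → Odd (orderOf c) → c ∈ O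

variable {J : G} {P O : Subgroup G}

theorem KFData.JJ (h : KFData J P O) : J * J = 1 := by
  rw [← pow_two, ← h.hJ, pow_orderOf_eq_one]

theorem KFData.Pcomm (h : KFData J P O) {x y : G} (hx : x ∈ P) (hy : y ∈ P) : x * y = y * x := by
  have h1 := h.hPsq x hx
  have h2 := h.hPsq y hy
  have h3 := h.hPsq (x * y) (P.mul_mem hx hy)
  calc x * y = x * (x * y * (x * y)) * y := by rw [h3, mul_one]
    _ = (x * x) * y * x * (y * y) := by group
    _ = y * x := by rw [h1, h2, one_mul, mul_one]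

theorem KFData.PJ (h : KFData J P O) {x : G} (hx : x ∈ P) : x * J = J * x :=
  h.Pcomm hx h.hJP

theorem KFData.inv_eq (h : KFData J P O) {x : G} (hx : x ∈ P) : x⁻¹ = x :=
  inv_eq_of_mul_eq_one_right (h.hPsq x hx)

theorem KFData.OP_bot [Finite G] (h : KFData J P O) {x : G} (hxO : x ∈ O) (hxP : x ∈ P) : x = 1 := by
  have h1 : orderOf x ∣ 2 := orderOf_dvd_of_pow_eq_one (by rw [pow_two]; exact h.hPsq x hxP)
  have h2 : orderOf x ∣ Nat.card O := by
    have := orderOf_dvd_natCard (⟨x, hxO⟩ : O)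
    rwa [Subgroup.orderOf_mk] at this
  have h3 : Nat.Coprime 2 (Nat.card O) := Nat.coprime_two_left.mpr h.hOodd
  have : orderOf x = 1 := Nat.eq_one_of_dvd_coprimes h3 h1 h2
  exact orderOf_eq_one_iff.mp this

theorem KFData.sOs (h : KFData J P O) {s : G} (hs : s ∈ P) {o : G} (ho : o ∈ O) :
    s * o * s⁻¹ ∈ O := h.hOnorm s (h.PJ hs) o ho

theorem KFData.inv_form [Finite G] (h : KFData J P O) {s : G} (hs : s ∈ P) {x : G} (hxx : x * x = 1)
    (hxs : x * s⁻¹ ∈ O) : ∃ w ∈ O, x = w * s * w⁻¹ := by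
  set o := x * s⁻¹ with ho
  have hss : s * s = 1 := h.hPsq s hs
  have hsinv : s⁻¹ = s := h.inv_eq hs
  have hx : x = o * s := by rw [ho, inv_mul_cancel_right]
  have hinv : s * o * s⁻¹ = o⁻¹ := by
    have h1 : o * s * (o * s) = 1 := by rw [← hx]; exact hxx
    have h2 : s * o * s = o⁻¹ := by
      have : o * (s * o * s) = 1 := by
        calc o * (s * o * s) = o * s * (o * s) := by group
          _ = 1 := h1
      exact eq_inv_of_mul_eq_one_right this
    rw [hsinv]; exact h2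
  have hodd : Odd (orderOf o) := by
    have h2 : orderOf o ∣ Nat.card O := by
      have := orderOf_dvd_natCard (⟨o, hxs⟩ : O)
      rwa [Subgroup.orderOf_mk] at this
    exact Odd.of_dvd_nat h.hOodd h2
  obtain ⟨k, hk⟩ := hodd
  set w := o ^ (k + 1) with hw
  have hw2 : w * w = o := by
    rw [hw, ← pow_add]
    have : k + 1 + (k + 1) = orderOf o + 1 := by omega
    rw [this, pow_succ, pow_orderOf_eq_one, one_mul]
  have hwinv : s * w * s⁻¹ = w⁻¹ := by
    rw [hw, ← conj_pow, hinv, inv_pow]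
  refine ⟨w, O.pow_mem hxs _, ?_⟩
  have h3 : s * w⁻¹ * s⁻¹ = w := by
    have := congrArg (fun t => t⁻¹) hwinv
    simp only [mul_inv_rev, inv_inv] at this
    rw [← mul_assoc] at this
    exact this
  calc x = o * s := hx
    _ = w * w * s := by rw [hw2]
    _ = w * (s * w⁻¹ * s⁻¹) * s := by rw [h3]
    _ = w * s * w⁻¹ := by group

end KF1

end Cfsg.Agent.Lib.Helper24
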