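import Mathlib
import Cfsg.Agent.Lib.Helper24.KleinOrder1

set_option autoImplicit false

namespace Cfsg.Agent.Lib.Helper24

section KF2
variable {G : Type*} [Group G] [Fintype G] [DecidableEq G]
variable {J : G} {P O : Subgroup G}

open Classical in
noncomputable def kfInv (O : Subgroup G) (s : G) : Finset G :=
  Finset.univ.filter (fun x => x * x = 1 ∧ x * s⁻¹ ∈ O)

open Classical in
noncomputable def kfCent (O : Subgroup G) (s : G) : Finset G :=
  Finset.univ.filter (fun c => c ∈ O ∧ c * s = s * c)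

open Classical in
noncomputable def kfO (O : Subgroup G) : Finset G := Finset.univ.filter (fun o => o ∈ O)

omit [DecidableEq G] in
theorem kfO_card (O : Subgroup G) : (kfO O).card = Nat.card O := by
  classical
  unfold kfO
  rw [Nat.card_eq_fintype_card, Fintype.card_subtype]

theorem KFData.card_inv (h : KFData J P O) {s : G} (hs : s ∈ P) :
    (kfInv O s).card * (kfCent O s).card = Nat.card O := by
  classical
  rw [← kfO_card]
  have hmaps : ∀ o ∈ kfO O, o * s * o⁻¹ ∈ kfInv O s := by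
    intro o ho
    have hoO : o ∈ O := (Finset.mem_filter.mp ho).2
    unfold kfInv
    rw [Finset.mem_filter]
    refine ⟨Finset.mem_univ _, ?_, ?_⟩
    · calc o * s * o⁻¹ * (o * s * o⁻¹) = o * (s * s) * o⁻¹ := by group
        _ = 1 := by rw [h.hPsq s hs]; group
    · have : o * s * o⁻¹ * s⁻¹ = o * (s * o⁻¹ * s⁻¹) := by group
      rw [this]
      exact O.mul_mem hoO (h.sOs hs (O.inv_mem hoO))
  rw [Finset.card_eq_sum_card_fiberwise hmaps]
  have hfib : ∀ x ∈ kfInv O s,
      ((kfO O).filter (fun o => o * s * o⁻¹ = x)).card = (kfCent O s).card := by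
    intro x hx
    obtain ⟨-, hxx, hxs⟩ := Finset.mem_filter.mp hx
    obtain ⟨w, hwO, rfl⟩ := h.inv_form hs hxx hxs
    have : (kfO O).filter (fun o => o * s * o⁻¹ = w * s * w⁻¹) =
        (kfCent O s).image (fun c => w * c) := by
      ext o
      simp only [kfO, kfCent, Finset.mem_filter, Finset.mem_univ, true_and, Finset.mem_image]
      constructor
      · rintro ⟨hoO, ho⟩
        refine ⟨w⁻¹ * o, ⟨O.mul_mem (O.inv_mem hwO) hoO, ?_⟩, by group⟩
        have : w⁻¹ * (o * s * o⁻¹) * w = s := by rw [ho]; group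
        calc w⁻¹ * o * s = (w⁻¹ * (o * s * o⁻¹) * w) * (w⁻¹ * o) := by group
          _ = s * (w⁻¹ * o) := by rw [this]
      · rintro ⟨c, ⟨hcO, hc⟩, rfl⟩
        refine ⟨O.mul_mem hwO hcO, ?_⟩
        calc w * c * s * (w * c)⁻¹ = w * (c * s) * c⁻¹ * w⁻¹ := by group
          _ = w * (s * c) * c⁻¹ * w⁻¹ := by rw [hc]
          _ = w * s * w⁻¹ := by group
    rw [this, Finset.card_image_of_injective _ (mul_right_injective w)]
  rw [Finset.sum_congr rfl hfib, Finset.sum_const, smul_eq_mul]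

omit [DecidableEq G] in
theorem KFData.P_elems (h : KFData J P O) {s : G} (hs : s ∈ P) (hs1 : s ≠ 1) (hsJ : s ≠ J)
    {x : G} (hx : x ∈ P) : x = 1 ∨ x = J ∨ x = s ∨ x = s * J := by
  classical
  by_contra hcon
  push Not at hcon
  obtain ⟨h1, h2, h3, h4⟩ := hcon
  have hJ1 : J ≠ 1 := by
    intro hJ
    have := h.hJ
    rw [hJ, orderOf_one] at this
    omega
  have hJJ := h.JJ
  have hsub : ({1, J, s, s * J, x} : Finset G) ⊆ kfO P := by
    intro y hy
    simp only [Finset.mem_insert, Finset.mem_singleton] at hy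
    unfold kfO
    rw [Finset.mem_filter]
    refine ⟨Finset.mem_univ _, ?_⟩
    rcases hy with rfl | rfl | rfl | rfl | rfl
    · exact P.one_mem
    · exact h.hJP
    · exact hs
    · exact P.mul_mem hs h.hJP
    · exact hx
  have hcard : ({1, J, s, s * J, x} : Finset G).card = 5 := by
    have e1 : s * J ≠ 1 := by
      intro he
      have : s = J := by
        calc s = s * (J * J) := by rw [hJJ, mul_one]
          _ = (s * J) * J := by group
          _ = J := by rw [he, one_mul]
      exact hsJ this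
    have e2 : s * J ≠ J := by
      intro he
      exact hs1 (by simpa using he)
    have e3 : s * J ≠ s := by
      intro he
      exact hJ1 (by simpa using he)
    rw [Finset.card_insert_of_notMem, Finset.card_insert_of_notMem, Finset.card_insert_of_notMem,
      Finset.card_insert_of_notMem, Finset.card_singleton]
    · simp only [Finset.mem_singleton]; exact fun he => h4 he.symm
    · simp only [Finset.mem_insert, Finset.mem_singleton, not_or]
      exact ⟨fun he => e3 he.symm, fun he => h3 he.symm⟩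
    · simp only [Finset.mem_insert, Finset.mem_singleton, not_or]
      exact ⟨fun he => hsJ he.symm, fun he => e2 he.symm, fun he => h2 he.symm⟩
    · simp only [Finset.mem_insert, Finset.mem_singleton, not_or]
      exact ⟨fun he => hJ1 he.symm, fun he => hs1 he.symm, fun he => e1 he.symm,
        fun he => h1 he.symm⟩
  have := Finset.card_le_card hsub
  rw [hcard, kfO_card, h.hPcard] at this
  omega

theorem KFData.card_centP (h : KFData J P O) {s : G} (hs : s ∈ P) (hs1 : s ≠ 1) (hsJ : s ≠ J) :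
    Nat.card (Subgroup.centralizer (P : Set G)) = 4 * (kfCent O s).card := by
  classical
  rw [← kfO_card, ← h.hPcard, ← kfO_card, mul_comm, ← Finset.card_product]
  symm
  apply Finset.card_bij (fun (p : G × G) _ => p.1 * p.2)
  · rintro ⟨o, x⟩ hp
    rw [Finset.mem_product] at hp
    obtain ⟨ho, hx⟩ := hp
    obtain ⟨-, hoO, hos⟩ := Finset.mem_filter.mp ho
    have hxP : x ∈ P := (Finset.mem_filter.mp hx).2
    unfold kfO
    rw [Finset.mem_filter]
    refine ⟨Finset.mem_univ _, ?_⟩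
    rw [Subgroup.mem_centralizer_iff]
    intro y hy
    have hoy : y * o = o * y := by
      rcases h.P_elems hs hs1 hsJ hy with rfl | rfl | rfl | rfl
      · simp
      · exact (h.hOC o hoO).symm
      · exact hos.symm
      · have e1 := h.hOC o hoO
        calc s * J * o = s * (J * o) := by group
          _ = s * (o * J) := by rw [e1]
          _ = (s * o) * J := by group
          _ = (o * s) * J := by rw [hos]
          _ = o * (s * J) := by group
    have hxy : y * x = x * y := h.Pcomm hy hxP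
    calc y * (o * x) = (y * o) * x := by group
      _ = (o * y) * x := by rw [hoy]
      _ = o * (y * x) := by group
      _ = o * (x * y) := by rw [hxy]
      _ = o * x * y := by group
  · rintro ⟨o, x⟩ hp ⟨o', x'⟩ hp' heq
    rw [Finset.mem_product] at hp hp'
    obtain ⟨ho, hx⟩ := hp
    obtain ⟨ho', hx'⟩ := hp'
    obtain ⟨-, hoO, -⟩ := Finset.mem_filter.mp ho
    obtain ⟨-, hoO', -⟩ := Finset.mem_filter.mp ho'
    have hxP : x ∈ P := (Finset.mem_filter.mp hx).2
    have hxP' : x' ∈ P := (Finset.mem_filter.mp hx').2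
    simp only at heq
    have hk : o'⁻¹ * o = x' * x⁻¹ := by
      calc o'⁻¹ * o = o'⁻¹ * (o * x) * x⁻¹ := by group
        _ = o'⁻¹ * (o' * x') * x⁻¹ := by rw [heq]
        _ = x' * x⁻¹ := by group
    have hkO : o'⁻¹ * o ∈ O := O.mul_mem (O.inv_mem hoO') hoO
    have hkP : o'⁻¹ * o ∈ P := by rw [hk]; exact P.mul_mem hxP' (P.inv_mem hxP)
    have h1 := h.OP_bot hkO hkP
    have ho : o = o' := by
      have : o = o' * (o'⁻¹ * o) := by group
      rw [this, h1, mul_one]
    have hx2 : x = x' := by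
      rw [h1] at hk
      have : x' = (x' * x⁻¹) * x := by group
      rw [this, ← hk, one_mul]
    rw [ho, hx2]
  · intro g hg
    have hgc : g ∈ Subgroup.centralizer (P : Set G) := (Finset.mem_filter.mp hg).2
    rw [Subgroup.mem_centralizer_iff] at hgc
    have hgJ : g * J = J * g := (hgc J h.hJP).symm
    obtain ⟨o, hoO, x, hxP, rfl⟩ := h.hdecomp g hgJ
    refine ⟨(o, x), ?_, rfl⟩
    rw [Finset.mem_product]
    refine ⟨?_, ?_⟩
    · unfold kfCent
      rw [Finset.mem_filter]
      refine ⟨Finset.mem_univ _, hoO, ?_⟩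
      have h1 := hgc s hs
      have h2 : s * x = x * s := h.Pcomm hs hxP
      calc o * s = o * (s * x) * x⁻¹ := by group
        _ = o * (x * s) * x⁻¹ := by rw [h2]
        _ = (o * x * s) * x⁻¹ := by group
        _ = (s * (o * x)) * x⁻¹ := by rw [h1]
        _ = s * o := by group
    · unfold kfO
      rw [Finset.mem_filter]
      exact ⟨Finset.mem_univ _, hxP⟩

omit [DecidableEq G] in
theorem KFData.O_sq (h : KFData J P O) {o : G} (ho : o ∈ O) (hoo : o * o = 1) : o = 1 := by
  have h1 : orderOf o ∣ 2 := orderOf_dvd_of_pow_eq_one (by rw [pow_two]; exact hoo)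
  have h2 : orderOf o ∣ Nat.card O := by
    have := orderOf_dvd_natCard (⟨o, ho⟩ : O)
    rwa [Subgroup.orderOf_mk] at this
  have h3 : Nat.Coprime 2 (Nat.card O) := Nat.coprime_two_left.mpr h.hOodd
  have : orderOf o = 1 := Nat.eq_one_of_dvd_coprimes h3 h1 h2
  exact orderOf_eq_one_iff.mp this

theorem KFData.card_C (h : KFData J P O) :
    Nat.card (Subgroup.centralizer ({J} : Set G)) = 4 * Nat.card O := by
  classical
  rw [← kfO_card, ← h.hPcard, ← kfO_card, ← kfO_card, mul_comm, ← Finset.card_product]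
  symm
  apply Finset.card_bij (fun (p : G × G) _ => p.1 * p.2)
  · rintro ⟨o, x⟩ hp
    rw [Finset.mem_product] at hp
    obtain ⟨ho, hx⟩ := hp
    have hoO : o ∈ O := (Finset.mem_filter.mp ho).2
    have hxP : x ∈ P := (Finset.mem_filter.mp hx).2
    unfold kfO
    rw [Finset.mem_filter]
    refine ⟨Finset.mem_univ _, ?_⟩
    rw [Subgroup.mem_centralizer_singleton_iff]
    have e1 := h.hOC o hoO
    have e2 := h.PJ hxP
    calc o * x * J = o * (x * J) := by group
      _ = o * (J * x) := by rw [e2]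
      _ = (o * J) * x := by group
      _ = (J * o) * x := by rw [e1]
      _ = J * (o * x) := by group
  · rintro ⟨o, x⟩ hp ⟨o', x'⟩ hp' heq
    rw [Finset.mem_product] at hp hp'
    obtain ⟨ho, hx⟩ := hp
    obtain ⟨ho', hx'⟩ := hp'
    have hoO : o ∈ O := (Finset.mem_filter.mp ho).2
    have hoO' : o' ∈ O := (Finset.mem_filter.mp ho').2
    have hxP : x ∈ P := (Finset.mem_filter.mp hx).2
    have hxP' : x' ∈ P := (Finset.mem_filter.mp hx').2
    simp only at heq
    have hk : o'⁻¹ * o = x' * x⁻¹ := by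
      calc o'⁻¹ * o = o'⁻¹ * (o * x) * x⁻¹ := by group
        _ = o'⁻¹ * (o' * x') * x⁻¹ := by rw [heq]
        _ = x' * x⁻¹ := by group
    have hkO : o'⁻¹ * o ∈ O := O.mul_mem (O.inv_mem hoO') hoO
    have hkP : o'⁻¹ * o ∈ P := by rw [hk]; exact P.mul_mem hxP' (P.inv_mem hxP)
    have h1 := h.OP_bot hkO hkP
    have ho : o = o' := by
      have : o = o' * (o'⁻¹ * o) := by group
      rw [this, h1, mul_one]
    have hx2 : x = x' := by
      rw [h1] at hk
      have : x' = (x' * x⁻¹) * x := by group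
      rw [this, ← hk, one_mul]
    rw [ho, hx2]
  · intro g hg
    have hgc : g ∈ Subgroup.centralizer ({J} : Set G) := (Finset.mem_filter.mp hg).2
    rw [Subgroup.mem_centralizer_singleton_iff] at hgc
    obtain ⟨o, hoO, x, hxP, rfl⟩ := h.hdecomp g hgc
    refine ⟨(o, x), ?_, rfl⟩
    rw [Finset.mem_product]
    unfold kfO
    exact ⟨Finset.mem_filter.mpr ⟨Finset.mem_univ _, hoO⟩,
      Finset.mem_filter.mpr ⟨Finset.mem_univ _, hxP⟩⟩

open Classical in
noncomputable def kfPairs (O : Subgroup G) (J : G) : Finset (G × G) :=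
  Finset.univ.filter (fun p => p.1 * p.1 = 1 ∧ p.1 ≠ 1 ∧ p.2 * p.2 = 1 ∧ p.2 ≠ 1 ∧
    J⁻¹ * (p.1 * p.2) ∈ O)

omit [DecidableEq G] [Fintype G] in
theorem KFData.J_pow_odd (h : KFData J P O) {m : ℕ} (hm : Odd m) : J ^ m = J := by
  obtain ⟨k, rfl⟩ := hm
  rw [pow_succ, pow_mul, pow_two, h.JJ, one_pow, one_mul]

omit [DecidableEq G] in
theorem KFData.comm_of_pair (h : KFData J P O) {t t' : G} (ht : t * t = 1) (ht' : t' * t' = 1)
    (hO : J⁻¹ * (t * t') ∈ O) : t * J = J * t ∧ t' * J = J * t' := by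
  set ρ := J⁻¹ * (t * t') with hρ
  have hprod : t * t' = J * ρ := by rw [hρ]; group
  have hρJ : ρ * J = J * ρ := h.hOC ρ hO
  have hodd : Odd (orderOf ρ) := by
    have h2 : orderOf ρ ∣ Nat.card O := by
      have := orderOf_dvd_natCard (⟨ρ, hO⟩ : O)
      rwa [Subgroup.orderOf_mk] at this
    exact Odd.of_dvd_nat h.hOodd h2
  set m := orderOf ρ with hm
  have hpow : (t * t') ^ m = J := by
    have hc : Commute J ρ := hρJ.symm
    rw [hprod, hc.mul_pow, hm, pow_orderOf_eq_one, mul_one, h.J_pow_odd hodd]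
  have htinv : t⁻¹ = t := inv_eq_of_mul_eq_one_right ht
  have ht'inv : t'⁻¹ = t' := inv_eq_of_mul_eq_one_right ht'
  have hconj : t * (t * t') * t⁻¹ = (t * t')⁻¹ := by
    rw [mul_inv_rev, htinv, ht'inv]
    calc t * (t * t') * t = (t * t) * t' * t := by group
      _ = t' * t := by rw [ht, one_mul]
  have hconjm : t * (t * t') ^ m * t⁻¹ = ((t * t') ^ m)⁻¹ := by
    rw [← conj_pow, hconj, inv_pow]
  rw [hpow] at hconjm
  have hJinv : J⁻¹ = J := inv_eq_of_mul_eq_one_right h.JJ
  rw [hJinv] at hconjm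
  have htJ : t * J = J * t := by
    calc t * J = (t * J * t⁻¹) * t := by group
      _ = J * t := by rw [hconjm]
  refine ⟨htJ, ?_⟩
  have ht'eq : t' = t * (J * ρ) := by
    rw [← hprod]
    calc t' = (t * t) * t' := by rw [ht, one_mul]
      _ = t * (t * t') := by group
  rw [ht'eq]
  calc t * (J * ρ) * J = t * J * (ρ * J) := by group
    _ = t * J * (J * ρ) := by rw [hρJ]
    _ = (t * J) * J * ρ := by group
    _ = (J * t) * J * ρ := by rw [htJ]
    _ = J * (t * (J * ρ)) := by group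

theorem KFData.pairs_eq (h : KFData J P O) {s : G} (hs : s ∈ P) (hs1 : s ≠ 1) (hsJ : s ≠ J) :
    kfPairs O J = (kfInv O s ×ˢ kfInv O (s * J)) ∪ (kfInv O (s * J) ×ˢ kfInv O s) := by
  classical
  have hJJ := h.JJ
  have hJinv : J⁻¹ = J := inv_eq_of_mul_eq_one_right hJJ
  have hsinv : s⁻¹ = s := h.inv_eq hs
  have hsJP : s * J ∈ P := P.mul_mem hs h.hJP
  have hsJinv : (s * J)⁻¹ = s * J := h.inv_eq hsJP
  have hsO : ∀ x ∈ P, x ≠ 1 → x ∉ O := fun x hx hx1 hxO => hx1 (h.OP_bot hxO hx)
  have hJ1 : J ≠ 1 := by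
    intro hJ
    have := h.hJ
    rw [hJ, orderOf_one] at this
    omega
  have hfwd : ∀ (a b : G), a ∈ P → b ∈ P → a ≠ 1 → b ≠ 1 → a * b = J →
      ∀ t ∈ kfInv O a, ∀ t' ∈ kfInv O b, (t, t') ∈ kfPairs O J := by
    intro a b ha hb ha1 hb1 hab t ht t' ht'
    obtain ⟨-, htt, hta⟩ := Finset.mem_filter.mp ht
    obtain ⟨-, htt', htb⟩ := Finset.mem_filter.mp ht'
    unfold kfPairs
    rw [Finset.mem_filter]
    refine ⟨Finset.mem_univ _, htt, ?_, htt', ?_, ?_⟩
    · rintro rfl
      rw [one_mul] at hta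
      exact hsO a⁻¹ (P.inv_mem ha) (by simpa using ha1) hta
    · rintro rfl
      rw [one_mul] at htb
      exact hsO b⁻¹ (P.inv_mem hb) (by simpa using hb1) htb
    · show J⁻¹ * (t * t') ∈ O
      have e : J⁻¹ * (t * t') =
          J⁻¹ * ((t * a⁻¹) * (a * (t' * b⁻¹) * a⁻¹)) * J * (J⁻¹ * (a * b)) := by group
      rw [e, hab, inv_mul_cancel, mul_one]
      have h1 : (t * a⁻¹) * (a * (t' * b⁻¹) * a⁻¹) ∈ O :=
        O.mul_mem hta (h.sOs ha htb)
      have := h.hOnorm J⁻¹ (by rw [hJinv]) _ h1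
      rwa [inv_inv] at this
  ext ⟨t, t'⟩
  constructor
  · intro hp
    obtain ⟨-, htt, ht1, htt', ht'1, hO⟩ := Finset.mem_filter.mp hp
    simp only at htt ht1 htt' ht'1 hO
    obtain ⟨htJ, ht'J⟩ := h.comm_of_pair htt htt' hO
    obtain ⟨o₁, ho₁, x₁, hx₁, rfl⟩ := h.hdecomp t htJ
    obtain ⟨o₂, ho₂, x₂, hx₂, rfl⟩ := h.hdecomp t' ht'J
    have hx₁1 : x₁ ≠ 1 := by
      rintro rfl
      rw [mul_one] at htt ht1
      exact ht1 (h.O_sq ho₁ htt)
    have hx₂1 : x₂ ≠ 1 := by
      rintro rfl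
      rw [mul_one] at htt' ht'1
      exact ht'1 (h.O_sq ho₂ htt')
    have hprod : x₁ * x₂ = J := by
      have e : J⁻¹ * (o₁ * x₁ * (o₂ * x₂)) =
          (J⁻¹ * (o₁ * (x₁ * o₂ * x₁⁻¹)) * J) * (J⁻¹ * (x₁ * x₂)) := by group
      rw [e] at hO
      have h1 : J⁻¹ * (o₁ * (x₁ * o₂ * x₁⁻¹)) * J ∈ O := by
        have := h.hOnorm J⁻¹ (by rw [hJinv]) _ (O.mul_mem ho₁ (h.sOs hx₁ ho₂))
        rwa [inv_inv] at this
      have h2 : J⁻¹ * (x₁ * x₂) ∈ O := by
        have := O.mul_mem (O.inv_mem h1) hO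
        rwa [inv_mul_cancel_left] at this
      have h3 : J⁻¹ * (x₁ * x₂) ∈ P := P.mul_mem (P.inv_mem h.hJP) (P.mul_mem hx₁ hx₂)
      have h4 := h.OP_bot h2 h3
      calc x₁ * x₂ = J * (J⁻¹ * (x₁ * x₂)) := by group
        _ = J := by rw [h4, mul_one]
    have hx₁J : x₁ ≠ J := by
      rintro rfl
      apply hx₂1
      calc x₂ = x₁⁻¹ * (x₁ * x₂) := by group
        _ = 1 := by rw [hprod, inv_mul_cancel]
    have hx₂eq : x₂ = x₁ * J := by
      have hx₁inv : x₁⁻¹ = x₁ := h.inv_eq hx₁
      calc x₂ = x₁⁻¹ * (x₁ * x₂) := by group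
        _ = x₁ * J := by rw [hprod, hx₁inv]
    have hmem1 : o₁ * x₁ ∈ kfInv O x₁ := by
      unfold kfInv
      rw [Finset.mem_filter]
      exact ⟨Finset.mem_univ _, htt, by rw [mul_inv_cancel_right]; exact ho₁⟩
    have hmem2 : ∀ y : G, x₂ = y → o₂ * x₂ ∈ kfInv O y := by
      rintro y rfl
      unfold kfInv
      rw [Finset.mem_filter]
      exact ⟨Finset.mem_univ _, htt', by rw [mul_inv_cancel_right]; exact ho₂⟩
    rw [Finset.mem_union, Finset.mem_product, Finset.mem_product]
    rcases h.P_elems hs hs1 hsJ hx₁ with rfl | rfl | rfl | rfl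
    · exact absurd rfl hx₁1
    · exact absurd rfl hx₁J
    · left
      exact ⟨hmem1, hmem2 _ hx₂eq⟩
    · right
      have : x₂ = s := by
        rw [hx₂eq]
        calc s * J * J = s * (J * J) := by group
          _ = s := by rw [hJJ, mul_one]
      exact ⟨hmem1, hmem2 _ this⟩
  · intro hp
    rw [Finset.mem_union, Finset.mem_product, Finset.mem_product] at hp
    have hsJ1 : s * J ≠ 1 := by
      intro he
      apply hsJ
      calc s = s * (J * J) := by rw [hJJ, mul_one]
        _ = (s * J) * J := by group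
        _ = J := by rw [he, one_mul]
    rcases hp with ⟨h1, h2⟩ | ⟨h1, h2⟩
    · refine hfwd s (s * J) hs hsJP hs1 hsJ1 ?_ t h1 t' h2
      calc s * (s * J) = (s * s) * J := by group
        _ = J := by rw [h.hPsq s hs, one_mul]
    · refine hfwd (s * J) s hsJP hs hsJ1 hs1 ?_ t h1 t' h2
      have := h.PJ hs
      calc s * J * s = s * (J * s) := by group
        _ = s * (s * J) := by rw [this]
        _ = (s * s) * J := by group
        _ = J := by rw [h.hPsq s hs, one_mul]

theorem KFData.card_pairs (h : KFData J P O) {s : G} (hs : s ∈ P) (hs1 : s ≠ 1) (hsJ : s ≠ J) :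
    (kfPairs O J).card * (Nat.card (Subgroup.centralizer (P : Set G))) ^ 2 =
      2 * (4 * Nat.card O) ^ 2 := by
  classical
  have hJJ := h.JJ
  have hJ1 : J ≠ 1 := by
    intro hJ
    have := h.hJ
    rw [hJ, orderOf_one] at this
    omega
  have hsJP : s * J ∈ P := P.mul_mem hs h.hJP
  have hsJ1 : s * J ≠ 1 := by
    intro he
    apply hsJ
    calc s = s * (J * J) := by rw [hJJ, mul_one]
      _ = (s * J) * J := by group
      _ = J := by rw [he, one_mul]
  have hsJJ : s * J ≠ J := by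
    intro he
    exact hs1 (by simpa using he)
  rw [h.pairs_eq hs hs1 hsJ]
  have hdisj : Disjoint (kfInv O s ×ˢ kfInv O (s * J)) (kfInv O (s * J) ×ˢ kfInv O s) := by
    rw [Finset.disjoint_left]
    rintro ⟨t, t'⟩ h1 h2
    rw [Finset.mem_product] at h1 h2
    obtain ⟨-, -, e1⟩ := Finset.mem_filter.mp h1.1
    obtain ⟨-, -, e2⟩ := Finset.mem_filter.mp h2.1
    have h3 : (t * s⁻¹)⁻¹ * (t * (s * J)⁻¹) ∈ O := O.mul_mem (O.inv_mem e1) e2
    have h4 : (t * s⁻¹)⁻¹ * (t * (s * J)⁻¹) = s * J⁻¹ * s⁻¹ := by group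
    rw [h4] at h3
    have h5 : s * J⁻¹ * s⁻¹ ∈ P := P.mul_mem (P.mul_mem hs (P.inv_mem h.hJP)) (P.inv_mem hs)
    have h6 := h.OP_bot h3 h5
    apply hJ1
    have : J⁻¹ = 1 := by
      calc J⁻¹ = s⁻¹ * (s * J⁻¹ * s⁻¹) * s := by group
        _ = 1 := by rw [h6]; group
    exact inv_eq_one.mp this
  rw [Finset.card_union_of_disjoint hdisj, Finset.card_product, Finset.card_product]
  have ha := h.card_inv hs
  have hb := h.card_inv hsJP
  have hc1 := h.card_centP hs hs1 hsJ
  have hc2 := h.card_centP hsJP hsJ1 hsJJ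
  set a := (kfInv O s).card
  set b := (kfInv O (s * J)).card
  set c1 := (kfCent O s).card
  set c2 := (kfCent O (s * J)).card
  set N := Nat.card (Subgroup.centralizer (P : Set G))
  set n := Nat.card O
  have e1 : a * N = 4 * n := by rw [hc1, ← ha]; ring
  have e2 : b * N = 4 * n := by rw [hc2, ← hb]; ring
  calc (a * b + b * a) * N ^ 2 = 2 * ((a * N) * (b * N)) := by ring
    _ = 2 * (4 * n) ^ 2 := by rw [e1, e2]; ring

end KF2

end Cfsg.Agent.Lib.Helper24
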