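import Mathlib
import Cfsg.Agent.Lib.Helper24.KleinOrder2

set_option autoImplicit false

namespace Cfsg.Agent.Lib.Helper24

section KF3
variable {G : Type*} [Group G] [Fintype G] [DecidableEq G]
variable {J : G} {P O : Subgroup G}

theorem kf_fiber_card (J t : G) (hex : ∃ a : G, a * J * a⁻¹ = t) :
    (Finset.univ.filter (fun a : G => a * J * a⁻¹ = t)).card =
      Nat.card (Subgroup.centralizer ({J} : Set G)) := by
  classical
  obtain ⟨a₀, rfl⟩ := hex
  rw [← kfO_card]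
  symm
  apply Finset.card_bij (fun c _ => a₀ * c)
  · intro c hc
    have hcC : c ∈ Subgroup.centralizer ({J} : Set G) := (Finset.mem_filter.mp hc).2
    rw [Subgroup.mem_centralizer_singleton_iff] at hcC
    rw [Finset.mem_filter]
    refine ⟨Finset.mem_univ _, ?_⟩
    calc a₀ * c * J * (a₀ * c)⁻¹ = a₀ * (c * J) * c⁻¹ * a₀⁻¹ := by group
      _ = a₀ * (J * c) * c⁻¹ * a₀⁻¹ := by rw [hcC]
      _ = a₀ * J * a₀⁻¹ := by group
  · intro c _ c' _ he
    exact mul_left_cancel he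
  · intro a ha
    have haJ : a * J * a⁻¹ = a₀ * J * a₀⁻¹ := (Finset.mem_filter.mp ha).2
    refine ⟨a₀⁻¹ * a, ?_, by group⟩
    unfold kfO
    rw [Finset.mem_filter]
    refine ⟨Finset.mem_univ _, ?_⟩
    rw [Subgroup.mem_centralizer_singleton_iff]
    calc a₀⁻¹ * a * J = a₀⁻¹ * (a * J * a⁻¹) * a := by group
      _ = a₀⁻¹ * (a₀ * J * a₀⁻¹) * a := by rw [haJ]
      _ = J * (a₀⁻¹ * a) := by group

open Classical in
theorem KFData.sum_D (h : KFData J P O)
    (hconj : ∀ t : G, t * t = 1 → t ≠ 1 → ∃ a : G, a * J * a⁻¹ = t) :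
    ∑ y : G, (Finset.univ.filter
      (fun g : G => J⁻¹ * (g⁻¹ * (y * J * y⁻¹ * J) * g) ∈ O)).card =
      (Nat.card (Subgroup.centralizer ({J} : Set G))) ^ 2 * (kfPairs O J).card := by
  classical
  have hJJ := h.JJ
  have hJ1 : J ≠ 1 := by
    intro hJ
    have := h.hJ
    rw [hJ, orderOf_one] at this
    omega
  simp_rw [Finset.card_filter]
  rw [← Fintype.sum_prod_type']
  let e : G × G ≃ G × G :=
    { toFun := fun p => (p.2⁻¹ * p.1, p.2⁻¹)
      invFun := fun p => (p.2⁻¹ * p.1, p.2⁻¹)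
      left_inv := fun p => by simp
      right_inv := fun p => by simp }
  rw [← Equiv.sum_comp e]
  have hstep : ∀ p : G × G,
      (if J⁻¹ * ((e p).2⁻¹ * ((e p).1 * J * (e p).1⁻¹ * J) * (e p).2) ∈ O then 1 else 0) =
      if (p.1 * J * p.1⁻¹, p.2 * J * p.2⁻¹) ∈ kfPairs O J then 1 else 0 := by
    intro p
    have e1 : (e p).2⁻¹ * ((e p).1 * J * (e p).1⁻¹ * J) * (e p).2 =
        (p.1 * J * p.1⁻¹) * (p.2 * J * p.2⁻¹) := by
      show (p.2⁻¹)⁻¹ * ((p.2⁻¹ * p.1) * J * (p.2⁻¹ * p.1)⁻¹ * J) * p.2⁻¹ = _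
      group
    rw [e1]
    have hiff : J⁻¹ * ((p.1 * J * p.1⁻¹) * (p.2 * J * p.2⁻¹)) ∈ O ↔
        (p.1 * J * p.1⁻¹, p.2 * J * p.2⁻¹) ∈ kfPairs O J := by
      unfold kfPairs
      rw [Finset.mem_filter]
      have hsq : ∀ a : G, a * J * a⁻¹ * (a * J * a⁻¹) = 1 := by
        intro a
        calc a * J * a⁻¹ * (a * J * a⁻¹) = a * (J * J) * a⁻¹ := by group
          _ = 1 := by rw [hJJ]; group
      have hne : ∀ a : G, a * J * a⁻¹ ≠ 1 := by
        intro a he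
        apply hJ1
        calc J = a⁻¹ * (a * J * a⁻¹) * a := by group
          _ = 1 := by rw [he]; group
      constructor
      · intro hO
        exact ⟨Finset.mem_univ _, hsq _, hne _, hsq _, hne _, hO⟩
      · rintro ⟨-, -, -, -, -, hO⟩
        exact hO
    by_cases hc : J⁻¹ * ((p.1 * J * p.1⁻¹) * (p.2 * J * p.2⁻¹)) ∈ O
    · rw [if_pos hc, if_pos (hiff.mp hc)]
    · rw [if_neg hc, if_neg (fun hh => hc (hiff.mpr hh))]
  rw [Finset.sum_congr rfl (fun p _ => hstep p), ← Finset.card_filter]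
  have hmaps : ∀ p ∈ Finset.univ.filter
      (fun p : G × G => (p.1 * J * p.1⁻¹, p.2 * J * p.2⁻¹) ∈ kfPairs O J),
      (fun p : G × G => (p.1 * J * p.1⁻¹, p.2 * J * p.2⁻¹)) p ∈ kfPairs O J := by
    intro p hp
    exact (Finset.mem_filter.mp hp).2
  rw [Finset.card_eq_sum_card_fiberwise hmaps]
  have hfib : ∀ q ∈ kfPairs O J,
      ((Finset.univ.filter (fun p : G × G =>
        (p.1 * J * p.1⁻¹, p.2 * J * p.2⁻¹) ∈ kfPairs O J)).filter
        (fun p => (p.1 * J * p.1⁻¹, p.2 * J * p.2⁻¹) = q)).card =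
      (Nat.card (Subgroup.centralizer ({J} : Set G))) ^ 2 := by
    rintro ⟨t, t'⟩ hq
    obtain ⟨-, htt, ht1, htt', ht'1, -⟩ := Finset.mem_filter.mp hq
    have : (Finset.univ.filter (fun p : G × G =>
        (p.1 * J * p.1⁻¹, p.2 * J * p.2⁻¹) ∈ kfPairs O J)).filter
        (fun p => (p.1 * J * p.1⁻¹, p.2 * J * p.2⁻¹) = (t, t')) =
        (Finset.univ.filter (fun a : G => a * J * a⁻¹ = t)) ×ˢ
          (Finset.univ.filter (fun a : G => a * J * a⁻¹ = t')) := by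
      ext ⟨a, b⟩
      simp only [Finset.mem_filter, Finset.mem_univ, true_and, Finset.mem_product, Prod.mk.injEq]
      constructor
      · rintro ⟨-, h1, h2⟩
        exact ⟨h1, h2⟩
      · rintro ⟨h1, h2⟩
        refine ⟨?_, h1, h2⟩
        rw [h1, h2]
        exact hq
    rw [this, Finset.card_product, kf_fiber_card J t (hconj t htt ht1),
      kf_fiber_card J t' (hconj t' htt' ht'1), pow_two]
  rw [Finset.sum_congr rfl hfib, Finset.sum_const, smul_eq_mul, mul_comm]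

open Classical in
theorem KFData.D_val (h : KFData J P O) (σ : G)
    (hex : ∃ g : G, J⁻¹ * (g⁻¹ * σ * g) ∈ O) :
    (Finset.univ.filter (fun g : G => J⁻¹ * (g⁻¹ * σ * g) ∈ O)).card =
      Nat.card (Subgroup.centralizer ({J} : Set G)) := by
  obtain ⟨g₀, hg₀⟩ := hex
  have hJJ := h.JJ
  have hJinv : J⁻¹ = J := inv_eq_of_mul_eq_one_right hJJ
  rw [← kfO_card]
  symm
  have hpowJ : ∀ ρ ∈ O, ∀ m : ℕ, Odd m → ρ ^ m = 1 → (J * ρ) ^ m = J := by
    intro ρ hρ m hm hρm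
    have hc : Commute J ρ := (h.hOC ρ hρ).symm
    rw [hc.mul_pow, hρm, mul_one, h.J_pow_odd hm]
  have hOodd : ∀ ρ ∈ O, Odd (orderOf ρ) := by
    intro ρ hρ
    have h2 : orderOf ρ ∣ Nat.card O := by
      have := orderOf_dvd_natCard (⟨ρ, hρ⟩ : O)
      rwa [Subgroup.orderOf_mk] at this
    exact Odd.of_dvd_nat h.hOodd h2
  apply Finset.card_bij (fun c _ => g₀ * c)
  · intro c hc
    have hcC : c ∈ Subgroup.centralizer ({J} : Set G) := (Finset.mem_filter.mp hc).2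
    rw [Subgroup.mem_centralizer_singleton_iff] at hcC
    rw [Finset.mem_filter]
    refine ⟨Finset.mem_univ _, ?_⟩
    have hcJ' : c⁻¹ * J = J * c⁻¹ := by
      calc c⁻¹ * J = c⁻¹ * (J * c) * c⁻¹ := by group
        _ = c⁻¹ * (c * J) * c⁻¹ := by rw [hcC]
        _ = J * c⁻¹ := by group
    have e1 : J⁻¹ * ((g₀ * c)⁻¹ * σ * (g₀ * c)) =
        (J⁻¹ * c⁻¹ * J) * (J⁻¹ * (g₀⁻¹ * σ * g₀)) * c := by group
    rw [e1]
    have e2 : J⁻¹ * c⁻¹ * J = c⁻¹ := by
      rw [mul_assoc, hcJ', ← mul_assoc, inv_mul_cancel, one_mul]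
    rw [e2]
    have := h.hOnorm c⁻¹ hcJ' _ hg₀
    rwa [inv_inv] at this
  · intro c _ c' _ he
    exact mul_left_cancel he
  · intro g hg
    have hgO : J⁻¹ * (g⁻¹ * σ * g) ∈ O := (Finset.mem_filter.mp hg).2
    refine ⟨g₀⁻¹ * g, ?_, by group⟩
    unfold kfO
    rw [Finset.mem_filter]
    refine ⟨Finset.mem_univ _, ?_⟩
    rw [Subgroup.mem_centralizer_singleton_iff]
    set ρ₀ := J⁻¹ * (g₀⁻¹ * σ * g₀) with hρ₀
    set ρ := J⁻¹ * (g⁻¹ * σ * g) with hρ
    set c := g₀⁻¹ * g with hc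
    have h1 : g₀⁻¹ * σ * g₀ = J * ρ₀ := by rw [hρ₀]; group
    have h2 : g⁻¹ * σ * g = J * ρ := by rw [hρ]; group
    have h3 : c⁻¹ * (J * ρ₀) * c = J * ρ := by
      rw [← h1, ← h2, hc]; group
    set m := orderOf ρ₀ * orderOf ρ with hm
    have hmodd : Odd m := (hOodd ρ₀ hg₀).mul (hOodd ρ hgO)
    have e1 : (J * ρ₀) ^ m = J := hpowJ ρ₀ hg₀ m hmodd (by
      rw [hm, pow_mul, pow_orderOf_eq_one, one_pow])
    have e2 : (J * ρ) ^ m = J := hpowJ ρ hgO m hmodd (by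
      rw [hm, mul_comm, pow_mul, pow_orderOf_eq_one, one_pow])
    have h4 : c⁻¹ * J * c = J := by
      have : (c⁻¹ * (J * ρ₀) * c) ^ m = (J * ρ) ^ m := by rw [h3]
      have hcp : (c⁻¹ * (J * ρ₀) * c) ^ m = c⁻¹ * (J * ρ₀) ^ m * c := by
        have := conj_pow (a := c⁻¹) (b := J * ρ₀) (i := m)
        rw [inv_inv] at this
        exact this
      rw [hcp, e1, e2] at this
      exact this
    calc c * J = c * (c⁻¹ * J * c) := by rw [h4]
      _ = J * c := by group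

end KF3

end Cfsg.Agent.Lib.Helper24
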