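import Mathlib
import Cfsg.Agent.Lib.Helper9.StrongEmb

set_option autoImplicit false
set_option linter.style.haveILetI false

namespace Cfsg.Agent.Lib.Helper24

section KleinSylow

variable {G : Type*} [Group G]

theorem ks_sq (P : Subgroup G) (hP : IsKleinFour P) {x : G} (hx : x ∈ P) : x * x = 1 := by
  have := IsKleinFour.mul_self (⟨x, hx⟩ : P)
  exact congrArg Subtype.val this

theorem ks_comm (P : Subgroup G) (hP : IsKleinFour P) {x y : G} (hx : x ∈ P) (hy : y ∈ P) :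
    x * y = y * x := by
  have := (IsKleinFour.isMulCommutative (G := P)).is_comm.comm ⟨x, hx⟩ ⟨y, hy⟩
  exact congrArg Subtype.val this

theorem ks_elems (P : Subgroup G) (hP : IsKleinFour P) {s t : G} (hs : s ∈ P) (ht : t ∈ P)
    (hs1 : s ≠ 1) (ht1 : t ≠ 1) (hst : s ≠ t) {x : G} (hx : x ∈ P) :
    x = 1 ∨ x = s ∨ x = t ∨ x = s * t := by
  by_contra hcon
  push Not at hcon
  obtain ⟨h1, h2, h3, h4⟩ := hcon
  apply h4
  have := IsKleinFour.eq_mul_of_ne_all (G := P) (x := ⟨s, hs⟩) (y := ⟨t, ht⟩) (z := ⟨x, hx⟩)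
    (fun h => hs1 (congrArg Subtype.val h)) (fun h => ht1 (congrArg Subtype.val h))
    (fun h => hst (congrArg Subtype.val h)) (fun h => h1 (congrArg Subtype.val h))
    (fun h => h2 (congrArg Subtype.val h)) (fun h => h3 (congrArg Subtype.val h))
  exact congrArg Subtype.val this

theorem ks_exists (P : Subgroup G) (hP : IsKleinFour P) :
    ∃ a b : G, a ∈ P ∧ b ∈ P ∧ a ≠ 1 ∧ b ≠ 1 ∧ a ≠ b := by
  obtain ⟨e⟩ := IsKleinFour.nonempty_mulEquiv (G₁ := Multiplicative (ZMod 2 × ZMod 2)) (G₂ := P)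
  refine ⟨(e (Multiplicative.ofAdd (1, 0)) : G), (e (Multiplicative.ofAdd (0, 1)) : G),
    (e _).2, (e _).2, ?_, ?_, ?_⟩
  · intro h
    have h1 : e (Multiplicative.ofAdd (1, 0)) = 1 := Subtype.ext h
    rw [← map_one e] at h1
    have := e.injective h1
    revert this
    decide
  · intro h
    have h1 : e (Multiplicative.ofAdd (0, 1)) = 1 := Subtype.ext h
    rw [← map_one e] at h1
    have := e.injective h1
    revert this
    decide
  · intro h
    have h1 : e (Multiplicative.ofAdd (1, 0)) = e (Multiplicative.ofAdd (0, 1)) := Subtype.ext h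
    have := e.injective h1
    revert this
    decide

theorem ks_order_two (P : Subgroup G) (hP : IsKleinFour P) {x : G} (hx : x ∈ P) (hx1 : x ≠ 1) :
    orderOf x = 2 := by
  apply orderOf_eq_prime
  · rw [pow_two]; exact ks_sq P hP hx
  · exact hx1

theorem ks_eq_one_of_sq {x : G} (hx : orderOf x = 2) : x ≠ 1 := by
  intro h
  rw [h, orderOf_one] at hx
  omega

theorem ks_invol_conj_mem [Finite G] (P : Sylow 2 G) (t : G) (ht : orderOf t = 2) :
    ∃ g : G, g * t * g⁻¹ ∈ (P : Subgroup G) := by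
  haveI : Fact (Nat.Prime 2) := ⟨Nat.prime_two⟩
  have hp : IsPGroup 2 (Subgroup.zpowers t) :=
    Cfsg.Agent.Lib.Helper9.isPGroup_zpowers_of_orderOf t 1 (by rw [ht, pow_one])
  obtain ⟨Q, hQ⟩ := hp.exists_le_sylow
  obtain ⟨h, hh⟩ := MulAction.exists_smul_eq G Q P
  refine ⟨h, ?_⟩
  rw [← hh, Sylow.coe_subgroup_smul, Subgroup.mem_pointwise_smul_iff_inv_smul_mem]
  simp only [MulAut.smul_def, MulAut.conj_inv_apply]
  have : h⁻¹ * (h * t * h⁻¹) * h = t := by group
  rw [this]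
  exact hQ (Subgroup.mem_zpowers t)

theorem ks_conj_pow (m s : G) (k : ℕ) : m ^ k * s * (m ^ k)⁻¹ = ((fun x => m * x * m⁻¹)^[k]) s := by
  induction k with
  | zero => simp
  | succ k ih =>
    rw [Function.iterate_succ', Function.comp_apply, ← ih, pow_succ']
    group

theorem ks_swap_odd (m s t : G) (h1 : m * s * m⁻¹ = t) (h2 : m * t * m⁻¹ = s) (q : ℕ)
    (hq : Odd q) : m ^ q * s * (m ^ q)⁻¹ = t := by
  obtain ⟨k, rfl⟩ := hq
  have key : ∀ k : ℕ, m ^ (2 * k) * s * (m ^ (2 * k))⁻¹ = s := by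
    intro k
    induction k with
    | zero => simp
    | succ k ih =>
      have : m ^ (2 * (k + 1)) * s * (m ^ (2 * (k + 1)))⁻¹ =
          m * (m * (m ^ (2 * k) * s * (m ^ (2 * k))⁻¹) * m⁻¹) * m⁻¹ := by
        rw [show 2 * (k + 1) = 2 * k + 1 + 1 by ring, pow_succ', pow_succ']
        group
      rw [this, ih, h1, h2]
  have : m ^ (2 * k + 1) * s * (m ^ (2 * k + 1))⁻¹ =
      m * (m ^ (2 * k) * s * (m ^ (2 * k))⁻¹) * m⁻¹ := by
    rw [pow_succ']
    group
  rw [this, key k, h1]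

theorem ks_fusion [Finite G] (P : Sylow 2 G) (hP : IsKleinFour (P : Subgroup G)) {s t : G}
    (hs : s ∈ (P : Subgroup G)) (ht : t ∈ (P : Subgroup G)) (hs1 : s ≠ 1) (ht1 : t ≠ 1)
    (hst : s ≠ t) (hconj : IsConj s t) : IsConj s (s * t) := by
  haveI : Fact (Nat.Prime 2) := ⟨Nat.prime_two⟩
  haveI : IsMulCommutative (P : Subgroup G) := IsKleinFour.isMulCommutative
  rw [isConj_iff] at hconj
  obtain ⟨g, hg⟩ := hconj
  have hmem : g⁻¹⁻¹ * s * g⁻¹ ∈ (P : Subgroup G) := by rw [inv_inv, hg]; exact ht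
  obtain ⟨n, hn, hn'⟩ := P.conj_eq_normalizer_conj_of_mem s g⁻¹ hs hmem
  rw [inv_inv, hg] at hn'
  set m := n⁻¹ with hm
  have hmN : m ∈ Subgroup.normalizer ((P : Subgroup G) : Set G) := Subgroup.inv_mem _ hn
  have hms : m * s * m⁻¹ = t := by rw [hm, inv_inv]; exact hn'.symm
  have hwP : m * t * m⁻¹ ∈ (P : Subgroup G) := (Subgroup.mem_normalizer_iff.mp hmN t).mp ht
  have hw1 : m * t * m⁻¹ ≠ 1 := by
    intro h
    apply ht1
    have : t = m⁻¹ * (m * t * m⁻¹) * m := by group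
    rw [this, h]
    group
  have hwt : m * t * m⁻¹ ≠ t := by
    intro h
    apply hst
    have h2 : m * s * m⁻¹ = m * t * m⁻¹ := by rw [hms, h]
    have h3 : s = m⁻¹ * (m * s * m⁻¹) * m := by group
    rw [h3, h2]
    group
  rcases ks_elems (P : Subgroup G) hP hs ht hs1 ht1 hst hwP with h | h | h | h
  · exact absurd h hw1
  · exfalso
    obtain ⟨e, q, hq, ho⟩ := Nat.exists_eq_two_pow_mul_odd (n := orderOf m)
      (orderOf_pos m).ne'
    have hz := ks_swap_odd m s t hms h q hq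
    have hzN : m ^ q ∈ Subgroup.normalizer ((P : Subgroup G) : Set G) := Subgroup.pow_mem _ hmN q
    have hzp : IsPGroup 2 (Subgroup.zpowers (m ^ q)) := by
      rintro ⟨y, hy⟩
      obtain ⟨k, rfl⟩ := Subgroup.mem_zpowers_iff.mp hy
      refine ⟨e, Subtype.ext ?_⟩
      simp only [Subgroup.coe_pow, Subgroup.coe_one]
      rw [← zpow_natCast, ← zpow_mul, mul_comm, zpow_mul, zpow_natCast, ← pow_mul, mul_comm q,
        ← ho, pow_orderOf_eq_one, one_zpow]
    have hzP := Cfsg.Agent.Lib.Helper9.mem_sylow_of_mem_normalizer P (m ^ q) hzN hzp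
    have hc := ks_comm (P : Subgroup G) hP hzP hs
    apply hst
    rw [← hz, hc]
    group
  · exact absurd h hwt
  · rw [isConj_iff]
    refine ⟨m * m, ?_⟩
    rw [← h, ← hms]
    group

end KleinSylow

end Cfsg.Agent.Lib.Helper24
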