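import Mathlib
import Cfsg.Prelude.Def_Local
import Cfsg.Agent.Lib.Helper1.Cores
import Cfsg.Agent.Lib.Helper24.KleinSylow
import Cfsg.Agent.Lib.Helper24.KleinOrder3

set_option autoImplicit false

namespace Cfsg.Agent.Lib.Helper24

section KF4
variable {G : Type*} [Group G] [Finite G]

theorem kf_P_elems (J : G) (hJ : orderOf J = 2) (P : Subgroup G) (hJP : J ∈ P)
    (hPcard : Nat.card P = 4) {s : G} (hs : s ∈ P) (hs1 : s ≠ 1) (hsJ : s ≠ J)
    {x : G} (hx : x ∈ P) : x = 1 ∨ x = J ∨ x = s ∨ x = s * J := by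
  classical
  haveI : Fintype G := Fintype.ofFinite G
  by_contra hcon
  push Not at hcon
  obtain ⟨h1, h2, h3, h4⟩ := hcon
  have hJ1 : J ≠ 1 := by
    intro hJ'
    rw [hJ', orderOf_one] at hJ
    omega
  have hJJ : J * J = 1 := by rw [← pow_two, ← hJ, pow_orderOf_eq_one]
  have hsub : ({1, J, s, s * J, x} : Finset G) ⊆ kfO P := by
    intro y hy
    simp only [Finset.mem_insert, Finset.mem_singleton] at hy
    unfold kfO
    rw [Finset.mem_filter]
    refine ⟨Finset.mem_univ _, ?_⟩
    rcases hy with rfl | rfl | rfl | rfl | rfl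
    · exact P.one_mem
    · exact hJP
    · exact hs
    · exact P.mul_mem hs hJP
    · exact hx
  have hcard : ({1, J, s, s * J, x} : Finset G).card = 5 := by
    have e1 : s * J ≠ 1 := by
      intro he
      have : s = J := by
        calc s = s * (J * J) := by rw [hJJ, mul_one]
          _ = (s * J) * J := by group
          _ = J := by rw [he, one_mul]
      exact hsJ this
    have e2 : s * J ≠ J := by
      intro he
      exact hs1 (by simpa using he)
    have e3 : s * J ≠ s := by
      intro he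
      exact hJ1 (by simpa using he)
    rw [Finset.card_insert_of_notMem, Finset.card_insert_of_notMem, Finset.card_insert_of_notMem,
      Finset.card_insert_of_notMem, Finset.card_singleton]
    · simp only [Finset.mem_singleton]; exact fun he => h4 he.symm
    · simp only [Finset.mem_insert, Finset.mem_singleton, not_or]
      exact ⟨fun he => e3 he.symm, fun he => h3 he.symm⟩
    · simp only [Finset.mem_insert, Finset.mem_singleton, not_or]
      exact ⟨fun he => hsJ he.symm, fun he => e2 he.symm, fun he => h2 he.symm⟩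
    · simp only [Finset.mem_insert, Finset.mem_singleton, not_or]
      exact ⟨fun he => hJ1 he.symm, fun he => hs1 he.symm, fun he => e1 he.symm,
        fun he => h1 he.symm⟩
  have := Finset.card_le_card hsub
  rw [hcard, kfO_card, hPcard] at this
  omega

theorem kf_two_elt_mem (P : Sylow 2 G) (c : G)
    (hc : c ∈ Subgroup.normalizer ((P : Subgroup G) : Set G)) (k : ℕ) (hk : orderOf c = 2 ^ k) :
    c ∈ (P : Subgroup G) := by
  haveI : Fact (Nat.Prime 2) := ⟨Nat.prime_two⟩
  have h1 : IsPGroup 2 (Subgroup.zpowers c) := by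
    rw [IsPGroup.iff_card, Nat.card_zpowers, hk]
    exact ⟨k, rfl⟩
  have h2 : Subgroup.zpowers c ≤ Subgroup.normalizer ((P : Subgroup G) : Set G) := by
    rw [Subgroup.zpowers_le]; exact hc
  have h3 : IsPGroup 2 (Subgroup.zpowers c ⊔ (P : Subgroup G) : Subgroup G) :=
    IsPGroup.to_sup_of_normal_right' h1 P.2 h2
  have h4 : Subgroup.zpowers c ⊔ (P : Subgroup G) = (P : Subgroup G) := P.3 h3 le_sup_right
  rw [← h4]
  exact Subgroup.mem_sup_left (Subgroup.mem_zpowers c)

theorem kf_norm_cent (J : G) (hJ : orderOf J = 2) (P : Sylow 2 G) (hJP : J ∈ (P : Subgroup G))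
    (hPcard : Nat.card (P : Subgroup G) = 4) (hPsq : ∀ x ∈ (P : Subgroup G), x * x = 1)
    (c : G) (hcJ : c * J = J * c) (hc : c ∈ Subgroup.normalizer ((P : Subgroup G) : Set G))
    (x : G) (hx : x ∈ (P : Subgroup G)) : c * x * c⁻¹ = x := by
  have hJ1 : J ≠ 1 := by
    intro hJ'
    rw [hJ', orderOf_one] at hJ
    omega
  have hJJ : J * J = 1 := by rw [← pow_two, ← hJ, pow_orderOf_eq_one]
  have hPcomm : ∀ a ∈ (P : Subgroup G), ∀ b ∈ (P : Subgroup G), a * b = b * a := by
    intro a ha b hb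
    have h1 := hPsq a ha
    have h2 := hPsq b hb
    have h3 := hPsq (a * b) (Subgroup.mul_mem _ ha hb)
    calc a * b = a * (a * b * (a * b)) * b := by rw [h3, mul_one]
      _ = (a * a) * b * a * (b * b) := by group
      _ = b * a := by rw [h1, h2, one_mul, mul_one]
  have hcJ' : c * J * c⁻¹ = J := by rw [hcJ, mul_inv_cancel_right]
  by_cases hx1 : x = 1
  · rw [hx1]; group
  by_cases hxJ : x = J
  · rw [hxJ]; exact hcJ'
  have hcx : c * x * c⁻¹ ∈ (P : Subgroup G) := (Subgroup.mem_normalizer_iff.mp hc x).mp hx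
  have hcx1 : c * x * c⁻¹ ≠ 1 := by
    intro he
    apply hx1
    calc x = c⁻¹ * (c * x * c⁻¹) * c := by group
      _ = 1 := by rw [he]; group
  have hcxJ : c * x * c⁻¹ ≠ J := by
    intro he
    apply hxJ
    calc x = c⁻¹ * (c * x * c⁻¹) * c := by group
      _ = c⁻¹ * (c * J * c⁻¹) * c := by rw [he, hcJ']
      _ = J := by group
  rcases kf_P_elems J hJ (P : Subgroup G) hJP hPcard hx hx1 hxJ hcx with h1 | h1 | h1 | h1
  · exact absurd h1 hcx1
  · exact absurd h1 hcxJ
  · exact h1
  · exfalso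
    have h2 : c * (x * J) * c⁻¹ = x := by
      calc c * (x * J) * c⁻¹ = (c * x * c⁻¹) * (c * J * c⁻¹) := by group
        _ = x * J * J := by rw [h1, hcJ']
        _ = x * (J * J) := by group
        _ = x := by rw [hJJ, mul_one]
    obtain ⟨k, q, hq, hkq⟩ := Nat.exists_eq_two_pow_mul_odd (orderOf_pos c).ne'
    have h3 := ks_swap_odd c x (x * J) h1 h2 q hq
    have h4 : orderOf (c ^ q) = 2 ^ k := by
      rw [orderOf_pow' c (Nat.pos_of_ne_zero (by rintro rfl; simp at hq)).ne', hkq,
        Nat.gcd_eq_right (Dvd.intro_left _ rfl), Nat.mul_div_cancel _ (Nat.pos_of_ne_zero (by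
          rintro rfl; simp at hq))]
    have h5 : c ^ q ∈ (P : Subgroup G) :=
      kf_two_elt_mem P (c ^ q) (Subgroup.pow_mem _ hc q) k h4
    have h6 := hPcomm (c ^ q) h5 x hx
    have h7 : c ^ q * x * (c ^ q)⁻¹ = x := by rw [h6, mul_inv_cancel_right]
    rw [h7] at h3
    apply hJ1
    calc J = x⁻¹ * (x * J) := by group
      _ = x⁻¹ * x := by rw [← h3]
      _ = 1 := by group

open scoped Pointwise in
theorem kf_exists_O (J : G) (hJ : orderOf J = 2) (P : Sylow 2 G) (hJP : J ∈ (P : Subgroup G))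
    (hPcard : Nat.card (P : Subgroup G) = 4) (hPsq : ∀ x ∈ (P : Subgroup G), x * x = 1) :
    ∃ O : Subgroup G, KFData J (P : Subgroup G) O ∧ O ≤ Cfsg.centralizerPPrimeCore 2 J := by
  haveI : Fact (Nat.Prime 2) := ⟨Nat.prime_two⟩
  have hPcomm : ∀ a ∈ (P : Subgroup G), ∀ b ∈ (P : Subgroup G), a * b = b * a := by
    intro a ha b hb
    have h1 := hPsq a ha
    have h2 := hPsq b hb
    have h3 := hPsq (a * b) (Subgroup.mul_mem _ ha hb)
    calc a * b = a * (a * b * (a * b)) * b := by rw [h3, mul_one]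
      _ = (a * a) * b * a * (b * b) := by group
      _ = b * a := by rw [h1, h2, one_mul, mul_one]
  set C : Subgroup G := Subgroup.centralizer ({J} : Set G) with hC
  have hmemC : ∀ c : G, c ∈ C ↔ c * J = J * c := fun c =>
    Subgroup.mem_centralizer_singleton_iff
  have hPC : (P : Subgroup G) ≤ C := fun x hx => (hmemC x).mpr (hPcomm x hx J hJP)
  set Q : Sylow 2 C := P.subtype hPC with hQ
  have hQmem : ∀ γ : C, γ ∈ (Q : Subgroup C) ↔ (γ : G) ∈ (P : Subgroup G) := by
    intro γ
    rw [hQ, Sylow.coe_subtype, Subgroup.mem_subgroupOf]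
  have hNC : Subgroup.normalizer ((Q : Subgroup C) : Set C) ≤
      Subgroup.centralizer ((Q : Subgroup C) : Set C) := by
    intro n hn
    have hnG : (n : G) ∈ Subgroup.normalizer ((P : Subgroup G) : Set G) := by
      rw [Subgroup.mem_normalizer_iff]
      intro x
      rw [Subgroup.mem_normalizer_iff] at hn
      constructor
      · intro hx
        have := (hn ⟨x, hPC hx⟩).mp ((hQmem _).mpr hx)
        exact (hQmem _).mp this
      · intro hx
        have hxC : x ∈ C := by
          have h1 : (n : G) * x * (n : G)⁻¹ ∈ C := hPC hx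
          have h2 : x = (n : G)⁻¹ * ((n : G) * x * (n : G)⁻¹) * (n : G) := by group
          rw [h2]
          exact C.mul_mem (C.mul_mem (C.inv_mem n.2) h1) n.2
        have := (hn ⟨x, hxC⟩).mpr ((hQmem _).mpr hx)
        exact (hQmem _).mp this
    rw [Subgroup.mem_centralizer_iff]
    intro γ hγ
    have hγP : (γ : G) ∈ (P : Subgroup G) := (hQmem γ).mp hγ
    have h1 := kf_norm_cent J hJ P hJP hPcard hPsq (n : G) ((hmemC _).mp n.2) hnG (γ : G) hγP
    apply Subtype.ext
    rw [Subgroup.coe_mul, Subgroup.coe_mul]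
    calc (γ : G) * (n : G) = ((n : G) * (γ : G) * (n : G)⁻¹) * (n : G) := by rw [h1]
      _ = (n : G) * (γ : G) := by group
  set τ := MonoidHom.transferSylow Q hNC with hτ
  set K : Subgroup C := τ.ker with hK
  have hKcompl : Subgroup.IsComplement' K (Q : Subgroup C) :=
    MonoidHom.ker_transferSylow_isComplement' Q hNC
  have hKodd : ¬ 2 ∣ Nat.card K := MonoidHom.not_dvd_card_ker_transferSylow Q hNC
  refine ⟨K.map C.subtype, ?_, ?_⟩
  · refine
      { hJ := hJ
        hJP := hJP
        hPcard := hPcard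
        hPsq := hPsq
        hOC := ?_
        hOnorm := ?_
        hOodd := ?_
        hdecomp := ?_
        hoddmem := ?_ }
    · rintro _ ⟨k, -, rfl⟩
      exact (hmemC _).mp k.2
    · rintro c hc _ ⟨k, hk, rfl⟩
      refine ⟨⟨c, (hmemC c).mpr hc⟩ * k * ⟨c, (hmemC c).mpr hc⟩⁻¹, ?_, rfl⟩
      exact (MonoidHom.normal_ker τ).conj_mem k hk _
    · have : Nat.card (K.map C.subtype) = Nat.card K :=
        Subgroup.card_map_of_injective C.subtype_injective
      rw [this]
      exact Nat.not_even_iff_odd.mp (fun he => hKodd (even_iff_two_dvd.mp he))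
    · intro c hc
      have hmul := hKcompl.mul_eq
      have hcmem : (⟨c, (hmemC c).mpr hc⟩ : C) ∈ ((K : Set C) * ((Q : Subgroup C) : Set C)) := by
        rw [hmul]; exact Set.mem_univ _
      obtain ⟨k, hk, x, hx, hkx⟩ := hcmem
      refine ⟨(k : G), ⟨k, hk, rfl⟩, (x : G), (hQmem x).mp hx, ?_⟩
      have := congrArg (fun γ : C => (γ : G)) hkx
      exact this.symm
    · intro c hc hodd
      refine ⟨⟨c, (hmemC c).mpr hc⟩, ?_, rfl⟩
      show (⟨c, (hmemC c).mpr hc⟩ : C) ∈ τ.ker
      rw [MonoidHom.mem_ker]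
      set t := τ ⟨c, (hmemC c).mpr hc⟩ with ht
      have h0 : orderOf t ∣ orderOf (⟨c, (hmemC c).mpr hc⟩ : C) := orderOf_map_dvd _ _
      have e0 : orderOf (⟨c, (hmemC c).mpr hc⟩ : C) = orderOf c := Subgroup.orderOf_mk c _
      have h1 : orderOf t ∣ orderOf c := h0.trans (dvd_of_eq e0)
      obtain ⟨k, hk⟩ := (Q.isPGroup' : IsPGroup 2 ↥(Q : Subgroup C)) t
      obtain ⟨j, _, hj⟩ := (Nat.dvd_prime_pow Nat.prime_two).mp (orderOf_dvd_of_pow_eq_one hk)
      have hodd' : Odd (orderOf t) := Odd.of_dvd_nat hodd h1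
      rw [hj] at hodd'
      have hj0 : j = 0 := by
        by_contra hne
        have : Even (2 ^ j) := (Nat.even_pow' hne).mpr even_two
        exact (Nat.not_even_iff_odd.mpr hodd') this
      rw [hj0, pow_zero, orderOf_eq_one_iff] at hj
      exact hj
  · unfold Cfsg.centralizerPPrimeCore
    apply Subgroup.map_mono
    apply Cfsg.Agent.Lib.Helper1.le_pPrimeCore (MonoidHom.normal_ker τ)
    exact ((Nat.Prime.coprime_iff_not_dvd Nat.prime_two).mpr hKodd).symm

end KF4

end Cfsg.Agent.Lib.Helper24
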