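import Mathlib
import Cfsg.Prelude.Def_Blocks
import Cfsg.Agent.Lib.helper7.BlockDefect2
import Cfsg.Agent.Lib.helper7.BlockEval
import Cfsg.Agent.Lib.helper7.BlockSing2

set_option autoImplicit false
open scoped ComplexConjugate

namespace Cfsg.Agent.Lib.Helper24

open Cfsg.Agent.Lib.helper2 Cfsg.Agent.Lib.helper7 Cfsg.Agent.Lib.Helper11 Cfsg.Agent.Lib.Helper25

section bd

variable {G : Type*} [Group G] [Fintype G]

theorem bd_min (p : ℕ) [hp : Fact p.Prime] (M : Ideal Cfsg.AlgInt) (hM : M.IsPrime)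
    (χ₀ : Cfsg.IrrCharacter G) :
    ∃ h₀ : ℕ, (∃ χ ∈ Cfsg.blockOf M (χ₀ : G → ℂ),
        (Cfsg.charDegree (χ : G → ℂ)).factorization p = h₀) ∧
      (∀ χ ∈ Cfsg.blockOf M (χ₀ : G → ℂ),
        h₀ ≤ (Cfsg.charDegree (χ : G → ℂ)).factorization p) ∧
      h₀ ≤ (Nat.card G).factorization p ∧
      Cfsg.blockDefect p (Cfsg.blockOf M (χ₀ : G → ℂ)) = (Nat.card G).factorization p - h₀ := by
  haveI : Fintype (Cfsg.IrrCharacter G) := Fintype.ofFinite _
  set S : Set ℕ := (fun χ : Cfsg.IrrCharacter G => (Cfsg.charDegree (χ : G → ℂ)).factorization p) ''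
    Cfsg.blockOf M (χ₀ : G → ℂ) with hS
  have hne : S.Nonempty := ⟨_, χ₀, h7_sameBlock_refl hM _, rfl⟩
  have hmem := Nat.sInf_mem hne
  obtain ⟨χ, hχ, hχe⟩ := hmem
  refine ⟨sInf S, ⟨χ, hχ, hχe⟩, ?_, ?_, rfl⟩
  · intro ψ hψ
    exact Nat.sInf_le ⟨ψ, hψ, rfl⟩
  · rw [← hχe]
    obtain ⟨hd1, hd2, _⟩ := h7_charDegree_props χ
    exact (Nat.factorization_le_iff_dvd hd2.ne' Nat.card_pos.ne').mpr hd1 p

theorem bd_card_centralizer (p : ℕ) [hp : Fact p.Prime] (g : G) :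
    (Subgroup.centralizer ({g} : Set G)).index.factorization p +
      (Nat.card (Subgroup.centralizer ({g} : Set G))).factorization p =
      (Nat.card G).factorization p := by
  have h := Subgroup.index_mul_card (Subgroup.centralizer ({g} : Set G))
  rw [← h, Nat.factorization_mul Subgroup.index_ne_zero_of_finite Nat.card_pos.ne']
  rfl

theorem bd_lower [Fintype (Cfsg.IrrCharacter G)] (p : ℕ) [hp : Fact p.Prime]
    (M : Ideal Cfsg.AlgInt) (hM : Cfsg.IsPModular p M)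
    (ψ : Cfsg.IrrCharacter G) (g : G)
    (h : ¬ Cfsg.MemLocalIdeal M (Cfsg.centralChar (ψ : G → ℂ) g)) :
    Cfsg.blockDefect p (Cfsg.blockOf M (ψ : G → ℂ)) ≤
      (Nat.card (Subgroup.centralizer ({g} : Set G))).factorization p := by
  have hMp := hM.2.1.isPrime
  obtain ⟨h₀, ⟨χ, hχ, hχe⟩, _, hle, hd⟩ := bd_min p M hMp ψ
  have h1 : ¬ Cfsg.MemLocalIdeal M (Cfsg.centralChar (χ : G → ℂ) g) := by
    intro h2
    apply h
    have h3 : Cfsg.MemLocalIdeal M
        (Cfsg.centralChar (ψ : G → ℂ) g - Cfsg.centralChar (χ : G → ℂ) g) := hχ g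
    have := h7_memLocalIdeal_add hMp h3 h2
    rwa [sub_add_cancel] at this
  have h2 := h7_defect_lower hM χ g h1
  rw [hχe] at h2
  have h3 := bd_card_centralizer p g
  rw [hd]
  omega

theorem bd_upper [Fintype (Cfsg.IrrCharacter G)] (p : ℕ) [hp : Fact p.Prime]
    (M : Ideal Cfsg.AlgInt) (hM : Cfsg.IsPModular p M)
    (χ₀ : Cfsg.IrrCharacter G) (g : G)
    (hg : ¬ Cfsg.MemLocalIdeal M (Cfsg.blockCoeff (Cfsg.blockOf M (χ₀ : G → ℂ)) g)) :
    ¬ p ∣ orderOf g ∧ (Nat.card (Subgroup.centralizer ({g} : Set G))).factorization p ≤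
      Cfsg.blockDefect p (Cfsg.blockOf M (χ₀ : G → ℂ)) := by
  have hMp := hM.2.1.isPrime
  constructor
  · intro hs
    apply hg
    rw [h7_blockCoeff_psingular hM χ₀ g hs]
    exact h7_memLocalIdeal_zero hMp
  · obtain ⟨h₀, _, hall, hle, hd⟩ := bd_min p M hMp χ₀
    have hh₀ : ∀ χ ∈ Cfsg.blockOf M (χ₀ : G → ℂ), p ^ h₀ ∣ Cfsg.charDegree (χ : G → ℂ) := by
      intro χ hχ
      exact dvd_trans (pow_dvd_pow p (hall χ hχ)) (Nat.ordProj_dvd _ _)
    let P : Sylow p (Subgroup.centralizer ({g} : Set G)) := default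
    have hQ : IsPGroup p ((P : Subgroup (Subgroup.centralizer ({g} : Set G))).map
        (Subgroup.centralizer ({g} : Set G)).subtype) := P.isPGroup'.map _
    have hQg : ∀ u ∈ (P : Subgroup (Subgroup.centralizer ({g} : Set G))).map
        (Subgroup.centralizer ({g} : Set G)).subtype, Commute u g := by
      rintro _ ⟨u, _, rfl⟩
      show (u : G) * g = g * (u : G)
      exact Subgroup.mem_centralizer_singleton_iff.mp u.2
    have h1 := h7_defect_upper hM χ₀ g hg h₀ hh₀ _ hQ hQg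
    rw [Subgroup.card_map_of_injective (Subgroup.subtype_injective _), P.card_eq_multiplicity,
      Nat.factorization_pow, Nat.Prime.factorization hp.out] at h1
    simp only [Finsupp.smul_single, smul_eq_mul, mul_one, Finsupp.single_eq_same] at h1
    rw [hd]
    omega

theorem bd_term [Fintype (Cfsg.IrrCharacter G)] (p : ℕ) [hp : Fact p.Prime]
    (M : Ideal Cfsg.AlgInt) (hM : Cfsg.IsPModular p M)
    (χ₀ ψ : Cfsg.IrrCharacter G) (d : ℕ)
    (hχ₀ : Cfsg.blockDefect p (Cfsg.blockOf M (χ₀ : G → ℂ)) = d)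
    (hψ : Cfsg.blockDefect p (Cfsg.blockOf M (ψ : G → ℂ)) = d) (g : G)
    (hg : ¬ (¬ p ∣ orderOf g ∧
      (Nat.card (Subgroup.centralizer ({g} : Set G))).factorization p = d)) :
    Cfsg.MemLocalIdeal M (Cfsg.blockCoeff (Cfsg.blockOf M (χ₀ : G → ℂ)) g *
      Cfsg.centralChar (ψ : G → ℂ) g) := by
  have hMp := hM.2.1.isPrime
  by_cases h1 : Cfsg.MemLocalIdeal M (Cfsg.blockCoeff (Cfsg.blockOf M (χ₀ : G → ℂ)) g)
  · exact h7_memLocalIdeal_mul_right hMp h1 (h7_memLocalRing_centralChar hMp ψ g)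
  · obtain ⟨hreg, hle⟩ := bd_upper p M hM χ₀ g h1
    by_cases h2 : Cfsg.MemLocalIdeal M (Cfsg.centralChar (ψ : G → ℂ) g)
    · exact h7_memLocalIdeal_mul_left hMp (h7_osima hMp χ₀ g) h2
    · exfalso
      have hge := bd_lower p M hM ψ g h2
      rw [hχ₀] at hle
      rw [hψ] at hge
      exact hg ⟨hreg, le_antisymm hle hge⟩

end bd

end Cfsg.Agent.Lib.Helper24
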