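import Mathlib
import Cfsg.Prelude.Def_Blocks
import Cfsg.Prelude.Def_Local
import Cfsg.Agent.Lib.helper7.BlockQuot
import Cfsg.Agent.Lib.helper7.BlockCover
import Cfsg.Agent.Lib.helper7.Clifford
import Cfsg.Agent.Lib.Helper25.SingleBlock
import Cfsg.Agent.Lib.Helper25.ExtraspecialUnique
import Cfsg.Agent.Lib.Helper25.Gagola
import Cfsg.Agent.Lib.Helper1.CFitting
import Cfsg.Agent.Lib.Helper1.Fitting
import Cfsg.Agent.Lib.Helper1.PLength

set_option autoImplicit false
open scoped ComplexConjugate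

namespace Cfsg.Agent.Lib.Helper24

open Cfsg.Agent.Lib.helper2 Cfsg.Agent.Lib.helper7 Cfsg.Agent.Lib.Helper11 Cfsg.Agent.Lib.Helper25
open Cfsg.Agent.Lib.Helper1

section fg

variable {G : Type*} [Group G]

theorem fg_infl_sameBlock [Finite G] (N : Subgroup G) [N.Normal] {M : Ideal Cfsg.AlgInt}
    (hM : M.IsPrime) (α β : G ⧸ N → ℂ) (h : Cfsg.SameBlock M α β) :
    Cfsg.SameBlock M (fun x : G => α (QuotientGroup.mk x)) (fun x : G => β (QuotientGroup.mk x)) := by
  intro g
  rw [h7_centralChar_inflate, h7_centralChar_inflate, ← mul_sub]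
  have := h7_memLocalIdeal_nsmul hM ((Subgroup.centralizer ({g} : Set G)).relIndex
    ((Subgroup.centralizer ({(QuotientGroup.mk g : G ⧸ N)} : Set (G ⧸ N))).comap
      (QuotientGroup.mk' N))) (h (QuotientGroup.mk g))
  rwa [nsmul_eq_mul] at this

theorem fg_principal_le [Fintype G] (p : ℕ) [hp : Fact p.Prime] (M : Ideal Cfsg.AlgInt)
    (hM : Cfsg.IsPModular p M) (χ : Cfsg.IrrCharacter G) (hχ : χ ∈ Cfsg.principalBlock M G) :
    ∀ n ∈ Cfsg.pPrimeCore p G, (χ : G → ℂ) n = (χ : G → ℂ) 1 := by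
  classical
  have hMp := hM.2.1.isPrime
  haveI hN : (Cfsg.pPrimeCore p G).Normal := Cfsg.Agent.Lib.Helper1.pPrimeCore_normal p
  set N := Cfsg.pPrimeCore p G with hNdef
  haveI : Fintype N := Fintype.ofFinite _
  haveI : Fintype (Cfsg.IrrCharacter G) := Fintype.ofFinite _
  haveI : Fintype (Cfsg.IrrCharacter N) := Fintype.ofFinite _
  have hcop : (Nat.card N).Coprime p := pPrimeCore_card_coprime p
  set T : Set (Cfsg.IrrCharacter N) := {trivIrr N} with hT
  have hTs : h7_GStable N T := by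
    intro g θ hθ
    rw [hT, Set.mem_singleton_iff] at hθ ⊢
    rw [hθ]
    apply Subtype.ext
    funext n
    rw [h7_irrSmul_apply]
    rfl
  have hS : ∀ n : N, Cfsg.MemLocalRing M (Cfsg.blockCoeff T n) :=
    fun n => h7_memLocalRing_blockCoeff_of_coprime hM hcop T n
  have h1 : trivIrr G ∈ h7_over N T := by
    refine ⟨trivIrr N, rfl, ?_⟩
    have := irr_classInner (trivIrr N) (trivIrr N)
    rw [if_pos rfl] at this
    have h2 : (fun n : N => (trivIrr G : G → ℂ) n) = (trivIrr N : N → ℂ) := by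
      funext n
      rfl
    rw [h2, this]
    exact one_ne_zero
  have h2 : χ ∈ h7_over N T := h7_over_congr N hMp T hTs hS (trivIrr G) χ hχ h1
  obtain ⟨θ, hθ, hne⟩ := h2
  rw [hT, Set.mem_singleton_iff] at hθ
  rw [hθ] at hne
  have hinv : ∀ g : G, cj N (trivIrr N : N → ℂ) g = (trivIrr N : N → ℂ) := by
    intro g
    funext n
    rw [cj_apply]
    rfl
  obtain ⟨e, _, _, he⟩ := h7_clifford_invariant N (χ : G → ℂ) χ.2 (trivIrr N : N → ℂ) (trivIrr N).2
    hne hinv
  intro n hn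
  have h3 := congrFun he ⟨n, hn⟩
  have h4 := congrFun he 1
  simp only [Pi.smul_apply, trivIrr_apply, smul_eq_mul, mul_one, OneMemClass.coe_one] at h3 h4
  rw [h3, h4]

end fg

end Cfsg.Agent.Lib.Helper24
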