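import Mathlib
import Cfsg.Prelude.Def_Blocks
import Cfsg.Prelude.Def_BlockRank
import Cfsg.Agent.Lib.helper7.BlockCover3

set_option autoImplicit false
open scoped ComplexConjugate

namespace Cfsg.Agent.Lib.Helper24

open Cfsg.Agent.Lib.helper7

section qr

variable {G : Type*} [Group G]

theorem qr_reg_centralizes [Finite G] (p : ℕ) [hp : Fact p.Prime] (Q : Subgroup G) [Q.Normal]
    (hQ : IsPGroup p Q) (hsup : Q ⊔ Subgroup.centralizer (Q : Set G) = ⊤) (x : G)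
    (hx : ¬ p ∣ orderOf x) : x ∈ Subgroup.centralizer (Q : Set G) := by
  apply h7_pregular_mem_of_index_pow p (Subgroup.centralizer (Q : Set G)) _ x hx
  have h1 : (Subgroup.centralizer (Q : Set G)).index =
      (Subgroup.centralizer (Q : Set G)).relIndex Q := by
    rw [← Subgroup.relIndex_top_right, ← hsup, Subgroup.relIndex_sup_right]
  rw [h1]
  have h2 : (Subgroup.centralizer (Q : Set G)).relIndex Q ∣ Nat.card Q := by
    unfold Subgroup.relIndex
    exact Subgroup.index_dvd_card _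
  obtain ⟨n, hn⟩ := IsPGroup.iff_card.mp hQ
  rw [hn] at h2
  obtain ⟨k, _, hk⟩ := (Nat.dvd_prime_pow hp.out).mp h2
  exact ⟨k, hk⟩

theorem qr_eq_of_mul_mem [Finite G] (p : ℕ) [hp : Fact p.Prime] (Q : Subgroup G)
    (hQ : IsPGroup p Q) (z y q : G) (hq : q ∈ Q) (hzq : Commute z q) (hy : y = z * q)
    (hz : ¬ p ∣ orderOf z) (hyr : ¬ p ∣ orderOf y) : q = 1 := by
  obtain ⟨k, hk⟩ := hQ ⟨q, hq⟩
  have hk' : q ^ p ^ k = 1 := by
    have := congrArg Subtype.val hk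
    simpa using this
  obtain ⟨j, _, hj⟩ := (Nat.dvd_prime_pow hp.out).mp (orderOf_dvd_of_pow_eq_one hk')
  have hcop : (orderOf z).Coprime (orderOf q) := by
    rw [hj]
    exact Nat.Coprime.pow_right _ ((Nat.Prime.coprime_iff_not_dvd hp.out).mpr hz).symm
  have h1 := hzq.orderOf_mul_eq_mul_orderOf_of_coprime hcop
  rw [← hy] at h1
  have hj0 : j = 0 := by
    by_contra hne
    apply hyr
    rw [h1, hj]
    exact dvd_mul_of_dvd_right (dvd_pow_self p hne) _
  rw [hj0, pow_zero] at hj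
  exact orderOf_eq_one_iff.mp hj

theorem qr_orderOf_conj (g x : G) : orderOf (g * x * g⁻¹) = orderOf x := by
  have : g * x * g⁻¹ = MulAut.conj g x := by simp [MulAut.conj_apply]
  rw [this, MulEquiv.orderOf_eq]

theorem qr_conj_eq [Finite G] (p : ℕ) [hp : Fact p.Prime] (Q : Subgroup G) [Q.Normal]
    (hQ : IsPGroup p Q) (hsup : Q ⊔ Subgroup.centralizer (Q : Set G) = ⊤) (x y g : G)
    (hx : ¬ p ∣ orderOf x) (hy : ¬ p ∣ orderOf y)
    (h : (QuotientGroup.mk (g * x * g⁻¹) : G ⧸ Q) = QuotientGroup.mk y) :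
    g * x * g⁻¹ = y := by
  set z := g * x * g⁻¹ with hz
  have hzr : ¬ p ∣ orderOf z := by rw [hz, qr_orderOf_conj]; exact hx
  have hq : z⁻¹ * y ∈ Q := QuotientGroup.eq.mp h
  have hzC := qr_reg_centralizes p Q hQ hsup z hzr
  have hcomm : Commute z (z⁻¹ * y) := (Subgroup.mem_centralizer_iff.mp hzC _ hq).symm
  have h1 := qr_eq_of_mul_mem p Q hQ z y (z⁻¹ * y) hq hcomm (by group) hzr hy
  have : y = z * (z⁻¹ * y) := by group
  rw [this, h1, mul_one]

theorem qr_conj_lift [Finite G] (p : ℕ) [hp : Fact p.Prime] (Q : Subgroup G) [Q.Normal]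
    (hQ : IsPGroup p Q) (hsup : Q ⊔ Subgroup.centralizer (Q : Set G) = ⊤) (x y : G)
    (hx : ¬ p ∣ orderOf x) (hy : ¬ p ∣ orderOf y)
    (h : IsConj (QuotientGroup.mk x : G ⧸ Q) (QuotientGroup.mk y)) : IsConj x y := by
  obtain ⟨c, hc⟩ := isConj_iff.mp h
  obtain ⟨g, rfl⟩ := QuotientGroup.mk_surjective c
  have h1 : (QuotientGroup.mk (g * x * g⁻¹) : G ⧸ Q) = QuotientGroup.mk y := by
    rw [← hc]
    rfl
  exact isConj_iff.mpr ⟨g, qr_conj_eq p Q hQ hsup x y g hx hy h1⟩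

theorem qr_centralizer_comap [Finite G] (p : ℕ) [hp : Fact p.Prime] (Q : Subgroup G) [Q.Normal]
    (hQ : IsPGroup p Q) (hsup : Q ⊔ Subgroup.centralizer (Q : Set G) = ⊤) (x : G)
    (hx : ¬ p ∣ orderOf x) :
    (Subgroup.centralizer ({(QuotientGroup.mk x : G ⧸ Q)} : Set (G ⧸ Q))).comap
      (QuotientGroup.mk' Q) ≤ Subgroup.centralizer ({x} : Set G) := by
  intro g hg
  rw [Subgroup.mem_comap, Subgroup.mem_centralizer_singleton_iff] at hg
  rw [Subgroup.mem_centralizer_singleton_iff]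
  have h1 : (QuotientGroup.mk (g * x * g⁻¹) : G ⧸ Q) = QuotientGroup.mk x := by
    have h2 : (QuotientGroup.mk (g * x * g⁻¹) : G ⧸ Q) =
        QuotientGroup.mk' Q g * QuotientGroup.mk x * (QuotientGroup.mk' Q g)⁻¹ := rfl
    rw [h2, hg, mul_inv_cancel_right]
  have h3 := qr_conj_eq p Q hQ hsup x x g hx hx h1
  calc g * x = g * x * g⁻¹ * g := by group
    _ = x * g := by rw [h3]

theorem qr_lift_reg [Finite G] (p : ℕ) [hp : Fact p.Prime] (Q : Subgroup G) [Q.Normal]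
    (hQ : IsPGroup p Q) (y : G ⧸ Q) (hy : ¬ p ∣ orderOf y) :
    ∃ x : G, ¬ p ∣ orderOf x ∧ (QuotientGroup.mk x : G ⧸ Q) = y := by
  obtain ⟨y₀, rfl⟩ := QuotientGroup.mk_surjective y
  set m := orderOf (QuotientGroup.mk y₀ : G ⧸ Q) with hm
  have hm0 : 0 < m := orderOf_pos _
  obtain ⟨n, hn⟩ := IsPGroup.iff_card.mp hQ
  have hcop : (p ^ n).Coprime m :=
    Nat.Coprime.pow_left _ ((Nat.Prime.coprime_iff_not_dvd hp.out).mpr hy)
  have hE : (p ^ n) ^ Nat.totient m ≡ 1 [MOD m] := Nat.ModEq.pow_totient hcop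
  have htot : 0 < Nat.totient m := Nat.totient_pos.mpr hm0
  set E := (p ^ n) ^ Nat.totient m with hEdef
  have hdvd : p ^ n ∣ E := dvd_pow_self _ htot.ne'
  refine ⟨y₀ ^ E, ?_, ?_⟩
  · have h1 : (y₀ ^ E) ^ m = 1 := by
      have h2 : y₀ ^ m ∈ Q := by
        rw [← QuotientGroup.eq_one_iff, QuotientGroup.mk_pow, hm]
        exact pow_orderOf_eq_one _
      have h3 : (y₀ ^ m) ^ p ^ n = 1 := by
        have h4 : (⟨y₀ ^ m, h2⟩ : Q) ^ p ^ n = 1 := by
          rw [← hn]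
          exact pow_card_eq_one'
        have := congrArg Subtype.val h4
        simpa using this
      obtain ⟨t, ht⟩ := hdvd
      rw [← pow_mul, mul_comm, pow_mul, ht, pow_mul, h3, one_pow]
    intro hp'
    have h5 : orderOf (y₀ ^ E) ∣ m := orderOf_dvd_of_pow_eq_one h1
    exact hy (dvd_trans hp' h5)
  · rw [QuotientGroup.mk_pow]
    have := (pow_eq_pow_iff_modEq (x := (QuotientGroup.mk y₀ : G ⧸ Q)) (n := E) (m := 1)).mpr hE
    rw [this, pow_one]

end qr

end Cfsg.Agent.Lib.Helper24
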