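import Mathlib
import Cfsg.Prelude.Def_Blocks
import Cfsg.Prelude.Def_BlockRank
import Cfsg.Agent.Lib.helper7.BlockCover3
import Cfsg.Agent.Lib.helper7.BlockQuot
import Cfsg.Agent.Lib.Helper24.BlockDefClass
import Cfsg.Agent.Lib.Helper24.FongPrincipal
import Cfsg.Agent.Lib.Helper25.ExtraspecialUnique
import Cfsg.Agent.Lib.Helper25.CharLinear
import Cfsg.Agent.Lib.Helper24.QuotRank

set_option autoImplicit false
open scoped ComplexConjugate

namespace Cfsg.Agent.Lib.Helper24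

open Cfsg.Agent.Lib.helper2 Cfsg.Agent.Lib.helper7 Cfsg.Agent.Lib.Helper11 Cfsg.Agent.Lib.Helper25

section qr2

theorem qr_sameBlock_of_pregular {H : Type*} [Group H] [Fintype H] (p : ℕ) [hp : Fact p.Prime]
    (M : Ideal Cfsg.AlgInt) (hM : Cfsg.IsPModular p M) (χ ψ : Cfsg.IrrCharacter H)
    (h : ∀ x : H, ¬ p ∣ orderOf x →
      Cfsg.MemLocalIdeal M (Cfsg.centralChar (χ : H → ℂ) x - Cfsg.centralChar (ψ : H → ℂ) x)) :
    ψ ∈ Cfsg.blockOf M (χ : H → ℂ) := by
  classical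
  haveI : Fintype (Cfsg.IrrCharacter H) := Fintype.ofFinite _
  haveI : Fintype (ConjClasses H) := Fintype.ofFinite _
  have hMp := hM.2.1.isPrime
  set B := Cfsg.blockOf M (χ : H → ℂ) with hB
  set c : Cfsg.IrrCharacter H → ℂ := fun φ => if φ ∈ B then (1 : ℂ) else 0 with hc
  have hχB : χ ∈ B := h7_sameBlock_refl hMp _
  have hdiff : Cfsg.MemLocalIdeal M (c χ - c ψ) := by
    rw [h7_eval_expand c χ, h7_eval_expand c ψ, ← Finset.sum_sub_distrib]
    apply h7_memLocalIdeal_sum hMp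
    intro K _
    rw [h7_coef_indicator, ← mul_sub]
    by_cases hK : p ∣ orderOf (Quotient.out K)
    · have h1 : Cfsg.MemLocalIdeal M (Cfsg.blockCoeff B (Quotient.out K)) := by
        by_contra hn
        exact (bd_upper p M hM χ _ hn).1 hK
      exact h7_memLocalIdeal_mul_right hMp h1
        (h7_memLocalRing_sub hMp (h7_memLocalRing_centralChar hMp χ _)
          (h7_memLocalRing_centralChar hMp ψ _))
    · exact h7_memLocalIdeal_mul_left hMp (h7_osima hMp χ _) (h _ hK)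
  by_contra hne
  have hψB : ψ ∉ B := hne
  simp only [hc, if_pos hχB, if_neg hψB, sub_zero] at hdiff
  exact h7_not_memLocalIdeal_one hMp hdiff

theorem qr_centralChar_infl {G : Type*} [Group G] [Finite G] (p : ℕ) [hp : Fact p.Prime]
    (Q : Subgroup G) [Q.Normal]
    (hQ : IsPGroup p Q) (hsup : Q ⊔ Subgroup.centralizer (Q : Set G) = ⊤) (ψ : G ⧸ Q → ℂ) (x : G)
    (hx : ¬ p ∣ orderOf x) :
    Cfsg.centralChar (fun g : G => ψ (QuotientGroup.mk g)) x =
      Cfsg.centralChar ψ (QuotientGroup.mk x) := by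
  rw [h7_centralChar_inflate]
  have h1 := Subgroup.relIndex_eq_one.mpr (qr_centralizer_comap p Q hQ hsup x hx)
  rw [h1, Nat.cast_one, one_mul]

theorem qr_deflate_principal {G : Type*} [Group G] [Fintype G] (p : ℕ) [hp : Fact p.Prime]
    (M : Ideal Cfsg.AlgInt) (hM : Cfsg.IsPModular p M)
    (Q : Subgroup G) [Q.Normal]
    (hQ : IsPGroup p Q) (hsup : Q ⊔ Subgroup.centralizer (Q : Set G) = ⊤)
    (ψ : Cfsg.IrrCharacter (G ⧸ Q))
    (h : Cfsg.SameBlock M (fun _ : G => (1 : ℂ)) (fun g : G => (ψ : G ⧸ Q → ℂ) (QuotientGroup.mk g))) :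
    ψ ∈ Cfsg.principalBlock M (G ⧸ Q) := by
  classical
  haveI : Fintype (G ⧸ Q) := Fintype.ofFinite _
  have h1 := qr_sameBlock_of_pregular p M hM (trivIrr (G ⧸ Q)) ψ ?_
  · exact h1
  · intro y hy
    obtain ⟨x, hx, rfl⟩ := qr_lift_reg p Q hQ y hy
    have h2 := h x
    have h3 := qr_centralChar_infl p Q hQ hsup (ψ : G ⧸ Q → ℂ) x hx
    have h4 := qr_centralChar_infl p Q hQ hsup (fun _ : G ⧸ Q => (1 : ℂ)) x hx
    rw [h3] at h2
    have h5 : Cfsg.centralChar (fun _ : G => (1 : ℂ)) x =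
        Cfsg.centralChar (fun _ : G ⧸ Q => (1 : ℂ)) (QuotientGroup.mk x) := h4
    rw [h5] at h2
    exact h2

end qr2

end Cfsg.Agent.Lib.Helper24
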