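import Mathlib
import Cfsg.Agent.Lib.Helper24.QuotRank2
import Cfsg.Agent.Lib.Helper24.MetaNPC
import Cfsg.Agent.Lib.Helper1.Frat

set_option autoImplicit false
open scoped ComplexConjugate

namespace Cfsg.Agent.Lib.Helper24

open Cfsg.Agent.Lib.helper2 Cfsg.Agent.Lib.helper7 Cfsg.Agent.Lib.Helper11 Cfsg.Agent.Lib.Helper25

section qb

variable {G : Type*} [Group G]

theorem qb_centralizer_comap [Finite G] (p : ℕ) [hp : Fact p.Prime] (Q : Subgroup G) [hQn : Q.Normal]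
    (hQ : IsPGroup p Q) (x : G) (hx : ¬ p ∣ orderOf x)
    (hxC : x ∈ Subgroup.centralizer (Q : Set G)) :
    (Subgroup.centralizer ({(QuotientGroup.mk x : G ⧸ Q)} : Set (G ⧸ Q))).comap
      (QuotientGroup.mk' Q) ≤ Subgroup.centralizer ({x} : Set G) := by
  intro g hg
  rw [Subgroup.mem_comap, Subgroup.mem_centralizer_singleton_iff] at hg
  rw [Subgroup.mem_centralizer_singleton_iff]
  have h1 : (QuotientGroup.mk (g * x * g⁻¹) : G ⧸ Q) = QuotientGroup.mk x := by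
    have h2 : (QuotientGroup.mk (g * x * g⁻¹) : G ⧸ Q) =
        QuotientGroup.mk' Q g * QuotientGroup.mk x * (QuotientGroup.mk' Q g)⁻¹ := rfl
    rw [h2, hg, mul_inv_cancel_right]
  set z := g * x * g⁻¹ with hz
  have hzr : ¬ p ∣ orderOf z := by rw [hz, qr_orderOf_conj]; exact hx
  have hq : z⁻¹ * x ∈ Q := QuotientGroup.eq.mp h1
  have hzC : z ∈ Subgroup.centralizer (Q : Set G) :=
    (inferInstance : (Subgroup.centralizer (Q : Set G)).Normal).conj_mem x hxC g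
  have hcomm : Commute z (z⁻¹ * x) := (Subgroup.mem_centralizer_iff.mp hzC _ hq).symm
  have h3 := qr_eq_of_mul_mem p Q hQ z x (z⁻¹ * x) hq hcomm (by group) hzr hx
  have h4 : x = z := by
    have : x = z * (z⁻¹ * x) := by group
    rw [this, h3, mul_one]
  calc g * x = g * x * g⁻¹ * g := by group
    _ = x * g := by rw [← hz, ← h4]

theorem qb_centralChar_infl [Finite G] (p : ℕ) [hp : Fact p.Prime]
    (Q : Subgroup G) [Q.Normal] (hQ : IsPGroup p Q) (ψ : G ⧸ Q → ℂ) (x : G)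
    (hx : ¬ p ∣ orderOf x) (hxC : x ∈ Subgroup.centralizer (Q : Set G)) :
    Cfsg.centralChar (fun g : G => ψ (QuotientGroup.mk g)) x =
      Cfsg.centralChar ψ (QuotientGroup.mk x) := by
  rw [h7_centralChar_inflate]
  have h1 := Subgroup.relIndex_eq_one.mpr (qb_centralizer_comap p Q hQ x hx hxC)
  rw [h1, Nat.cast_one, one_mul]

theorem qb_not_le [Finite G] (p : ℕ) [hp : Fact p.Prime] (D : Subgroup G) [hDn : D.Normal]
    (hD : IsPGroup p D) (x : G) (hx : ¬ p ∣ orderOf x)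
    (hxC : x ∉ Subgroup.centralizer (D : Set G)) :
    ¬ D.map (QuotientGroup.mk' ⁅D, D⁆) ≤
      Subgroup.centralizer ({(QuotientGroup.mk x : G ⧸ ⁅D, D⁆)} : Set (G ⧸ ⁅D, D⁆)) := by
  intro hle
  apply hxC
  have hxN : x ∈ Subgroup.normalizer (D : Set G) := by
    rw [Subgroup.normalizer_eq_top]
    exact Subgroup.mem_top x
  have hcop : (orderOf x).Coprime p := ((Nat.Prime.coprime_iff_not_dvd hp.out).mpr hx).symm
  apply mn_burnside D hD x hxN hcop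
  intro y hy
  have h1 : (QuotientGroup.mk' ⁅D, D⁆ y) ∈ D.map (QuotientGroup.mk' ⁅D, D⁆) :=
    Subgroup.mem_map_of_mem _ hy
  have h2 := Subgroup.mem_centralizer_singleton_iff.mp (hle h1)
  have h3 : y⁻¹ * (x * y * x⁻¹) ∈ ⁅D, D⁆ := by
    rw [← QuotientGroup.eq_one_iff]
    have h4 : (QuotientGroup.mk (y⁻¹ * (x * y * x⁻¹)) : G ⧸ ⁅D, D⁆) =
        (QuotientGroup.mk' ⁅D, D⁆ y)⁻¹ * ((QuotientGroup.mk x : G ⧸ ⁅D, D⁆) *
          QuotientGroup.mk' ⁅D, D⁆ y * (QuotientGroup.mk x : G ⧸ ⁅D, D⁆)⁻¹) := rfl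
    rw [h4, ← h2]
    group
  have h5 : ⁅D, D⁆ ≤ (frattini ↥D).map D.subtype := by
    rw [← Subgroup.map_subtype_commutator]
    exact Subgroup.map_mono (Cfsg.Agent.Lib.Helper1.pgroup_commutator_le_frattini hD)
  exact h5 h3

theorem qb_main [Finite G] (p : ℕ) [hp : Fact p.Prime] (M : Ideal Cfsg.AlgInt)
    (hM : Cfsg.IsPModular p M) (D : Subgroup G) [hDn : D.Normal] (hD : IsPGroup p D) :
    (∀ χ ψ : Cfsg.IrrCharacter (G ⧸ ⁅D, D⁆),
      Cfsg.SameBlock M (χ : G ⧸ ⁅D, D⁆ → ℂ) (ψ : G ⧸ ⁅D, D⁆ → ℂ) ↔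
      Cfsg.SameBlock M ((χ : G ⧸ ⁅D, D⁆ → ℂ) ∘ QuotientGroup.mk)
        ((ψ : G ⧸ ⁅D, D⁆ → ℂ) ∘ QuotientGroup.mk)) ∧
    ∀ B : Set (Cfsg.IrrCharacter G), Cfsg.IsPBlock M B →
      ∃ χ : Cfsg.IrrCharacter (G ⧸ ⁅D, D⁆), ∃ θ ∈ B,
        (θ : G → ℂ) = (χ : G ⧸ ⁅D, D⁆ → ℂ) ∘ QuotientGroup.mk := by
  classical
  haveI : Fintype G := Fintype.ofFinite _
  haveI : Fintype (G ⧸ ⁅D, D⁆) := Fintype.ofFinite _
  haveI : Fintype (Cfsg.IrrCharacter G) := Fintype.ofFinite _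
  haveI : Fintype (Cfsg.IrrCharacter (G ⧸ ⁅D, D⁆)) := Fintype.ofFinite _
  have hMp := hM.2.1.isPrime
  have hQD : ⁅D, D⁆ ≤ D := Subgroup.commutator_le_right D D
  have hQ : IsPGroup p (⁅D, D⁆ : Subgroup G) := hD.to_le hQD
  have hsurj : Function.Surjective (QuotientGroup.mk' ⁅D, D⁆) := QuotientGroup.mk'_surjective _
  constructor
  · intro χ ψ
    constructor
    · intro h
      exact fg_infl_sameBlock ⁅D, D⁆ hMp (χ : G ⧸ ⁅D, D⁆ → ℂ) (ψ : G ⧸ ⁅D, D⁆ → ℂ) h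
    · intro h
      apply qr_sameBlock_of_pregular p M hM χ ψ
      intro y hy
      obtain ⟨x, hx, rfl⟩ := qr_lift_reg p ⁅D, D⁆ hQ y hy
      by_cases hxC : x ∈ Subgroup.centralizer (D : Set G)
      · have hxC' : x ∈ Subgroup.centralizer ((⁅D, D⁆ : Subgroup G) : Set G) :=
          Subgroup.centralizer_le hQD hxC
        have h2 := h x
        have h3 := qb_centralChar_infl p ⁅D, D⁆ hQ (χ : G ⧸ ⁅D, D⁆ → ℂ) x hx hxC'
        have h4 := qb_centralChar_infl p ⁅D, D⁆ hQ (ψ : G ⧸ ⁅D, D⁆ → ℂ) x hx hxC'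
        have h5 : Cfsg.centralChar ((χ : G ⧸ ⁅D, D⁆ → ℂ) ∘ QuotientGroup.mk) x =
            Cfsg.centralChar (χ : G ⧸ ⁅D, D⁆ → ℂ) (QuotientGroup.mk x) := h3
        have h6 : Cfsg.centralChar ((ψ : G ⧸ ⁅D, D⁆ → ℂ) ∘ QuotientGroup.mk) x =
            Cfsg.centralChar (ψ : G ⧸ ⁅D, D⁆ → ℂ) (QuotientGroup.mk x) := h4
        rw [h5, h6] at h2
        exact h2
      · have hnot := qb_not_le p D hD x hx hxC
        haveI : (D.map (QuotientGroup.mk' ⁅D, D⁆)).Normal := hDn.map _ hsurj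
        have hDp : IsPGroup p (D.map (QuotientGroup.mk' ⁅D, D⁆)) := hD.map _
        exact h7_memLocalIdeal_sub hMp
          (h7_centralChar_mem_of_not_centralize hM _ hDp χ _ hnot)
          (h7_centralChar_mem_of_not_centralize hM _ hDp ψ _ hnot)
  · rintro B ⟨χ₀, rfl⟩
    obtain ⟨θ, hθB, hker⟩ := h7_dominance hM ⁅D, D⁆ hQ χ₀
    obtain ⟨φ, hφ⟩ := h7_deflate ⁅D, D⁆ θ hker
    exact ⟨φ, θ, hθB, funext fun g => (hφ g).symm⟩

end qb

end Cfsg.Agent.Lib.Helper24
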