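import Mathlib
import Cfsg.Prelude.Def_Blocks
import Cfsg.Agent.Lib.Helper24.QuotDefect
import Cfsg.Agent.Lib.Helper24.QuotDerived
import Cfsg.Agent.S0908
import Cfsg.Agent.S0912
import Cfsg.Agent.Lib.Helper25.CharNormal
import Cfsg.Agent.Lib.helper7.BlockSing2
import Cfsg.Agent.Lib.helper7.BlockHom
import Cfsg.Agent.Lib.helper7.BlockFirstMain

set_option autoImplicit false
set_option linter.style.haveILetI false
set_option linter.unusedSectionVars false
set_option linter.unusedVariables false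

namespace Cfsg.Agent.Lib.Helper24

open scoped ComplexConjugate
open Cfsg.Agent.Lib.Helper25 Cfsg.Agent.Lib.Helper11 Cfsg.Agent.Lib.helper2 Cfsg.Agent.Lib.helper7

variable {G : Type*} [Group G]

theorem qh_defect_conj [Finite G] (p : ℕ) [hp : Fact p.Prime] (M : Ideal Cfsg.AlgInt)
    (hM : Cfsg.IsPModular p M) (B : Set (Cfsg.IrrCharacter G)) (hB : Cfsg.IsPBlock M B)
    (D₁ D₂ : Subgroup G) (h₁ : Cfsg.IsDefectGroup p M B D₁) (h₂ : Cfsg.IsDefectGroup p M B D₂) :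
    ∃ x : G, D₂ = D₁.map (MulAut.conj x).toMonoidHom := by
  classical
  haveI : Fintype G := Fintype.ofFinite _
  haveI : Fintype (Cfsg.IrrCharacter G) := Fintype.ofFinite _
  have hPr := hM.2.1.isPrime
  have c1 := Cfsg.Agent.S0908.result p M hM B hB D₁ h₁
  have c2 := Cfsg.Agent.S0908.result p M hM B hB D₂ h₂
  have h₁' := h₁
  have h₂' := h₂
  obtain ⟨g₁, hg₁, S₁, hS₁⟩ := h₁
  obtain ⟨g₂, hg₂, S₂, hS₂⟩ := h₂
  have hB' := hB
  obtain ⟨χ₀, rfl⟩ := hB
  have hχ₀ : χ₀ ∈ Cfsg.blockOf M (χ₀ : G → ℂ) := h7_sameBlock_refl hPr _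
  obtain ⟨x, Q, hQ⟩ := (Cfsg.Agent.S0911.result p M hM _ hB' g₁ hg₁ S₁ g₂).2
    ⟨χ₀, hχ₀, hg₂.2.2 χ₀ hχ₀⟩
  rw [← hS₁] at hQ
  have c3 := Cfsg.Agent.S0908.result p M hM _ hB' _ ⟨g₂, hg₂, Q, rfl⟩
  have hD₂p : IsPGroup p D₂ := by
    rw [hS₂]
    exact S₂.isPGroup'.map _
  have hD₂C : D₂ ≤ Subgroup.centralizer ({g₂} : Set G) := by
    rw [hS₂]
    exact Subgroup.map_subtype_le _
  obtain ⟨c, hc⟩ := qg_sylow_le_conj p _ Q D₂ hD₂p hD₂C
  have e1 : D₁.map (MulAut.conj x).toMonoidHom =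
      (Q : Subgroup (Subgroup.centralizer ({g₂} : Set G))).map
        (Subgroup.centralizer ({g₂} : Set G)).subtype := by
    apply Subgroup.eq_of_le_of_card_ge hQ
    rw [c3, Subgroup.card_map_of_injective (f := (MulAut.conj x).toMonoidHom)
      (MulAut.conj x).injective, c1]
  refine ⟨c * x, ?_⟩
  have e2 : D₂ = ((Q : Subgroup (Subgroup.centralizer ({g₂} : Set G))).map
      (Subgroup.centralizer ({g₂} : Set G)).subtype).map (MulAut.conj c).toMonoidHom := by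
    apply Subgroup.eq_of_le_of_card_ge hc
    rw [Subgroup.card_map_of_injective (f := (MulAut.conj c).toMonoidHom)
      (MulAut.conj c).injective, c3, c2]
  rw [e2, ← e1, Subgroup.map_map]
  congr 1
  ext y
  simp

theorem qh_psingular [Finite G] (p : ℕ) [hp : Fact p.Prime] (N : Subgroup G) (hN : IsPGroup p N)
    (x : G) (hx : ¬ p ∣ orderOf x) (hxC : x ∈ Subgroup.centralizer (N : Set G)) (n : N)
    (hn : n ≠ 1) : p ∣ orderOf (x * (n : G)) := by
  obtain ⟨k, hk⟩ := (IsPGroup.iff_orderOf.mp hN) n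
  rw [← Subgroup.orderOf_coe] at hk
  have hk0 : k ≠ 0 := by
    rintro rfl
    rw [pow_zero, orderOf_eq_one_iff] at hk
    exact hn (Subtype.ext hk)
  have hcomm : Commute x (n : G) := (Subgroup.mem_centralizer_iff.mp hxC (n : G) n.2).symm
  have hcop : (orderOf x).Coprime (orderOf (n : G)) := by
    rw [hk]
    exact Nat.Coprime.pow_right k ((Nat.Prime.coprime_iff_not_dvd hp.out).mpr hx).symm
  rw [hcomm.orderOf_mul_eq_mul_orderOf_of_coprime hcop, hk]
  exact Dvd.dvd.mul_left (dvd_pow_self p hk0) _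

noncomputable def qh_infl (N : Subgroup G) [N.Normal] (ψ : Cfsg.IrrCharacter (G ⧸ N)) :
    Cfsg.IrrCharacter G :=
  xs_infl (QuotientGroup.mk' N) (QuotientGroup.mk'_surjective N) ψ

theorem qh_infl_apply (N : Subgroup G) [N.Normal] (ψ : Cfsg.IrrCharacter (G ⧸ N)) (g : G) :
    (qh_infl N ψ : G → ℂ) g = (ψ : G ⧸ N → ℂ) (QuotientGroup.mk g) := rfl

theorem qh_infl_injective (N : Subgroup G) [N.Normal] : Function.Injective (qh_infl N) := by
  intro ψ₁ ψ₂ h
  apply Subtype.ext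
  funext y
  obtain ⟨g, rfl⟩ := QuotientGroup.mk_surjective y
  have := congrArg (fun χ : Cfsg.IrrCharacter G => (χ : G → ℂ) g) h
  exact this

theorem qh_mem_range_iff [Finite G] (N : Subgroup G) [N.Normal] (χ : Cfsg.IrrCharacter G) :
    (∃ ψ, qh_infl N ψ = χ) ↔ ∀ n ∈ N, (χ : G → ℂ) n = (χ : G → ℂ) 1 := by
  constructor
  · rintro ⟨ψ, rfl⟩ n hn
    rw [qh_infl_apply, qh_infl_apply, (QuotientGroup.eq_one_iff n).mpr hn, QuotientGroup.mk_one]
  · intro h
    obtain ⟨φ, hφ⟩ := h7_deflate N χ h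
    refine ⟨φ, Subtype.ext (funext fun g => ?_)⟩
    rw [qh_infl_apply, hφ]

theorem qh_coeff_deflate [Fintype G] [Fintype (Cfsg.IrrCharacter G)] (N : Subgroup G) [N.Normal]
    [Fintype N] [Fintype (Cfsg.IrrCharacter (G ⧸ N))]
    (B : Set (Cfsg.IrrCharacter G)) (x : G) :
    ∑ n : N, Cfsg.blockCoeff B (x * (n : G)) =
      Cfsg.blockCoeff {ψ : Cfsg.IrrCharacter (G ⧸ N) | qh_infl N ψ ∈ B} (QuotientGroup.mk x) := by
  classical
  unfold Cfsg.blockCoeff
  rw [h7_finsum_mem_fintype]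
  simp only [h7_finsum_mem_fintype, Set.mem_ofPred_eq]
  rw [← Finset.mul_sum, Finset.sum_comm]
  have hper : ∀ χ : Cfsg.IrrCharacter G,
      ∑ n : N, (if χ ∈ B then (χ : G → ℂ) 1 * conj ((χ : G → ℂ) (x * (n : G))) else 0) =
      (Nat.card N : ℂ) * (if (χ ∈ B ∧ ∃ ψ, qh_infl N ψ = χ) then
        (χ : G → ℂ) 1 * conj ((χ : G → ℂ) x) else 0) := by
    intro χ
    by_cases hχ : χ ∈ B
    · simp only [hχ, true_and, if_true]
      rw [← Finset.mul_sum, ← map_sum]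
      by_cases hr : ∃ ψ, qh_infl N ψ = χ
      · rw [if_pos hr]
        obtain ⟨ψ, rfl⟩ := hr
        have : ∀ n : N, (qh_infl N ψ : G → ℂ) (x * (n : G)) = (qh_infl N ψ : G → ℂ) x := by
          intro n
          rw [qh_infl_apply, qh_infl_apply, QuotientGroup.mk_mul,
            (QuotientGroup.eq_one_iff (n : G)).mpr n.2, mul_one]
        rw [Finset.sum_congr rfl (fun n _ => this n), Finset.sum_const, Finset.card_univ,
          nsmul_eq_mul, map_mul, Complex.conj_natCast, Nat.card_eq_fintype_card]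
        ring
      · rw [if_neg hr, mul_zero]
        have hN : ∃ n ∈ N, (χ : G → ℂ) n ≠ (χ : G → ℂ) 1 := by
          by_contra hcon
          push Not at hcon
          exact hr ((qh_mem_range_iff N χ).mpr hcon)
        rw [irr_sum_normal χ N hN x, map_zero, mul_zero]
    · simp only [if_neg hχ, hχ, false_and, if_false, Finset.sum_const_zero, mul_zero]
  rw [Finset.sum_congr rfl (fun χ _ => hper χ), ← Finset.mul_sum]
  have hsum : ∑ χ : Cfsg.IrrCharacter G, (if (χ ∈ B ∧ ∃ ψ, qh_infl N ψ = χ) then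
        (χ : G → ℂ) 1 * conj ((χ : G → ℂ) x) else 0) =
      ∑ ψ : Cfsg.IrrCharacter (G ⧸ N), (if qh_infl N ψ ∈ B then
        (ψ : G ⧸ N → ℂ) 1 * conj ((ψ : G ⧸ N → ℂ) (QuotientGroup.mk x)) else 0) := by
    have h1 : ∑ ψ : Cfsg.IrrCharacter (G ⧸ N), (if qh_infl N ψ ∈ B then
        (ψ : G ⧸ N → ℂ) 1 * conj ((ψ : G ⧸ N → ℂ) (QuotientGroup.mk x)) else 0) =
        ∑ χ ∈ Finset.univ.image (qh_infl N), (if χ ∈ B then
          (χ : G → ℂ) 1 * conj ((χ : G → ℂ) x) else 0) := by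
      rw [Finset.sum_image (fun a _ b _ h => qh_infl_injective N h)]
      refine Finset.sum_congr rfl fun ψ _ => ?_
      rw [qh_infl_apply, qh_infl_apply, QuotientGroup.mk_one]
    rw [h1]
    symm
    rw [← Finset.sum_filter_add_sum_filter_not Finset.univ
      (fun χ : Cfsg.IrrCharacter G => ∃ ψ, qh_infl N ψ = χ)]
    have hz : ∑ χ ∈ Finset.univ.filter (fun χ : Cfsg.IrrCharacter G => ¬ ∃ ψ, qh_infl N ψ = χ),
        (if (χ ∈ B ∧ ∃ ψ, qh_infl N ψ = χ) then
          (χ : G → ℂ) 1 * conj ((χ : G → ℂ) x) else 0) = 0 := by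
      apply Finset.sum_eq_zero
      intro χ hχ
      rw [if_neg (fun h => (Finset.mem_filter.mp hχ).2 h.2)]
    rw [hz, add_zero]
    have hfe : Finset.univ.filter (fun χ : Cfsg.IrrCharacter G => ∃ ψ, qh_infl N ψ = χ) =
        Finset.univ.image (qh_infl N) := by
      ext χ
      simp only [Finset.mem_image, Finset.mem_univ, true_and, Finset.mem_filter]
    rw [hfe]
    apply Finset.sum_congr rfl
    intro χ hχ
    have hr : ∃ ψ, qh_infl N ψ = χ := by
      obtain ⟨ψ, -, h⟩ := Finset.mem_image.mp hχ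
      exact ⟨ψ, h⟩
    simp only [hr, and_true]
  rw [hsum]
  rw [← mul_assoc]
  congr 1
  have hcard : Nat.card G = Nat.card (G ⧸ N) * Nat.card N :=
    Subgroup.card_eq_card_quotient_mul_card_subgroup N
  rw [hcard]
  have hN0 : (Nat.card N : ℂ) ≠ 0 := by exact_mod_cast Nat.card_pos.ne'
  have hQ0 : (Nat.card (G ⧸ N) : ℂ) ≠ 0 := by exact_mod_cast Nat.card_pos.ne'
  push_cast
  field_simp

theorem qh_exists_block [Fintype G] [Fintype (Cfsg.IrrCharacter G)] {M : Ideal Cfsg.AlgInt}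
    (hPr : M.IsPrime) (T : Set (Cfsg.IrrCharacter G))
    (hT : ∀ χ ∈ T, Cfsg.blockOf M (χ : G → ℂ) ⊆ T) (g : G)
    (hg : ¬ Cfsg.MemLocalIdeal M (Cfsg.blockCoeff T g)) :
    ∃ χ ∈ T, ¬ Cfsg.MemLocalIdeal M (Cfsg.blockCoeff (Cfsg.blockOf M (χ : G → ℂ)) g) := by
  classical
  by_contra hall
  push Not at hall
  apply hg
  set F : Cfsg.IrrCharacter G → ℂ := fun χ => (χ : G → ℂ) 1 * conj ((χ : G → ℂ) g) with hF
  have hsum : Cfsg.blockCoeff T g =
      ∑ b ∈ (Finset.univ.filter (fun χ : Cfsg.IrrCharacter G => χ ∈ T)).image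
        (fun χ : Cfsg.IrrCharacter G => Cfsg.blockOf M (χ : G → ℂ)), Cfsg.blockCoeff b g := by
    unfold Cfsg.blockCoeff
    rw [← Finset.mul_sum]
    congr 1
    rw [Finset.sum_image' (fun χ : Cfsg.IrrCharacter G => F χ)]
    · rw [h7_finsum_mem_fintype, Finset.sum_filter]
    · intro i hi
      have hiT : i ∈ T := (Finset.mem_filter.mp hi).2
      rw [h7_finsum_mem_fintype, ← Finset.sum_filter]
      apply Finset.sum_congr
      · ext j
        simp only [Finset.mem_filter, Finset.mem_univ, true_and]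
        constructor
        · intro hj
          exact ⟨hT i hiT hj, (h7_blockOf_eq_of_mem hPr i j hj).symm⟩
        · rintro ⟨-, hj⟩
          rw [← hj]
          exact h7_sameBlock_refl hPr _
      · intro j _
        rfl
  rw [hsum]
  apply h7_memLocalIdeal_sum hPr
  intro b hb
  obtain ⟨χ, hχ, rfl⟩ := Finset.mem_image.mp hb
  exact hall χ (Finset.mem_filter.mp hχ).2

theorem qh_card_comap [Finite G] (N : Subgroup G) [N.Normal] (K : Subgroup (G ⧸ N)) :
    Nat.card (K.comap (QuotientGroup.mk' N)) = Nat.card N * Nat.card K := by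
  have := QuotientGroup.card_preimage_mk N (K : Set (G ⧸ N))
  exact this

theorem qh_card_map [Finite G] (N : Subgroup G) [N.Normal] (P : Subgroup G) (hNP : N ≤ P) :
    Nat.card P = Nat.card N * Nat.card (P.map (QuotientGroup.mk' N)) := by
  rw [← qh_card_comap N (P.map (QuotientGroup.mk' N)), Subgroup.comap_map_eq,
    QuotientGroup.ker_mk', sup_eq_left.mpr hNP]

theorem qh_centralizer_comap_eq [Finite G] (p : ℕ) [hp : Fact p.Prime] (N : Subgroup G) [N.Normal]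
    (hN : IsPGroup p N) (x : G) (hx : ¬ p ∣ orderOf x)
    (hxC : x ∈ Subgroup.centralizer (N : Set G)) :
    (Subgroup.centralizer ({(QuotientGroup.mk x : G ⧸ N)} : Set (G ⧸ N))).comap
      (QuotientGroup.mk' N) = Subgroup.centralizer ({x} : Set G) := by
  apply le_antisymm (qb_centralizer_comap p N hN x hx hxC)
  intro g hg
  rw [Subgroup.mem_comap, Subgroup.mem_centralizer_singleton_iff]
  rw [Subgroup.mem_centralizer_singleton_iff] at hg
  simp only [QuotientGroup.mk'_apply, ← QuotientGroup.mk_mul, hg]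

theorem qh_image_sylow_card [Finite G] (p : ℕ) [hp : Fact p.Prime] (N : Subgroup G) [N.Normal]
    (hN : IsPGroup p N) (x : G) (hx : ¬ p ∣ orderOf x)
    (hxC : x ∈ Subgroup.centralizer (N : Set G))
    (S : Sylow p (Subgroup.centralizer ({x} : Set G)))
    (hNS : N ≤ (S : Subgroup (Subgroup.centralizer ({x} : Set G))).map
      (Subgroup.centralizer ({x} : Set G)).subtype) :
    Nat.card (((S : Subgroup (Subgroup.centralizer ({x} : Set G))).map
      (Subgroup.centralizer ({x} : Set G)).subtype).map (QuotientGroup.mk' N)) =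
      p ^ (Nat.card (Subgroup.centralizer
        ({(QuotientGroup.mk x : G ⧸ N)} : Set (G ⧸ N)))).factorization p := by
  have h1 := qh_card_map N _ hNS
  have h2 := qh_card_comap N (Subgroup.centralizer ({(QuotientGroup.mk x : G ⧸ N)} : Set (G ⧸ N)))
  rw [qh_centralizer_comap_eq p N hN x hx hxC] at h2
  rw [Subgroup.card_map_of_injective (Subgroup.subtype_injective _),
    Sylow.card_eq_multiplicity S, h2] at h1
  obtain ⟨a, ha⟩ := IsPGroup.iff_card.mp hN
  have hc0 : Nat.card (Subgroup.centralizer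
      ({(QuotientGroup.mk x : G ⧸ N)} : Set (G ⧸ N))) ≠ 0 := Nat.card_pos.ne'
  have hN0 : Nat.card N ≠ 0 := Nat.card_pos.ne'
  rw [Nat.factorization_mul hN0 hc0, Finsupp.add_apply, ha, Nat.Prime.factorization_pow hp.out,
    Finsupp.single_eq_same, pow_add] at h1
  exact (Nat.eq_of_mul_eq_mul_left (pow_pos hp.out.pos a) h1).symm

theorem qh_sameBlock_infl [Finite G] {M : Ideal Cfsg.AlgInt} (hPr : M.IsPrime) (N : Subgroup G)
    [N.Normal] (ψ₁ ψ₂ : Cfsg.IrrCharacter (G ⧸ N))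
    (h : Cfsg.SameBlock M (ψ₁ : G ⧸ N → ℂ) (ψ₂ : G ⧸ N → ℂ)) :
    Cfsg.SameBlock M (qh_infl N ψ₁ : G → ℂ) (qh_infl N ψ₂ : G → ℂ) := by
  intro g
  have e1 : (qh_infl N ψ₁ : G → ℂ) = fun x : G => (ψ₁ : G ⧸ N → ℂ) (QuotientGroup.mk x) := rfl
  have e2 : (qh_infl N ψ₂ : G → ℂ) = fun x : G => (ψ₂ : G ⧸ N → ℂ) (QuotientGroup.mk x) := rfl
  rw [e1, e2, h7_centralChar_inflate, h7_centralChar_inflate, ← mul_sub]
  exact h7_memLocalIdeal_mul_left hPr (h7_memLocalRing_natCast hPr _) (h _)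

theorem qh_map_conj (N : Subgroup G) [N.Normal] (P : Subgroup G) (y : G) :
    (P.map (MulAut.conj y).toMonoidHom).map (QuotientGroup.mk' N) =
      (P.map (QuotientGroup.mk' N)).map
        (MulAut.conj (QuotientGroup.mk y : G ⧸ N)).toMonoidHom := by
  rw [Subgroup.map_map, Subgroup.map_map]
  congr 1

theorem qh_main [Finite G] (p : ℕ) [hp : Fact p.Prime] (M : Ideal Cfsg.AlgInt)
    (hM : Cfsg.IsPModular p M) (N : Subgroup G) [hNn : N.Normal] (hN : IsPGroup p N)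
    (B : Set (Cfsg.IrrCharacter G)) (hB : Cfsg.IsPBlock M B) :
    ∃ Bbar : Set (Cfsg.IrrCharacter (G ⧸ N)), Cfsg.IsPBlock M Bbar ∧
      (∀ χ ∈ Bbar, ∀ ψ : Cfsg.IrrCharacter G,
        (ψ : G → ℂ) = (χ : G ⧸ N → ℂ) ∘ QuotientGroup.mk → ψ ∈ B) ∧
      ∀ Dbar : Subgroup (G ⧸ N), Cfsg.IsDefectGroup p M Bbar Dbar ↔
        ∃ P : Subgroup G, Cfsg.IsDefectGroup p M B P ∧ Dbar = P.map (QuotientGroup.mk' N) := by
  classical
  haveI : Fintype G := Fintype.ofFinite _
  haveI : Fintype N := Fintype.ofFinite _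
  haveI : Fintype (G ⧸ N) := Fintype.ofFinite _
  haveI : Fintype (Cfsg.IrrCharacter G) := Fintype.ofFinite _
  haveI : Fintype (Cfsg.IrrCharacter (G ⧸ N)) := Fintype.ofFinite _
  have hPr := hM.2.1.isPrime
  have hB' := hB
  obtain ⟨χ₀, rfl⟩ := hB
  obtain ⟨x, hx⟩ := Cfsg.Agent.S0906.result p M hM _ hB'
  obtain ⟨S⟩ : Nonempty (Sylow p (Subgroup.centralizer ({x} : Set G))) := inferInstance
  set P₀ := (S : Subgroup (Subgroup.centralizer ({x} : Set G))).map
    (Subgroup.centralizer ({x} : Set G)).subtype with hP₀def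
  have hP₀ : Cfsg.IsDefectGroup p M (Cfsg.blockOf M (χ₀ : G → ℂ)) P₀ := ⟨x, hx, S, rfl⟩
  have hxreg : ¬ p ∣ orderOf x := by
    intro h
    apply hx.2.1
    rw [h7_blockCoeff_psingular hM χ₀ x h]
    exact h7_memLocalIdeal_zero hPr
  have hNP₀ : N ≤ P₀ :=
    (le_sSup (show N ∈ {N : Subgroup G | N.Normal ∧ IsPGroup p N} from ⟨hNn, hN⟩)).trans
      (Cfsg.Agent.S0912.result p M hM _ hB' P₀ hP₀)
  have hP₀C : P₀ ≤ Subgroup.centralizer ({x} : Set G) := Subgroup.map_subtype_le _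
  have hxC : x ∈ Subgroup.centralizer (N : Set G) := h7_mem_centralizer_of_le (hNP₀.trans hP₀C)
  set Sb : Set (Cfsg.IrrCharacter (G ⧸ N)) :=
    {ψ | qh_infl N ψ ∈ Cfsg.blockOf M (χ₀ : G → ℂ)} with hSb
  have hcoef : Cfsg.blockCoeff Sb (QuotientGroup.mk x) =
      Cfsg.blockCoeff (Cfsg.blockOf M (χ₀ : G → ℂ)) x := by
    rw [← qh_coeff_deflate N (Cfsg.blockOf M (χ₀ : G → ℂ)) x]
    rw [Finset.sum_eq_single (1 : N)]
    · rw [Subgroup.coe_one, mul_one]
    · intro n _ hn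
      exact h7_blockCoeff_psingular hM χ₀ _ (qh_psingular p N hN x hxreg hxC n hn)
    · intro h
      exact absurd (Finset.mem_univ _) h
  have hclosed : ∀ ψ ∈ Sb, Cfsg.blockOf M (ψ : G ⧸ N → ℂ) ⊆ Sb := by
    intro ψ hψ ψ' hψ'
    exact h7_sameBlock_trans hPr hψ (qh_sameBlock_infl hPr N ψ ψ' hψ')
  obtain ⟨ψ₁, hψ₁S, hne⟩ := qh_exists_block hPr Sb hclosed (QuotientGroup.mk x) (by
    rw [hcoef]
    exact hx.2.1)
  have hsubS : Cfsg.blockOf M (ψ₁ : G ⧸ N → ℂ) ⊆ Sb := hclosed ψ₁ hψ₁S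
  have hdc : Cfsg.IsDefectClass M (Cfsg.blockOf M (ψ₁ : G ⧸ N → ℂ)) (QuotientGroup.mk x) := by
    refine ⟨?_, hne, ?_⟩
    · rw [← h7_coef_indicator]
      exact h7_block_indicator_mem hPr ψ₁ _
    · intro χ hχ
      have h1 := hx.2.2 (qh_infl N χ) (hsubS hχ)
      have e1 : (qh_infl N χ : G → ℂ) = fun g : G => (χ : G ⧸ N → ℂ) (QuotientGroup.mk g) := rfl
      rw [e1, qb_centralChar_infl p N hN _ x hxreg hxC] at h1
      exact h1
  have hP₀bar : Cfsg.IsDefectGroup p M (Cfsg.blockOf M (ψ₁ : G ⧸ N → ℂ))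
      (P₀.map (QuotientGroup.mk' N)) := by
    apply h7_isDefectGroup_of_card p M _ (QuotientGroup.mk x) hdc
    · rintro _ ⟨u, hu, rfl⟩
      have h1 := Subgroup.mem_centralizer_singleton_iff.mp (hP₀C hu)
      rw [Subgroup.mem_centralizer_singleton_iff]
      simp only [QuotientGroup.mk'_apply, ← QuotientGroup.mk_mul, h1]
    · exact qh_image_sylow_card p N hN x hxreg hxC S hNP₀
  refine ⟨Cfsg.blockOf M (ψ₁ : G ⧸ N → ℂ), ⟨ψ₁, rfl⟩, ?_, ?_⟩
  · intro χ hχ ψ hψ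
    have h1 : ψ = qh_infl N χ := Subtype.ext (by rw [hψ]; rfl)
    rw [h1]
    exact hsubS hχ
  · intro Dbar
    constructor
    · intro hD
      obtain ⟨yb, hyb⟩ := qh_defect_conj p M hM _ ⟨ψ₁, rfl⟩ _ _ hP₀bar hD
      obtain ⟨y, rfl⟩ := QuotientGroup.mk_surjective yb
      refine ⟨P₀.map (MulAut.conj y).toMonoidHom, h7_isDefectGroup_conj p M _ _ hP₀ y, ?_⟩
      rw [hyb, qh_map_conj]
    · rintro ⟨P, hP, rfl⟩
      obtain ⟨y, hy⟩ := qh_defect_conj p M hM _ hB' _ _ hP₀ hP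
      rw [hy, qh_map_conj]
      exact h7_isDefectGroup_conj p M _ _ hP₀bar _

end Cfsg.Agent.Lib.Helper24
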