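import Cfsg.Agent.Lib.Helper24.PRegGen
import Cfsg.Agent.Lib.Helper25.CharLinear

set_option autoImplicit false
open scoped ComplexConjugate

namespace Cfsg.Agent.Lib.Helper24

open Cfsg.Agent.Lib.helper2 Cfsg.Agent.Lib.helper7 Cfsg.Agent.Lib.Helper11 Cfsg.Agent.Lib.Helper25

theorem prg_sylow_dvd {G : Type*} [Group G] [Finite G] (p : ℕ) [hp : Fact p.Prime] (θ : G → ℂ)
    (hθ : Cfsg.IsGeneralizedCharacter G θ) (hvan : ∀ x : G, p ∣ orderOf x → θ x = 0) :
    ∃ z : ℤ, θ 1 = (z : ℂ) * ((p ^ (Nat.card G).factorization p : ℕ) : ℂ) := by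
  classical
  let P : Sylow p G := default
  haveI : Fintype P := Fintype.ofFinite _
  have hgen : Cfsg.IsGeneralizedCharacter P (fun x : P => θ (x : G)) := by
    obtain ⟨χ, ψ, hχ, hψ, rfl⟩ := hθ
    exact ⟨_, _, isCharacter_restrict hχ P, isCharacter_restrict hψ P, rfl⟩
  have hone : Cfsg.IsGeneralizedCharacter P (fun _ : P => (1 : ℂ)) :=
    ⟨_, 0, isCharacter_of_irr (trivIrr P), isCharacter_zero _, (sub_zero _).symm⟩
  obtain ⟨z, hz⟩ := genChar_inner_genChar_int _ _ hgen hone
  refine ⟨z, ?_⟩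
  have hcard : Nat.card P = p ^ (Nat.card G).factorization p := P.card_eq_multiplicity
  unfold Cfsg.classInner at hz
  have hsum : ∑ x : (P : Subgroup G), θ (x : G) * conj (1 : ℂ) = θ 1 := by
    rw [Finset.sum_eq_single (1 : (P : Subgroup G))]
    · simp
    · intro x _ hx
      have hdvd : p ∣ orderOf (x : G) := by
        rw [Subgroup.orderOf_coe]
        obtain ⟨k, hk⟩ := (IsPGroup.iff_orderOf.mp P.isPGroup') x
        rw [hk]
        have hk0 : k ≠ 0 := by
          intro h0
          rw [h0, pow_zero, orderOf_eq_one_iff] at hk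
          exact hx hk
        exact dvd_pow_self p hk0
      rw [hvan _ hdvd, zero_mul]
    · intro h
      exact absurd (Finset.mem_univ _) h
  rw [hsum, hcard] at hz
  have hne : ((p ^ (Nat.card G).factorization p : ℕ) : ℂ) ≠ 0 := by
    exact_mod_cast (pow_pos hp.out.pos _).ne'
  rw [← hz]
  field_simp

end Cfsg.Agent.Lib.Helper24
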