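import Mathlib
import Cfsg.Prelude.Def_Local
import Cfsg.Prelude.Def_Blocks
import Cfsg.Agent.S0925
import Cfsg.Agent.S0942
import Cfsg.Agent.Lib.helper7.Q8Cent
import Cfsg.Agent.Lib.Helper25.CharLinear
import Cfsg.Agent.Lib.Helper25.CharOrth
import Cfsg.Agent.Lib.Helper25.CharAbelian
import Cfsg.Agent.Lib.Helper24.KleinOrder4

set_option autoImplicit false
open scoped ComplexConjugate

namespace Cfsg.Agent.Lib.Helper24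

open Cfsg.Agent.Lib.Helper25 Cfsg.Agent.Lib.helper7

section KF5
variable {G : Type*} [Group G] [Fintype G]

theorem kf_finsum_four (M : Ideal Cfsg.AlgInt) (χ₁ χ₂ χ₃ : Cfsg.IrrCharacter G)
    (hB : Cfsg.principalBlock M G = {χ : Cfsg.IrrCharacter G |
      (χ : G → ℂ) = (fun _ => 1) ∨ χ = χ₁ ∨ χ = χ₂ ∨ χ = χ₃})
    (hdist : (χ₁ : G → ℂ) ≠ (fun _ => 1) ∧ (χ₂ : G → ℂ) ≠ (fun _ => 1) ∧
      (χ₃ : G → ℂ) ≠ (fun _ => 1) ∧ χ₁ ≠ χ₂ ∧ χ₁ ≠ χ₃ ∧ χ₂ ≠ χ₃)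
    (F : Cfsg.IrrCharacter G → ℂ) :
    ∑ᶠ χ ∈ Cfsg.principalBlock M G, F χ = F (trivIrr G) + F χ₁ + F χ₂ + F χ₃ := by
  classical
  obtain ⟨h1, h2, h3, h12, h13, h23⟩ := hdist
  have htriv : ∀ χ : Cfsg.IrrCharacter G, (χ : G → ℂ) = (fun _ => 1) ↔ χ = trivIrr G := by
    intro χ
    constructor
    · intro h; exact Subtype.ext h
    · intro h; rw [h]; rfl
  have hset : Cfsg.principalBlock M G =
      (({trivIrr G, χ₁, χ₂, χ₃} : Finset (Cfsg.IrrCharacter G)) : Set (Cfsg.IrrCharacter G)) := by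
    rw [hB]
    ext χ
    simp only [Set.mem_ofPred_eq, Finset.coe_insert, Finset.coe_singleton, Set.mem_insert_iff,
      Set.mem_singleton_iff, htriv]
  rw [hset, finsum_mem_coe_finset]
  have n1 : trivIrr G ∉ ({χ₁, χ₂, χ₃} : Finset (Cfsg.IrrCharacter G)) := by
    simp only [Finset.mem_insert, Finset.mem_singleton, not_or]
    exact ⟨fun h => h1 ((htriv _).mpr h.symm), fun h => h2 ((htriv _).mpr h.symm),
      fun h => h3 ((htriv _).mpr h.symm)⟩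
  have n2 : χ₁ ∉ ({χ₂, χ₃} : Finset (Cfsg.IrrCharacter G)) := by
    simp only [Finset.mem_insert, Finset.mem_singleton, not_or]
    exact ⟨h12, h13⟩
  have n3 : χ₂ ∉ ({χ₃} : Finset (Cfsg.IrrCharacter G)) := by
    simp only [Finset.mem_singleton]
    exact h23
  rw [Finset.sum_insert n1, Finset.sum_insert n2, Finset.sum_insert n3, Finset.sum_singleton]
  ring

open Classical in
theorem kf_f_val (M : Ideal Cfsg.AlgInt) (hM : Cfsg.IsPModular 2 M) {J : G} {P O : Subgroup G}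
    (h : KFData J P O) (hOcore : O ≤ Cfsg.centralizerPPrimeCore 2 J)
    (χ₁ χ₂ χ₃ : Cfsg.IrrCharacter G) (ε₁ ε₂ ε₃ : ℤ)
    (hB : Cfsg.principalBlock M G = {χ : Cfsg.IrrCharacter G |
      (χ : G → ℂ) = (fun _ => 1) ∨ χ = χ₁ ∨ χ = χ₂ ∨ χ = χ₃})
    (hdist : (χ₁ : G → ℂ) ≠ (fun _ => 1) ∧ (χ₂ : G → ℂ) ≠ (fun _ => 1) ∧
      (χ₃ : G → ℂ) ≠ (fun _ => 1) ∧ χ₁ ≠ χ₂ ∧ χ₁ ≠ χ₃ ∧ χ₂ ≠ χ₃)
    (hε : (ε₁ = 1 ∨ ε₁ = -1) ∧ (ε₂ = 1 ∨ ε₂ = -1) ∧ (ε₃ = 1 ∨ ε₃ = -1))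
    (hval : (χ₁ : G → ℂ) J = ε₁ ∧ (χ₂ : G → ℂ) J = ε₂ ∧ (χ₃ : G → ℂ) J = ε₃) (σ : G) :
    (1 + (ε₁ : ℂ) * (χ₁ : G → ℂ) σ + (ε₂ : ℂ) * (χ₂ : G → ℂ) σ + (ε₃ : ℂ) * (χ₃ : G → ℂ) σ) *
      (Nat.card (Subgroup.centralizer ({J} : Set G)) : ℂ) =
      4 * ((Finset.univ.filter (fun g : G => J⁻¹ * (g⁻¹ * σ * g) ∈ O)).card : ℂ) := by
  haveI : Fact (Nat.Prime 2) := ⟨Nat.prime_two⟩
  have hJJ := h.JJ
  have hJinv : J⁻¹ = J := inv_eq_of_mul_eq_one_right hJJ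
  have hmem : ∀ χ : Cfsg.IrrCharacter G, χ = χ₁ ∨ χ = χ₂ ∨ χ = χ₃ →
      χ ∈ Cfsg.principalBlock M G := by
    intro χ hχ
    rw [hB]
    exact Or.inr hχ
  have he1 : (ε₁ : ℂ) * (ε₁ : ℂ) = 1 := by
    rcases hε.1 with h | h <;> rw [h] <;> norm_num
  have he2 : (ε₂ : ℂ) * (ε₂ : ℂ) = 1 := by
    rcases hε.2.1 with h | h <;> rw [h] <;> norm_num
  have he3 : (ε₃ : ℂ) * (ε₃ : ℂ) = 1 := by
    rcases hε.2.2 with h | h <;> rw [h] <;> norm_num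
  by_cases hex : ∃ g : G, J⁻¹ * (g⁻¹ * σ * g) ∈ O
  · rw [h.D_val σ hex]
    obtain ⟨g, hg⟩ := hex
    set ρ := J⁻¹ * (g⁻¹ * σ * g) with hρ
    have hσ : g⁻¹ * σ * g = J * ρ := by rw [hρ]; group
    have hval' : ∀ χ : Cfsg.IrrCharacter G, χ ∈ Cfsg.principalBlock M G →
        (χ : G → ℂ) σ = (χ : G → ℂ) J := by
      intro χ hχ
      have h1 : (χ : G → ℂ) σ = (χ : G → ℂ) (g⁻¹ * σ * g) := by
        have := irr_conj_invariant χ σ g⁻¹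
        rw [inv_inv] at this
        exact this.symm
      rw [h1, hσ]
      exact Cfsg.Agent.S0942.result 2 M hM J ⟨1, by rw [h.hJ, pow_one]⟩ ρ (hOcore hg) χ hχ
    rw [hval' χ₁ (hmem _ (Or.inl rfl)), hval' χ₂ (hmem _ (Or.inr (Or.inl rfl))),
      hval' χ₃ (hmem _ (Or.inr (Or.inr rfl))), hval.1, hval.2.1, hval.2.2, he1, he2, he3]
    ring
  · have hempty : Finset.univ.filter (fun g : G => J⁻¹ * (g⁻¹ * σ * g) ∈ O) = ∅ := by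
      rw [Finset.filter_eq_empty_iff]
      intro g _ hg
      exact hex ⟨g, hg⟩
    rw [hempty, Finset.card_empty, Nat.cast_zero, mul_zero]
    obtain ⟨z, hz⟩ := h7_exists_isPPart 2 σ
    have hnc : ¬ IsConj z J := by
      intro hc
      rw [isConj_iff] at hc
      obtain ⟨c, hc⟩ := hc
      obtain ⟨y, hzy, hcomm, -, hy⟩ := hz
      apply hex
      refine ⟨c⁻¹, ?_⟩
      have e1 : J⁻¹ * ((c⁻¹)⁻¹ * σ * c⁻¹) = c * y * c⁻¹ := by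
        rw [← hzy, ← hc]; group
      rw [e1]
      apply h.hoddmem
      · rw [← hc]
        have := hcomm.eq
        calc c * y * c⁻¹ * (c * z * c⁻¹) = c * (y * z) * c⁻¹ := by group
          _ = c * (z * y) * c⁻¹ := by rw [this]
          _ = c * z * c⁻¹ * (c * y * c⁻¹) := by group
      · have ho : orderOf (c * y * c⁻¹) = orderOf y := by
          have := MulEquiv.orderOf_eq (MulAut.conj c) y
          rwa [MulAut.conj_apply] at this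
        rw [ho, ← Nat.not_even_iff_odd, even_iff_two_dvd]
        exact hy
    have hJpart : Cfsg.IsPPart 2 J J :=
      ⟨1, mul_one J, Commute.one_right J, ⟨1, by rw [h.hJ, pow_one]⟩, by simp⟩
    have h925 := (Cfsg.Agent.S0925.result 2 M hM).2 σ J z J hz hJpart hnc
      (Cfsg.principalBlock M G) ⟨trivIrr G, rfl⟩
    rw [kf_finsum_four M χ₁ χ₂ χ₃ hB hdist, hJinv, hval.1, hval.2.1, hval.2.2] at h925
    simp only [trivIrr_apply, mul_one] at h925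
    have : (1 + (ε₁ : ℂ) * (χ₁ : G → ℂ) σ + (ε₂ : ℂ) * (χ₂ : G → ℂ) σ +
        (ε₃ : ℂ) * (χ₃ : G → ℂ) σ) = 0 := by
      linear_combination h925
    rw [this, zero_mul]

theorem kf_order_formula [DecidableEq G] (M : Ideal Cfsg.AlgInt) (hM : Cfsg.IsPModular 2 M) {J : G}
    {P O : Subgroup G}
    (h : KFData J P O) (hOcore : O ≤ Cfsg.centralizerPPrimeCore 2 J)
    (hconj : ∀ t : G, t * t = 1 → t ≠ 1 → ∃ a : G, a * J * a⁻¹ = t)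
    (s : G) (hs : s ∈ P) (hs1 : s ≠ 1) (hsJ : s ≠ J)
    (χ₁ χ₂ χ₃ : Cfsg.IrrCharacter G) (ε₁ ε₂ ε₃ : ℤ)
    (hB : Cfsg.principalBlock M G = {χ : Cfsg.IrrCharacter G |
      (χ : G → ℂ) = (fun _ => 1) ∨ χ = χ₁ ∨ χ = χ₂ ∨ χ = χ₃})
    (hdist : (χ₁ : G → ℂ) ≠ (fun _ => 1) ∧ (χ₂ : G → ℂ) ≠ (fun _ => 1) ∧
      (χ₃ : G → ℂ) ≠ (fun _ => 1) ∧ χ₁ ≠ χ₂ ∧ χ₁ ≠ χ₃ ∧ χ₂ ≠ χ₃)
    (hε : (ε₁ = 1 ∨ ε₁ = -1) ∧ (ε₂ = 1 ∨ ε₂ = -1) ∧ (ε₃ = 1 ∨ ε₃ = -1))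
    (hval : (χ₁ : G → ℂ) J = ε₁ ∧ (χ₂ : G → ℂ) J = ε₂ ∧ (χ₃ : G → ℂ) J = ε₃) :
    (Nat.card G : ℚ) = 8 * (((Cfsg.charDegree (χ₁ : G → ℂ) : ℚ) * Cfsg.charDegree (χ₂ : G → ℂ) *
      Cfsg.charDegree (χ₃ : G → ℂ)) / ((Cfsg.charDegree (χ₁ : G → ℂ) + ε₁) *
      (Cfsg.charDegree (χ₂ : G → ℂ) + ε₂) * (Cfsg.charDegree (χ₃ : G → ℂ) + ε₃))) *
      (Nat.card (Subgroup.centralizer ({J} : Set G)) : ℚ) ^ 3 /
      (Nat.card (Subgroup.centralizer (P : Set G)) : ℚ) ^ 2 := by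
  classical
  haveI : Fact (Nat.Prime 2) := ⟨Nat.prime_two⟩
  have hJJ := h.JJ
  have hJ1 : J ≠ 1 := by
    intro hJ
    have := h.hJ
    rw [hJ, orderOf_one] at this
    omega
  obtain ⟨hd1, hp1⟩ := charDegree_irr χ₁
  obtain ⟨hd2, hp2⟩ := charDegree_irr χ₂
  obtain ⟨hd3, hp3⟩ := charDegree_irr χ₃
  set f₁ := Cfsg.charDegree (χ₁ : G → ℂ) with hf₁
  set f₂ := Cfsg.charDegree (χ₂ : G → ℂ) with hf₂
  set f₃ := Cfsg.charDegree (χ₃ : G → ℂ) with hf₃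
  set c := Nat.card (Subgroup.centralizer ({J} : Set G)) with hc
  set cP := Nat.card (Subgroup.centralizer (P : Set G)) with hcP
  set K := (kfPairs O J).card with hK
  have he1 : ε₁ * ε₁ = 1 := by rcases hε.1 with h | h <;> rw [h] <;> norm_num
  have he2 : ε₂ * ε₂ = 1 := by rcases hε.2.1 with h | h <;> rw [h] <;> norm_num
  have he3 : ε₃ * ε₃ = 1 := by rcases hε.2.2 with h | h <;> rw [h] <;> norm_num
  have hrel : (1 : ℤ) + ε₁ * f₁ + ε₂ * f₂ + ε₃ * f₃ = 0 := by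
    have hJpart : Cfsg.IsPPart 2 J J :=
      ⟨1, mul_one J, Commute.one_right J, ⟨1, by rw [h.hJ, pow_one]⟩, by simp⟩
    have h1part : Cfsg.IsPPart 2 (1 : G) 1 :=
      ⟨1, mul_one 1, Commute.one_right 1, ⟨0, by simp⟩, by simp⟩
    have hnc : ¬ IsConj J 1 := by
      intro hc
      exact hJ1 (isConj_one_right.mp hc.symm)
    have h925 := (Cfsg.Agent.S0925.result 2 M hM).2 J 1 J 1 hJpart h1part hnc
      (Cfsg.principalBlock M G) ⟨trivIrr G, rfl⟩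
    rw [kf_finsum_four M χ₁ χ₂ χ₃ hB hdist, inv_one, hval.1, hval.2.1, hval.2.2, ← hd1, ← hd2,
      ← hd3] at h925
    simp only [trivIrr_apply, mul_one] at h925
    have : ((1 + ε₁ * f₁ + ε₂ * f₂ + ε₃ * f₃ : ℤ) : ℂ) = 0 := by
      push_cast
      linear_combination h925
    exact_mod_cast this
  have hsum : ∑ y : G, (1 + (ε₁ : ℂ) * (χ₁ : G → ℂ) (y * J * y⁻¹ * J) +
      (ε₂ : ℂ) * (χ₂ : G → ℂ) (y * J * y⁻¹ * J) + (ε₃ : ℂ) * (χ₃ : G → ℂ) (y * J * y⁻¹ * J)) =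
      (Nat.card G : ℂ) * (1 + (ε₁ : ℂ) / f₁ + (ε₂ : ℂ) / f₂ + (ε₃ : ℂ) / f₃) := by
    rw [Finset.sum_add_distrib, Finset.sum_add_distrib, Finset.sum_add_distrib,
      ← Finset.mul_sum, ← Finset.mul_sum, ← Finset.mul_sum, irr_sum_conj_mul, irr_sum_conj_mul,
      irr_sum_conj_mul, hval.1, hval.2.1, hval.2.2, ← hd1, ← hd2, ← hd3]
    have e1 : (ε₁ : ℂ) * (ε₁ : ℂ) = 1 := by exact_mod_cast he1
    have e2 : (ε₂ : ℂ) * (ε₂ : ℂ) = 1 := by exact_mod_cast he2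
    have e3 : (ε₃ : ℂ) * (ε₃ : ℂ) = 1 := by exact_mod_cast he3
    simp only [Finset.sum_const, Finset.card_univ, nsmul_eq_mul, mul_one,
      ← Nat.card_eq_fintype_card]
    have t1 : (ε₁ : ℂ) * ((Nat.card G : ℂ) * ε₁ * ε₁ / f₁) = (Nat.card G : ℂ) * (ε₁ / f₁) := by
      rw [mul_assoc (Nat.card G : ℂ), e1]; ring
    have t2 : (ε₂ : ℂ) * ((Nat.card G : ℂ) * ε₂ * ε₂ / f₂) = (Nat.card G : ℂ) * (ε₂ / f₂) := by
      rw [mul_assoc (Nat.card G : ℂ), e2]; ring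
    have t3 : (ε₃ : ℂ) * ((Nat.card G : ℂ) * ε₃ * ε₃ / f₃) = (Nat.card G : ℂ) * (ε₃ / f₃) := by
      rw [mul_assoc (Nat.card G : ℂ), e3]; ring
    rw [t1, t2, t3]
    ring
  have hcpos : 0 < c := Nat.card_pos
  have hcPpos : 0 < cP := Nat.card_pos
  have hGpos : 0 < Nat.card G := Nat.card_pos
  have hcount : (∑ y : G, (1 + (ε₁ : ℂ) * (χ₁ : G → ℂ) (y * J * y⁻¹ * J) +
      (ε₂ : ℂ) * (χ₂ : G → ℂ) (y * J * y⁻¹ * J) + (ε₃ : ℂ) * (χ₃ : G → ℂ) (y * J * y⁻¹ * J))) *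
      (c : ℂ) = 4 * (((c ^ 2 * K : ℕ)) : ℂ) := by
    rw [Finset.sum_mul, ← h.sum_D hconj]
    push_cast
    rw [Finset.mul_sum]
    refine Finset.sum_congr rfl fun y _ => ?_
    exact kf_f_val M hM h hOcore χ₁ χ₂ χ₃ ε₁ ε₂ ε₃ hB hdist hε hval (y * J * y⁻¹ * J)
  rw [hsum] at hcount
  have hKc : K * cP ^ 2 = 2 * c ^ 2 := by
    have h1 := h.card_pairs hs hs1 hsJ
    have h2 := h.card_C
    rw [hK, hcP, hc, h2]
    exact h1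
  have g1 : (f₁ : ℂ) ≠ 0 := by exact_mod_cast hp1.ne'
  have g2 : (f₂ : ℂ) ≠ 0 := by exact_mod_cast hp2.ne'
  have g3 : (f₃ : ℂ) ≠ 0 := by exact_mod_cast hp3.ne'
  have hcne : (c : ℂ) ≠ 0 := by exact_mod_cast hcpos.ne'
  have hmain : (Nat.card G : ℤ) * (f₁ * f₂ * f₃ + ε₁ * f₂ * f₃ + ε₂ * f₁ * f₃ + ε₃ * f₁ * f₂) =
      4 * c * K * (f₁ * f₂ * f₃) := by
    have : (((Nat.card G : ℤ) * (f₁ * f₂ * f₃ + ε₁ * f₂ * f₃ + ε₂ * f₁ * f₃ + ε₃ * f₁ * f₂) : ℤ) : ℂ)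
        = ((4 * c * K * (f₁ * f₂ * f₃) : ℤ) : ℂ) := by
      push_cast
      have h1 : (Nat.card G : ℂ) * (1 + (ε₁ : ℂ) / f₁ + (ε₂ : ℂ) / f₂ + (ε₃ : ℂ) / f₃) =
          4 * (c * K) := by
        have h2 : (Nat.card G : ℂ) * (1 + (ε₁ : ℂ) / f₁ + (ε₂ : ℂ) / f₂ + (ε₃ : ℂ) / f₃) * c =
            4 * (c * K) * c := by
          rw [hcount]; push_cast; ring
        exact mul_right_cancel₀ hcne h2
      have e : (1 + (ε₁ : ℂ) / f₁ + (ε₂ : ℂ) / f₂ + (ε₃ : ℂ) / f₃) * ((f₁ : ℂ) * f₂ * f₃) =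
          (f₁ : ℂ) * f₂ * f₃ + ε₁ * f₂ * f₃ + ε₂ * f₁ * f₃ + ε₃ * f₁ * f₂ := by
        field_simp
      calc (Nat.card G : ℂ) * ((f₁ : ℂ) * f₂ * f₃ + ε₁ * f₂ * f₃ + ε₂ * f₁ * f₃ + ε₃ * f₁ * f₂)
          = (Nat.card G : ℂ) * ((1 + (ε₁ : ℂ) / f₁ + (ε₂ : ℂ) / f₂ + (ε₃ : ℂ) / f₃) *
            ((f₁ : ℂ) * f₂ * f₃)) := by rw [e]
        _ = ((Nat.card G : ℂ) * (1 + (ε₁ : ℂ) / f₁ + (ε₂ : ℂ) / f₂ + (ε₃ : ℂ) / f₃)) *
            ((f₁ : ℂ) * f₂ * f₃) := by ring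
        _ = 4 * (c * K) * ((f₁ : ℂ) * f₂ * f₃) := by rw [h1]
        _ = 4 * c * K * ((f₁ : ℂ) * f₂ * f₃) := by ring
    exact_mod_cast this
  have hPi : ((f₁ : ℤ) + ε₁) * (f₂ + ε₂) * (f₃ + ε₃) =
      f₁ * f₂ * f₃ + ε₁ * f₂ * f₃ + ε₂ * f₁ * f₃ + ε₃ * f₁ * f₂ := by
    linear_combination (ε₁ * ε₂ * ε₃) * hrel - (ε₂ * ε₃ * f₁) * he1 - (ε₁ * ε₃ * f₂) * he2 -
      (ε₁ * ε₂ * f₃) * he3
  have hfull : (Nat.card G : ℤ) * (((f₁ : ℤ) + ε₁) * (f₂ + ε₂) * (f₃ + ε₃)) * cP ^ 2 =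
      8 * c ^ 3 * (f₁ * f₂ * f₃) := by
    rw [hPi, hmain]
    have : ((K * cP ^ 2 : ℕ) : ℤ) = ((2 * c ^ 2 : ℕ) : ℤ) := by rw [hKc]
    push_cast at this
    linear_combination (4 * (c : ℤ) * (f₁ * f₂ * f₃)) * this
  have hPine : (((f₁ : ℤ) + ε₁) * (f₂ + ε₂) * (f₃ + ε₃) : ℤ) ≠ 0 := by
    intro h0
    rw [h0, mul_zero, zero_mul] at hfull
    have : (0 : ℤ) < 8 * c ^ 3 * (f₁ * f₂ * f₃) := by positivity
    omega
  have hPiq : (((f₁ : ℚ) + ε₁) * (f₂ + ε₂) * (f₃ + ε₃)) ≠ 0 := by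
    have : ((((f₁ : ℤ) + ε₁) * (f₂ + ε₂) * (f₃ + ε₃) : ℤ) : ℚ) ≠ 0 := by exact_mod_cast hPine
    push_cast at this
    exact this
  have hcPq : (cP : ℚ) ≠ 0 := by exact_mod_cast hcPpos.ne'
  have hfullq : (Nat.card G : ℚ) * (((f₁ : ℚ) + ε₁) * (f₂ + ε₂) * (f₃ + ε₃)) * (cP : ℚ) ^ 2 =
      8 * (c : ℚ) ^ 3 * ((f₁ : ℚ) * f₂ * f₃) := by
    have := congrArg (fun z : ℤ => (z : ℚ)) hfull
    push_cast at this
    exact this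
  rw [eq_div_iff (pow_ne_zero 2 hcPq), mul_div_assoc', div_mul_eq_mul_div, eq_div_iff hPiq]
  linear_combination hfullq

end KF5

end Cfsg.Agent.Lib.Helper24
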