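import Mathlib
import Cfsg.Agent.Lib.Helper24.KleinSylow

set_option autoImplicit false
set_option linter.style.haveILetI false

namespace Cfsg.Agent.Lib.Helper24

section KleinSylow2

variable {G : Type*} [Group G] [Finite G]

theorem ks_all_conj (P : Sylow 2 G) (hP : IsKleinFour (P : Subgroup G)) {a b : G}
    (ha : a ∈ (P : Subgroup G)) (hb : b ∈ (P : Subgroup G)) (ha1 : a ≠ 1) (hb1 : b ≠ 1)
    (hab : a ≠ b) (h : IsConj a b ∨ IsConj a (a * b) ∨ IsConj b (a * b)) :
    IsConj a b ∧ IsConj a (a * b) := by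
  have haa : a * a = 1 := ks_sq _ hP ha
  have hbb : b * b = 1 := ks_sq _ hP hb
  have hcomm : a * b = b * a := ks_comm _ hP ha hb
  have habP : a * b ∈ (P : Subgroup G) := Subgroup.mul_mem _ ha hb
  have hab1 : a * b ≠ 1 := by
    intro h1
    apply hab
    calc a = a * (b * b) := by rw [hbb, mul_one]
      _ = (a * b) * b := by group
      _ = b := by rw [h1, one_mul]
  have haab : a ≠ a * b := by
    intro h1
    apply hb1
    calc b = a * (a * b) := by rw [← mul_assoc, haa, one_mul]
      _ = a * a := by rw [← h1]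
      _ = 1 := haa
  have hbab : b ≠ a * b := by
    intro h1
    apply ha1
    calc a = (a * b) * b := by rw [mul_assoc, hbb, mul_one]
      _ = b * b := by rw [← h1]
      _ = 1 := hbb
  have step1 : IsConj a b → IsConj a b ∧ IsConj a (a * b) := fun h1 =>
    ⟨h1, ks_fusion P hP ha hb ha1 hb1 hab h1⟩
  rcases h with h | h | h
  · exact step1 h
  · have := ks_fusion P hP ha habP ha1 hab1 haab h
    rw [← mul_assoc, haa, one_mul] at this
    exact step1 this
  · have := ks_fusion P hP hb habP hb1 hab1 hbab h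
    have e : b * (a * b) = a := by rw [hcomm, ← mul_assoc, hbb, one_mul]
    rw [e] at this
    exact step1 this.symm

theorem ks_set_eq (P : Sylow 2 G) (hP : IsKleinFour (P : Subgroup G)) {a b : G}
    (ha : a ∈ (P : Subgroup G)) (hb : b ∈ (P : Subgroup G)) (ha1 : a ≠ 1) (hb1 : b ≠ 1)
    (hab : a ≠ b) :
    {C : ConjClasses G | ∃ t : G, orderOf t = 2 ∧ ConjClasses.mk t = C} =
      {ConjClasses.mk a, ConjClasses.mk b, ConjClasses.mk (a * b)} := by
  have habP : a * b ∈ (P : Subgroup G) := Subgroup.mul_mem _ ha hb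
  have hab1 : a * b ≠ 1 := by
    intro h1
    apply hab
    have hbb : b * b = 1 := ks_sq _ hP hb
    calc a = a * (b * b) := by rw [hbb, mul_one]
      _ = (a * b) * b := by group
      _ = b := by rw [h1, one_mul]
  ext C
  simp only [Set.mem_ofPred_eq, Set.mem_insert_iff, Set.mem_singleton_iff]
  constructor
  · rintro ⟨t, ht, rfl⟩
    obtain ⟨g, hg⟩ := ks_invol_conj_mem P t ht
    have hg1 : g * t * g⁻¹ ≠ 1 := by
      intro h
      apply ks_eq_one_of_sq ht
      have : t = g⁻¹ * (g * t * g⁻¹) * g := by group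
      rw [this, h]
      group
    have hmk : ConjClasses.mk t = ConjClasses.mk (g * t * g⁻¹) := by
      rw [ConjClasses.mk_eq_mk_iff_isConj, isConj_iff]
      exact ⟨g, rfl⟩
    rcases ks_elems _ hP ha hb ha1 hb1 hab hg with h | h | h | h
    · exact absurd h hg1
    · left; rw [hmk, h]
    · right; left; rw [hmk, h]
    · right; right; rw [hmk, h]
  · rintro (rfl | rfl | rfl)
    · exact ⟨a, ks_order_two _ hP ha ha1, rfl⟩
    · exact ⟨b, ks_order_two _ hP hb hb1, rfl⟩
    · exact ⟨a * b, ks_order_two _ hP habP hab1, rfl⟩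

theorem ks_card_one_or_three (P : Sylow 2 G) (hP : IsKleinFour (P : Subgroup G)) :
    Nat.card {C : ConjClasses G // ∃ t : G, orderOf t = 2 ∧ ConjClasses.mk t = C} = 1 ∨
    Nat.card {C : ConjClasses G // ∃ t : G, orderOf t = 2 ∧ ConjClasses.mk t = C} = 3 := by
  obtain ⟨a, b, ha, hb, ha1, hb1, hab⟩ := ks_exists (P : Subgroup G) hP
  have hset := ks_set_eq P hP ha hb ha1 hb1 hab
  have hcard : Nat.card {C : ConjClasses G // ∃ t : G, orderOf t = 2 ∧ ConjClasses.mk t = C} =
      ({ConjClasses.mk a, ConjClasses.mk b, ConjClasses.mk (a * b)} : Set (ConjClasses G)).ncard := by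
    rw [← hset]
    rfl
  rw [hcard]
  by_cases h : IsConj a b ∨ IsConj a (a * b) ∨ IsConj b (a * b)
  · left
    obtain ⟨h1, h2⟩ := ks_all_conj P hP ha hb ha1 hb1 hab h
    have e1 : ConjClasses.mk b = ConjClasses.mk a :=
      (ConjClasses.mk_eq_mk_iff_isConj.mpr h1).symm
    have e2 : ConjClasses.mk (a * b) = ConjClasses.mk a :=
      (ConjClasses.mk_eq_mk_iff_isConj.mpr h2).symm
    rw [e1, e2]
    simp
  · right
    push Not at h
    obtain ⟨h1, h2, h3⟩ := h
    rw [Set.ncard_eq_three]
    refine ⟨_, _, _, ?_, ?_, ?_, rfl⟩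
    · intro e; exact h1 (ConjClasses.mk_eq_mk_iff_isConj.mp e)
    · intro e; exact h2 (ConjClasses.mk_eq_mk_iff_isConj.mp e)
    · intro e; exact h3 (ConjClasses.mk_eq_mk_iff_isConj.mp e)

end KleinSylow2

section KleinSylow3

variable {G : Type*} [Group G] [Finite G]

theorem ks_three_iff (P : Sylow 2 G) (hP : IsKleinFour (P : Subgroup G)) :
    Nat.card {C : ConjClasses G // ∃ t : G, orderOf t = 2 ∧ ConjClasses.mk t = C} = 3 ↔
      ∃ N : Subgroup G, N.Normal ∧ Subgroup.IsComplement' N (P : Subgroup G) := by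
  haveI : Fact (Nat.Prime 2) := ⟨Nat.prime_two⟩
  obtain ⟨a, b, ha, hb, ha1, hb1, hab⟩ := ks_exists (P : Subgroup G) hP
  have hset := ks_set_eq P hP ha hb ha1 hb1 hab
  have hcard : Nat.card {C : ConjClasses G // ∃ t : G, orderOf t = 2 ∧ ConjClasses.mk t = C} =
      ({ConjClasses.mk a, ConjClasses.mk b, ConjClasses.mk (a * b)} : Set (ConjClasses G)).ncard := by
    rw [← hset]
    rfl
  have habP : a * b ∈ (P : Subgroup G) := Subgroup.mul_mem _ ha hb
  have hbb : b * b = 1 := ks_sq _ hP hb
  have haa : a * a = 1 := ks_sq _ hP ha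
  have hab1 : a * b ≠ 1 := by
    intro h1
    apply hab
    calc a = a * (b * b) := by rw [hbb, mul_one]
      _ = (a * b) * b := by group
      _ = b := by rw [h1, one_mul]
  have haab : a ≠ a * b := by
    intro h1
    apply hb1
    calc b = a * (a * b) := by rw [← mul_assoc, haa, one_mul]
      _ = a * a := by rw [← h1]
      _ = 1 := haa
  have hbab : b ≠ a * b := by
    intro h1
    apply ha1
    calc a = (a * b) * b := by rw [mul_assoc, hbb, mul_one]
      _ = b * b := by rw [← h1]
      _ = 1 := hbb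
  constructor
  · intro h3
    have hno : ¬ (IsConj a b ∨ IsConj a (a * b) ∨ IsConj b (a * b)) := by
      intro h
      obtain ⟨h1, h2⟩ := ks_all_conj P hP ha hb ha1 hb1 hab h
      have e1 : ConjClasses.mk b = ConjClasses.mk a :=
        (ConjClasses.mk_eq_mk_iff_isConj.mpr h1).symm
      have e2 : ConjClasses.mk (a * b) = ConjClasses.mk a :=
        (ConjClasses.mk_eq_mk_iff_isConj.mpr h2).symm
      rw [hcard, e1, e2] at h3
      simp at h3
    push Not at hno
    obtain ⟨n1, n2, n3⟩ := hno
    have hfix : ∀ n ∈ Subgroup.normalizer ((P : Subgroup G) : Set G), ∀ x ∈ (P : Subgroup G),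
        n * x * n⁻¹ = x := by
      intro n hn x hx
      have hy : n * x * n⁻¹ ∈ (P : Subgroup G) := (Subgroup.mem_normalizer_iff.mp hn x).mp hx
      have hc : IsConj x (n * x * n⁻¹) := isConj_iff.mpr ⟨n, rfl⟩
      rcases ks_elems _ hP ha hb ha1 hb1 hab hx with rfl | rfl | rfl | rfl
      · simp
      · rcases ks_elems _ hP ha hb ha1 hb1 hab hy with h | h | h | h
        · exfalso; apply ha1
          have : x = n⁻¹ * (n * x * n⁻¹) * n := by group
          rw [this, h]; group
        · exact h
        · rw [h] at hc; exact absurd hc n1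
        · rw [h] at hc; exact absurd hc n2
      · rcases ks_elems _ hP ha hb ha1 hb1 hab hy with h | h | h | h
        · exfalso; apply hb1
          have : x = n⁻¹ * (n * x * n⁻¹) * n := by group
          rw [this, h]; group
        · rw [h] at hc; exact absurd hc.symm n1
        · exact h
        · rw [h] at hc; exact absurd hc n3
      · rcases ks_elems _ hP ha hb ha1 hb1 hab hy with h | h | h | h
        · exfalso; apply hab1
          have : a * b = n⁻¹ * (n * (a * b) * n⁻¹) * n := by group
          rw [this, h]; group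
        · rw [h] at hc; exact absurd hc.symm n2
        · rw [h] at hc; exact absurd hc.symm n3
        · exact h
    have hNC : Subgroup.normalizer ((P : Subgroup G) : Set G) ≤
        Subgroup.centralizer ((P : Subgroup G) : Set G) := by
      intro n hn
      rw [Subgroup.mem_centralizer_iff]
      intro x hx
      have := hfix n hn x hx
      calc x * n = n * x * n⁻¹ * n := by rw [this]
        _ = n * x := by group
    exact ⟨_, inferInstance, MonoidHom.ker_transferSylow_isComplement' P hNC⟩
  · rintro ⟨N, hN, hcomp⟩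
    have key : ∀ s t : G, s ∈ (P : Subgroup G) → t ∈ (P : Subgroup G) → IsConj s t → s = t := by
      intro s t hs ht hconj
      rw [isConj_iff] at hconj
      obtain ⟨g, hg⟩ := hconj
      obtain ⟨⟨⟨n, hn⟩, ⟨p, hp⟩⟩, hnp, -⟩ := Subgroup.isComplement_iff_existsUnique.mp hcomp g
      simp only at hnp
      have h1 : t = n * s * n⁻¹ := by
        rw [← hg, ← hnp]
        have : n * p * s * (n * p)⁻¹ = n * (p * s * p⁻¹) * n⁻¹ := by group
        rw [this]
        have : p * s * p⁻¹ = s := by
          rw [ks_comm _ hP hp hs]; group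
        rw [this]
      have h2 : t * s⁻¹ ∈ N := by
        rw [h1]
        have : n * s * n⁻¹ * s⁻¹ = n * (s * n⁻¹ * s⁻¹) := by group
        rw [this]
        exact N.mul_mem hn (hN.conj_mem _ (N.inv_mem hn) s)
      have h3 : t * s⁻¹ ∈ (P : Subgroup G) := Subgroup.mul_mem _ ht (Subgroup.inv_mem _ hs)
      have h4 : t * s⁻¹ = 1 := by
        have := hcomp.disjoint
        rw [Subgroup.disjoint_def] at this
        exact this h2 h3
      have : t = t * s⁻¹ * s := by group
      rw [this, h4, one_mul]
    rw [hcard, Set.ncard_eq_three]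
    refine ⟨_, _, _, ?_, ?_, ?_, rfl⟩
    · intro e; exact hab (key a b ha hb (ConjClasses.mk_eq_mk_iff_isConj.mp e))
    · intro e; exact haab (key a (a * b) ha habP (ConjClasses.mk_eq_mk_iff_isConj.mp e))
    · intro e; exact hbab (key b (a * b) hb habP (ConjClasses.mk_eq_mk_iff_isConj.mp e))

end KleinSylow3

end Cfsg.Agent.Lib.Helper24
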