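import Mathlib
import Cfsg.Agent.Lib.Helper24.KleinSylow2

set_option autoImplicit false
set_option linter.style.haveILetI false

namespace Cfsg.Agent.Lib.Helper24

section KF6
variable {G : Type*} [Group G] [Finite G]

theorem kf_setup (g₀ : ℕ) (hg₀ : Odd g₀) (hG : Nat.card G = 4 * g₀)
    (hnc : ¬ ∃ N : Subgroup G, N.Normal ∧ Nat.card N = g₀) (P : Sylow 2 G) :
    Nat.card (P : Subgroup G) = 4 ∧ IsKleinFour (P : Subgroup G) ∧
      (∀ s t : G, orderOf s = 2 → orderOf t = 2 → IsConj s t) := by
  haveI : Fact (Nat.Prime 2) := ⟨Nat.prime_two⟩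
  have hg0 : g₀ ≠ 0 := by
    rintro rfl
    exact absurd hg₀ (by decide)
  have hcard : Nat.card (P : Subgroup G) = 4 := by
    rw [P.card_eq_multiplicity, hG, Nat.factorization_mul (by norm_num) hg0]
    have h4 : (4 : ℕ) = 2 ^ 2 := by norm_num
    have h1 : (4 : ℕ).factorization 2 = 2 := by
      rw [h4, Nat.Prime.factorization_pow Nat.prime_two]
      simp
    have h2 : g₀.factorization 2 = 0 := by
      apply Nat.factorization_eq_zero_of_not_dvd
      rw [← even_iff_two_dvd, Nat.not_even_iff_odd]
      exact hg₀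
    rw [Finsupp.add_apply, h1, h2]
    norm_num
  have hno : ¬ ∃ N : Subgroup G, N.Normal ∧ Subgroup.IsComplement' N (P : Subgroup G) := by
    rintro ⟨N, hN, hcomp⟩
    apply hnc
    refine ⟨N, hN, ?_⟩
    have := hcomp.card_mul_card
    rw [hcard, hG] at this
    omega
  have hncyc : ¬ IsCyclic (P : Subgroup G) := by
    intro hcyc
    apply hno
    have hp : (Nat.card G).minFac = 2 := by
      rw [Nat.minFac_eq_two_iff, hG]
      exact ⟨2 * g₀, by ring⟩
    exact ⟨_, inferInstance, IsCyclic.isComplement' hp hcyc⟩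
  have hord : ∀ x : (P : Subgroup G), x ≠ 1 → orderOf x = 2 := by
    intro x hx
    have hdvd : orderOf x ∣ 4 := by
      rw [← hcard]
      exact orderOf_dvd_natCard x
    have hmem : orderOf x ∈ Nat.divisors 4 := Nat.mem_divisors.mpr ⟨hdvd, by norm_num⟩
    have hdiv : Nat.divisors 4 = {1, 2, 4} := by decide
    rw [hdiv] at hmem
    simp only [Finset.mem_insert, Finset.mem_singleton] at hmem
    rcases hmem with h | h | h
    · exact absurd (orderOf_eq_one_iff.mp h) hx
    · exact h
    · exfalso
      apply hncyc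
      exact isCyclic_of_orderOf_eq_card x (by rw [h, hcard])
  have hK : IsKleinFour (P : Subgroup G) := by
    refine ⟨hcard, ?_⟩
    haveI : Nontrivial (P : Subgroup G) := by
      rw [← Finite.one_lt_card_iff_nontrivial, hcard]
      norm_num
    rw [Monoid.exponent_eq_prime_iff Nat.prime_two]
    exact hord
  refine ⟨hcard, hK, ?_⟩
  intro s t hs ht
  rcases ks_card_one_or_three P hK with h1 | h3
  · rw [Nat.card_eq_one_iff_unique] at h1
    obtain ⟨hsub, -⟩ := h1
    have := hsub.elim ⟨ConjClasses.mk s, s, hs, rfl⟩ ⟨ConjClasses.mk t, t, ht, rfl⟩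
    have := congrArg Subtype.val this
    exact ConjClasses.mk_eq_mk_iff_isConj.mp this
  · exact absurd ((ks_three_iff P hK).mp h3) hno

end KF6

end Cfsg.Agent.Lib.Helper24
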