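import Mathlib
import Cfsg.Agent.Lib.Helper24.QuotRank2
import Cfsg.Agent.Lib.Helper25.BlockRankTrace
import Cfsg.Agent.Lib.Helper25.BlockOrthReg
import Cfsg.Agent.Lib.Helper25.CharOrth

set_option autoImplicit false
open scoped ComplexConjugate

namespace Cfsg.Agent.Lib.Helper24

open Cfsg.Agent.Lib.helper2 Cfsg.Agent.Lib.helper7 Cfsg.Agent.Lib.Helper11 Cfsg.Agent.Lib.Helper25

section qr3

variable {G : Type*} [Group G]

noncomputable def qr_T (p : ℕ) (Q : Subgroup G) [Q.Normal] : ((G ⧸ Q) → ℂ) →ₗ[ℂ] (G → ℂ) where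
  toFun f := Cfsg.pRegularPart p (fun g => f (QuotientGroup.mk g))
  map_add' f₁ f₂ := by
    funext g
    by_cases hg : p ∣ orderOf g
    · simp only [Pi.add_apply, br_pRegularPart_sing p _ g hg, add_zero]
    · simp only [Pi.add_apply, br_pRegularPart_reg p _ g hg]
  map_smul' c f := by
    funext g
    by_cases hg : p ∣ orderOf g
    · simp only [Pi.smul_apply, br_pRegularPart_sing p _ g hg, smul_zero, RingHom.id_apply]
    · simp only [Pi.smul_apply, br_pRegularPart_reg p _ g hg, RingHom.id_apply]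

theorem qr_T_reg (p : ℕ) (Q : Subgroup G) [Q.Normal] (f : (G ⧸ Q) → ℂ) (g : G)
    (hg : ¬ p ∣ orderOf g) : qr_T p Q f g = f (QuotientGroup.mk g) :=
  br_pRegularPart_reg p (fun g => f (QuotientGroup.mk g)) g hg

theorem qr_T_sing (p : ℕ) (Q : Subgroup G) [Q.Normal] (f : (G ⧸ Q) → ℂ) (g : G)
    (hg : p ∣ orderOf g) : qr_T p Q f g = 0 :=
  br_pRegularPart_sing p (fun g => f (QuotientGroup.mk g)) g hg

theorem qr_reg_mk (p : ℕ) (Q : Subgroup G) [Q.Normal] (g : G) (hg : ¬ p ∣ orderOf g) :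
    ¬ p ∣ orderOf (QuotientGroup.mk g : G ⧸ Q) := fun h =>
  hg (dvd_trans h (orderOf_map_dvd (QuotientGroup.mk' Q) g))

theorem qr_T_pReg (p : ℕ) (Q : Subgroup G) [Q.Normal] (f : (G ⧸ Q) → ℂ) :
    qr_T p Q (Cfsg.pRegularPart p f) = qr_T p Q f := by
  funext g
  by_cases hg : p ∣ orderOf g
  · rw [qr_T_sing p Q _ g hg, qr_T_sing p Q _ g hg]
  · rw [qr_T_reg p Q _ g hg, qr_T_reg p Q _ g hg, br_pRegularPart_reg p _ _ (qr_reg_mk p Q g hg)]

theorem qr_core [Fintype G] (p : ℕ) [hp : Fact p.Prime]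
    (M : Ideal Cfsg.AlgInt) (hM : Cfsg.IsPModular p M)
    (Q : Subgroup G) [Q.Normal]
    (hQ : IsPGroup p Q) (hsup : Q ⊔ Subgroup.centralizer (Q : Set G) = ⊤)
    (χ : Cfsg.IrrCharacter G) (hχ : χ ∈ Cfsg.principalBlock M G) :
    Cfsg.pRegularPart p (χ : G → ℂ) ∈ Submodule.span ℂ (qr_T p Q ''
      ((fun ψ : Cfsg.IrrCharacter (G ⧸ Q) => Cfsg.pRegularPart p (ψ : G ⧸ Q → ℂ)) ''
        Cfsg.principalBlock M (G ⧸ Q))) := by
  classical
  haveI : Fintype (G ⧸ Q) := Fintype.ofFinite _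
  haveI : Fintype (Cfsg.IrrCharacter G) := Fintype.ofFinite _
  haveI : Fintype (Cfsg.IrrCharacter (G ⧸ Q)) := Fintype.ofFinite _
  set f : G ⧸ Q → ℂ := fun y => if h : p ∣ orderOf y then 0 else
    (χ : G → ℂ) (Classical.choose (qr_lift_reg p Q hQ y h)) with hf
  have hf_reg : ∀ x : G, ¬ p ∣ orderOf x → f (QuotientGroup.mk x) = (χ : G → ℂ) x := by
    intro x hx
    have hx' := qr_reg_mk p Q x hx
    simp only [hf, dif_neg hx']
    obtain ⟨h1, h2⟩ := Classical.choose_spec (qr_lift_reg p Q hQ (QuotientGroup.mk x) hx')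
    set x' := Classical.choose (qr_lift_reg p Q hQ (QuotientGroup.mk x) hx')
    have h3 : IsConj (QuotientGroup.mk x' : G ⧸ Q) (QuotientGroup.mk x) := by
      rw [h2]
    obtain ⟨c, hc⟩ := isConj_iff.mp (qr_conj_lift p Q hQ hsup x' x h1 hx h3)
    rw [← hc, irr_conj_invariant]
  have hfclass : ∀ y h : G ⧸ Q, f (h * y * h⁻¹) = f y := by
    intro y h
    by_cases hy : p ∣ orderOf y
    · have hy' : p ∣ orderOf (h * y * h⁻¹) := by rw [qr_orderOf_conj]; exact hy
      simp only [hf, dif_pos hy, dif_pos hy']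
    · obtain ⟨x, hx, rfl⟩ := qr_lift_reg p Q hQ y hy
      obtain ⟨g, rfl⟩ := QuotientGroup.mk_surjective h
      have h1 : (QuotientGroup.mk g : G ⧸ Q) * QuotientGroup.mk x * (QuotientGroup.mk g)⁻¹ =
          QuotientGroup.mk (g * x * g⁻¹) := rfl
      have h2 : ¬ p ∣ orderOf (g * x * g⁻¹) := by rw [qr_orderOf_conj]; exact hx
      rw [h1, hf_reg _ h2, hf_reg _ hx, irr_conj_invariant]
  have hTf : qr_T p Q f = Cfsg.pRegularPart p (χ : G → ℂ) := by
    funext g
    by_cases hg : p ∣ orderOf g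
    · rw [qr_T_sing p Q _ g hg, br_pRegularPart_sing p _ g hg]
    · rw [qr_T_reg p Q _ g hg, br_pRegularPart_reg p _ g hg, hf_reg g hg]
  have hexp := classFunction_expansion f hfclass
  have h1 : Cfsg.pRegularPart p (χ : G → ℂ) = ∑ ψ : Cfsg.IrrCharacter (G ⧸ Q),
      Cfsg.classInner f (ψ : G ⧸ Q → ℂ) • qr_T p Q (ψ : G ⧸ Q → ℂ) := by
    rw [← hTf]
    conv_lhs => rw [hexp]
    rw [map_sum]
    refine Finset.sum_congr rfl fun ψ _ => ?_
    rw [map_smul]
  set B := Cfsg.blockOf M (trivIrr G : G → ℂ) with hB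
  have hχB : χ ∈ B := hχ
  have h2 := br_proj_fix hM (trivIrr G) χ hχB
  have hsurj : Function.Surjective (QuotientGroup.mk' Q) := QuotientGroup.mk'_surjective Q
  have h3 : ∀ ψ : Cfsg.IrrCharacter (G ⧸ Q), br_proj p B (qr_T p Q (ψ : G ⧸ Q → ℂ)) =
      if xs_infl (QuotientGroup.mk' Q) hsurj ψ ∈ B then qr_T p Q (ψ : G ⧸ Q → ℂ) else 0 := by
    intro ψ
    have h4 : qr_T p Q (ψ : G ⧸ Q → ℂ) =
        Cfsg.pRegularPart p (xs_infl (QuotientGroup.mk' Q) hsurj ψ : G → ℂ) := rfl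
    split_ifs with hin
    · rw [h4]
      exact br_proj_fix hM (trivIrr G) _ hin
    · rw [h4, br_proj_apply]
      apply Finset.sum_eq_zero
      intro χ' _
      split_ifs with hχ'
      · rw [cd_block_orth hM (trivIrr G) _ hin χ' hχ', zero_smul]
      · rfl
  rw [← h2, h1, map_sum]
  apply Submodule.sum_mem
  intro ψ _
  rw [map_smul]
  apply Submodule.smul_mem
  rw [h3]
  split_ifs with hin
  · apply Submodule.subset_span
    have hψ : ψ ∈ Cfsg.principalBlock M (G ⧸ Q) :=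
      qr_deflate_principal p M hM Q hQ hsup ψ hin
    exact ⟨Cfsg.pRegularPart p (ψ : G ⧸ Q → ℂ), ⟨ψ, hψ, rfl⟩, qr_T_pReg p Q _⟩
  · exact Submodule.zero_mem _

theorem qr_main [Finite G] (p : ℕ) [hp : Fact p.Prime]
    (M : Ideal Cfsg.AlgInt) (hM : Cfsg.IsPModular p M)
    (Q : Subgroup G) [Q.Normal]
    (hQ : IsPGroup p Q) (hsup : Q ⊔ Subgroup.centralizer (Q : Set G) = ⊤) :
    Cfsg.blockRank p (Cfsg.principalBlock M G) =
      Cfsg.blockRank p (Cfsg.principalBlock M (G ⧸ Q)) := by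
  classical
  haveI : Fintype G := Fintype.ofFinite _
  have hMp := hM.2.1.isPrime
  unfold Cfsg.blockRank
  set SG := (fun χ : Cfsg.IrrCharacter G => Cfsg.pRegularPart p (χ : G → ℂ)) ''
    Cfsg.principalBlock M G with hSG
  set SQ := (fun ψ : Cfsg.IrrCharacter (G ⧸ Q) => Cfsg.pRegularPart p (ψ : G ⧸ Q → ℂ)) ''
    Cfsg.principalBlock M (G ⧸ Q) with hSQ
  have hsurj : Function.Surjective (QuotientGroup.mk' Q) := QuotientGroup.mk'_surjective Q
  have hspan : Submodule.span ℂ SG = (Submodule.span ℂ SQ).map (qr_T p Q) := by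
    rw [Submodule.map_span]
    apply le_antisymm
    · rw [Submodule.span_le]
      rintro _ ⟨χ, hχ, rfl⟩
      exact qr_core p M hM Q hQ hsup χ hχ
    · rw [Submodule.span_le]
      rintro _ ⟨_, ⟨ψ, hψ, rfl⟩, rfl⟩
      rw [qr_T_pReg]
      apply Submodule.subset_span
      refine ⟨xs_infl (QuotientGroup.mk' Q) hsurj ψ, ?_, rfl⟩
      exact fg_infl_sameBlock Q hMp (fun _ => (1 : ℂ)) (ψ : G ⧸ Q → ℂ) hψ
  rw [hspan]
  have hvan : ∀ v ∈ Submodule.span ℂ SQ, ∀ y : G ⧸ Q, p ∣ orderOf y → v y = 0 := by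
    intro v hv
    induction hv using Submodule.span_induction with
    | mem x hx =>
      obtain ⟨ψ, _, rfl⟩ := hx
      intro y hy
      exact br_pRegularPart_sing p _ y hy
    | zero => intro y _; rfl
    | add a b _ _ ha hb =>
      intro y hy
      rw [Pi.add_apply, ha y hy, hb y hy, add_zero]
    | smul c a _ ha =>
      intro y hy
      rw [Pi.smul_apply, ha y hy, smul_zero]
  have hinj : Function.Injective ((qr_T p Q).submoduleMap (Submodule.span ℂ SQ)) := by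
    rw [injective_iff_map_eq_zero]
    intro v hv
    have h1 : qr_T p Q (v : G ⧸ Q → ℂ) = 0 := by
      have := congrArg Subtype.val hv
      exact this
    apply Subtype.ext
    funext y
    by_cases hy : p ∣ orderOf y
    · exact hvan v v.2 y hy
    · obtain ⟨x, hx, rfl⟩ := qr_lift_reg p Q hQ y hy
      have h2 := congrFun h1 x
      rw [qr_T_reg p Q _ x hx] at h2
      exact h2
  exact (LinearEquiv.ofBijective _
    ⟨hinj, LinearMap.submoduleMap_surjective _ _⟩).finrank_eq.symm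

end qr3

end Cfsg.Agent.Lib.Helper24
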