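import Mathlib
import Cfsg.Agent.Lib.helper7.Br.Defs

set_option autoImplicit false

namespace Cfsg.Agent.Lib.Helper24.Br

open Cfsg.Agent.Lib.helper7 Cfsg.Agent.Lib.helper7.Br
open scoped ComplexConjugate

theorem rank_add_le' {K : Type*} [Field K] {m n : Type*} [Fintype m] [Fintype n]
    (A B : Matrix m n K) : (A + B).rank ≤ A.rank + B.rank := by
  unfold Matrix.rank
  have h : LinearMap.range (A + B).mulVecLin ≤
      LinearMap.range A.mulVecLin ⊔ LinearMap.range B.mulVecLin := by
    rintro _ ⟨v, rfl⟩
    rw [Matrix.mulVecLin_add]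
    exact Submodule.add_mem_sup ⟨v, rfl⟩ ⟨v, rfl⟩
  exact (Submodule.finrank_mono h).trans (Submodule.finrank_add_le_finrank_add_finrank _ _)

theorem rank_map_le {R K F : Type*} [CommRing R] [Field K] [Field F]
    (i : R →+* K) (hi : Function.Injective i) (π : R →+* F) (hπ : Function.Surjective π)
    {m : Type*} [Fintype m] [DecidableEq m] (X : Matrix m m R) :
    (X.map π).rank ≤ (X.map i).rank := by
  obtain ⟨V, U, e, -, -, h⟩ := Matrix.exists_rank_normal_form (X.map π)
  let V' : Matrix m m R := fun a b => Classical.choose (hπ (V a b))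
  let U' : Matrix m m R := fun a b => Classical.choose (hπ (U a b))
  have hV' : V'.map π = V := by
    ext a b
    exact Classical.choose_spec (hπ (V a b))
  have hU' : U'.map π = U := by
    ext a b
    exact Classical.choose_spec (hπ (U a b))
  set Y : Matrix m m R := V' * X * U' with hY
  have hYπ : Y.map π = (Matrix.fromBlocks 1 0 0 0).submatrix e e := by
    rw [hY, Matrix.map_mul, Matrix.map_mul, hV', hU', h]
  let f : Fin (X.map π).rank → m := fun a => e.symm (Sum.inl a)
  have h1 : (Y.submatrix f f).map π = 1 := by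
    ext a b
    have := congrFun (congrFun hYπ (f a)) (f b)
    simp only [Matrix.map_apply, Matrix.submatrix_apply] at this ⊢
    rw [this]
    simp only [f, Equiv.apply_symm_apply, Matrix.fromBlocks_apply₁₁]
  have hdet : π (Y.submatrix f f).det = 1 := by
    rw [RingHom.map_det, RingHom.mapMatrix_apply, h1, Matrix.det_one]
  have hdet0 : (Y.submatrix f f).det ≠ 0 := by
    intro h0
    rw [h0, map_zero] at hdet
    exact zero_ne_one hdet
  have hdeti : ((Y.map i).submatrix f f).det ≠ 0 := by
    have : (Y.map i).submatrix f f = i.mapMatrix (Y.submatrix f f) := by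
      ext a b
      simp
    rw [this, ← RingHom.map_det]
    intro h0
    exact hdet0 (hi (by rw [h0, map_zero]))
  have h2 : ((Y.map i).submatrix f f).rank = (X.map π).rank := by
    rw [Matrix.rank_of_det_ne_zero hdeti, Fintype.card_fin]
  calc (X.map π).rank = ((Y.map i).submatrix f f).rank := h2.symm
    _ ≤ (Y.map i).rank := Matrix.rank_submatrix_le _ _ _
    _ = (V'.map i * X.map i * U'.map i).rank := by rw [hY, Matrix.map_mul, Matrix.map_mul]
    _ ≤ (V'.map i * X.map i).rank := Matrix.rank_mul_le_left _ _
    _ ≤ (X.map i).rank := Matrix.rank_mul_le_right _ _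

theorem rank_red_idem {M : Ideal Cfsg.AlgInt} (hMp : M.IsPrime) {ι : Type*} [Fintype ι] [DecidableEq ι]
    (E : Matrix ι ι ℂ) (hE : E * E = E) (hR : ∀ i j, Cfsg.MemLocalRing M (E i j)) :
    (E.map (h7_res M hMp)).rank = E.rank := by
  let R := h7_locSubring M hMp
  let i : R →+* ℂ := R.subtype
  let π : R →+* h7_resRing M hMp := Ideal.Quotient.mk (h7_locIdeal M hMp)
  have hi : Function.Injective i := Subtype.val_injective
  have hπ : Function.Surjective π := Ideal.Quotient.mk_surjective
  let E' : Matrix ι ι R := fun a b => ⟨E a b, hR a b⟩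
  have hEi : E'.map i = E := by
    ext a b
    rfl
  have hEπ : E'.map π = E.map (h7_res M hMp) := by
    ext a b
    simp only [Matrix.map_apply]
    rw [h7_res_of_mem hMp (hR a b)]
  have h1i : (1 - E').map i = 1 - E := by
    rw [Matrix.map_sub _ (map_sub i), hEi, Matrix.map_one _ (map_zero i) (map_one i)]
  have h1π : (1 - E').map π = 1 - E.map (h7_res M hMp) := by
    rw [Matrix.map_sub _ (map_sub π), hEπ, Matrix.map_one _ (map_zero π) (map_one π)]
  have hle1 : (E.map (h7_res M hMp)).rank ≤ E.rank := by
    have := rank_map_le i hi π hπ E'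
    rwa [hEi, hEπ] at this
  have hle2 : (1 - E.map (h7_res M hMp)).rank ≤ (1 - E).rank := by
    have := rank_map_le i hi π hπ (1 - E')
    rwa [h1i, h1π] at this
  have h3 : E.rank + (1 - E).rank ≤ Fintype.card ι := by
    apply Matrix.rank_add_rank_le_card_of_mul_eq_zero
    rw [mul_sub, mul_one, hE, sub_self]
  have h4 : Fintype.card ι ≤ (E.map (h7_res M hMp)).rank + (1 - E.map (h7_res M hMp)).rank := by
    have := rank_add_le' (E.map (h7_res M hMp)) (1 - E.map (h7_res M hMp))
    rwa [add_sub_cancel, Matrix.rank_one] at this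
  omega

end Cfsg.Agent.Lib.Helper24.Br
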