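import Mathlib
import Cfsg.Agent.Lib.helper7.Br.Defs

set_option autoImplicit false
set_option linter.style.haveILetI false

namespace Cfsg.Agent.Lib.Helper24.Br

open Cfsg.Agent.Lib.helper7 Cfsg.Agent.Lib.helper7.Br
open scoped ComplexConjugate

section algstmts

variable {F A : Type*} [Field F] [Ring A] [Algebra F A]

theorem list_prod_mem_pow (J : Ideal A) : ∀ (l : List A) (k : ℕ) (y : A), y ∈ J ^ k →
    (∀ x ∈ l, x ∈ J) → y * l.prod ∈ J ^ (k + l.length)
  | [], k, y, hy, _ => by simpa using hy
  | x :: l, k, y, hy, hl => by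
    have h1 : y * x ∈ J ^ (k + 1) := by
      rw [Submodule.pow_succ]
      exact Ideal.mul_mem_mul hy (hl x List.mem_cons_self)
    have h2 := list_prod_mem_pow J l (k + 1) (y * x) h1
      (fun z hz => hl z (List.mem_cons_of_mem _ hz))
    rw [List.prod_cons, ← mul_assoc, List.length_cons]
    have h3 : k + (l.length + 1) = k + 1 + l.length := by omega
    rw [h3]
    exact h2

theorem nilSet_of_isNilpotent (J : Ideal A) (h : IsNilpotent J) : NilSet (J : Set A) := by
  obtain ⟨m, hm⟩ := h
  refine ⟨m, fun l hl hmem => ?_⟩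
  have h1 : (1 : A) ∈ J ^ 0 := by
    rw [Submodule.pow_zero]
    exact Submodule.one_le.mp le_rfl
  have h2 := list_prod_mem_pow J l 0 1 h1 hmem
  rw [one_mul, zero_add, hl, hm] at h2
  exact (Submodule.mem_bot A).mp h2

theorem exists_repr [FiniteDimensional F A] (lam : A →ₗ[F] F) (hlam : IsSymForm lam)
    (τ : A →ₗ[F] F) : ∃ t : A, ∀ b, lam (t * b) = τ b := by
  let Φ : A →ₗ[F] Module.Dual F A := (LinearMap.mul F A).compr₂ lam
  have hΦ : ∀ a b, Φ a b = lam (a * b) := fun a b => rfl
  have hinj : Function.Injective Φ := by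
    rw [← LinearMap.ker_eq_bot, LinearMap.ker_eq_bot']
    intro a ha
    refine hlam.2 a (fun b => ?_)
    rw [← hΦ, ha]
    rfl
  have hsurj : Function.Surjective Φ :=
    (LinearMap.injective_iff_surjective_of_finrank_eq_finrank
      (Subspace.dual_finrank_eq).symm).mp hinj
  obtain ⟨t, ht⟩ := hsurj τ
  exact ⟨t, fun b => by rw [← ht, hΦ]⟩

theorem exists_central_family [FiniteDimensional F A] (lam : A →ₗ[F] F) (hlam : IsSymForm lam)
    {l : ℕ} {d : Fin l → ℕ} [∀ i, NeZero (d i)]
    (ψ : A →ₐ[F] (Π i, Matrix (Fin (d i)) (Fin (d i)) F)) (hψ : Function.Surjective ψ) :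
    ∃ t : Fin l → A, (∀ i a, a * t i = t i * a) ∧ (∀ i x, ψ x = 0 → t i * x = 0) ∧
      LinearIndependent F t := by
  let τ : Fin l → (A →ₗ[F] F) := fun i =>
    (Matrix.traceLinearMap (Fin (d i)) F F) ∘ₗ
      (LinearMap.proj (φ := fun i => Matrix (Fin (d i)) (Fin (d i)) F) i) ∘ₗ ψ.toLinearMap
  have hτ : ∀ i a, τ i a = Matrix.trace (ψ a i) := fun i a => rfl
  have hτc : ∀ i a b, τ i (a * b) = τ i (b * a) := by
    intro i a b
    rw [hτ, hτ, map_mul, map_mul, Pi.mul_apply, Pi.mul_apply, Matrix.trace_mul_comm]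
  choose t ht using fun i => exists_repr lam hlam (τ i)
  refine ⟨t, ?_, ?_, ?_⟩
  · intro i a
    have h0 : t i * a - a * t i = 0 := by
      refine hlam.2 _ (fun b => ?_)
      rw [sub_mul, map_sub, mul_assoc, ht, mul_assoc, hlam.1, mul_assoc, ht, hτc, sub_self]
    exact (sub_eq_zero.mp h0).symm
  · intro i x hx
    refine hlam.2 _ (fun b => ?_)
    rw [mul_assoc, ht, hτ, map_mul, hx, zero_mul, Pi.zero_apply, Matrix.trace_zero]
  · rw [Fintype.linearIndependent_iff]
    intro c hc j
    obtain ⟨a, ha⟩ := hψ (Pi.single j (Matrix.single 0 0 1))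
    have h1 : lam ((∑ i, c i • t i) * a) = 0 := by rw [hc, zero_mul, map_zero]
    rw [Finset.sum_mul, map_sum] at h1
    have h2 : ∀ i, lam (c i • t i * a) = if i = j then c i else 0 := by
      intro i
      rw [smul_mul_assoc, map_smul, ht, hτ, ha]
      by_cases hij : i = j
      · subst hij
        rw [Pi.single_eq_same, Matrix.trace_single_eq_same, if_pos rfl, smul_eq_mul, mul_one]
      · rw [Pi.single_eq_of_ne hij, Matrix.trace_zero, if_neg hij, smul_zero]
    simp only [h2, Finset.sum_ite_eq', Finset.mem_univ, if_true] at h1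
    exact h1

theorem exists_simple_quot [IsAlgClosed F] [FiniteDimensional F A]
    (lam : A →ₗ[F] F) (hlam : IsSymForm lam) (hloc : CenterLocal F A)
    (hZ : Module.finrank F (Subalgebra.center F A) = 2) :
    NilSet ((Ring.jacobson A : Ideal A) : Set A) ∧
      ∃ n : ℕ, Nonempty ((A ⧸ Ring.jacobson A) ≃ₐ[F] Matrix (Fin (n + 1)) (Fin (n + 1)) F) := by
  haveI : IsArtinianRing A := IsArtinianRing.of_finite F A
  have hnil : IsNilpotent (Ring.jacobson A) := IsSemiprimaryRing.isNilpotent
  refine ⟨nilSet_of_isNilpotent _ hnil, ?_⟩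
  haveI : FiniteDimensional F (A ⧸ Ring.jacobson A) :=
    Module.Finite.of_surjective (Ideal.Quotient.mkₐ F (Ring.jacobson A)).toLinearMap
      (Ideal.Quotient.mkₐ_surjective F (Ring.jacobson A))
  obtain ⟨l, d, hd, ⟨φ⟩⟩ :=
    IsSemisimpleRing.exists_algEquiv_pi_matrix_of_isAlgClosed F (A ⧸ Ring.jacobson A)
  let ψ : A →ₐ[F] (Π i, Matrix (Fin (d i)) (Fin (d i)) F) :=
    φ.toAlgHom.comp (Ideal.Quotient.mkₐ F (Ring.jacobson A))
  have hψs : Function.Surjective ψ :=
    φ.surjective.comp (Ideal.Quotient.mkₐ_surjective F (Ring.jacobson A))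
  have hψ0 : ∀ x, ψ x = 0 ↔ x ∈ Ring.jacobson A := by
    intro x
    show φ (Ideal.Quotient.mk _ x) = 0 ↔ _
    rw [map_eq_zero_iff φ φ.injective, Ideal.Quotient.eq_zero_iff_mem]
  obtain ⟨t, htc, htJ, htl⟩ := exists_central_family lam hlam ψ hψs
  have htmem : ∀ i, t i ∈ Subalgebra.center F A := fun i =>
    Subalgebra.mem_center_iff.mpr (htc i)
  let t' : Fin l → Subalgebra.center F A := fun i => ⟨t i, htmem i⟩
  have ht'l : LinearIndependent F t' := by
    apply LinearIndependent.of_comp (Subalgebra.center F A).val.toLinearMap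
    exact htl
  have hl2 : l ≤ 2 := by
    have := ht'l.fintype_card_le_finrank
    rwa [Fintype.card_fin, hZ] at this
  haveI : Nontrivial A := by
    by_contra hA
    rw [not_nontrivial_iff_subsingleton] at hA
    have : Module.finrank F (Subalgebra.center F A) = 0 := by
      haveI : Subsingleton (Subalgebra.center F A) := inferInstance
      exact Module.finrank_zero_of_subsingleton
    omega
  have hl0 : l ≠ 0 := by
    rintro rfl
    have h1 : ψ 1 = 0 := Subsingleton.elim _ _
    rw [hψ0] at h1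
    exact (Ring.jacobson_lt_top A).ne ((Ideal.eq_top_iff_one _).mpr h1)
  have hl2' : l ≠ 2 := by
    rintro rfl
    have hspan : Submodule.span F (Set.range t') = ⊤ :=
      ht'l.span_eq_top_of_card_eq_finrank' (by rw [Fintype.card_fin, hZ])
    have h1 : (1 : Subalgebra.center F A) ∈ Submodule.span F (Set.range t') := by
      rw [hspan]
      exact Submodule.mem_top
    obtain ⟨c, hc⟩ := (Submodule.mem_span_range_iff_exists_fun F).mp h1
    have hc' : ∑ i, c i • t i = 1 := by
      have := congrArg (Subalgebra.center F A).val hc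
      rw [map_sum] at this
      simpa [t'] using this
    have hJ0 : ∀ x, ψ x = 0 → x = 0 := by
      intro x hx
      rw [← one_mul x, ← hc', Finset.sum_mul]
      refine Finset.sum_eq_zero (fun i _ => ?_)
      rw [smul_mul_assoc, htJ i x hx, smul_zero]
    have hψi : Function.Injective ψ := (injective_iff_map_eq_zero ψ).mpr hJ0
    obtain ⟨z, hz⟩ := hψs (Pi.single 0 1)
    have hzc : z ∈ Subalgebra.center F A := by
      rw [Subalgebra.mem_center_iff]
      intro a
      apply hψi
      rw [map_mul, map_mul, hz]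
      funext i
      by_cases hi : i = 0
      · subst hi
        simp
      · simp [Pi.single_eq_of_ne hi]
    obtain ⟨α, hα⟩ := hloc z hzc
    have hα' := hα.map ψ
    rw [map_sub, hz, AlgHom.commutes] at hα'
    have key : ∀ i : Fin 2, ∀ β : F,
        IsNilpotent (algebraMap F (Matrix (Fin (d i)) (Fin (d i)) F) β) → β = 0 := by
      intro i β hβ
      have : IsNilpotent β := by
        obtain ⟨k, hk⟩ := hβ
        refine ⟨k, ?_⟩
        rw [← map_pow] at hk
        have := congrFun (congrFun hk 0) 0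
        simpa [Matrix.algebraMap_matrix_apply] using this
      exact this.eq_zero
    have h0 := hα'.map (Pi.evalRingHom (fun i => Matrix (Fin (d i)) (Fin (d i)) F) 0)
    have h1 := hα'.map (Pi.evalRingHom (fun i => Matrix (Fin (d i)) (Fin (d i)) F) 1)
    simp only [Pi.evalRingHom_apply, Pi.sub_apply, Pi.algebraMap_apply, Pi.single_eq_same] at h0 h1
    rw [Pi.single_eq_of_ne (by decide : (1 : Fin 2) ≠ 0), zero_sub, ← map_neg] at h1
    have e1 := key 1 _ h1
    have h0' : (1 : Matrix (Fin (d 0)) (Fin (d 0)) F) - algebraMap F _ α =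
        algebraMap F _ (1 - α) := by rw [map_sub, map_one]
    rw [h0'] at h0
    have e0 := key 0 _ h0
    rw [neg_eq_zero] at e1
    rw [e1, sub_zero] at e0
    exact one_ne_zero e0
  obtain rfl : l = 1 := by omega
  obtain ⟨n, hn⟩ := Nat.exists_eq_succ_of_ne_zero (hd 0).out
  let ev : (Π i : Fin 1, Matrix (Fin (d i)) (Fin (d i)) F) →ₐ[F] Matrix (Fin (d 0)) (Fin (d 0)) F :=
    Pi.evalAlgHom F (fun i : Fin 1 => Matrix (Fin (d i)) (Fin (d i)) F) 0
  have hev : Function.Bijective ev := by
    constructor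
    · intro x y hxy
      funext i
      obtain rfl : i = 0 := Subsingleton.elim _ _
      exact hxy
    · intro y
      refine ⟨fun i => by
        obtain rfl : i = 0 := Subsingleton.elim _ _
        exact y, rfl⟩
  refine ⟨n, ⟨(φ.trans (AlgEquiv.ofBijective ev hev)).trans
    (Matrix.reindexAlgEquiv F F (finCongr hn))⟩⟩

end algstmts

end Cfsg.Agent.Lib.Helper24.Br
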