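import Mathlib
import Cfsg.Agent.Lib.helper7.R1.Defs
import Cfsg.Agent.Lib.Helper24.BrSQ

set_option autoImplicit false
set_option linter.style.haveILetI false

namespace Cfsg.Agent.Lib.Helper24.R1

open Cfsg.Agent.Lib.helper7 Cfsg.Agent.Lib.helper7.Br Cfsg.Agent.Lib.helper7.R1
open scoped ComplexConjugate

section algstmts

variable {F A : Type*} [Field F] [Ring A] [Algebra F A]

theorem exists_trace_family [IsAlgClosed F] [FiniteDimensional F A] :
    ∃ (l : ℕ) (τ : Fin l → (A →ₗ[F] F)), LinearIndependent F τ ∧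
      (∀ i a b, τ i (a * b) = τ i (b * a)) ∧ (∀ i a, IsNilpotent a → τ i a = 0) ∧
      (Nontrivial A → l ≠ 0) ∧
      (l = 1 → NilSet ((Ring.jacobson A : Ideal A) : Set A) ∧
        ∃ n : ℕ, Nonempty ((A ⧸ Ring.jacobson A) ≃ₐ[F] Matrix (Fin (n + 1)) (Fin (n + 1)) F)) := by
  haveI : IsArtinianRing A := IsArtinianRing.of_finite F A
  have hnil : IsNilpotent (Ring.jacobson A) := IsSemiprimaryRing.isNilpotent
  haveI : FiniteDimensional F (A ⧸ Ring.jacobson A) :=
    Module.Finite.of_surjective (Ideal.Quotient.mkₐ F (Ring.jacobson A)).toLinearMap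
      (Ideal.Quotient.mkₐ_surjective F (Ring.jacobson A))
  obtain ⟨l, d, hd, ⟨φ⟩⟩ :=
    IsSemisimpleRing.exists_algEquiv_pi_matrix_of_isAlgClosed F (A ⧸ Ring.jacobson A)
  let ψ : A →ₐ[F] (Π i, Matrix (Fin (d i)) (Fin (d i)) F) :=
    φ.toAlgHom.comp (Ideal.Quotient.mkₐ F (Ring.jacobson A))
  have hψs : Function.Surjective ψ :=
    φ.surjective.comp (Ideal.Quotient.mkₐ_surjective F (Ring.jacobson A))
  have hψ0 : ∀ x, ψ x = 0 ↔ x ∈ Ring.jacobson A := by
    intro x
    show φ (Ideal.Quotient.mk _ x) = 0 ↔ _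
    rw [map_eq_zero_iff φ φ.injective, Ideal.Quotient.eq_zero_iff_mem]
  let τ : Fin l → (A →ₗ[F] F) := fun i =>
    (Matrix.traceLinearMap (Fin (d i)) F F) ∘ₗ
      (LinearMap.proj (φ := fun i => Matrix (Fin (d i)) (Fin (d i)) F) i) ∘ₗ ψ.toLinearMap
  have hτ : ∀ i a, τ i a = Matrix.trace (ψ a i) := fun i a => rfl
  refine ⟨l, τ, ?_, ?_, ?_, ?_, ?_⟩
  · rw [Fintype.linearIndependent_iff]
    intro c hc j
    obtain ⟨a, ha⟩ := hψs (Pi.single j (Matrix.single 0 0 1))
    have h1 : (∑ i, c i • τ i) a = 0 := by rw [hc]; rfl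
    rw [LinearMap.sum_apply] at h1
    have h2 : ∀ i, (c i • τ i) a = if i = j then c i else 0 := by
      intro i
      rw [LinearMap.smul_apply, hτ, ha]
      by_cases hij : i = j
      · subst hij
        rw [Pi.single_eq_same, Matrix.trace_single_eq_same, if_pos rfl, smul_eq_mul, mul_one]
      · rw [Pi.single_eq_of_ne hij, Matrix.trace_zero, if_neg hij, smul_zero]
    simp only [h2, Finset.sum_ite_eq', Finset.mem_univ, if_true] at h1
    exact h1
  · intro i a b
    rw [hτ, hτ, map_mul, map_mul, Pi.mul_apply, Pi.mul_apply, Matrix.trace_mul_comm]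
  · intro i a ha
    rw [hτ]
    have h1 : IsNilpotent (ψ a) := ha.map ψ
    have h2 : IsNilpotent (ψ a i) :=
      h1.map (Pi.evalRingHom (fun i => Matrix (Fin (d i)) (Fin (d i)) F) i)
    exact (Matrix.isNilpotent_trace_of_isNilpotent h2).eq_zero
  · intro hA
    rintro rfl
    have h1 : ψ 1 = 0 := Subsingleton.elim _ _
    rw [hψ0] at h1
    exact (Ring.jacobson_lt_top A).ne ((Ideal.eq_top_iff_one _).mpr h1)
  · intro hl1
    subst hl1
    refine ⟨Cfsg.Agent.Lib.Helper24.Br.nilSet_of_isNilpotent _ hnil, ?_⟩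
    obtain ⟨n, hn⟩ := Nat.exists_eq_succ_of_ne_zero (hd 0).out
    let ev : (Π i : Fin 1, Matrix (Fin (d i)) (Fin (d i)) F) →ₐ[F]
        Matrix (Fin (d 0)) (Fin (d 0)) F :=
      Pi.evalAlgHom F (fun i : Fin 1 => Matrix (Fin (d i)) (Fin (d i)) F) 0
    have hev : Function.Bijective ev := by
      constructor
      · intro x y hxy
        funext i
        obtain rfl : i = 0 := Subsingleton.elim _ _
        exact hxy
      · intro y
        refine ⟨fun i => by
          obtain rfl : i = 0 := Subsingleton.elim _ _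
          exact y, rfl⟩
    exact ⟨n, ⟨(φ.trans (AlgEquiv.ofBijective ev hev)).trans
      (Matrix.reindexAlgEquiv F F (finCongr hn))⟩⟩

end algstmts

end Cfsg.Agent.Lib.Helper24.R1
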