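import Mathlib
import Cfsg.Agent.Lib.helper7.BD.D1Defs
import Cfsg.Agent.Lib.helper7.BD.D1Defs2
import Cfsg.Agent.Lib.helper7.SecondMain3
import Cfsg.Agent.Lib.helper2.BDREPS
import Cfsg.Agent.Lib.Helper25.SubsectionCount
import Cfsg.Agent.S0923

set_option autoImplicit false
set_option linter.unusedVariables false
set_option linter.unusedSectionVars false
set_option linter.style.haveILetI false

namespace Cfsg.Agent.Lib.helper7.BD

open Cfsg.Agent.Lib.helper7

universe u

section glob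

variable {G : Type u} [Group G] [Fintype G] {M : Ideal Cfsg.AlgInt} {p : ℕ} [Fact p.Prime]
  {P : Sylow p G} {B : Set (Cfsg.IrrCharacter G)}
  {b : Set (Cfsg.IrrCharacter (Subgroup.centralizer ((P : Subgroup G) : Set G)))}
  {θ : Cfsg.IrrCharacter (Subgroup.centralizer ((P : Subgroup G) : Set G))} {T : Subgroup G}

theorem bd3deg1_mem_sylow (P : Sylow p G) (x : G)
    (hxC : x ∈ Subgroup.centralizer ((P : Subgroup G) : Set G))
    (hx : ∃ k : ℕ, orderOf x = p ^ k) : x ∈ (P : Subgroup G) := by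
  have hZ : IsPGroup p (Subgroup.zpowers x) := by
    obtain ⟨k, hk⟩ := hx
    apply IsPGroup.of_card (n := k)
    rw [Nat.card_zpowers, hk]
  have hle : Subgroup.zpowers x ≤ Subgroup.normalizer ((P : Subgroup G) : Set G) := by
    rw [Subgroup.zpowers_le]
    exact Subgroup.centralizer_le_normalizer _ hxC
  have hsup : IsPGroup p (Subgroup.zpowers x ⊔ (P : Subgroup G) : Subgroup G) :=
    hZ.to_sup_of_normal_right' P.isPGroup' hle
  have := P.is_maximal' hsup le_sup_right
  have h2 : Subgroup.zpowers x ≤ (P : Subgroup G) := by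
    rw [← this]
    exact le_sup_left
  exact h2 (Subgroup.mem_zpowers x)

theorem bd3deg1_transport (hM : Cfsg.IsPModular p M) (x : G) (hx : ∃ k : ℕ, orderOf x = p ^ k)
    (hB : Cfsg.IsPBlock M B) (χ : Cfsg.IrrCharacter G) (hχ : χ ∈ B)
    (H : Subgroup G) (hH : H = Subgroup.centralizer ({x} : Set G))
    (b' : Set (Cfsg.IrrCharacter H)) (hb' : Cfsg.IsPBlock M b')
    (hnot : ¬ Cfsg.IsInducedBlock M H b' B) (y : H) (hy : ¬ p ∣ orderOf y) :
    Cfsg.blockPart b' (fun c : H => (χ : G → ℂ) (x * (c : G))) y = 0 := by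
  subst hH
  exact Cfsg.Agent.S0923.result p M hM x hx B hB χ hχ b' hb' hnot y hy

theorem bd3deg1_vanish (h : RootHyp p M P B b θ T) (χ : Cfsg.IrrCharacter G) (hχ : χ ∈ B)
    (c : ↥(Subgroup.centralizer ((P : Subgroup G) : Set G))) (hc : p ∣ orderOf c)
    (b' : Set (Cfsg.IrrCharacter (Subgroup.centralizer ((P : Subgroup G) : Set G))))
    (hb' : Cfsg.IsPBlock M b')
    (hnot : ¬ Cfsg.IsInducedBlock M (Subgroup.centralizer ((P : Subgroup G) : Set G)) b' B) :
    Cfsg.blockPart b'
      (fun c : ↥(Subgroup.centralizer ((P : Subgroup G) : Set G)) => (χ : G → ℂ) (c : G)) c = 0 := by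
  classical
  have hp : p.Prime := Fact.out
  obtain ⟨y, hxy, hcomm, hxp, hyp⟩ := Cfsg.Agent.Lib.Helper25.sc_pp_spec p c
  set x := Cfsg.Agent.Lib.Helper25.sc_pp p c with hxdef
  have hxGp : ∃ k : ℕ, orderOf (x : G) = p ^ k := by
    obtain ⟨k, hk⟩ := hxp
    exact ⟨k, by rw [Subgroup.orderOf_coe, hk]⟩
  have hxP : (x : G) ∈ (P : Subgroup G) := bd3deg1_mem_sylow P (x : G) x.2 hxGp
  have hx1 : x ≠ 1 := by
    intro h1
    rw [h1, one_mul] at hxy
    rw [← hxy] at hc
    exact hyp hc
  have hxG1 : (x : G) ≠ 1 := by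
    intro h1
    apply hx1
    apply Subtype.ext
    exact h1
  have hcent : Subgroup.centralizer ({(x : G)} : Set G) =
      Subgroup.centralizer ((P : Subgroup G) : Set G) :=
    h2_centralizer_singleton_eq p (P : Subgroup G) h.card_P (x : G) hxP hxG1
  have hzero := bd3deg1_transport h.hM (x : G) hxGp h.hB χ hχ
    (Subgroup.centralizer ((P : Subgroup G) : Set G)) hcent.symm b' hb' hnot y hyp
  have hxcomm : ∀ k : ↥(Subgroup.centralizer ((P : Subgroup G) : Set G)),
      (x : G) * (k : G) = (k : G) * (x : G) := by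
    intro k
    have := (Subgroup.mem_centralizer_iff.mp k.2) (x : G) hxP
    exact this
  have hcl1 : ∀ g k : ↥(Subgroup.centralizer ((P : Subgroup G) : Set G)),
      (fun c : ↥(Subgroup.centralizer ((P : Subgroup G) : Set G)) =>
        (χ : G → ℂ) ((x : G) * (c : G))) (k * g * k⁻¹) =
      (fun c : ↥(Subgroup.centralizer ((P : Subgroup G) : Set G)) =>
        (χ : G → ℂ) ((x : G) * (c : G))) g := by
    intro g k
    show (χ : G → ℂ) ((x : G) * ((k * g * k⁻¹ :
      ↥(Subgroup.centralizer ((P : Subgroup G) : Set G))) : G)) = (χ : G → ℂ) ((x : G) * (g : G))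
    have e1 : (x : G) * ((k * g * k⁻¹ : ↥(Subgroup.centralizer ((P : Subgroup G) : Set G))) : G) =
        (k : G) * ((x : G) * (g : G)) * (k : G)⁻¹ := by
      push_cast
      rw [← mul_assoc, ← mul_assoc, hxcomm k]
      group
    rw [e1]
    exact Cfsg.Agent.Lib.Helper25.irr_conj_invariant χ ((x : G) * (g : G)) (k : G)
  have hcl2 : ∀ g k : ↥(Subgroup.centralizer ((P : Subgroup G) : Set G)),
      (fun c : ↥(Subgroup.centralizer ((P : Subgroup G) : Set G)) =>
        (χ : G → ℂ) (c : G)) (k * g * k⁻¹) =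
      (fun c : ↥(Subgroup.centralizer ((P : Subgroup G) : Set G)) => (χ : G → ℂ) (c : G)) g := by
    intro g k
    show (χ : G → ℂ) ((k * g * k⁻¹ : ↥(Subgroup.centralizer ((P : Subgroup G) : Set G))) : G) =
      (χ : G → ℂ) (g : G)
    have := Cfsg.Agent.Lib.Helper25.irr_conj_invariant χ (g : G) (k : G)
    simpa using this
  rw [h7_blockPart_eq b' _ hcl1 y] at hzero
  rw [h7_blockPart_eq b' _ hcl2 c, ← hzero]
  refine finsum_congr fun k => ?_
  show Cfsg.blockCoeff b' k * _ = Cfsg.blockCoeff b' k * _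
  congr 1
  show (χ : G → ℂ) ((k * c : ↥(Subgroup.centralizer ((P : Subgroup G) : Set G))) : G) =
    (χ : G → ℂ) ((x : G) * ((k * y : ↥(Subgroup.centralizer ((P : Subgroup G) : Set G))) : G))
  rw [← hxy]
  push_cast
  rw [← mul_assoc, ← mul_assoc, hxcomm k]

variable [Fintype ↥(Subgroup.centralizer ((P : Subgroup G) : Set G))]
  [Fintype ↥(Subgroup.normalizer ((P : Subgroup G) : Set G))]

theorem root_value_blocks (h : RootHyp p M P B b θ T) (χ : Cfsg.IrrCharacter G) (hχ : χ ∈ B)
    (c : ↥(Subgroup.centralizer ((P : Subgroup G) : Set G))) (hc : p ∣ orderOf c) :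
    (χ : G → ℂ) (c : G) =
      ∑ᶠ b' ∈ {b' : Set (Cfsg.IrrCharacter (Subgroup.centralizer ((P : Subgroup G) : Set G))) |
        Cfsg.IsInducedBlock M (Subgroup.centralizer ((P : Subgroup G) : Set G)) b' B},
        Cfsg.blockPart b'
          (fun c : ↥(Subgroup.centralizer ((P : Subgroup G) : Set G)) => (χ : G → ℂ) (c : G)) c := by
  classical
  haveI : Fintype (Cfsg.IrrCharacter (Subgroup.centralizer ((P : Subgroup G) : Set G))) :=
    Fintype.ofFinite _
  have hMp : M.IsPrime := h7_isPrime_of_isPModular h.hM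
  have hcl2 : ∀ g k : ↥(Subgroup.centralizer ((P : Subgroup G) : Set G)),
      (fun c : ↥(Subgroup.centralizer ((P : Subgroup G) : Set G)) =>
        (χ : G → ℂ) (c : G)) (k * g * k⁻¹) =
      (fun c : ↥(Subgroup.centralizer ((P : Subgroup G) : Set G)) => (χ : G → ℂ) (c : G)) g := by
    intro g k
    show (χ : G → ℂ) ((k * g * k⁻¹ : ↥(Subgroup.centralizer ((P : Subgroup G) : Set G))) : G) =
      (χ : G → ℂ) (g : G)
    have := Cfsg.Agent.Lib.Helper25.irr_conj_invariant χ (g : G) (k : G)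
    simpa using this
  have hsum := Cfsg.Agent.Lib.Helper25.sc_sum_blockPart hMp
    (fun c : ↥(Subgroup.centralizer ((P : Subgroup G) : Set G)) => (χ : G → ℂ) (c : G)) hcl2 c
  rw [h7_finsum_mem_fintype]
  rw [← hsum]
  refine Finset.sum_congr rfl fun b' _ => ?_
  by_cases hind : Cfsg.IsInducedBlock M (Subgroup.centralizer ((P : Subgroup G) : Set G)) b' B
  · rw [if_pos hind.1, if_pos (show b' ∈ {b' | Cfsg.IsInducedBlock M
      (Subgroup.centralizer ((P : Subgroup G) : Set G)) b' B} from hind)]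
  · rw [if_neg (show ¬ b' ∈ {b' | Cfsg.IsInducedBlock M
      (Subgroup.centralizer ((P : Subgroup G) : Set G)) b' B} from hind)]
    by_cases hblk : Cfsg.IsPBlock M b'
    · rw [if_pos hblk]
      exact bd3deg1_vanish h χ hχ c hc b' hblk hind
    · rw [if_neg hblk]

end glob

end Cfsg.Agent.Lib.helper7.BD
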