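import Mathlib
import Cfsg.Agent.Lib.helper7.BD.D1Defs
import Cfsg.Agent.Lib.helper7.BD.D1Defs2
import Cfsg.Agent.Lib.Helper24.CyclicInertial3
import Cfsg.Agent.Lib.Helper25.InducedBlockPart
import Cfsg.Agent.Lib.Helper25.BDTSTAB
import Cfsg.Agent.Lib.Helper25.BDTSUB
import Cfsg.Agent.Lib.Helper13.BD3CJ
import Cfsg.Agent.Lib.Helper13.BD3IBLK
import Cfsg.Agent.Lib.Helper24.BD3DEG1
import Cfsg.Agent.Lib.helper23.BD3CJ4
import Cfsg.Agent.Lib.helper23.BD3MULT

set_option autoImplicit false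
set_option linter.unusedVariables false
set_option linter.unusedSectionVars false
set_option linter.style.haveILetI false

namespace Cfsg.Agent.Lib.helper7.BD

open Cfsg.Agent.Lib.helper7

universe u

section glob

variable {G : Type u} [Group G] [Fintype G] {M : Ideal Cfsg.AlgInt} {p : ℕ} [Fact p.Prime]
  {P : Sylow p G} {B : Set (Cfsg.IrrCharacter G)}
  {b : Set (Cfsg.IrrCharacter (Subgroup.centralizer ((P : Subgroup G) : Set G)))}
  {θ : Cfsg.IrrCharacter (Subgroup.centralizer ((P : Subgroup G) : Set G))} {T : Subgroup G}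

theorem bd3val_fiber (h : RootHyp p M P B b θ T)
    (n₀ : ↥(Subgroup.normalizer ((P : Subgroup G) : Set G))) :
    Nat.card {n : ↥(Subgroup.normalizer ((P : Subgroup G) : Set G)) //
      cjSet (Subgroup.centralizer ((P : Subgroup G) : Set G)) (n : G) b =
        cjSet (Subgroup.centralizer ((P : Subgroup G) : Set G)) (n₀ : G) b} = Nat.card T := by
  have hTN := (root_C_le_T h).2
  have hNC : ∀ n ∈ Subgroup.normalizer ((P : Subgroup G) : Set G), n ∈ Subgroup.normalizer
      ((Subgroup.centralizer ((P : Subgroup G) : Set G) : Subgroup G) : Set G) :=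
    fun n hn => Cfsg.Agent.Lib.Helper24.ci_normalizer_le (P : Subgroup G) hn
  refine Nat.card_congr (Equiv.symm ?_)
  refine Equiv.ofBijective
    (fun t : ↥T => ⟨⟨(n₀ : G) * (t : G), mul_mem n₀.2 (hTN t.2)⟩, ?_⟩) ⟨?_, ?_⟩
  · show cjSet _ ((n₀ : G) * (t : G)) b = _
    rw [bd3iblk_cjSet_mul _ (hNC _ n₀.2) (hNC _ (hTN t.2)), (root_stab h _ (hTN t.2)).mp t.2]
  · intro t t' htt
    have h1 : (n₀ : G) * (t : G) = (n₀ : G) * (t' : G) := by
      have := congrArg (fun x => ((x.1 : ↥(Subgroup.normalizer ((P : Subgroup G) : Set G))) : G)) htt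
      exact this
    exact Subtype.ext (mul_left_cancel h1)
  · rintro ⟨n, hn⟩
    have hmem : (n₀ : G)⁻¹ * (n : G) ∈ T := by
      rw [root_stab h _ (mul_mem (inv_mem n₀.2) n.2)]
      rw [bd3iblk_cjSet_mul _ (hNC _ (inv_mem n₀.2)) (hNC _ n.2), hn,
        ← bd3iblk_cjSet_mul _ (hNC _ (inv_mem n₀.2)) (hNC _ n₀.2), inv_mul_cancel,
        bd3iblk_cjSet_one]
    refine ⟨⟨_, hmem⟩, ?_⟩
    apply Subtype.ext
    apply Subtype.ext
    show (n₀ : G) * ((n₀ : G)⁻¹ * (n : G)) = n
    rw [mul_inv_cancel_left]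

variable [Fintype ↥(Subgroup.centralizer ((P : Subgroup G) : Set G))]
  [Fintype ↥(Subgroup.normalizer ((P : Subgroup G) : Set G))]

theorem root_value_sing (h : RootHyp p M P B b θ T) (χ : Cfsg.IrrCharacter G) (hχ : χ ∈ B)
    (c : ↥(Subgroup.centralizer ((P : Subgroup G) : Set G))) (hc : p ∣ orderOf c) :
    (Nat.card T : ℂ) * (χ : G → ℂ) (c : G) =
      ∑ n : ↥(Subgroup.normalizer ((P : Subgroup G) : Set G)), ∑ᶠ ξ ∈ b,
        Cfsg.classInner (ξ : ↥(Subgroup.centralizer ((P : Subgroup G) : Set G)) → ℂ)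
          (fun c : ↥(Subgroup.centralizer ((P : Subgroup G) : Set G)) => (χ : G → ℂ) (c : G)) *
        (cjIrr (Subgroup.centralizer ((P : Subgroup G) : Set G)) (n : G) ξ :
          ↥(Subgroup.centralizer ((P : Subgroup G) : Set G)) → ℂ) c := by
  classical
  have hNC : ∀ n ∈ Subgroup.normalizer ((P : Subgroup G) : Set G), n ∈ Subgroup.normalizer
      ((Subgroup.centralizer ((P : Subgroup G) : Set G) : Subgroup G) : Set G) :=
    fun n hn => Cfsg.Agent.Lib.Helper24.ci_normalizer_le (P : Subgroup G) hn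
  set F : Set (Cfsg.IrrCharacter (Subgroup.centralizer ((P : Subgroup G) : Set G))) → ℂ :=
    fun b' => Cfsg.blockPart b'
      (fun c : ↥(Subgroup.centralizer ((P : Subgroup G) : Set G)) => (χ : G → ℂ) (c : G)) c with hF
  have h1 : ∀ n : ↥(Subgroup.normalizer ((P : Subgroup G) : Set G)), (∑ᶠ ξ ∈ b,
        Cfsg.classInner (ξ : ↥(Subgroup.centralizer ((P : Subgroup G) : Set G)) → ℂ)
          (fun c : ↥(Subgroup.centralizer ((P : Subgroup G) : Set G)) => (χ : G → ℂ) (c : G)) *
        (cjIrr (Subgroup.centralizer ((P : Subgroup G) : Set G)) (n : G) ξ :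
          ↥(Subgroup.centralizer ((P : Subgroup G) : Set G)) → ℂ) c) =
      F (cjSet (Subgroup.centralizer ((P : Subgroup G) : Set G)) (n : G) b) := by
    intro n
    show _ = Cfsg.blockPart _ _ c
    rw [Cfsg.Agent.Lib.Helper25.ib_blockPart_apply]
    unfold cjSet
    rw [finsum_mem_image (cjIrr_injective _ (hNC _ n.2)).injOn]
    refine finsum_mem_congr rfl fun ξ hξ => ?_
    obtain ⟨m, hm1, hm2⟩ := mult_nat (Subgroup.centralizer ((P : Subgroup G) : Set G)) χ
      (cjIrr (Subgroup.centralizer ((P : Subgroup G) : Set G)) (n : G) ξ)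
    rw [hm1, ← hm2, classInner_res_cjIrr _ (hNC _ n.2)]
  rw [Finset.sum_congr rfl fun n _ => h1 n]
  rw [Finset.sum_comp F
    (fun n : ↥(Subgroup.normalizer ((P : Subgroup G) : Set G)) =>
      cjSet (Subgroup.centralizer ((P : Subgroup G) : Set G)) (n : G) b)]
  rw [root_value_blocks h χ hχ c hc]
  have hset : {b' : Set (Cfsg.IrrCharacter (Subgroup.centralizer ((P : Subgroup G) : Set G))) |
      Cfsg.IsInducedBlock M (Subgroup.centralizer ((P : Subgroup G) : Set G)) b' B} =
      ↑(Finset.univ.image (fun n : ↥(Subgroup.normalizer ((P : Subgroup G) : Set G)) =>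
        cjSet (Subgroup.centralizer ((P : Subgroup G) : Set G)) (n : G) b)) := by
    ext b'
    rw [Set.mem_ofPred_eq, bd3iblk_iff h b']
    simp only [Finset.coe_image, Finset.coe_univ, Set.image_univ, Set.mem_range]
    constructor
    · rintro ⟨n, hn, rfl⟩
      exact ⟨⟨n, hn⟩, rfl⟩
    · rintro ⟨n, rfl⟩
      exact ⟨n, n.2, rfl⟩
  rw [hset, finsum_mem_coe_finset, Finset.mul_sum]
  refine Finset.sum_congr rfl fun b' hb' => ?_
  obtain ⟨n₀, -, rfl⟩ := Finset.mem_image.mp hb'
  have hcard : (Finset.univ.filter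
      (fun n : ↥(Subgroup.normalizer ((P : Subgroup G) : Set G)) =>
        cjSet (Subgroup.centralizer ((P : Subgroup G) : Set G)) (n : G) b =
          cjSet (Subgroup.centralizer ((P : Subgroup G) : Set G)) (n₀ : G) b)).card = Nat.card T := by
    rw [← bd3val_fiber h n₀, Nat.card_eq_fintype_card, Fintype.card_subtype]
  rw [hcard, nsmul_eq_mul]

end glob

end Cfsg.Agent.Lib.helper7.BD
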