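import Mathlib
import Cfsg.Agent.Lib.helper7.BD.D1Defs
import Cfsg.Agent.Lib.helper7.BD.D1Defs2
import Cfsg.Agent.Lib.helper7.SecondMain3
import Cfsg.Agent.Lib.helper2.BDREPS
import Cfsg.Agent.Lib.Helper10.BDCHARS
import Cfsg.Agent.Lib.Helper25.SubsectionCount
import Cfsg.Agent.Lib.Helper25.CharOrth
import Cfsg.Agent.S0922
import Cfsg.Agent.Lib.Helper29.BD3CYC0
import Cfsg.Agent.Lib.Helper27.BD3LAM
import Cfsg.Agent.Lib.Helper1.BD3BLK
import Cfsg.Agent.Lib.helper23.BD3MULT

set_option autoImplicit false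
set_option linter.unusedVariables false
set_option linter.unusedSectionVars false
set_option linter.style.haveILetI false

namespace Cfsg.Agent.Lib.helper7.BD

open Cfsg.Agent.Lib.helper7

universe u

section glob

variable {G : Type u} [Group G] [Fintype G] {M : Ideal Cfsg.AlgInt} {p : ℕ} [Fact p.Prime]
  {P : Sylow p G} {B : Set (Cfsg.IrrCharacter G)}
  {b : Set (Cfsg.IrrCharacter (Subgroup.centralizer ((P : Subgroup G) : Set G)))}
  {θ : Cfsg.IrrCharacter (Subgroup.centralizer ((P : Subgroup G) : Set G))} {T : Subgroup G}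

theorem bd3b2mt_exists_x (P : Sylow p G) (hP : Nat.card P = p) :
    ∃ x : ↥(Subgroup.centralizer ((P : Subgroup G) : Set G)), (x : G) ∈ (P : Subgroup G) ∧ x ≠ 1 := by
  have hp : p.Prime := Fact.out
  haveI : Nontrivial (P : Subgroup G) := by
    apply (Finite.one_lt_card_iff_nontrivial).mp
    have : Nat.card (P : Subgroup G) = p := hP
    rw [this]
    exact hp.one_lt
  obtain ⟨y, hy⟩ := exists_ne (1 : (P : Subgroup G))
  have hyC : (y : G) ∈ Subgroup.centralizer ((P : Subgroup G) : Set G) :=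
    bdchars_le_centralizer (p := p) (P : Subgroup G) hP y.2
  refine ⟨⟨(y : G), hyC⟩, y.2, ?_⟩
  intro h1
  apply hy
  apply Subtype.ext
  have := congrArg Subtype.val h1
  exact this

theorem bd3b2mt_isPPart_self (x : G) (hx : orderOf x = p) (z : G) (hz : Cfsg.IsPPart p x z) :
    z = x := by
  have hself : Cfsg.IsPPart p x x := by
    refine ⟨1, mul_one x, Commute.one_right x, ⟨1, by rw [hx, pow_one]⟩, ?_⟩
    rw [orderOf_one]
    exact (Fact.out : p.Prime).one_lt.ne' ∘ Nat.dvd_one.mp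
  exact h7_isPPart_unique x x z hself hz

variable [Fintype ↥(Subgroup.centralizer ((P : Subgroup G) : Set G))]
  [Fintype ↥(Subgroup.normalizer ((P : Subgroup G) : Set G))]

theorem root_mult_const (h : RootHyp p M P B b θ T) (χ : Cfsg.IrrCharacter G) (hχ : χ ∉ B)
    (ξ : Cfsg.IrrCharacter (Subgroup.centralizer ((P : Subgroup G) : Set G))) (hξ : ξ ∈ b) :
    Cfsg.classInner (ξ : ↥(Subgroup.centralizer ((P : Subgroup G) : Set G)) → ℂ)
        (fun c : ↥(Subgroup.centralizer ((P : Subgroup G) : Set G)) => (χ : G → ℂ) (c : G)) =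
      Cfsg.classInner (θ : ↥(Subgroup.centralizer ((P : Subgroup G) : Set G)) → ℂ)
        (fun c : ↥(Subgroup.centralizer ((P : Subgroup G) : Set G)) => (χ : G → ℂ) (c : G)) := by
  classical
  obtain ⟨Λ, hΛ1, hΛ2, hΛ3⟩ := root_exists_Lambda P h.card_P
  obtain ⟨ξs, hinj, hrange, hval⟩ := root_block_param h Λ hΛ1 hΛ2 hΛ3
  obtain ⟨x, hxP, hx1⟩ := bd3b2mt_exists_x P h.card_P
  have hxG1 : (x : G) ≠ 1 := by
    intro h1
    apply hx1
    apply Subtype.ext
    exact h1
  have hxord : orderOf (x : G) = p :=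
    h2_orderOf_of_card_prime p (P : Subgroup G) h.card_P (x : G) hxP hxG1
  have hcent : Subgroup.centralizer ({(x : G)} : Set G) =
      Subgroup.centralizer ((P : Subgroup G) : Set G) :=
    h2_centralizer_singleton_eq p (P : Subgroup G) h.card_P (x : G) hxP hxG1
  have hC : ∀ z : G, Cfsg.IsPPart p (x : G) z →
      Subgroup.centralizer ({z} : Set G) ≤ Subgroup.centralizer ((P : Subgroup G) : Set G) := by
    intro z hz
    rw [bd3b2mt_isPPart_self (x : G) hxord z hz, hcent]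
  have h922 := Cfsg.Agent.S0922.result p M h.hM
    (Subgroup.centralizer ((P : Subgroup G) : Set G)) b B h.hind x hC χ hχ
  set res : ↥(Subgroup.centralizer ((P : Subgroup G) : Set G)) → ℂ :=
    fun c => (χ : G → ℂ) (c : G) with hres
  have hrescl : ∀ g k : ↥(Subgroup.centralizer ((P : Subgroup G) : Set G)),
      res (k * g * k⁻¹) = res g := by
    intro g k
    show (χ : G → ℂ) ((k * g * k⁻¹ : ↥(Subgroup.centralizer ((P : Subgroup G) : Set G))) : G) =
      (χ : G → ℂ) (g : G)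
    have := Cfsg.Agent.Lib.Helper25.irr_conj_invariant χ (g : G) (k : G)
    simpa using this
  have hbp := h7_blockPart_eq b res hrescl x
  have hbp0 : Cfsg.blockPart b res x = 0 := by
    rw [hbp]
    exact h922
  rw [Cfsg.Agent.Lib.Helper25.ib_blockPart_apply] at hbp0
  rw [← hrange, finsum_mem_range hinj, finsum_eq_sum_of_fintype] at hbp0
  have hmult : ∀ a : Fin p, ∃ m : ℕ, Cfsg.classInner res (ξs a :
      ↥(Subgroup.centralizer ((P : Subgroup G) : Set G)) → ℂ) = (m : ℂ) ∧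
      Cfsg.classInner (ξs a : ↥(Subgroup.centralizer ((P : Subgroup G) : Set G)) → ℂ) res =
        (m : ℂ) := fun a => mult_nat _ χ (ξs a)
  choose m hm1 hm2 using hmult
  set ζ : ℂ := ((Λ x : ℂˣ) : ℂ) with hζ
  have hζp : ζ ^ p = 1 := by
    rw [hζ, ← Units.val_pow_eq_pow_val, hΛ3 x]
    rfl
  have hζ1 : ζ ≠ 1 := by
    intro h1
    apply hΛ2 x hxP hx1
    apply Units.ext
    exact h1
  have hθ1 : (θ : ↥(Subgroup.centralizer ((P : Subgroup G) : Set G)) → ℂ) 1 ≠ 0 :=
    Cfsg.Agent.Lib.Helper25.irr_one_ne_zero θ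
  have hsum : ∑ a : Fin p, (((m a : ℕ) : ℤ) : ℂ) * ζ ^ (a : ℕ) = 0 := by
    have h1 : ∑ a : Fin p, (((m a : ℕ) : ℤ) : ℂ) * ζ ^ (a : ℕ) *
        (θ : ↥(Subgroup.centralizer ((P : Subgroup G) : Set G)) → ℂ) 1 = 0 := by
      rw [← hbp0]
      refine Finset.sum_congr rfl fun a _ => ?_
      rw [hm1 a, hval a x, h.hθP x hxP]
      push_cast
      ring
    rw [← Finset.sum_mul] at h1
    exact (mul_eq_zero.mp h1).resolve_right hθ1
  have hconst := prime_root_sum_eq_zero ζ hζp hζ1 (fun a => ((m a : ℕ) : ℤ)) hsum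
  have hξr : ξ ∈ Set.range ξs := by rw [hrange]; exact hξ
  have hθr : θ ∈ Set.range ξs := by rw [hrange]; exact h.hθ
  obtain ⟨a, rfl⟩ := hξr
  obtain ⟨a₀, ha₀⟩ := hθr
  rw [← ha₀, hm2 a, hm2 a₀]
  have := hconst a a₀
  exact_mod_cast this

end glob

end Cfsg.Agent.Lib.helper7.BD
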