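import Mathlib
import Cfsg.Agent.Lib.Helper18.PPrimeCore

set_option autoImplicit false
set_option linter.style.haveILetI false

namespace Cfsg.Agent.Lib.Helper24

theorem ix_of_normal_two_pow {G : Type*} [Group G] [Finite G] (K : Subgroup G) [K.Normal] (k : ℕ)
    (hk : K.index = 2 ^ (k + 1)) : ∃ H : Subgroup G, H.index = 2 := by
  haveI : Fact (Nat.Prime 2) := ⟨Nat.prime_two⟩
  have hQ : Nat.card (G ⧸ K) = 2 ^ (k + 1) := by
    rw [← hk]; rfl
  obtain ⟨M, hM⟩ := Sylow.exists_subgroup_card_pow_prime (G := G ⧸ K) 2 (n := k)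
    (by rw [hQ]; exact pow_dvd_pow 2 (Nat.le_succ k))
  have hMi : M.index = 2 := by
    have h1 := Subgroup.card_mul_index M
    rw [hM, hQ, pow_succ] at h1
    exact Nat.eq_of_mul_eq_mul_left (by positivity) h1
  refine ⟨M.comap (QuotientGroup.mk' K), ?_⟩
  rw [Subgroup.index_comap_of_surjective M (QuotientGroup.mk'_surjective K)]
  exact hMi

theorem ix_cyclic_sylow {G : Type*} [Group G] [Finite G] (heven : Even (Nat.card G)) (T : Sylow 2 G)
    (hT : IsCyclic (T : Subgroup G)) : ∃ H : Subgroup G, H.index = 2 := by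
  haveI : Fact (Nat.Prime 2) := ⟨Nat.prime_two⟩
  have hp : (Nat.card G).minFac = 2 := by
    rw [Nat.minFac_eq_two_iff]
    exact even_iff_two_dvd.mp heven
  have hcomp := IsCyclic.isComplement' hp hT
  have hidx := hcomp.symm.index_eq_card
  have hTc : Nat.card T = 2 ^ (Nat.card G).factorization 2 := Sylow.card_eq_multiplicity T
  have hpos : 0 < (Nat.card G).factorization 2 := by
    apply Nat.Prime.factorization_pos_of_dvd Nat.prime_two Nat.card_pos.ne'
    exact even_iff_two_dvd.mp heven
  obtain ⟨k, hk⟩ : ∃ k, (Nat.card G).factorization 2 = k + 1 :=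
    ⟨_, (Nat.succ_pred_eq_of_pos hpos).symm⟩
  rw [hk] at hTc
  exact ix_of_normal_two_pow _ k (hidx.trans hTc)

theorem ix_cyclic_invol_unique {S : Type*} [Group S] [Finite S] [IsCyclic S] (a b : S)
    (ha : a ^ 2 = 1) (ha1 : a ≠ 1) (hb : b ^ 2 = 1) (hb1 : b ≠ 1) : a = b := by
  classical
  haveI := Fintype.ofFinite S
  by_contra hab
  have h1 := IsCyclic.card_pow_eq_one_le (α := S) (n := 2) (by norm_num)
  have h2 : ({1, a, b} : Finset S) ⊆ Finset.univ.filter (fun c : S => c ^ 2 = 1) := by
    intro c hc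
    simp only [Finset.mem_insert, Finset.mem_singleton] at hc
    simp only [Finset.mem_filter, Finset.mem_univ, true_and]
    rcases hc with rfl | rfl | rfl
    · simp
    · exact ha
    · exact hb
  have h3 : ({1, a, b} : Finset S).card = 3 := by
    rw [Finset.card_insert_of_notMem, Finset.card_insert_of_notMem, Finset.card_singleton]
    · simpa using hab
    · simp only [Finset.mem_insert, Finset.mem_singleton, not_or]
      exact ⟨fun h => ha1 h.symm, fun h => hb1 h.symm⟩
  have := Finset.card_le_card h2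
  omega

theorem ix_central_mem_sylow {C : Type*} [Group C] [Finite C] (S : Sylow 2 C) (c : C)
    (hc : c ∈ Subgroup.center C) (hc2 : c ^ 2 = 1) : c ∈ (S : Subgroup C) := by
  haveI : Fact (Nat.Prime 2) := ⟨Nat.prime_two⟩
  have hzp : IsPGroup 2 (Subgroup.zpowers c) := by
    rw [IsPGroup]
    rintro ⟨y, hy⟩
    obtain ⟨k, rfl⟩ := Subgroup.mem_zpowers_iff.mp hy
    refine ⟨1, ?_⟩
    apply Subtype.ext
    simp only [pow_one, Subgroup.coe_pow, Subgroup.coe_one]
    rw [← zpow_natCast, ← zpow_mul, mul_comm, zpow_mul, zpow_natCast]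
    simp [hc2]
  have hn : (Subgroup.zpowers c).Normal := by
    constructor
    intro n hn g
    obtain ⟨k, rfl⟩ := Subgroup.mem_zpowers_iff.mp hn
    have hzk : c ^ k ∈ Subgroup.center C := Subgroup.zpow_mem _ hc k
    rw [Subgroup.mem_center_iff] at hzk
    rw [hzk g, mul_inv_cancel_right]
    exact Subgroup.zpow_mem_zpowers c k
  have hsup : IsPGroup 2 ((S : Subgroup C) ⊔ Subgroup.zpowers c : Subgroup C) :=
    IsPGroup.to_sup_of_normal_right S.isPGroup' hzp
  have := S.is_maximal' hsup le_sup_left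
  have h2 : Subgroup.zpowers c ≤ (S : Subgroup C) := by
    rw [← this]
    exact le_sup_right
  exact h2 (Subgroup.mem_zpowers c)

theorem ix_centralizer_cyclic {G : Type*} [Group G] [Finite G] (x : G) (hx : orderOf x = 2)
    (S : Sylow 2 ↥(Subgroup.centralizer ({x} : Set G)))
    (hS : IsCyclic (S : Subgroup ↥(Subgroup.centralizer ({x} : Set G)))) :
    ∃ H : Subgroup G, H.index = 2 := by
  haveI : Fact (Nat.Prime 2) := ⟨Nat.prime_two⟩
  have hxC : x ∈ Subgroup.centralizer ({x} : Set G) := by
    rw [Subgroup.mem_centralizer_iff]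
    intro y hy
    rw [Set.mem_singleton_iff] at hy
    rw [hy]
  have hx2 : x ^ 2 = 1 := by rw [← hx]; exact pow_orderOf_eq_one x
  have hx1 : x ≠ 1 := by
    intro h
    rw [h, orderOf_one] at hx
    omega
  have heven : Even (Nat.card G) := by
    rw [even_iff_two_dvd, ← hx]
    exact orderOf_dvd_natCard x
  have hxcen : (⟨x, hxC⟩ : ↥(Subgroup.centralizer ({x} : Set G))) ∈
      Subgroup.center ↥(Subgroup.centralizer ({x} : Set G)) := by
    rw [Subgroup.mem_center_iff]
    rintro ⟨g, hg⟩
    apply Subtype.ext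
    rw [Subgroup.mem_centralizer_iff] at hg
    exact (hg x rfl).symm
  have hxS : (⟨x, hxC⟩ : ↥(Subgroup.centralizer ({x} : Set G))) ∈
      (S : Subgroup ↥(Subgroup.centralizer ({x} : Set G))) := by
    apply ix_central_mem_sylow S _ hxcen
    apply Subtype.ext
    simpa using hx2
  obtain ⟨T, hT⟩ := IsPGroup.exists_le_sylow
    (S.isPGroup'.map (Subgroup.centralizer ({x} : Set G)).subtype)
  have hST : (S : Subgroup ↥(Subgroup.centralizer ({x} : Set G))) =
      (T : Subgroup G).subgroupOf (Subgroup.centralizer ({x} : Set G)) := by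
    have hle : (S : Subgroup ↥(Subgroup.centralizer ({x} : Set G))) ≤
        (T : Subgroup G).subgroupOf (Subgroup.centralizer ({x} : Set G)) := by
      intro s hs
      rw [Subgroup.mem_subgroupOf]
      exact hT (Subgroup.mem_map_of_mem _ hs)
    have hp : IsPGroup 2 ((T : Subgroup G).subgroupOf (Subgroup.centralizer ({x} : Set G))) :=
      T.isPGroup'.comap_subtype
    exact (S.is_maximal' hp hle).symm
  have hTS : (T : Subgroup G) =
      (S : Subgroup ↥(Subgroup.centralizer ({x} : Set G))).map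
        (Subgroup.centralizer ({x} : Set G)).subtype := by
    by_contra hne
    have hlt : (S : Subgroup ↥(Subgroup.centralizer ({x} : Set G))).map
        (Subgroup.centralizer ({x} : Set G)).subtype < (T : Subgroup G) :=
      lt_of_le_of_ne hT (fun h => hne h.symm)
    obtain ⟨z, hzT, hzN, hzS⟩ :=
      Cfsg.Agent.Lib.Helper18.exists_mem_normalizer_not_mem_of_lt_pGroup T.isPGroup' hlt
    have hxS' : x ∈ (S : Subgroup ↥(Subgroup.centralizer ({x} : Set G))).map
        (Subgroup.centralizer ({x} : Set G)).subtype := ⟨⟨x, hxC⟩, hxS, rfl⟩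
    have hzx := (Subgroup.mem_normalizer_iff.mp hzN x).mp hxS'
    obtain ⟨s, hs, hsz⟩ := hzx
    have hs2 : (⟨s, hs⟩ : ↥(S : Subgroup ↥(Subgroup.centralizer ({x} : Set G)))) ^ 2 = 1 := by
      apply Subtype.ext
      apply Subtype.ext
      simp only [Subgroup.coe_pow, Subgroup.coe_one]
      have : ((s : ↥(Subgroup.centralizer ({x} : Set G))) : G) = z * x * z⁻¹ := hsz
      rw [this, conj_pow, hx2]
      simp
    have hs1 : (⟨s, hs⟩ : ↥(S : Subgroup ↥(Subgroup.centralizer ({x} : Set G)))) ≠ 1 := by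
      intro h
      have h1 : ((s : ↥(Subgroup.centralizer ({x} : Set G))) : G) = 1 := by
        have := Subtype.ext_iff.mp (Subtype.ext_iff.mp h)
        simpa using this
      have h2 : ((s : ↥(Subgroup.centralizer ({x} : Set G))) : G) = z * x * z⁻¹ := hsz
      rw [h2] at h1
      apply hx1
      have : x = z⁻¹ * (z * x * z⁻¹) * z := by group
      rw [this, h1]
      group
    have hxs2 : (⟨⟨x, hxC⟩, hxS⟩ : ↥(S : Subgroup ↥(Subgroup.centralizer ({x} : Set G)))) ^ 2
        = 1 := by
      apply Subtype.ext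
      apply Subtype.ext
      simpa using hx2
    have hxs1 : (⟨⟨x, hxC⟩, hxS⟩ : ↥(S : Subgroup ↥(Subgroup.centralizer ({x} : Set G)))) ≠ 1 := by
      intro h
      apply hx1
      have := Subtype.ext_iff.mp (Subtype.ext_iff.mp h)
      simpa using this
    have heq := ix_cyclic_invol_unique _ _ hs2 hs1 hxs2 hxs1
    have heq' : z * x * z⁻¹ = x := by
      have h1 : ((s : ↥(Subgroup.centralizer ({x} : Set G))) : G) = x :=
        Subtype.ext_iff.mp (Subtype.ext_iff.mp heq)
      have h2 : ((s : ↥(Subgroup.centralizer ({x} : Set G))) : G) = z * x * z⁻¹ := hsz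
      rw [← h2, h1]
    have hzC : z ∈ Subgroup.centralizer ({x} : Set G) := by
      rw [Subgroup.mem_centralizer_iff]
      intro y hy
      rw [Set.mem_singleton_iff] at hy
      rw [hy]
      have : z * x = z * x * z⁻¹ * z := by group
      rw [this, heq']
    have hzS' : (⟨z, hzC⟩ : ↥(Subgroup.centralizer ({x} : Set G))) ∈
        (S : Subgroup ↥(Subgroup.centralizer ({x} : Set G))) := by
      rw [hST, Subgroup.mem_subgroupOf]
      exact hzT
    exact hzS ⟨⟨z, hzC⟩, hzS', rfl⟩
  have hTcyc : IsCyclic (T : Subgroup G) := by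
    rw [hTS]
    exact isCyclic_of_surjective
      ((Subgroup.centralizer ({x} : Set G)).subtype.subgroupMap
        (S : Subgroup ↥(Subgroup.centralizer ({x} : Set G))))
      (MonoidHom.subgroupMap_surjective _ _)
  exact ix_cyclic_sylow heven T hTcyc

end Cfsg.Agent.Lib.Helper24
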