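import Mathlib

set_option autoImplicit false

namespace Cfsg.Agent.Lib.Helper24

variable {G : Type*} [Group G]

theorem ti_sq_of_order {x : G} (hx : orderOf x = 2) : x * x = 1 := by
  rw [← pow_two, ← hx]; exact pow_orderOf_eq_one x

theorem ti_inv_of_sq {x : G} (hx : x * x = 1) : x⁻¹ = x := inv_eq_of_mul_eq_one_left hx

theorem ti_conj_one {x y : G} (hx : x * x = 1) (hy : y * y = 1) :
    x * (x * y) * x⁻¹ = (x * y)⁻¹ := by
  rw [ti_inv_of_sq hx, mul_inv_rev, ti_inv_of_sq hx, ti_inv_of_sq hy, ← mul_assoc x x y, hx,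
    one_mul]

theorem ti_conj_zpow {x y : G} (hx : x * x = 1) (hy : y * y = 1) (k : ℤ) :
    x * (x * y) ^ k * x⁻¹ = ((x * y) ^ k)⁻¹ := by
  have h := map_zpow (MulAut.conj x).toMonoidHom (x * y) k
  simp only [MulEquiv.toMonoidHom_eq_coe, MonoidHom.coe_coe, MulAut.conj_apply] at h
  rw [h, ti_conj_one hx hy, inv_zpow]

theorem ti_zpow_mul_x {x y : G} (hx : x * x = 1) (hy : y * y = 1) (k : ℤ) :
    (x * y) ^ k * x = x * (x * y) ^ (-k) := by
  have h := ti_conj_zpow hx hy k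
  rw [ti_inv_of_sq hx] at h
  calc (x * y) ^ k * x = (x * x) * (x * y) ^ k * x := by rw [hx, one_mul]
    _ = x * (x * (x * y) ^ k * x) := by simp only [mul_assoc]
    _ = x * ((x * y) ^ k)⁻¹ := by rw [h]
    _ = x * (x * y) ^ (-k) := by rw [zpow_neg]

theorem ti_y_eq {x y : G} (hx : x * x = 1) : y = x * (x * y) ^ (1 : ℤ) := by
  rw [zpow_one, ← mul_assoc, hx, one_mul]

theorem ti_mem {x y : G} (hx : x * x = 1) (hy : y * y = 1) (d : G)
    (hd : d ∈ Subgroup.closure ({x, y} : Set G)) :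
    ∃ k : ℤ, d = (x * y) ^ k ∨ d = x * (x * y) ^ k := by
  induction hd using Subgroup.closure_induction with
  | mem d hd =>
    rcases hd with rfl | hd
    · exact ⟨0, Or.inr (by simp)⟩
    · rw [Set.mem_singleton_iff] at hd
      subst hd
      exact ⟨1, Or.inr (ti_y_eq hx)⟩
  | one => exact ⟨0, Or.inl (by simp)⟩
  | mul a b _ _ iha ihb =>
    obtain ⟨k, hk | hk⟩ := iha <;> obtain ⟨l, hl | hl⟩ := ihb
    · exact ⟨k + l, Or.inl (by rw [hk, hl, zpow_add])⟩
    · refine ⟨-k + l, Or.inr ?_⟩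
      rw [hk, hl, ← mul_assoc, ti_zpow_mul_x hx hy, mul_assoc, ← zpow_add]
    · exact ⟨k + l, Or.inr (by rw [hk, hl, mul_assoc, zpow_add])⟩
    · refine ⟨-k + l, Or.inl ?_⟩
      rw [hk, hl, mul_assoc, ← mul_assoc _ x, ti_zpow_mul_x hx hy, ← mul_assoc, ← mul_assoc, hx,
        one_mul, ← zpow_add]
  | inv a _ iha =>
    obtain ⟨k, hk | hk⟩ := iha
    · exact ⟨-k, Or.inl (by rw [hk, zpow_neg])⟩
    · refine ⟨k, Or.inr ?_⟩
      rw [hk, mul_inv_rev, ti_inv_of_sq hx, ← zpow_neg, ti_zpow_mul_x hx hy, neg_neg]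

theorem ti_x_mem {x y : G} : x ∈ Subgroup.closure ({x, y} : Set G) :=
  Subgroup.subset_closure (Set.mem_insert _ _)

theorem ti_y_mem {x y : G} : y ∈ Subgroup.closure ({x, y} : Set G) :=
  Subgroup.subset_closure (Set.mem_insert_of_mem _ rfl)

theorem ti_zpow_mem {x y : G} (k : ℤ) : (x * y) ^ k ∈ Subgroup.closure ({x, y} : Set G) :=
  Subgroup.zpow_mem _ (Subgroup.mul_mem _ ti_x_mem ti_y_mem) k

theorem ti_x_zpow_mem {x y : G} (k : ℤ) : x * (x * y) ^ k ∈ Subgroup.closure ({x, y} : Set G) :=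
  Subgroup.mul_mem _ ti_x_mem (ti_zpow_mem k)

theorem ti_x_zpow_sq {x y : G} (hx : x * x = 1) (hy : y * y = 1) (k : ℤ) :
    (x * (x * y) ^ k) * (x * (x * y) ^ k) = 1 := by
  rw [mul_assoc, ← mul_assoc _ x, ti_zpow_mul_x hx hy, ← mul_assoc, ← mul_assoc, hx, one_mul,
    ← zpow_add, neg_add_cancel, zpow_zero]

theorem ti_conj_by_zpow {x y : G} (hx : x * x = 1) (hy : y * y = 1) (k : ℤ) :
    (x * y) ^ k * x * ((x * y) ^ k)⁻¹ = x * (x * y) ^ (-(2 * k)) := by
  rw [ti_zpow_mul_x hx hy, mul_assoc, ← zpow_neg, ← zpow_add]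
  congr 2
  ring

theorem ti_conj_by_x_zpow {x y : G} (hx : x * x = 1) (hy : y * y = 1) (k : ℤ) :
    (x * (x * y) ^ k) * x * (x * (x * y) ^ k)⁻¹ = x * (x * y) ^ (2 * k) := by
  rw [mul_inv_rev, ti_inv_of_sq hx]
  have h := ti_conj_by_zpow hx hy k
  calc x * (x * y) ^ k * x * (((x * y) ^ k)⁻¹ * x)
      = x * ((x * y) ^ k * x * ((x * y) ^ k)⁻¹) * x := by simp only [mul_assoc]
    _ = x * (x * (x * y) ^ (-(2 * k))) * x := by rw [h]
    _ = (x * y) ^ (-(2 * k)) * x := by rw [← mul_assoc, hx, one_mul]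
    _ = x * (x * y) ^ (2 * k) := by rw [ti_zpow_mul_x hx hy, neg_neg]

theorem ti_conj_form {x y : G} (hx : x * x = 1) (hy : y * y = 1) (d : G)
    (hd : d ∈ Subgroup.closure ({x, y} : Set G)) :
    ∃ m : ℤ, d * x * d⁻¹ = x * (x * y) ^ (2 * m) := by
  obtain ⟨k, hk | hk⟩ := ti_mem hx hy d hd
  · refine ⟨-k, ?_⟩
    rw [hk, ti_conj_by_zpow hx hy]
    congr 2
    ring
  · exact ⟨k, by rw [hk, ti_conj_by_x_zpow hx hy]⟩

noncomputable def tiPhi (a : G) (n : ℕ) (ha : a ^ n = 1) : ZMod n →+ Additive G :=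
  ZMod.lift n ⟨zmultiplesHom (Additive G) (Additive.ofMul a), by
    show (n : ℤ) • Additive.ofMul a = 0
    rw [natCast_zsmul, ← ofMul_pow, ha]
    rfl⟩

noncomputable def tiPw (a : G) (n : ℕ) (ha : a ^ n = 1) (i : ZMod n) : G :=
  Additive.toMul (tiPhi a n ha i)

theorem tiPw_add (a : G) (n : ℕ) (ha : a ^ n = 1) (i j : ZMod n) :
    tiPw a n ha (i + j) = tiPw a n ha i * tiPw a n ha j := by
  unfold tiPw
  rw [map_add]
  rfl

theorem tiPw_neg (a : G) (n : ℕ) (ha : a ^ n = 1) (i : ZMod n) :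
    tiPw a n ha (-i) = (tiPw a n ha i)⁻¹ := by
  unfold tiPw
  rw [map_neg]
  rfl

theorem tiPw_sub (a : G) (n : ℕ) (ha : a ^ n = 1) (i j : ZMod n) :
    tiPw a n ha (i - j) = tiPw a n ha i * (tiPw a n ha j)⁻¹ := by
  rw [sub_eq_add_neg, tiPw_add, tiPw_neg]

theorem tiPw_intCast (a : G) (n : ℕ) (ha : a ^ n = 1) (k : ℤ) :
    tiPw a n ha (k : ZMod n) = a ^ k := by
  unfold tiPw tiPhi
  rw [ZMod.lift_coe]
  show Additive.toMul (k • Additive.ofMul a) = a ^ k
  rw [← ofMul_zpow]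
  rfl

theorem tiPw_exists (a : G) (n : ℕ) (ha : a ^ n = 1) (i : ZMod n) :
    ∃ k : ℤ, tiPw a n ha i = a ^ k := by
  obtain ⟨k, rfl⟩ := ZMod.intCast_surjective i
  exact ⟨k, tiPw_intCast a n ha k⟩

theorem tiPw_mul_x {x y : G} (hx : x * x = 1) (hy : y * y = 1) (n : ℕ) (ha : (x * y) ^ n = 1)
    (i : ZMod n) : tiPw (x * y) n ha i * x = x * (tiPw (x * y) n ha i)⁻¹ := by
  obtain ⟨k, rfl⟩ := ZMod.intCast_surjective i
  rw [tiPw_intCast, ti_zpow_mul_x hx hy, zpow_neg]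

noncomputable def tiFn (x y : G) (n : ℕ) (ha : (x * y) ^ n = 1) : DihedralGroup n → G
  | DihedralGroup.r i => tiPw (x * y) n ha i
  | DihedralGroup.sr i => x * tiPw (x * y) n ha i

theorem tiFn_mul {x y : G} (hx : x * x = 1) (hy : y * y = 1) (n : ℕ) (ha : (x * y) ^ n = 1)
    (u v : DihedralGroup n) : tiFn x y n ha (u * v) = tiFn x y n ha u * tiFn x y n ha v := by
  rcases u with i | i <;> rcases v with j | j
  · simp only [DihedralGroup.r_mul_r, tiFn]
    exact tiPw_add _ _ _ i j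
  · simp only [DihedralGroup.r_mul_sr, tiFn]
    rw [← mul_assoc, tiPw_mul_x hx hy, mul_assoc, ← tiPw_neg, ← tiPw_add, sub_eq_neg_add]
  · simp only [DihedralGroup.sr_mul_r, tiFn]
    rw [tiPw_add, mul_assoc]
  · simp only [DihedralGroup.sr_mul_sr, tiFn]
    rw [mul_assoc, ← mul_assoc _ x, tiPw_mul_x hx hy, ← mul_assoc, ← mul_assoc, hx, one_mul,
      ← tiPw_neg, ← tiPw_add, sub_eq_neg_add]


noncomputable def tiHom {x y : G} (hx : x * x = 1) (hy : y * y = 1) (n : ℕ)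
    (ha : (x * y) ^ n = 1) : DihedralGroup n →* G :=
  MonoidHom.mk' (tiFn x y n ha) (tiFn_mul hx hy n ha)

theorem tiHom_r {x y : G} (hx : x * x = 1) (hy : y * y = 1) (n : ℕ) (ha : (x * y) ^ n = 1)
    (i : ZMod n) : tiHom hx hy n ha (DihedralGroup.r i) = tiPw (x * y) n ha i := rfl

theorem tiHom_sr {x y : G} (hx : x * x = 1) (hy : y * y = 1) (n : ℕ) (ha : (x * y) ^ n = 1)
    (i : ZMod n) : tiHom hx hy n ha (DihedralGroup.sr i) = x * tiPw (x * y) n ha i := rfl

theorem ti_x_not_mem {x y : G} (hx : orderOf x = 2) (hy : orderOf y = 2) :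
    x ∉ Subgroup.zpowers (x * y) := by
  have hx2 := ti_sq_of_order hx
  have hy2 := ti_sq_of_order hy
  intro hmem
  obtain ⟨k, hk⟩ := Subgroup.mem_zpowers_iff.mp hmem
  have hcomm : x * (x * y) = (x * y) * x := by
    have hc : Commute ((x * y) ^ k) (x * y) := (Commute.refl _).zpow_left k
    rw [hk] at hc
    exact hc.eq
  have h1 := ti_conj_one hx2 hy2
  rw [hcomm, mul_assoc, mul_inv_cancel, mul_one] at h1
  have hsq : (x * y) * (x * y) = 1 := by
    nth_rewrite 1 [h1]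
    exact inv_mul_cancel _
  have hyx : y * x = x * y := by
    have h2 : (x * y)⁻¹ = y * x := by
      rw [mul_inv_rev, ti_inv_of_sq hx2, ti_inv_of_sq hy2]
    rw [← h2, ← h1]
  have hcases : ∀ m : ℤ, (x * y) ^ m = 1 ∨ (x * y) ^ m = x * y := by
    intro m
    rcases Int.even_or_odd m with ⟨c, hc⟩ | ⟨c, hc⟩
    · left
      rw [hc, ← two_mul, zpow_mul, zpow_two, hsq, one_zpow]
    · right
      rw [hc, zpow_add, zpow_mul, zpow_two, hsq, one_zpow, one_mul, zpow_one]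
  rcases hcases k with h | h
  · rw [h] at hk
    rw [← hk, orderOf_one] at hx
    omega
  · rw [h] at hk
    have : y = 1 := by
      have h3 : x * y = x * 1 := by rw [hk, mul_one]
      exact mul_left_cancel h3
    rw [this, orderOf_one] at hy
    omega

theorem tiHom_injective {x y : G} (hx : x * x = 1) (hy : y * y = 1)
    (hxn : x ∉ Subgroup.zpowers (x * y)) :
    Function.Injective (tiHom hx hy (orderOf (x * y)) (pow_orderOf_eq_one _)) := by
  rw [injective_iff_map_eq_one]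
  intro u hu
  rcases u with i | i
  · rw [tiHom_r] at hu
    obtain ⟨k, rfl⟩ := ZMod.intCast_surjective i
    rw [tiPw_intCast] at hu
    have hdvd : (orderOf (x * y) : ℤ) ∣ k := orderOf_dvd_iff_zpow_eq_one.mpr hu
    have : ((k : ℤ) : ZMod (orderOf (x * y))) = 0 := (ZMod.intCast_zmod_eq_zero_iff_dvd k _).mpr hdvd
    rw [this]
    rfl
  · exfalso
    rw [tiHom_sr] at hu
    obtain ⟨k, hk⟩ := tiPw_exists (x * y) (orderOf (x * y)) (pow_orderOf_eq_one _) i
    rw [hk] at hu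
    apply hxn
    rw [Subgroup.mem_zpowers_iff]
    refine ⟨-k, ?_⟩
    rw [zpow_neg]
    exact (eq_inv_of_mul_eq_one_left hu).symm

theorem tiHom_range {x y : G} (hx : x * x = 1) (hy : y * y = 1) (n : ℕ) (ha : (x * y) ^ n = 1) :
    (tiHom hx hy n ha).range = Subgroup.closure ({x, y} : Set G) := by
  apply le_antisymm
  · rintro _ ⟨u, rfl⟩
    rcases u with i | i
    · rw [tiHom_r]
      obtain ⟨k, hk⟩ := tiPw_exists (x * y) n ha i
      rw [hk]
      exact ti_zpow_mem k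
    · rw [tiHom_sr]
      obtain ⟨k, hk⟩ := tiPw_exists (x * y) n ha i
      rw [hk]
      exact ti_x_zpow_mem k
  · rw [Subgroup.closure_le]
    intro g hg
    rcases hg with rfl | hg
    · refine ⟨DihedralGroup.sr 0, ?_⟩
      rw [tiHom_sr]
      have : tiPw (g * y) n ha 0 = 1 := by
        have := tiPw_intCast (g * y) n ha 0
        rw [Int.cast_zero, zpow_zero] at this
        exact this
      rw [this, mul_one]
    · rw [Set.mem_singleton_iff] at hg
      subst hg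
      refine ⟨DihedralGroup.sr 1, ?_⟩
      rw [tiHom_sr]
      have : tiPw (x * g) n ha 1 = x * g := by
        have := tiPw_intCast (x * g) n ha 1
        rw [Int.cast_one, zpow_one] at this
        exact this
      rw [this, ← mul_assoc, hx, one_mul]

noncomputable def tiEquiv {x y : G} (hx : orderOf x = 2) (hy : orderOf y = 2) :
    ↥(Subgroup.closure ({x, y} : Set G)) ≃* DihedralGroup (orderOf (x * y)) :=
  ((MonoidHom.ofInjective (tiHom_injective (ti_sq_of_order hx) (ti_sq_of_order hy)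
    (ti_x_not_mem hx hy))).trans
    (MulEquiv.subgroupCongr (tiHom_range (ti_sq_of_order hx) (ti_sq_of_order hy) _ _))).symm

theorem ti_order_two_of_not_mem {x y : G} (hx : orderOf x = 2) (hy : orderOf y = 2)
    (d : G) (hd : d ∈ Subgroup.closure ({x, y} : Set G)) (hd' : d ∉ Subgroup.zpowers (x * y)) :
    orderOf d = 2 := by
  have hx2 := ti_sq_of_order hx
  have hy2 := ti_sq_of_order hy
  obtain ⟨k, hk | hk⟩ := ti_mem hx2 hy2 d hd
  · exfalso
    apply hd'
    rw [hk]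
    exact Subgroup.zpow_mem_zpowers _ k
  · have hsq : d * d = 1 := by rw [hk]; exact ti_x_zpow_sq hx2 hy2 k
    have hne : d ≠ 1 := by
      intro h1
      apply ti_x_not_mem hx hy
      rw [Subgroup.mem_zpowers_iff]
      refine ⟨-k, ?_⟩
      rw [zpow_neg]
      rw [hk] at h1
      exact (eq_inv_of_mul_eq_one_left h1).symm
    exact orderOf_eq_prime (by rw [pow_two]; exact hsq) hne

end Cfsg.Agent.Lib.Helper24
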