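import Mathlib
import Cfsg.Agent.Lib.Helper22.C3L.Defs

set_option autoImplicit false
set_option linter.unusedVariables false
set_option linter.unusedSectionVars false

namespace Cfsg.Agent.Lib.Helper22.C3L

open Module

variable {F K V : Type*} [Field F] [Field K] [Algebra F K] [AddCommGroup V] [Module F V] [Module K V]
  [IsScalarTower F K V]

theorem c3lgen_det (g : V ≃ₗ[K] V) :
    ((LinearEquiv.det (g.restrictScalars F) : Fˣ) : F) =
      Algebra.norm F (LinearMap.det (g : V →ₗ[K] V)) := by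
  rw [LinearEquiv.coe_det, ← LinearMap.det_restrictScalars]
  rfl

theorem ktv_mem [FiniteDimensional F K] [FiniteDimensional K V] {ψ : Module.Dual K V} {z : V} (h : ψ z = 0) :
    (LinearEquiv.transvection h).restrictScalars F ∈ C1 F K V := by
  rw [mem_C1]
  refine ⟨fun a x => ?_, ?_⟩
  · rw [LinearEquiv.restrictScalars_apply, LinearEquiv.restrictScalars_apply, map_smul]
  · apply Units.ext
    rw [c3lgen_det, ← LinearEquiv.coe_det, LinearEquiv.transvection.det_eq_one, Units.val_one,
      map_one, Units.val_one]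

theorem c3lgen_dil [FiniteDimensional K V] {v : V} (hv : v ≠ 0) {k : K} (hk0 : k ≠ 0) :
    ∃ d : V ≃ₗ[K] V, LinearMap.det (d : V →ₗ[K] V) = k ∧ (∀ a : K, d (a • v) = (k * a) • v) ∧
      ∀ x, ∃ a : K, d x = x + a • v := by
  obtain ⟨ψ, hψ⟩ := Module.Projective.exists_dual_eq_one K hv
  have e1 : 1 + ψ ((k - 1) • v) = k := by
    rw [map_smul, hψ, smul_eq_mul, mul_one]
    ring
  have hu : IsUnit (1 + ψ ((k - 1) • v)) := by
    rw [e1]
    exact isUnit_iff_ne_zero.mpr hk0
  refine ⟨LinearEquiv.dilatransvection hu, ?_, ?_, ?_⟩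
  · have e2 : ((LinearEquiv.dilatransvection hu : V ≃ₗ[K] V) : V →ₗ[K] V) =
        LinearMap.transvection ψ ((k - 1) • v) := by
      ext x
      rw [LinearEquiv.coe_coe, LinearEquiv.dilatransvection.apply, LinearMap.transvection.apply]
    rw [e2, LinearMap.transvection.det, e1]
  · intro a
    rw [LinearEquiv.dilatransvection.apply, map_smul, hψ, smul_eq_mul, mul_one, smul_smul,
      ← add_smul]
    congr 1
    ring
  · intro x
    refine ⟨ψ x * (k - 1), ?_⟩
    rw [LinearEquiv.dilatransvection.apply, smul_smul]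

theorem kdil_ex [FiniteDimensional F K] [FiniteDimensional K V] {v : V} (hv : v ≠ 0) {k : K}
    (hk : Algebra.norm F k = 1) :
    ∃ d ∈ C1 F K V, (∀ a : K, d (a • v) = (k * a) • v) ∧ ∀ x, ∃ a : K, d x = x + a • v := by
  have hk0 : k ≠ 0 := by
    rintro rfl
    rw [Algebra.norm_zero] at hk
    exact zero_ne_one hk
  obtain ⟨d, hdet, h1, h2⟩ := c3lgen_dil hv hk0
  refine ⟨d.restrictScalars F, ?_, ?_, ?_⟩
  · rw [mem_C1]
    refine ⟨fun a x => ?_, ?_⟩
    · rw [LinearEquiv.restrictScalars_apply, LinearEquiv.restrictScalars_apply, map_smul]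
    · apply Units.ext
      rw [c3lgen_det, hdet, hk, Units.val_one]
  · intro a
    rw [LinearEquiv.restrictScalars_apply]
    exact h1 a
  · intro x
    rw [LinearEquiv.restrictScalars_apply]
    exact h2 x

theorem kdet_ex [Finite K] [FiniteDimensional K V] (hV : 1 ≤ finrank K V) (c : Fˣ) :
    ∃ d : V ≃ₗ[F] V, (∀ (a : K) (x : V), d (a • x) = a • d x) ∧ LinearEquiv.det d = c := by
  obtain ⟨k, hk⟩ := FiniteField.norm_surjective F K (c : F)
  have hk0 : k ≠ 0 := by
    rintro rfl
    rw [Algebra.norm_zero] at hk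
    exact c.ne_zero hk.symm
  obtain ⟨v, hv⟩ : ∃ v : V, v ≠ 0 := by
    have : 0 < finrank K V := by omega
    exact Module.finrank_pos_iff_exists_ne_zero.mp this
  obtain ⟨d, hdet, -, -⟩ := c3lgen_dil hv hk0
  refine ⟨d.restrictScalars F, fun a x => ?_, ?_⟩
  · rw [LinearEquiv.restrictScalars_apply, LinearEquiv.restrictScalars_apply, map_smul]
  · apply Units.ext
    rw [c3lgen_det, hdet, hk]

end Cfsg.Agent.Lib.Helper22.C3L
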