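import Mathlib
import Cfsg.Agent.Lib.helper15.St2
import Cfsg.Agent.Lib.helper3.STC.Defs

set_option autoImplicit false

namespace Cfsg.Agent.Lib.helper3.STC

open Cfsg.Agent.Lib.helper15.St2

section I
variable {ι : Type*} {K : Type*} [Field K]

theorem ng_ng (a : ι ⊕ ι) : ng (ng a) = a := by
  cases a <;> rfl

theorem ng_ne (a : ι ⊕ ι) : ng a ≠ a := by
  cases a <;> simp [ng]

theorem ne_ng (a : ι ⊕ ι) : a ≠ ng a := by
  cases a <;> simp [ng]

theorem ng_inj {a b : ι ⊕ ι} : ng a = ng b ↔ a = b := by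
  cases a <;> cases b <;> simp [ng]

theorem ng_eq_iff {a b : ι ⊕ ι} : ng a = b ↔ a = ng b := by
  cases a <;> cases b <;> simp [ng]

theorem sg_ng (a : ι ⊕ ι) : (sg (ng a) : K) = -sg a := by
  cases a <;> simp [ng, sg]

theorem sg_mul_self (a : ι ⊕ ι) : (sg a : K) * sg a = 1 := by
  cases a <;> simp [sg]

theorem sg_ne_zero (a : ι ⊕ ι) : (sg a : K) ≠ 0 := by
  cases a <;> simp [sg]

theorem sg_inv (a : ι ⊕ ι) : (sg a : K)⁻¹ = sg a := by
  cases a <;> simp [sg, inv_neg]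

theorem ab_ng (a : ι ⊕ ι) : ab (ng a) = ab a := by
  cases a <;> rfl

theorem ab_eq_iff {a b : ι ⊕ ι} : ab a = ab b ↔ a = b ∨ a = ng b := by
  cases a <;> cases b <;> simp [ab, ng]

end I

end Cfsg.Agent.Lib.helper3.STC
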