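import Mathlib
import Cfsg.Agent.Lib.helper15.St2
import Cfsg.Agent.Lib.helper7.StA
import Cfsg.Agent.Lib.helper7.StC
import Cfsg.Agent.Lib.Helper24.STCI1
import Cfsg.Agent.Lib.helper23.STCX2
import Cfsg.Agent.Lib.Helper27.STU.Defs
import Cfsg.Agent.Lib.Helper27.STU.Defs2

set_option autoImplicit false

namespace Cfsg.Agent.Lib.Helper27.STU

open Cfsg.Agent.Lib.helper15.St2 Cfsg.Agent.Lib.helper7.St Cfsg.Agent.Lib.helper3.STC

namespace SysU

variable {F : Type*} [Field F] [StarRing F] {od : Prop} {ι : Type*} {G : Type*} [Group G] (S : SysU F od ι G)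

theorem xs_zero {a b : ι ⊕ ι} (hab : a ≠ b) (hab' : a ≠ ng b) : S.xs a b 0 = 1 := by
  have := S.adds a b hab hab' 0 0
  rw [add_zero] at this
  exact mul_eq_left.mp this

theorem xs_neg {a b : ι ⊕ ι} (hab : a ≠ b) (hab' : a ≠ ng b) (t : F) : S.xs a b (-t) = (S.xs a b t)⁻¹ :=
  eq_inv_of_mul_eq_one_left (by rw [S.adds a b hab hab', neg_add_cancel, S.xs_zero hab hab'])

theorem xl_one (a : ι ⊕ ι) : S.xl a 1 = 1 := by
  have := S.addl a 1 1
  rw [mul_one] at this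
  exact mul_eq_left.mp this

theorem xl_inv (a : ι ⊕ ι) (ξ : Lam F od) : S.xl a ξ⁻¹ = (S.xl a ξ)⁻¹ :=
  eq_inv_of_mul_eq_one_left (by rw [S.addl a, inv_mul_cancel, S.xl_one])

theorem st_x {a b : ι ⊕ ι} (hab : a ≠ b) (hab' : a ≠ ng b) (t : F) : (S.st a b hab hab').x t = S.xs a b t := rfl

theorem st_y {a b : ι ⊕ ι} (hab : a ≠ b) (hab' : a ≠ ng b) (t : F) : (S.st a b hab hab').y t = S.xs b a t := rfl

theorem st_w {a b : ι ⊕ ι} (hab : a ≠ b) (hab' : a ≠ ng b) (t : F) : (S.st a b hab hab').w t = S.ws a b t := rfl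

theorem st_h {a b : ι ⊕ ι} (hab : a ≠ b) (hab' : a ≠ ng b) (t : F) : (S.st a b hab hab').h t = S.hs a b t := rfl

theorem stub1_ng_ne {a b : ι ⊕ ι} (hab' : a ≠ ng b) : b ≠ ng a := fun h => hab' (by rw [h, ng_ng])

theorem ws_neg {a b : ι ⊕ ι} (hab : a ≠ b) (hab' : a ≠ ng b) (t : F) : S.ws a b (-t) = (S.ws a b t)⁻¹ := by
  unfold ws
  rw [mul_inv_rev, mul_inv_rev, ← S.xs_neg hab hab', ← S.xs_neg hab.symm (stub1_ng_ne hab'), inv_neg, neg_neg, mul_assoc]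

theorem ws_swap {a b : ι ⊕ ι} (hab : a ≠ b) (hab' : a ≠ ng b) (t : F) (ht : t ≠ 0) : S.ws b a t = S.ws a b (-t⁻¹) := by
  have h := (S.st a b hab hab').W_swap false t ht
  exact h

theorem hs_one {a b : ι ⊕ ι} (hab : a ≠ b) (hab' : a ≠ ng b) : S.hs a b 1 = 1 := by
  unfold hs
  rw [S.ws_neg hab hab']
  group

theorem ws_sym {a b : ι ⊕ ι} (hab : a ≠ b) (hab' : a ≠ ng b) (t : F) :
    S.ws a b t = S.ws (ng b) (ng a) (-(star t)) := by
  unfold ws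
  rw [S.sym a b hab hab' t, S.sym b a hab.symm (stub1_ng_ne hab') (-t⁻¹)]
  have e : -(star (-t⁻¹)) = -(-(star t))⁻¹ := by
    rw [star_neg, star_inv₀, inv_neg]
  rw [e]

end SysU

end Cfsg.Agent.Lib.Helper27.STU
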