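import Mathlib
import Cfsg.Agent.Lib.Helper13.O5760.Defs
import Cfsg.Agent.Lib.Helper10.PSLYSQcore
import Cfsg.Agent.Lib.Helper16.PSLSINGSUM2
import Cfsg.Agent.Lib.Helper28.PSLCARDG

set_option autoImplicit false
set_option linter.unusedVariables false
set_option linter.unusedSectionVars false
open scoped ComplexConjugate
open Classical

namespace Cfsg.Agent.Lib.Helper13.O5760

open Cfsg.Agent.Lib.helper7 Cfsg.Agent.Lib.helper7.BR Cfsg.Agent.Lib.helper2 Cfsg.Agent.Lib.Helper25
  Cfsg.Agent.Lib.Helper29 Cfsg.Agent.Lib.helper15.BH Cfsg.Agent.Lib.helper15.PSL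

universe u

variable {G : Type u} [Group G] [Fintype G]

theorem o5760ysq_core {p : ℕ} [Fact p.Prime] {f : ℕ} {P : Sylow p G} {X Y : Finset (Cfsg.IrrCharacter G)}
    {a : Cfsg.IrrCharacter G → ℤ} {ε : ℤ} (hL : Loc p f P)
    (hB : PB0 p f (P : Subgroup G) X Y a ε) (hZc : Subgroup.center G = ⊥)
    (hss : ∀ F : G → ℂ, Cfsg.IsClassFunction G F →
      ∑ g : G, (if p ∣ orderOf g then F g else 0) =
        ((nrm P).index : ℂ) * ∑ x : ↥(P : Subgroup G), ∑ ζ : ↥(Subgroup.center G),
          (if (x : G) = 1 then 0 else F ((x : G) * (ζ : G))))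
    (hcard : Nat.card G = (nrm P).index * f * p * Nat.card ↥(Subgroup.center G))
    (η : Cfsg.IrrCharacter G) (hη : η ∈ Y) :
    ∑ x : ↥(P : Subgroup G),
        (if (x : G) = 1 then 0 else (η : G → ℂ) (x : G) * conj ((η : G → ℂ) (x : G))) =
      (f : ℂ) * ((f : ℂ) + 1) := by
  have hp : p.Prime := Fact.out
  obtain ⟨η', hη', hne⟩ : ∃ η' ∈ Y, η' ≠ η :=
    Finset.exists_mem_ne (by rw [hB.cardY]; norm_num) η
  have hY : Y = {η, η'} := by
    symm
    apply Finset.eq_of_subset_of_card_le
    · intro ξ hξ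
      rw [Finset.mem_insert, Finset.mem_singleton] at hξ
      rcases hξ with rfl | rfl
      · exact hη
      · exact hη'
    · rw [Finset.card_pair hne.symm, hB.cardY]
  have hεε : (ε : ℂ) * (ε : ℂ) = 1 := by
    rcases hB.eps_pm with h | h <;> rw [h] <;> norm_num
  have hsing : ∀ g : G, p ∣ orderOf g → (η' : G → ℂ) g = -(ε : ℂ) - (η : G → ℂ) g := by
    intro g hg
    have := hB.sumY g hg
    rw [hY, Finset.sum_pair hne.symm] at this
    linear_combination this
  have hreg : ∀ g : G, ¬ p ∣ orderOf g → (η' : G → ℂ) g = (η : G → ℂ) g :=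
    fun g hg => hB.agree η' hη' η hη g hg
  set F : G → ℂ := fun g => (η : G → ℂ) g * conj ((η : G → ℂ) g - (η' : G → ℂ) g) with hFdef
  have hF : Cfsg.IsClassFunction G F := by
    intro g h
    simp only [hFdef, irr_conj_invariant]
  have htot : ∑ g : G, F g = (Nat.card G : ℂ) := by
    have h1 := irr_classInner η η
    have h2 := irr_classInner η η'
    rw [if_pos rfl] at h1
    rw [if_neg hne.symm] at h2
    unfold Cfsg.classInner at h1 h2
    have hG : (Nat.card G : ℂ) ≠ 0 := by
      have : 0 < Nat.card G := Nat.card_pos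
      exact_mod_cast this.ne'
    have e1 : ∑ g : G, (η : G → ℂ) g * conj ((η : G → ℂ) g) = (Nat.card G : ℂ) := by
      field_simp at h1
      linear_combination h1
    have e2 : ∑ g : G, (η : G → ℂ) g * conj ((η' : G → ℂ) g) = 0 := by
      rcases mul_eq_zero.mp h2 with h | h
      · exact absurd (inv_eq_zero.mp h) hG
      · exact h
    calc ∑ g : G, F g = ∑ g : G, ((η : G → ℂ) g * conj ((η : G → ℂ) g) -
          (η : G → ℂ) g * conj ((η' : G → ℂ) g)) := by
          apply Finset.sum_congr rfl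
          intro g _
          simp only [hFdef, map_sub]
          ring
      _ = (Nat.card G : ℂ) := by rw [Finset.sum_sub_distrib, e1, e2, sub_zero]
  have hsplit : ∑ g : G, F g = ∑ g : G, (if p ∣ orderOf g then F g else 0) := by
    apply Finset.sum_congr rfl
    intro g _
    by_cases hg : p ∣ orderOf g
    · rw [if_pos hg]
    · rw [if_neg hg]
      simp only [hFdef, hreg g hg, sub_self, map_zero, mul_zero]
  rw [hsplit, hss F hF] at htot
  have hηXY : η ∈ X ∪ Y := Finset.mem_union_right _ hη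
  have hη'XY : η' ∈ X ∪ Y := Finset.mem_union_right _ hη'
  have hinner : ∀ x : ↥(P : Subgroup G), ∑ ζ : ↥(Subgroup.center G),
      (if (x : G) = 1 then 0 else F ((x : G) * (ζ : G))) =
      (Nat.card ↥(Subgroup.center G) : ℂ) *
        (if (x : G) = 1 then 0 else
          2 * ((η : G → ℂ) (x : G) * conj ((η : G → ℂ) (x : G))) + (ε : ℂ) * (η : G → ℂ) (x : G)) := by
    intro x
    by_cases hx : (x : G) = 1
    · simp only [if_pos hx, Finset.sum_const_zero, mul_zero]
    · simp only [if_neg hx]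
      have hxs := pslysq_sing hL.cardP x hx
      have hval : ∀ ζ : ↥(Subgroup.center G), F ((x : G) * (ζ : G)) =
          2 * ((η : G → ℂ) (x : G) * conj ((η : G → ℂ) (x : G))) + (ε : ℂ) * (η : G → ℂ) (x : G) := by
        intro ζ
        simp only [hFdef]
        have hζ : (ζ : G) = 1 := by
          have h1 : (ζ : G) ∈ Subgroup.center G := ζ.2
          have h2 : (ζ : G) ∈ (⊥ : Subgroup G) := by
            rw [← hZc]
            exact h1
          exact Subgroup.mem_bot.mp h2
        rw [hζ, mul_one, hsing (x : G) hxs]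
        have hce : conj (ε : ℂ) = (ε : ℂ) := map_intCast (starRingEnd ℂ) ε
        simp only [map_sub, map_neg, hce]
        ring
      rw [Finset.sum_congr rfl (fun ζ _ => hval ζ), Finset.sum_const, Finset.card_univ,
        nsmul_eq_mul, Nat.card_eq_fintype_card]
  rw [Finset.sum_congr rfl (fun x _ => hinner x), ← Finset.mul_sum] at htot
  have hsum1 : ∑ x : ↥(P : Subgroup G), (if (x : G) = 1 then 0 else (η : G → ℂ) (x : G)) =
      -(ε : ℂ) * (f : ℂ) := by
    have h := hB.sumP η hη
    have hsp : ∑ x : ↥(P : Subgroup G), (η : G → ℂ) (x : G) =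
        (η : G → ℂ) 1 + ∑ x : ↥(P : Subgroup G), (if (x : G) = 1 then 0 else (η : G → ℂ) (x : G)) := by
      rw [← Finset.add_sum_erase Finset.univ _ (Finset.mem_univ (1 : ↥(P : Subgroup G)))]
      congr 1
      rw [← Finset.add_sum_erase Finset.univ
        (fun x : ↥(P : Subgroup G) => (if (x : G) = 1 then 0 else (η : G → ℂ) (x : G)))
        (Finset.mem_univ (1 : ↥(P : Subgroup G)))]
      simp only [Subgroup.coe_one, if_true, zero_add]
      apply Finset.sum_congr rfl
      intro x hx
      rw [Finset.mem_erase] at hx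
      have : (x : G) ≠ 1 := fun e => hx.1 (Subtype.ext e)
      rw [if_neg this]
    rw [hsp] at h
    linear_combination h
  set S : ℂ := ∑ x : ↥(P : Subgroup G),
    (if (x : G) = 1 then 0 else (η : G → ℂ) (x : G) * conj ((η : G → ℂ) (x : G))) with hS
  have hsumF : ∑ x : ↥(P : Subgroup G), (if (x : G) = 1 then 0 else
      2 * ((η : G → ℂ) (x : G) * conj ((η : G → ℂ) (x : G))) + (ε : ℂ) * (η : G → ℂ) (x : G)) =
      2 * S + (ε : ℂ) * (-(ε : ℂ) * (f : ℂ)) := by
    rw [hS, ← hsum1, Finset.mul_sum, Finset.mul_sum, ← Finset.sum_add_distrib]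
    apply Finset.sum_congr rfl
    intro x _
    by_cases hx : (x : G) = 1
    · simp only [if_pos hx, mul_zero, add_zero]
    · simp only [if_neg hx]
  rw [hsumF, hcard] at htot
  have hidx : ((nrm P).index : ℂ) ≠ 0 := by
    have : (nrm P).index ≠ 0 := Subgroup.index_ne_zero_of_finite
    exact_mod_cast this
  have hZ : (Nat.card ↥(Subgroup.center G) : ℂ) ≠ 0 := by
    have : 0 < Nat.card ↥(Subgroup.center G) := Nat.card_pos
    exact_mod_cast this.ne'
  have hpf : (p : ℂ) = 2 * (f : ℂ) + 1 := by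
    have := hL.two_f
    rw [← this]; push_cast; ring
  push_cast at htot
  have key : (f : ℂ) * (p : ℂ) = 2 * S - (f : ℂ) := by
    have h1 : ((nrm P).index : ℂ) * (Nat.card ↥(Subgroup.center G) : ℂ) *
        ((f : ℂ) * (p : ℂ) - (2 * S - (f : ℂ))) = 0 := by
      linear_combination (-1 : ℂ) * htot - ((nrm P).index : ℂ) *
        (Nat.card ↥(Subgroup.center G) : ℂ) * (f : ℂ) * hεε
    rcases mul_eq_zero.mp h1 with h | h
    · rcases mul_eq_zero.mp h with h | h
      · exact absurd h hidx
      · exact absurd h hZ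
    · linear_combination h
  rw [hpf] at key
  linear_combination (-1 / 2 : ℂ) * key


theorem ysq {p : ℕ} [Fact p.Prime] {f : ℕ} {P : Sylow p G} {X Y : Finset (Cfsg.IrrCharacter G)}
    {a : Cfsg.IrrCharacter G → ℤ} {ε : ℤ} (hL : Loc p f P) (hB : PB0 p f (P : Subgroup G) X Y a ε)
    (hZ : Subgroup.center G = ⊥) (η : Cfsg.IrrCharacter G) (hη : η ∈ Y) :
    ∑ x : ↥(P : Subgroup G),
        (if (x : G) = 1 then 0 else (η : G → ℂ) (x : G) * conj ((η : G → ℂ) (x : G))) =
      (f : ℂ) * ((f : ℂ) + 1) :=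
  o5760ysq_core hL hB hZ (fun F hF => sing_sum_loc hL F hF) (card_G hL) η hη

end Cfsg.Agent.Lib.Helper13.O5760
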