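import Mathlib
import Cfsg.Agent.Lib.Helper1.ODN.Defs

set_option autoImplicit false
set_option linter.unusedVariables false

namespace Cfsg.Agent.Lib.Helper1.ODN

open Polynomial Module Cfsg.Agent.Lib.Helper13.S5955 Cfsg.Agent.Lib.helper15.S5972 Cfsg.Agent.Lib.Helper18.ONE

theorem odnfrozen_self {F : Type*} [Field F] {ι : Type} [Fintype ι]
    (Q : QuadraticForm F (ι → F)) (v : ι → F) : QuadraticMap.polarBilin Q v v = 2 * Q v := by
  rw [QuadraticMap.polarBilin_apply_apply, QuadraticMap.polar_self, two_smul, two_mul]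

theorem odn_frozen {F : Type*} [Field F] (h2 : (2 : F) ≠ 0) {ι : Type} [Fintype ι] [DecidableEq ι]
    (Q : QuadraticForm F (ι → F)) (W W₀ : Submodule F (ι → F)) :
    (Cfsg.Geo.IsNondegenerateOn (QuadraticMap.polar (⇑Q)) W ↔ SND (QuadraticMap.polarBilin Q) W) ∧
      (Cfsg.Geo.AreIsometricFor (⇑Q) W W₀ ↔ SIso (QuadraticMap.polarBilin Q) W W₀) ∧
      (∀ x : Matrix ι ι F, W.map (Matrix.toLin' x) ≤ W ↔ SInv (Matrix.toLin' x) W) := by
  have hpol : ∀ u v, QuadraticMap.polar (⇑Q) u v = QuadraticMap.polarBilin Q u v := fun u v => rfl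
  have hsymm : ∀ u v, QuadraticMap.polarBilin Q u v = QuadraticMap.polarBilin Q v u := by
    intro u v
    rw [← hpol, ← hpol, QuadraticMap.polar_comm]
  refine ⟨⟨?_, ?_⟩, ⟨?_, ?_⟩, ?_⟩
  · intro h u hu hall
    by_contra hne
    obtain ⟨_, ⟨x, hxW, hx⟩⟩ := h u hu hne
    apply hx
    rw [hpol]
    exact hall x hxW
  · intro h w hw hne
    have hex : ∃ x ∈ W, QuadraticMap.polarBilin Q w x ≠ 0 := by
      by_contra hcon
      push Not at hcon
      exact hne (h w hw hcon)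
    obtain ⟨x, hxW, hx⟩ := hex
    refine ⟨⟨x, hxW, ?_⟩, ⟨x, hxW, ?_⟩⟩
    · rw [hpol, hsymm]
      exact hx
    · rw [hpol]
      exact hx
  · rintro ⟨e, he⟩
    refine ⟨e, fun w => ?_⟩
    rw [odnfrozen_self, odnfrozen_self, he]
  · rintro ⟨e, he⟩
    refine ⟨e, fun w => ?_⟩
    have h1 := he w
    rw [odnfrozen_self, odnfrozen_self] at h1
    exact mul_left_cancel₀ h2 h1
  · intro x
    rw [Submodule.map_le_iff_le_comap]
    constructor
    · intro h w hw
      exact h hw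
    · intro h w hw
      exact h w hw

theorem odn_frozen_card {F : Type*} [Field F] (h2 : (2 : F) ≠ 0) {ι : Type} [Fintype ι] [DecidableEq ι]
    (Q : QuadraticForm F (ι → F)) (m : ℕ) (W₀ : Submodule F (ι → F)) :
    Nat.card {W : Submodule F (ι → F) // finrank F ↥W = m ∧
        Cfsg.Geo.IsNondegenerateOn (QuadraticMap.polar (⇑Q)) W ∧ Cfsg.Geo.AreIsometricFor (⇑Q) W W₀} =
      Nat.card (OmC (QuadraticMap.polarBilin Q) m W₀) := by
  apply Nat.card_congr
  apply Equiv.subtypeEquivRight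
  intro W
  obtain ⟨h1, h3, _⟩ := odn_frozen h2 Q W W₀
  rw [h1, h3]

end Cfsg.Agent.Lib.Helper1.ODN
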