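import Mathlib
import Cfsg.Agent.Lib.Helper1.ODN.Defs
import Cfsg.Agent.Lib.Helper24.ODNFROZEN

set_option autoImplicit false
set_option linter.unusedVariables false

namespace Cfsg.Agent.Lib.Helper1.ODN

open Polynomial Module Cfsg.Agent.Lib.Helper13.S5955 Cfsg.Agent.Lib.helper15.S5972 Cfsg.Agent.Lib.Helper18.ONE
  Cfsg.Agent.Lib.Helper16.OSemi

theorem odn_std_ty {F : Type*} [Field F] [Fintype F] (h2 : (2 : F) ≠ 0) {ι : Type} [Fintype ι] [DecidableEq ι]
    (Q : QuadraticForm F (ι → F)) (hQ : (QuadraticMap.polarBilin Q).Nondegenerate) (d : ℕ)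
    (hcard : Fintype.card ι = 2 * d) (ε : ℤ) :
    (IsType (⇑Q) d ε ↔ OTy (QuadraticMap.polarBilin Q) ⊤ ε) ∧
      (∀ u v, QuadraticMap.polarBilin Q u v = QuadraticMap.polarBilin Q v u) ∧
      (∀ u, (∀ v, QuadraticMap.polarBilin Q u v = 0) → u = 0) ∧
      finrank F (ι → F) = 2 * d := by
  have hfr : finrank F (ι → F) = 2 * d := by
    rw [Module.finrank_fintype_fun_eq_card, hcard]
  refine ⟨?_, ?_, ?_, hfr⟩
  · unfold OTy
    have hd : finrank F ↥(⊤ : Submodule F (ι → F)) / 2 = d := by
      rw [finrank_top, hfr]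
      omega
    rw [hd]
    unfold IsType
    have hc : Cfsg.Agent.Lib.Helper16.OSemi.cnt (⇑Q) 0 =
        Cfsg.Agent.Lib.Helper16.OSemi.cnt (fun w : ↥(⊤ : Submodule F (ι → F)) =>
          QuadraticMap.polarBilin Q (w : ι → F) (w : ι → F)) 0 := by
      unfold Cfsg.Agent.Lib.Helper16.OSemi.cnt
      apply Nat.card_congr
      refine
        { toFun := fun v => ⟨⟨v.1, Submodule.mem_top⟩, ?_⟩
          invFun := fun w => ⟨w.1.1, ?_⟩
          left_inv := fun v => rfl
          right_inv := fun w => rfl }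
      · change QuadraticMap.polarBilin Q v.1 v.1 = 0
        rw [odnfrozen_self, v.2, mul_zero]
      · have h1 := w.2
        change QuadraticMap.polarBilin Q w.1.1 w.1.1 = 0 at h1
        rw [odnfrozen_self] at h1
        rcases mul_eq_zero.mp h1 with h | h
        · exact absurd h h2
        · exact h
    rw [hc]
  · intro u v
    exact QuadraticMap.polar_comm _ u v
  · intro u hu
    exact hQ.1 u hu

end Cfsg.Agent.Lib.Helper1.ODN
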