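import Mathlib
import Cfsg.Prelude.Def_GeometricClasses
import Cfsg.Agent.Lib.Helper27.ASC.Defs
import Cfsg.Agent.Lib.helper23.ASCO.Defs
import Cfsg.Agent.Lib.Lead.Reindex
import Cfsg.Agent.Lib.Helper28.OTrans

set_option autoImplicit false
set_option linter.unusedVariables false
set_option linter.unusedSectionVars false

namespace Cfsg.Agent.Lib.helper23.ASCO

open Cfsg Cfsg.Geo Cfsg.Agent.Lib.Helper27.ASC
open scoped MatrixGroups Matrix

variable {n : ℕ} {F : Type*} [Field F] [Fintype F]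

section transport

open Cfsg.Agent.Lib.Lead

variable {ι κ : Type} [Fintype ι] [DecidableEq ι] [Fintype κ] [DecidableEq κ]

theorem ascotrnd_comap_map (e : ι ≃ κ) (W' : Submodule F (κ → F)) :
    (W'.map (LinearEquiv.funCongrLeft F F e : (κ → F) →ₗ[F] (ι → F))).comap
      (LinearMap.funLeft F F e) = W' := by
  ext x
  rw [Submodule.mem_comap]
  constructor
  · rintro ⟨y, hy, hyx⟩
    have : y = x := by
      apply (LinearEquiv.funCongrLeft F F e).injective
      exact hyx
    rw [← this]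
    exact hy
  · intro hx
    exact ⟨x, hx, rfl⟩

theorem ascotrnd_mem_map (e : ι ≃ κ) (W' : Submodule F (κ → F)) (w : ι → F) :
    w ∈ W'.map (LinearEquiv.funCongrLeft F F e : (κ → F) →ₗ[F] (ι → F)) ↔
      ∃ x ∈ W', x ∘ e = w := Iff.rfl

theorem ascotrnd_polar (e : ι ≃ κ) (Q : (ι → F) → F) (x y : κ → F) :
    QuadraticMap.polar (fun x : κ → F => Q (x ∘ e)) x y = QuadraticMap.polar Q (x ∘ e) (y ∘ e) :=
  rfl

theorem ascotrnd_finrank (e : ι ≃ κ) (W' : Submodule F (κ → F)) :
    Module.finrank F (W'.map (LinearEquiv.funCongrLeft F F e : (κ → F) →ₗ[F] (ι → F))) =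
      Module.finrank F W' :=
  LinearEquiv.finrank_map_eq (LinearEquiv.funCongrLeft F F e) W'

theorem ascotrnd_nondeg (e : ι ≃ κ) (Q : (ι → F) → F) (W' : Submodule F (κ → F))
    (h : IsNondegenerateOn (QuadraticMap.polar (fun x : κ → F => Q (x ∘ e))) W') :
    IsNondegenerateOn (QuadraticMap.polar Q)
      (W'.map (LinearEquiv.funCongrLeft F F e : (κ → F) →ₗ[F] (ι → F))) := by
  rintro w ⟨x, hx, rfl⟩ hw0
  have hx0 : x ≠ 0 := by
    rintro rfl
    exact hw0 (map_zero _)
  obtain ⟨⟨y, hy, hy1⟩, ⟨z, hz, hz1⟩⟩ := h x hx hx0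
  exact ⟨⟨_, ⟨y, hy, rfl⟩, hy1⟩, ⟨_, ⟨z, hz, rfl⟩, hz1⟩⟩

theorem ascotrnd_plus (e : ι ≃ κ) (Q : (ι → F) → F) (W' : Submodule F (κ → F))
    (h : IsPlusTypeOn Q (W'.map (LinearEquiv.funCongrLeft F F e : (κ → F) →ₗ[F] (ι → F)))) :
    IsPlusTypeOn (fun x : κ → F => Q (x ∘ e)) W' := by
  obtain ⟨U, hUW, hU0, hdim⟩ := h
  refine ⟨U.comap (LinearEquiv.funCongrLeft F F e : (κ → F) →ₗ[F] (ι → F)), ?_, ?_, ?_⟩
  · intro x hx
    have h1 : x ∘ e ∈ U := hx
    obtain ⟨y, hy, hyx⟩ := hUW h1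
    have : y = x := by
      apply (LinearEquiv.funCongrLeft F F e).injective
      exact hyx
    rw [← this]
    exact hy
  · intro x hx
    exact hU0 _ hx
  · have h1 : Module.finrank F
        (U.comap (LinearEquiv.funCongrLeft F F e : (κ → F) →ₗ[F] (ι → F))) =
        Module.finrank F U := by
      have h2 := LinearEquiv.finrank_map_eq (LinearEquiv.funCongrLeft F F e)
        (U.comap (LinearEquiv.funCongrLeft F F e : (κ → F) →ₗ[F] (ι → F)))
      rw [Submodule.map_comap_eq_of_surjective (LinearEquiv.funCongrLeft F F e).surjective] at h2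
      exact h2.symm
    rw [h1, hdim, ascotrnd_finrank]

theorem ascotrnd_group (e : ι ≃ κ) (Q : (ι → F) → F) (H S : Subgroup (GL ι F))
    (S' : Subgroup (GL κ F)) (hS : S.map (RI.glReindex (F := F) e).toMonoidHom = S')
    (h : H.map (RI.glReindex (F := F) e).toMonoidHom =
      S' ⊓ omegaGL (fun x : κ → F => Q (x ∘ e))) :
    H = S ⊓ omegaGL Q := by
  have hinj : Function.Injective (RI.glReindex (F := F) e).toMonoidHom :=
    (RI.glReindex (F := F) e).injective
  apply Subgroup.map_injective hinj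
  rw [h, Subgroup.map_inf _ _ _ hinj, hS, Cfsg.Agent.Lib.Helper28.OTrans.map_omegaGL]

theorem classND_transport (e : ι ≃ κ) (Q : (ι → F) → F) (H : Subgroup (GL ι F))
    (h : ClassND (fun x : κ → F => Q (x ∘ e)) (H.map (RI.glReindex (F := F) e).toMonoidHom)) :
    ClassND Q H := by
  obtain ⟨W', hW0, hev, hnd, hnot, hH⟩ := h
  refine ⟨W'.map (LinearEquiv.funCongrLeft F F e : (κ → F) →ₗ[F] (ι → F)), ?_, ?_, ?_, ?_, ?_⟩
  · intro hbot
    apply hW0
    rw [← ascotrnd_comap_map e W', hbot]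
    ext x
    rw [Submodule.mem_comap, Submodule.mem_bot, Submodule.mem_bot]
    constructor
    · intro hx
      apply (LinearEquiv.funCongrLeft F F e).injective
      rw [map_zero]
      exact hx
    · rintro rfl
      exact map_zero _
  · rw [ascotrnd_finrank]
    exact hev
  · exact ascotrnd_nondeg e Q W' hnd
  · rintro ⟨h3, h2, hp⟩
    rw [ascotrnd_finrank] at h2
    exact hnot ⟨h3, h2, ascotrnd_plus e Q W' hp⟩
  · apply ascotrnd_group e Q H _ _ _ hH
    rw [Cfsg.Agent.Lib.Helper28.OTrans.map_stab, ascotrnd_comap_map]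

end transport

end Cfsg.Agent.Lib.helper23.ASCO
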