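import Mathlib
import Cfsg.Prelude.Def_GeometricClasses
import Cfsg.Agent.Lib.Helper27.ASC.Defs
import Cfsg.Agent.Lib.helper23.ASCO.Defs
import Cfsg.Agent.Lib.Helper19.ASG.Defs
import Cfsg.Agent.Lib.Helper1.ASGCLIF3
import Cfsg.Agent.Lib.Lead.Reindex
import Cfsg.Agent.Lib.Helper25.ASO.Defs
import Cfsg.Agent.Lib.Helper21.ASPTRCTcore

set_option autoImplicit false
set_option linter.unusedVariables false
set_option linter.unusedSectionVars false

namespace Cfsg.Agent.Lib.Helper25.ASO

open Cfsg Cfsg.Geo Cfsg.Agent.Lib.Helper27.ASC Cfsg.Agent.Lib.helper23.ASCO Cfsg.Agent.Lib.Helper19.ASG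
open scoped MatrixGroups Matrix Kronecker

variable {n : ℕ} {F : Type*} [Field F] [Fintype F]

section transport

open Cfsg.Agent.Lib.Lead

variable {ι κ : Type} [Fintype ι] [DecidableEq ι] [Fintype κ] [DecidableEq κ]

theorem asotr7_trans {α : Type} (e : ι ≃ κ) (e' : κ ≃ α) : e.symm.trans (e.trans e') = e' := by
  ext i
  simp

theorem asotr7_key {α : Type} (e : ι ≃ κ) (e' : κ ≃ α) (P' : GL κ F) (z : α → F) :
    ((P' : Matrix κ κ F) *ᵥ (z ∘ e')) ∘ e =
      (((RI.glReindex (F := F) e).symm P' : GL ι F) : Matrix ι ι F) *ᵥ (z ∘ (e.trans e')) := by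
  have h := Cfsg.Agent.Lib.Helper18.ASP.asptrct_key (F := F) e (e.trans e')
    ((RI.glReindex (F := F) e).symm P') z
  rw [asotr7_trans, MulEquiv.apply_symm_apply] at h
  exact h

theorem owreath_transport (e : ι ≃ κ) (Q : (ι → F) → F) (M' : Subgroup (GL κ F))
    (h : OWreath (fun x : κ → F => Q (x ∘ e)) M') :
    OWreath Q (M'.comap (RI.glReindex (F := F) e).toMonoidHom) := by
  obtain ⟨k, t, e', P', f₁, hk, ht, h33, hf₁, hT, hM'⟩ := h
  refine ⟨k, t, e.trans e', (RI.glReindex (F := F) e).symm P', f₁, hk, ht, h33, hf₁, ?_, ?_⟩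
  · obtain ⟨c, hc, hcf⟩ := hT
    refine ⟨c, hc, fun x y => ?_⟩
    rw [← asotr7_key, ← asotr7_key]
    exact hcf x y
  · have hinj : Function.Injective (RI.glReindex (F := F) e).toMonoidHom :=
      (RI.glReindex (F := F) e).injective
    have hsurj : Function.Surjective (RI.glReindex (F := F) e).toMonoidHom :=
      (RI.glReindex (F := F) e).surjective
    apply Subgroup.map_injective hinj
    rw [Subgroup.map_comap_eq_self_of_surjective hsurj, hM', Subgroup.map_inf _ _ _ hinj,
      Cfsg.Agent.Lib.Helper18.ASP.asptrct_map_wreath, RI.map_iso, asotr7_trans,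
      MulEquiv.apply_symm_apply]

end transport

end Cfsg.Agent.Lib.Helper25.ASO
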