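import Mathlib
import Cfsg.Agent.Lib.Helper24.ElA

set_option autoImplicit false

namespace Cfsg.Agent.Lib.Helper24

open Module

def elQ (q a k : ℕ) : ℕ := ∏ i ∈ Finset.range k, (q ^ (a - i) - 1)

theorem elQ_pos (q a k : ℕ) (hq : 2 ≤ q) (hk : k ≤ a) : 0 < elQ q a k := by
  unfold elQ
  apply Finset.prod_pos
  intro i hi
  have hi' : i < k := Finset.mem_range.mp hi
  have h1 : q ^ 1 ≤ q ^ (a - i) := Nat.pow_le_pow_right (by omega) (by omega)
  rw [pow_one] at h1
  omega

theorem elQ_split (q n k : ℕ) (hk : k ≤ n) :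
    elQ q n k * elQ q (n - k) (n - k) = elQ q n n := by
  unfold elQ
  have h := Finset.prod_range_add (fun i => q ^ (n - i) - 1) k (n - k)
  rw [Nat.add_sub_cancel' hk] at h
  rw [h]
  congr 1
  apply Finset.prod_congr rfl
  intro i _
  rw [Nat.sub_sub]

section
variable {F : Type*} [Field F] [Fintype F] {V : Type*} [AddCommGroup V] [Module F V] [Finite V]

theorem el_count_red (m : ℕ) (hm : m ≤ finrank F V) :
    Nat.card {W : Submodule F V // finrank F W = m} * elQ (Fintype.card F) m m =
      elQ (Fintype.card F) (finrank F V) m := by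
  have hq : 0 < Fintype.card F := Fintype.card_pos
  have h := el_count (F := F) (V := V) m hm
  have e1 : ∏ i : Fin m, (Fintype.card F ^ m - Fintype.card F ^ (i : ℕ)) =
      (∏ i : Fin m, Fintype.card F ^ (i : ℕ)) *
        ∏ i : Fin m, (Fintype.card F ^ (m - (i : ℕ)) - 1) := by
    rw [← Finset.prod_mul_distrib]
    apply Finset.prod_congr rfl
    intro i _
    exact el_pow_sub _ _ _ (le_of_lt i.isLt)
  have e2 : ∏ i : Fin m, (Fintype.card F ^ finrank F V - Fintype.card F ^ (i : ℕ)) =
      (∏ i : Fin m, Fintype.card F ^ (i : ℕ)) *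
        ∏ i : Fin m, (Fintype.card F ^ (finrank F V - (i : ℕ)) - 1) := by
    rw [← Finset.prod_mul_distrib]
    apply Finset.prod_congr rfl
    intro i _
    exact el_pow_sub _ _ _ (le_trans (le_of_lt i.isLt) hm)
  rw [e1, e2] at h
  have hE : 0 < ∏ i : Fin m, Fintype.card F ^ (i : ℕ) :=
    Finset.prod_pos (fun i _ => pow_pos hq _)
  have h2 : (∏ i : Fin m, Fintype.card F ^ (i : ℕ)) *
      (Nat.card {W : Submodule F V // finrank F W = m} *
        ∏ i : Fin m, (Fintype.card F ^ (m - (i : ℕ)) - 1)) =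
      (∏ i : Fin m, Fintype.card F ^ (i : ℕ)) *
        ∏ i : Fin m, (Fintype.card F ^ (finrank F V - (i : ℕ)) - 1) := by
    rw [← h]
    ring
  have h3 := Nat.eq_of_mul_eq_mul_left hE h2
  unfold elQ
  rw [← Fin.prod_univ_eq_prod_range (fun i => Fintype.card F ^ (m - i) - 1) m,
    ← Fin.prod_univ_eq_prod_range (fun i => Fintype.card F ^ (finrank F V - i) - 1) m]
  exact h3

theorem el_count_symm (k : ℕ) (hk : k ≤ finrank F V) :
    Nat.card {W : Submodule F V // finrank F W = k} =
      Nat.card {W : Submodule F V // finrank F W = finrank F V - k} := by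
  have hq : 2 ≤ Fintype.card F := Fintype.one_lt_card
  have h1 := el_count_red (F := F) (V := V) k hk
  have h2 := el_count_red (F := F) (V := V) (finrank F V - k) (Nat.sub_le _ _)
  have h3 := elQ_split (Fintype.card F) (finrank F V) k hk
  have h4 := elQ_split (Fintype.card F) (finrank F V) (finrank F V - k) (Nat.sub_le _ _)
  rw [Nat.sub_sub_self hk] at h4
  have hpos : 0 < elQ (Fintype.card F) k k * elQ (Fintype.card F) (finrank F V - k)
      (finrank F V - k) :=
    Nat.mul_pos (elQ_pos _ _ _ hq le_rfl) (elQ_pos _ _ _ hq le_rfl)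
  apply Nat.eq_of_mul_eq_mul_right hpos
  rw [← mul_assoc, h1, h3, mul_comm (elQ (Fintype.card F) k k), ← mul_assoc, h2, h4]

end

theorem el_count_eq_of_finrank {F : Type*} [Field F] [Fintype F] {V V' : Type*}
    [AddCommGroup V] [Module F V] [Finite V] [AddCommGroup V'] [Module F V'] [Finite V']
    (h : finrank F V = finrank F V') (m : ℕ) (hm : m ≤ finrank F V) :
    Nat.card {W : Submodule F V // finrank F W = m} =
      Nat.card {W : Submodule F V' // finrank F W = m} := by
  have hq : 2 ≤ Fintype.card F := Fintype.one_lt_card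
  have h1 := el_count_red (F := F) (V := V) m hm
  have h2 := el_count_red (F := F) (V := V') m (h ▸ hm)
  rw [h, ← h2] at h1
  exact Nat.eq_of_mul_eq_mul_right (elQ_pos _ _ _ hq le_rfl) h1

section
variable {F : Type*} [Field F] {V : Type*} [AddCommGroup V] [Module F V]

def elFlagEquiv (m k : ℕ) :
    {P : Submodule F V × Submodule F V // P.1 ≤ P.2 ∧ finrank F P.1 = m ∧ finrank F P.2 = k} ≃
      Σ W : {W : Submodule F V // finrank F W = k}, {U : Submodule F W.1 // finrank F U = m} where
  toFun P := ⟨⟨P.1.2, P.2.2.2⟩, ⟨P.1.1.comap P.1.2.subtype, by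
    rw [(Submodule.comapSubtypeEquivOfLe P.2.1).finrank_eq]
    exact P.2.2.1⟩⟩
  invFun S := ⟨(S.2.1.map S.1.1.subtype, S.1.1), Submodule.map_subtype_le _ _, by
    rw [← (Submodule.equivSubtypeMap S.1.1 S.2.1).finrank_eq]
    exact S.2.2, S.1.2⟩
  left_inv P := by
    apply Subtype.ext
    apply Prod.ext
    · show (P.1.1.comap P.1.2.subtype).map P.1.2.subtype = P.1.1
      rw [Submodule.map_comap_subtype]
      exact inf_eq_right.mpr P.2.1
    · rfl
  right_inv S := by
    obtain ⟨⟨W, hW⟩, ⟨U, hU⟩⟩ := S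
    apply congrArg (Sigma.mk (⟨W, hW⟩ : {W : Submodule F V // finrank F W = k}))
    apply Subtype.ext
    exact Submodule.comap_map_eq_of_injective (Submodule.injective_subtype W) U

end

theorem el_flag_card {F : Type*} [Field F] [Fintype F] {V : Type*} [AddCommGroup V] [Module F V]
    [Finite V] (m k : ℕ) (hmk : m ≤ k) :
    Nat.card {P : Submodule F V × Submodule F V //
        P.1 ≤ P.2 ∧ finrank F P.1 = m ∧ finrank F P.2 = k} =
      Nat.card {W : Submodule F V // finrank F W = k} *
        Nat.card {U : Submodule F (Fin k → F) // finrank F U = m} := by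
  classical
  have hfinS : Finite (Submodule F V) :=
    Finite.of_injective (fun W : Submodule F V => (W : Set V)) SetLike.coe_injective
  have : Fintype {W : Submodule F V // finrank F W = k} := Fintype.ofFinite _
  rw [Nat.card_congr (elFlagEquiv m k), Nat.card_sigma]
  have hfib : ∀ W : {W : Submodule F V // finrank F W = k},
      Nat.card {U : Submodule F W.1 // finrank F U = m} =
        Nat.card {U : Submodule F (Fin k → F) // finrank F U = m} := by
    intro W
    apply el_count_eq_of_finrank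
    · rw [W.2, Module.finrank_fin_fun]
    · rw [W.2]
      exact hmk
  rw [Finset.sum_congr rfl (fun W _ => hfib W), Finset.sum_const, Finset.card_univ,
    smul_eq_mul, ← Nat.card_eq_fintype_card]

theorem el_flag_dvd {F : Type*} [Field F] [Fintype F] (n m : ℕ) (hmn : 2 * m ≤ n) (r : ℕ)
    (hr : r.Prime)
    (hdvd : r ∣ Nat.card {P : Submodule F (Fin n → F) × Submodule F (Fin n → F) //
        P.1 ≤ P.2 ∧ finrank F P.1 = m ∧ finrank F P.2 = n - m}) :
    ∃ j : ℕ, j < m ∧ (r ∣ Fintype.card F ^ (n - j) - 1 ∨ r ∣ Fintype.card F ^ (n - m - j) - 1) := by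
  have hfr : finrank F (Fin n → F) = n := Module.finrank_fin_fun F
  rw [el_flag_card m (n - m) (by omega)] at hdvd
  rcases (Nat.Prime.dvd_mul hr).mp hdvd with h | h
  · have hs := el_count_symm (F := F) (V := Fin n → F) m (by rw [hfr]; omega)
    rw [hfr] at hs
    rw [← hs] at h
    obtain ⟨j, hj, hd⟩ := el_count_dvd (F := F) (V := Fin n → F) m (by rw [hfr]; omega) r hr h
    rw [hfr] at hd
    exact ⟨j, hj, Or.inl hd⟩
  · have hfr' : finrank F (Fin (n - m) → F) = n - m := Module.finrank_fin_fun F
    obtain ⟨j, hj, hd⟩ := el_count_dvd (F := F) (V := Fin (n - m) → F) m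
      (by rw [hfr']; omega) r hr h
    rw [hfr'] at hd
    exact ⟨j, hj, Or.inr hd⟩

end Cfsg.Agent.Lib.Helper24
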