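import Mathlib
import Cfsg.Agent.Lib.Helper24.ElH
import Cfsg.Agent.Lib.Helper24.ElI

set_option autoImplicit false

namespace Cfsg.Agent.Lib.Helper24

open Polynomial Module

section
variable {F : Type*} [Field F] {V : Type*} [AddCommGroup V] [Module F V] [FiniteDimensional F V]

theorem el_exists_dim_ext (g : Module.End F V) (U : Submodule F V)
    (hU : ElInv g U) (Q : F[X]) (hQ0 : Q ≠ 0) (hQ : ∀ u ∈ U, aeval g Q u = 0) (d : ℕ)
    (hd : ∀ P : F[X], Irreducible P → P ∣ Q → P.natDegree = d)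
    (Y : Submodule F V) (hYU : Y ≤ U) (hY : ElInv g Y) :
    ∀ k : ℕ, finrank F Y + k * d ≤ finrank F U →
      ∃ Y' : Submodule F V, Y ≤ Y' ∧ Y' ≤ U ∧ ElInv g Y' ∧ finrank F Y' = finrank F Y + k * d := by
  intro k
  induction k with
  | zero =>
    intro _
    exact ⟨Y, le_rfl, hYU, hY, by rw [zero_mul, add_zero]⟩
  | succ k ih =>
    intro hk
    rcases Nat.eq_zero_or_pos d with h0 | hpos
    · exact ⟨Y, le_rfl, hYU, hY, by rw [h0, mul_zero, add_zero]⟩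
    · have hk' : finrank F Y + k * d ≤ finrank F U := by
        have : k * d ≤ (k + 1) * d := Nat.mul_le_mul_right d (Nat.le_succ k)
        omega
      obtain ⟨Y₁, hYY₁, hY₁U, hY₁, hY₁d⟩ := ih hk'
      have hne : Y₁ ≠ U := by
        intro h
        rw [h] at hY₁d
        rw [hY₁d, Nat.succ_mul] at hk
        omega
      obtain ⟨Y', hY₁Y', hY'U, hY', hY'd⟩ := el_chain g Y₁ U hY₁U hY₁ hU Q hQ0
        (fun u hu => by rw [hQ u hu]; exact Y₁.zero_mem) d hd hne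
      exact ⟨Y', le_trans hYY₁ hY₁Y', hY'U, hY', by rw [hY'd, hY₁d, Nat.succ_mul, add_assoc]⟩

theorem el_fix_chain (f : Module.End F V) (a₁ a₂ : ℕ) (h12 : a₁ ≤ a₂)
    (h2 : a₂ ≤ finrank F (LinearMap.ker (aeval f (X - 1 : F[X])))) :
    ∃ C₁ C₂ : Submodule F V, C₁ ≤ C₂ ∧ C₂ ≤ LinearMap.ker (aeval f (X - 1 : F[X])) ∧
      finrank F C₁ = a₁ ∧ finrank F C₂ = a₂ := by
  have hdeg : ∀ P : F[X], Irreducible P → P ∣ (X - 1 : F[X]) → P.natDegree = 1 := by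
    intro P hP hPd
    have h1 : P.natDegree ≤ 1 := by
      have := natDegree_le_of_dvd hPd (el_X_sub_one_ne (F := F))
      rwa [el_X_sub_one_deg] at this
    have h2 : 0 < P.natDegree := Irreducible.natDegree_pos hP
    omega
  have hkill : ∀ u ∈ LinearMap.ker (aeval f (X - 1 : F[X])),
      aeval (1 : Module.End F V) (X - 1 : F[X]) u = 0 := by
    intro u _
    rw [map_sub, aeval_X, map_one, sub_self, LinearMap.zero_apply]
  obtain ⟨C₁, hC₁le, hC₁, hC₁d⟩ := el_exists_dim (1 : Module.End F V)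
    (LinearMap.ker (aeval f (X - 1 : F[X]))) (fun w hw => hw) (X - 1 : F[X])
    el_X_sub_one_ne hkill 1 hdeg a₁ (by rw [mul_one]; omega)
  obtain ⟨C₂, hC₁₂, hC₂le, _, hC₂d⟩ := el_exists_dim_ext (1 : Module.End F V)
    (LinearMap.ker (aeval f (X - 1 : F[X]))) (fun w hw => hw) (X - 1 : F[X])
    el_X_sub_one_ne hkill 1 hdeg C₁ hC₁le hC₁ (a₂ - a₁) (by rw [hC₁d, mul_one, mul_one]; omega)
  refine ⟨C₁, C₂, hC₁₂, hC₂le, by rw [hC₁d, mul_one], ?_⟩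
  rw [hC₂d, hC₁d, mul_one, mul_one]
  omega

theorem el_split_flag (f : Module.End F V) (Φ : F[X]) (hΦ0 : Φ ≠ 0)
    (hcop : IsCoprime (X - 1 : F[X]) Φ) (d : ℕ)
    (hd : ∀ P : F[X], Irreducible P → P ∣ Φ → P.natDegree = d) (a₁ a₂ k₁ k₂ : ℕ)
    (ha : a₁ ≤ a₂) (ha₂ : a₂ ≤ finrank F (LinearMap.ker (aeval f (X - 1 : F[X]))))
    (hk : k₁ ≤ k₂) (hk₂ : k₂ * d ≤ finrank F (LinearMap.ker (aeval f Φ))) :
    ∃ U W : Submodule F V, U ≤ W ∧ ElInv f U ∧ ElInv f W ∧ finrank F U = a₁ + k₁ * d ∧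
      finrank F W = a₂ + k₂ * d := by
  obtain ⟨C₁, C₂, hC₁₂, hC₂le, hC₁d, hC₂d⟩ := el_fix_chain f a₁ a₂ ha ha₂
  have hk₁ : k₁ * d ≤ finrank F (LinearMap.ker (aeval f Φ)) :=
    le_trans (Nat.mul_le_mul_right d hk) hk₂
  obtain ⟨Y₁, hY₁le, hY₁, hY₁d⟩ := el_exists_dim f (LinearMap.ker (aeval f Φ)) (el_inv_ker f Φ) Φ hΦ0
    (fun u hu => LinearMap.mem_ker.mp hu) d hd k₁ hk₁
  obtain ⟨Y₂, hY₁₂, hY₂le, hY₂, hY₂d⟩ := el_exists_dim_ext f (LinearMap.ker (aeval f Φ))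
    (el_inv_ker f Φ) Φ hΦ0 (fun u hu => LinearMap.mem_ker.mp hu) d hd Y₁ hY₁le hY₁ (k₂ - k₁) (by
      rw [hY₁d, ← Nat.add_mul, Nat.add_sub_cancel' hk]
      exact hk₂)
  have hY₂d' : finrank F Y₂ = k₂ * d := by
    rw [hY₂d, hY₁d, ← Nat.add_mul, Nat.add_sub_cancel' hk]
  have hdisj := (disjoint_ker_aeval_of_isCoprime f hcop).eq_bot
  have hsum : ∀ (C' Y : Submodule F V), C' ≤ LinearMap.ker (aeval f (X - 1 : F[X])) →
      Y ≤ LinearMap.ker (aeval f Φ) → finrank F ↥(C' ⊔ Y) = finrank F C' + finrank F Y := by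
    intro C' Y hC' hY
    have h := Submodule.finrank_sup_add_finrank_inf_eq C' Y
    have hinf : C' ⊓ Y = ⊥ := by
      rw [eq_bot_iff, ← hdisj]
      exact inf_le_inf hC' hY
    rw [hinf, finrank_bot, add_zero] at h
    exact h
  refine ⟨C₁ ⊔ Y₁, C₂ ⊔ Y₂, sup_le_sup hC₁₂ hY₁₂,
    el_inv_sup (el_inv_of_le_fix f C₁ (le_trans hC₁₂ hC₂le)) hY₁,
    el_inv_sup (el_inv_of_le_fix f C₂ hC₂le) hY₂, ?_, ?_⟩
  · rw [hsum C₁ Y₁ (le_trans hC₁₂ hC₂le) hY₁le, hC₁d, hY₁d]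
  · rw [hsum C₂ Y₂ hC₂le hY₂le, hC₂d, hY₂d']

end

end Cfsg.Agent.Lib.Helper24
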