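import Mathlib
import Cfsg.Agent.Lib.Helper24.ElJ

set_option autoImplicit false

namespace Cfsg.Agent.Lib.Helper24

open Polynomial Module

theorem el_transport2 {F V : Type*} [Field F] [AddCommGroup V] [Module F V]
    [FiniteDimensional F V] (n : ℕ) (hn : finrank F V = n) (g : Module.End F V) :
    ∃ (x : Matrix (Fin n) (Fin n) F) (e : (Fin n → F) ≃ₗ[F] V), x.det = LinearMap.det g ∧
      (∀ (r : ℕ) (c : F), g ^ r = c • 1 → x ^ r = c • 1) ∧
      (∀ c : F, x = c • 1 → g = c • 1) ∧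
      (∀ W : Submodule F (Fin n → F), W.map (Matrix.toLin' x) ≤ W →
        ElInv g (W.map (e : (Fin n → F) →ₗ[F] V))) := by
  have hfr : finrank F V = finrank F (Fin n → F) := by rw [hn, Module.finrank_fin_fun]
  let e : V ≃ₗ[F] (Fin n → F) := LinearEquiv.ofFinrankEq V (Fin n → F) hfr
  let φ : Module.End F V ≃ₐ[F] Matrix (Fin n) (Fin n) F :=
    (LinearEquiv.conjAlgEquiv F e).trans LinearMap.toMatrixAlgEquiv'
  have hφ : ∀ h : Module.End F V, Matrix.toLin' (φ h) = (e : V →ₗ[F] (Fin n → F)) ∘ₗ h ∘ₗ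
      (e.symm : (Fin n → F) →ₗ[F] V) := by
    intro h
    show Matrix.toLin' (LinearMap.toMatrix' (e.conj h)) = _
    rw [Matrix.toLin'_toMatrix']
    rfl
  refine ⟨φ g, e.symm, ?_, ?_, ?_, ?_⟩
  · rw [← LinearMap.det_toLin', hφ, LinearMap.det_conj]
  · intro r c h
    rw [← map_pow, h, map_smul, map_one]
  · intro c h
    apply φ.injective
    rw [h, map_smul, map_one]
  · intro W hW
    rintro _ ⟨w, hw, rfl⟩
    refine ⟨Matrix.toLin' (φ g) w, hW ⟨w, hw, rfl⟩, ?_⟩
    rw [hφ]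
    simp

theorem el_build2 {F : Type*} [Field F] (P : F[X]) (hP : Irreducible P) (hm : P.Monic)
    (h1 : P.eval 1 ≠ 0) (b a₀ n : ℕ) (hn : n = b * P.natDegree + a₀) :
    ∃ x : Matrix (Fin n) (Fin n) F,
      x.det = ((-1) ^ P.natDegree * P.coeff 0) ^ b ∧
      (∀ (r : ℕ) (c : F), P ∣ X ^ r - C c → (a₀ ≠ 0 → c = 1) → x ^ r = c • 1) ∧
      (1 ≤ b → 2 ≤ P.natDegree → ∀ c : F, x ≠ c • 1) ∧
      ∃ φ : Submodule F (Fin n → F) → ℕ, (∀ U W, U ≤ W → φ U ≤ φ W) ∧ (∀ W, φ W ≤ a₀) ∧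
        (∀ W : Submodule F (Fin n → F), W.map (Matrix.toLin' x) ≤ W →
          ∃ k : ℕ, finrank F W = φ W + k * P.natDegree) := by
  have : Fact (Irreducible P) := ⟨hP⟩
  obtain ⟨hfd, hfr⟩ := el_finrank_V P b a₀
  obtain ⟨x, e, hdet, hpow, hsc, hinv⟩ := el_transport2 n (hfr.trans hn.symm) (elG P b a₀)
  have hX1 : Irreducible (X - 1 : F[X]) := by
    have := irreducible_X_sub_C (1 : F)
    rwa [C_1] at this
  have hcop : IsCoprime (X - 1 : F[X]) P := by
    apply (Irreducible.coprime_iff_not_dvd hX1).mpr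
    intro hdvd
    have h2 : (X - C (1 : F)) ∣ P := by rwa [C_1]
    rw [dvd_iff_isRoot] at h2
    exact h1 h2
  refine ⟨x, ?_, ?_, ?_, ?_⟩
  · rw [hdet, el_det_G P b a₀ hm]
  · intro r c hdvd hc
    apply hpow
    have h2 := el_aeval_G_of_dvd P b a₀ (X ^ r - C c) hdvd (by
      intro ha
      rw [hc ha]
      simp)
    rw [map_sub, map_pow, aeval_X, aeval_C, Algebra.algebraMap_eq_smul_one] at h2
    exact sub_eq_zero.mp h2
  · intro hb hd c hx
    exact el_G_not_scalar P b a₀ hb hd c (hsc c hx)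
  · refine ⟨fun W => finrank F ↥(W.map (e : (Fin n → F) →ₗ[F] _) ⊓
      LinearMap.ker (aeval (elG P b a₀) (X - 1 : F[X]))), ?_, ?_, ?_⟩
    · intro U W hUW
      exact Submodule.finrank_mono (inf_le_inf_right _ (Submodule.map_mono hUW))
    · intro W
      exact le_trans (Submodule.finrank_mono inf_le_right) (el_ker_G P b a₀ h1)
    · intro W hW
      have hW' := hinv W hW
      have hkill : aeval (elG P b a₀) ((X - 1) * P) = 0 := by
        apply el_aeval_G_of_dvd P b a₀ _ (Dvd.intro_left _ rfl)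
        intro _
        simp
      have hdeg : ∀ P' : F[X], Irreducible P' → P' ∣ P → P'.natDegree = P.natDegree := by
        intro P' hP' hdvd
        exact natDegree_eq_of_degree_eq (degree_eq_degree_of_associated
          (hP'.associated_of_dvd hP hdvd))
      have hsplit := el_split_W (elG P b a₀) P hcop hkill _ hW'
      have hdvd : P.natDegree ∣ finrank F ↥(W.map (e : (Fin n → F) →ₗ[F] _) ⊓
          LinearMap.ker (aeval (elG P b a₀) P)) := by
        apply el_dvd_dim (elG P b a₀) _ (el_inv_inf hW' (el_inv_ker _ P)) P hP.ne_zero _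
          P.natDegree hP.natDegree_pos hdeg
        intro u hu
        exact LinearMap.mem_ker.mp (Submodule.mem_inf.mp hu).2
      obtain ⟨k, hk⟩ := hdvd
      refine ⟨k, ?_⟩
      rw [← LinearEquiv.finrank_map_eq e W, hsplit, hk, mul_comm]

end Cfsg.Agent.Lib.Helper24
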