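import Mathlib
import Cfsg.Agent.Lib.Helper24.ElK

set_option autoImplicit false

namespace Cfsg.Agent.Lib.Helper24

open Polynomial Module

theorem el_arith_flag_suff (i n m cdim : ℕ) (hi : 1 ≤ i) (hc : cdim ≤ n) (hdvd : i ∣ n - cdim)
    (hmn : 2 * m ≤ n) (hcond : i = 1 ∨ 2 * (m % i) ≤ n % i) :
    ∃ a₁ a₂ k₁ k₂ : ℕ, a₁ ≤ a₂ ∧ a₂ ≤ cdim ∧ k₁ ≤ k₂ ∧ k₂ * i + cdim ≤ n ∧
      m = a₁ + k₁ * i ∧ n - m = a₂ + k₂ * i := by
  obtain ⟨t, ht⟩ := hdvd
  have hT : t * i = i * t := mul_comm _ _
  have hm1 : m / i * i ≤ m := Nat.div_mul_le_self m i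
  have hm2 : m = m % i + m / i * i := by
    have := Nat.mod_add_div m i
    rw [mul_comm] at this
    exact this.symm
  have hk1 : (n - m) / i * i ≤ n - m := Nat.div_mul_le_self _ i
  have hk2 : n - m = (n - m) % i + (n - m) / i * i := by
    have := Nat.mod_add_div (n - m) i
    rw [mul_comm] at this
    exact this.symm
  have hMK : m / i ≤ (n - m) / i := Nat.div_le_div_right (by omega)
  by_cases hα : (n - m) / i ≤ t
  · have h1 : (n - m) / i * i ≤ t * i := Nat.mul_le_mul_right i hα
    have h2 : m / i * i ≤ (n - m) / i * i := Nat.mul_le_mul_right i hMK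
    refine ⟨m % i, (n - m) % i, m / i, (n - m) / i, ?_, ?_, hMK, by omega, hm2, hk2⟩
    · rcases hcond with h | h
      · subst h
        rw [Nat.mod_one]
        exact Nat.zero_le _
      · have hn2 : n = n % i + n / i * i := by
          have := Nat.mod_add_div n i
          rw [mul_comm] at this
          exact this.symm
        have hlt : n % i < i := Nat.mod_lt _ hi
        have hdiv : m / i ≤ n / i := Nat.div_le_div_right (by omega)
        have hsub : n / i * i - m / i * i = (n / i - m / i) * i := (Nat.sub_mul _ _ _).symm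
        have hle : m / i * i ≤ n / i * i := Nat.mul_le_mul_right i hdiv
        have e1 : n - m = (n % i - m % i) + i * (n / i - m / i) := by
          rw [mul_comm i, ← hsub]
          omega
        have e2 : (n - m) % i = n % i - m % i := by
          rw [e1, Nat.add_mul_mod_self_left]
          exact Nat.mod_eq_of_lt (by omega)
        omega
    · rcases hcond with h | h
      · subst h
        rw [Nat.mod_one]
        exact Nat.zero_le _
      · have hn2 : n = n % i + n / i * i := by
          have := Nat.mod_add_div n i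
          rw [mul_comm] at this
          exact this.symm
        have hlt : n % i < i := Nat.mod_lt _ hi
        have hdiv : m / i ≤ n / i := Nat.div_le_div_right (by omega)
        have hsub : n / i * i - m / i * i = (n / i - m / i) * i := (Nat.sub_mul _ _ _).symm
        have hle : m / i * i ≤ n / i * i := Nat.mul_le_mul_right i hdiv
        have e1 : n - m = (n % i - m % i) + i * (n / i - m / i) := by
          rw [mul_comm i, ← hsub]
          omega
        have e2 : (n - m) % i = n % i - m % i := by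
          rw [e1, Nat.add_mul_mod_self_left]
          exact Nat.mod_eq_of_lt (by omega)
        have hnc : n % i = cdim % i := by
          have : n = cdim + i * t := by omega
          rw [this, Nat.add_mul_mod_self_left]
        have := Nat.mod_le cdim i
        omega
  · push Not at hα
    have h1 : (t + 1) * i ≤ (n - m) / i * i := Nat.mul_le_mul_right i hα
    have h4 : (t + 1) * i = t * i + i := by ring
    have hmlt : m % i < i := Nat.mod_lt _ hi
    by_cases hβ : m / i ≤ t
    · have h2 : m / i * i ≤ t * i := Nat.mul_le_mul_right i hβ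
      refine ⟨m % i, n - m - t * i, m / i, t, by omega, by omega, hβ, by omega, hm2, by omega⟩
    · push Not at hβ
      have h2 : (t + 1) * i ≤ m / i * i := Nat.mul_le_mul_right i hβ
      refine ⟨m - t * i, n - m - t * i, t, t, by omega, by omega, le_rfl, by omega, by omega,
        by omega⟩

theorem el_arith_flag_nec (i n m j a₁ a₂ k₁ k₂ : ℕ) (hi : 1 ≤ i) (hj : j < m) (hmn : 2 * m ≤ n)
    (hdvd : i ∣ n - j ∨ i ∣ n - m - j) (ha : a₁ ≤ a₂) (ha₂ : a₂ ≤ n % i)
    (hm : m = a₁ + k₁ * i) (hnm : n - m = a₂ + k₂ * i) :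
    i ≤ m ∧ 2 * (m % i) ≤ n % i := by
  have hlt : n % i < i := Nat.mod_lt _ hi
  have h1 : m % i = a₁ := by
    rw [hm, Nat.add_mul_mod_self_right]
    exact Nat.mod_eq_of_lt (by omega)
  have h2 : (n - m) % i = a₂ := by
    rw [hnm, Nat.add_mul_mod_self_right]
    exact Nat.mod_eq_of_lt (by omega)
  have h3 : n % i = (a₁ + a₂) % i := by
    have e : n = (a₁ + a₂) + (k₁ + k₂) * i := by
      rw [Nat.add_mul]
      omega
    rw [e, Nat.add_mul_mod_self_right]
  have h4 : a₁ + a₂ < i := by
    by_contra hge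
    push Not at hge
    have e : (a₁ + a₂) % i = a₁ + a₂ - i := by
      rw [Nat.mod_eq_sub_mod hge]
      exact Nat.mod_eq_of_lt (by omega)
    omega
  rw [Nat.mod_eq_of_lt h4] at h3
  refine ⟨?_, by omega⟩
  rcases Nat.eq_zero_or_pos k₁ with hk | hk
  · exfalso
    subst hk
    rcases hdvd with ⟨t, ht⟩ | ⟨t, ht⟩
    · have hn : n = j + i * t := by omega
      have h5 : n % i = j % i := by rw [hn, Nat.add_mul_mod_self_left]
      have h6 : j % i ≤ j := Nat.mod_le _ _
      omega
    · have hn : n - m = j + i * t := by omega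
      have h5 : (n - m) % i = j % i := by rw [hn, Nat.add_mul_mod_self_left]
      have h6 : j % i = j := Nat.mod_eq_of_lt (by omega)
      omega
  · have : i ≤ k₁ * i := Nat.le_mul_of_pos_left i hk
    omega

theorem el_suff_flag {F : Type*} [Field F] [Fintype F] {p : ℕ} [hp : Fact p.Prime] [CharP F p]
    (n m : ℕ) (hn : 2 ≤ n) (hmn : 2 * m ≤ n) (r : ℕ) [hr : Fact r.Prime] (hrp : r ≠ p)
    (hcond : (orderOf ((Fintype.card F : ℕ) : ZMod r) = 1 ∧ (r ∣ m ∨
        (padicValNat r n ≤ padicValNat r (Fintype.card F - 1) ∧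
          (r = 2 → Even n → Fintype.card F % 4 = 1)))) ∨
      (2 ≤ orderOf ((Fintype.card F : ℕ) : ZMod r) ∧
        2 * (m % orderOf ((Fintype.card F : ℕ) : ZMod r)) ≤
          n % orderOf ((Fintype.card F : ℕ) : ZMod r)))
    (x : Matrix (Fin n) (Fin n) F) (hdet : x.det = 1) (c : F) (hx : x ^ r = c • 1) :
    ∃ U W : Submodule F (Fin n → F), U ≤ W ∧ finrank F U = m ∧ finrank F W = n - m ∧
      U.map (Matrix.toLin' x) ≤ U ∧ W.map (Matrix.toLin' x) ≤ W := by
  have hq1 : 1 ≤ Fintype.card F := Fintype.card_pos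
  have hfr : finrank F (Fin n → F) = n := Module.finrank_fin_fun F
  have hc0 : c ≠ 0 := by
    intro h0
    have h1 := congrArg Matrix.det hx
    have hne : Nonempty (Fin n) := ⟨⟨0, by omega⟩⟩
    rw [Matrix.det_pow, hdet, one_pow, h0, zero_smul, Matrix.det_zero] at h1
    exact one_ne_zero h1
  have hf : Matrix.toLin' x ^ r = c • 1 := by
    rw [← Matrix.toLin'_pow, hx, map_smul, Matrix.toLin'_one]
    rfl
  by_cases hpow : ∃ c₀ : F, c₀ ^ r = c
  · obtain ⟨c₀, rfl⟩ := hpow
    have hc₀ : c₀ ≠ 0 := by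
      intro h
      rw [h, zero_pow hr.out.ne_zero] at hc0
      exact hc0 rfl
    have hf' : (c₀⁻¹ • Matrix.toLin' x) ^ r = 1 := by
      rw [_root_.smul_pow, hf, smul_smul, inv_pow, inv_mul_cancel₀ (pow_ne_zero _ hc₀), one_smul]
    have hdvd := el_order_dvd r hrp _ hf'
    rw [hfr] at hdvd
    have hcd : finrank F (LinearMap.ker (aeval (c₀⁻¹ • Matrix.toLin' x) (X - 1 : F[X]))) ≤ n := by
      have := Submodule.finrank_le
        (LinearMap.ker (aeval (c₀⁻¹ • Matrix.toLin' x) (X - 1 : F[X])))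
      rwa [hfr] at this
    have hipos := el_ord_pos (F := F) r hrp
    obtain ⟨a₁, a₂, k₁, k₂, h12, h2c, hk12, hk2, hm1, hm2⟩ :=
      el_arith_flag_suff _ n m _ hipos hcd hdvd hmn (by
        rcases hcond with ⟨h, _⟩ | ⟨_, h⟩
        · exact Or.inl h
        · exact Or.inr h)
    have hdim := el_split_dim (c₀⁻¹ • Matrix.toLin' x) (cyclotomic r F) (el_cyc_coprime r hrp)
      (el_cyc_kill r _ hf')
    rw [hfr] at hdim
    obtain ⟨U, W, hUW, hU, hW, hUd, hWd⟩ := el_split_flag (c₀⁻¹ • Matrix.toLin' x)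
      (cyclotomic r F) (cyclotomic_ne_zero r F) (el_cyc_coprime r hrp) _ (el_cyc_deg r hrp)
      a₁ a₂ k₁ k₂ h12 h2c hk12 (by omega)
    have hback : ∀ W' : Submodule F (Fin n → F), ElInv (c₀⁻¹ • Matrix.toLin' x) W' →
        W'.map (Matrix.toLin' x) ≤ W' := by
      intro W' hW'
      rw [el_inv_iff]
      intro w hw
      have h4 := W'.smul_mem c₀ (hW' w hw)
      rwa [LinearMap.smul_apply, smul_smul, mul_inv_cancel₀ hc₀, one_smul] at h4
    exact ⟨U, W, hUW, by rw [hUd, ← hm1], by rw [hWd, ← hm2], hback U hU, hback W hW⟩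
  · push Not at hpow
    have hirr : Irreducible (X ^ r - C c : F[X]) := X_pow_sub_C_irreducible_of_prime hr.out hpow
    have hmon : (X ^ r - C c : F[X]).Monic := monic_X_pow_sub_C c hr.out.ne_zero
    have hkill : aeval (Matrix.toLin' x) (X ^ r - C c : F[X]) = 0 := by
      rw [map_sub, map_pow, aeval_X, aeval_C, Algebra.algebraMap_eq_smul_one, hf, sub_self]
    have hdeg : ∀ P' : F[X], Irreducible P' → P' ∣ (X ^ r - C c : F[X]) → P'.natDegree = r := by
      intro P' hP' hdvd
      rw [natDegree_eq_of_degree_eq (degree_eq_degree_of_associated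
        (hP'.associated_of_dvd hirr hdvd)), natDegree_X_pow_sub_C]
    have hkill' : ∀ u ∈ (⊤ : Submodule F (Fin n → F)),
        aeval (Matrix.toLin' x) (X ^ r - C c : F[X]) u = 0 := by
      intro u _
      rw [hkill, LinearMap.zero_apply]
    have hinvtop : ElInv (Matrix.toLin' x) (⊤ : Submodule F (Fin n → F)) :=
      fun _ _ => Submodule.mem_top
    have hrn : r ∣ n := by
      have := el_dvd_dim (Matrix.toLin' x) ⊤ hinvtop _ hirr.ne_zero hkill' r hr.out.pos hdeg
      rwa [finrank_top, hfr] at this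
    by_cases hrm : r ∣ m
    · obtain ⟨k, hk⟩ := hrm
      obtain ⟨k', hk'⟩ := hrn
      obtain ⟨Y, hYtop, hY, hYd⟩ := el_exists_dim (Matrix.toLin' x) ⊤ hinvtop _ hirr.ne_zero hkill' r
        hdeg k (by rw [finrank_top, hfr, mul_comm, ← hk]; omega)
      have hkk : 2 * k ≤ k' := by
        have : r * (2 * k) ≤ r * k' := by
          rw [← hk', ← mul_assoc, mul_comm r 2, mul_assoc, ← hk]
          exact hmn
        exact Nat.le_of_mul_le_mul_left this hr.out.pos
      have hnm : n - m = k * r + (k' - 2 * k) * r := by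
        rw [← Nat.add_mul, hk', hk, mul_comm r k', mul_comm r k, ← Nat.sub_mul]
        congr 1
        omega
      obtain ⟨Y', hYY', _, hY', hY'd⟩ := el_exists_dim_ext (Matrix.toLin' x) ⊤ hinvtop _
        hirr.ne_zero hkill' r hdeg Y hYtop hY (k' - 2 * k) (by
          rw [finrank_top, hfr, hYd, ← hnm]
          omega)
      refine ⟨Y, Y', hYY', by rw [hYd, hk, mul_comm], by rw [hY'd, hYd, ← hnm], ?_, ?_⟩
      · rw [el_inv_iff]
        exact hY
      · rw [el_inv_iff]
        exact hY'
    · exfalso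
      rcases hcond with ⟨hi1, hor⟩ | ⟨hi2, _⟩
      · rw [el_ord_one_iff _ _ hq1] at hi1
        rcases hor with h | ⟨hv, h4⟩
        · exact hrm h
        · have hd := el_det_of_irred (Matrix.toLin' x) _ hirr hmon hkill
          rw [LinearMap.det_toLin', hdet, natDegree_X_pow_sub_C, hfr] at hd
          have hcoeff : (X ^ r - C c : F[X]).coeff 0 = -c := by
            rw [coeff_sub, coeff_X_pow, coeff_C_zero, if_neg hr.out.ne_zero.symm, zero_sub]
          rw [hcoeff] at hd
          have e1 : ((-1 : F) ^ r * -c) = (-1) ^ (r + 1) * c := by ring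
          rw [e1] at hd
          rcases el_nonpow_val r n hi1 hrn (by omega) c hpow hd.symm with h5 | ⟨h5, h6, h7⟩
          · omega
          · exact h7 (h4 h5 h6)
      · have hnd : ¬ r ∣ Fintype.card F - 1 := by
          rw [← el_ord_one_iff _ _ hq1]
          omega
        have hcop : Nat.Coprime (Fintype.card F - 1) r :=
          ((Nat.Prime.coprime_iff_not_dvd hr.out).mpr hnd).symm
        obtain ⟨b, hb⟩ := el_all_pow r hr.out.ne_zero hcop c
        exact hpow b hb

theorem el_char_not_dvd {F : Type*} [Field F] [Fintype F] {p : ℕ} [hp : Fact p.Prime] [CharP F p]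
    (k : ℕ) (hk : 1 ≤ k) : ¬ p ∣ Fintype.card F ^ k - 1 := by
  intro hdvd
  obtain ⟨e, _, he⟩ := FiniteField.card F p
  have h1 : p ∣ Fintype.card F ^ k := by
    apply dvd_pow _ (by omega)
    rw [he]
    exact dvd_pow_self p e.ne_zero
  have h2 : 1 ≤ Fintype.card F ^ k := Nat.one_le_pow _ _ Fintype.card_pos
  have h3 : p ∣ 1 := by
    have := (Nat.dvd_sub h1 hdvd)
    have e1 : Fintype.card F ^ k - (Fintype.card F ^ k - 1) = 1 := by omega
    rwa [e1] at this
  exact hp.out.one_lt.ne' (Nat.dvd_one.mp h3)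

theorem el_ne_char_flag {F : Type*} [Field F] [Fintype F] {p : ℕ} [hp : Fact p.Prime] [CharP F p]
    (n m : ℕ) (hmn : 2 * m < n) (r : ℕ) [hr : Fact r.Prime]
    (hrΩ : r ∣ Nat.card {P : Submodule F (Fin n → F) × Submodule F (Fin n → F) //
        P.1 ≤ P.2 ∧ finrank F P.1 = m ∧ finrank F P.2 = n - m}) :
    r ≠ p := by
  obtain ⟨j, hj, hd⟩ := el_flag_dvd n m (by omega) r hr.out hrΩ
  rintro rfl
  rcases hd with h | h
  · exact el_char_not_dvd (F := F) (p := r) (n - j) (by omega) h
  · exact el_char_not_dvd (F := F) (p := r) (n - m - j) (by omega) h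

theorem el_nec_flag {F : Type*} [Field F] [Fintype F] {p : ℕ} [hp : Fact p.Prime] [CharP F p]
    (n m : ℕ) (hn : 2 ≤ n) (hmn : 2 * m < n) (r : ℕ) [hr : Fact r.Prime] (hrp : r ≠ p)
    (hrΩ : r ∣ Nat.card {P : Submodule F (Fin n → F) × Submodule F (Fin n → F) //
        P.1 ≤ P.2 ∧ finrank F P.1 = m ∧ finrank F P.2 = n - m})
    (hall : ∀ x : Matrix (Fin n) (Fin n) F, x.det = 1 → (∃ c : F, x ^ r = c • 1) →
      (∀ c : F, x ≠ c • 1) →
      ∃ U W : Submodule F (Fin n → F), U ≤ W ∧ finrank F U = m ∧ finrank F W = n - m ∧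
        U.map (Matrix.toLin' x) ≤ U ∧ W.map (Matrix.toLin' x) ≤ W) :
    (orderOf ((Fintype.card F : ℕ) : ZMod r) = 1 ∧ (r ∣ m ∨
        (padicValNat r n ≤ padicValNat r (Fintype.card F - 1) ∧
          (r = 2 → Even n → Fintype.card F % 4 = 1)))) ∨
      (2 ≤ orderOf ((Fintype.card F : ℕ) : ZMod r) ∧
        orderOf ((Fintype.card F : ℕ) : ZMod r) ≤ m ∧
        2 * (m % orderOf ((Fintype.card F : ℕ) : ZMod r)) ≤
          n % orderOf ((Fintype.card F : ℕ) : ZMod r)) := by
  have hq1 : 1 ≤ Fintype.card F := Fintype.card_pos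
  have hfr : finrank F (Fin n → F) = n := Module.finrank_fin_fun F
  have hipos := el_ord_pos (F := F) r hrp
  by_cases hi : orderOf ((Fintype.card F : ℕ) : ZMod r) = 1
  · refine Or.inl ⟨hi, ?_⟩
    have hrq : r ∣ Fintype.card F - 1 := (el_ord_one_iff _ _ hq1).mp hi
    have hq0 : Fintype.card F - 1 ≠ 0 := by
      intro h0
      rw [h0] at hrq
      have := Fintype.one_lt_card (α := F)
      omega
    by_contra hcon
    rw [not_or] at hcon
    obtain ⟨hrm, hcon2⟩ := hcon
    have hor : padicValNat r (Fintype.card F - 1) < padicValNat r n ∨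
        (r = 2 ∧ Even n ∧ Fintype.card F % 4 ≠ 1) := by
      by_contra h
      rw [not_or] at h
      apply hcon2
      refine ⟨by omega, fun h2 hev => ?_⟩
      by_contra h4
      exact h.2 ⟨h2, hev, h4⟩
    have hrn : r ∣ n := by
      rcases hor with h | ⟨h2, hev, _⟩
      · exact dvd_of_one_le_padicValNat (by omega)
      · rw [h2]
        exact even_iff_two_dvd.mp hev
    obtain ⟨c, hc, hdetc⟩ := el_exists_nonpow r n hrq hq0 hrn (by omega) hor
    have hirr : Irreducible (X ^ r - C c : F[X]) := X_pow_sub_C_irreducible_of_prime hr.out hc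
    have hmon : (X ^ r - C c : F[X]).Monic := monic_X_pow_sub_C c hr.out.ne_zero
    have hev1 : (X ^ r - C c : F[X]).eval 1 ≠ 0 := by
      rw [eval_sub, eval_pow, eval_X, eval_C, one_pow]
      intro h
      exact hc 1 (by rw [one_pow]; exact (sub_eq_zero.mp h))
    have hdeg : (X ^ r - C c : F[X]).natDegree = r := natDegree_X_pow_sub_C
    obtain ⟨x, hdet, hpow, hns, hinv⟩ := el_build (X ^ r - C c : F[X]) hirr hmon hev1 (n / r) 0 n
      (by rw [hdeg, add_zero, Nat.div_mul_cancel hrn])
    have hcoeff : (X ^ r - C c : F[X]).coeff 0 = -c := by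
      rw [coeff_sub, coeff_X_pow, coeff_C_zero, if_neg hr.out.ne_zero.symm, zero_sub]
    rw [hdeg, hcoeff] at hdet
    have e1 : ((-1 : F) ^ r * -c) = (-1) ^ (r + 1) * c := by ring
    rw [e1, hdetc] at hdet
    have hnr : 1 ≤ n / r := Nat.div_pos (Nat.le_of_dvd (by omega) hrn) hr.out.pos
    obtain ⟨U, W, _, hUd, _, hU, _⟩ := hall x hdet ⟨c, hpow r c dvd_rfl (fun h => absurd rfl h)⟩
      (hns hnr (by rw [hdeg]; exact hr.out.two_le))
    obtain ⟨a', k, ha', hk⟩ := hinv U hU
    rw [hdeg, hUd] at hk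
    apply hrm
    have : a' = 0 := by omega
    rw [hk, this, zero_add]
    exact Dvd.intro_left _ rfl
  · right
    have hi2 : 2 ≤ orderOf ((Fintype.card F : ℕ) : ZMod r) := by omega
    have hnd : ¬ r ∣ Fintype.card F - 1 := by
      rw [← el_ord_one_iff _ _ hq1]
      exact hi
    have hcop : Nat.Coprime (Fintype.card F - 1) r :=
      ((Nat.Prime.coprime_iff_not_dvd hr.out).mpr hnd).symm
    obtain ⟨j, hj, hdvd⟩ := el_flag_dvd n m (by omega) r hr.out hrΩ
    rw [el_ord_dvd_iff _ _ _ hq1, el_ord_dvd_iff _ _ _ hq1] at hdvd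
    have hile : orderOf ((Fintype.card F : ℕ) : ZMod r) ≤ n := by
      rcases hdvd with h | h
      · have := Nat.le_of_dvd (by omega) h
        omega
      · have := Nat.le_of_dvd (by omega) h
        omega
    have hnu : ¬ IsUnit (cyclotomic r F) := by
      intro hu
      have := natDegree_eq_zero_of_isUnit hu
      rw [natDegree_cyclotomic, Nat.totient_prime hr.out] at this
      have := hr.out.two_le
      omega
    obtain ⟨P, hmon, hirr, hPdvd⟩ := exists_monic_irreducible_factor (cyclotomic r F) hnu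
    have hdeg := el_cyc_deg r hrp P hirr hPdvd
    have hev1 : P.eval 1 ≠ 0 := by
      intro h
      obtain ⟨R, hR⟩ := hPdvd
      have h2 := congrArg (eval 1) hR
      rw [eval_mul, h, zero_mul, eval_one_cyclotomic_prime] at h2
      exact el_cast_ne_zero (F := F) r hrp h2
    obtain ⟨x, hdet, hpow, hns, φ, hφmono, hφle, hinv⟩ := el_build2 P hirr hmon hev1
      (n / orderOf ((Fintype.card F : ℕ) : ZMod r)) (n % orderOf ((Fintype.card F : ℕ) : ZMod r)) n
      (by rw [hdeg]; exact (Nat.div_add_mod' n _).symm)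
    have hPx : P ∣ X ^ r - C (1 : F) := by
      rw [C_1]
      exact dvd_trans hPdvd (cyclotomic.dvd_X_pow_sub_one r F)
    have hxr : x ^ r = (1 : F) • 1 := hpow r 1 hPx (fun _ => rfl)
    have hdet1 : x.det = 1 := by
      apply el_eq_one_of_pow r hcop _ _ hr.out.ne_zero
      rw [← Matrix.det_pow, hxr, one_smul, Matrix.det_one]
    have hb : 1 ≤ n / orderOf ((Fintype.card F : ℕ) : ZMod r) := Nat.div_pos hile hipos
    obtain ⟨U, W, hUW, hUd, hWd, hU, hW⟩ := hall x hdet1 ⟨1, hxr⟩
      (hns hb (by rw [hdeg]; exact hi2))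
    obtain ⟨k₁, hk₁⟩ := hinv U hU
    obtain ⟨k₂, hk₂⟩ := hinv W hW
    rw [hdeg, hUd] at hk₁
    rw [hdeg, hWd] at hk₂
    obtain ⟨h1, h2⟩ := el_arith_flag_nec _ n m j (φ U) (φ W) k₁ k₂ hipos hj (by omega) hdvd
      (hφmono U W hUW) (hφle W) hk₁ hk₂
    exact ⟨hi2, h1, h2⟩

end Cfsg.Agent.Lib.Helper24
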