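import Mathlib
import Cfsg.Agent.Lib.Helper24.ElL

set_option autoImplicit false

namespace Cfsg.Agent.Lib.Helper24

open Polynomial Module

theorem el_maschke {F V : Type*} [Field F] [AddCommGroup V] [Module F V]
    (x : Module.End F V) (r : ℕ) (hr : (r : F) ≠ 0) (c : F) (hc : c ≠ 0) (hx : x ^ r = c • 1)
    (U : Submodule F V) (hU : ElInv x U) : ∃ W : Submodule F V, ElInv x W ∧ IsCompl U W := by
  have hr0 : r ≠ 0 := by
    rintro rfl
    exact hr Nat.cast_zero
  obtain ⟨r', rfl⟩ : ∃ r', r = r' + 1 := ⟨r - 1, by omega⟩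
  let y : Module.End F V := c⁻¹ • x ^ r'
  have hxy : x * y = 1 := by
    show x * (c⁻¹ • x ^ r') = 1
    rw [mul_smul_comm, ← pow_succ', hx, smul_smul, inv_mul_cancel₀ hc, one_smul]
  have hyx : y * x = 1 := by
    show (c⁻¹ • x ^ r') * x = 1
    rw [smul_mul_assoc, ← pow_succ, hx, smul_smul, inv_mul_cancel₀ hc, one_smul]
  have hUy : ElInv y U := by
    intro u hu
    show (c⁻¹ • x ^ r') u ∈ U
    rw [LinearMap.smul_apply]
    exact U.smul_mem _ (el_pow_mem hU r' hu)
  have hxyp : ∀ j : ℕ, x ^ j * y ^ j = 1 := by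
    intro j
    induction j with
    | zero => simp
    | succ j ih =>
      rw [pow_succ, pow_succ', mul_assoc, ← mul_assoc x, hxy, one_mul, ih]
  obtain ⟨W₀, hW₀⟩ := Submodule.exists_isCompl U
  let π : Module.End F V := U.subtype ∘ₗ U.projectionOnto W₀ hW₀
  have hπU : ∀ v, π v ∈ U := fun v => (U.projectionOnto W₀ hW₀ v).2
  have hπid : ∀ u ∈ U, π u = u := by
    intro u hu
    show ((U.projectionOnto W₀ hW₀ u : U) : V) = u
    have := Submodule.projectionOnto_apply_left hW₀ (⟨u, hu⟩ : U)
    rw [this]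
  let S : Module.End F V := ∑ j ∈ Finset.range (r' + 1), x ^ j * π * y ^ j
  have hSU : ∀ v, S v ∈ U := by
    intro v
    show (∑ j ∈ Finset.range (r' + 1), x ^ j * π * y ^ j) v ∈ U
    rw [LinearMap.sum_apply]
    apply Submodule.sum_mem
    intro j _
    exact el_pow_mem hU j (hπU _)
  have hSid : ∀ u ∈ U, S u = ((r' + 1 : ℕ) : F) • u := by
    intro u hu
    show (∑ j ∈ Finset.range (r' + 1), x ^ j * π * y ^ j) u = _
    rw [LinearMap.sum_apply]
    have : ∀ j ∈ Finset.range (r' + 1), (x ^ j * π * y ^ j) u = u := by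
      intro j _
      show (x ^ j) (π ((y ^ j) u)) = u
      rw [hπid _ (el_pow_mem hUy j hu)]
      have := congrArg (fun f : Module.End F V => f u) (hxyp j)
      exact this
    rw [Finset.sum_congr rfl this, Finset.sum_const, Finset.card_range, Nat.cast_smul_eq_nsmul]
  have hconj : x * S * y = S := by
    show x * (∑ j ∈ Finset.range (r' + 1), x ^ j * π * y ^ j) * y = _
    rw [Finset.mul_sum, Finset.sum_mul]
    have e : ∀ j ∈ Finset.range (r' + 1), x * (x ^ j * π * y ^ j) * y =
        x ^ (j + 1) * π * y ^ (j + 1) := by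
      intro j _
      rw [pow_succ' x, pow_succ y]
      simp only [mul_assoc]
    rw [Finset.sum_congr rfl e]
    have h1 := Finset.sum_range_succ' (fun j => x ^ j * π * y ^ j) (r' + 1)
    have h2 := Finset.sum_range_succ (fun j => x ^ j * π * y ^ j) (r' + 1)
    have hlast : x ^ (r' + 1) * π * y ^ (r' + 1) = π := by
      have hy : y ^ (r' + 1) = c⁻¹ • 1 := by
        have h3 := hxyp (r' + 1)
        rw [hx, smul_mul_assoc, one_mul] at h3
        have := congrArg (fun f : Module.End F V => c⁻¹ • f) h3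
        simp only [smul_smul, inv_mul_cancel₀ hc, one_smul] at this
        exact this
      rw [hx, hy, smul_mul_assoc, one_mul, mul_smul_comm, mul_one, smul_smul, inv_mul_cancel₀ hc,
        one_smul]
    simp only [pow_zero, one_mul, mul_one] at h1
    rw [hlast] at h2
    have h3 := h1.symm.trans h2
    exact add_right_cancel h3
  have hcomm : x * S = S * x := by
    have := congrArg (fun f : Module.End F V => f * x) hconj
    simp only [mul_assoc, hyx, mul_one] at this
    exact this
  let π' : Module.End F V := ((r' + 1 : ℕ) : F)⁻¹ • S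
  have hπ'U : ∀ v, π' v ∈ U := by
    intro v
    show (((r' + 1 : ℕ) : F)⁻¹ • S) v ∈ U
    rw [LinearMap.smul_apply]
    exact U.smul_mem _ (hSU v)
  have hπ'id : ∀ u : U, (LinearMap.codRestrict U π' hπ'U) (u : V) = u := by
    intro u
    apply Subtype.ext
    show (((r' + 1 : ℕ) : F)⁻¹ • S) (u : V) = u
    rw [LinearMap.smul_apply, hSid u u.2, smul_smul, inv_mul_cancel₀ hr, one_smul]
  have hcompl := LinearMap.isCompl_of_proj hπ'id
  rw [LinearMap.ker_codRestrict] at hcompl
  refine ⟨LinearMap.ker π', ?_, hcompl⟩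
  intro w hw
  rw [LinearMap.mem_ker] at hw ⊢
  show (((r' + 1 : ℕ) : F)⁻¹ • S) (x w) = 0
  have h1 : S (x w) = x (S w) := by
    have := congrArg (fun f : Module.End F V => f w) hcomm
    exact this.symm
  have h2 : (((r' + 1 : ℕ) : F)⁻¹ • S) w = 0 := hw
  rw [LinearMap.smul_apply] at h2 ⊢
  rw [h1, ← map_smul, h2, map_zero]

section
variable {F : Type*} [Field F] {V : Type*} [AddCommGroup V] [Module F V]

def elPairEquiv (m : ℕ) :
    {P : Submodule F V × Submodule F V // IsCompl P.1 P.2 ∧ finrank F P.1 = m} ≃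
      Σ U : {U : Submodule F V // finrank F U = m}, {W : Submodule F V // IsCompl U.1 W} where
  toFun P := ⟨⟨P.1.1, P.2.2⟩, ⟨P.1.2, P.2.1⟩⟩
  invFun S := ⟨(S.1.1, S.2.1), S.2.2, S.1.2⟩
  left_inv _ := rfl
  right_inv _ := rfl

noncomputable def elProjEquiv (U W₀ : Submodule F V) (h : IsCompl U W₀) :
    {f : V →ₗ[F] U // ∀ u : U, f u = u} ≃ (W₀ →ₗ[F] U) where
  toFun f := f.1 ∘ₗ W₀.subtype
  invFun g := ⟨LinearMap.ofIsCompl h LinearMap.id g, fun u => by
    rw [LinearMap.ofIsCompl_apply_left]
    rfl⟩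
  left_inv f := by
    apply Subtype.ext
    apply LinearMap.ofIsCompl_eq
    · intro u
      exact (f.2 u).symm
    · intro w
      rfl
  right_inv g := by
    apply LinearMap.ext
    intro w
    show (LinearMap.ofIsCompl h LinearMap.id g) (w : V) = g w
    rw [LinearMap.ofIsCompl_apply_right]

end

theorem el_compl_card {F : Type*} [Field F] [Fintype F] {V : Type*} [AddCommGroup V] [Module F V]
    [FiniteDimensional F V] (U : Submodule F V) :
    Nat.card {W : Submodule F V // IsCompl U W} =
      Fintype.card F ^ ((finrank F V - finrank F U) * finrank F U) := by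
  obtain ⟨W₀, hW₀⟩ := Submodule.exists_isCompl U
  rw [Nat.card_congr (U.isComplEquivProj.trans (elProjEquiv U W₀ hW₀)),
    Module.natCard_eq_pow_finrank (K := F), Module.finrank_linearMap, Nat.card_eq_fintype_card]
  have := Submodule.finrank_add_eq_of_isCompl hW₀
  congr 2
  omega

theorem el_pairs_card {F : Type*} [Field F] [Fintype F] {V : Type*} [AddCommGroup V] [Module F V]
    [Finite V] (m : ℕ) :
    Nat.card {P : Submodule F V × Submodule F V // IsCompl P.1 P.2 ∧ finrank F P.1 = m} =
      Nat.card {U : Submodule F V // finrank F U = m} *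
        Fintype.card F ^ ((finrank F V - m) * m) := by
  classical
  have hfinS : Finite (Submodule F V) :=
    Finite.of_injective (fun W : Submodule F V => (W : Set V)) SetLike.coe_injective
  have : Fintype {W : Submodule F V // finrank F W = m} := Fintype.ofFinite _
  rw [Nat.card_congr (elPairEquiv m), Nat.card_sigma]
  have hfib : ∀ U : {U : Submodule F V // finrank F U = m},
      Nat.card {W : Submodule F V // IsCompl U.1 W} =
        Fintype.card F ^ ((finrank F V - m) * m) := by
    intro U
    rw [el_compl_card U.1, U.2]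
  rw [Finset.sum_congr rfl (fun U _ => hfib U), Finset.sum_const, Finset.card_univ,
    smul_eq_mul, ← Nat.card_eq_fintype_card]

theorem el_pairs_dvd {F : Type*} [Field F] [Fintype F] {p : ℕ} [hp : Fact p.Prime] [CharP F p]
    (n m : ℕ) (r : ℕ) [hr : Fact r.Prime] (hrp : r ≠ p)
    (hdvd : r ∣ Nat.card {P : Submodule F (Fin n → F) × Submodule F (Fin n → F) //
        IsCompl P.1 P.2 ∧ finrank F P.1 = m}) :
    r ∣ Nat.card {U : Submodule F (Fin n → F) // finrank F U = m} := by
  rw [el_pairs_card] at hdvd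
  rcases (Nat.Prime.dvd_mul hr.out).mp hdvd with h | h
  · exact h
  · exfalso
    have h1 := hr.out.dvd_of_dvd_pow h
    obtain ⟨e, _, he⟩ := FiniteField.card F p
    rw [he] at h1
    have h2 := hr.out.dvd_of_dvd_pow h1
    exact hrp ((Nat.prime_dvd_prime_iff_eq hr.out hp.out).mp h2)

end Cfsg.Agent.Lib.Helper24
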