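import Mathlib

set_option autoImplicit false

namespace Cfsg.Agent.Lib.Helper24

theorem el_ms_count (μ : Multiset ℕ) (k : ℕ) :
    (μ.map (fun a => a - k)).sum + (μ.map (fun a => a - (k + 2))).sum =
      2 * (μ.map (fun a => a - (k + 1))).sum + μ.count (k + 1) := by
  induction μ using Multiset.induction with
  | empty => simp
  | cons a μ ih =>
    simp only [Multiset.map_cons, Multiset.sum_cons, Multiset.count_cons]
    by_cases h : k + 1 = a
    · rw [if_pos h]
      omega
    · rw [if_neg h]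
      omega

theorem el_ms_unique (μ μ' : Multiset ℕ) (h0 : ∀ a ∈ μ, 1 ≤ a) (h0' : ∀ a ∈ μ', 1 ≤ a)
    (h : ∀ k, (μ.map (fun a => a - k)).sum = (μ'.map (fun a => a - k)).sum) : μ = μ' := by
  ext j
  rcases Nat.eq_zero_or_pos j with rfl | hj
  · rw [Multiset.count_eq_zero_of_notMem, Multiset.count_eq_zero_of_notMem]
    · intro hm
      have := h0' 0 hm
      omega
    · intro hm
      have := h0 0 hm
      omega
  · obtain ⟨k, rfl⟩ : ∃ k, j = k + 1 := ⟨j - 1, by omega⟩
    have h1 := el_ms_count μ k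
    have h2 := el_ms_count μ' k
    rw [h k, h (k + 1), h (k + 2)] at h1
    omega

theorem el_pc_two_suff (n m : ℕ) (hmn : m ≤ n) (h : Odd n ∨ Even m) (μ : Multiset ℕ)
    (hμ : ∀ a ∈ μ, 0 < a ∧ a ≤ 2) (hsum : μ.sum = n) : ∃ ν : Multiset ℕ, ν ≤ μ ∧ ν.sum = m := by
  have hform : μ = Multiset.replicate (μ.count 1) 1 + Multiset.replicate (μ.count 2) 2 := by
    ext j
    rw [Multiset.count_add, Multiset.count_replicate, Multiset.count_replicate]
    by_cases h1 : j = 1
    · subst h1
      simp
    · by_cases h2 : j = 2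
      · subst h2
        simp
      · rw [if_neg (Ne.symm h1), if_neg (Ne.symm h2)]
        rw [Multiset.count_eq_zero_of_notMem]
        intro hj
        have := hμ j hj
        omega
  have hsum' : μ.count 1 + 2 * μ.count 2 = n := by
    rw [← hsum]
    conv_rhs => rw [hform]
    rw [Multiset.sum_add, Multiset.sum_replicate, Multiset.sum_replicate]
    simp
    ring
  set b := μ.count 1
  set a := μ.count 2
  have key : ∃ a' b', a' ≤ a ∧ b' ≤ b ∧ 2 * a' + b' = m := by
    by_cases hcase : m / 2 ≤ a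
    · refine ⟨m / 2, m % 2, hcase, ?_, by omega⟩
      rcases h with hodd | hev
      · have : n % 2 = 1 := Nat.odd_iff.mp hodd
        omega
      · have : m % 2 = 0 := Nat.even_iff.mp hev
        omega
    · refine ⟨a, m - 2 * a, le_rfl, by omega, by omega⟩
  obtain ⟨a', b', ha', hb', hab⟩ := key
  refine ⟨Multiset.replicate b' 1 + Multiset.replicate a' 2, ?_, ?_⟩
  · rw [hform]
    exact add_le_add ((Multiset.replicate_le_replicate 1).mpr hb')
      ((Multiset.replicate_le_replicate 2).mpr ha')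
  · rw [Multiset.sum_add, Multiset.sum_replicate, Multiset.sum_replicate]
    simp
    omega

theorem el_pc_two_nec (n m : ℕ)
    (h : ∀ μ : Multiset ℕ, (∀ a ∈ μ, 0 < a ∧ a ≤ 2) → μ.sum = n →
      ∃ ν : Multiset ℕ, ν ≤ μ ∧ ν.sum = m) : Odd n ∨ Even m := by
  by_cases hn : Odd n
  · exact Or.inl hn
  · right
    rw [Nat.not_odd_iff_even] at hn
    obtain ⟨t, ht⟩ := hn
    obtain ⟨ν, hν, hsum⟩ := h (Multiset.replicate t 2) (by
      intro a ha
      rw [Multiset.eq_of_mem_replicate ha]
      omega) (by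
      rw [Multiset.sum_replicate]
      simp
      omega)
    have hall : ∀ a ∈ ν, a = 2 := fun a ha =>
      Multiset.eq_of_mem_replicate (Multiset.mem_of_le hν ha)
    rw [Multiset.eq_replicate_card.mpr hall, Multiset.sum_replicate] at hsum
    exact ⟨Multiset.card ν, by rw [← hsum]; simp; ring⟩

theorem el_pc_ones (n m : ℕ) (hmn : m ≤ n) (μ : Multiset ℕ) (hμ : ∀ a ∈ μ, a = 1)
    (hsum : μ.sum = n) : ∃ ν : Multiset ℕ, ν ≤ μ ∧ ν.sum = m := by
  have h1 := Multiset.eq_replicate_card.mpr hμ
  rw [h1, Multiset.sum_replicate] at hsum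
  refine ⟨Multiset.replicate m 1, ?_, by simp⟩
  rw [h1]
  apply (Multiset.replicate_le_replicate 1).mpr
  have : Multiset.card μ = n := by simpa using hsum
  omega

end Cfsg.Agent.Lib.Helper24
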