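import Mathlib
import Cfsg.Agent.Lib.Helper24.ElM
import Cfsg.Agent.Lib.Helper24.ElN

set_option autoImplicit false

namespace Cfsg.Agent.Lib.Helper24

open Module

section
variable {F : Type*} [Field F] {V : Type*} [AddCommGroup V] [Module F V]

def ElCyc (N : Module.End F V) (Z : Submodule F V) (a : ℕ) : Prop :=
  ∃ v : V, (N ^ a) v = 0 ∧ LinearIndependent F (fun l : Fin a => (N ^ (l : ℕ)) v) ∧
    Z = Submodule.span F (Set.range (fun l : Fin a => (N ^ (l : ℕ)) v))

inductive ElJD (N : Module.End F V) : Submodule F V → Multiset ℕ → Prop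
  | bot : ElJD N ⊥ 0
  | cons (Z M : Submodule F V) (a : ℕ) (μ : Multiset ℕ) : 1 ≤ a → ElCyc N Z a → ElJD N M μ →
      Disjoint Z M → ElJD N (Z ⊔ M) (a ::ₘ μ)

theorem el_pow_ge_zero (N : Module.End F V) (v : V) (a : ℕ) (h : (N ^ a) v = 0) (j : ℕ)
    (hj : a ≤ j) : (N ^ j) v = 0 := by
  obtain ⟨t, rfl⟩ := Nat.exists_eq_add_of_le hj
  rw [add_comm, pow_add, Module.End.mul_apply, h, map_zero]

theorem el_cyc_inv {N : Module.End F V} {Z : Submodule F V} {a : ℕ} (h : ElCyc N Z a) :
    ElInv N Z := by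
  obtain ⟨v, hv, _, rfl⟩ := h
  rw [← el_inv_iff, Submodule.map_span, Submodule.span_le]
  rintro _ ⟨_, ⟨l, rfl⟩, rfl⟩
  have e : N ((N ^ (l : ℕ)) v) = (N ^ ((l : ℕ) + 1)) v := by
    rw [pow_succ', Module.End.mul_apply]
  rw [e]
  by_cases hl : (l : ℕ) + 1 < a
  · exact Submodule.subset_span ⟨⟨(l : ℕ) + 1, hl⟩, rfl⟩
  · rw [el_pow_ge_zero N v a hv _ (by omega)]
    exact Submodule.zero_mem _

theorem el_cyc_map_finrank {N : Module.End F V} {Z : Submodule F V} {a : ℕ} (h : ElCyc N Z a)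
    (k : ℕ) : finrank F (Z.map (N ^ k)) = a - k := by
  obtain ⟨v, hv, hli, rfl⟩ := h
  have hspan : (Submodule.span F (Set.range (fun l : Fin a => (N ^ (l : ℕ)) v))).map (N ^ k) =
      Submodule.span F (Set.range (fun l : Fin (a - k) => (N ^ ((l : ℕ) + k)) v)) := by
    rw [Submodule.map_span]
    apply le_antisymm
    · rw [Submodule.span_le]
      rintro _ ⟨_, ⟨l, rfl⟩, rfl⟩
      have e : (N ^ k) ((N ^ (l : ℕ)) v) = (N ^ ((l : ℕ) + k)) v := by
        rw [add_comm, pow_add, Module.End.mul_apply]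
      rw [e]
      by_cases hl : (l : ℕ) + k < a
      · exact Submodule.subset_span ⟨⟨(l : ℕ), by omega⟩, rfl⟩
      · rw [el_pow_ge_zero N v a hv _ (by omega)]
        exact Submodule.zero_mem _
    · rw [Submodule.span_le]
      rintro _ ⟨l, rfl⟩
      apply Submodule.subset_span
      refine ⟨(N ^ (l : ℕ)) v, ⟨⟨(l : ℕ), by omega⟩, rfl⟩, ?_⟩
      show (N ^ k) ((N ^ (l : ℕ)) v) = (N ^ ((l : ℕ) + k)) v
      rw [add_comm, pow_add, Module.End.mul_apply]
  rw [hspan]
  have hli' : LinearIndependent F (fun l : Fin (a - k) => (N ^ ((l : ℕ) + k)) v) := by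
    have := hli.comp (fun l : Fin (a - k) => (⟨(l : ℕ) + k, by omega⟩ : Fin a)) (by
      intro l l' hll
      apply Fin.ext
      have := congrArg Fin.val hll
      simp only at this
      omega)
    exact this
  rw [finrank_span_eq_card hli', Fintype.card_fin]

theorem el_jd_inv {N : Module.End F V} {M : Submodule F V} {μ : Multiset ℕ} (h : ElJD N M μ) :
    ElInv N M := by
  induction h with
  | bot => exact el_inv_bot N
  | cons Z M a μ _ hZ _ _ ih => exact el_inv_sup (el_cyc_inv hZ) ih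

theorem el_inv_pow {N : Module.End F V} {M : Submodule F V} (h : ElInv N M) (k : ℕ) :
    ElInv (N ^ k) M := fun _ hw => el_pow_mem h k hw

theorem el_jd_pos {N : Module.End F V} {M : Submodule F V} {μ : Multiset ℕ} (h : ElJD N M μ) :
    ∀ a ∈ μ, 1 ≤ a := by
  induction h with
  | bot => simp
  | cons Z M a μ ha _ _ _ ih =>
    intro b hb
    rcases Multiset.mem_cons.mp hb with rfl | hb
    · exact ha
    · exact ih b hb

theorem el_jd_map_finrank [FiniteDimensional F V] {N : Module.End F V} {M : Submodule F V}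
    {μ : Multiset ℕ} (h : ElJD N M μ) (k : ℕ) :
    finrank F (M.map (N ^ k)) = (μ.map (fun a => a - k)).sum := by
  induction h with
  | bot => simp
  | cons Z M a μ _ hZ hM hdisj ih =>
    rw [Submodule.map_sup, Multiset.map_cons, Multiset.sum_cons, ← ih, ← el_cyc_map_finrank hZ k]
    have h1 : Z.map (N ^ k) ≤ Z := (el_inv_iff _ _).mpr (el_inv_pow (el_cyc_inv hZ) k)
    have h2 : M.map (N ^ k) ≤ M := (el_inv_iff _ _).mpr (el_inv_pow (el_jd_inv hM) k)
    have hd : Z.map (N ^ k) ⊓ M.map (N ^ k) = ⊥ := by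
      rw [eq_bot_iff, ← hdisj.eq_bot]
      exact inf_le_inf h1 h2
    have := Submodule.finrank_sup_add_finrank_inf_eq (Z.map (N ^ k)) (M.map (N ^ k))
    rw [hd, finrank_bot, add_zero] at this
    exact this

theorem el_jd_finrank [FiniteDimensional F V] {N : Module.End F V} {M : Submodule F V}
    {μ : Multiset ℕ} (h : ElJD N M μ) : finrank F M = μ.sum := by
  have := el_jd_map_finrank h 0
  rw [pow_zero] at this
  have e : M.map (1 : Module.End F V) = M := Submodule.map_id M
  rw [e] at this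
  simpa using this

theorem el_jd_unique [FiniteDimensional F V] {N : Module.End F V} {M : Submodule F V}
    {μ μ' : Multiset ℕ} (h : ElJD N M μ) (h' : ElJD N M μ') : μ = μ' := by
  apply el_ms_unique μ μ' (el_jd_pos h) (el_jd_pos h')
  intro k
  rw [← el_jd_map_finrank h k, ← el_jd_map_finrank h' k]

theorem el_jd_sup {N : Module.End F V} {M M' : Submodule F V} {μ μ' : Multiset ℕ}
    (h : ElJD N M μ) (h' : ElJD N M' μ') (hd : Disjoint M M') : ElJD N (M ⊔ M') (μ + μ') := by
  induction h with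
  | bot =>
    rw [bot_sup_eq, zero_add]
    exact h'
  | cons Z M a μ ha hZ hM hdisj ih =>
    rw [sup_assoc, Multiset.cons_add]
    have hd1 : Disjoint M M' := hd.mono_left le_sup_right
    exact ElJD.cons Z (M ⊔ M') a (μ + μ') ha hZ (ih hd1)
      (hdisj.disjoint_sup_right_of_disjoint_sup_left hd)

theorem el_jd_split {N : Module.End F V} {M : Submodule F V} {μ : Multiset ℕ}
    (h : ElJD N M μ) : ∀ ν : Multiset ℕ, ν ≤ μ →
      ∃ U W : Submodule F V, ElJD N U ν ∧ ElInv N W ∧ Disjoint U W ∧ U ⊔ W = M := by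
  induction h with
  | bot =>
    intro ν hν
    have : ν = 0 := le_bot_iff.mp hν
    subst this
    exact ⟨⊥, ⊥, ElJD.bot, el_inv_bot N, disjoint_bot_left, bot_sup_eq _⟩
  | cons Z M a μ ha hZ hM hdisj ih =>
    intro ν hν
    by_cases hmem : a ∈ ν
    · rw [← Multiset.cons_erase hmem, Multiset.cons_le_cons_iff] at hν
      obtain ⟨U', W', hU', hW', hUW', hsup⟩ := ih _ hν
      have hU'M : U' ≤ M := hsup ▸ le_sup_left
      refine ⟨Z ⊔ U', W', ?_, hW', ?_, ?_⟩
      · rw [← Multiset.cons_erase hmem]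
        exact ElJD.cons Z U' a _ ha hZ hU' (hdisj.mono_right hU'M)
      · apply Disjoint.disjoint_sup_left_of_disjoint_sup_right hUW'
        rw [hsup]
        exact hdisj
      · rw [sup_assoc, hsup]
    · rw [Multiset.le_cons_of_notMem hmem] at hν
      obtain ⟨U', W', hU', hW', hUW', hsup⟩ := ih _ hν
      refine ⟨U', Z ⊔ W', hU', el_inv_sup (el_cyc_inv hZ) hW', ?_, ?_⟩
      · rw [sup_comm Z W']
        apply Disjoint.disjoint_sup_right_of_disjoint_sup_left hUW'
        rw [hsup]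
        exact hdisj.symm
      · rw [← sup_assoc, sup_comm U' Z, sup_assoc, hsup]

end

end Cfsg.Agent.Lib.Helper24
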