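import Mathlib
import Cfsg.Agent.Lib.Helper24.ElO

set_option autoImplicit false

namespace Cfsg.Agent.Lib.Helper24

open Module

section
variable {F : Type*} [Field F] {V : Type*} [AddCommGroup V] [Module F V]

theorem el_tri (N : Module.End F V) (v : V) (k : ℕ) (hk : (N ^ k) v = 0) (φ : V →ₗ[F] F)
    (hφ : φ ((N ^ (k - 1)) v) ≠ 0) (c : Fin k → F)
    (h : ∀ j < k, φ ((N ^ j) (∑ l : Fin k, c l • (N ^ (l : ℕ)) v)) = 0) : ∀ l : Fin k, c l = 0 := by
  have key : ∀ t : ℕ, ∀ l : Fin k, (l : ℕ) = t → c l = 0 := by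
    intro t
    induction t using Nat.strong_induction_on with
    | _ t ih =>
      intro l hl
      have hlk : (l : ℕ) < k := l.isLt
      have h1 := h (k - 1 - (l : ℕ)) (by omega)
      rw [map_sum, map_sum] at h1
      have h2 : ∀ i : Fin k, i ≠ l →
          φ ((N ^ (k - 1 - (l : ℕ))) (c i • (N ^ (i : ℕ)) v)) = 0 := by
        intro i hil
        rcases Nat.lt_or_ge (i : ℕ) (l : ℕ) with hlt | hge
        · rw [ih (i : ℕ) (by omega) i rfl, zero_smul, map_zero, map_zero]
        · have hne : (i : ℕ) ≠ (l : ℕ) := fun he => hil (Fin.ext he)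
          have e : (N ^ (k - 1 - (l : ℕ))) ((N ^ (i : ℕ)) v) = 0 := by
            rw [← Module.End.mul_apply, ← pow_add]
            exact el_pow_ge_zero N v k hk _ (by omega)
          rw [map_smul, e, smul_zero, map_zero]
      rw [Finset.sum_eq_single l (fun i _ hil => h2 i hil) (fun hl => absurd (Finset.mem_univ l) hl)]
        at h1
      have e : (N ^ (k - 1 - (l : ℕ))) ((N ^ (l : ℕ)) v) = (N ^ (k - 1)) v := by
        rw [← Module.End.mul_apply, ← pow_add]
        congr 2
        omega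
      rw [map_smul, e, map_smul, smul_eq_mul] at h1
      exact (mul_eq_zero.mp h1).resolve_right hφ
  intro l
  exact key l l rfl

theorem el_tri_li (N : Module.End F V) (v : V) (k : ℕ) (hk : (N ^ k) v = 0) (φ : V →ₗ[F] F)
    (hφ : φ ((N ^ (k - 1)) v) ≠ 0) : LinearIndependent F (fun l : Fin k => (N ^ (l : ℕ)) v) := by
  rw [Fintype.linearIndependent_iff]
  intro c hc
  apply el_tri N v k hk φ hφ c
  intro j _
  rw [hc, map_zero, map_zero]

theorem el_jd_step [FiniteDimensional F V] (N : Module.End F V) (M : Submodule F V)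
    (hM : ElInv N M) (hne : M ≠ ⊥) (K : ℕ) (hK : ∀ w ∈ M, (N ^ K) w = 0) :
    ∃ (Z M' : Submodule F V) (a : ℕ), 1 ≤ a ∧ ElCyc N Z a ∧ ElInv N M' ∧ Disjoint Z M' ∧
      Z ⊔ M' = M := by
  classical
  have hex : ∃ j, ∀ w ∈ M, (N ^ j) w = 0 := ⟨K, hK⟩
  set k := Nat.find hex with hkdef
  have hk : ∀ w ∈ M, (N ^ k) w = 0 := Nat.find_spec hex
  have hk0 : k ≠ 0 := by
    intro h0
    apply hne
    rw [eq_bot_iff]
    intro w hw
    have := hk w hw
    rw [h0, pow_zero, Module.End.one_apply] at this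
    rw [this]
    exact Submodule.zero_mem _
  obtain ⟨v, hvM, hv⟩ : ∃ v ∈ M, (N ^ (k - 1)) v ≠ 0 := by
    by_contra hcon
    push Not at hcon
    exact Nat.find_min hex (by omega : k - 1 < k) hcon
  obtain ⟨φ, hφ⟩ : ∃ φ : V →ₗ[F] F, φ ((N ^ (k - 1)) v) ≠ 0 := by
    by_contra hcon
    push Not at hcon
    exact hv ((Module.forall_dual_apply_eq_zero_iff F _).mp hcon)
  have hli := el_tri_li N v k (hk v hvM) φ hφ
  let Z : Submodule F V := Submodule.span F (Set.range (fun l : Fin k => (N ^ (l : ℕ)) v))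
  have hZ : ElCyc N Z k := ⟨v, hk v hvM, hli, rfl⟩
  have hZM : Z ≤ M := by
    rw [Submodule.span_le]
    rintro _ ⟨l, rfl⟩
    exact el_pow_mem hM _ hvM
  let Ψ : V →ₗ[F] (Fin k → F) := LinearMap.pi (fun l : Fin k => φ ∘ₗ (N ^ (l : ℕ)))
  have hΨ : ∀ w, w ∈ LinearMap.ker Ψ ↔ ∀ j < k, φ ((N ^ j) w) = 0 := by
    intro w
    rw [LinearMap.mem_ker]
    constructor
    · intro h j hj
      have := congrFun h ⟨j, hj⟩
      exact this
    · intro h
      funext l
      exact h l l.isLt
  have hM'inv : ElInv N (M ⊓ LinearMap.ker Ψ) := by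
    intro w hw
    obtain ⟨hwM, hwΨ⟩ := Submodule.mem_inf.mp hw
    refine Submodule.mem_inf.mpr ⟨hM w hwM, ?_⟩
    rw [hΨ] at hwΨ ⊢
    intro j hj
    have e : (N ^ j) (N w) = (N ^ (j + 1)) w := by
      rw [pow_succ, Module.End.mul_apply]
    rw [e]
    by_cases hj1 : j + 1 < k
    · exact hwΨ _ hj1
    · have : j + 1 = k := by omega
      rw [this, hk w hwM, map_zero]
  have hdisj : Disjoint Z (M ⊓ LinearMap.ker Ψ) := by
    rw [Submodule.disjoint_def]
    intro z hzZ hzM'
    obtain ⟨c, hc⟩ := (Submodule.mem_span_range_iff_exists_fun F).mp hzZ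
    have hzΨ := (hΨ z).mp (Submodule.mem_inf.mp hzM').2
    rw [← hc] at hzΨ
    have hc0 := el_tri N v k (hk v hvM) φ hφ c hzΨ
    rw [← hc]
    apply Finset.sum_eq_zero
    intro l _
    rw [hc0 l, zero_smul]
  refine ⟨Z, M ⊓ LinearMap.ker Ψ, k, by omega, hZ, hM'inv, hdisj, ?_⟩
  apply Submodule.eq_of_le_of_finrank_le (sup_le hZM inf_le_left)
  have h1 := Submodule.finrank_sup_add_finrank_inf_eq Z (M ⊓ LinearMap.ker Ψ)
  rw [hdisj.eq_bot, finrank_bot, add_zero] at h1
  have hZd : finrank F Z = k := by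
    show finrank F (Submodule.span F (Set.range (fun l : Fin k => (N ^ (l : ℕ)) v))) = k
    rw [finrank_span_eq_card hli, Fintype.card_fin]
  have h2 := Submodule.finrank_sup_add_finrank_inf_eq M (LinearMap.ker Ψ)
  have h3 := LinearMap.finrank_range_add_finrank_ker Ψ
  have h4 : finrank F (LinearMap.range Ψ) ≤ k := by
    have := Submodule.finrank_le (LinearMap.range Ψ)
    rwa [Module.finrank_fin_fun] at this
  have h5 : finrank F ↥(M ⊔ LinearMap.ker Ψ) ≤ finrank F V := Submodule.finrank_le _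
  omega

theorem el_jd_exists [FiniteDimensional F V] (N : Module.End F V) (K : ℕ) :
    ∀ (d : ℕ) (M : Submodule F V), finrank F M = d → ElInv N M → (∀ w ∈ M, (N ^ K) w = 0) →
      ∃ μ : Multiset ℕ, ElJD N M μ := by
  intro d
  induction d using Nat.strong_induction_on with
  | _ d ih =>
    intro M hMd hM hK
    by_cases hne : M = ⊥
    · subst hne
      exact ⟨0, ElJD.bot⟩
    · obtain ⟨Z, M', a, ha, hZ, hM', hdisj, hsup⟩ := el_jd_step N M hM hne K hK
      have h1 := Submodule.finrank_sup_add_finrank_inf_eq Z M'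
      rw [hdisj.eq_bot, finrank_bot, add_zero, hsup, hMd] at h1
      have hZd : finrank F Z = a := by
        have := el_cyc_map_finrank hZ 0
        rw [pow_zero] at this
        have e : Z.map (1 : Module.End F V) = Z := Submodule.map_id Z
        rw [e] at this
        simpa using this
      have hM'M : M' ≤ M := hsup ▸ le_sup_right
      obtain ⟨μ, hμ⟩ := ih (finrank F M') (by omega) M' rfl hM'
        (fun w hw => hK w (hM'M hw))
      refine ⟨a ::ₘ μ, ?_⟩
      rw [← hsup]
      exact ElJD.cons Z M' a μ ha hZ hμ hdisj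

theorem el_jd_le {N : Module.End F V} {M : Submodule F V} {μ : Multiset ℕ} (h : ElJD N M μ)
    (K : ℕ) : (∀ w ∈ M, (N ^ K) w = 0) → ∀ a ∈ μ, a ≤ K := by
  induction h with
  | bot => simp
  | cons Z M a μ ha hZ hM hdisj ih =>
    intro hK b hb
    rcases Multiset.mem_cons.mp hb with rfl | hb
    · obtain ⟨v, hv, hli, rfl⟩ := hZ
      by_contra hlt
      push Not at hlt
      have hvZ : v ∈ Submodule.span F (Set.range (fun l : Fin b => (N ^ (l : ℕ)) v)) := by
        apply Submodule.subset_span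
        exact ⟨⟨0, by omega⟩, by simp⟩
      have h0 := hK v (Submodule.mem_sup_left hvZ)
      exact hli.ne_zero ⟨K, hlt⟩ h0
    · exact ih (fun w hw => hK w (Submodule.mem_sup_right hw)) b hb

end

end Cfsg.Agent.Lib.Helper24
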