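import Mathlib
import Cfsg.Agent.Lib.Helper24.ElP

set_option autoImplicit false

universe u

namespace Cfsg.Agent.Lib.Helper24

open Module

section
variable {F : Type*} [Field F] {V : Type*} [AddCommGroup V] [Module F V]
  {V' : Type*} [AddCommGroup V'] [Module F V']

theorem el_intertwine_pow (N : Module.End F V) (N' : Module.End F V') (ι : V →ₗ[F] V')
    (h : ∀ v, N' (ι v) = ι (N v)) (l : ℕ) (v : V) : (N' ^ l) (ι v) = ι ((N ^ l) v) := by
  induction l generalizing v with
  | zero => simp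
  | succ l ih =>
    rw [pow_succ, pow_succ, Module.End.mul_apply, Module.End.mul_apply, h, ih]

theorem el_cyc_map (N : Module.End F V) (N' : Module.End F V') (ι : V →ₗ[F] V')
    (hι : LinearMap.ker ι = ⊥) (h : ∀ v, N' (ι v) = ι (N v)) {Z : Submodule F V} {a : ℕ}
    (hZ : ElCyc N Z a) : ElCyc N' (Z.map ι) a := by
  obtain ⟨v, hv, hli, rfl⟩ := hZ
  refine ⟨ι v, ?_, ?_, ?_⟩
  · rw [el_intertwine_pow N N' ι h, hv, map_zero]
  · have := hli.map' ι hι
    have e : (fun l : Fin a => (N' ^ (l : ℕ)) (ι v)) = ⇑ι ∘ (fun l : Fin a => (N ^ (l : ℕ)) v) := by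
      funext l
      exact el_intertwine_pow N N' ι h _ v
    rw [e]
    exact this
  · rw [Submodule.map_span, ← Set.range_comp]
    congr 2
    funext l
    exact (el_intertwine_pow N N' ι h _ v).symm

theorem el_jd_map (N : Module.End F V) (N' : Module.End F V') (ι : V →ₗ[F] V')
    (hι : LinearMap.ker ι = ⊥) (h : ∀ v, N' (ι v) = ι (N v)) {M : Submodule F V}
    {μ : Multiset ℕ} (hM : ElJD N M μ) : ElJD N' (M.map ι) μ := by
  induction hM with
  | bot =>
    rw [Submodule.map_bot]
    exact ElJD.bot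
  | cons Z M a μ ha hZ _ hdisj ih =>
    rw [Submodule.map_sup]
    exact ElJD.cons _ _ a μ ha (el_cyc_map N N' ι hι h hZ) ih
      (Submodule.disjoint_map (LinearMap.ker_eq_bot.mp hι) hdisj)

theorem el_jd_kill {N : Module.End F V} {M : Submodule F V} {μ : Multiset ℕ} (h : ElJD N M μ)
    (K : ℕ) : (∀ a ∈ μ, a ≤ K) → ∀ w ∈ M, (N ^ K) w = 0 := by
  induction h with
  | bot =>
    intro _ w hw
    rw [(Submodule.mem_bot F).mp hw, map_zero]
  | cons Z M a μ ha hZ hM hdisj ih =>
    intro hK w hw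
    obtain ⟨z, hz, m, hm, rfl⟩ := Submodule.mem_sup.mp hw
    rw [map_add, ih (fun b hb => hK b (Multiset.mem_cons_of_mem hb)) m hm, add_zero]
    obtain ⟨v, hv, _, rfl⟩ := hZ
    have haK : a ≤ K := hK a (Multiset.mem_cons_self a μ)
    have hle : Submodule.span F (Set.range (fun l : Fin a => (N ^ (l : ℕ)) v)) ≤
        LinearMap.ker (N ^ K) := by
      rw [Submodule.span_le]
      rintro _ ⟨l, rfl⟩
      show (N ^ (l : ℕ)) v ∈ LinearMap.ker (N ^ K)
      rw [LinearMap.mem_ker, ← Module.End.mul_apply, ← pow_add]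
      exact el_pow_ge_zero N v a hv _ (by omega)
    exact LinearMap.mem_ker.mp (hle hz)

end

section
variable (F : Type*) [Field F]

noncomputable def elShift (a : ℕ) : Module.End F (Fin a → F) :=
  (Pi.basisFun F (Fin a)).constr F
    (fun j => if h : (j : ℕ) + 1 < a then
      (Pi.single (⟨(j : ℕ) + 1, h⟩ : Fin a) (1 : F) : Fin a → F) else 0)

theorem elShift_single (a : ℕ) (j : Fin a) :
    elShift F a (Pi.single j 1) =
      if h : (j : ℕ) + 1 < a then
        (Pi.single (⟨(j : ℕ) + 1, h⟩ : Fin a) (1 : F) : Fin a → F) else 0 := by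
  unfold elShift
  have := (Pi.basisFun F (Fin a)).constr_basis F
    (fun j => if h : (j : ℕ) + 1 < a then
      (Pi.single (⟨(j : ℕ) + 1, h⟩ : Fin a) (1 : F) : Fin a → F) else 0) j
  rw [Pi.basisFun_apply] at this
  exact this

theorem elShift_pow (a : ℕ) (ha : 1 ≤ a) (l : ℕ) (hl : l < a) :
    (elShift F a ^ l) (Pi.single (⟨0, ha⟩ : Fin a) 1) = Pi.single (⟨l, hl⟩ : Fin a) (1 : F) := by
  induction l with
  | zero => simp
  | succ l ih =>
    rw [pow_succ', Module.End.mul_apply, ih (by omega), elShift_single, dif_pos hl]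

theorem elShift_cyc (a : ℕ) (ha : 1 ≤ a) : ElCyc (elShift F a) ⊤ a := by
  refine ⟨Pi.single (⟨0, ha⟩ : Fin a) 1, ?_, ?_, ?_⟩
  · obtain ⟨a', rfl⟩ : ∃ a', a = a' + 1 := ⟨a - 1, by omega⟩
    rw [pow_succ', Module.End.mul_apply, elShift_pow F (a' + 1) ha a' (by omega), elShift_single,
      dif_neg (by simp)]
  · have e : (fun l : Fin a => (elShift F a ^ (l : ℕ)) (Pi.single (⟨0, ha⟩ : Fin a) 1)) =
        ⇑(Pi.basisFun F (Fin a)) := by
      funext l
      rw [elShift_pow F a ha l l.isLt, Pi.basisFun_apply]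
    rw [e]
    exact (Pi.basisFun F (Fin a)).linearIndependent
  · have e : (fun l : Fin a => (elShift F a ^ (l : ℕ)) (Pi.single (⟨0, ha⟩ : Fin a) 1)) =
        ⇑(Pi.basisFun F (Fin a)) := by
      funext l
      rw [elShift_pow F a ha l l.isLt, Pi.basisFun_apply]
    rw [e, (Pi.basisFun F (Fin a)).span_eq]

end

theorem el_jd_build (F : Type u) [Field F] (μ : Multiset ℕ) (hμ : ∀ a ∈ μ, 1 ≤ a) :
    ∃ (V : Type u) (_ : AddCommGroup V) (_ : Module F V) (_ : FiniteDimensional F V)
      (N : Module.End F V), ElJD N ⊤ μ := by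
  induction μ using Multiset.induction with
  | empty =>
    refine ⟨PUnit.{u + 1}, inferInstance, inferInstance, inferInstance, 0, ?_⟩
    have : (⊤ : Submodule F PUnit.{u + 1}) = ⊥ := Subsingleton.elim _ _
    rw [this]
    exact ElJD.bot
  | cons a μ ih =>
    obtain ⟨V, i1, i2, i3, N, hN⟩ := ih (fun b hb => hμ b (Multiset.mem_cons_of_mem hb))
    have ha : 1 ≤ a := hμ a (Multiset.mem_cons_self a μ)
    refine ⟨(Fin a → F) × V, inferInstance, inferInstance, inferInstance,
      LinearMap.prodMap (elShift F a) N, ?_⟩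
    have h1 := el_cyc_map (elShift F a) (LinearMap.prodMap (elShift F a) N)
      (LinearMap.inl F (Fin a → F) V) (LinearMap.ker_eq_bot.mpr LinearMap.inl_injective)
      (fun v => by simp) (elShift_cyc F a ha)
    have h2 := el_jd_map N (LinearMap.prodMap (elShift F a) N)
      (LinearMap.inr F (Fin a → F) V) (LinearMap.ker_eq_bot.mpr LinearMap.inr_injective)
      (fun v => by simp) hN
    have h3 := ElJD.cons _ _ a μ ha h1 h2 (by
      rw [Submodule.map_top, Submodule.map_top]
      exact LinearMap.disjoint_inl_inr)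
    rw [Submodule.map_top, Submodule.map_top, LinearMap.sup_range_inl_inr] at h3
    exact h3

end Cfsg.Agent.Lib.Helper24
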