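import Mathlib
import Cfsg.Agent.Lib.Helper24.ElQ

set_option autoImplicit false

universe u

namespace Cfsg.Agent.Lib.Helper24

open Polynomial Module

theorem el_add_one_pow_char {F : Type*} [Field F] {p : ℕ} [hp : Fact p.Prime] [CharP F p]
    {V : Type*} [AddCommGroup V] [Module F V] (N : Module.End F V) :
    (N + 1) ^ p = N ^ p + 1 := by
  have h : (X + 1 : F[X]) ^ p = X ^ p + 1 := by rw [add_pow_char, one_pow]
  have := congrArg (aeval N) h
  simpa using this

theorem el_sub_one_pow_char {F : Type*} [Field F] {p : ℕ} [hp : Fact p.Prime] [CharP F p]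
    {V : Type*} [AddCommGroup V] [Module F V] (f : Module.End F V) :
    (f - 1) ^ p = f ^ p - 1 := by
  have h : (X - 1 : F[X]) ^ p = X ^ p - 1 := by rw [sub_pow_char, one_pow]
  have := congrArg (aeval f) h
  simpa using this

theorem el_char_coprime {F : Type*} [Field F] [Fintype F] {p : ℕ} [hp : Fact p.Prime] [CharP F p] :
    Nat.Coprime (Fintype.card F - 1) p := by
  obtain ⟨e, _, he⟩ := FiniteField.card F p
  have h1 : p ∣ Fintype.card F := by
    rw [he]
    exact dvd_pow_self p e.ne_zero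
  have h2 : 1 ≤ Fintype.card F := Fintype.card_pos
  apply Nat.Coprime.symm
  rw [Nat.Prime.coprime_iff_not_dvd hp.out]
  intro h3
  have h4 : p ∣ 1 := by
    have := Nat.dvd_sub h1 h3
    have e1 : Fintype.card F - (Fintype.card F - 1) = 1 := by omega
    rwa [e1] at this
  exact hp.out.one_lt.ne' (Nat.dvd_one.mp h4)

theorem el_unip_build {F : Type u} [Field F] [Fintype F] {p : ℕ} [hp : Fact p.Prime] [CharP F p]
    (n : ℕ) (μ : Multiset ℕ) (hμ : ∀ a ∈ μ, 0 < a ∧ a ≤ p) (hsum : μ.sum = n)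
    (hne : ∃ a ∈ μ, a ≠ 1) :
    ∃ x : Matrix (Fin n) (Fin n) F, x.det = 1 ∧ x ^ p = (1 : F) • 1 ∧ (∀ c : F, x ≠ c • 1) ∧
      ∀ U W : Submodule F (Fin n → F), IsCompl U W → U.map (Matrix.toLin' x) ≤ U →
        W.map (Matrix.toLin' x) ≤ W → ∃ ν : Multiset ℕ, ν ≤ μ ∧ ν.sum = finrank F U := by
  obtain ⟨V, i1, i2, i3, N, hN⟩ := el_jd_build F μ (fun a ha => (hμ a ha).1)
  have hNp : N ^ p = 0 := by
    apply LinearMap.ext
    intro w
    exact el_jd_kill hN p (fun a ha => (hμ a ha).2) w Submodule.mem_top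
  have hg : (N + 1) ^ p = (1 : F) • 1 := by
    rw [el_add_one_pow_char, hNp, zero_add, one_smul]
  have hfr : finrank F V = n := by
    rw [← finrank_top F V, el_jd_finrank hN, hsum]
  obtain ⟨x, e, hdet, hpow, hsc, hinv⟩ := el_transport2 n hfr (N + 1)
  have hxp := hpow p 1 hg
  refine ⟨x, ?_, hxp, ?_, ?_⟩
  · apply el_eq_one_of_pow p el_char_coprime _ _ hp.out.ne_zero
    rw [← Matrix.det_pow, hxp, one_smul, Matrix.det_one]
  · intro c hc
    have h1 := hsc c hc
    have hN0 : N = 0 := by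
      have h2 : N = (c - 1) • 1 := by
        rw [sub_smul, one_smul, ← h1]
        abel
      by_cases hc1 : c - 1 = 0
      · rw [h2, hc1, zero_smul]
      · have h3 : (c - 1) ^ p • (1 : Module.End F V) = 0 := by
          rw [← hNp, h2, _root_.smul_pow, one_pow]
        have h4 : (1 : Module.End F V) = 0 :=
          (smul_eq_zero.mp h3).resolve_left (pow_ne_zero _ hc1)
        rw [← mul_one N, h4, mul_zero]
    have h5 := el_jd_map_finrank hN 1
    rw [pow_one, hN0] at h5
    have h6 : (⊤ : Submodule F V).map (0 : Module.End F V) = ⊥ := Submodule.map_zero _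
    rw [h6, finrank_bot] at h5
    obtain ⟨a, ha, ha1⟩ := hne
    have h7 := (Multiset.sum_eq_zero_iff.mp h5.symm) (a - 1) (Multiset.mem_map_of_mem _ ha)
    have := (hμ a ha).1
    omega
  · intro U W hUW hU hW
    have hU' := hinv U hU
    have hW' := hinv W hW
    have hNinv : ∀ M : Submodule F V, ElInv (N + 1) M → ElInv N M := by
      intro M hM w hw
      have h1 := hM w hw
      rw [LinearMap.add_apply, Module.End.one_apply] at h1
      have := M.sub_mem h1 hw
      rwa [add_sub_cancel_right] at this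
    have hcompl : IsCompl (U.map (e : (Fin n → F) →ₗ[F] V)) (W.map (e : (Fin n → F) →ₗ[F] V)) :=
      (Submodule.orderIsoMapComap e).isCompl hUW
    have hkill : ∀ M : Submodule F V, ∀ w ∈ M, (N ^ p) w = 0 := by
      intro M w _
      rw [hNp, LinearMap.zero_apply]
    obtain ⟨ν, hν⟩ := el_jd_exists N p _ _ rfl (hNinv _ hU') (hkill _)
    obtain ⟨ν', hν'⟩ := el_jd_exists N p _ _ rfl (hNinv _ hW') (hkill _)
    have hsup := el_jd_sup hν hν' hcompl.disjoint
    rw [hcompl.sup_eq_top] at hsup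
    have hμeq := el_jd_unique hN hsup
    refine ⟨ν, ?_, ?_⟩
    · rw [hμeq]
      exact Multiset.le_add_right ν ν'
    · rw [← el_jd_finrank hν]
      exact LinearEquiv.finrank_map_eq e U

theorem el_unip_suff {F : Type*} [Field F] [Fintype F] {p : ℕ} [hp : Fact p.Prime] [CharP F p]
    (n m : ℕ)
    (hPC : ∀ μ : Multiset ℕ, (∀ a ∈ μ, 0 < a ∧ a ≤ p) → μ.sum = n →
      ∃ ν : Multiset ℕ, ν ≤ μ ∧ ν.sum = m)
    (x : Matrix (Fin n) (Fin n) F) (c : F) (hx : x ^ p = c • 1) (hc : c ≠ 0) :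
    ∃ U W : Submodule F (Fin n → F), IsCompl U W ∧ finrank F U = m ∧
      U.map (Matrix.toLin' x) ≤ U ∧ W.map (Matrix.toLin' x) ≤ W := by
  have hfr : finrank F (Fin n → F) = n := Module.finrank_fin_fun F
  obtain ⟨c₀, rfl⟩ := el_all_pow p hp.out.ne_zero el_char_coprime c
  have hc₀ : c₀ ≠ 0 := by
    intro h
    rw [h, zero_pow hp.out.ne_zero] at hc
    exact hc rfl
  have hf : Matrix.toLin' x ^ p = c₀ ^ p • 1 := by
    rw [← Matrix.toLin'_pow, hx, map_smul, Matrix.toLin'_one]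
    rfl
  have hf' : (c₀⁻¹ • Matrix.toLin' x) ^ p = 1 := by
    rw [_root_.smul_pow, hf, smul_smul, inv_pow, inv_mul_cancel₀ (pow_ne_zero _ hc₀), one_smul]
  set N : Module.End F (Fin n → F) := c₀⁻¹ • Matrix.toLin' x - 1 with hNdef
  have hNp : N ^ p = 0 := by
    rw [hNdef, el_sub_one_pow_char, hf', sub_self]
  have hkill : ∀ w ∈ (⊤ : Submodule F (Fin n → F)), (N ^ p) w = 0 := by
    intro w _
    rw [hNp, LinearMap.zero_apply]
  obtain ⟨μ, hμ⟩ := el_jd_exists N p _ ⊤ rfl (fun _ _ => Submodule.mem_top) hkill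
  have hsum : μ.sum = n := by
    rw [← el_jd_finrank hμ, finrank_top, hfr]
  obtain ⟨ν, hνle, hνsum⟩ := hPC μ (fun a ha => ⟨el_jd_pos hμ a ha, el_jd_le hμ p hkill a ha⟩) hsum
  obtain ⟨U, W, hU, hW, hdisj, hsup⟩ := el_jd_split hμ ν hνle
  have hback : ∀ M : Submodule F (Fin n → F), ElInv N M → M.map (Matrix.toLin' x) ≤ M := by
    intro M hM
    rw [el_inv_iff]
    intro w hw
    have h1 := M.add_mem (hM w hw) hw
    rw [hNdef, LinearMap.sub_apply, Module.End.one_apply, sub_add_cancel, LinearMap.smul_apply]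
      at h1
    have h2 := M.smul_mem c₀ h1
    rwa [smul_smul, mul_inv_cancel₀ hc₀, one_smul] at h2
  exact ⟨U, W, ⟨hdisj, codisjoint_iff.mpr hsup⟩, by rw [el_jd_finrank hU, hνsum],
    hback U (el_jd_inv hU), hback W hW⟩

end Cfsg.Agent.Lib.Helper24
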