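import Mathlib
import Cfsg.Agent.Lib.Helper1.ODN.Defs

set_option autoImplicit false
set_option linter.unusedVariables false

namespace Cfsg.Agent.Lib.Helper1.ODN

open Matrix

theorem odnnormalize_mem {F : Type*} [Field F] {ι : Type} [Fintype ι] [DecidableEq ι]
    (Q : (ι → F) → F) (g : GL ι F) :
    g ∈ Cfsg.isometryGroup F Q ↔ ∀ v, Q ((g : Matrix ι ι F) *ᵥ v) = Q v :=
  ⟨fun h v => h v v, fun h v _ => h v⟩

theorem odn_normalize {F : Type*} [Field F] (h2 : (2 : F) ≠ 0) {ι : Type} [Fintype ι] [DecidableEq ι]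
    (Q : QuadraticForm F (ι → F)) (hne : ∃ v, Q v ≠ 0) (x : GL ι F)
    (hx : x ∈ Cfsg.isometryGroup F ⇑Q) (r : ℕ) (hr : Odd r) (z : F)
    (hz : ((x ^ r : GL ι F) : Matrix ι ι F) = z • (1 : Matrix ι ι F)) :
    ∃ x' : GL ι F, x' ∈ Cfsg.isometryGroup F ⇑Q ∧ x' ^ r = 1 ∧
      (∀ W : Submodule F (ι → F), W.map (Matrix.toLin' (x' : Matrix ι ι F)) ≤ W ↔
        W.map (Matrix.toLin' (x : Matrix ι ι F)) ≤ W) ∧
      ((∀ z' : F, (x : Matrix ι ι F) ≠ z' • (1 : Matrix ι ι F)) → x' ≠ 1) := by
  have hxr : x ^ r ∈ Cfsg.isometryGroup F ⇑Q := Subgroup.pow_mem _ hx r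
  rw [odnnormalize_mem] at hxr hx
  obtain ⟨v, hv⟩ := hne
  have hzz : z * z = 1 := by
    have h1 := hxr v
    rw [hz, Matrix.smul_mulVec, Matrix.one_mulVec, QuadraticMap.map_smul, smul_eq_mul] at h1
    have h3 : (z * z - 1) * Q v = 0 := by
      rw [sub_mul, h1, one_mul, sub_self]
    rcases mul_eq_zero.mp h3 with h | h
    · exact sub_eq_zero.mp h
    · exact absurd h hv
  have hz1 : z = 1 ∨ z = -1 := mul_self_eq_one_iff.mp hzz
  rcases hz1 with rfl | rfl
  · refine ⟨x, (odnnormalize_mem _ _).mpr hx, ?_, fun W => Iff.rfl, ?_⟩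
    · apply Units.ext
      rw [hz, one_smul]
      rfl
    · intro h hx1
      apply h 1
      rw [hx1, one_smul]
      rfl
  · refine ⟨-x, (odnnormalize_mem _ _).mpr ?_, ?_, ?_, ?_⟩
    · intro w
      rw [Units.val_neg, Matrix.neg_mulVec, QuadraticMap.map_neg]
      exact hx w
    · apply Units.ext
      rw [Units.val_pow_eq_pow_val, Units.val_neg, Odd.neg_pow hr, ← Units.val_pow_eq_pow_val, hz,
        neg_smul, one_smul, neg_neg]
      rfl
    · intro W
      rw [Units.val_neg, map_neg, Submodule.map_le_iff_le_comap, Submodule.map_le_iff_le_comap]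
      constructor
      · intro h w hw
        have h1 := h hw
        rw [Submodule.mem_comap, LinearMap.neg_apply] at h1
        rw [Submodule.mem_comap]
        exact (Submodule.neg_mem_iff W).mp h1
      · intro h w hw
        have h1 := h hw
        rw [Submodule.mem_comap] at h1
        rw [Submodule.mem_comap, LinearMap.neg_apply]
        exact (Submodule.neg_mem_iff W).mpr h1
    · intro h hx1
      apply h (-1)
      have h3 : ((-x : GL ι F) : Matrix ι ι F) = 1 := by
        rw [hx1]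
        rfl
      rw [Units.val_neg] at h3
      rw [neg_smul, one_smul, ← h3, neg_neg]

end Cfsg.Agent.Lib.Helper1.ODN
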