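import Mathlib
import Cfsg.Agent.Lib.Helper1.ODN.Defs
import Cfsg.Agent.Lib.Helper24.ODNNORMALIZE
import Cfsg.Agent.Lib.Helper24.ODNFROZEN

set_option autoImplicit false
set_option linter.unusedVariables false

namespace Cfsg.Agent.Lib.Helper1.ODN

open Polynomial Module Matrix Cfsg.Agent.Lib.Helper13.S5955 Cfsg.Agent.Lib.helper15.S5972 Cfsg.Agent.Lib.Helper18.ONE

theorem odnrealize_pow {ι : Type} [Fintype ι] [DecidableEq ι] {F : Type*} [Field F] (x : GL ι F) (r : ℕ) :
    (Matrix.toLin' (x : Matrix ι ι F)) ^ r = Matrix.toLin' ((x ^ r : GL ι F) : Matrix ι ι F) := by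
  induction r with
  | zero =>
    rw [pow_zero, pow_zero, Units.val_one, Matrix.toLin'_one]
    rfl
  | succ n ih =>
    rw [pow_succ, pow_succ, ih, Units.val_mul, Matrix.toLin'_mul]
    rfl

theorem odn_realize {F : Type*} [Field F] (h2 : (2 : F) ≠ 0) {ι : Type} [Fintype ι] [DecidableEq ι]
    (Q : QuadraticForm F (ι → F)) (r : ℕ) (hr : 0 < r) (y : Module.End F (ι → F))
    (h : OCtx r (QuadraticMap.polarBilin Q) y) :
    ∃ x : GL ι F, x ∈ Cfsg.isometryGroup F ⇑Q ∧ Matrix.toLin' (x : Matrix ι ι F) = y ∧ x ^ r = 1 := by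
  classical
  have hinj : Function.Injective y := by
    rw [← LinearMap.ker_eq_bot, LinearMap.ker_eq_bot']
    intro u hu
    apply h.nd
    intro v
    rw [← h.pres u v, hu, map_zero, LinearMap.zero_apply]
  have hbij : Function.Bijective y := ⟨hinj, LinearMap.surjective_of_injective hinj⟩
  let e : (ι → F) ≃ₗ[F] (ι → F) := LinearEquiv.ofBijective y hbij
  let M : Matrix ι ι F := LinearMap.toMatrix' y
  let Mi : Matrix ι ι F := LinearMap.toMatrix' (e.symm : (ι → F) →ₗ[F] (ι → F))
  have h1 : M * Mi = 1 := by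
    rw [← LinearMap.toMatrix'_comp, ← LinearMap.toMatrix'_id]
    congr 1
    apply LinearMap.ext
    intro v
    exact e.apply_symm_apply v
  have h2' : Mi * M = 1 := by
    rw [← LinearMap.toMatrix'_comp, ← LinearMap.toMatrix'_id]
    congr 1
    apply LinearMap.ext
    intro v
    exact e.symm_apply_apply v
  let x : GL ι F := ⟨M, Mi, h1, h2'⟩
  have hxy : Matrix.toLin' (x : Matrix ι ι F) = y := Matrix.toLin'_toMatrix' y
  refine ⟨x, ?_, hxy, ?_⟩
  · rw [odnnormalize_mem]
    intro v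
    have hv : (x : Matrix ι ι F) *ᵥ v = y v := by
      rw [← Matrix.toLin'_apply, hxy]
    rw [hv]
    have h3 := h.pres v v
    rw [odnfrozen_self, odnfrozen_self] at h3
    exact mul_left_cancel₀ h2 h3
  · apply Units.ext
    rw [Units.val_pow_eq_pow_val, Units.val_one]
    apply Matrix.toLin'.injective
    have hp := odnrealize_pow x r
    rw [hxy, h.pow] at hp
    rw [← Units.val_pow_eq_pow_val, ← hp, Matrix.toLin'_one]
    rfl

theorem odn_std_ctx {F : Type*} [Field F] {ι : Type} [Fintype ι] [DecidableEq ι]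
    (Q : QuadraticForm F (ι → F)) (hQ : (QuadraticMap.polarBilin Q).Nondegenerate) :
    (∀ x : GL ι F, x ∈ Cfsg.Geo.omegaGL (⇑Q) → x ∈ Cfsg.isometryGroup F ⇑Q) ∧
      ∀ (r : ℕ) (x : GL ι F), x ∈ Cfsg.isometryGroup F ⇑Q → x ^ r = 1 →
        OCtx r (QuadraticMap.polarBilin Q) (Matrix.toLin' (x : Matrix ι ι F)) := by
  refine ⟨?_, ?_⟩
  · intro x hx
    obtain ⟨g, _, rfl⟩ := hx
    exact g.2
  · intro r x hx hxr
    have hpres := (odnnormalize_mem (⇑Q) x).mp hx
    refine ⟨?_, ?_, ?_, ?_⟩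
    · intro u v
      exact QuadraticMap.polar_comm _ u v
    · intro u hu
      exact hQ.1 u hu
    · intro u v
      change QuadraticMap.polar (⇑Q) _ _ = QuadraticMap.polar (⇑Q) u v
      unfold QuadraticMap.polar
      rw [← map_add]
      simp only [Matrix.toLin'_apply]
      rw [hpres, hpres, hpres]
    · rw [odnrealize_pow, hxr, Units.val_one, Matrix.toLin'_one]
      rfl

end Cfsg.Agent.Lib.Helper1.ODN
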