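import Mathlib
import Cfsg.Agent.Lib.Helper1.ODN.Defs
import Cfsg.Agent.Lib.Helper24.ODNNORMALIZE
import Cfsg.Agent.Lib.Helper24.ODNFROZEN
import Cfsg.Agent.Lib.Helper24.ODNREALIZE
import Cfsg.Agent.Lib.Helper24.ODNSTDTY
import Cfsg.Agent.Lib.Helper25.ODNFIXBOT
import Cfsg.Agent.Lib.helper8.ODNSUFFODD

set_option autoImplicit false
set_option linter.unusedVariables false

namespace Cfsg.Agent.Lib.Helper1.ODN

open Polynomial Module Cfsg.Agent.Lib.Helper13.S5955 Cfsg.Agent.Lib.helper15.S5972 Cfsg.Agent.Lib.Helper18.ONE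
  Cfsg.Agent.Lib.Helper16.OSemi

theorem odnsuffstd_two {F : Type*} [Field F] [Fintype F] (hodd : Odd (Fintype.card F)) : (2 : F) ≠ 0 := by
  intro h
  have hch : ringChar F = 2 := CharP.ringChar_of_prime_eq_zero Nat.prime_two (by exact_mod_cast h)
  have hev := FiniteField.even_card_of_char_two hch
  have ho := Nat.odd_iff.mp hodd
  omega

theorem odnsuffstd_ne {F : Type*} [Field F] {ι : Type} [Fintype ι] [DecidableEq ι]
    (Q : QuadraticForm F (ι → F)) (hQ : (QuadraticMap.polarBilin Q).Nondegenerate)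
    (hι : 0 < Fintype.card ι) : ∃ v, Q v ≠ 0 := by
  by_contra hcon
  push Not at hcon
  obtain ⟨i⟩ := Fintype.card_pos_iff.mp hι
  have h1 : (Pi.single i (1 : F) : ι → F) = 0 := by
    apply hQ.1
    intro v
    rw [QuadraticMap.polarBilin_apply_apply]
    unfold QuadraticMap.polar
    rw [hcon, hcon, hcon, sub_zero, sub_zero]
  have h3 := congrFun h1 i
  rw [Pi.single_eq_same] at h3
  exact one_ne_zero h3

theorem odn_suff_std {F : Type*} [Field F] [Fintype F] {p : ℕ} [Fact p.Prime] [CharP F p]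
    (hodd : Odd (Fintype.card F)) {ι : Type} [Fintype ι] [DecidableEq ι] (Q : QuadraticForm F (ι → F))
    (hQ : (QuadraticMap.polarBilin Q).Nondegenerate) (d m : ℕ) (hd : 4 ≤ d)
    (hcard : Fintype.card ι = 2 * d) (ε : ℤ) (hε : ε = 1 ∨ ε = -1) (htyQ : IsType (⇑Q) d ε)
    (hm : Odd m) (hmd : m < d) (W₀ : Submodule F (ι → F))
    (hW₀ : finrank F ↥W₀ = m ∧ Cfsg.Geo.IsNondegenerateOn (QuadraticMap.polar (⇑Q)) W₀)
    (r : ℕ) [Fact r.Prime] (hrp : r ≠ p) (hr2 : r ≠ 2) (i c : ℕ)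
    (hi : i = orderOf ((Fintype.card F : ℕ) : ZMod r)) (hc : c = if Even i then i else 2 * i)
    (hODC : ODC i c d m ε) (x : GL ι F) (hx : x ∈ Cfsg.Geo.omegaGL (⇑Q))
    (hz : ∃ z : F, ((x ^ r : GL ι F) : Matrix ι ι F) = z • (1 : Matrix ι ι F))
    (hns : ∀ z : F, (x : Matrix ι ι F) ≠ z • (1 : Matrix ι ι F)) :
    ∃ W : Submodule F (ι → F), (finrank F ↥W = m ∧ Cfsg.Geo.IsNondegenerateOn (QuadraticMap.polar (⇑Q)) W ∧
      Cfsg.Geo.AreIsometricFor (⇑Q) W W₀) ∧ W.map (Matrix.toLin' (x : Matrix ι ι F)) ≤ W := by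
  have h2 : (2 : F) ≠ 0 := odnsuffstd_two hodd
  have hrodd : Odd r := (Fact.out : r.Prime).odd_of_ne_two hr2
  have hxiso := (odn_std_ctx Q hQ).1 x hx
  have hne := odnsuffstd_ne Q hQ (by omega)
  obtain ⟨z, hz⟩ := hz
  obtain ⟨x', hx'iso, hx'r, hinv, hx'ne⟩ := odn_normalize h2 Q hne x hxiso r hrodd z hz
  have hx'1 := hx'ne hns
  have hctx := (odn_std_ctx Q hQ).2 r x' hx'iso hx'r
  obtain ⟨hty, hsymm, hnd, hV⟩ := odn_std_ty h2 Q hQ d hcard ε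
  have htyB := hty.mp htyQ
  have hfix : fixS (Matrix.toLin' (x' : Matrix ι ι F)) ≠ ⊥ := by
    intro hbot
    obtain ⟨hk, hiff⟩ := odn_fix_bot h2 hrp hr2 hctx d (by omega) hV i c hi hc ε hε htyB hbot
    rcases hODC with ⟨h1, _, _⟩ | ⟨_, h3⟩
    · omega
    · exact h3 hiff
  have hcond : m % c < (2 * d) % c ∨ (2 * d) % c = 0 := by
    rcases hODC with ⟨_, h1, _⟩ | ⟨h1, _⟩
    · exact Or.inl h1
    · exact Or.inr h1
  have hW₀nd : SND (QuadraticMap.polarBilin Q) W₀ := (odn_frozen h2 Q W₀ W₀).1.mp hW₀.2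
  obtain ⟨W, hWinv, hWnd, hWm, hWiso⟩ :=
    odn_suff_abs h2 hrp hr2 hctx d m hV hm hmd i c hi hc W₀ hW₀nd hW₀.1 hfix hcond
  obtain ⟨f1, f2, f3⟩ := odn_frozen h2 Q W W₀
  refine ⟨W, ⟨hWm, f1.mpr hWnd, f2.mpr hWiso⟩, ?_⟩
  exact (hinv W).mp ((f3 (x' : Matrix ι ι F)).mpr hWinv)

end Cfsg.Agent.Lib.Helper1.ODN
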