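import Mathlib
import Cfsg.Agent.Lib.Helper1.ODN.Defs
import Cfsg.Agent.Lib.Helper24.ODNNORMALIZE
import Cfsg.Agent.Lib.Helper24.ODNFROZEN
import Cfsg.Agent.Lib.Helper24.ODNREALIZE
import Cfsg.Agent.Lib.Helper24.ODNSTDTY
import Cfsg.Agent.Lib.Helper24.ODNSUFFSTD
import Cfsg.Agent.Lib.Helper20.ODNNECODD
import Cfsg.Agent.Lib.Helper18.OmegaOdd

set_option autoImplicit false
set_option linter.unusedVariables false

namespace Cfsg.Agent.Lib.Helper1.ODN

open Polynomial Module Cfsg.Agent.Lib.Helper13.S5955 Cfsg.Agent.Lib.helper15.S5972 Cfsg.Agent.Lib.Helper18.ONE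
  Cfsg.Agent.Lib.Helper16.OSemi

theorem odnnecstd_fix_one {F : Type*} [Field F] {V : Type*} [AddCommGroup V] [Module F V] :
    fixS (1 : Module.End F V) = ⊤ := by
  unfold fixS
  rw [map_sub, aeval_X, map_one, sub_self, LinearMap.ker_zero]

theorem odnnecstd_core {F : Type*} [Field F] [Fintype F] {p : ℕ} [Fact p.Prime] [CharP F p]
    (hodd : Odd (Fintype.card F)) {ι : Type} [Fintype ι] [DecidableEq ι] (Q : QuadraticForm F (ι → F))
    (hQ : (QuadraticMap.polarBilin Q).Nondegenerate) (d m : ℕ) (hd : 4 ≤ d)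
    (hcard : Fintype.card ι = 2 * d) (ε : ℤ) (hε : ε = 1 ∨ ε = -1) (htyQ : IsType (⇑Q) d ε)
    (hm : Odd m) (hmd : m < d) (W₀ : Submodule F (ι → F))
    (hW₀ : finrank F ↥W₀ = m ∧ Cfsg.Geo.IsNondegenerateOn (QuadraticMap.polar (⇑Q)) W₀)
    (r : ℕ) [Fact r.Prime] (hrp : r ≠ p) (hr2 : r ≠ 2) (i c : ℕ)
    (hi : i = orderOf ((Fintype.card F : ℕ) : ZMod r)) (hc : c = if Even i then i else 2 * i)
    (hrΩ : r ∣ Nat.card {W : Submodule F (ι → F) // finrank F ↥W = m ∧
        Cfsg.Geo.IsNondegenerateOn (QuadraticMap.polar (⇑Q)) W ∧ Cfsg.Geo.AreIsometricFor (⇑Q) W W₀})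
    (hall : ∀ x : GL ι F, x ∈ Cfsg.Geo.omegaGL (⇑Q) →
      (∃ z : F, ((x ^ r : GL ι F) : Matrix ι ι F) = z • (1 : Matrix ι ι F)) →
      (∀ z : F, (x : Matrix ι ι F) ≠ z • (1 : Matrix ι ι F)) →
      ∃ W : Submodule F (ι → F), (finrank F ↥W = m ∧ Cfsg.Geo.IsNondegenerateOn (QuadraticMap.polar (⇑Q)) W ∧
        Cfsg.Geo.AreIsometricFor (⇑Q) W W₀) ∧ W.map (Matrix.toLin' (x : Matrix ι ι F)) ≤ W)
    (hmaxel : c ≤ 2 * d → ((2 * d) % c = 0 → (ε = 1 ↔ (Odd i ∨ Even (2 * d / i)))) →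
      ∃ y : Module.End F (ι → F), OCtx r (QuadraticMap.polarBilin Q) y ∧ y ≠ 1 ∧
        finrank F (fixS y) = (2 * d) % c)
    (hcorner : ∀ x : Module.End F (ι → F), OCtx r (QuadraticMap.polarBilin Q) x →
      m < finrank F (fixS x) → finrank F (fixS x) < c →
      ¬ r ∣ Nat.card (OmC (QuadraticMap.polarBilin Q) m W₀)) :
    ODC i c d m ε := by
  have h2 : (2 : F) ≠ 0 := odnsuffstd_two hodd
  have hrodd : Odd r := (Fact.out : r.Prime).odd_of_ne_two hr2
  have hrpos : 0 < r := (Fact.out : r.Prime).pos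
  have hipos : 0 < i := by
    rw [hi]
    exact Cfsg.Agent.Lib.Helper24.el_ord_pos r hrp
  have hc2 : 2 ≤ c := by
    rw [hc]
    split_ifs with h
    · obtain ⟨j, hj⟩ := h
      omega
    · omega
  have hne := odnsuffstd_ne Q hQ (by omega)
  obtain ⟨hty, hsymm, hnd, hV⟩ := odn_std_ty h2 Q hQ d hcard ε
  have hrΩ' : r ∣ Nat.card (OmC (QuadraticMap.polarBilin Q) m W₀) := by
    rw [← odn_frozen_card h2 Q m W₀]
    exact hrΩ
  have key : ∀ y : Module.End F (ι → F), OCtx r (QuadraticMap.polarBilin Q) y → y ≠ 1 →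
      m % c < finrank F (fixS y) := by
    intro y hctx hy1
    obtain ⟨x, hxiso, hxy, hxr⟩ := odn_realize h2 Q r hrpos y hctx
    have hxΩ := Cfsg.Agent.Lib.Helper18.OmegaOdd.omegaodd_mem h2 Q hQ x hxiso r hrodd hxr
    have hz : ∃ z : F, ((x ^ r : GL ι F) : Matrix ι ι F) = z • (1 : Matrix ι ι F) := by
      refine ⟨1, ?_⟩
      rw [hxr, one_smul]
      rfl
    have hns : ∀ z : F, (x : Matrix ι ι F) ≠ z • (1 : Matrix ι ι F) := by
      intro z hzx
      obtain ⟨v, hv⟩ := hne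
      have hpres := (odnnormalize_mem (⇑Q) x).mp hxiso v
      rw [hzx, Matrix.smul_mulVec, Matrix.one_mulVec, QuadraticMap.map_smul, smul_eq_mul] at hpres
      have hzz : z * z = 1 := by
        have h3 : (z * z - 1) * Q v = 0 := by
          rw [sub_mul, hpres, one_mul, sub_self]
        rcases mul_eq_zero.mp h3 with h | h
        · exact sub_eq_zero.mp h
        · exact absurd h hv
      have hzr : z ^ r = 1 := by
        have h3 : ((x ^ r : GL ι F) : Matrix ι ι F) = z ^ r • (1 : Matrix ι ι F) := by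
          rw [Units.val_pow_eq_pow_val, hzx, _root_.smul_pow, one_pow]
        rw [hxr] at h3
        obtain ⟨j⟩ : Nonempty ι := Fintype.card_pos_iff.mp (by omega)
        have h4 := congrFun (congrFun h3 j) j
        simp only [Units.val_one, Matrix.one_apply_eq, Matrix.smul_apply, smul_eq_mul, mul_one] at h4
        exact h4.symm
      have hz1 : z = 1 := by
        obtain ⟨j, hj⟩ := hrodd
        rw [hj, pow_succ, pow_mul, pow_two, hzz, one_pow, one_mul] at hzr
        exact hzr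
      apply hy1
      rw [← hxy, hzx, hz1, one_smul, Matrix.toLin'_one]
      rfl
    obtain ⟨W, ⟨hWm, hWnd, hWiso⟩, hWinv⟩ := hall x hxΩ hz hns
    obtain ⟨f1, f2, f3⟩ := odn_frozen h2 Q W W₀
    have hWinv' : SInv y W := by
      rw [← hxy]
      exact (f3 (x : Matrix ι ι F)).mp hWinv
    exact odn_nec_abs h2 hrp hr2 hctx d m hV hm i c hi hc W hWinv' (f1.mp hWnd) hWm
  by_cases hcd : c ≤ 2 * d
  · by_cases hk : (2 * d) % c = 0
    · refine Or.inr ⟨hk, ?_⟩
      intro hiff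
      obtain ⟨y, hctx, hy1, hyfix⟩ := hmaxel hcd (fun _ => hiff)
      have h3 := key y hctx hy1
      omega
    · obtain ⟨y, hctx, hy1, hyfix⟩ := hmaxel hcd (fun h => absurd h hk)
      have h3 := key y hctx hy1
      rw [hyfix] at h3
      have hkc : (2 * d) % c < c := Nat.mod_lt _ (by omega)
      by_cases hmc : m < c
      · exfalso
        rw [Nat.mod_eq_of_lt hmc] at h3
        apply hcorner y hctx
        · rw [hyfix]
          exact h3
        · rw [hyfix]
          exact hkc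
        · exact hrΩ'
      · exact Or.inl ⟨by omega, h3, by omega⟩
  · exfalso
    have hone : OCtx r (QuadraticMap.polarBilin Q) (1 : Module.End F (ι → F)) :=
      ⟨hsymm, hnd, fun u v => rfl, one_pow r⟩
    have hfr : finrank F ↥(fixS (1 : Module.End F (ι → F))) = 2 * d := by
      rw [odnnecstd_fix_one, finrank_top, hV]
    apply hcorner 1 hone
    · rw [hfr]
      omega
    · rw [hfr]
      omega
    · exact hrΩ'

end Cfsg.Agent.Lib.Helper1.ODN
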