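import Mathlib
import Cfsg.Agent.Lib.Helper1.ODN.Defs

set_option autoImplicit false
set_option linter.unusedVariables false

namespace Cfsg.Agent.Lib.Helper1.ODN

open Polynomial Module Cfsg.Agent.Lib.Helper13.S5955 Cfsg.Agent.Lib.helper15.S5972 Cfsg.Agent.Lib.Helper18.ONE

theorem odnsubcard_nd {F : Type*} [Field F] {V : Type*} [AddCommGroup V] [Module F V]
    (B : LinearMap.BilinForm F V) (C W : Submodule F V) (hWC : W ≤ C) :
    finrank F ↥(W.comap C.subtype) = finrank F ↥W ∧
      (SND (B.restrict C) (W.comap C.subtype) ↔ SND B W) := by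
  refine ⟨LinearEquiv.finrank_eq (Submodule.comapSubtypeEquivOfLe hWC), ?_, ?_⟩
  · intro h u hu hall
    have hu' : (⟨u, hWC hu⟩ : ↥C) ∈ W.comap C.subtype := hu
    have h1 := h ⟨u, hWC hu⟩ hu' (fun v hv => hall v.1 hv)
    exact congrArg Subtype.val h1
  · intro h u hu hall
    apply Subtype.ext
    exact h u.1 hu (fun v hv => hall ⟨v, hWC hv⟩ hv)

theorem odnsubcard_iso {F : Type*} [Field F] {V : Type*} [AddCommGroup V] [Module F V]
    (B : LinearMap.BilinForm F V) (C W W₁ : Submodule F V) (hWC : W ≤ C) (hW₁C : W₁ ≤ C) :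
    SIso (B.restrict C) (W.comap C.subtype) (W₁.comap C.subtype) ↔ SIso B W W₁ := by
  constructor
  · rintro ⟨e, he⟩
    refine ⟨(Submodule.comapSubtypeEquivOfLe hWC).symm.trans
      (e.trans (Submodule.comapSubtypeEquivOfLe hW₁C)), ?_⟩
    intro w
    exact he ((Submodule.comapSubtypeEquivOfLe hWC).symm w)
  · rintro ⟨e, he⟩
    refine ⟨(Submodule.comapSubtypeEquivOfLe hWC).trans
      (e.trans (Submodule.comapSubtypeEquivOfLe hW₁C).symm), ?_⟩
    intro w
    exact he ((Submodule.comapSubtypeEquivOfLe hWC) w)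

theorem odn_sub_card {F : Type*} [Field F] {V : Type*} [AddCommGroup V] [Module F V]
    (B : LinearMap.BilinForm F V) (C : Submodule F V) (m : ℕ) (W₁ : Submodule F V) (hW₁C : W₁ ≤ C) :
    Nat.card {W : OmC B m W₁ // W.1 ≤ C} = Nat.card (OmC (B.restrict C) m (W₁.comap C.subtype)) := by
  apply Nat.card_congr
  refine
    { toFun := fun W => ⟨W.1.1.comap C.subtype, ?_, ?_, ?_⟩
      invFun := fun W' => ⟨⟨W'.1.map C.subtype, ?_, ?_, ?_⟩, Submodule.map_subtype_le C W'.1⟩
      left_inv := ?_
      right_inv := ?_ }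
  · rw [(odnsubcard_nd B C W.1.1 W.2).1]
    exact W.1.2.1
  · exact (odnsubcard_nd B C W.1.1 W.2).2.mpr W.1.2.2.1
  · exact (odnsubcard_iso B C W.1.1 W₁ W.2 hW₁C).mpr W.1.2.2.2
  · have h1 := (odnsubcard_nd B C (W'.1.map C.subtype) (Submodule.map_subtype_le C W'.1)).1
    rw [Submodule.comap_map_eq_of_injective C.injective_subtype] at h1
    rw [← h1]
    exact W'.2.1
  · have h1 := (odnsubcard_nd B C (W'.1.map C.subtype) (Submodule.map_subtype_le C W'.1)).2
    rw [Submodule.comap_map_eq_of_injective C.injective_subtype] at h1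
    exact h1.mp W'.2.2.1
  · have h1 := odnsubcard_iso B C (W'.1.map C.subtype) W₁ (Submodule.map_subtype_le C W'.1) hW₁C
    rw [Submodule.comap_map_eq_of_injective C.injective_subtype] at h1
    exact h1.mp W'.2.2.2
  · intro W
    apply Subtype.ext
    apply Subtype.ext
    change (W.1.1.comap C.subtype).map C.subtype = W.1.1
    rw [Submodule.map_comap_subtype]
    exact inf_eq_right.mpr W.2
  · intro W'
    apply Subtype.ext
    change (W'.1.map C.subtype).comap C.subtype = W'.1
    exact Submodule.comap_map_eq_of_injective C.injective_subtype W'.1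

end Cfsg.Agent.Lib.Helper1.ODN
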