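import Mathlib

set_option autoImplicit false
set_option linter.unusedVariables false

namespace Cfsg.Agent.Lib.Helper1.ODN

theorem odncomb_sum (ν : Multiset ℕ) (h : ∀ x ∈ ν, x = 1 ∨ x = 2 ∨ x = 3) :
    ν.sum = ν.count 1 + 2 * ν.count 2 + 3 * ν.count 3 := by
  induction ν using Multiset.induction_on with
  | empty => simp
  | cons a s ih =>
    have ih' := ih (fun x hx => h x (Multiset.mem_cons_of_mem hx))
    rcases h a (Multiset.mem_cons_self a s) with rfl | rfl | rfl
    · simp only [Multiset.sum_cons, Multiset.count_cons_self]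
      rw [Multiset.count_cons_of_ne (by decide), Multiset.count_cons_of_ne (by decide), ih']
      omega
    · simp only [Multiset.sum_cons, Multiset.count_cons_self]
      rw [Multiset.count_cons_of_ne (by decide), Multiset.count_cons_of_ne (by decide), ih']
      omega
    · simp only [Multiset.sum_cons, Multiset.count_cons_self]
      rw [Multiset.count_cons_of_ne (by decide), Multiset.count_cons_of_ne (by decide), ih']
      omega

theorem odncomb_facts (a b k : ℕ) (ha : a = 1 ∨ a = 3) (hb : b = 1 ∨ b = 3) (ν : Multiset ℕ)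
    (hν : ν ≤ {a, b} + Multiset.replicate k 2) :
    ν.sum = ν.count 1 + 2 * ν.count 2 + 3 * ν.count 3 ∧
      ν.count 1 ≤ Multiset.count 1 ({a, b} : Multiset ℕ) ∧
      ν.count 3 ≤ Multiset.count 3 ({a, b} : Multiset ℕ) := by
  refine ⟨?_, ?_, ?_⟩
  · apply odncomb_sum
    intro x hx
    have hx' := Multiset.mem_of_le hν hx
    rw [Multiset.mem_add] at hx'
    rcases hx' with hx' | hx'
    · simp only [Multiset.insert_eq_cons, Multiset.mem_cons, Multiset.mem_singleton] at hx'
      rcases hx' with rfl | rfl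
      · rcases ha with rfl | rfl <;> simp
      · rcases hb with rfl | rfl <;> simp
    · rw [Multiset.mem_replicate] at hx'
      exact Or.inr (Or.inl hx'.2)
  · have h1 := Multiset.count_le_of_le 1 hν
    rw [Multiset.count_add, Multiset.count_replicate, if_neg (by decide), add_zero] at h1
    exact h1
  · have h1 := Multiset.count_le_of_le 3 hν
    rw [Multiset.count_add, Multiset.count_replicate, if_neg (by decide), add_zero] at h1
    exact h1

theorem odn_comb_two (d : ℕ) (ν : Multiset ℕ) (hν : ν ≤ Multiset.replicate d 2) : Even ν.sum := by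
  obtain ⟨k, -, rfl⟩ := Multiset.le_replicate_iff.mp hν
  rw [Multiset.sum_replicate, smul_eq_mul]
  exact even_two.mul_left k

theorem odn_comb_33 (k : ℕ) (ν : Multiset ℕ) (hν : ν ≤ {3, 3} + Multiset.replicate k 2)
    (he : Even (ν.count 2)) (hodd : Odd ν.sum) : ν.sum % 4 = 3 := by
  obtain ⟨hs, h1, h3⟩ := odncomb_facts 3 3 k (Or.inr rfl) (Or.inr rfl) ν hν
  have e1 : Multiset.count 1 ({3, 3} : Multiset ℕ) = 0 := by decide
  have e3 : Multiset.count 3 ({3, 3} : Multiset ℕ) = 2 := by decide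
  rw [e1] at h1
  rw [e3] at h3
  obtain ⟨t, ht⟩ := he
  have ho := Nat.odd_iff.mp hodd
  omega

theorem odn_comb_11 (k : ℕ) (ν : Multiset ℕ) (hν : ν ≤ {1, 1} + Multiset.replicate k 2)
    (he : Even (ν.count 2)) (hodd : Odd ν.sum) : ν.sum % 4 = 1 := by
  obtain ⟨hs, h1, h3⟩ := odncomb_facts 1 1 k (Or.inl rfl) (Or.inl rfl) ν hν
  have e1 : Multiset.count 1 ({1, 1} : Multiset ℕ) = 2 := by decide
  have e3 : Multiset.count 3 ({1, 1} : Multiset ℕ) = 0 := by decide
  rw [e1] at h1
  rw [e3] at h3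
  obtain ⟨t, ht⟩ := he
  have ho := Nat.odd_iff.mp hodd
  omega

theorem odn_comb_31 (k : ℕ) (ν : Multiset ℕ) (hν : ν ≤ {3, 1} + Multiset.replicate k 2)
    (he : Even (ν.count 2)) (hodd : Odd ν.sum) :
    (ν.sum % 4 = 1 ∧ ν.count 1 = 1 ∧ ν.count 3 = 0) ∨ (ν.sum % 4 = 3 ∧ ν.count 3 = 1 ∧ ν.count 1 = 0) := by
  obtain ⟨hs, h1, h3⟩ := odncomb_facts 3 1 k (Or.inr rfl) (Or.inl rfl) ν hν
  have e1 : Multiset.count 1 ({3, 1} : Multiset ℕ) = 1 := by decide
  have e3 : Multiset.count 3 ({3, 1} : Multiset ℕ) = 1 := by decide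
  rw [e1] at h1
  rw [e3] at h3
  obtain ⟨t, ht⟩ := he
  have ho := Nat.odd_iff.mp hodd
  omega

end Cfsg.Agent.Lib.Helper1.ODN
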