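import Mathlib
import Cfsg.Agent.Lib.Helper1.ODN.Defs

set_option autoImplicit false
set_option linter.unusedVariables false

namespace Cfsg.Agent.Lib.Helper1.ODN

open Polynomial Module Cfsg.Agent.Lib.Helper13.S5955 Cfsg.Agent.Lib.helper15.S5972 Cfsg.Agent.Lib.Helper18.ONE

theorem odd_not_sim {F : Type*} [Field F] (h2 : (2 : F) ≠ 0) {V : Type*} [AddCommGroup V] [Module F V]
    [FiniteDimensional F V] (B : LinearMap.BilinForm F V) (hsymm : ∀ u v, B u v = B v u)
    (W : Submodule F V) (hW : SND B W) (hodd : Odd (finrank F W)) (lam : F) (hlam : ¬ IsSquare lam) :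
    ¬ ∃ e : ↥W ≃ₗ[F] ↥W, ∀ w : ↥W, B ((e w : ↥W) : V) ((e w : ↥W) : V) = lam * B (w : V) (w : V) := by
  rintro ⟨e, he⟩
  classical
  have hpol : ∀ u w : ↥W, B ((e u : ↥W) : V) ((e w : ↥W) : V) = lam * B (u : V) (w : V) := by
    intro u w
    have h1 := he (u + w)
    have hu := he u
    have hw := he w
    simp only [map_add, Submodule.coe_add, LinearMap.add_apply] at h1
    rw [hu, hw, hsymm ((e w : ↥W) : V) ((e u : ↥W) : V), hsymm (w : V) (u : V)] at h1
    have h3 : 2 * B ((e u : ↥W) : V) ((e w : ↥W) : V) = 2 * (lam * B (u : V) (w : V)) := by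
      linear_combination h1
    exact mul_left_cancel₀ h2 h3
  have hcomp : (B.restrict W).comp (e : ↥W →ₗ[F] ↥W) (e : ↥W →ₗ[F] ↥W) = lam • (B.restrict W) := by
    refine LinearMap.ext₂ ?_
    intro u w
    exact hpol u w
  have hM := LinearMap.BilinForm.toMatrix_comp (Module.finBasis F ↥W) (Module.finBasis F ↥W)
    (B.restrict W) (e : ↥W →ₗ[F] ↥W) (e : ↥W →ₗ[F] ↥W)
  rw [hcomp, map_smul] at hM
  have hdet := congrArg Matrix.det hM
  rw [Matrix.det_smul, Matrix.det_mul, Matrix.det_mul, Matrix.det_transpose, Fintype.card_fin] at hdet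
  have hnd : (B.restrict W).Nondegenerate := by
    constructor
    · intro u hu
      apply Subtype.ext
      exact hW u.1 u.2 (fun v hv => hu ⟨v, hv⟩)
    · intro u hu
      apply Subtype.ext
      refine hW u.1 u.2 (fun v hv => ?_)
      rw [hsymm]
      exact hu ⟨v, hv⟩
  have hG := (LinearMap.BilinForm.nondegenerate_iff_det_ne_zero (Module.finBasis F ↥W)).mp hnd
  obtain ⟨k, hk⟩ := hodd
  generalize (LinearMap.toMatrix (Module.finBasis F ↥W) (Module.finBasis F ↥W) (e : ↥W →ₗ[F] ↥W)).det = D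
    at hdet
  generalize ((LinearMap.BilinForm.toMatrix (Module.finBasis F ↥W)) (B.restrict W)).det = g at hdet hG
  rw [hk] at hdet
  have hl0 : lam ≠ 0 := by
    rintro rfl
    exact hlam ⟨0, by simp⟩
  apply hlam
  refine ⟨D / lam ^ k, ?_⟩
  have hk0 : lam ^ k ≠ 0 := pow_ne_zero k hl0
  have h4 : lam ^ (2 * k + 1) = D * D := by
    apply mul_right_cancel₀ hG
    rw [hdet]
    ring
  field_simp
  rw [pow_two D, ← h4]
  ring

end Cfsg.Agent.Lib.Helper1.ODN
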