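import Mathlib
import Cfsg.Prelude.Def_Classical

set_option autoImplicit false
set_option linter.unusedVariables false

namespace Cfsg.Agent.Lib.Helper1.ODN

open Polynomial in
theorem odnsimil_repr {F : Type*} [Field F] [Fintype F] (h2 : (2 : F) ≠ 0) (a b : F)
    (hab : ∀ x y : F, x ^ 2 + a * x * y + b * y ^ 2 = 0 → x = 0 ∧ y = 0) (lam : F) :
    ∃ s t : F, s ^ 2 + a * s * t + b * t ^ 2 = lam := by
  classical
  have hch : ringChar F ≠ 2 := by
    intro h
    apply h2
    have h3 := CharP.cast_eq_zero F (ringChar F)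
    rw [h] at h3
    exact_mod_cast h3
  have hF : Fintype.card F % 2 = 1 := FiniteField.odd_card_of_char_ne_two hch
  have hδ : b - a ^ 2 / 4 ≠ 0 := by
    intro h
    have h4 : (4 : F) ≠ 0 := by
      have : (4 : F) = 2 * 2 := by norm_num
      rw [this]
      exact mul_ne_zero h2 h2
    have h6 : (-a / 2) ^ 2 + a * (-a / 2) * 1 + b * 1 ^ 2 = b - a ^ 2 / 4 := by
      field_simp
      ring
    have h5 := hab (-a / 2) 1 (by rw [h6, h])
    exact one_ne_zero h5.2
  have hf : ((X : F[X]) ^ 2).degree = 2 := by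
    rw [Polynomial.degree_X_pow]
    rfl
  have hg : (C (b - a ^ 2 / 4) * X ^ 2 - C lam : F[X]).degree = 2 := by
    rw [Polynomial.degree_sub_eq_left_of_degree_lt]
    · rw [Polynomial.degree_C_mul_X_pow 2 hδ]
      rfl
    · rw [Polynomial.degree_C_mul_X_pow 2 hδ]
      exact lt_of_le_of_lt Polynomial.degree_C_le (by norm_num)
  obtain ⟨s, t, h⟩ := FiniteField.exists_root_sum_quadratic hf hg hF
  refine ⟨s - a * t / 2, t, ?_⟩
  simp only [eval_mul, eval_C, eval_pow, eval_X, eval_sub] at h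
  have h4 : (4 : F) ≠ 0 := by
    have : (4 : F) = 2 * 2 := by norm_num
    rw [this]
    exact mul_ne_zero h2 h2
  have h6 : (s - a * t / 2) ^ 2 + a * (s - a * t / 2) * t + b * t ^ 2 =
      s ^ 2 + (b - a ^ 2 / 4) * t ^ 2 := by
    field_simp
    ring
  rw [h6]
  linear_combination h

noncomputable def odnsimil_L {F : Type*} [Field F] (k : ℕ) (a b lam s t : F) :
    ((Fin k ⊕ Fin k) ⊕ Fin 2 → F) →ₗ[F] ((Fin k ⊕ Fin k) ⊕ Fin 2 → F) where
  toFun v := Sum.elim (Sum.elim (fun i => lam * v (.inl (.inl i))) (fun i => v (.inl (.inr i))))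
    (fun j => if j = 0 then s * v (.inr 0) - b * t * v (.inr 1)
      else t * v (.inr 0) + (s + a * t) * v (.inr 1))
  map_add' u v := by
    funext x
    rcases x with (i | i) | j
    · simp [mul_add]
    · simp
    · by_cases hj : j = 0
      · simp [hj]
        ring
      · simp [hj]
        ring
  map_smul' c v := by
    funext x
    rcases x with (i | i) | j
    · simp
      ring
    · simp
    · by_cases hj : j = 0
      · simp [hj]
        ring
      · simp [hj]
        ring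

theorem odnsimil_L_apply {F : Type*} [Field F] (k : ℕ) (a b lam s t : F)
    (hN : s ^ 2 + a * s * t + b * t ^ 2 = lam) (v : (Fin k ⊕ Fin k) ⊕ Fin 2 → F) :
    Cfsg.quadFormMinus k F a b (odnsimil_L k a b lam s t v) = lam * Cfsg.quadFormMinus k F a b v := by
  unfold Cfsg.quadFormMinus
  have e1 : ∀ i, odnsimil_L k a b lam s t v (.inl (.inl i)) = lam * v (.inl (.inl i)) := fun i => rfl
  have e2 : ∀ i, odnsimil_L k a b lam s t v (.inl (.inr i)) = v (.inl (.inr i)) := fun i => rfl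
  have e3 : odnsimil_L k a b lam s t v (.inr 0) = s * v (.inr 0) - b * t * v (.inr 1) := rfl
  have e4 : odnsimil_L k a b lam s t v (.inr 1) = t * v (.inr 0) + (s + a * t) * v (.inr 1) := rfl
  rw [e3, e4]
  simp only [e1, e2]
  have e5 : ∀ i : Fin k, lam * v (.inl (.inl i)) * v (.inl (.inr i)) =
      lam * (v (.inl (.inl i)) * v (.inl (.inr i))) := fun i => mul_assoc _ _ _
  simp only [e5]
  rw [← Finset.mul_sum]
  linear_combination (v (.inr 0) ^ 2 + a * v (.inr 0) * v (.inr 1) + b * v (.inr 1) ^ 2) * hN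

theorem odn_simil {F : Type*} [Field F] [Fintype F] (h2 : (2 : F) ≠ 0) (k : ℕ) (a b : F)
    (hab : ∀ x y : F, x ^ 2 + a * x * y + b * y ^ 2 = 0 → x = 0 ∧ y = 0) :
    ∃ (g : GL ((Fin k ⊕ Fin k) ⊕ Fin 2) F) (lam : F), ¬ IsSquare lam ∧
      ∀ v, Cfsg.quadFormMinus k F a b ((g : Matrix ((Fin k ⊕ Fin k) ⊕ Fin 2) ((Fin k ⊕ Fin k) ⊕ Fin 2) F).mulVec v) =
        lam * Cfsg.quadFormMinus k F a b v := by
  classical
  have hch : ringChar F ≠ 2 := by
    intro h
    apply h2
    have h3 := CharP.cast_eq_zero F (ringChar F)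
    rw [h] at h3
    exact_mod_cast h3
  obtain ⟨lam, hlam⟩ := FiniteField.exists_nonsquare hch
  have hl0 : lam ≠ 0 := by
    rintro rfl
    exact hlam ⟨0, by simp⟩
  obtain ⟨s, t, hN⟩ := odnsimil_repr h2 a b hab lam
  have hinj : Function.Injective (odnsimil_L k a b lam s t) := by
    rw [← LinearMap.ker_eq_bot, LinearMap.ker_eq_bot']
    intro v hv
    have e1 : ∀ i, lam * v (.inl (.inl i)) = 0 := fun i => congrFun hv (.inl (.inl i))
    have e2 : ∀ i, v (.inl (.inr i)) = 0 := fun i => congrFun hv (.inl (.inr i))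
    have e3 : s * v (.inr 0) - b * t * v (.inr 1) = 0 := congrFun hv (.inr 0)
    have e4 : t * v (.inr 0) + (s + a * t) * v (.inr 1) = 0 := congrFun hv (.inr 1)
    have h5 : v (.inr 0) ^ 2 + a * v (.inr 0) * v (.inr 1) + b * v (.inr 1) ^ 2 = 0 := by
      have h6 : lam * (v (.inr 0) ^ 2 + a * v (.inr 0) * v (.inr 1) + b * v (.inr 1) ^ 2) = 0 := by
        rw [← hN]
        linear_combination (s * v (.inr 0) - b * t * v (.inr 1) + a * (t * v (.inr 0) + (s + a * t) * v (.inr 1))) * e3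
          + (b * (t * v (.inr 0) + (s + a * t) * v (.inr 1))) * e4
      rcases mul_eq_zero.mp h6 with h | h
      · exact absurd h hl0
      · exact h
    obtain ⟨z1, z2⟩ := hab _ _ h5
    funext x
    rcases x with (i | i) | j
    · rcases mul_eq_zero.mp (e1 i) with h | h
      · exact absurd h hl0
      · exact h
    · exact e2 i
    · fin_cases j
      · exact z1
      · exact z2
  have hbij : Function.Bijective (odnsimil_L k a b lam s t) :=
    ⟨hinj, LinearMap.surjective_of_injective hinj⟩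
  let e : ((Fin k ⊕ Fin k) ⊕ Fin 2 → F) ≃ₗ[F] ((Fin k ⊕ Fin k) ⊕ Fin 2 → F) :=
    LinearEquiv.ofBijective (odnsimil_L k a b lam s t) hbij
  let M : Matrix ((Fin k ⊕ Fin k) ⊕ Fin 2) ((Fin k ⊕ Fin k) ⊕ Fin 2) F :=
    LinearMap.toMatrix' (odnsimil_L k a b lam s t)
  let Mi : Matrix ((Fin k ⊕ Fin k) ⊕ Fin 2) ((Fin k ⊕ Fin k) ⊕ Fin 2) F :=
    LinearMap.toMatrix' (e.symm : ((Fin k ⊕ Fin k) ⊕ Fin 2 → F) →ₗ[F] ((Fin k ⊕ Fin k) ⊕ Fin 2 → F))
  have h1 : M * Mi = 1 := by
    rw [← LinearMap.toMatrix'_comp, ← LinearMap.toMatrix'_id]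
    congr 1
    apply LinearMap.ext
    intro v
    exact e.apply_symm_apply v
  have h2' : Mi * M = 1 := by
    rw [← LinearMap.toMatrix'_comp, ← LinearMap.toMatrix'_id]
    congr 1
    apply LinearMap.ext
    intro v
    exact e.symm_apply_apply v
  refine ⟨⟨M, Mi, h1, h2'⟩, lam, hlam, ?_⟩
  intro v
  change Cfsg.quadFormMinus k F a b (M.mulVec v) = _
  rw [LinearMap.toMatrix'_mulVec]
  exact odnsimil_L_apply k a b lam s t hN v

end Cfsg.Agent.Lib.Helper1.ODN
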