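import Cfsg.Agent.Lib.helper17.SL3.Defs2

set_option linter.unusedSimpArgs false
set_option autoImplicit false

namespace Cfsg.Agent.Lib.helper17.SL3

open Cfsg.Agent.Lib.helper17.SLP

universe u

variable {F : Type u} [Field F]

theorem sl3m3b_c : ((cM3 : Matrix.SpecialLinearGroup (Fin 3) F) : Matrix (Fin 3) (Fin 3) F) =
    !![0, 0, 1; 1, 0, 0; 0, 1, 0] := rfl

theorem sl3m3b_w : ((wM3 : Matrix.SpecialLinearGroup (Fin 3) F) : Matrix (Fin 3) (Fin 3) F) =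
    !![0, 1, 0; -1, 0, 0; 0, 0, 1] := rfl

theorem sl3m3b_d (s : Fˣ) : ((dM3 s : Matrix.SpecialLinearGroup (Fin 3) F) : Matrix (Fin 3) (Fin 3) F) =
    !![(s : F), 0, 0; 0, 1, 0; 0, 0, ((s⁻¹ : Fˣ) : F)] := rfl

theorem sl3m3b_x (t : F) : ((xM3 t : Matrix.SpecialLinearGroup (Fin 3) F) : Matrix (Fin 3) (Fin 3) F) =
    !![1, t, 0; 0, 1, 0; 0, 0, 1] := rfl

theorem sl3m3b_ci : (((cM3 : Matrix.SpecialLinearGroup (Fin 3) F)⁻¹ : Matrix.SpecialLinearGroup (Fin 3) F) :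
    Matrix (Fin 3) (Fin 3) F) = !![0, 1, 0; 0, 0, 1; 1, 0, 0] := by
  rw [Matrix.SpecialLinearGroup.coe_inv, sl3m3b_c, Matrix.adjugate_fin_three]
  simp

theorem sl3m3b_wi : (((wM3 : Matrix.SpecialLinearGroup (Fin 3) F)⁻¹ : Matrix.SpecialLinearGroup (Fin 3) F) :
    Matrix (Fin 3) (Fin 3) F) = !![0, -1, 0; 1, 0, 0; 0, 0, 1] := by
  rw [Matrix.SpecialLinearGroup.coe_inv, sl3m3b_w, Matrix.adjugate_fin_three]
  simp

theorem sl3m3b_di (s : Fˣ) : (((dM3 s : Matrix.SpecialLinearGroup (Fin 3) F)⁻¹ : Matrix.SpecialLinearGroup (Fin 3) F) :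
    Matrix (Fin 3) (Fin 3) F) = !![((s⁻¹ : Fˣ) : F), 0, 0; 0, 1, 0; 0, 0, (s : F)] := by
  rw [Matrix.SpecialLinearGroup.coe_inv, sl3m3b_d, Matrix.adjugate_fin_three]
  simp

theorem sl3m3b_xi (t : F) : (((xM3 t : Matrix.SpecialLinearGroup (Fin 3) F)⁻¹ : Matrix.SpecialLinearGroup (Fin 3) F) :
    Matrix (Fin 3) (Fin 3) F) = !![1, -t, 0; 0, 1, 0; 0, 0, 1] := by
  rw [Matrix.SpecialLinearGroup.coe_inv, sl3m3b_x, Matrix.adjugate_fin_three]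
  simp

theorem relT1_M3 (s : Fˣ) : relT1 (dM3 s) (cM3 : Matrix.SpecialLinearGroup (Fin 3) F) = 1 := by
  unfold relT1 cm
  simp only [mul_inv_rev, inv_inv]
  apply Subtype.ext
  simp only [Matrix.SpecialLinearGroup.coe_mul, Matrix.SpecialLinearGroup.coe_one, sl3m3b_c, sl3m3b_d,
    sl3m3b_ci, sl3m3b_di, Matrix.mul_fin_three, Matrix.one_fin_three]
  simp

theorem relT2_M3 (s : Fˣ) : relT2 (dM3 s) (cM3 : Matrix.SpecialLinearGroup (Fin 3) F) = 1 := by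
  unfold relT2
  rw [pow_three]
  apply Subtype.ext
  simp only [Matrix.SpecialLinearGroup.coe_mul, Matrix.SpecialLinearGroup.coe_one, sl3m3b_c, sl3m3b_d,
    sl3m3b_ci, sl3m3b_di, Matrix.mul_fin_three, Matrix.one_fin_three]
  simp

theorem relTw_M3 (s : Fˣ) : relTw (dM3 s) (wM3 : Matrix.SpecialLinearGroup (Fin 3) F) cM3 = 1 := by
  unfold relTw
  apply Subtype.ext
  simp only [Matrix.SpecialLinearGroup.coe_mul, Matrix.SpecialLinearGroup.coe_one, sl3m3b_c, sl3m3b_d,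
    sl3m3b_w, sl3m3b_wi, sl3m3b_ci, sl3m3b_di, Matrix.mul_fin_three, Matrix.one_fin_three]
  simp

theorem relT3_M3 (s : Fˣ) : relT3 (xM3 (1 : F)) (dM3 s) cM3 = 1 := by
  unfold relT3 cm
  simp only [mul_inv_rev, inv_inv, pow_two]
  apply Subtype.ext
  simp only [Matrix.SpecialLinearGroup.coe_mul, Matrix.SpecialLinearGroup.coe_one, sl3m3b_c, sl3m3b_d,
    sl3m3b_x, sl3m3b_xi, sl3m3b_ci, sl3m3b_di, Matrix.mul_fin_three, Matrix.one_fin_three]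
  have hs : (s : F) ≠ 0 := s.ne_zero
  simp
  field_simp

end Cfsg.Agent.Lib.helper17.SL3
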