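import Cfsg.Agent.Lib.Helper24.SL3M3b

set_option linter.unusedSimpArgs false
set_option autoImplicit false

namespace Cfsg.Agent.Lib.helper17.SL3

open Cfsg.Agent.Lib.helper17.SLP

universe u

variable {F : Type u} [Field F]

theorem relR1_M3 : relR1 (xM3 (1 : F)) wM3 cM3 = 1 := by
  unfold relR1 cm r02
  simp only [mul_inv_rev, inv_inv]
  apply Subtype.ext
  simp only [Matrix.SpecialLinearGroup.coe_mul, Matrix.SpecialLinearGroup.coe_one, sl3m3b_c,
    sl3m3b_w, sl3m3b_wi, sl3m3b_x, sl3m3b_xi, sl3m3b_ci, Matrix.mul_fin_three, Matrix.one_fin_three]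
  simp

theorem relRu_M3 : relRu (xM3 (1 : F)) wM3 cM3 = 1 := by
  unfold relRu cm r02 r21
  simp only [mul_inv_rev, inv_inv]
  apply Subtype.ext
  simp only [Matrix.SpecialLinearGroup.coe_mul, Matrix.SpecialLinearGroup.coe_one, sl3m3b_c,
    sl3m3b_w, sl3m3b_wi, sl3m3b_x, sl3m3b_xi, sl3m3b_ci, Matrix.mul_fin_three, Matrix.one_fin_three]
  simp

end Cfsg.Agent.Lib.helper17.SL3
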