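import Cfsg.Agent.Lib.Helper24.SL3M3b

set_option linter.unusedSimpArgs false
set_option autoImplicit false

namespace Cfsg.Agent.Lib.helper17.SL3

open Cfsg.Agent.Lib.helper17.SLP

universe u

variable {F : Type u} [Field F]

theorem relR2_M3 (s : Fˣ) : relR2 (xM3 (1 : F)) (dM3 s) wM3 cM3 = 1 := by
  unfold relR2 cm r02
  simp only [mul_inv_rev, inv_inv]
  apply Subtype.ext
  simp only [Matrix.SpecialLinearGroup.coe_mul, Matrix.SpecialLinearGroup.coe_one, sl3m3b_c, sl3m3b_d, sl3m3b_di,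
    sl3m3b_w, sl3m3b_wi, sl3m3b_x, sl3m3b_xi, sl3m3b_ci, Matrix.mul_fin_three, Matrix.one_fin_three]
  simp

theorem relR3_M3 (s : Fˣ) : relR3 (xM3 (1 : F)) (dM3 s) wM3 cM3 = 1 := by
  unfold relR3 cm r21
  simp only [mul_inv_rev, inv_inv]
  apply Subtype.ext
  simp only [Matrix.SpecialLinearGroup.coe_mul, Matrix.SpecialLinearGroup.coe_one, sl3m3b_c, sl3m3b_d, sl3m3b_di,
    sl3m3b_w, sl3m3b_wi, sl3m3b_x, sl3m3b_xi, sl3m3b_ci, Matrix.mul_fin_three, Matrix.one_fin_three]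
  simp

theorem relRx_M3 (s : Fˣ) : relRx (xM3 (1 : F)) (dM3 s) wM3 cM3 = 1 := by
  unfold relRx cm
  simp only [mul_inv_rev, inv_inv]
  apply Subtype.ext
  simp only [Matrix.SpecialLinearGroup.coe_mul, Matrix.SpecialLinearGroup.coe_one, sl3m3b_c, sl3m3b_d, sl3m3b_di,
    sl3m3b_w, sl3m3b_wi, sl3m3b_x, sl3m3b_xi, sl3m3b_ci, Matrix.mul_fin_three, Matrix.one_fin_three]
  simp

end Cfsg.Agent.Lib.helper17.SL3
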