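import Cfsg.Agent.Lib.Helper24.SL3M3b
import Cfsg.Agent.Lib.Lead.SLn

set_option linter.unusedSimpArgs false
set_option autoImplicit false

namespace Cfsg.Agent.Lib.helper17.SL3

open Cfsg.Agent.Lib.helper17.SLP

universe u

variable {F : Type u} [Field F]

theorem sl3m4_x_zero : xM3 (0 : F) = 1 := by
  apply Subtype.ext
  simp only [Matrix.SpecialLinearGroup.coe_one, sl3m3b_x, Matrix.one_fin_three]

theorem sl3m4_d_mul (s t : Fˣ) : (dM3 s : Matrix.SpecialLinearGroup (Fin 3) F) * dM3 t = dM3 (s * t) := by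
  apply Subtype.ext
  simp only [Matrix.SpecialLinearGroup.coe_mul, sl3m3b_d, Matrix.mul_fin_three]
  simp [mul_comm]

theorem sl3m4_d_one : (dM3 (1 : Fˣ) : Matrix.SpecialLinearGroup (Fin 3) F) = 1 := by
  apply Subtype.ext
  simp only [Matrix.SpecialLinearGroup.coe_one, sl3m3b_d, Matrix.one_fin_three]
  simp

def sl3m4_dHom : Fˣ →* Matrix.SpecialLinearGroup (Fin 3) F where
  toFun := dM3
  map_one' := sl3m4_d_one
  map_mul' s t := (sl3m4_d_mul s t).symm

theorem sl3m4_d_conj (s : Fˣ) (t : F) :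
    dM3 s * xM3 t * (dM3 s)⁻¹ = xM3 ((s : F) * t) := by
  apply Subtype.ext
  simp only [Matrix.SpecialLinearGroup.coe_mul, sl3m3b_d, sl3m3b_di, sl3m3b_x, Matrix.mul_fin_three]
  have hs : (s : F) ≠ 0 := s.ne_zero
  simp

theorem sl3m4_t01 (t : F) :
    Matrix.SpecialLinearGroup.transvection (show (0 : Fin 3) ≠ 1 by decide) t = xM3 t := by
  apply Subtype.ext
  rw [Matrix.SpecialLinearGroup.transvection_coe, sl3m3b_x]
  ext a b
  fin_cases a <;> fin_cases b <;> simp [Matrix.single]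

theorem sl3m4_t10 (t : F) :
    Matrix.SpecialLinearGroup.transvection (show (1 : Fin 3) ≠ 0 by decide) t =
      wM3 * xM3 (-t) * wM3⁻¹ := by
  apply Subtype.ext
  rw [Matrix.SpecialLinearGroup.transvection_coe]
  simp only [Matrix.SpecialLinearGroup.coe_mul, sl3m3b_w, sl3m3b_wi, sl3m3b_x, Matrix.mul_fin_three]
  ext a b
  fin_cases a <;> fin_cases b <;> simp [Matrix.single]

theorem sl3m4_t12 (t : F) :
    Matrix.SpecialLinearGroup.transvection (show (1 : Fin 3) ≠ 2 by decide) t =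
      cM3 * xM3 t * cM3⁻¹ := by
  apply Subtype.ext
  rw [Matrix.SpecialLinearGroup.transvection_coe]
  simp only [Matrix.SpecialLinearGroup.coe_mul, sl3m3b_c, sl3m3b_ci, sl3m3b_x, Matrix.mul_fin_three]
  ext a b
  fin_cases a <;> fin_cases b <;> simp [Matrix.single]

theorem sl3m4_t20 (t : F) :
    Matrix.SpecialLinearGroup.transvection (show (2 : Fin 3) ≠ 0 by decide) t =
      cM3⁻¹ * xM3 t * cM3 := by
  apply Subtype.ext
  rw [Matrix.SpecialLinearGroup.transvection_coe]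
  simp only [Matrix.SpecialLinearGroup.coe_mul, sl3m3b_c, sl3m3b_ci, sl3m3b_x, Matrix.mul_fin_three]
  ext a b
  fin_cases a <;> fin_cases b <;> simp [Matrix.single]

theorem sl3m4_t21 (t : F) :
    Matrix.SpecialLinearGroup.transvection (show (2 : Fin 3) ≠ 1 by decide) t =
      cM3 * (wM3 * xM3 (-t) * wM3⁻¹) * cM3⁻¹ := by
  apply Subtype.ext
  rw [Matrix.SpecialLinearGroup.transvection_coe]
  simp only [Matrix.SpecialLinearGroup.coe_mul, sl3m3b_c, sl3m3b_ci, sl3m3b_w, sl3m3b_wi, sl3m3b_x,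
    Matrix.mul_fin_three]
  ext a b
  fin_cases a <;> fin_cases b <;> simp [Matrix.single]

theorem sl3m4_t02 (t : F) :
    Matrix.SpecialLinearGroup.transvection (show (0 : Fin 3) ≠ 2 by decide) t =
      cM3⁻¹ * (wM3 * xM3 (-t) * wM3⁻¹) * cM3 := by
  apply Subtype.ext
  rw [Matrix.SpecialLinearGroup.transvection_coe]
  simp only [Matrix.SpecialLinearGroup.coe_mul, sl3m3b_c, sl3m3b_ci, sl3m3b_w, sl3m3b_wi, sl3m3b_x,
    Matrix.mul_fin_three]
  ext a b
  fin_cases a <;> fin_cases b <;> simp [Matrix.single]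

theorem closure_M3 [Fintype F] (ζ : Fˣ) (hζ : ∀ y : Fˣ, y ∈ Subgroup.zpowers ζ) :
    Subgroup.closure {xM3 (1 : F), dM3 ζ, wM3, cM3} = ⊤ := by
  set K : Subgroup (Matrix.SpecialLinearGroup (Fin 3) F) :=
    Subgroup.closure {xM3 (1 : F), dM3 ζ, wM3, cM3} with hK
  have hu : xM3 (1 : F) ∈ K := Subgroup.subset_closure (by simp)
  have hd : dM3 ζ ∈ K := Subgroup.subset_closure (by simp)
  have hw : (wM3 : Matrix.SpecialLinearGroup (Fin 3) F) ∈ K := Subgroup.subset_closure (by simp)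
  have hc : (cM3 : Matrix.SpecialLinearGroup (Fin 3) F) ∈ K := Subgroup.subset_closure (by simp)
  have hds : ∀ s : Fˣ, dM3 s ∈ K := by
    intro s
    obtain ⟨i, rfl⟩ := Subgroup.mem_zpowers_iff.mp (hζ s)
    have : dM3 (ζ ^ i) = (dM3 ζ : Matrix.SpecialLinearGroup (Fin 3) F) ^ i :=
      map_zpow (sl3m4_dHom (F := F)) ζ i
    rw [this]
    exact K.zpow_mem hd i
  have hx : ∀ t : F, xM3 t ∈ K := by
    intro t
    by_cases ht : t = 0
    · rw [ht, sl3m4_x_zero]; exact K.one_mem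
    · have h1 := sl3m4_d_conj (Units.mk0 t ht) (1 : F)
      rw [Units.val_mk0, mul_one] at h1
      rw [← h1]
      exact K.mul_mem (K.mul_mem (hds _) hu) (K.inv_mem (hds _))
  have hx10 : ∀ t : F, wM3 * xM3 (-t) * wM3⁻¹ ∈ K := fun t =>
    K.mul_mem (K.mul_mem hw (hx _)) (K.inv_mem hw)
  rw [eq_top_iff, ← Cfsg.Agent.Lib.Lead.SL_closure_transvections (ι := Fin 3) (F := F)]
  rw [Subgroup.closure_le]
  rintro A ⟨i, j, h, t, rfl⟩
  show Matrix.SpecialLinearGroup.transvection h t ∈ K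
  fin_cases i <;> fin_cases j
  · exact absurd rfl h
  · rw [sl3m4_t01]; exact hx t
  · rw [sl3m4_t02]; exact K.mul_mem (K.mul_mem (K.inv_mem hc) (hx10 t)) hc
  · rw [sl3m4_t10]; exact hx10 t
  · exact absurd rfl h
  · rw [sl3m4_t12]; exact K.mul_mem (K.mul_mem hc (hx t)) (K.inv_mem hc)
  · rw [sl3m4_t20]; exact K.mul_mem (K.mul_mem (K.inv_mem hc) (hx t)) hc
  · rw [sl3m4_t21]; exact K.mul_mem (K.mul_mem hc (hx10 t)) (K.inv_mem hc)
  · exact absurd rfl h

end Cfsg.Agent.Lib.helper17.SL3
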