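import Cfsg.Agent.Lib.helper17.SL3.Defs2
import Cfsg.Agent.Lib.helper14.SubB

set_option autoImplicit false

namespace Cfsg.Agent.Lib.helper17.SL3

open Cfsg.Agent.Lib.helper17.SLP

universe u

variable {F : Type u} [Field F]

theorem sl3m5_arith (k N : ℕ)
    (h : N * (k + 2 - 1) =
      (k + 2) ^ (∑ i ∈ Finset.range 3, i) * ∏ i ∈ Finset.range 3, ((k + 2) ^ (i + 1) - 1)) :
    N = (k + 2 - 1) ^ 2 * (k + 2) ^ 3 * (1 + 2 * (k + 2) + 2 * (k + 2) ^ 2 + (k + 2) ^ 3) := by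
  have e0 : k + 2 - 1 = k + 1 := by omega
  have e1 : (k + 2) ^ 1 - 1 = k + 1 := by rw [pow_one]; omega
  have e2 : (k + 2) ^ 2 - 1 = (k + 1) * (k + 3) := by
    have : (k + 2) ^ 2 = (k + 1) * (k + 3) + 1 := by ring
    omega
  have e3 : (k + 2) ^ 3 - 1 = (k + 1) * (k ^ 2 + 5 * k + 7) := by
    have : (k + 2) ^ 3 = (k + 1) * (k ^ 2 + 5 * k + 7) + 1 := by ring
    omega
  rw [e0] at h ⊢
  simp only [Finset.sum_range_succ, Finset.prod_range_succ, Finset.sum_range_zero,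
    Finset.prod_range_zero, zero_add, one_mul] at h
  rw [e1, e2, e3] at h
  have hpos : 0 < k + 1 := Nat.succ_pos k
  apply Nat.eq_of_mul_eq_mul_right hpos
  rw [h]
  ring

theorem card_SL3 [Fintype F] :
    Nat.card (Matrix.SpecialLinearGroup (Fin 3) F) =
      (Fintype.card F - 1) ^ 2 * Fintype.card F ^ 3 *
        (1 + 2 * Fintype.card F + 2 * Fintype.card F ^ 2 + Fintype.card F ^ 3) := by
  have h := Cfsg.Agent.Lib.helper14.SubB.card_SL_formula (K := F) (Fintype.card F) rfl 3 (by norm_num)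
  have hq : 2 ≤ Fintype.card F := Fintype.one_lt_card
  obtain ⟨k, hk⟩ : ∃ k, Fintype.card F = k + 2 := ⟨Fintype.card F - 2, by omega⟩
  rw [hk] at h ⊢
  exact sl3m5_arith k _ h

end Cfsg.Agent.Lib.helper17.SL3
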