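import Cfsg.Agent.Lib.Helper24.SL3C9core
import Cfsg.Agent.Lib.Helper1.SL3C4

set_option autoImplicit false

namespace Cfsg.Agent.Lib.helper17.SL3

open Cfsg.Agent.Lib.helper17.SLP

universe u v

variable {F : Type u} [Field F] [Fintype F] {G : Type v} [Group G]

theorem col_gen (hq : Fintype.card F ≠ 4) (ζ : Fˣ) (hζ : ∀ y : Fˣ, y ∈ Subgroup.zpowers ζ)
    (x : F → G) (d w c : G) (H : Hyp ζ x d w c) (R : Tor ζ x d w c) :
    ∀ s t, Commute (x s) (x21 x w c t) :=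
  sl3c9_core ζ (fun X Y hX hY τ₁ τ₃ e h1X h1Y h3X h3Y s₀ t₀ hs ht h =>
    commute_all hq ζ hζ X Y hX hY τ₁ τ₃ e h1X h1Y h3X h3Y s₀ t₀ hs ht h) x d w c H R

end Cfsg.Agent.Lib.helper17.SL3
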