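import Cfsg.Agent.Lib.Helper24.SL3C15core
import Cfsg.Agent.Lib.Helper24.SL3C8
import Cfsg.Agent.Lib.Helper24.SL3C9
import Cfsg.Agent.Lib.Helper24.SL3C10
import Cfsg.Agent.Lib.Helper29.SL3C12
import Cfsg.Agent.Lib.Helper25.SL3C13
import Cfsg.Agent.Lib.Helper29.SL3C14
import Cfsg.Agent.Lib.helper2.SL3T4
import Cfsg.Agent.Lib.helper2.SL3T5
import Cfsg.Agent.Lib.Helper25.SL3T7
import Cfsg.Agent.Lib.Helper27.SL3T9
import Cfsg.Agent.Lib.Helper27.SL3T10core
import Cfsg.Agent.Lib.helper15.SL3T12core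

set_option autoImplicit false

namespace Cfsg.Agent.Lib.helper17.SL3

open Cfsg.Agent.Lib.helper17.SLP

universe u v

variable {F : Type u} [Field F] [Fintype F] {G : Type v} [Group G]

theorem sl3c15_tor_table (ζ : Fˣ) (hζ : ∀ y : Fˣ, y ∈ Subgroup.zpowers ζ) (x : F → G) (d w c : G)
    (H : Hyp ζ x d w c) : Tor ζ x d w c :=
  sl3t12_core ζ x d w c H.add (tor_rel ζ x d w c H).1 (tor_rel ζ x d w c H).2.1
    (act01 ζ hζ x d w c H)
    (sl3t10_core ζ x d w c H (tor_w ζ x d w c H).2.2.2 (wsq_comm ζ hζ x d w c H).2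
      (act01 ζ hζ x d w c H))

theorem comm3_all (ζ : Fˣ) (hζ : ∀ y : Fˣ, y ∈ Subgroup.zpowers ζ) (x : F → G) (d w c : G)
    (H : Hyp ζ x d w c) (hRx : Fintype.card F = 4 → relRx (x 1) d w c = 1) : Comm3 x w c :=
  sl3c15_core x d w c hRx
    (fun hq => row_gen hq ζ hζ x d w c H (sl3c15_tor_table ζ hζ x d w c H))
    (fun hq => col_gen hq ζ hζ x d w c H (sl3c15_tor_table ζ hζ x d w c H))
    (fun hq hrow hcol => cmm_gen hq ζ hζ x d w c H (sl3c15_tor_table ζ hζ x d w c H) hrow hcol)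
    (fun hq => row_four hq ζ hζ x d w c H (sl3c15_tor_table ζ hζ x d w c H))
    (fun hq => col_four hq ζ hζ x d w c H (sl3c15_tor_table ζ hζ x d w c H))
    (fun hq hR hrow hcol =>
      cmm_four hq ζ hζ x d w c H (sl3c15_tor_table ζ hζ x d w c H) hR hrow hcol)

end Cfsg.Agent.Lib.helper17.SL3
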