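import Cfsg.Agent.Lib.Helper24.SL7TS3

set_option autoImplicit false

namespace Cfsg.Agent.Lib.Helper1.SLN

theorem exists_nu (M : ℕ) (hM : 1 ≤ M) : ∃ ν x : alternatingGroup (Fin (M + 4)), NuHyp M ν x := by
  rcases Nat.even_or_odd M with he | ho
  · refine exists_nu_even M ?_ he
    obtain ⟨k, hk⟩ := he
    omega
  · exact exists_nu_odd M ho

end Cfsg.Agent.Lib.Helper1.SLN
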