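import Mathlib
import Cfsg.Agent.Lib.Helper24.TwoInvol
import Cfsg.Agent.Lib.Helper24.IndexTwo
import Cfsg.Agent.Lib.helper14.Quat
import Cfsg.Agent.Lib.Helper1.Nilp

set_option autoImplicit false

namespace Cfsg.Agent.Lib.Helper24

open scoped commutatorElement

universe u

section TkComm

variable {R : Type*} [Group R]

def tkT (K : Subgroup R) (hK : K.Normal) (s : R) : Subgroup R where
  carrier := {g | ⁅g, s⁆ ∈ K}
  one_mem' := by
    show ⁅(1 : R), s⁆ ∈ K
    rw [commutatorElement_one_left]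
    exact K.one_mem
  mul_mem' := by
    intro a b ha hb
    show ⁅a * b, s⁆ ∈ K
    have ha' : ⁅a, s⁆ ∈ K := ha
    have hb' : ⁅b, s⁆ ∈ K := hb
    have e : ⁅a * b, s⁆ = a * ⁅b, s⁆ * a⁻¹ * ⁅a, s⁆ := by
      rw [commutatorElement_def, commutatorElement_def, commutatorElement_def]; group
    rw [e]
    exact K.mul_mem (hK.conj_mem _ hb' a) ha'
  inv_mem' := by
    intro a ha
    show ⁅a⁻¹, s⁆ ∈ K
    have ha' : ⁅a, s⁆ ∈ K := ha
    have e : ⁅a⁻¹, s⁆ = a⁻¹ * ⁅a, s⁆⁻¹ * a⁻¹⁻¹ := by
      rw [commutatorElement_def, commutatorElement_def]; group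
    rw [e]
    exact hK.conj_mem _ (K.inv_mem ha') a⁻¹

theorem tk_comm_symm (K : Subgroup R) {g s : R} (h : ⁅g, s⁆ ∈ K) : ⁅s, g⁆ ∈ K := by
  rw [← commutatorElement_inv]
  exact K.inv_mem h

theorem tk_all_comm (K : Subgroup R) (hK : K.Normal) (C : Subgroup R) (y : R)
    (htop : C ⊔ Subgroup.zpowers y = ⊤)
    (hCC : ∀ u ∈ C, ∀ w ∈ C, ⁅u, w⁆ ∈ K) (hyC : ∀ u ∈ C, ⁅y, u⁆ ∈ K) :
    ∀ g s : R, ⁅g, s⁆ ∈ K := by
  have hyy : ⁅y, y⁆ ∈ K := by rw [commutatorElement_self]; exact K.one_mem
  have h1 : ∀ u ∈ C, ∀ g : R, ⁅g, u⁆ ∈ K := by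
    intro u hu g
    have : (⊤ : Subgroup R) ≤ tkT K hK u := by
      rw [← htop]
      apply sup_le
      · intro w hw
        exact hCC w hw u hu
      · rw [Subgroup.zpowers_le]
        exact hyC u hu
    exact this (Subgroup.mem_top g)
  have h2 : ∀ g : R, ⁅g, y⁆ ∈ K := by
    intro g
    have : (⊤ : Subgroup R) ≤ tkT K hK y := by
      rw [← htop]
      apply sup_le
      · intro w hw
        exact tk_comm_symm K (hyC w hw)
      · rw [Subgroup.zpowers_le]
        exact hyy
    exact this (Subgroup.mem_top g)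
  intro g s
  apply tk_comm_symm
  have : (⊤ : Subgroup R) ≤ tkT K hK g := by
    rw [← htop]
    apply sup_le
    · intro w hw
      exact tk_comm_symm K (h1 w hw g)
    · rw [Subgroup.zpowers_le]
      exact tk_comm_symm K (h2 g)
  exact this (Subgroup.mem_top s)

theorem tk_sup_top (M : Subgroup R) (hMi : M.index = 2) (g : R) (hg : g ∉ M) :
    M ⊔ Subgroup.zpowers g = ⊤ := by
  rw [eq_top_iff]
  intro b _
  by_cases hb : b ∈ M
  · exact Subgroup.mem_sup_left hb
  · have h1 : b * g⁻¹ ∈ M := by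
      rw [Subgroup.mul_mem_iff_of_index_two hMi]
      constructor
      · intro h; exact absurd h hb
      · intro h; exact absurd (by simpa using M.inv_mem h) hg
    have : b = (b * g⁻¹) * g := by group
    rw [this]
    exact Subgroup.mul_mem _ (Subgroup.mem_sup_left h1)
      (Subgroup.mem_sup_right (Subgroup.mem_zpowers g))

def tkPhi (M : Subgroup R) (hMn : M.Normal) (hMab : ∀ x ∈ M, ∀ y ∈ M, x * y = y * x) (g : R) :
    ↥M →* ↥M where
  toFun x := ⟨(x : R) * (g * (x : R)⁻¹ * g⁻¹), M.mul_mem x.2 (hMn.conj_mem _ (M.inv_mem x.2) g)⟩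
  map_one' := by
    apply Subtype.ext
    simp
  map_mul' := by
    intro x y
    apply Subtype.ext
    simp only [Subgroup.coe_mul]
    have hy : g * (y : R)⁻¹ * g⁻¹ ∈ M := hMn.conj_mem _ (M.inv_mem y.2) g
    have hx : g * (x : R)⁻¹ * g⁻¹ ∈ M := hMn.conj_mem _ (M.inv_mem x.2) g
    have e : (x : R) * (y : R) * (g * ((x : R) * (y : R))⁻¹ * g⁻¹) =
        (x : R) * ((y : R) * (g * (y : R)⁻¹ * g⁻¹)) * (g * (x : R)⁻¹ * g⁻¹) := by group
    rw [e, mul_assoc (x : R), hMab _ (M.mul_mem y.2 hy) _ hx, ← mul_assoc, ← mul_assoc,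
      mul_assoc _ (y : R)]

theorem tk_mem_range (M : Subgroup R) (hMn : M.Normal) (hMab : ∀ x ∈ M, ∀ y ∈ M, x * y = y * x)
    (g : R) (i : R) :
    i ∈ (tkPhi M hMn hMab g).range.map M.subtype ↔ ∃ x ∈ M, i = x * (g * x⁻¹ * g⁻¹) := by
  constructor
  · rintro ⟨_, ⟨x, rfl⟩, rfl⟩
    exact ⟨x, x.2, rfl⟩
  · rintro ⟨x, hx, rfl⟩
    exact ⟨_, ⟨⟨x, hx⟩, rfl⟩, rfl⟩

theorem tk_comm_le_range (M : Subgroup R) (hMn : M.Normal)
    (hMab : ∀ x ∈ M, ∀ y ∈ M, x * y = y * x) (hMi : M.index = 2) (g : R) (hg : g ∉ M) :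
    commutator R ≤ (tkPhi M hMn hMab g).range.map M.subtype := by
  set I := (tkPhi M hMn hMab g).range.map M.subtype with hI
  have hIM : I ≤ M := Subgroup.map_subtype_le _
  have hmem := tk_mem_range M hMn hMab g
  have htop := tk_sup_top M hMi g hg
  have hconj : ∀ i ∈ I, g * i * g⁻¹ ∈ I := by
    intro i hi
    obtain ⟨x, hx, rfl⟩ := (hmem i).mp hi
    rw [hmem]
    refine ⟨g * x * g⁻¹, hMn.conj_mem _ hx g, ?_⟩
    group
  have hconj' : ∀ i ∈ I, g⁻¹ * i * g ∈ I := by
    intro i hi
    obtain ⟨x, hx, rfl⟩ := (hmem i).mp hi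
    rw [hmem]
    refine ⟨g⁻¹ * x * g, ?_, ?_⟩
    · have := hMn.conj_mem _ hx g⁻¹
      simpa using this
    · group
  have hIn : I.Normal := by
    rw [← Subgroup.normalizer_eq_top_iff, eq_top_iff, ← htop]
    apply sup_le
    · rw [Subgroup.le_normalizer_iff]
      intro n hn i hi
      have : n * i * n⁻¹ = i := by
        rw [hMab n hn i (hIM hi)]; group
      rw [this]; exact hi
    · rw [Subgroup.zpowers_le, Subgroup.mem_normalizer_iff]
      intro i
      constructor
      · exact hconj i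
      · intro h
        have := hconj' _ h
        have e : g⁻¹ * (g * i * g⁻¹) * g = i := by group
        rwa [e] at this
  have hall := tk_all_comm I hIn M g htop
    (by
      intro u hu w hw
      have : ⁅u, w⁆ = 1 := by
        rw [commutatorElement_eq_one_iff_mul_comm]
        exact hMab u hu w hw
      rw [this]; exact I.one_mem)
    (by
      intro u hu
      have h1 : ⁅u, g⁆ ∈ I := by
        rw [hmem]
        exact ⟨u, hu, by rw [commutatorElement_def]; group⟩
      rw [← commutatorElement_inv]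
      exact I.inv_mem h1)
  rw [commutator_def, Subgroup.commutator_le]
  intro a _ b _
  exact hall a b

theorem tk_centralizer_card_le [Finite R] (M : Subgroup R)
    (hMab : ∀ x ∈ M, ∀ y ∈ M, x * y = y * x) (hMi : M.index = 2) (g : R) (hg : g ∉ M)
    (hidx : (commutator R).index = 4) :
    Nat.card ↥(M ⊓ Subgroup.centralizer ({g} : Set R)) ≤ 2 := by
  have hMn : M.Normal := Subgroup.normal_of_index_eq_two hMi
  set φ := tkPhi M hMn hMab g with hφ
  have hle := tk_comm_le_range M hMn hMab hMi g hg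
  have h1 : Nat.card (commutator R) ≤ Nat.card φ.range := by
    have := Subgroup.card_le_of_le hle
    rwa [Subgroup.card_map_of_injective M.subtype_injective] at this
  have h2 : Nat.card φ.range * Nat.card φ.ker = Nat.card M := by
    rw [← Subgroup.index_ker, mul_comm]
    exact Subgroup.card_mul_index φ.ker
  have h3 : Nat.card (commutator R) * 4 = Nat.card R := by
    rw [← hidx]; exact Subgroup.card_mul_index _
  have h4 : Nat.card M * 2 = Nat.card R := by
    rw [← hMi]; exact Subgroup.card_mul_index _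
  have h5 : Nat.card ↥(M ⊓ Subgroup.centralizer ({g} : Set R)) = Nat.card φ.ker := by
    have : M ⊓ Subgroup.centralizer ({g} : Set R) = φ.ker.map M.subtype := by
      ext x
      constructor
      · rintro ⟨hxM, hxg⟩
        refine ⟨⟨x, hxM⟩, ?_, rfl⟩
        show (⟨x, hxM⟩ : ↥M) ∈ φ.ker
        rw [MonoidHom.mem_ker]
        apply Subtype.ext
        show x * (g * x⁻¹ * g⁻¹) = 1
        have hxg : x ∈ Subgroup.centralizer ({g} : Set R) := hxg
        rw [Subgroup.mem_centralizer_iff] at hxg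
        have := hxg g rfl
        have e : x * (g * x⁻¹ * g⁻¹) = (x * g) * x⁻¹ * g⁻¹ := by group
        rw [e, ← this]; group
      · rintro ⟨x, hx, rfl⟩
        refine ⟨x.2, ?_⟩
        have hx : x ∈ φ.ker := hx
        rw [MonoidHom.mem_ker] at hx
        have hx' : (x : R) * (g * (x : R)⁻¹ * g⁻¹) = 1 := congrArg Subtype.val hx
        show (x : R) ∈ Subgroup.centralizer ({g} : Set R)
        rw [Subgroup.mem_centralizer_iff]
        intro y hy
        rw [Set.mem_singleton_iff] at hy
        subst hy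
        have e : y * (x : R) = ((x : R) * (y * (x : R)⁻¹ * y⁻¹))⁻¹ * ((x : R) * y) := by group
        rw [e, hx']; group
    rw [this, Subgroup.card_map_of_injective M.subtype_injective]
  rw [h5]
  have hpos : 0 < Nat.card (commutator R) := Nat.card_pos
  nlinarith

end TkComm

section TkClass

variable {S : Type*} [Group S]

theorem tk_closure_top (c g : S) (hidx : (Subgroup.zpowers c).index = 2)
    (hg : g ∉ Subgroup.zpowers c) (A : Subgroup S) (hc : c ∈ A) (hgA : g ∈ A) : A = ⊤ := by
  rw [eq_top_iff, ← tk_sup_top _ hidx g hg]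
  apply sup_le
  · rw [Subgroup.zpowers_le]; exact hc
  · rw [Subgroup.zpowers_le]; exact hgA

theorem tk_facts [Finite S] (c g : S) (m : ℕ) (hm : 1 ≤ m)
    (hord : orderOf c = 2 ^ m) (hidx : (Subgroup.zpowers c).index = 2)
    (hg : g ∉ Subgroup.zpowers c)
    (hcent : Nat.card ↥(Subgroup.zpowers c ⊓ Subgroup.centralizer ({g} : Set S)) ≤ 2) :
    orderOf (c ^ 2 ^ (m - 1)) = 2 ∧
    (∀ u ∈ Subgroup.zpowers c, u * g = g * u → u = 1 ∨ u = c ^ 2 ^ (m - 1)) ∧
    (g * g = 1 ∨ g * g = c ^ 2 ^ (m - 1)) ∧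
    (g * c * g⁻¹ = c⁻¹ ∨ g * c * g⁻¹ = c⁻¹ * c ^ 2 ^ (m - 1)) := by
  classical
  set C := Subgroup.zpowers c with hC
  set w := c ^ 2 ^ (m - 1) with hw
  have hCn : C.Normal := Subgroup.normal_of_index_eq_two hidx
  have hcC : c ∈ C := Subgroup.mem_zpowers c
  have hwC : w ∈ C := Subgroup.pow_mem _ hcC _
  have hCab : ∀ x ∈ C, ∀ y ∈ C, x * y = y * x := by
    intro x hx y hy
    obtain ⟨i, rfl⟩ := Subgroup.mem_zpowers_iff.mp hx
    obtain ⟨j, rfl⟩ := Subgroup.mem_zpowers_iff.mp hy
    rw [← zpow_add, ← zpow_add, add_comm]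
  have hword : orderOf w = 2 := by
    rw [hw, orderOf_pow_of_dvd (by positivity), hord]
    · rw [Nat.pow_div (by omega) (by norm_num)]
      have : m - (m - 1) = 1 := by omega
      rw [this, pow_one]
    · rw [hord]; exact pow_dvd_pow 2 (by omega)
  have hw2 : w ^ 2 = 1 := by rw [← hword]; exact pow_orderOf_eq_one w
  have hw1 : w ≠ 1 := by
    intro h
    rw [h, orderOf_one] at hword
    omega
  have hgw : g * w * g⁻¹ = w := by
    have h1 : g * w * g⁻¹ ∈ C := hCn.conj_mem _ hwC g
    have h2 : (g * w * g⁻¹) ^ 2 = 1 := by rw [conj_pow, hw2]; group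
    have h3 : g * w * g⁻¹ ≠ 1 := by
      intro h
      apply hw1
      have : w = g⁻¹ * (g * w * g⁻¹) * g := by group
      rw [this, h]; group
    have := ix_cyclic_invol_unique (S := ↥C) ⟨g * w * g⁻¹, h1⟩ ⟨w, hwC⟩
      (by apply Subtype.ext; simpa using h2)
      (by intro h; exact h3 (congrArg Subtype.val h))
      (by apply Subtype.ext; simpa using hw2)
      (by intro h; exact hw1 (congrArg Subtype.val h))
    exact congrArg Subtype.val this
  have hcases : ∀ u ∈ C, u * g = g * u → u = 1 ∨ u = w := by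
    intro u hu hug
    by_contra hne
    push Not at hne
    have hmemD : ∀ v : S, v ∈ C → v * g = g * v → v ∈ C ⊓ Subgroup.centralizer ({g} : Set S) := by
      intro v hv hvg
      refine ⟨hv, ?_⟩
      show v ∈ Subgroup.centralizer ({g} : Set S)
      rw [Subgroup.mem_centralizer_iff]
      intro y hy
      rw [Set.mem_singleton_iff] at hy
      subst hy
      exact hvg.symm
    have hwg : w * g = g * w := by
      have : g * w = (g * w * g⁻¹) * g := by group
      rw [this, hgw]
    let D := C ⊓ Subgroup.centralizer ({g} : Set S)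
    have h3 : ({⟨1, D.one_mem⟩, ⟨w, hmemD w hwC hwg⟩, ⟨u, hmemD u hu hug⟩} : Finset ↥D).card = 3 := by
      rw [Finset.card_eq_three]
      refine ⟨_, _, _, ?_, ?_, ?_, rfl⟩
      · intro h; exact hw1 (congrArg Subtype.val h).symm
      · intro h; exact hne.1 (congrArg Subtype.val h).symm
      · intro h; exact hne.2 (congrArg Subtype.val h).symm
    haveI := Fintype.ofFinite ↥D
    have h4 := Finset.card_le_univ ({⟨1, D.one_mem⟩, ⟨w, hmemD w hwC hwg⟩, ⟨u, hmemD u hu hug⟩} : Finset ↥D)
    rw [h3, ← Nat.card_eq_fintype_card] at h4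
    have h5 : Nat.card ↥D ≤ 2 := hcent
    omega
  have hggC : g * g ∈ C := by
    rw [Subgroup.mul_mem_iff_of_index_two hidx]
  have hgg := hcases (g * g) hggC (by group)
  refine ⟨hword, hcases, hgg, ?_⟩
  have hgcC : g * c * g⁻¹ ∈ C := hCn.conj_mem _ hcC g
  have heC : c * (g * c * g⁻¹) ∈ C := C.mul_mem hcC hgcC
  have hfix : (c * (g * c * g⁻¹)) * g = g * (c * (g * c * g⁻¹)) := by
    have h1 : g * (c * (g * c * g⁻¹)) = (g * c * g⁻¹) * ((g * g) * c * (g * g)⁻¹) * g := by group
    have h2 : (g * g) * c * (g * g)⁻¹ = c := by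
      rw [hCab _ hggC _ hcC]; group
    rw [h1, h2, hCab _ hgcC _ hcC]
  rcases hcases _ heC hfix with h | h
  · left
    have : g * c * g⁻¹ = c⁻¹ * (c * (g * c * g⁻¹)) := by group
    rw [this, h, mul_one]
  · right
    have : g * c * g⁻¹ = c⁻¹ * (c * (g * c * g⁻¹)) := by group
    rw [this, h]

theorem tk_order_two {x : S} (h1 : x * x = 1) (h2 : x ≠ 1) : orderOf x = 2 := by
  apply orderOf_eq_prime
  · rw [pow_two]; exact h1
  · exact h2

theorem tk_dihedral (c g : S) (m : ℕ) (hm : 2 ≤ m) (hord : orderOf c = 2 ^ m)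
    (hidx : (Subgroup.zpowers c).index = 2) (hg : g ∉ Subgroup.zpowers c)
    (hgg : g * g = 1) (hgc : g * c * g⁻¹ = c⁻¹) :
    ∃ k : ℕ, Nonempty (S ≃* DihedralGroup (2 ^ (k + 2))) := by
  have hg1 : g ≠ 1 := by
    intro h; apply hg; rw [h]; exact Subgroup.one_mem _
  have hgo : orderOf g = 2 := tk_order_two hgg hg1
  have hginv : g⁻¹ = g := inv_eq_of_mul_eq_one_left hgg
  have hy1 : g * c ≠ 1 := by
    intro h
    apply hg
    have : g = c⁻¹ := eq_inv_of_mul_eq_one_left h
    rw [this]
    exact Subgroup.inv_mem _ (Subgroup.mem_zpowers c)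
  have hyy : (g * c) * (g * c) = 1 := by
    have : (g * c) * (g * c) = (g * c * g⁻¹) * (g * g) * c := by group
    rw [this, hgc, hgg]; group
  have hyo : orderOf (g * c) = 2 := tk_order_two hyy hy1
  have hxy : g * (g * c) = c := by rw [← mul_assoc, hgg, one_mul]
  have htop : Subgroup.closure ({g, g * c} : Set S) = ⊤ := by
    apply tk_closure_top c g hidx hg
    · have hc : c = g⁻¹ * (g * c) := by group
      rw [hc]
      exact Subgroup.mul_mem _ (Subgroup.inv_mem _ (Subgroup.subset_closure (by simp)))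
        (Subgroup.subset_closure (by simp))
    · exact Subgroup.subset_closure (by simp)
  have e1 : Nonempty (↥(Subgroup.closure ({g, g * c} : Set S)) ≃* DihedralGroup (orderOf (g * (g * c)))) :=
    ⟨tiEquiv hgo hyo⟩
  rw [hxy, hord] at e1
  obtain ⟨e1⟩ := e1
  refine ⟨m - 2, ?_⟩
  have hm2 : m - 2 + 2 = m := by omega
  rw [hm2]
  exact ⟨(Subgroup.topEquiv.symm.trans (MulEquiv.subgroupCongr htop.symm)).trans e1⟩

theorem tk_quaternion (c g : S) (m : ℕ) (hm : 2 ≤ m) (hord : orderOf c = 2 ^ m)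
    (hidx : (Subgroup.zpowers c).index = 2) (hg : g ∉ Subgroup.zpowers c)
    (hgg : g * g = c ^ 2 ^ (m - 1)) (hgc : g * c * g⁻¹ = c⁻¹) :
    ∃ k : ℕ, Nonempty (S ≃* QuaternionGroup (2 ^ (k + 1))) := by
  have hord' : orderOf c = 2 * 2 ^ (m - 1) := by
    rw [hord, ← pow_succ']
    congr 1
    omega
  obtain ⟨_, ⟨e1⟩⟩ := Cfsg.Agent.Lib.helper14.quaternion_closure (2 ^ (m - 1)) (Nat.one_le_two_pow) c g
    hord' hgg hgc
  have htop : Subgroup.closure ({c, g} : Set S) = ⊤ := by
    apply tk_closure_top c g hidx hg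
    · exact Subgroup.subset_closure (by simp)
    · exact Subgroup.subset_closure (by simp)
  refine ⟨m - 2, ?_⟩
  have hm2 : m - 2 + 1 = m - 1 := by omega
  rw [hm2]
  exact ⟨(Subgroup.topEquiv.symm.trans (MulEquiv.subgroupCongr htop.symm)).trans e1⟩

theorem tk_semidihedral [Finite S] (c g : S) (m : ℕ) (hm : 2 ≤ m) (hord : orderOf c = 2 ^ m)
    (hidx : (Subgroup.zpowers c).index = 2) (hg : g ∉ Subgroup.zpowers c)
    (hwo : orderOf (c ^ 2 ^ (m - 1)) = 2)
    (hcases : ∀ u ∈ Subgroup.zpowers c, u * g = g * u → u = 1 ∨ u = c ^ 2 ^ (m - 1))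
    (hgg : g * g = 1 ∨ g * g = c ^ 2 ^ (m - 1)) (hgc : g * c * g⁻¹ = c⁻¹ * c ^ 2 ^ (m - 1)) :
    ∃ k : ℕ, Nat.card S = 2 ^ (k + 4) ∧ ∃ a b : S, orderOf a = 2 ^ (k + 3) ∧ orderOf b = 2 ∧
      b * a * b⁻¹ = a ^ (2 ^ (k + 2) - 1) := by
  set w := c ^ 2 ^ (m - 1) with hw
  have hww : w * w = 1 := by
    rw [← pow_two, ← hwo]; exact pow_orderOf_eq_one w
  have hm3 : 3 ≤ m := by
    by_contra hlt
    have hm2 : m = 2 := by omega
    subst hm2
    have hw' : w = c * c := by rw [hw]; norm_num [pow_two]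
    have hcg : c * g = g * c := by
      have : g * c = (g * c * g⁻¹) * g := by group
      rw [this, hgc, hw']; group
    rcases hcases c (Subgroup.mem_zpowers c) hcg with h | h
    · rw [h, orderOf_one] at hord; norm_num at hord
    · rw [hw'] at h
      have : c = 1 := by
        have h2 : c * 1 = c * c := by rw [mul_one]; exact h
        exact (mul_left_cancel h2).symm
      rw [this, orderOf_one] at hord; norm_num at hord
  have hcard : Nat.card S = 2 ^ (m + 1) := by
    rw [← Subgroup.card_mul_index (Subgroup.zpowers c), hidx, Nat.card_zpowers, hord, pow_succ]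
  have hpow : c ^ (2 ^ (m - 3 + 2) - 1) = c⁻¹ * w := by
    have h1 : m - 3 + 2 = m - 1 := by omega
    rw [h1]
    have h2 : c ^ (2 ^ (m - 1) - 1) * c = w := by
      rw [← pow_succ, Nat.sub_add_cancel Nat.one_le_two_pow]
    have h3 : c ^ (2 ^ (m - 1) - 1) = w * c⁻¹ := by
      rw [← h2]; group
    rw [h3]
    have hwc : w * c⁻¹ = c⁻¹ * w := by
      rw [hw]
      have : c⁻¹ = c ^ (-1 : ℤ) := by simp
      rw [this, ← zpow_natCast, ← zpow_add, ← zpow_add, add_comm]
    exact hwc
  refine ⟨m - 3, ?_, c, ?_⟩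
  · rw [hcard]; congr 1; omega
  rcases hgg with hgg | hgg
  · refine ⟨g, ?_, ?_, ?_⟩
    · rw [hord]; congr 1; omega
    · apply tk_order_two hgg
      intro h; apply hg; rw [h]; exact Subgroup.one_mem _
    · rw [hpow, hgc]
  · refine ⟨g * c, ?_, ?_, ?_⟩
    · rw [hord]; congr 1; omega
    · apply tk_order_two
      · have : (g * c) * (g * c) = (g * c * g⁻¹) * (g * g) * c := by group
        rw [this, hgc, hgg, mul_assoc c⁻¹, hww]; group
      · intro h
        apply hg
        have : g = c⁻¹ := eq_inv_of_mul_eq_one_left h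
        rw [this]
        exact Subgroup.inv_mem _ (Subgroup.mem_zpowers c)
    · rw [hpow, ← hgc]; group

end TkClass

theorem tk_central_invol {S : Type*} [Group S] [Finite S] (hS : IsPGroup 2 S)
    (hne : commutator S ≠ ⊥) :
    ∃ z : S, z ∈ commutator S ∧ z ∈ Subgroup.center S ∧ orderOf z = 2 := by
  haveI : Fact (Nat.Prime 2) := ⟨Nat.prime_two⟩
  haveI : Group.IsNilpotent S := hS.isNilpotent
  have h1 := Cfsg.Agent.Lib.Helper1.normal_inf_center_ne_bot (commutator S) hne
  set H := commutator S ⊓ Subgroup.center S with hH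
  have hHp : IsPGroup 2 H := hS.to_subgroup H
  obtain ⟨k, hk⟩ := IsPGroup.iff_card.mp hHp
  have hk0 : k ≠ 0 := by
    intro h0
    rw [h0, pow_zero] at hk
    exact h1 (Subgroup.card_eq_one.mp hk)
  have h2 : 2 ∣ Nat.card H := by
    rw [hk]; exact dvd_pow_self 2 hk0
  obtain ⟨x, hx⟩ := exists_prime_orderOf_dvd_card' 2 h2
  refine ⟨x.1, x.2.1, x.2.2, ?_⟩
  rw [← hx, Subgroup.orderOf_coe]

theorem tk_normal_zpowers {S : Type*} [Group S] (z : S) (hz : z ∈ Subgroup.center S) :
    (Subgroup.zpowers z).Normal := by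
  constructor
  intro n hn g
  have : n ∈ Subgroup.center S := by
    have : Subgroup.zpowers z ≤ Subgroup.center S := by
      rw [Subgroup.zpowers_le]; exact hz
    exact this hn
  rw [Subgroup.mem_center_iff] at this
  rw [this g, mul_inv_cancel_right]
  exact hn

theorem tk_order_eight {S : Type*} [Group S] [Finite S] (hcard : Nat.card S = 8)
    (hne : commutator S ≠ ⊥) : ∃ C : Subgroup S, IsCyclic C ∧ C.index = 2 := by
  have hnc : ¬ (∀ a b : S, a * b = b * a) := by
    intro h
    apply hne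
    rw [commutator_def, Subgroup.commutator_eq_bot_iff_le_centralizer]
    intro a _
    rw [Subgroup.mem_centralizer_iff]
    intro b _
    exact h b a
  have hex : ∃ x : S, orderOf x = 4 := by
    by_contra hno
    push Not at hno
    apply hnc
    have hsq : ∀ x : S, x * x = 1 := by
      intro x
      have h1 : orderOf x ∣ 8 := hcard ▸ orderOf_dvd_natCard x
      have h2 : orderOf x ∈ Nat.divisors 8 := Nat.mem_divisors.mpr ⟨h1, by norm_num⟩
      have h3 : Nat.divisors 8 = {1, 2, 4, 8} := by decide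
      rw [h3] at h2
      simp only [Finset.mem_insert, Finset.mem_singleton] at h2
      rcases h2 with h | h | h | h
      · rw [orderOf_eq_one_iff] at h; rw [h, mul_one]
      · rw [← pow_two, ← h]; exact pow_orderOf_eq_one x
      · exact absurd h (hno x)
      · exfalso
        apply hnc
        have hcyc : IsCyclic S := isCyclic_of_orderOf_eq_card x (by rw [h, hcard])
        intro a b
        obtain ⟨y, hy⟩ := hcyc.exists_generator
        obtain ⟨i, rfl⟩ := Subgroup.mem_zpowers_iff.mp (hy a)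
        obtain ⟨j, rfl⟩ := Subgroup.mem_zpowers_iff.mp (hy b)
        rw [← zpow_add, ← zpow_add, add_comm]
    intro a b
    have h1 := hsq (a * b)
    have h2 := hsq a
    have h3 := hsq b
    have : a * b = a * (a * b * (a * b)) * b := by rw [h1, mul_one]
    rw [this]
    have : a * (a * b * (a * b)) * b = (a * a) * (b * a) * (b * b) := by group
    rw [this, h2, h3, one_mul, mul_one]
  obtain ⟨x, hx⟩ := hex
  refine ⟨Subgroup.zpowers x, inferInstance, ?_⟩
  have h1 := Subgroup.card_mul_index (Subgroup.zpowers x)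
  rw [Nat.card_zpowers, hx, hcard] at h1
  omega

theorem tk_z_mem {S : Type*} [Group S] [Finite S] (hS : IsPGroup 2 S) (z : S)
    (hzc : z ∈ Subgroup.center S) (hzo : orderOf z = 2) (M : Subgroup S) (hMi : M.index = 2)
    (hzM : z ∈ M) (g : S)
    (hcent : Nat.card ↥(M ⊓ Subgroup.centralizer ({g} : Set S)) ≤ 2)
    (a : S) (haM : a ∈ M) (hgen : ∀ x ∈ M, ∃ i : ℤ, x * (a ^ i)⁻¹ ∈ Subgroup.zpowers z)
    (ha4 : 4 ≤ orderOf a) : z ∈ Subgroup.zpowers a := by
  classical
  by_contra hz
  have hMn : M.Normal := Subgroup.normal_of_index_eq_two hMi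
  obtain ⟨j, hj⟩ := (IsPGroup.iff_orderOf.mp hS) a
  have hj2 : 2 ≤ j := by
    by_contra hlt
    have : j = 0 ∨ j = 1 := by omega
    rcases this with h | h <;> rw [hj, h] at ha4 <;> norm_num at ha4
  set v := a ^ 2 ^ (j - 2) with hv
  set w := v * v with hw
  have hwpow : w = a ^ 2 ^ (j - 1) := by
    rw [hw, hv, ← pow_add]
    congr 1
    have : j - 1 = (j - 2) + 1 := by omega
    rw [this, pow_succ]; ring
  have hwo : orderOf w = 2 := by
    rw [hwpow, orderOf_pow_of_dvd (by positivity), hj]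
    · rw [Nat.pow_div (by omega) (by norm_num)]
      have : j - (j - 1) = 1 := by omega
      rw [this, pow_one]
    · rw [hj]; exact pow_dvd_pow 2 (by omega)
  have hw2 : w ^ 2 = 1 := by rw [← hwo]; exact pow_orderOf_eq_one w
  have hw1 : w ≠ 1 := by
    intro h; rw [h, orderOf_one] at hwo; omega
  have hz1 : z ≠ 1 := by
    intro h; rw [h, orderOf_one] at hzo; omega
  have hzz : z * z = 1 := by rw [← pow_two, ← hzo]; exact pow_orderOf_eq_one z
  have hwA : w ∈ Subgroup.zpowers a := by rw [hwpow]; exact Subgroup.pow_mem _ (Subgroup.mem_zpowers a) _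
  have hvM : v ∈ M := M.pow_mem haM _
  have hwM : w ∈ M := M.mul_mem hvM hvM
  have hgvM : g * v * g⁻¹ ∈ M := hMn.conj_mem _ hvM g
  obtain ⟨i, hi⟩ := hgen _ hgvM
  set n := g * v * g⁻¹ * (a ^ i)⁻¹ with hn
  have hnc : n ∈ Subgroup.center S := by
    have : Subgroup.zpowers z ≤ Subgroup.center S := by
      rw [Subgroup.zpowers_le]; exact hzc
    exact this hi
  have hnn : n * n = 1 := by
    obtain ⟨e, he⟩ := Subgroup.mem_zpowers_iff.mp hi
    rw [← he, ← zpow_add, ← two_mul, zpow_mul, zpow_two, hzz, one_zpow]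
  have hgv : g * v * g⁻¹ = n * a ^ i := by rw [hn]; group
  have hgw : g * w * g⁻¹ = a ^ i * a ^ i := by
    have : g * w * g⁻¹ = (g * v * g⁻¹) * (g * v * g⁻¹) := by rw [hw]; group
    rw [this, hgv]
    rw [Subgroup.mem_center_iff] at hnc
    have : n * a ^ i * (n * a ^ i) = (n * n) * (a ^ i * a ^ i) := by
      have e1 : n * a ^ i * (n * a ^ i) = n * (a ^ i * n) * a ^ i := by group
      rw [e1, hnc (a ^ i)]; group
    rw [this, hnn, one_mul]
  have hgwA : g * w * g⁻¹ ∈ Subgroup.zpowers a := by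
    rw [hgw]
    exact Subgroup.mul_mem _ (Subgroup.zpow_mem _ (Subgroup.mem_zpowers a) i)
      (Subgroup.zpow_mem _ (Subgroup.mem_zpowers a) i)
  have hgw2 : (g * w * g⁻¹) ^ 2 = 1 := by rw [conj_pow, hw2]; group
  have hgw1 : g * w * g⁻¹ ≠ 1 := by
    intro h
    apply hw1
    have : w = g⁻¹ * (g * w * g⁻¹) * g := by group
    rw [this, h]; group
  have huniq := ix_cyclic_invol_unique (S := ↥(Subgroup.zpowers a)) ⟨g * w * g⁻¹, hgwA⟩ ⟨w, hwA⟩
    (by apply Subtype.ext; simpa using hgw2)
    (by intro h; exact hgw1 (congrArg Subtype.val h))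
    (by apply Subtype.ext; simpa using hw2)
    (by intro h; exact hw1 (congrArg Subtype.val h))
  have hgweq : g * w * g⁻¹ = w := congrArg Subtype.val huniq
  have hwg : w * g = g * w := by
    have : g * w = (g * w * g⁻¹) * g := by group
    rw [this, hgweq]
  have hmemD : ∀ u : S, u ∈ M → u * g = g * u → u ∈ M ⊓ Subgroup.centralizer ({g} : Set S) := by
    intro u hu hug
    refine ⟨hu, ?_⟩
    show u ∈ Subgroup.centralizer ({g} : Set S)
    rw [Subgroup.mem_centralizer_iff]
    intro y hy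
    rw [Set.mem_singleton_iff] at hy
    subst hy
    exact hug.symm
  have hzg : z * g = g * z := by
    rw [Subgroup.mem_center_iff] at hzc
    exact (hzc g).symm
  let D := M ⊓ Subgroup.centralizer ({g} : Set S)
  have h3 : ({⟨1, D.one_mem⟩, ⟨w, hmemD w hwM hwg⟩, ⟨z, hmemD z hzM hzg⟩} : Finset ↥D).card = 3 := by
    rw [Finset.card_eq_three]
    refine ⟨_, _, _, ?_, ?_, ?_, rfl⟩
    · intro h; exact hw1 (congrArg Subtype.val h).symm
    · intro h; exact hz1 (congrArg Subtype.val h).symm
    · intro h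
      apply hz
      have : w = z := congrArg Subtype.val h
      rw [← this]; exact hwA
  haveI := Fintype.ofFinite ↥D
  have h4 := Finset.card_le_univ ({⟨1, D.one_mem⟩, ⟨w, hmemD w hwM hwg⟩, ⟨z, hmemD z hzM hzg⟩} : Finset ↥D)
  rw [h3, ← Nat.card_eq_fintype_card] at h4
  have h5 : Nat.card ↥D ≤ 2 := hcent
  omega

theorem tk_exists_cyclic : ∀ (n : ℕ) (S : Type u) [Group S] [Finite S], Nat.card S = n →
    IsPGroup 2 S → (commutator S).index = 4 → 8 ≤ n →
    ∃ C : Subgroup S, IsCyclic C ∧ C.index = 2 := by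
  intro n
  induction n using Nat.strong_induction_on with
  | _ n ih =>
    intro S _ _ hn hS hidx h8
    haveI : Fact (Nat.Prime 2) := ⟨Nat.prime_two⟩
    have hne : commutator S ≠ ⊥ := by
      intro h
      rw [h, Subgroup.index_bot, hn] at hidx
      omega
    obtain ⟨z, hzS', hzc, hzo⟩ := tk_central_invol hS hne
    set N := Subgroup.zpowers z with hN
    haveI hNn : N.Normal := tk_normal_zpowers z hzc
    have hNcard : Nat.card N = 2 := by rw [hN, Nat.card_zpowers, hzo]
    have hQcard : Nat.card (S ⧸ N) * 2 = n := by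
      rw [← hn, ← hNcard]
      exact (Subgroup.card_eq_card_quotient_mul_card_subgroup N).symm
    have hQp : IsPGroup 2 (S ⧸ N) := hS.to_quotient N
    have hsurj : Function.Surjective (QuotientGroup.mk' N) := QuotientGroup.mk'_surjective N
    have hQidx : (commutator (S ⧸ N)).index = 4 := by
      have h1 : commutator (S ⧸ N) = (commutator S).map (QuotientGroup.mk' N) := by
        rw [commutator_def, commutator_def, Subgroup.map_commutator,
          Subgroup.map_top_of_surjective _ hsurj]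
      rw [h1, Subgroup.index_map_eq _ hsurj, hidx]
      rw [QuotientGroup.ker_mk', hN, Subgroup.zpowers_le]
      exact hzS'
    have h4dvd : 4 ∣ Nat.card (S ⧸ N) := by
      rw [← hQidx]; exact Subgroup.index_dvd_card _
    by_cases hq4 : Nat.card (S ⧸ N) = 4
    · apply tk_order_eight _ hne
      rw [hn, ← hQcard, hq4]
    · have hq8 : 8 ≤ Nat.card (S ⧸ N) := by
        obtain ⟨k, hk⟩ := IsPGroup.iff_card.mp hQp
        rw [hk] at h4dvd hq4 ⊢
        have hk2 : 2 ≤ k := by
          by_contra hlt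
          have : k = 0 ∨ k = 1 := by omega
          rcases this with h | h <;> rw [h] at h4dvd <;> norm_num at h4dvd
        have hk3 : 3 ≤ k := by
          by_contra hlt
          have : k = 2 := by omega
          rw [this] at hq4
          exact hq4 rfl
        calc 8 = 2 ^ 3 := by norm_num
          _ ≤ 2 ^ k := Nat.pow_le_pow_right (by norm_num) hk3
      have hlt : Nat.card (S ⧸ N) < n := by omega
      obtain ⟨Cb, hCbc, hCbi⟩ := ih _ hlt (S ⧸ N) rfl hQp hQidx hq8
      set M := Cb.comap (QuotientGroup.mk' N) with hM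
      have hMi : M.index = 2 := by
        rw [hM, Subgroup.index_comap_of_surjective _ hsurj, hCbi]
      have hNM : N ≤ M := by
        intro x hx
        rw [hM, Subgroup.mem_comap]
        have : QuotientGroup.mk' N x = 1 := (QuotientGroup.eq_one_iff x).mpr hx
        rw [this]; exact Cb.one_mem
      have hNc : N ≤ Subgroup.center S := by
        rw [hN, Subgroup.zpowers_le]; exact hzc
      have hMab : ∀ x ∈ M, ∀ y ∈ M, x * y = y * x := by
        intro x hx y hy
        have hker : ((QuotientGroup.mk' N).subgroupComap Cb).ker ≤ Subgroup.center ↥M := by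
          intro u hu
          rw [MonoidHom.mem_ker] at hu
          have hu' : QuotientGroup.mk' N (u : S) = 1 := congrArg Subtype.val hu
          have huN : (u : S) ∈ N := (QuotientGroup.eq_one_iff _).mp hu'
          have huc := hNc huN
          rw [Subgroup.mem_center_iff] at huc ⊢
          intro t
          apply Subtype.ext
          exact huc t
        have := commutative_of_cyclic_center_quotient ((QuotientGroup.mk' N).subgroupComap Cb) hker
          ⟨x, hx⟩ ⟨y, hy⟩
        exact congrArg Subtype.val this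
      have hMtop : M ≠ ⊤ := by
        intro h
        rw [h, Subgroup.index_top] at hMi
        omega
      obtain ⟨g, hg⟩ : ∃ g : S, g ∉ M := by
        by_contra hall
        push Not at hall
        exact hMtop (eq_top_iff.mpr (fun x _ => hall x))
      have hcent := tk_centralizer_card_le M hMab hMi g hg hidx
      obtain ⟨⟨ab, habC⟩, hgen⟩ := hCbc.exists_generator
      obtain ⟨a, rfl⟩ := hsurj ab
      have haM : a ∈ M := habC
      have hgenM : ∀ x ∈ M, ∃ i : ℤ, x * (a ^ i)⁻¹ ∈ N := by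
        intro x hx
        have hxC : QuotientGroup.mk' N x ∈ Cb := hx
        obtain ⟨i, hi⟩ := Subgroup.mem_zpowers_iff.mp (hgen ⟨_, hxC⟩)
        refine ⟨i, ?_⟩
        have hi' : (QuotientGroup.mk' N a) ^ i = QuotientGroup.mk' N x := by
          have := congrArg Subtype.val hi
          simpa using this
        rw [← QuotientGroup.eq_one_iff, ← QuotientGroup.mk'_apply, map_mul, map_inv, map_zpow, hi',
          mul_inv_cancel]
      have hCbcard : Nat.card Cb * 2 = Nat.card (S ⧸ N) := by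
        rw [← hCbi]; exact Subgroup.card_mul_index Cb
      have hordab : orderOf (QuotientGroup.mk' N a) = Nat.card Cb := by
        have h1 : orderOf (⟨QuotientGroup.mk' N a, habC⟩ : ↥Cb) = Nat.card Cb :=
          orderOf_eq_card_of_forall_mem_zpowers hgen
        rw [← h1, ← Subgroup.orderOf_coe]
      have ha4 : 4 ≤ orderOf a := by
        have h1 : orderOf (QuotientGroup.mk' N a) ∣ orderOf a := orderOf_map_dvd _ a
        have h2 : 4 ≤ orderOf (QuotientGroup.mk' N a) := by rw [hordab]; omega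
        exact le_trans h2 (Nat.le_of_dvd (orderOf_pos a) h1)
      have hzA := tk_z_mem hS z hzc hzo M hMi (hNM (Subgroup.mem_zpowers z)) g hcent a haM hgenM ha4
      refine ⟨Subgroup.zpowers a, inferInstance, ?_⟩
      have hMeq : M = Subgroup.zpowers a := by
        apply le_antisymm
        · intro x hx
          obtain ⟨i, hi⟩ := hgenM x hx
          have hNA : N ≤ Subgroup.zpowers a := by
            rw [hN, Subgroup.zpowers_le]; exact hzA
          have : x = (x * (a ^ i)⁻¹) * a ^ i := by group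
          rw [this]
          exact Subgroup.mul_mem _ (hNA hi) (Subgroup.zpow_mem _ (Subgroup.mem_zpowers a) i)
        · rw [Subgroup.zpowers_le]; exact haM
      rw [← hMeq, hMi]

theorem tk_main {S : Type u} [Group S] [Finite S] (h2 : IsPGroup 2 S)
    (hidx : (commutator S).index = 4) :
    Nat.card S = 4 ∨
    ((∃ k : ℕ, Nonempty (S ≃* DihedralGroup (2 ^ (k + 2)))) ∨
      (∃ k : ℕ, Nat.card S = 2 ^ (k + 4) ∧ ∃ a b : S, orderOf a = 2 ^ (k + 3) ∧ orderOf b = 2 ∧
        b * a * b⁻¹ = a ^ (2 ^ (k + 2) - 1)) ∨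
      (∃ k : ℕ, Nonempty (S ≃* QuaternionGroup (2 ^ (k + 1))))) := by
  by_cases h4 : Nat.card S = 4
  · left; exact h4
  right
  obtain ⟨n, hn⟩ := IsPGroup.iff_card.mp h2
  have h4dvd : 4 ∣ Nat.card S := by rw [← hidx]; exact Subgroup.index_dvd_card _
  have hn3 : 3 ≤ n := by
    rw [hn] at h4dvd h4
    have hn2 : 2 ≤ n := by
      by_contra hlt
      have : n = 0 ∨ n = 1 := by omega
      rcases this with h | h <;> rw [h] at h4dvd <;> norm_num at h4dvd
    by_contra hlt
    have : n = 2 := by omega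
    rw [this] at h4
    exact h4 rfl
  have h8 : 8 ≤ Nat.card S := by
    rw [hn]
    calc 8 = 2 ^ 3 := by norm_num
      _ ≤ 2 ^ n := Nat.pow_le_pow_right (by norm_num) hn3
  obtain ⟨C, hCc, hCi⟩ := tk_exists_cyclic _ S rfl h2 hidx h8
  obtain ⟨⟨c, hcC⟩, hgen⟩ := hCc.exists_generator
  have hCz : C = Subgroup.zpowers c := by
    apply le_antisymm
    · intro u hu
      obtain ⟨i, hi⟩ := Subgroup.mem_zpowers_iff.mp (hgen ⟨u, hu⟩)
      rw [Subgroup.mem_zpowers_iff]
      refine ⟨i, ?_⟩
      have := congrArg Subtype.val hi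
      simpa using this
    · rw [Subgroup.zpowers_le]; exact hcC
  rw [hCz] at hCi
  have hord : orderOf c = 2 ^ (n - 1) := by
    have h1 := Subgroup.card_mul_index (Subgroup.zpowers c)
    rw [hCi, Nat.card_zpowers, hn] at h1
    have h2' : 2 ^ n = 2 ^ (n - 1) * 2 := by
      rw [← pow_succ]; congr 1; omega
    rw [h2'] at h1
    exact Nat.eq_of_mul_eq_mul_right (by norm_num) h1
  have hCtop : Subgroup.zpowers c ≠ ⊤ := by
    intro h
    rw [h, Subgroup.index_top] at hCi
    omega
  obtain ⟨g, hg⟩ : ∃ g : S, g ∉ Subgroup.zpowers c := by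
    by_contra hall
    push Not at hall
    exact hCtop (eq_top_iff.mpr (fun x _ => hall x))
  have hCab : ∀ x ∈ Subgroup.zpowers c, ∀ y ∈ Subgroup.zpowers c, x * y = y * x := by
    intro x hx y hy
    obtain ⟨i, rfl⟩ := Subgroup.mem_zpowers_iff.mp hx
    obtain ⟨j, rfl⟩ := Subgroup.mem_zpowers_iff.mp hy
    rw [← zpow_add, ← zpow_add, add_comm]
  have hcent := tk_centralizer_card_le (Subgroup.zpowers c) hCab hCi g hg hidx
  obtain ⟨hwo, hcases, hgg, hgc⟩ := tk_facts c g (n - 1) (by omega) hord hCi hg hcent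
  rcases hgc with hgc | hgc
  · rcases hgg with hgg | hgg
    · left
      exact tk_dihedral c g (n - 1) (by omega) hord hCi hg hgg hgc
    · right; right
      exact tk_quaternion c g (n - 1) (by omega) hord hCi hg hgg hgc
  · right; left
    exact tk_semidihedral c g (n - 1) (by omega) hord hCi hg hwo hcases hgg hgc

end Cfsg.Agent.Lib.Helper24
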