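import Mathlib

set_option autoImplicit false

namespace Cfsg.Agent.Lib.Helper24

open scoped commutatorElement

variable {G : Type*} [Group G]

theorem tr_transfer_mul_inv_pow_mem {H : Subgroup G} {A : Type*} [CommGroup A] (φ : H →* A)
    [H.FiniteIndex] (K : Subgroup A) (x : H)
    (key : ∀ (k : ℕ) (g₀ : G) (hk : g₀⁻¹ * (x : G) ^ k * g₀ ∈ H),
      φ ⟨g₀⁻¹ * (x : G) ^ k * g₀, hk⟩ * (φ x ^ k)⁻¹ ∈ K) :
    MonoidHom.transfer φ (x : G) * (φ x ^ H.index)⁻¹ ∈ K := by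
  have : Fintype (Quotient (MulAction.orbitRel (Subgroup.zpowers (x : G)) (G ⧸ H))) :=
    Fintype.ofFinite _
  rw [Subgroup.index_eq_sum_minimalPeriod H (x : G), ← Finset.prod_pow_eq_pow_sum,
    MonoidHom.transfer_eq_prod_quotient_orbitRel_zpowers_quot, ← Finset.prod_inv_distrib,
    ← Finset.prod_mul_distrib]
  apply Subgroup.prod_mem
  intro q _
  exact key _ _ _

theorem tr_eq_one_of_odd_pow {A : Type*} [Group A] (hA : IsPGroup 2 A) {a : A} {m : ℕ} (hm : Odd m)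
    (h : a ^ m = 1) : a = 1 := by
  obtain ⟨k, hk⟩ := hA a
  have h1 : orderOf a ∣ m := orderOf_dvd_of_pow_eq_one h
  have h2 : orderOf a ∣ 2 ^ k := orderOf_dvd_of_pow_eq_one hk
  have hcop : Nat.Coprime m (2 ^ k) := by
    apply Nat.Coprime.pow_right
    exact Nat.coprime_two_right.mpr hm
  have : orderOf a = 1 := Nat.eq_one_of_dvd_coprimes hcop h1 h2
  exact orderOf_eq_one_iff.mp this

theorem tr_core [Finite G] (N : Subgroup G) [hNn : N.Normal] (P : Sylow 2 G)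
    (hsup : (P : Subgroup G) ⊔ N = ⊤)
    (hP : ∀ x ∈ (P : Subgroup G), x ^ 2 ∈ ((P : Subgroup G) ⊓ N) ⊔ ⁅(P : Subgroup G), (P : Subgroup G)⁆)
    (hQ : ∀ x ∈ (P : Subgroup G) ⊓ N, x ^ 2 ∈ ⁅(P : Subgroup G) ⊓ N, (P : Subgroup G) ⊓ N⁆)
    (hodd : Odd (Nat.card (Abelianization N))) :
    ∀ x ∈ (P : Subgroup G), x ^ 2 ∈ ⁅(P : Subgroup G), (P : Subgroup G)⁆ := by
  set PS : Subgroup G := (P : Subgroup G) with hPS
  let φ : PS →* Abelianization PS := Abelianization.of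
  let V : G →* Abelianization PS := MonoidHom.transfer φ
  have hA2 : IsPGroup 2 (Abelianization PS) :=
    IsPGroup.of_surjective P.2 φ (QuotientGroup.mk_surjective)
  have hkerφ : ∀ y : PS, φ y = 1 ↔ (y : G) ∈ ⁅PS, PS⁆ := by
    intro y
    rw [← MonoidHom.mem_ker, Abelianization.ker_of, ← Subgroup.map_subtype_commutator]
    constructor
    · intro h; exact ⟨y, h, rfl⟩
    · rintro ⟨y', hy', hyy'⟩
      have : y' = y := Subtype.ext hyy'
      rwa [← this]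
  have claim1 : ∀ n ∈ N, V n = 1 := by
    intro n hn
    let ψ : N →* Abelianization PS := V.comp N.subtype
    have h1 : ψ ⟨n, hn⟩ = Abelianization.lift ψ (Abelianization.of ⟨n, hn⟩) :=
      (Abelianization.lift_apply_of ψ _).symm
    have h2 : (Abelianization.of (⟨n, hn⟩ : N)) ^ Nat.card (Abelianization N) = 1 := pow_card_eq_one'
    have h3 : ψ ⟨n, hn⟩ ^ Nat.card (Abelianization N) = 1 := by
      rw [h1, ← map_pow, h2, map_one]
    exact tr_eq_one_of_odd_pow hA2 hodd h3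
  have hcommker : ⁅PS, PS⁆ ≤ V.ker := by
    rw [Subgroup.commutator_le]
    intro a _ b _
    rw [MonoidHom.mem_ker, map_commutatorElement, commutatorElement_def]
    rw [mul_comm (V a) (V b)]
    group
  have claim2 : ∀ x ∈ PS, V x ^ 2 = 1 := by
    intro x hx
    have h1 : PS ⊓ N ⊔ ⁅PS, PS⁆ ≤ V.ker := by
      apply sup_le _ hcommker
      intro y hy
      exact claim1 y hy.2
    have := h1 (hP x hx)
    rw [MonoidHom.mem_ker, map_pow] at this
    exact this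
  set Qbar : Subgroup (Abelianization PS) := ((PS ⊓ N).subgroupOf PS).map φ with hQbar
  have claim3 : ∀ x : PS, V (x : G) * (φ x ^ PS.index)⁻¹ ∈ Qbar := by
    intro x
    apply tr_transfer_mul_inv_pow_mem φ Qbar x
    intro k g₀ hk
    have hg₀ : g₀ ∈ PS ⊔ N := by rw [hsup]; exact Subgroup.mem_top g₀
    rw [← SetLike.mem_coe, Subgroup.mul_normal] at hg₀
    obtain ⟨u, hu, n, hn, rfl⟩ := hg₀
    have hz' : u⁻¹ * (x : G) ^ k * u ∈ PS :=
      mul_mem (mul_mem (inv_mem hu) (pow_mem x.2 k)) hu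
    set q : G := (u⁻¹ * (x : G) ^ k * u)⁻¹ * ((u * n)⁻¹ * (x : G) ^ k * (u * n)) with hq
    have hqP : q ∈ PS := mul_mem (inv_mem hz') hk
    have hqN : q ∈ N := by
      have e : q = ((u⁻¹ * (x : G) ^ k * u)⁻¹ * n⁻¹ * (u⁻¹ * (x : G) ^ k * u)⁻¹⁻¹) * n := by
        rw [hq]; group
      rw [e]
      exact mul_mem (hNn.conj_mem _ (inv_mem hn) _) hn
    have hsplit : (⟨(u * n)⁻¹ * (x : G) ^ k * (u * n), hk⟩ : PS) =
        ((⟨u, hu⟩ : PS)⁻¹ * x ^ k * ⟨u, hu⟩) * ⟨q, hqP⟩ := by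
      apply Subtype.ext
      simp only [Subgroup.coe_mul, Subgroup.coe_inv, Subgroup.coe_pow]
      rw [hq]; group
    rw [hsplit, map_mul, map_mul, map_mul, map_inv, map_pow]
    have e2 : (φ ⟨u, hu⟩)⁻¹ * φ x ^ k * φ ⟨u, hu⟩ * φ ⟨q, hqP⟩ * (φ x ^ k)⁻¹ = φ ⟨q, hqP⟩ := by
      rw [mul_comm (φ ⟨u, hu⟩)⁻¹ (φ x ^ k), mul_assoc (φ x ^ k), inv_mul_cancel, mul_one,
        mul_comm (φ x ^ k) (φ ⟨q, hqP⟩), mul_assoc, mul_inv_cancel, mul_one]
    rw [e2]
    exact ⟨⟨q, hqP⟩, Subgroup.mem_subgroupOf.mpr (Subgroup.mem_inf.mpr ⟨hqP, hqN⟩), rfl⟩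
  have claim4 : ∀ c ∈ Qbar, c ^ 2 = 1 := by
    intro c hc
    obtain ⟨q, hq, rfl⟩ := Subgroup.mem_map.mp hc
    rw [Subgroup.mem_subgroupOf] at hq
    rw [← map_pow, hkerφ]
    have := hQ _ hq
    rw [Subgroup.coe_pow]
    exact Subgroup.commutator_mono inf_le_left inf_le_left this
  intro x hx
  have hm : Odd PS.index := by
    rw [← Nat.not_even_iff_odd, even_iff_two_dvd]
    exact P.not_dvd_index
  have h3 := claim3 ⟨x, hx⟩
  have h4 := claim4 _ h3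
  have h2 := claim2 x hx
  have h5 : (φ ⟨x, hx⟩ ^ 2) ^ PS.index = 1 := by
    have e : (φ ⟨x, hx⟩ ^ 2) ^ PS.index =
        (V x ^ 2) * ((V x * (φ ⟨x, hx⟩ ^ PS.index)⁻¹) ^ 2)⁻¹ := by
      rw [mul_pow, inv_pow, mul_inv, inv_inv, mul_inv_cancel_left, ← pow_mul, ← pow_mul, mul_comm]
    rw [e, h2, h4, inv_one, mul_one]
  have h6 := tr_eq_one_of_odd_pow hA2 hm h5
  rw [← map_pow, hkerφ] at h6
  exact h6

theorem tr_main [Finite G] (N : Subgroup G) [hNn : N.Normal] (P : Sylow 2 G)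
    (hP : ∀ x ∈ (P : Subgroup G), x ^ 2 ∈ ((P : Subgroup G) ⊓ N) ⊔ ⁅(P : Subgroup G), (P : Subgroup G)⁆)
    (hQ : ∀ x ∈ (P : Subgroup G) ⊓ N, x ^ 2 ∈ ⁅(P : Subgroup G) ⊓ N, (P : Subgroup G) ⊓ N⁆)
    (hodd : Odd (Nat.card (Abelianization N))) :
    ∀ x ∈ (P : Subgroup G), x ^ 2 ∈ ⁅(P : Subgroup G), (P : Subgroup G)⁆ := by
  set PS : Subgroup G := (P : Subgroup G) with hPS
  set H : Subgroup G := PS ⊔ N with hH
  have hPH : PS ≤ H := le_sup_left
  have hNH : N ≤ H := le_sup_right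
  have hinj : Function.Injective H.subtype := H.subtype_injective
  have hN1n : (N.subgroupOf H).Normal := hNn.subgroupOf H
  let P1 : Sylow 2 H := P.subtype hPH
  have hP1 : (P1 : Subgroup H) = PS.subgroupOf H := Sylow.coe_subtype P hPH
  have hmapP : (PS.subgroupOf H).map H.subtype = PS := Subgroup.map_subgroupOf_eq_of_le hPH
  have hmapN : (N.subgroupOf H).map H.subtype = N := Subgroup.map_subgroupOf_eq_of_le hNH
  have hmapQ : (PS.subgroupOf H ⊓ N.subgroupOf H).map H.subtype = PS ⊓ N := by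
    rw [Subgroup.map_inf _ _ _ hinj, hmapP, hmapN]
  have hmapC : (⁅PS.subgroupOf H, PS.subgroupOf H⁆).map H.subtype = ⁅PS, PS⁆ := by
    rw [Subgroup.map_commutator, hmapP]
  have hmapCQ : (⁅PS.subgroupOf H ⊓ N.subgroupOf H, PS.subgroupOf H ⊓ N.subgroupOf H⁆).map H.subtype =
      ⁅PS ⊓ N, PS ⊓ N⁆ := by
    rw [Subgroup.map_commutator, hmapQ]
  have hsup1 : (P1 : Subgroup H) ⊔ N.subgroupOf H = ⊤ := by
    apply Subgroup.map_injective hinj
    rw [hP1, Subgroup.map_sup, hmapP, hmapN, ← MonoidHom.range_eq_map, Subgroup.range_subtype]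
  have hP' : ∀ x ∈ (P1 : Subgroup H), x ^ 2 ∈ ((P1 : Subgroup H) ⊓ N.subgroupOf H) ⊔
      ⁅(P1 : Subgroup H), (P1 : Subgroup H)⁆ := by
    intro x hx
    rw [hP1] at hx ⊢
    rw [← Subgroup.mem_map_iff_mem hinj, Subgroup.map_sup, hmapQ, hmapC]
    have := hP x (Subgroup.mem_subgroupOf.mp hx)
    simpa using this
  have hQ' : ∀ x ∈ (P1 : Subgroup H) ⊓ N.subgroupOf H, x ^ 2 ∈
      ⁅(P1 : Subgroup H) ⊓ N.subgroupOf H, (P1 : Subgroup H) ⊓ N.subgroupOf H⁆ := by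
    intro x hx
    rw [hP1] at hx ⊢
    rw [← Subgroup.mem_map_iff_mem hinj, hmapCQ]
    have hx' : (x : G) ∈ PS ⊓ N := by
      rw [← hmapQ]
      exact Subgroup.mem_map_of_mem _ hx
    have := hQ x hx'
    simpa using this
  have hodd' : Odd (Nat.card (Abelianization (N.subgroupOf H))) := by
    have e : Abelianization (N.subgroupOf H) ≃* Abelianization N :=
      (Subgroup.subgroupOfEquivOfLe hNH).abelianizationCongr
    rw [Nat.card_congr e.toEquiv]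
    exact hodd
  have hcore := tr_core (N.subgroupOf H) P1 hsup1 hP' hQ' hodd'
  intro x hx
  have hxH : x ∈ H := hPH hx
  have h1 := hcore ⟨x, hxH⟩ (by rw [hP1]; exact Subgroup.mem_subgroupOf.mpr hx)
  rw [hP1, ← Subgroup.mem_map_iff_mem hinj, hmapC] at h1
  simpa using h1

end Cfsg.Agent.Lib.Helper24
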