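import Cfsg.Agent.Lib.Helper24.PResChar

set_option autoImplicit false

namespace Cfsg.Agent.Lib.Helper24

open Cfsg.Agent.Lib.helper7 Cfsg.Agent.Lib.Helper11

section prc3

variable {G : Type*} [Group G] [Fintype G]

theorem prc_fixed_inv (p : ℕ) [hp : Fact p.Prime] (K : Subgroup G) [hK : K.Normal]
    (hKidx : ∃ k, K.index = p ^ k) (P : Sylow p G) (ϑ : Cfsg.IrrCharacter K)
    (hϑ : ∀ a : P, (letI := h7_irrAction K; a • ϑ) = ϑ) :
    ∀ (g : G) (n : K), (ϑ : K → ℂ) ⟨g * n * g⁻¹, hK.conj_mem (n : G) n.2 g⟩ = (ϑ : K → ℂ) n := by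
  classical
  letI : MulAction G (Cfsg.IrrCharacter K) := h7_irrAction K
  have hKP : K ⊔ (P : Subgroup G) = ⊤ := h7_sup_sylow_eq_top p K hKidx P
  have hst : MulAction.stabilizer G ϑ = ⊤ := by
    rw [eq_top_iff, ← hKP]
    apply sup_le
    · intro k hk
      rw [MulAction.mem_stabilizer_iff]
      apply Subtype.ext
      funext n
      rw [h7_irrAction_apply]
      have hcf := h7_irr_isClassFunction ϑ.2
      have := hcf n ⟨k⁻¹, K.inv_mem hk⟩
      rw [← this]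
      refine congrArg _ (Subtype.ext ?_)
      simp
    · intro a ha
      rw [MulAction.mem_stabilizer_iff]
      exact hϑ ⟨a, ha⟩
  intro g n
  have h1 : g⁻¹ ∈ MulAction.stabilizer G ϑ := by
    rw [hst]
    exact Subgroup.mem_top _
  rw [MulAction.mem_stabilizer_iff] at h1
  have h2 := congrArg (fun ψ : Cfsg.IrrCharacter K => (ψ : K → ℂ) n) h1
  rw [h7_irrAction_apply] at h2
  rw [← h2]
  refine congrArg _ (Subtype.ext ?_)
  simp

theorem prc_inv_fixed (K : Subgroup G) [hK : K.Normal] (ϑ : Cfsg.IrrCharacter K)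
    (hinv : ∀ (g : G) (n : K), (ϑ : K → ℂ) ⟨g * n * g⁻¹, hK.conj_mem (n : G) n.2 g⟩ = (ϑ : K → ℂ) n)
    (g : G) : (letI := h7_irrAction K; g • ϑ) = ϑ := by
  letI : MulAction G (Cfsg.IrrCharacter K) := h7_irrAction K
  apply Subtype.ext
  funext n
  rw [h7_irrAction_apply]
  exact hinv g⁻¹ n

theorem prc_detOrder_coprime (p : ℕ) [hp : Fact p.Prime] (K : Subgroup G) [hK : K.Normal]
    (hKidx : ∃ k, K.index = p ^ k)
    (hmin : ∀ M : Subgroup G, M.Normal → M ≤ K → (∃ k, M.index = p ^ k) → M = K)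
    (ϑ : K → ℂ) (hϑ : Cfsg.IsIrrCharacter K ϑ)
    (hinv : ∀ (g : G) (n : K), ϑ ⟨g * n * g⁻¹, hK.conj_mem (n : G) n.2 g⟩ = ϑ n) :
    ¬ p ∣ Cfsg.detOrder ϑ := by
  classical
  have hlin := Cfsg.Agent.S0867.detChar_linear hϑ
  let μ : K →* ℂˣ := h7_homOfLinear hlin
  have hμinv : ∀ (g : G) (n : K), μ ⟨g * n * g⁻¹, hK.conj_mem (n : G) n.2 g⟩ = μ n := by
    intro g n
    apply Units.ext
    exact h7_detChar_invariant K ϑ hϑ hinv g n
  have h1 := h7_inv_linear_order_coprime p K hKidx hmin μ hμinv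
  have h2 : Cfsg.detOrder ϑ = orderOf μ := by
    unfold Cfsg.detOrder
    rw [← h7_orderOf_linEmb μ]
    rfl
  rw [h2]
  exact h1

theorem prc_main (p : ℕ) [hp : Fact p.Prime] (K : Subgroup G) [hK : K.Normal]
    (hKidx : ∃ k, K.index = p ^ k)
    (hmin : ∀ M : Subgroup G, M.Normal → M ≤ K → (∃ k, M.index = p ^ k) → M = K)
    [Fintype (Cfsg.IrrCharacter G)]
    [DecidablePred (fun χ : Cfsg.IrrCharacter G => ¬ p ∣ Cfsg.charDegree (χ : G → ℂ) ∧
      ¬ p ∣ Cfsg.detOrder (χ : G → ℂ))] :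
    ((Nat.card K : ℕ) : ZMod p) =
      ∑ χ ∈ Finset.univ.filter (fun χ : Cfsg.IrrCharacter G =>
        ¬ p ∣ Cfsg.charDegree (χ : G → ℂ) ∧ ¬ p ∣ Cfsg.detOrder (χ : G → ℂ)),
        ((Cfsg.charDegree (χ : G → ℂ) : ℕ) : ZMod p) ^ 2 := by
  classical
  let P : Sylow p G := default
  letI : MulAction G (Cfsg.IrrCharacter K) := h7_irrAction K
  haveI : Fintype (Cfsg.IrrCharacter K) := Fintype.ofFinite _
  haveI : Fintype K := Fintype.ofFinite _
  let f : Cfsg.IrrCharacter K → ZMod p :=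
    fun ϑ => ((Cfsg.charDegree (ϑ : K → ℂ) : ℕ) : ZMod p) ^ 2
  have hdegsmul : ∀ (g : G) (ϑ : Cfsg.IrrCharacter K),
      Cfsg.charDegree ((g • ϑ : Cfsg.IrrCharacter K) : K → ℂ) = Cfsg.charDegree (ϑ : K → ℂ) := by
    intro g ϑ
    have h1 : ((g • ϑ : Cfsg.IrrCharacter K) : K → ℂ) 1 = (ϑ : K → ℂ) 1 := by
      rw [h7_irrAction_apply]
      exact congrArg _ (Subtype.ext (by simp))
    unfold Cfsg.charDegree
    rw [h1]
  have hf : ∀ (a : P) (ϑ : Cfsg.IrrCharacter K), f (a • ϑ) = f ϑ := by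
    intro a ϑ
    simp only [f]
    rw [Subgroup.smul_def, hdegsmul]
  have hsum : ∑ ϑ : Cfsg.IrrCharacter K, f ϑ = ((Nat.card K : ℕ) : ZMod p) := by
    have h1 := h7_sum_degree_sq K
    have h2 : ∑ ϑ : Cfsg.IrrCharacter K, f ϑ =
        ((∑ ϑ : Cfsg.IrrCharacter K, (Cfsg.charDegree (ϑ : K → ℂ)) ^ 2 : ℕ) : ZMod p) := by
      rw [Nat.cast_sum]
      refine Finset.sum_congr rfl fun ϑ _ => ?_
      simp only [f]
      rw [Nat.cast_pow]
    rw [h2, h1, Nat.card_eq_fintype_card]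
  have hfix := h7_sum_fixed_zmod p P.isPGroup' f hf
  rw [hsum] at hfix
  rw [hfix]
  have hY : Finset.sum ((Finset.univ.filter
      (fun ϑ : Cfsg.IrrCharacter K => ∀ a : (P : Subgroup G), a • ϑ = ϑ)).filter
      (fun ϑ : Cfsg.IrrCharacter K => ¬ p ∣ Cfsg.charDegree (ϑ : K → ℂ))) f =
      Finset.sum (Finset.univ.filter
        (fun ϑ : Cfsg.IrrCharacter K => ∀ a : (P : Subgroup G), a • ϑ = ϑ)) f := by
    apply Finset.sum_filter_of_ne
    intro ϑ _ hne hdvd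
    apply hne
    change ((Cfsg.charDegree (ϑ : K → ℂ) : ℕ) : ZMod p) ^ 2 = 0
    rw [(ZMod.natCast_eq_zero_iff _ _).mpr hdvd]
    simp
  rw [← hY]
  symm
  obtain ⟨k, hk⟩ := hKidx
  have hcopK : ∀ n : ℕ, ¬ p ∣ n → Nat.Coprime K.index n := by
    intro n hn
    rw [hk]
    exact Nat.Coprime.pow_left _ ((Nat.Prime.coprime_iff_not_dvd hp.out).mpr hn)
  have hrinv : ∀ (χ : Cfsg.IrrCharacter G) (g : G) (n : K),
      (χ : G → ℂ) ((⟨g * n * g⁻¹, hK.conj_mem (n : G) n.2 g⟩ : K) : G) = (χ : G → ℂ) n := by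
    intro χ g n
    exact h7_irr_isClassFunction χ.2 n g
  have hrdeg : ∀ (χ : Cfsg.IrrCharacter G),
      Cfsg.charDegree (fun n : K => (χ : G → ℂ) n) = Cfsg.charDegree (χ : G → ℂ) := by
    intro χ
    rfl
  apply Finset.sum_bij (fun (χ : Cfsg.IrrCharacter G) hχ =>
    (⟨fun n : K => (χ : G → ℂ) n, prc_restrict_irr p K ⟨k, hk⟩ χ (Finset.mem_filter.mp hχ).2.1⟩ :
      Cfsg.IrrCharacter K))
  · intro χ hχ
    refine Finset.mem_filter.mpr ⟨Finset.mem_filter.mpr ⟨Finset.mem_univ _, ?_⟩, ?_⟩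
    · intro a
      rw [Subgroup.smul_def]
      exact prc_inv_fixed K _ (hrinv χ) (a : G)
    · change ¬ p ∣ Cfsg.charDegree (fun n : K => (χ : G → ℂ) n)
      rw [hrdeg]
      exact (Finset.mem_filter.mp hχ).2.1
  · intro χ₁ h₁ χ₂ h₂ heq
    have hd1 := (Cfsg.Agent.Lib.Helper25.charDegree_irr χ₁).1
    have hinv := hrinv χ₁
    have hnd := prc_detOrder_coprime p K ⟨k, hk⟩ hmin (fun n : K => (χ₁ : G → ℂ) n)
      (prc_restrict_irr p K ⟨k, hk⟩ χ₁ (Finset.mem_filter.mp h₁).2.1) hinv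
    have hcop : Nat.Coprime K.index (Cfsg.detOrder (fun n : K => (χ₁ : G → ℂ) n) *
        Cfsg.charDegree (χ₁ : G → ℂ)) := by
      apply hcopK
      intro hdvd
      rcases (Nat.Prime.dvd_mul hp.out).mp hdvd with h | h
      · exact hnd h
      · exact (Finset.mem_filter.mp h₁).2.1 h
    obtain ⟨χ0, _, huniq⟩ := Cfsg.Agent.S0867.result K (fun n : K => (χ₁ : G → ℂ) n)
      (prc_restrict_irr p K ⟨k, hk⟩ χ₁ (Finset.mem_filter.mp h₁).2.1) hinv
      (Cfsg.charDegree (χ₁ : G → ℂ)) (by rw [hd1]; rfl) hcop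
    have e1 := huniq (χ₁ : G → ℂ) χ₁.2 (fun n => rfl) (hcopK _ (Finset.mem_filter.mp h₁).2.2)
    have e2 := huniq (χ₂ : G → ℂ) χ₂.2 (fun n => by
      have := congrArg (fun ψ : Cfsg.IrrCharacter K => (ψ : K → ℂ) n) heq
      exact this.symm) (hcopK _ (Finset.mem_filter.mp h₂).2.2)
    apply Subtype.ext
    rw [e1, e2]
  · intro ϑ hϑ
    have hϑ1 := (Finset.mem_filter.mp hϑ).2
    have hϑ2 := (Finset.mem_filter.mp (Finset.mem_filter.mp hϑ).1).2
    have hinv := prc_fixed_inv p K ⟨k, hk⟩ P ϑ hϑ2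
    have hnd := prc_detOrder_coprime p K ⟨k, hk⟩ hmin (ϑ : K → ℂ) ϑ.2 hinv
    have hd1 := (Cfsg.Agent.Lib.Helper25.charDegree_irr ϑ).1
    have hcop : Nat.Coprime K.index (Cfsg.detOrder (ϑ : K → ℂ) *
        Cfsg.charDegree (ϑ : K → ℂ)) := by
      apply hcopK
      intro hdvd
      rcases (Nat.Prime.dvd_mul hp.out).mp hdvd with h | h
      · exact hnd h
      · exact hϑ1 h
    obtain ⟨χ0, ⟨hirr, hres, hdet⟩, _⟩ := Cfsg.Agent.S0867.result K (ϑ : K → ℂ) ϑ.2 hinv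
      (Cfsg.charDegree (ϑ : K → ℂ)) hd1.symm hcop
    have hdeg0 : Cfsg.charDegree χ0 = Cfsg.charDegree (ϑ : K → ℂ) := by
      unfold Cfsg.charDegree
      have := hres 1
      rw [OneMemClass.coe_one] at this
      rw [this]
    refine ⟨⟨χ0, hirr⟩, ?_, ?_⟩
    · refine Finset.mem_filter.mpr ⟨Finset.mem_univ _, ?_, ?_⟩
      · change ¬ p ∣ Cfsg.charDegree χ0
        rw [hdeg0]
        exact hϑ1
      · change ¬ p ∣ Cfsg.detOrder χ0
        rw [hdet]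
        exact hnd
    · apply Subtype.ext
      funext n
      exact hres n
  · intro χ hχ
    rfl

end prc3

end Cfsg.Agent.Lib.Helper24
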