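import Mathlib
import Cfsg.Agent.Lib.Helper24.PResChar2
import Cfsg.Agent.Lib.Helper24.AFT1
import Cfsg.Agent.S0135
import Cfsg.Agent.S0867
import Cfsg.Agent.S0856

set_option autoImplicit false

namespace Cfsg.Agent.Lib.Helper24

open Cfsg.Agent.Lib.helper7 Cfsg.Agent.Lib.Helper11
open scoped ComplexConjugate

theorem cdc_degree_dvd {K : Type*} [Group K] [Finite K] (θ : Cfsg.IrrCharacter K) :
    Cfsg.charDegree (θ : K → ℂ) ∣ Nat.card K := by
  obtain ⟨n, ρ, hirr, hχ⟩ := θ.2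
  haveI := hirr
  have h1 := Cfsg.Agent.S0135.result ρ
  rw [Module.finrank_fin_fun] at h1
  have h2 : Cfsg.charDegree (θ : K → ℂ) = n := by
    unfold Cfsg.charDegree
    rw [← hχ, Representation.char_one, Module.finrank_fin_fun]
    simp
  rw [h2]
  exact h1

theorem cdc_detOrder_dvd {K : Type*} [Group K] [Finite K] (ϑ : K → ℂ) (hϑ : Cfsg.IsIrrCharacter K ϑ) :
    Cfsg.detOrder ϑ ∣ Nat.card K := by
  have hlin := Cfsg.Agent.S0867.detChar_linear hϑ
  let μ : K →* ℂˣ := h7_homOfLinear hlin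
  have h2 : Cfsg.detOrder ϑ = orderOf μ := by
    unfold Cfsg.detOrder
    rw [← h7_orderOf_linEmb μ]
    rfl
  rw [h2]
  apply orderOf_dvd_of_pow_eq_one
  apply MonoidHom.ext
  intro k
  rw [MonoidHom.pow_apply, ← map_pow, pow_card_eq_one', map_one, MonoidHom.one_apply]

variable {G : Type*} [Group G] [Fintype G]

theorem cdc_restrict_irr (K : Subgroup G) [hK : K.Normal] (χ : Cfsg.IrrCharacter G)
    (hdeg : (Cfsg.charDegree (χ : G → ℂ)).Coprime K.index) :
    Cfsg.IsIrrCharacter K (fun n : K => (χ : G → ℂ) n) := by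
  classical
  haveI : Fintype K := Fintype.ofFinite _
  haveI : Fintype (Cfsg.IrrCharacter K) := Fintype.ofFinite _
  have hR := Cfsg.Agent.Lib.helper2.isCharacter_restrict (h7_irr_isCharacter χ.2) K
  obtain ⟨m, hm, hexp⟩ := Cfsg.Agent.Lib.helper2.isCharacter_expansion hR
  set c := Cfsg.charDegree (χ : G → ℂ) with hc
  have hc1 : (χ : G → ℂ) 1 = (c : ℂ) := (Cfsg.Agent.Lib.Helper25.charDegree_irr χ).1.symm
  have hcpos : 0 < c := (Cfsg.Agent.Lib.Helper25.charDegree_irr χ).2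
  have hsum : c = ∑ μ : Cfsg.IrrCharacter K, m μ * Cfsg.charDegree (μ : K → ℂ) := by
    have h1 := congrFun hexp 1
    simp only [OneMemClass.coe_one, Finset.sum_apply, Pi.smul_apply, smul_eq_mul] at h1
    rw [hc1] at h1
    have h2 : ∀ μ : Cfsg.IrrCharacter K, (m μ : ℂ) * (μ : K → ℂ) 1 =
        ((m μ * Cfsg.charDegree (μ : K → ℂ) : ℕ) : ℂ) := by
      intro μ
      rw [← (Cfsg.Agent.Lib.Helper25.charDegree_irr μ).1]
      push_cast
      ring
    rw [Finset.sum_congr rfl (fun μ _ => h2 μ), ← Nat.cast_sum] at h1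
    exact_mod_cast h1
  have hex : ∃ θ : Cfsg.IrrCharacter K, m θ ≠ 0 := by
    by_contra hne
    have h0 : ∀ μ : Cfsg.IrrCharacter K, m μ = 0 := by
      intro μ
      by_contra h
      exact hne ⟨μ, h⟩
    rw [Finset.sum_eq_zero (fun μ _ => by rw [h0 μ, zero_mul])] at hsum
    omega
  obtain ⟨θ, hθm⟩ := hex
  set d := Cfsg.charDegree (θ : K → ℂ) with hd
  have hd1 : (θ : K → ℂ) 1 = (d : ℂ) := (Cfsg.Agent.Lib.Helper25.charDegree_irr θ).1.symm
  have hdpos : 0 < d := (Cfsg.Agent.Lib.Helper25.charDegree_irr θ).2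
  have hcon : Cfsg.classInner (fun n : K => (χ : G → ℂ) n) (θ : K → ℂ) ≠ 0 := by
    rw [hm θ]
    exact_mod_cast hθm
  obtain ⟨hdc, hcd⟩ := Cfsg.Agent.S0887.result K (χ : G → ℂ) χ.2 (θ : K → ℂ) θ.2 hcon c d hc1 hd1
  have hj : c / d = 1 := by
    have h1 : c / d ∣ c := Nat.div_dvd_of_dvd hdc
    have h2 := Nat.dvd_gcd h1 hcd
    rw [hdeg] at h2
    exact Nat.dvd_one.mp h2
  have hcd' : c = d := by
    have := Nat.div_mul_cancel hdc
    rw [hj, one_mul] at this
    exact this.symm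
  have hsplit := Finset.add_sum_erase Finset.univ
    (fun μ : Cfsg.IrrCharacter K => m μ * Cfsg.charDegree (μ : K → ℂ)) (Finset.mem_univ θ)
  rw [← hsum] at hsplit
  have hmθ : m θ = 1 := by
    have h1 : 1 ≤ m θ := Nat.one_le_iff_ne_zero.mpr hθm
    have h2 : m θ * d ≤ d := by
      have : m θ * d ≤ c := by
        rw [← hsplit]
        exact Nat.le_add_right _ _
      rw [hcd'] at this
      exact this
    have h3 : m θ ≤ 1 := by
      by_contra hlt
      rw [not_le] at hlt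
      have : 2 * d ≤ m θ * d := Nat.mul_le_mul_right d hlt
      omega
    omega
  have hrest : ∑ μ ∈ Finset.univ.erase θ, m μ * Cfsg.charDegree (μ : K → ℂ) = 0 := by
    simp only [hmθ, one_mul] at hsplit
    rw [hcd'] at hsplit
    omega
  have hzero : ∀ μ : Cfsg.IrrCharacter K, μ ≠ θ → m μ = 0 := by
    intro μ hμ
    have h1 := (Finset.sum_eq_zero_iff.mp hrest) μ (Finset.mem_erase.mpr ⟨hμ, Finset.mem_univ _⟩)
    rcases Nat.mul_eq_zero.mp h1 with h | h
    · exact h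
    · have := (Cfsg.Agent.Lib.Helper25.charDegree_irr μ).2
      omega
  have hfin : (fun n : K => (χ : G → ℂ) n) = (θ : K → ℂ) := by
    rw [hexp]
    rw [Finset.sum_eq_single θ]
    · rw [hmθ]
      simp
    · intro μ _ hμ
      rw [hzero μ hμ]
      simp
    · intro h
      exact absurd (Finset.mem_univ θ) h
  rw [hfin]
  exact θ.2

theorem cdc_ext_exists (K : Subgroup G) [hK : K.Normal] (hcop : (Nat.card K).Coprime K.index)
    (θ : Cfsg.IrrCharacter K)
    (hinv : ∀ (g : G) (n : K), (θ : K → ℂ) ⟨g * n * g⁻¹, hK.conj_mem (n : G) n.2 g⟩ = (θ : K → ℂ) n) :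
    ∃ χ : Cfsg.IrrCharacter G, ∀ n : K, (χ : G → ℂ) n = (θ : K → ℂ) n := by
  have hd1 : (θ : K → ℂ) 1 = ((Cfsg.charDegree (θ : K → ℂ) : ℕ) : ℂ) :=
    (Cfsg.Agent.Lib.Helper25.charDegree_irr θ).1.symm
  have hc : Nat.Coprime K.index (Cfsg.detOrder (θ : K → ℂ) * Cfsg.charDegree (θ : K → ℂ)) := by
    apply Nat.Coprime.mul_right
    · exact (Nat.Coprime.coprime_dvd_left (cdc_detOrder_dvd _ θ.2) hcop).symm
    · exact (Nat.Coprime.coprime_dvd_left (cdc_degree_dvd θ) hcop).symm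
  obtain ⟨χ, ⟨hχ, hext, _⟩, _⟩ := Cfsg.Agent.S0867.result K (θ : K → ℂ) θ.2 hinv _ hd1 hc
  exact ⟨⟨χ, hχ⟩, hext⟩

end Cfsg.Agent.Lib.Helper24
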