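import Mathlib
import Cfsg.Prelude.Def_Blocks
import Cfsg.Agent.Lib.Helper29.AbFrobLocal
import Cfsg.Agent.Lib.helper7.SecondMain

set_option autoImplicit false
set_option linter.style.haveILetI false
set_option linter.unusedSectionVars false
set_option linter.unusedVariables false

namespace Cfsg.Agent.Lib.Helper24

open Cfsg.Agent.Lib.Helper29 Cfsg.Agent.Lib.helper7

section
variable {G : Type*} [Group G]

theorem af3_conj_le_sylow [Finite G] (p : ℕ) [Fact p.Prime] (H : Subgroup G) (hH : IsPGroup p H)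
    (P : Sylow p G) : ∃ c : G, ∀ h ∈ H, c * h * c⁻¹ ∈ (P : Subgroup G) := by
  obtain ⟨Q, hQ⟩ := hH.exists_le_sylow
  obtain ⟨c, hc⟩ := MulAction.exists_smul_eq G Q P
  refine ⟨c, ?_⟩
  intro h hh
  rw [← hc, Sylow.coe_subgroup_smul, Subgroup.mem_pointwise_smul_iff_inv_smul_mem]
  simp only [MulAut.smul_def, MulAut.conj_inv_apply]
  have : c⁻¹ * (c * h * c⁻¹) * c = h := by group
  rw [this]
  exact hQ hh

theorem af3_invol_inverts [Finite G] (p : ℕ) [Fact p.Prime] (t g x : G) (htinv : t⁻¹ = t)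
    (hx : Cfsg.IsPPart p (g * t * g⁻¹ * t) x) : t * x * t⁻¹ = x⁻¹ := by
  have hp1 : ¬ p ∣ 1 := by
    intro h
    exact (Fact.out : p.Prime).one_lt.ne' (Nat.dvd_one.mp h)
  have h1 := h7_ppart_mem_zpowers_pow p _ x hx 1 hp1
  rw [pow_one] at h1
  obtain ⟨m, hm⟩ := Subgroup.mem_zpowers_iff.mp h1
  have h2 : t * (g * t * g⁻¹ * t) * t⁻¹ = (g * t * g⁻¹ * t)⁻¹ := by
    have e1 : t * (g * t * g⁻¹ * t) * t⁻¹ = t * g * t * g⁻¹ := by group
    have e2 : (g * t * g⁻¹ * t)⁻¹ = t⁻¹ * g * t⁻¹ * g⁻¹ := by group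
    rw [e1, e2, htinv]
  rw [← hm, ← conj_zpow, h2, inv_zpow]

theorem af3_dihedral (t b : G) (htt : t * t = 1) (hbb : b * b = 1) (n s : ℕ)
    (hn : n = 2 * s + 1) (hρn : ((t * b) ^ 2) ^ n = 1) :
    (t * b) ^ n * (t * b) ^ n = 1 ∧ (t * b) ^ n * t = t * (t * b) ^ n ∧
      (t * b) ^ n * b = b * (t * b) ^ n ∧ ∃ d : G, t = d * ((t * b) ^ n * b) * d⁻¹ := by
  have hti : t⁻¹ = t := inv_eq_of_mul_eq_one_left htt
  have hbi : b⁻¹ = b := inv_eq_of_mul_eq_one_left hbb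
  obtain ⟨u, hu⟩ : ∃ u : G, u = t * b := ⟨_, rfl⟩
  rw [← hu] at hρn ⊢
  have hui : u⁻¹ = b * t := by rw [hu, mul_inv_rev, hti, hbi]
  have htu : t * u * t⁻¹ = u⁻¹ := by
    rw [hui, hti, hu]
    calc t * (t * b) * t = (t * t) * b * t := by group
      _ = b * t := by rw [htt, one_mul]
  have hbu : b * u * b⁻¹ = u⁻¹ := by
    rw [hui, hbi, hu]
    calc b * (t * b) * b = b * t * (b * b) := by group
      _ = b * t := by rw [hbb, mul_one]
  obtain ⟨ρ, hρ⟩ : ∃ ρ : G, ρ = u ^ 2 := ⟨_, rfl⟩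
  rw [← hρ] at hρn
  obtain ⟨w, hw⟩ : ∃ w : G, w = u ^ n := ⟨_, rfl⟩
  rw [← hw]
  have hww : w * w = 1 := by
    rw [hw, ← pow_add, ← two_mul, pow_mul, ← hρ, hρn]
  have hwi : w⁻¹ = w := inv_eq_of_mul_eq_one_left hww
  have htw : t * w * t⁻¹ = w := by
    rw [hw, ← conj_pow, htu, inv_pow, ← hw, hwi]
  have hbw : b * w * b⁻¹ = w := by
    rw [hw, ← conj_pow, hbu, inv_pow, ← hw, hwi]
  have hwb : w * b = b * w := by
    have : b * w = (b * w * b⁻¹) * b := by group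
    rw [this, hbw]
  have hwt : w * t = t * w := by
    have : t * w = (t * w * t⁻¹) * t := by group
    rw [this, htw]
  refine ⟨hww, hwt, hwb, ?_⟩
  obtain ⟨a', ha'⟩ : ∃ a' : G, a' = w * b := ⟨_, rfl⟩
  rw [← ha']
  have ha'a' : a' * a' = 1 := by
    rw [ha']
    calc w * b * (w * b) = w * (b * w) * b := by group
      _ = w * (w * b) * b := by rw [hwb]
      _ = (w * w) * (b * b) := by group
      _ = 1 := by rw [hww, hbb, one_mul]
  have ha'ρ : a' = ρ ^ s * t := by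
    rw [ha', hw, hn, pow_succ, pow_mul, ← hρ, hu]
    calc ρ ^ s * (t * b) * b = ρ ^ s * t * (b * b) := by group
      _ = ρ ^ s * t := by rw [hbb, mul_one]
  have htρ : t * ρ * t⁻¹ = ρ⁻¹ := by
    rw [hρ, ← conj_pow, htu, inv_pow]
  have ha'i : a'⁻¹ = a' := inv_eq_of_mul_eq_one_left ha'a'
  have ha'ρinv : a' * ρ * a'⁻¹ = ρ⁻¹ := by
    have h1 : a' * ρ * a'⁻¹ = ρ ^ s * (t * ρ * t⁻¹) * (ρ ^ s)⁻¹ := by
      rw [ha'ρ]; group
    rw [h1, htρ]
    have h2 : ρ ^ s * ρ⁻¹ = ρ⁻¹ * ρ ^ s := by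
      have : Commute (ρ ^ s) ρ⁻¹ := (Commute.refl ρ).pow_left s |>.inv_right
      exact this.eq
    rw [h2]; group
  obtain ⟨d, hd⟩ : ∃ d : G, d = (ρ⁻¹) ^ (s * (s + 1)) := ⟨_, rfl⟩
  have hdd : d * d = (ρ ^ s)⁻¹ := by
    rw [hd, ← pow_add]
    have h1 : s * (s + 1) + s * (s + 1) = n * s + s := by rw [hn]; ring
    rw [h1, pow_add, pow_mul, inv_pow, hρn, inv_one, one_pow, one_mul, inv_pow]
  have ha'd : a' * d * a'⁻¹ = d⁻¹ := by
    rw [hd, ← conj_pow]
    have : a' * ρ⁻¹ * a'⁻¹ = (a' * ρ * a'⁻¹)⁻¹ := by group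
    rw [this, ha'ρinv, inv_inv, inv_pow, inv_inv]
  refine ⟨d, ?_⟩
  have h1 : d * a' * d⁻¹ = d * (a' * d * a'⁻¹)⁻¹ * a' := by group
  rw [h1, ha'd, inv_inv, hdd, ha'ρ]; group

end

section AF
variable {G : Type*} [Group G] {p : ℕ} [Fact p.Prime] {P : Sylow p G}

theorem af3_C_normal_in_N :
    ((Subgroup.centralizer ((P : Subgroup G) : Set G)).subgroupOf
      (Subgroup.normalizer ((P : Subgroup G) : Set G))).Normal := by
  constructor
  intro c hc g
  rw [Subgroup.mem_subgroupOf] at hc ⊢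
  rw [Subgroup.coe_mul, Subgroup.coe_mul, Subgroup.coe_inv]
  rw [Subgroup.mem_centralizer_iff] at hc ⊢
  intro x hx
  have hg := g.2
  have hginv : (g : G)⁻¹ ∈ Subgroup.normalizer ((P : Subgroup G) : Set G) :=
    Subgroup.inv_mem _ hg
  rw [Subgroup.mem_normalizer_iff] at hginv
  have hx' : (g : G)⁻¹ * x * ((g : G)⁻¹)⁻¹ ∈ (P : Subgroup G) := (hginv x).mp hx
  rw [inv_inv] at hx'
  have h1 := hc _ hx'
  calc x * ((g : G) * (c : G) * (g : G)⁻¹)
      = (g : G) * (((g : G)⁻¹ * x * (g : G)) * (c : G)) * (g : G)⁻¹ := by group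
    _ = (g : G) * ((c : G) * ((g : G)⁻¹ * x * (g : G))) * (g : G)⁻¹ := by rw [h1]
    _ = (g : G) * (c : G) * (g : G)⁻¹ * x := by group

theorem af3_cube_mem
    (hCN : (Subgroup.centralizer ((P : Subgroup G) : Set G)).relIndex
      (Subgroup.normalizer ((P : Subgroup G) : Set G)) = 3)
    (n : G) (hn : n ∈ Subgroup.normalizer ((P : Subgroup G) : Set G)) :
    n ^ 3 ∈ Subgroup.centralizer ((P : Subgroup G) : Set G) := by
  haveI := af3_C_normal_in_N (P := P)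
  have h1 := Subgroup.pow_index_mem ((Subgroup.centralizer ((P : Subgroup G) : Set G)).subgroupOf
      (Subgroup.normalizer ((P : Subgroup G) : Set G))) ⟨n, hn⟩
  rw [← Subgroup.relIndex, hCN, Subgroup.mem_subgroupOf] at h1
  simpa using h1

theorem af3_mem_C_of_sq
    (hCN : (Subgroup.centralizer ((P : Subgroup G) : Set G)).relIndex
      (Subgroup.normalizer ((P : Subgroup G) : Set G)) = 3)
    (n : G) (hn : n ∈ Subgroup.normalizer ((P : Subgroup G) : Set G))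
    (h2 : n * n ∈ Subgroup.centralizer ((P : Subgroup G) : Set G)) :
    n ∈ Subgroup.centralizer ((P : Subgroup G) : Set G) := by
  have h3 := af3_cube_mem hCN n hn
  have : n = n ^ 3 * (n * n)⁻¹ := by group
  rw [this]
  exact Subgroup.mul_mem _ h3 (Subgroup.inv_mem _ h2)

theorem af3_real_invol [Finite G] (h : AFSetup p P)
    (hCN : (Subgroup.centralizer ((P : Subgroup G) : Set G)).relIndex
      (Subgroup.normalizer ((P : Subgroup G) : Set G)) = 3)
    (y : G) (hy : y ∈ (P : Subgroup G)) (hy1 : y ≠ 1) (g : G) (hg : g * y * g⁻¹ = y⁻¹) :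
    y * y = 1 := by
  have hyi : y⁻¹ ∈ (P : Subgroup G) := Subgroup.inv_mem _ hy
  obtain ⟨n, hn, hny⟩ := h.fusion hy hyi (isConj_iff.mpr ⟨g, hg⟩)
  have h2 : (n * n) * y * (n * n)⁻¹ = y := by
    calc (n * n) * y * (n * n)⁻¹ = n * (n * y * n⁻¹) * n⁻¹ := by group
      _ = n * y⁻¹ * n⁻¹ := by rw [← hny]
      _ = (n * y * n⁻¹)⁻¹ := by group
      _ = y := by rw [← hny, inv_inv]
  have hnn : n * n ∈ Subgroup.centralizer ((P : Subgroup G) : Set G) :=
    (h.conj_fix_iff hy hy1 (Subgroup.mul_mem _ hn hn)).mp h2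
  have hnC := af3_mem_C_of_sq hCN n hn hnn
  have h3 := (h.conj_fix_iff hy hy1 hn).mpr hnC
  rw [h3] at hny
  have h4 : y * y = y⁻¹ * y := congrArg (· * y) hny.symm
  rw [h4]; group

theorem af3_orbit_prod (h : AFSetup p P)
    (hCN : (Subgroup.centralizer ((P : Subgroup G) : Set G)).relIndex
      (Subgroup.normalizer ((P : Subgroup G) : Set G)) = 3)
    (y : G) (hy : y ∈ (P : Subgroup G)) (n : G)
    (hn : n ∈ Subgroup.normalizer ((P : Subgroup G) : Set G))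
    (hnC : n ∉ Subgroup.centralizer ((P : Subgroup G) : Set G)) :
    y * (n * y * n⁻¹) * ((n * n) * y * (n * n)⁻¹) = 1 := by
  by_contra hw1
  apply hnC
  have hnrm := Subgroup.mem_normalizer_iff.mp hn
  have hy1 : n * y * n⁻¹ ∈ (P : Subgroup G) := (hnrm y).mp hy
  have hy2 : (n * n) * y * (n * n)⁻¹ ∈ (P : Subgroup G) := by
    have : (n * n) * y * (n * n)⁻¹ = n * (n * y * n⁻¹) * n⁻¹ := by group
    rw [this]
    exact (hnrm _).mp hy1
  have hw : y * (n * y * n⁻¹) * ((n * n) * y * (n * n)⁻¹) ∈ (P : Subgroup G) :=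
    Subgroup.mul_mem _ (Subgroup.mul_mem _ hy hy1) hy2
  rw [← h.conj_fix_iff hw hw1 hn]
  have h3 := af3_cube_mem hCN n hn
  have h3y : n ^ 3 * y * (n ^ 3)⁻¹ = y := by
    rw [Subgroup.mem_centralizer_iff] at h3
    have := h3 y hy
    calc n ^ 3 * y * (n ^ 3)⁻¹ = (y * n ^ 3) * (n ^ 3)⁻¹ := by rw [this]
      _ = y := by group
  have e1 : n * (y * (n * y * n⁻¹) * ((n * n) * y * (n * n)⁻¹)) * n⁻¹ =
      (n * y * n⁻¹) * ((n * n) * y * (n * n)⁻¹) * (n ^ 3 * y * (n ^ 3)⁻¹) := by group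
  rw [e1, h3y]
  have c1 := h.comm' (Subgroup.mul_mem _ hy1 hy2) hy
  rw [c1]; group

theorem af3_pair_conj [Finite G] (h : AFSetup p P)
    (hCN : (Subgroup.centralizer ((P : Subgroup G) : Set G)).relIndex
      (Subgroup.normalizer ((P : Subgroup G) : Set G)) = 3)
    (u v : G) (hu : u ∈ (P : Subgroup G)) (hv : v ∈ (P : Subgroup G)) (hc : IsConj u v)
    (huu : u * u = 1) (huv : u * v ≠ 1) : IsConj u (u * v) := by
  obtain ⟨n, hn, hnv⟩ := h.fusion hu hv hc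
  have hui : u⁻¹ = u := inv_eq_of_mul_eq_one_left huu
  have hnC : n ∉ Subgroup.centralizer ((P : Subgroup G) : Set G) := by
    intro hnC
    apply huv
    have hu1 : u ≠ 1 := by
      intro h1
      apply huv
      rw [hnv, h1]; group
    have := (h.conj_fix_iff hu hu1 hn).mpr hnC
    rw [hnv, this, huu]
  have h1 := af3_orbit_prod h hCN u hu n hn hnC
  rw [← hnv] at h1
  rw [isConj_iff]
  refine ⟨n * n, ?_⟩
  have h2 : (n * n) * u * (n * n)⁻¹ = (u * v)⁻¹ := by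
    have : (u * v)⁻¹ * (u * v * ((n * n) * u * (n * n)⁻¹)) = (u * v)⁻¹ * 1 := by rw [h1]
    have e : (u * v)⁻¹ * (u * v * ((n * n) * u * (n * n)⁻¹)) = (n * n) * u * (n * n)⁻¹ := by group
    rw [e, mul_one] at this
    exact this
  have h3 : (u * v)⁻¹ = u * v := by
    rw [mul_inv_rev, hui]
    have hvi : v⁻¹ = v := by
      rw [hnv]
      have : (n * u * n⁻¹)⁻¹ = n * u⁻¹ * n⁻¹ := by group
      rw [this, hui]
    rw [hvi]
    exact h.comm' hv hu
  rw [h2, h3]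

theorem af3_K1 [Finite G] (h : AFSetup p P)
    (hCN : (Subgroup.centralizer ((P : Subgroup G) : Set G)).relIndex
      (Subgroup.normalizer ((P : Subgroup G) : Set G)) = 3)
    (t : G) (ht : orderOf t = 2) (g y : G) (hy : Cfsg.IsPPart p (g * t * g⁻¹ * t) y)
    (hy1 : y ≠ 1) : IsConj t y := by
  have hpp : p.Prime := Fact.out
  have htt : t * t = 1 := by rw [← pow_two, ← ht, pow_orderOf_eq_one]
  have htinv : t⁻¹ = t := inv_eq_of_mul_eq_one_left htt
  have hinv := af3_invol_inverts p t g y htinv hy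
  obtain ⟨z', hz, hcomm, ⟨k, hk⟩, hz'⟩ := hy
  have hyP : IsPGroup p (Subgroup.zpowers y) := by
    apply IsPGroup.of_card (n := k)
    rw [Nat.card_zpowers, hk]
  obtain ⟨c, hc⟩ := af3_conj_le_sylow p (Subgroup.zpowers y) hyP P
  have hcy := hc y (Subgroup.mem_zpowers y)
  have hcy1 : c * y * c⁻¹ ≠ 1 := by
    intro h1
    apply hy1
    have : y = c⁻¹ * (c * y * c⁻¹) * c := by group
    rw [this, h1]; group
  have hyy1 := af3_real_invol h hCN (c * y * c⁻¹) hcy hcy1 (c * t * c⁻¹) (by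
    calc c * t * c⁻¹ * (c * y * c⁻¹) * (c * t * c⁻¹)⁻¹ = c * (t * y * t⁻¹) * c⁻¹ := by group
      _ = c * y⁻¹ * c⁻¹ := by rw [hinv]
      _ = (c * y * c⁻¹)⁻¹ := by group)
  have hyy : y * y = 1 := by
    have : y * y = c⁻¹ * ((c * y * c⁻¹) * (c * y * c⁻¹)) * c := by group
    rw [this, hyy1]; group
  have hyord : orderOf y = 2 := by
    haveI : Fact (Nat.Prime 2) := ⟨Nat.prime_two⟩
    apply orderOf_eq_prime
    · rw [pow_two]; exact hyy
    · exact hy1
  have hp2 : p = 2 := by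
    rw [hyord] at hk
    have hk0 : k ≠ 0 := by
      intro h0
      rw [h0, pow_zero] at hk
      omega
    have : p ∣ 2 := by
      rw [hk]
      exact dvd_pow_self p hk0
    exact (Nat.prime_dvd_prime_iff_eq hpp Nat.prime_two).mp this
  subst hp2
  obtain ⟨s, hs⟩ : Odd (orderOf z') := by
    rw [← Nat.not_even_iff_odd]
    intro hev
    exact hz' hev.two_dvd
  set v := g * t * g⁻¹ with hv
  have hvv : v * v = 1 := by
    rw [hv]
    calc g * t * g⁻¹ * (g * t * g⁻¹) = g * (t * t) * g⁻¹ := by group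
      _ = 1 := by rw [htt]; group
  have hzn : (v * t) ^ (orderOf z') = y := by
    rw [← hz, hcomm.mul_pow, pow_orderOf_eq_one, mul_one, hs, pow_succ, pow_mul]
    have : y ^ 2 = 1 := by rw [pow_two]; exact hyy
    rw [this, one_pow, one_mul]
  have hρn : ((v * t) ^ 2) ^ (orderOf z') = 1 := by
    rw [← pow_mul, mul_comm, pow_mul, hzn, pow_two]
    exact hyy
  obtain ⟨_, hwv, hwt, d, hd⟩ := af3_dihedral v t hvv htt (orderOf z') s hs hρn
  rw [hzn] at hwv hwt hd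
  have hty : IsConj t (t * y) := by
    have h1 : IsConj t v := isConj_iff.mpr ⟨g, rfl⟩
    have h2 : IsConj (y * t) v := isConj_iff.mpr ⟨d, hd.symm⟩
    rw [← hwt]
    exact h1.trans h2.symm
  have hHp : IsPGroup 2 (Subgroup.zpowers t ⊔ Subgroup.zpowers y : Subgroup G) := by
    apply IsPGroup.to_sup_of_normal_right'
    · apply IsPGroup.of_card (n := 1)
      rw [Nat.card_zpowers, ht, pow_one]
    · exact hyP
    · rw [Subgroup.zpowers_le]
      apply Subgroup.centralizer_le_normalizer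
      rw [Subgroup.mem_centralizer_iff]
      intro x hx
      obtain ⟨j, rfl⟩ := Subgroup.mem_zpowers_iff.mp hx
      have hc1 : Commute y t := hwt
      exact (hc1.zpow_left j).eq
  obtain ⟨c', hc'⟩ := af3_conj_le_sylow 2 _ hHp P
  have ht1 := hc' t (Subgroup.mem_sup_left (Subgroup.mem_zpowers t))
  have hy1' := hc' y (Subgroup.mem_sup_right (Subgroup.mem_zpowers y))
  have hconj : IsConj (c' * t * c'⁻¹) ((c' * t * c'⁻¹) * (c' * y * c'⁻¹)) := by
    have e : (c' * t * c'⁻¹) * (c' * y * c'⁻¹) = c' * (t * y) * c'⁻¹ := by group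
    rw [e]
    have h1 : IsConj (c' * t * c'⁻¹) t := (isConj_iff.mpr ⟨c', rfl⟩ : IsConj t (c' * t * c'⁻¹)).symm
    have h2 : IsConj (t * y) (c' * (t * y) * c'⁻¹) := isConj_iff.mpr ⟨c', rfl⟩
    exact (h1.trans hty).trans h2
  have htt1 : (c' * t * c'⁻¹) * (c' * t * c'⁻¹) = 1 := by
    calc (c' * t * c'⁻¹) * (c' * t * c'⁻¹) = c' * (t * t) * c'⁻¹ := by group
      _ = 1 := by rw [htt]; group
  have hprod : (c' * t * c'⁻¹) * ((c' * t * c'⁻¹) * (c' * y * c'⁻¹)) = c' * y * c'⁻¹ := by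
    calc (c' * t * c'⁻¹) * ((c' * t * c'⁻¹) * (c' * y * c'⁻¹))
        = ((c' * t * c'⁻¹) * (c' * t * c'⁻¹)) * (c' * y * c'⁻¹) := by group
      _ = c' * y * c'⁻¹ := by rw [htt1, one_mul]
  have hne : (c' * t * c'⁻¹) * ((c' * t * c'⁻¹) * (c' * y * c'⁻¹)) ≠ 1 := by
    rw [hprod]
    intro h1
    apply hy1
    have : y = c'⁻¹ * (c' * y * c'⁻¹) * c' := by group
    rw [this, h1]; group
  have hfin := af3_pair_conj h hCN (c' * t * c'⁻¹) ((c' * t * c'⁻¹) * (c' * y * c'⁻¹)) ht1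
    (Subgroup.mul_mem _ ht1 hy1') hconj htt1 hne
  rw [hprod] at hfin
  have h1 : IsConj t (c' * t * c'⁻¹) := isConj_iff.mpr ⟨c', rfl⟩
  have h2 : IsConj (c' * y * c'⁻¹) y := (isConj_iff.mpr ⟨c', rfl⟩ : IsConj y (c' * y * c'⁻¹)).symm
  exact (h1.trans hfin).trans h2

end AF

end Cfsg.Agent.Lib.Helper24
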