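import Mathlib
import Cfsg.Agent.Lib.Helper29.AbFrobFacts
import Cfsg.Agent.Lib.Helper24.AF3Group

set_option autoImplicit false
set_option linter.style.haveILetI false
set_option linter.unusedSectionVars false
set_option linter.unusedVariables false
open Classical

namespace Cfsg.Agent.Lib.Helper24

open Cfsg.Agent.Lib.Helper29

section
variable {G : Type*} [Group G] [Finite G] {p : ℕ} [Fact p.Prime] {P : Sylow p G}

theorem af3_rel_inv (ψ ψ' : ↥(P : Subgroup G) →* ℂˣ) (hr : afRel (P : Subgroup G) ψ ψ') :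
    afRel (P : Subgroup G) ψ⁻¹ ψ'⁻¹ := by
  obtain ⟨n, hn, hh⟩ := hr
  refine ⟨n, hn, ?_⟩
  intro w w' hw
  rw [MonoidHom.inv_apply, MonoidHom.inv_apply, hh w w' hw]

theorem af3_not_rel_inv (h : AFSetup p P)
    (hCN : (Subgroup.centralizer ((P : Subgroup G) : Set G)).relIndex
      (Subgroup.normalizer ((P : Subgroup G) : Set G)) = 3)
    (hodd : Odd (Nat.card ↥(P : Subgroup G)))
    (ψ ψ' : ↥(P : Subgroup G) →* ℂˣ) (hψ : ψ ≠ 1)
    (h1 : afRel (P : Subgroup G) ψ ψ') (h2 : afRel (P : Subgroup G) ψ⁻¹ ψ') : False := by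
  have hψ' : ψ' ≠ 1 := afRel_ne_one _ _ _ h1 hψ
  obtain ⟨n₁, hn₁, hh₁⟩ := h1
  obtain ⟨n₂, hn₂, hh₂⟩ := h2
  have hnN : n₂ * n₁⁻¹ ∈ Subgroup.normalizer ((P : Subgroup G) : Set G) :=
    Subgroup.mul_mem _ hn₂ (Subgroup.inv_mem _ hn₁)
  have key : ∀ x : ↥(P : Subgroup G),
      ψ' (afCj (P : Subgroup G) (n₂ * n₁⁻¹) hnN x) = (ψ' x)⁻¹ := by
    intro x
    set w : ↥(P : Subgroup G) := afCj (P : Subgroup G) n₁⁻¹ (Subgroup.inv_mem _ hn₁) x with hw
    have e1 : ψ' x = ψ w := by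
      apply hh₁ w x
      rw [hw, afCj_coe]; group
    have e2 : ψ' (afCj (P : Subgroup G) (n₂ * n₁⁻¹) hnN x) = ψ⁻¹ w := by
      apply hh₂ w
      rw [hw, afCj_coe, afCj_coe]; group
    rw [e2, e1, MonoidHom.inv_apply]
  have hsq : ψ'.comp (afCj (P : Subgroup G) ((n₂ * n₁⁻¹) * (n₂ * n₁⁻¹))
      (Subgroup.mul_mem _ hnN hnN)) = ψ' := by
    ext x
    rw [MonoidHom.comp_apply, afCj_mul (P : Subgroup G) _ _ hnN hnN x, key, key, inv_inv]
  have hnn := af_stab h ψ' hψ' _ _ hsq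
  have hnC := af3_mem_C_of_sq hCN _ hnN hnn
  apply hψ'
  ext x
  have hfix : afCj (P : Subgroup G) (n₂ * n₁⁻¹) hnN x = x := by
    apply Subtype.ext
    rw [afCj_coe]
    rw [Subgroup.mem_centralizer_iff] at hnC
    have := hnC (x : G) x.2
    calc n₂ * n₁⁻¹ * (x : G) * (n₂ * n₁⁻¹)⁻¹ = ((x : G) * (n₂ * n₁⁻¹)) * (n₂ * n₁⁻¹)⁻¹ := by
          rw [this]
      _ = (x : G) := by group
  have hk := key x
  rw [hfix] at hk
  have hsq1 : ψ' x * ψ' x = 1 := by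
    calc ψ' x * ψ' x = (ψ' x)⁻¹ * ψ' x := by rw [← hk]
      _ = 1 := inv_mul_cancel _
  have hpow : (ψ' x) ^ Nat.card ↥(P : Subgroup G) = 1 := by
    rw [← map_pow]
    have : x ^ Nat.card ↥(P : Subgroup G) = 1 := pow_card_eq_one'
    rw [this, map_one]
  obtain ⟨k, hk2⟩ := hodd
  rw [hk2, pow_succ, pow_mul, pow_two, hsq1, one_pow, one_mul] at hpow
  rw [hpow]
  simp

theorem af3_swap_sum (h : AFSetup p P)
    (hCN : (Subgroup.centralizer ((P : Subgroup G) : Set G)).relIndex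
      (Subgroup.normalizer ((P : Subgroup G) : Set G)) = 3)
    (hq : Nat.card ↥(P : Subgroup G) = 7)
    (ψ : ↥(P : Subgroup G) →* ℂˣ) (hψ : ψ ≠ 1) (y : ↥(P : Subgroup G)) (hy : y ≠ 1) :
    (1 : ℂ) + ∑ᶠ ψ' ∈ {ψ' : ↥(P : Subgroup G) →* ℂˣ | afRel (P : Subgroup G) ψ⁻¹ ψ'},
        ((ψ' y : ℂˣ) : ℂ) +
      ∑ᶠ ψ' ∈ {ψ' : ↥(P : Subgroup G) →* ℂˣ | afRel (P : Subgroup G) ψ ψ'},
        ((ψ' y : ℂˣ) : ℂ) = 0 := by
  haveI : Fintype ↥(P : Subgroup G) := Fintype.ofFinite _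
  haveI : Finite (↥(P : Subgroup G) →* ℂˣ) := Nat.finite_of_card_ne_zero (by
    rw [afd_card_dual h.comm]
    exact Nat.card_pos.ne')
  haveI : Fintype (↥(P : Subgroup G) →* ℂˣ) := Fintype.ofFinite _
  haveI : Fintype ↥(Subgroup.normalizer ((P : Subgroup G) : Set G)) := Fintype.ofFinite _
  haveI : Fintype ↥(Subgroup.centralizer ((P : Subgroup G) : Set G)) := Fintype.ofFinite _
  have hψi : ψ⁻¹ ≠ 1 := by
    intro hh
    apply hψ
    ext w
    have h3 := DFunLike.congr_fun hh w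
    rw [MonoidHom.inv_apply, MonoidHom.one_apply, inv_eq_one] at h3
    rw [h3]
    rfl
  set A : Finset (↥(P : Subgroup G) →* ℂˣ) :=
    Finset.univ.filter (fun ψ' => afRel (P : Subgroup G) ψ ψ') with hA
  set B : Finset (↥(P : Subgroup G) →* ℂˣ) :=
    Finset.univ.filter (fun ψ' => afRel (P : Subgroup G) ψ⁻¹ ψ') with hB
  have hAc : A.card = 3 := af_orbit_card h 3 hCN ψ hψ
  have hBc : B.card = 3 := af_orbit_card h 3 hCN ψ⁻¹ hψi
  have hodd : Odd (Nat.card ↥(P : Subgroup G)) := by rw [hq]; decide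
  have hdisj : Disjoint A B := by
    rw [Finset.disjoint_left]
    intro ψ' h1 h2
    rw [hA, Finset.mem_filter] at h1
    rw [hB, Finset.mem_filter] at h2
    exact af3_not_rel_inv h hCN hodd ψ ψ' hψ h1.2 h2.2
  have h1A : (1 : ↥(P : Subgroup G) →* ℂˣ) ∉ A := by
    intro h1
    rw [hA, Finset.mem_filter] at h1
    exact afRel_ne_one _ _ _ h1.2 hψ rfl
  have h1B : (1 : ↥(P : Subgroup G) →* ℂˣ) ∉ B := by
    intro h1
    rw [hB, Finset.mem_filter] at h1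
    exact afRel_ne_one _ _ _ h1.2 hψi rfl
  have h1AB : (1 : ↥(P : Subgroup G) →* ℂˣ) ∉ A ∪ B := by
    rw [Finset.mem_union]
    rintro (h1 | h1)
    · exact h1A h1
    · exact h1B h1
  have hcard : (insert (1 : ↥(P : Subgroup G) →* ℂˣ) (A ∪ B)).card = 7 := by
    rw [Finset.card_insert_of_notMem h1AB, Finset.card_union_of_disjoint hdisj, hAc, hBc]
  have hall : insert (1 : ↥(P : Subgroup G) →* ℂˣ) (A ∪ B) = Finset.univ := by
    apply Finset.eq_univ_of_card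
    rw [hcard, ← Nat.card_eq_fintype_card, afd_card_dual h.comm, hq]
  have hsum := afd_sum_chars h.comm y
  rw [if_neg hy, ← hall, Finset.sum_insert h1AB, Finset.sum_union hdisj] at hsum
  rw [af_finsum_eq _ B (fun a => by rw [hB, Finset.mem_filter]; simp),
    af_finsum_eq _ A (fun a => by rw [hA, Finset.mem_filter]; simp)]
  simp only [MonoidHom.one_apply, Units.val_one] at hsum
  rw [← hsum]; ring

end

end Cfsg.Agent.Lib.Helper24
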