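import Mathlib
import Cfsg.Agent.Lib.Helper24.AF3Group
import Cfsg.Agent.Lib.Helper24.AF3Swap
import Cfsg.Agent.Lib.helper2.SchurBound1
import Cfsg.Agent.Lib.helper2.CharNat

set_option autoImplicit false
set_option linter.style.haveILetI false
set_option linter.unusedSectionVars false
set_option linter.unusedVariables false
open Classical

namespace Cfsg.Agent.Lib.Helper24

open Cfsg.Agent.Lib.Helper29

theorem af3_invol_int {G : Type*} [Group G] [Finite G] (χ : Cfsg.IrrCharacter G) (t : G)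
    (ht : orderOf t = 2) : ∃ v : ℤ, (χ : G → ℂ) t = (v : ℂ) := by
  haveI : Fact (Nat.Prime 2) := ⟨Nat.prime_two⟩
  have hcard : Nat.card (Subgroup.zpowers t) = 2 ^ 1 := by rw [Nat.card_zpowers, ht, pow_one]
  have hchar := Cfsg.Agent.Lib.helper2.isCharacter_restrict
    (Cfsg.Agent.Lib.helper2.isCharacter_of_irr χ) (Subgroup.zpowers t)
  have hdeg := (Cfsg.Agent.Lib.Helper25.charDegree_irr χ).1
  have hinv : ∀ (x : Subgroup.zpowers t) (m : ℕ), m.Coprime 2 →
      (fun h : Subgroup.zpowers t => (χ : G → ℂ) h) (x ^ m) =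
        (fun h : Subgroup.zpowers t => (χ : G → ℂ) h) x := by
    intro x m hm
    have hx2 : x ^ 2 = 1 := by
      have := pow_card_eq_one' (G := Subgroup.zpowers t) (x := x)
      rw [hcard, pow_one] at this
      exact this
    have hodd : Odd m := by
      rw [← Nat.not_even_iff_odd]
      intro hev
      have : 2 ∣ Nat.gcd m 2 := Nat.dvd_gcd hev.two_dvd (dvd_refl 2)
      rw [hm] at this
      omega
    obtain ⟨k, hk⟩ := hodd
    have : x ^ m = x := by rw [hk, pow_succ, pow_mul, hx2, one_pow, one_mul]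
    simp only [this]
  obtain ⟨v, hv, -⟩ := Cfsg.Agent.Lib.helper2.sb_values 2 1 hcard
    (fun h : Subgroup.zpowers t => (χ : G → ℂ) h) hchar (Cfsg.charDegree (χ : G → ℂ))
    (by simp only [Subgroup.coe_one]; exact hdeg.symm) hinv ⟨t, Subgroup.mem_zpowers t⟩
  exact ⟨v, hv⟩

section AF
variable {G : Type*} [Group G] [Finite G] {p : ℕ} [Fact p.Prime] {P : Sylow p G}

theorem af3_orbit_three (h : AFSetup p P)
    (hCN : (Subgroup.centralizer ((P : Subgroup G) : Set G)).relIndex
      (Subgroup.normalizer ((P : Subgroup G) : Set G)) = 3)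
    (y : G) (hy : y ∈ (P : Subgroup G)) (n₀ : G)
    (hn₀ : n₀ ∈ Subgroup.normalizer ((P : Subgroup G) : Set G))
    (hn₀C : n₀ ∉ Subgroup.centralizer ((P : Subgroup G) : Set G))
    (m : G) (hm : m ∈ Subgroup.normalizer ((P : Subgroup G) : Set G)) :
    m * y * m⁻¹ = y ∨ m * y * m⁻¹ = n₀ * y * n₀⁻¹ ∨
      m * y * m⁻¹ = (n₀ * n₀) * y * (n₀ * n₀)⁻¹ := by
  haveI hnorm := af3_C_normal_in_N (P := P)
  set Cn := (Subgroup.centralizer ((P : Subgroup G) : Set G)).subgroupOf
      (Subgroup.normalizer ((P : Subgroup G) : Set G)) with hCn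
  haveI : Finite (↥(Subgroup.normalizer ((P : Subgroup G) : Set G)) ⧸ Cn) := inferInstance
  haveI : Fintype (↥(Subgroup.normalizer ((P : Subgroup G) : Set G)) ⧸ Cn) := Fintype.ofFinite _
  have hcardQ : Fintype.card (↥(Subgroup.normalizer ((P : Subgroup G) : Set G)) ⧸ Cn) = 3 := by
    rw [← Nat.card_eq_fintype_card, ← Subgroup.index, hCn, ← Subgroup.relIndex, hCN]
  set g : ↥(Subgroup.normalizer ((P : Subgroup G) : Set G)) ⧸ Cn :=
    QuotientGroup.mk (⟨n₀, hn₀⟩ : ↥(Subgroup.normalizer ((P : Subgroup G) : Set G))) with hg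
  have hg1 : g ≠ 1 := by
    intro h1
    apply hn₀C
    have := (QuotientGroup.eq_one_iff _).mp h1
    rw [hCn, Subgroup.mem_subgroupOf] at this
    exact this
  have hg3 : g ^ 3 = 1 := by
    have := pow_card_eq_one (G := ↥(Subgroup.normalizer ((P : Subgroup G) : Set G)) ⧸ Cn) (x := g)
    rw [hcardQ] at this
    exact this
  have hg2 : g ^ 2 ≠ 1 := by
    intro h2
    apply hg1
    calc g = g ^ 3 * (g ^ 2)⁻¹ := by group
      _ = 1 := by rw [hg3, h2]; simp
  have hg21 : g ^ 2 ≠ g := by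
    intro h2
    apply hg1
    calc g = (g ^ 2) * g⁻¹ := by group
      _ = 1 := by rw [h2]; simp
  have hall : ({1, g, g ^ 2} : Finset (↥(Subgroup.normalizer ((P : Subgroup G) : Set G)) ⧸ Cn)) =
      Finset.univ := by
    apply Finset.eq_univ_of_card
    rw [hcardQ, Finset.card_insert_of_notMem, Finset.card_insert_of_notMem,
      Finset.card_singleton]
    · rw [Finset.mem_singleton]; exact hg21.symm
    · rw [Finset.mem_insert, Finset.mem_singleton]
      rintro (h1 | h1)
      · exact hg1 h1.symm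
      · exact hg2 h1.symm
  have hmq : (QuotientGroup.mk (⟨m, hm⟩ : ↥(Subgroup.normalizer ((P : Subgroup G) : Set G))) :
      ↥(Subgroup.normalizer ((P : Subgroup G) : Set G)) ⧸ Cn) ∈
      ({1, g, g ^ 2} : Finset (↥(Subgroup.normalizer ((P : Subgroup G) : Set G)) ⧸ Cn)) := by
    rw [hall]; exact Finset.mem_univ _
  have hfixC : ∀ c : G, c ∈ Subgroup.centralizer ((P : Subgroup G) : Set G) →
      c * y * c⁻¹ = y := by
    intro c hc
    rw [Subgroup.mem_centralizer_iff] at hc
    have := hc y hy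
    calc c * y * c⁻¹ = (y * c) * c⁻¹ := by rw [this]
      _ = y := by group
  have hkey : ∀ k : ↥(Subgroup.normalizer ((P : Subgroup G) : Set G)),
      (QuotientGroup.mk (⟨m, hm⟩ : ↥(Subgroup.normalizer ((P : Subgroup G) : Set G))) :
        ↥(Subgroup.normalizer ((P : Subgroup G) : Set G)) ⧸ Cn) = QuotientGroup.mk k →
      m * y * m⁻¹ = (k : G) * y * (k : G)⁻¹ := by
    intro k hk
    have h1 := QuotientGroup.eq.mp hk.symm
    rw [hCn, Subgroup.mem_subgroupOf] at h1
    have h2 := hfixC _ h1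
    simp only [Subgroup.coe_mul, Subgroup.coe_inv] at h2
    calc m * y * m⁻¹ = (k : G) * (((k : G)⁻¹ * m) * y * ((k : G)⁻¹ * m)⁻¹) * (k : G)⁻¹ := by group
      _ = (k : G) * y * (k : G)⁻¹ := by rw [h2]
  rw [Finset.mem_insert, Finset.mem_insert, Finset.mem_singleton] at hmq
  rcases hmq with h1 | h1 | h1
  · left
    have := hkey 1 (by rw [h1]; rfl)
    simpa using this
  · right; left
    exact hkey ⟨n₀, hn₀⟩ h1
  · right; right
    have := hkey (⟨n₀, hn₀⟩ * ⟨n₀, hn₀⟩) (by rw [h1, hg, pow_two]; rfl)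
    simpa using this

theorem af3_units_sq (u : ℂˣ) (h : u * u = 1) : u = 1 ∨ u = -1 := by
  have h1 : (u : ℂ) * (u : ℂ) = 1 := by
    have := congrArg (fun x : ℂˣ => (x : ℂ)) h
    simpa using this
  have h2 : ((u : ℂ) - 1) * ((u : ℂ) + 1) = 0 := by ring_nf; rw [pow_two, h1]; ring
  rcases mul_eq_zero.mp h2 with h3 | h3
  · left
    apply Units.ext
    rw [Units.val_one]
    linear_combination h3
  · right
    apply Units.ext
    rw [Units.val_neg, Units.val_one]
    linear_combination h3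

theorem af3_good_psi (h : AFSetup p P)
    (hCN : (Subgroup.centralizer ((P : Subgroup G) : Set G)).relIndex
      (Subgroup.normalizer ((P : Subgroup G) : Set G)) = 3)
    (hm2 : 3 + 1 < Nat.card ↥(P : Subgroup G)) (t : G) (ht : orderOf t = 2) :
    ∃ ψ₀ : ↥(P : Subgroup G) →* ℂˣ, ψ₀ ≠ 1 ∧ ∀ y : ↥(P : Subgroup G), IsConj t (y : G) →
      ∀ ψ' : ↥(P : Subgroup G) →* ℂˣ, afRel (P : Subgroup G) ψ₀ ψ' → ψ' y = 1 := by
  haveI : Fintype ↥(P : Subgroup G) := Fintype.ofFinite _
  haveI : Finite (↥(P : Subgroup G) →* ℂˣ) := Nat.finite_of_card_ne_zero (by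
    rw [afd_card_dual h.comm]
    exact Nat.card_pos.ne')
  haveI : Fintype (↥(P : Subgroup G) →* ℂˣ) := Fintype.ofFinite _
  have hcardPd : Fintype.card (↥(P : Subgroup G) →* ℂˣ) = Nat.card ↥(P : Subgroup G) := by
    rw [← Nat.card_eq_fintype_card]
    exact afd_card_dual h.comm
  by_cases hex : ∃ t₀ : ↥(P : Subgroup G), IsConj t (t₀ : G)
  · obtain ⟨t₀, ht₀⟩ := hex
    have htt : t * t = 1 := by rw [← pow_two, ← ht, pow_orderOf_eq_one]
    have ht₀sq : t₀ * t₀ = 1 := by
      obtain ⟨c, hc⟩ := isConj_iff.mp ht₀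
      apply Subtype.ext
      rw [Subgroup.coe_mul, Subgroup.coe_one, ← hc]
      calc c * t * c⁻¹ * (c * t * c⁻¹) = c * (t * t) * c⁻¹ := by group
        _ = 1 := by rw [htt]; group
    have hNC : ∃ n₀ : G, n₀ ∈ Subgroup.normalizer ((P : Subgroup G) : Set G) ∧
        n₀ ∉ Subgroup.centralizer ((P : Subgroup G) : Set G) := by
      by_contra hcon
      push Not at hcon
      have hle : Subgroup.normalizer ((P : Subgroup G) : Set G) ≤
          Subgroup.centralizer ((P : Subgroup G) : Set G) := hcon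
      have := Subgroup.relIndex_eq_one.mpr hle
      rw [hCN] at this
      omega
    obtain ⟨n₀, hn₀, hn₀C⟩ := hNC
    set t₁ : ↥(P : Subgroup G) := afCj (P : Subgroup G) n₀ hn₀ t₀ with ht₁
    have hpig : Fintype.card (Bool × Bool) < Fintype.card (↥(P : Subgroup G) →* ℂˣ) := by
      rw [hcardPd]
      simp only [Fintype.card_prod, Fintype.card_bool]
      omega
    obtain ⟨ψ, ψ', hne, hf⟩ := Fintype.exists_ne_map_eq_of_card_lt
      (fun ψ : ↥(P : Subgroup G) →* ℂˣ => (decide (ψ t₀ = 1), decide (ψ t₁ = 1))) hpig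
    simp only [Prod.mk.injEq, decide_eq_decide] at hf
    have hval : ∀ (φ : ↥(P : Subgroup G) →* ℂˣ) (w : ↥(P : Subgroup G)), w * w = 1 →
        φ w = 1 ∨ φ w = -1 := by
      intro φ w hw
      apply af3_units_sq
      rw [← map_mul, hw, map_one]
    have ht₁sq : t₁ * t₁ = 1 := by
      rw [ht₁, ← map_mul, ht₀sq, map_one]
    have heq : ∀ w : ↥(P : Subgroup G), w * w = 1 → (ψ w = 1 ↔ ψ' w = 1) → ψ w = ψ' w := by
      intro w hw hiff
      rcases hval ψ w hw with h1 | h1
      · rw [h1, hiff.mp h1]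
      · rcases hval ψ' w hw with h2 | h2
        · rw [hiff.mpr h2, h2]
        · rw [h1, h2]
    have e0 := heq t₀ ht₀sq hf.1
    have e1 := heq t₁ ht₁sq hf.2
    refine ⟨ψ * ψ'⁻¹, ?_, ?_⟩
    · intro h1
      apply hne
      ext w
      have := DFunLike.congr_fun h1 w
      rw [MonoidHom.mul_apply, MonoidHom.inv_apply, MonoidHom.one_apply, mul_inv_eq_one] at this
      rw [this]
    · have h0 : (ψ * ψ'⁻¹) t₀ = 1 := by
        rw [MonoidHom.mul_apply, MonoidHom.inv_apply, e0, mul_inv_cancel]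
      have h1 : (ψ * ψ'⁻¹) t₁ = 1 := by
        rw [MonoidHom.mul_apply, MonoidHom.inv_apply, e1, mul_inv_cancel]
      have horb : ∀ (m : G) (hm : m ∈ Subgroup.normalizer ((P : Subgroup G) : Set G)),
          (ψ * ψ'⁻¹) (afCj (P : Subgroup G) m hm t₀) = 1 := by
        intro m hm
        rcases af3_orbit_three h hCN (t₀ : G) t₀.2 n₀ hn₀ hn₀C m hm with h2 | h2 | h2
        · have : afCj (P : Subgroup G) m hm t₀ = t₀ := Subtype.ext h2
          rw [this, h0]
        · have : afCj (P : Subgroup G) m hm t₀ = t₁ := Subtype.ext h2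
          rw [this, h1]
        · have hprod := af3_orbit_prod h hCN (t₀ : G) t₀.2 n₀ hn₀ hn₀C
          have : afCj (P : Subgroup G) m hm t₀ = (t₀ * t₁)⁻¹ := by
            apply Subtype.ext
            rw [afCj_coe, h2, Subgroup.coe_inv, Subgroup.coe_mul, ht₁, afCj_coe]
            exact eq_inv_of_mul_eq_one_right hprod
          rw [this, map_inv, map_mul, h0, h1]
          simp
      intro y hy ψ'' hrel
      have hty : IsConj (t₀ : G) (y : G) := ht₀.symm.trans hy
      obtain ⟨n, hn, hny⟩ := h.fusion t₀.2 y.2 hty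
      obtain ⟨n', hn', hh⟩ := hrel
      have hmN : n'⁻¹ * n ∈ Subgroup.normalizer ((P : Subgroup G) : Set G) :=
        Subgroup.mul_mem _ (Subgroup.inv_mem _ hn') hn
      have := hh (afCj (P : Subgroup G) (n'⁻¹ * n) hmN t₀) y (by
        rw [afCj_coe, hny]; group)
      rw [this]
      exact horb _ hmN
  · obtain ⟨ψ₀, hψ₀⟩ := Fintype.exists_ne_of_one_lt_card
      (by rw [hcardPd]; omega : 1 < Fintype.card (↥(P : Subgroup G) →* ℂˣ))
      (1 : ↥(P : Subgroup G) →* ℂˣ)
    refine ⟨ψ₀, hψ₀, ?_⟩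
    intro y hy
    exact absurd ⟨y, hy⟩ hex

end AF

end Cfsg.Agent.Lib.Helper24
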