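import Mathlib
import Cfsg.Agent.Lib.helper23.P4S.DefsC

set_option autoImplicit false

namespace Cfsg.Agent.Lib.helper23.P4S

open Matrix
open scoped Kronecker

theorem p4csl3_key {K : Type} [Field K] (b c : K) (hb : b ≠ 0) (hc : c ≠ 0)
    (h : c + c⁻¹ = b + b⁻¹) : c = b ∨ c = b⁻¹ := by
  have h1 : (c - b) * (c - b⁻¹) = 0 := by
    have h2 : (c - b) * (c - b⁻¹) = c * c - c * (b + b⁻¹) + b * b⁻¹ := by ring
    rw [h2, mul_inv_cancel₀ hb, ← h, mul_add, mul_inv_cancel₀ hc]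
    ring
  rcases mul_eq_zero.mp h1 with h3 | h3
  · left
    exact sub_eq_zero.mp h3
  · right
    exact sub_eq_zero.mp h3

theorem root_frob {K : Type} [Field K] (p : ℕ) [Fact p.Prime] [CharP K p] (b t : K) (hb : b ≠ 0) (h : b + b⁻¹ = t)
    (k : ℕ) (ht : t ^ p ^ k = t) : b ^ p ^ k = b ∨ b ^ p ^ k = b⁻¹ := by
  have h1 : (b + b⁻¹) ^ p ^ k = b ^ p ^ k + (b⁻¹) ^ p ^ k := add_pow_char_pow b b⁻¹ p k
  have h2 : b ^ p ^ k + (b ^ p ^ k)⁻¹ = b + b⁻¹ := by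
    rw [← inv_pow, ← h1, h, ht]
  exact p4csl3_key b (b ^ p ^ k) hb (pow_ne_zero _ hb) h2

end Cfsg.Agent.Lib.helper23.P4S
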