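import Cfsg.Agent.Lib.Helper29.GLK.Defs

set_option autoImplicit false

namespace Cfsg.Agent.Lib.Helper29.GLK

open Polynomial

universe u

theorem glkM1_finite {F : Type u} [Field F] (f : F[X]) (hf : f ≠ 0) :
    Module.Finite F (F[X] ⧸ Ideal.span {f}) :=
  (AdjoinRoot.powerBasis hf).finite

theorem glkM1_finrank_gMod {F : Type u} [Field F] {n : ℕ}
    (g : Matrix.GeneralLinearGroup (Fin n) F) : Module.finrank F (gMod g) = n := by
  have h := (Module.AEval'.of (Matrix.toLin' (g : Matrix (Fin n) (Fin n) F))).finrank_eq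
  rw [← h]
  simp

theorem decomp_finrank {F : Type u} [Field F] {n : ℕ}
    (g : Matrix.GeneralLinearGroup (Fin n) F) {ι : Type u} [Fintype ι] (p : ι → F[X]) (e : ι → ℕ)
    (hp : ∀ j, Irreducible (p j))
    (Φ : gMod g ≃ₗ[F[X]] DirectSum ι fun j => F[X] ⧸ Ideal.span {p j ^ e j}) :
    ∑ j, e j * (p j).natDegree = n := by
  classical
  have : ∀ j, Module.Finite F (F[X] ⧸ Ideal.span {p j ^ e j}) :=
    fun j => glkM1_finite _ (pow_ne_zero _ (hp j).ne_zero)
  have h1 : Module.finrank F (gMod g) =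
      Module.finrank F (DirectSum ι fun j => F[X] ⧸ Ideal.span {p j ^ e j}) :=
    (Φ.restrictScalars F).finrank_eq
  rw [glkM1_finrank_gMod, Module.finrank_directSum] at h1
  rw [h1]
  refine Finset.sum_congr rfl (fun j _ => ?_)
  rw [finrank_quotient_span_eq_natDegree, natDegree_pow]

end Cfsg.Agent.Lib.Helper29.GLK
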