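import Cfsg.Agent.Lib.Helper1.PLK.Defs
import Cfsg.Agent.Lib.Helper18.SLKN48

set_option autoImplicit false

namespace Cfsg.Agent.Lib.Helper1.PLK

open Polynomial
open Cfsg.Agent.Lib.Helper29.GLK
open Cfsg.Agent.Lib.Helper1.SLK

universe u

theorem ubdN_bounds (n q : ℕ) (K : ℕ → ℕ) (hn : 2 ≤ n) (hq : 2 ≤ q)
    (hK : ∀ m, K m ≤ cnt q m 1 m) :
    2 * ubdN q K n ≤ 5 * q ^ (n - 1) ∧ (3 ≤ n → ubdN q K n ≤ q ^ (n - 1) + 3 * q ^ (n - 2)) := by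
  refine num_all n q (ubdN q K n) K hn hq hK ?_
  unfold ubdN
  exact Nat.mul_div_le _ _
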