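import Cfsg.Agent.Lib.Helper24.PLKT5core
import Cfsg.Agent.Lib.Helper5.PLKT1
import Cfsg.Agent.Lib.Helper5.PLKT2
import Cfsg.Agent.Lib.Helper5.PLKT3
import Cfsg.Agent.Lib.Helper25.PLKT4

set_option autoImplicit false

namespace Cfsg.Agent.Lib.Helper1.PLK

open Polynomial
open Cfsg.Agent.Lib.Helper29.GLK
open Cfsg.Agent.Lib.Helper1.SLK

universe u

theorem sum_tupTw_le {F : Type u} [Field F] [Fintype F] [DecidableEq F] (n m : ℕ) (hm : m ≠ 0)
    (hmn : m ∣ n) :
    (Fintype.card F - 1) *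
        ∑ T ∈ (tupTw F n m).filter (fun T => tdet T = 1), tg (Fintype.card F) T ≤
      (tupFin F (n / m)).card +
        ∑ d ∈ (Nat.divisors (Nat.gcd (n / m) (Fintype.card F - 1))).filter (fun d => 1 < d),
          (d ^ 2 - 1) * (tupFin F (n / m / d)).card :=
  plkt5_core n m (fun T hT => tctr_mem n m hm hmn T hT) (tctr_injOn n m hm hmn)
    (fun T hT q => tg_tctr n m hm hmn T hT q) (fun T hT => tdet_tctr n m hm hmn T hT)

end Cfsg.Agent.Lib.Helper1.PLK
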