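import Cfsg.Agent.Lib.Helper29.GLK.Defs

set_option autoImplicit false

namespace Cfsg.Agent.Lib.Helper29.GLK

open Polynomial

universe u

theorem glkM2_X_smul_surj {F : Type u} [Field F] {n : ℕ}
    (g : Matrix.GeneralLinearGroup (Fin n) F) (m : gMod g) :
    ∃ m' : gMod g, (X : F[X]) • m' = m := by
  obtain ⟨v, rfl⟩ := (Module.AEval'.of (Matrix.toLin' (g : Matrix (Fin n) (Fin n) F))).surjective m
  refine ⟨Module.AEval'.of _ (Matrix.toLin' ((g⁻¹ : Matrix.GeneralLinearGroup (Fin n) F) : Matrix (Fin n) (Fin n) F) v), ?_⟩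
  rw [Module.AEval'.X_smul_of]
  congr 1
  rw [← LinearMap.comp_apply, ← Matrix.toLin'_mul]
  have : (g : Matrix (Fin n) (Fin n) F) * ((g⁻¹ : Matrix.GeneralLinearGroup (Fin n) F) : Matrix (Fin n) (Fin n) F) = 1 := by
    rw [← Units.val_mul, mul_inv_cancel, Units.val_one]
  rw [this, Matrix.toLin'_one, LinearMap.id_apply]

theorem decomp_coeff_zero {F : Type u} [Field F] {n : ℕ}
    (g : Matrix.GeneralLinearGroup (Fin n) F) {ι : Type u} [Fintype ι] (p : ι → F[X]) (e : ι → ℕ)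
    (Φ : gMod g ≃ₗ[F[X]] DirectSum ι fun j => F[X] ⧸ Ideal.span {p j ^ e j})
    (j : ι) (hj : e j ≠ 0) : (p j).coeff 0 ≠ 0 := by
  classical
  intro h0
  have hX : (X : F[X]) ∣ p j := by
    rw [X_dvd_iff]; exact h0
  have hXe : (X : F[X]) ∣ p j ^ e j := dvd_trans hX (dvd_pow_self _ hj)
  let x : DirectSum ι fun j => F[X] ⧸ Ideal.span {p j ^ e j} :=
    DirectSum.of (fun j => F[X] ⧸ Ideal.span {p j ^ e j}) j (Ideal.Quotient.mk _ 1)
  obtain ⟨m', hm'⟩ := glkM2_X_smul_surj g (Φ.symm x)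
  have h1 : (X : F[X]) • Φ m' = x := by
    rw [← map_smul, hm', LinearEquiv.apply_symm_apply]
  have h2 : (X : F[X]) • (Φ m') j = Ideal.Quotient.mk _ 1 := by
    have := congrArg (fun y => y j) h1
    simp only [x] at this
    rw [DirectSum.of_eq_same] at this
    rw [← this]
    rfl
  obtain ⟨h, hh⟩ := Ideal.Quotient.mk_surjective ((Φ m') j)
  rw [← hh] at h2
  have h3 : (X : F[X]) • (Ideal.Quotient.mk (Ideal.span {p j ^ e j}) h) = Ideal.Quotient.mk _ (X * h) := by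
    rw [map_mul]
    rfl
  rw [h3, Ideal.Quotient.eq, Ideal.mem_span_singleton] at h2
  have h4 : (X : F[X]) ∣ X * h - 1 := dvd_trans hXe h2
  have h5 : (X : F[X]) ∣ 1 := by
    have := dvd_sub (dvd_mul_right X h) h4
    simpa using this
  have := isUnit_of_dvd_one h5
  exact not_isUnit_X this

end Cfsg.Agent.Lib.Helper29.GLK
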