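import Cfsg.Agent.Lib.Helper1.PLK.Defs
import Cfsg.Agent.Lib.Helper29.GLK.PieceM3

set_option autoImplicit false

namespace Cfsg.Agent.Lib.Helper1.PLK

open Polynomial
open Cfsg.Agent.Lib.Helper29.GLK
open Cfsg.Agent.Lib.Helper1.SLK

universe u

theorem plku12_core {F : Type u} [Field F] [DecidableEq F] {n : ℕ}
    (x : Matrix.GeneralLinearGroup (Fin n) F) (ζ : Fˣ) (G : ℕ → F[X]) (h : IsInv x G)
    (hU9 : ∀ P : F[X], Irreducible P → P.Monic → ∀ i : ℕ,
      Multiset.count P (UniqueFactorizationMonoid.normalizedFactors (G i)) =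
        Multiset.count (tw ζ P) (UniqueFactorizationMonoid.normalizedFactors (G i)))
    (hU10 : ∀ g : F[X], g.Monic →
      (∀ P : F[X], Irreducible P → P.Monic →
        Multiset.count P (UniqueFactorizationMonoid.normalizedFactors g) =
          Multiset.count (tw ζ P) (UniqueFactorizationMonoid.normalizedFactors g)) →
      g.comp (C (ζ : F) * X) = C ((ζ : F) ^ g.natDegree) * g)
    (hU11 : ∀ g : F[X], g.coeff 0 ≠ 0 →
      g.comp (C (ζ : F) * X) = C ((ζ : F) ^ g.natDegree) * g →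
      ∀ k : ℕ, ¬ orderOf ζ ∣ k → g.coeff k = 0)
    (i k : ℕ) (hk : ¬ orderOf ζ ∣ k) : (G i).coeff k = 0 := by
  obtain ⟨hmem, hone⟩ := isInv_mem x G h
  by_cases hi : i < n
  · have hGi := hmem.1 ⟨i, hi⟩
    have hGm : (G i).Monic := hGi.1
    have hG0 : (G i).coeff 0 ≠ 0 := hGi.2
    exact hU11 (G i) hG0 (hU10 (G i) hGm (fun P hP hPm => hU9 P hP hPm i)) k hk
  · rw [hone i (not_lt.mp hi)]
    have hk0 : k ≠ 0 := by
      rintro rfl
      exact hk (dvd_zero _)
    rw [Polynomial.coeff_one, if_neg hk0]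

end Cfsg.Agent.Lib.Helper1.PLK
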