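import Mathlib
import Cfsg.Prelude.Def_Blocks
import Cfsg.Prelude.Def_Local
import Cfsg.Agent.Lib.helper7.BSInvol
import Cfsg.Agent.Lib.Helper1.Cores

set_option autoImplicit false

namespace Cfsg.Agent.Lib.Helper24

open QuaternionGroup

theorem bsq8_pow_four : ∀ x : QuaternionGroup 2, x ^ 4 = 1 := by decide +kernel

theorem bsq8_noncentral :
    ∀ x : QuaternionGroup 2, x ^ 2 ≠ 1 → ∃ y : QuaternionGroup 2, x * y ≠ y * x := by
  decide +kernel

section BSQC2
variable {C : Type*} [Group C] [Finite C]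

theorem bsqc_conj_into (P : Sylow 2 C) (u : C) (hu : ∃ k : ℕ, orderOf u = 2 ^ k) :
    ∃ g : C, g * u * g⁻¹ ∈ (P : Subgroup C) := by
  haveI : Fact (Nat.Prime 2) := ⟨Nat.prime_two⟩
  have hp : IsPGroup 2 (Subgroup.zpowers u) := by
    obtain ⟨k, hk⟩ := hu
    exact IsPGroup.of_card (n := k) (by rw [Nat.card_zpowers, hk])
  obtain ⟨Q, hQ⟩ := hp.exists_le_sylow
  obtain ⟨g, hg⟩ := MulAction.exists_smul_eq C Q P
  refine ⟨g, ?_⟩
  have huQ : u ∈ (Q : Subgroup C) := hQ (Subgroup.mem_zpowers u)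
  have : g * u * g⁻¹ ∈ ((g • Q : Sylow 2 C) : Subgroup C) := by
    rw [Sylow.smul_def, Sylow.pointwise_smul_def]
    have := Subgroup.smul_mem_pointwise_smul u (MulAut.conj g) (Q : Subgroup C) huQ
    simpa [MulAut.smul_def] using this
  rwa [hg] at this

theorem bsqc_mem_pow_four (P : Sylow 2 C) (e : (P : Subgroup C) ≃* QuaternionGroup 2)
    (x : C) (hx : x ∈ (P : Subgroup C)) : x ^ 4 = 1 := by
  have h := bsq8_pow_four (e ⟨x, hx⟩)
  rw [← map_pow, EmbeddingLike.map_eq_one_iff] at h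
  have := congrArg Subtype.val h
  simpa using this

theorem bsqc_pow_four (P : Sylow 2 C) (e : (P : Subgroup C) ≃* QuaternionGroup 2)
    (u : C) (hu : ∃ k : ℕ, orderOf u = 2 ^ k) : u ^ 4 = 1 := by
  obtain ⟨g, hg⟩ := bsqc_conj_into P u hu
  have h := bsqc_mem_pow_four P e _ hg
  have h2 : (g * u * g⁻¹) ^ 4 = g * u ^ 4 * g⁻¹ := conj_pow
  rw [h2] at h
  have : u ^ 4 = g⁻¹ * 1 * g := by rw [← h]; group
  rw [this]; group

theorem bsqc_card_P (P : Sylow 2 C) (e : (P : Subgroup C) ≃* QuaternionGroup 2) :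
    Nat.card (P : Subgroup C) = 8 := by
  rw [Nat.card_congr e.toEquiv, Nat.card_eq_fintype_card, QuaternionGroup.card]

theorem bsqc_mem_noncentral (P : Sylow 2 C) (e : (P : Subgroup C) ≃* QuaternionGroup 2)
    (x : C) (hx : x ∈ (P : Subgroup C)) (hx2 : x ^ 2 ≠ 1) :
    ∃ y ∈ (P : Subgroup C), x * y ≠ y * x := by
  have h1 : (e ⟨x, hx⟩) ^ 2 ≠ 1 := by
    rw [← map_pow]
    intro h
    rw [EmbeddingLike.map_eq_one_iff] at h
    apply hx2
    have := congrArg Subtype.val h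
    simpa using this
  obtain ⟨y', hy'⟩ := bsq8_noncentral _ h1
  refine ⟨(e.symm y' : C), (e.symm y').2, ?_⟩
  intro hcomm
  apply hy'
  have h2 : (⟨x, hx⟩ : (P : Subgroup C)) * e.symm y' = e.symm y' * ⟨x, hx⟩ := by
    apply Subtype.ext
    simpa using hcomm
  have := congrArg e h2
  simpa using this

theorem bsqc_invol_unique (P : Sylow 2 C) (e : (P : Subgroup C) ≃* QuaternionGroup 2)
    (z : C) (hz : orderOf z = 2) (hzc : z ∈ Subgroup.center C) (t : C) (ht : orderOf t = 2) :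
    t = z := by
  have hzz : z * z = 1 := by rw [← pow_two, ← hz, pow_orderOf_eq_one]
  have htt : t * t = 1 := by rw [← pow_two, ← ht, pow_orderOf_eq_one]
  have hz1 : z ≠ 1 := by
    intro h; rw [h, orderOf_one] at hz; norm_num at hz
  have ht1 : t ≠ 1 := by
    intro h; rw [h, orderOf_one] at ht; norm_num at ht
  exact Cfsg.Agent.Lib.helper7.h7_quat_commuting_invol P e t z htt ht1 hzz hz1
    ((Subgroup.mem_center_iff.mp hzc t))

end BSQC2

end Cfsg.Agent.Lib.Helper24
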