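import Mathlib
import Cfsg.Prelude.Def_Blocks
import Cfsg.Prelude.Def_Local
import Cfsg.Agent.Lib.helper7.BSInvol
import Cfsg.Agent.Lib.Helper1.Cores

set_option autoImplicit false

namespace Cfsg.Agent.Lib.Helper24

section BSQC1
variable {C : Type*} [Group C]

theorem bsqc_two_part [Finite C] (c : C) :
    ∃ u y : C, u * y = c ∧ Commute u y ∧ (∃ k : ℕ, orderOf u = 2 ^ k) ∧ Odd (orderOf y) ∧
      u ∈ Subgroup.zpowers c ∧ y ∈ Subgroup.zpowers c := by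
  have hn : 0 < orderOf c := orderOf_pos c
  obtain ⟨k, m, hm, hkm⟩ := Nat.exists_eq_two_pow_mul_odd hn.ne'
  have hcop : Nat.Coprime (2 ^ k) m := (Nat.Coprime.pow_left k (Nat.coprime_two_left.mpr hm))
  have hbez : (2 ^ k : ℤ) * Int.gcdA (2 ^ k) m + (m : ℤ) * Int.gcdB (2 ^ k) m = 1 := by
    have := Int.gcd_eq_gcd_ab (2 ^ k : ℕ) m
    have h1 : Int.gcd ((2 ^ k : ℕ) : ℤ) (m : ℤ) = 1 := by
      rw [Int.gcd_natCast_natCast]; exact hcop
    rw [h1] at this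
    push_cast at this
    linarith
  set α := Int.gcdA (2 ^ k) m
  set β := Int.gcdB (2 ^ k) m
  refine ⟨c ^ ((m : ℤ) * β), c ^ ((2 ^ k : ℤ) * α), ?_, ?_, ?_, ?_, ?_, ?_⟩
  · rw [← zpow_add]
    have : (m : ℤ) * β + 2 ^ k * α = 1 := by linarith
    rw [this, zpow_one]
  · exact (Commute.refl c).zpow_zpow _ _
  · have hpow : (c ^ ((m : ℤ) * β)) ^ (2 ^ k) = 1 := by
      rw [← zpow_natCast, ← zpow_mul]
      have : (m : ℤ) * β * ((2 ^ k : ℕ) : ℤ) = ((orderOf c : ℕ) : ℤ) * β := by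
        rw [hkm]; push_cast; ring
      rw [this, zpow_mul, zpow_natCast, pow_orderOf_eq_one, one_zpow]
    obtain ⟨j, _, hj⟩ := (Nat.dvd_prime_pow Nat.prime_two).mp (orderOf_dvd_of_pow_eq_one hpow)
    exact ⟨j, hj⟩
  · have hpow : (c ^ ((2 ^ k : ℤ) * α)) ^ m = 1 := by
      rw [← zpow_natCast, ← zpow_mul]
      have : (2 ^ k : ℤ) * α * (m : ℤ) = ((orderOf c : ℕ) : ℤ) * α := by
        rw [hkm]; push_cast; ring
      rw [this, zpow_mul, zpow_natCast, pow_orderOf_eq_one, one_zpow]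
    exact Odd.of_dvd_nat hm (orderOf_dvd_of_pow_eq_one hpow)
  · exact Subgroup.zpow_mem _ (Subgroup.mem_zpowers c) _
  · exact Subgroup.zpow_mem _ (Subgroup.mem_zpowers c) _

end BSQC1

end Cfsg.Agent.Lib.Helper24
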