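import Mathlib
import Cfsg.Prelude.Def_Blocks
import Cfsg.Prelude.Def_Local
import Cfsg.Agent.Lib.helper7.BSInvol
import Cfsg.Agent.Lib.Helper1.Cores
import Cfsg.Agent.Lib.Helper24.BSQC1
import Cfsg.Agent.Lib.Helper24.BSQC2

set_option autoImplicit false

namespace Cfsg.Agent.Lib.Helper24

section BSQC3
variable {C : Type*} [Group C] [Finite C]

theorem bsqc_odd_mem_core (H : Type*) [Group H] [Finite H] (T : Sylow 2 H)
    (hcyc : IsCyclic ↥(T : Subgroup H)) (h2 : 2 ∣ Nat.card H) (y : H) (hy : Odd (orderOf y)) :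
    y ∈ Cfsg.pPrimeCore 2 H := by
  haveI : Fact (Nat.Prime 2) := ⟨Nat.prime_two⟩
  have hp : (Nat.card H).minFac = 2 := (Nat.minFac_eq_two_iff _).mpr h2
  have hNC := IsCyclic.normalizer_le_centralizer hp hcyc
  have hK : ¬ 2 ∣ Nat.card (MonoidHom.transferSylow T hNC).ker :=
    MonoidHom.not_dvd_card_ker_transferSylow T hNC
  have hKle : (MonoidHom.transferSylow T hNC).ker ≤ Cfsg.pPrimeCore 2 H := by
    apply Cfsg.Agent.Lib.Helper1.le_pPrimeCore (MonoidHom.normal_ker _)
    exact ((Nat.Prime.coprime_iff_not_dvd Nat.prime_two).mpr hK).symm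
  apply hKle
  rw [MonoidHom.mem_ker]
  set t := MonoidHom.transferSylow T hNC y with ht
  have h1 : orderOf t ∣ orderOf y := orderOf_map_dvd _ y
  have h2' : ∃ k : ℕ, orderOf t = 2 ^ k := by
    obtain ⟨k, hk⟩ := (T.isPGroup' : IsPGroup 2 ↥(T : Subgroup H)) t
    obtain ⟨j, _, hj⟩ := (Nat.dvd_prime_pow Nat.prime_two).mp (orderOf_dvd_of_pow_eq_one hk)
    exact ⟨j, hj⟩
  obtain ⟨k, hk⟩ := h2'
  have hodd : Odd (orderOf t) := Odd.of_dvd_nat hy h1
  rw [hk] at hodd
  have hk0 : k = 0 := by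
    by_contra h
    have : Even (2 ^ k) := (Nat.even_pow' h).mpr even_two
    exact (Nat.not_even_iff_odd.mpr hodd) this
  rw [hk0, pow_zero, orderOf_eq_one_iff] at hk
  exact hk

theorem bsqc_cent_core (P : Sylow 2 C) (e : (P : Subgroup C) ≃* QuaternionGroup 2)
    (u : C) (hu : orderOf u = 4) (y : C) (hcomm : Commute u y) (hy : Odd (orderOf y)) :
    y ∈ Cfsg.centralizerPPrimeCore 2 u := by
  classical
  haveI : Fact (Nat.Prime 2) := ⟨Nat.prime_two⟩
  set H := Subgroup.centralizer ({u} : Set C) with hH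
  have huH : u ∈ H := Subgroup.mem_centralizer_singleton_iff.mpr rfl
  have hyH : y ∈ H := Subgroup.mem_centralizer_singleton_iff.mpr hcomm.eq.symm
  set u' : H := ⟨u, huH⟩ with hu'
  have hou' : orderOf u' = 4 := by
    rw [← hu, ← Subgroup.orderOf_coe u']
  have hp : IsPGroup 2 (Subgroup.zpowers u') :=
    IsPGroup.of_card (n := 2) (by rw [Nat.card_zpowers, hou']; norm_num)
  obtain ⟨T, hT⟩ := hp.exists_le_sylow
  have hu'T : u' ∈ (T : Subgroup H) := hT (Subgroup.mem_zpowers u')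
  set Q0 : Subgroup C := (T : Subgroup H).map H.subtype with hQ0
  have hQ0card : Nat.card Q0 = Nat.card (T : Subgroup H) :=
    Subgroup.card_map_of_injective (Subgroup.subtype_injective H)
  have hQ0p : IsPGroup 2 Q0 := (T.isPGroup').map H.subtype
  obtain ⟨Q, hQ⟩ := hQ0p.exists_le_sylow
  obtain ⟨g, hg⟩ := MulAction.exists_smul_eq C Q P
  have hQcard : Nat.card (Q : Subgroup C) = 8 := by
    rw [← bsqc_card_P P e, Q.card_eq_multiplicity, P.card_eq_multiplicity]
  have hTdvd : Nat.card (T : Subgroup H) ∣ 8 := by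
    rw [← hQ0card, ← hQcard]
    exact Subgroup.card_dvd_of_le hQ
  have h4dvd : 4 ∣ Nat.card (T : Subgroup H) := by
    have h1 : orderOf (⟨u', hu'T⟩ : (T : Subgroup H)) = 4 := by
      rw [← hou', ← Subgroup.orderOf_coe (⟨u', hu'T⟩ : (T : Subgroup H))]
    rw [← h1]
    exact orderOf_dvd_natCard _
  have hT4 : Nat.card (T : Subgroup H) = 4 := by
    have hle : Nat.card (T : Subgroup H) ≤ 8 := Nat.le_of_dvd (by norm_num) hTdvd
    have hcases : Nat.card (T : Subgroup H) = 4 ∨ Nat.card (T : Subgroup H) = 8 := by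
      obtain ⟨k, hk⟩ := h4dvd
      have : k = 1 ∨ k = 2 := by
        have hpos : 0 < Nat.card (T : Subgroup H) := Nat.card_pos
        omega
      rcases this with h | h <;> rw [h] at hk <;> omega
    rcases hcases with h | h8
    · exact h
    · exfalso
      have hQ0Q : Q0 = (Q : Subgroup C) := by
        apply Subgroup.eq_of_le_of_card_ge hQ
        rw [hQ0card, h8, hQcard]
      have hQcomm : ∀ x ∈ (Q : Subgroup C), x * u = u * x := by
        intro x hx
        rw [← hQ0Q] at hx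
        obtain ⟨x', _, rfl⟩ := hx
        exact Subgroup.mem_centralizer_singleton_iff.mp x'.2
      have huQ : u ∈ (Q : Subgroup C) := hQ ⟨u', hu'T, rfl⟩
      have hguP : g * u * g⁻¹ ∈ (P : Subgroup C) := by
        have : g * u * g⁻¹ ∈ ((g • Q : Sylow 2 C) : Subgroup C) := by
          rw [Sylow.smul_def, Sylow.pointwise_smul_def]
          have := Subgroup.smul_mem_pointwise_smul u (MulAut.conj g) (Q : Subgroup C) huQ
          simpa [MulAut.smul_def] using this
        rwa [hg] at this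
      have hgu2 : (g * u * g⁻¹) ^ 2 ≠ 1 := by
        intro h
        have h2 : (g * u * g⁻¹) ^ 2 = g * u ^ 2 * g⁻¹ := conj_pow
        rw [h2] at h
        have h3 : u ^ 2 = 1 := by
          have : u ^ 2 = g⁻¹ * (g * u ^ 2 * g⁻¹) * g := by group
          rw [this, h]; group
        have := orderOf_dvd_of_pow_eq_one h3
        rw [hu] at this
        norm_num at this
      obtain ⟨y0, hy0P, hy0⟩ := bsqc_mem_noncentral P e _ hguP hgu2
      apply hy0
      have hy0Q : g⁻¹ * y0 * g ∈ (Q : Subgroup C) := by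
        rw [← hg] at hy0P
        rw [Sylow.smul_def, Sylow.pointwise_smul_def] at hy0P
        have := (Subgroup.mem_pointwise_smul_iff_inv_smul_mem).mp hy0P
        simpa [MulAut.smul_def] using this
      have hc := hQcomm _ hy0Q
      have e1 : y0 = g * (g⁻¹ * y0 * g) * g⁻¹ := by group
      rw [e1]
      calc g * u * g⁻¹ * (g * (g⁻¹ * y0 * g) * g⁻¹) = g * (u * (g⁻¹ * y0 * g)) * g⁻¹ := by group
        _ = g * ((g⁻¹ * y0 * g) * u) * g⁻¹ := by rw [hc]
        _ = g * (g⁻¹ * y0 * g) * g⁻¹ * (g * u * g⁻¹) := by group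
  have hcyc : IsCyclic ↥(T : Subgroup H) := by
    apply isCyclic_of_orderOf_eq_card (⟨u', hu'T⟩ : (T : Subgroup H))
    rw [hT4, ← hou', ← Subgroup.orderOf_coe (⟨u', hu'T⟩ : (T : Subgroup H))]
  have h2H : 2 ∣ Nat.card H := by
    have : 4 ∣ Nat.card H := by
      rw [← hou']; exact orderOf_dvd_natCard _
    exact dvd_trans (by norm_num) this
  have hy' : Odd (orderOf (⟨y, hyH⟩ : H)) := by
    rw [← Subgroup.orderOf_coe (⟨y, hyH⟩ : H)]; exact hy
  have hmem := bsqc_odd_mem_core H T hcyc h2H ⟨y, hyH⟩ hy'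
  unfold Cfsg.centralizerPPrimeCore
  exact ⟨⟨y, hyH⟩, hmem, rfl⟩

end BSQC3

end Cfsg.Agent.Lib.Helper24
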