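import Mathlib
import Cfsg.Agent.Lib.Helper24.BSQC1
import Cfsg.Agent.Lib.Helper24.BSQC2

set_option autoImplicit false

namespace Cfsg.Agent.Lib.Helper24

section BSQC4
variable {C : Type*} [Group C] [Finite C]

theorem bsqc_mul_z_odd (z : C) (hz : orderOf z = 2) (hzc : z ∈ Subgroup.center C) (c : C)
    (hc : Odd (orderOf c)) : ¬ Odd (orderOf (z * c)) ∧ ¬ 4 ∣ orderOf (z * c) := by
  have hcomm : Commute z c := (Subgroup.mem_center_iff.mp hzc c).symm
  have hcop : Nat.Coprime (orderOf z) (orderOf c) := by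
    rw [hz]; exact Nat.coprime_two_left.mpr hc
  have h := hcomm.orderOf_mul_eq_mul_orderOf_of_coprime hcop
  rw [hz] at h
  rw [h]
  obtain ⟨m, hm⟩ := hc
  rw [hm]
  constructor
  · rw [Nat.not_odd_iff_even]; exact ⟨2 * m + 1, by ring⟩
  · omega

theorem bsqc_mul_z_even (P : Sylow 2 C) (e : (P : Subgroup C) ≃* QuaternionGroup 2)
    (z : C) (hz : orderOf z = 2) (hzc : z ∈ Subgroup.center C) (c : C)
    (h1 : ¬ Odd (orderOf c)) (h2 : ¬ 4 ∣ orderOf c) : Odd (orderOf (z * c)) := by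
  have hn : 0 < orderOf c := orderOf_pos c
  rw [Nat.not_odd_iff_even] at h1
  obtain ⟨m, hm⟩ := h1
  have hm' : orderOf c = 2 * m := by omega
  have hmodd : Odd m := by
    rw [← Nat.not_even_iff_odd]
    rintro ⟨k, hk⟩
    apply h2
    exact ⟨k, by omega⟩
  have hm0 : m ≠ 0 := by omega
  have hcm : orderOf (c ^ m) = 2 := by
    rw [orderOf_pow' c hm0, hm']
    have : Nat.gcd (2 * m) m = m := Nat.gcd_eq_right ⟨2, by ring⟩
    rw [this]
    exact Nat.mul_div_cancel _ (Nat.pos_of_ne_zero hm0)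
  have hczm : c ^ m = z := bsqc_invol_unique P e z hz hzc _ hcm
  have hcomm : Commute z c := (Subgroup.mem_center_iff.mp hzc c).symm
  have hzm : z ^ m = z := by
    obtain ⟨k, hk⟩ := hmodd
    have hz2 : z ^ 2 = 1 := by rw [← hz, pow_orderOf_eq_one]
    rw [hk, pow_succ, pow_mul, hz2, one_pow, one_mul]
  have hpow : (z * c) ^ m = 1 := by
    rw [hcomm.mul_pow, hzm, hczm, ← pow_two, ← hz, pow_orderOf_eq_one]
  exact Odd.of_dvd_nat hmodd (orderOf_dvd_of_pow_eq_one hpow)

theorem bsqc_four_decomp (P : Sylow 2 C) (e : (P : Subgroup C) ≃* QuaternionGroup 2)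
    (c : C) (h4 : 4 ∣ orderOf c) :
    ∃ u y : C, c = u * y ∧ orderOf u = 4 ∧ Commute u y ∧ Odd (orderOf y) := by
  obtain ⟨u, y, huy, hcomm, ⟨k, hk⟩, hyodd, -, -⟩ := bsqc_two_part c
  have hu4 : u ^ 4 = 1 := bsqc_pow_four P e u ⟨k, hk⟩
  have hcop : Nat.Coprime (orderOf u) (orderOf y) := by
    rw [hk]; exact Nat.Coprime.pow_left k (Nat.coprime_two_left.mpr hyodd)
  have hord := hcomm.orderOf_mul_eq_mul_orderOf_of_coprime hcop
  rw [huy] at hord
  have hdvd : orderOf u ∣ 4 := orderOf_dvd_of_pow_eq_one hu4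
  have h4u : 4 ∣ orderOf u := by
    rw [hord] at h4
    have hc4 : Nat.Coprime 4 (orderOf y) := by
      have : (4 : ℕ) = 2 ^ 2 := by norm_num
      rw [this]; exact Nat.Coprime.pow_left 2 (Nat.coprime_two_left.mpr hyodd)
    exact hc4.dvd_of_dvd_mul_right h4
  exact ⟨u, y, huy.symm, Nat.dvd_antisymm hdvd h4u, hcomm, hyodd⟩

open Classical in
theorem bsqc_sum_split [Fintype C] (P : Sylow 2 C) (e : (P : Subgroup C) ≃* QuaternionGroup 2)
    (z : C) (hz : orderOf z = 2) (hzc : z ∈ Subgroup.center C) (F : C → ℂ) :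
    ∑ c : C, F c = (∑ c : C, if Odd (orderOf c) then F c + F (z * c) else 0) +
      ∑ c : C, if 4 ∣ orderOf c then F c else 0 := by
  have hzz : z * z = 1 := by rw [← pow_two, ← hz, pow_orderOf_eq_one]
  have h1 : ∑ c : C, F c = (∑ c : C, if Odd (orderOf c) then F c else 0) +
      (∑ c : C, if ¬ Odd (orderOf c) ∧ ¬ 4 ∣ orderOf c then F c else 0) +
      ∑ c : C, if 4 ∣ orderOf c then F c else 0 := by
    rw [← Finset.sum_add_distrib, ← Finset.sum_add_distrib]
    refine Finset.sum_congr rfl fun c _ => ?_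
    by_cases hA : Odd (orderOf c)
    · have hU : ¬ 4 ∣ orderOf c := by
        intro h
        obtain ⟨k, hk⟩ := h
        rw [hk] at hA
        exact (Nat.not_even_iff_odd.mpr hA) ⟨2 * k, by ring⟩
      simp [hA, hU]
    · by_cases hU : 4 ∣ orderOf c
      · simp [hA, hU]
      · simp [hA, hU]
  have h2 : (∑ c : C, if ¬ Odd (orderOf c) ∧ ¬ 4 ∣ orderOf c then F c else 0) =
      ∑ c : C, if Odd (orderOf c) then F (z * c) else 0 := by
    refine Fintype.sum_equiv (Equiv.mulLeft z) _ _ ?_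
    intro c
    show _ = if Odd (orderOf (z * c)) then F (z * (z * c)) else 0
    have e1 : z * (z * c) = c := by rw [← mul_assoc, hzz, one_mul]
    by_cases hB : ¬ Odd (orderOf c) ∧ ¬ 4 ∣ orderOf c
    · rw [if_pos hB, if_pos (bsqc_mul_z_even P e z hz hzc c hB.1 hB.2), e1]
    · rw [if_neg hB, if_neg]
      intro hodd
      apply hB
      have := bsqc_mul_z_odd z hz hzc (z * c) hodd
      rwa [e1] at this
  rw [h1, h2, ← Finset.sum_add_distrib]
  congr 1
  refine Finset.sum_congr rfl fun c _ => ?_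
  by_cases hA : Odd (orderOf c) <;> simp [hA]

end BSQC4

end Cfsg.Agent.Lib.Helper24
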