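import Mathlib
import Cfsg.Agent.Lib.Helper24.BSQC1
import Cfsg.Agent.Lib.Helper24.BSQC2

set_option autoImplicit false

namespace Cfsg.Agent.Lib.Helper24

section BSQC5
variable {C : Type*} [Group C] [Finite C]

theorem bsqc_normal (z : C) (hzc : z ∈ Subgroup.center C) : (Subgroup.zpowers z).Normal := by
  constructor
  intro n hn g
  have hnc : n ∈ Subgroup.center C := (Subgroup.zpowers_le.mpr hzc) hn
  have : g * n * g⁻¹ = n := by
    rw [(Subgroup.mem_center_iff.mp hnc g), mul_assoc, mul_inv_cancel, mul_one]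
  rw [this]; exact hn

theorem bsqc_mem_N (z : C) (hz : orderOf z = 2) (x : C) :
    x ∈ Subgroup.zpowers z ↔ x = 1 ∨ x = z := by
  constructor
  · intro hx
    obtain ⟨k, rfl⟩ := Subgroup.mem_zpowers_iff.mp hx
    have hz2 : z ^ (2 : ℤ) = 1 := by
      have h := pow_orderOf_eq_one z
      rw [hz] at h
      exact_mod_cast h
    rcases Int.emod_two_eq_zero_or_one k with h | h
    · left
      have : k = 2 * (k / 2) := by omega
      rw [this, zpow_mul, hz2, one_zpow]
    · right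
      have : k = 2 * (k / 2) + 1 := by omega
      rw [this, zpow_add, zpow_mul, hz2, one_zpow, one_mul, zpow_one]
  · rintro (rfl | rfl)
    · exact Subgroup.one_mem _
    · exact Subgroup.mem_zpowers _

theorem bsqc_sq_mem (P : Sylow 2 C) (e : (P : Subgroup C) ≃* QuaternionGroup 2)
    (z : C) (hz : orderOf z = 2) (hzc : z ∈ Subgroup.center C) (x : C) (hx4 : x ^ 4 = 1) :
    x ^ 2 = 1 ∨ x ^ 2 = z := by
  by_cases h : x ^ 2 = 1
  · exact Or.inl h
  · right
    apply bsqc_invol_unique P e z hz hzc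
    apply orderOf_eq_prime
    · rw [← pow_mul]; exact hx4
    · exact h

theorem bsqc_quot_klein (P : Sylow 2 C) (e : (P : Subgroup C) ≃* QuaternionGroup 2)
    (z : C) (hz : orderOf z = 2) (hzc : z ∈ Subgroup.center C) (N : Subgroup C) [N.Normal]
    (hN : N = Subgroup.zpowers z) :
    ∃ Pb : Sylow 2 (C ⧸ N), IsKleinFour ↥(Pb : Subgroup (C ⧸ N)) := by
  haveI : Fact (Nat.Prime 2) := ⟨Nat.prime_two⟩
  set Pb : Sylow 2 (C ⧸ N) := P.mapSurjective (QuotientGroup.mk'_surjective N) with hPb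
  refine ⟨Pb, ?_⟩
  have hNcard : Nat.card N = 2 := by rw [hN, Nat.card_zpowers, hz]
  have hCcard : Nat.card C = Nat.card (C ⧸ N) * 2 := by
    rw [← hNcard]; exact Subgroup.card_eq_card_quotient_mul_card_subgroup N
  have hfacC : (Nat.card C).factorization 2 = 3 := by
    have h1 := P.card_eq_multiplicity
    rw [bsqc_card_P P e] at h1
    have : (2 : ℕ) ^ 3 = 2 ^ (Nat.card C).factorization 2 := by rw [← h1]; norm_num
    exact (Nat.pow_right_injective (le_refl 2) this).symm
  have hfacQ : (Nat.card (C ⧸ N)).factorization 2 = 2 := by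
    have hq0 : Nat.card (C ⧸ N) ≠ 0 := Nat.card_pos.ne'
    have := Nat.factorization_mul hq0 (by norm_num : (2 : ℕ) ≠ 0)
    rw [← hCcard] at this
    have h2 := congrFun (congrArg DFunLike.coe this) 2
    simp only [Finsupp.coe_add, Pi.add_apply] at h2
    rw [hfacC, Nat.Prime.factorization_self Nat.prime_two] at h2
    omega
  have hcard4 : Nat.card ↥(Pb : Subgroup (C ⧸ N)) = 4 := by
    rw [Pb.card_eq_multiplicity, hfacQ]; norm_num
  have hsq : ∀ x : ↥(Pb : Subgroup (C ⧸ N)), x ^ 2 = 1 := by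
    rintro ⟨xb, hxb⟩
    rw [hPb, Sylow.coe_mapSurjective] at hxb
    obtain ⟨x, hxP, rfl⟩ := hxb
    apply Subtype.ext
    show (QuotientGroup.mk' N x) ^ 2 = 1
    rw [← map_pow]
    show ((x ^ 2 : C) : C ⧸ N) = 1
    rw [QuotientGroup.eq_one_iff, hN, bsqc_mem_N z hz]
    exact bsqc_sq_mem P e z hz hzc x (bsqc_mem_pow_four P e x hxP)
  refine ⟨hcard4, ?_⟩
  have hdvd : Monoid.exponent ↥(Pb : Subgroup (C ⧸ N)) ∣ 2 :=
    Monoid.exponent_dvd_of_forall_pow_eq_one hsq
  have hne1 : Monoid.exponent ↥(Pb : Subgroup (C ⧸ N)) ≠ 1 := by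
    intro h1
    haveI := Monoid.exp_eq_one_iff.mp h1
    have : Nat.card ↥(Pb : Subgroup (C ⧸ N)) = 1 := Nat.card_unique
    omega
  rcases (Nat.dvd_prime Nat.prime_two).mp hdvd with h | h
  · exact absurd h hne1
  · exact h

theorem bsqc_quot_invol (P : Sylow 2 C) (e : (P : Subgroup C) ≃* QuaternionGroup 2)
    (z : C) (hz : orderOf z = 2) (hzc : z ∈ Subgroup.center C) (N : Subgroup C) [N.Normal]
    (hN : N = Subgroup.zpowers z) (a : C) (ha : orderOf (a : C ⧸ N) = 2) : orderOf a = 4 := by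
  have ha2 : ((a ^ 2 : C) : C ⧸ N) = 1 := by
    have := pow_orderOf_eq_one (a : C ⧸ N)
    rw [ha] at this
    exact this
  rw [QuotientGroup.eq_one_iff, hN, bsqc_mem_N z hz] at ha2
  have haN : a ∉ N := by
    intro h
    have : (a : C ⧸ N) = 1 := (QuotientGroup.eq_one_iff a).mpr h
    rw [this, orderOf_one] at ha
    norm_num at ha
  rw [hN, bsqc_mem_N z hz] at haN
  push Not at haN
  have hz2 : z ^ 2 = 1 := by rw [← hz, pow_orderOf_eq_one]
  have ha2z : a ^ 2 = z := by
    rcases ha2 with h | h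
    · exfalso
      by_cases ha1 : a = 1
      · exact haN.1 ha1
      · exact haN.2 (bsqc_invol_unique P e z hz hzc a (orderOf_eq_prime h ha1))
    · exact h
  have ha4 : a ^ 4 = 1 := by
    have : a ^ 4 = (a ^ 2) ^ 2 := by rw [← pow_mul]
    rw [this, ha2z, hz2]
  have hz1 : z ≠ 1 := by
    intro h; rw [h, orderOf_one] at hz; norm_num at hz
  have := orderOf_eq_prime_pow (p := 2) (n := 1) (x := a) (by rw [pow_one, ha2z]; exact hz1)
    (by simpa using ha4)
  simpa using this

theorem bsqc_quot_hone (P : Sylow 2 C) (e : (P : Subgroup C) ≃* QuaternionGroup 2)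
    (z : C) (hz : orderOf z = 2) (hzc : z ∈ Subgroup.center C) (N : Subgroup C) [N.Normal]
    (hN : N = Subgroup.zpowers z)
    (h4 : ∀ u v : C, orderOf u = 4 → orderOf v = 4 → IsConj u v)
    (s t : C ⧸ N) (hs : orderOf s = 2) (ht : orderOf t = 2) : IsConj s t := by
  obtain ⟨a, rfl⟩ := QuotientGroup.mk_surjective s
  obtain ⟨b, rfl⟩ := QuotientGroup.mk_surjective t
  have ha := bsqc_quot_invol P e z hz hzc N hN a hs
  have hb := bsqc_quot_invol P e z hz hzc N hN b ht
  have h := h4 a b ha hb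
  rw [isConj_iff] at h ⊢
  obtain ⟨c, hc⟩ := h
  refine ⟨(c : C ⧸ N), ?_⟩
  rw [← hc]
  rfl

end BSQC5

end Cfsg.Agent.Lib.Helper24
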