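import Mathlib

set_option autoImplicit false

namespace Cfsg.Agent.Lib.Helper24

section BSQCore
variable {ι : Type*} [Fintype ι]

def bsqDot (f g : ι → ℤ) : ℤ := ∑ i, f i * g i

def bsqEv (f : ι → ℤ) (d : ι → ℂ) : ℂ := ∑ i, (f i : ℂ) * d i

theorem bsqDot_comm (f g : ι → ℤ) : bsqDot f g = bsqDot g f := by
  unfold bsqDot
  exact Finset.sum_congr rfl fun i _ => mul_comm _ _

theorem bsqDot_lin (m n : ℤ) (f g h : ι → ℤ) :
    bsqDot (fun i => m * f i + n * g i) h = m * bsqDot f h + n * bsqDot g h := by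
  unfold bsqDot
  rw [Finset.mul_sum, Finset.mul_sum, ← Finset.sum_add_distrib]
  exact Finset.sum_congr rfl fun i _ => by ring

theorem bsqDot_lin' (m n : ℤ) (f g h : ι → ℤ) :
    bsqDot h (fun i => m * f i + n * g i) = m * bsqDot h f + n * bsqDot h g := by
  rw [bsqDot_comm, bsqDot_lin, bsqDot_comm f, bsqDot_comm g]

theorem bsqEv_lin (m n : ℤ) (f g : ι → ℤ) (d : ι → ℂ) :
    bsqEv (fun i => m * f i + n * g i) d = m * bsqEv f d + n * bsqEv g d := by
  unfold bsqEv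
  rw [Finset.mul_sum, Finset.mul_sum, ← Finset.sum_add_distrib]
  exact Finset.sum_congr rfl fun i _ => by push_cast; ring

theorem bsq_sq_le (f : ι → ℤ) (n : ℤ) (h : bsqDot f f = n) (i : ι) : f i * f i ≤ n := by
  rw [← h]
  exact Finset.single_le_sum (f := fun i => f i * f i) (fun j _ => mul_self_nonneg (f j))
    (Finset.mem_univ i)

theorem bsq_abs_le_one (x : ℤ) (h : x * x ≤ 3) : x = 0 ∨ x = 1 ∨ x = -1 := by
  have h1 : x < 2 := by nlinarith
  have h2 : -2 < x := by nlinarith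
  omega

theorem bsq_sum_three [DecidableEq ι] (o q r : ι) (hoq : o ≠ q) (hor : o ≠ r) (hqr : q ≠ r)
    {M : Type*} [AddCommMonoid M] (f : ι → M) (h : ∀ i, i ≠ o → i ≠ q → i ≠ r → f i = 0) :
    ∑ i, f i = f o + f q + f r := by
  classical
  rw [← Finset.add_sum_erase _ f (Finset.mem_univ o)]
  have hq : q ∈ Finset.univ.erase o := Finset.mem_erase.mpr ⟨Ne.symm hoq, Finset.mem_univ _⟩
  rw [← Finset.add_sum_erase _ f hq]
  have hr : r ∈ (Finset.univ.erase o).erase q :=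
    Finset.mem_erase.mpr ⟨Ne.symm hqr, Finset.mem_erase.mpr ⟨Ne.symm hor, Finset.mem_univ _⟩⟩
  rw [← Finset.add_sum_erase _ f hr]
  rw [Finset.sum_eq_zero, add_zero, add_assoc]
  intro i hi
  obtain ⟨h3, hi⟩ := Finset.mem_erase.mp hi
  obtain ⟨h2, hi⟩ := Finset.mem_erase.mp hi
  obtain ⟨h1, _⟩ := Finset.mem_erase.mp hi
  exact h i h1 h2 h3

open Classical in
theorem bsq_aux2 [DecidableEq ι] (o q A : ι) (hoq : o ≠ q) (hoA : o ≠ A) (hqA : q ≠ A)
    (a : ι → ℤ) (b : Fin 3 → ι → ℤ) (x : ι → ℤ) (σ : ℤ) (d zz : ι → ℂ) (p : Fin 3 → ℂ)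
    (𝔅 : Set ι) (hσ : σ = 1 ∨ σ = -1)
    (hxo : x o = σ) (hxq : x q = 1 ∨ x q = -1) (hxA : x A = 1 ∨ x A = -1)
    (hxsupp : ∀ i, i ≠ o → i ≠ q → i ≠ A → x i = 0)
    (hao : a o = 1) (haA : a A = 0) (haq : a q * x q = σ)
    (hw0 : ∀ i, 2 * x i - σ * a i = 2 * b 0 i - a i)
    (hwn : ∀ k, bsqDot (fun i => 2 * b k i - a i) (fun i => 2 * b k i - a i) = 8)
    (hwo : ∀ l, l ≠ 0 → bsqDot (fun i => 2 * b l i - a i) (fun i => 2 * b 0 i - a i) = 0)
    (hxw : ∀ l, l ≠ 0 → bsqDot x (fun i => 2 * b l i - a i) = 0)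
    (hdo : d o = 1) (hzo : zz o = 1) (hd : ∀ i, d i ≠ 0)
    (hDw : ∀ k, bsqEv (fun i => 2 * b k i - a i) d = 0)
    (hDx : bsqEv x d = 0)
    (hKx : bsqEv x (fun i => zz i ^ 2 / d i) = 0)
    (hBo : o ∈ 𝔅) (hBq : q ∈ 𝔅)
    (hBx : ∑ i, (if i ∈ 𝔅 then 0 else (x i : ℂ) * d i) = 0)
    (hZ : ∀ i ∈ 𝔅, zz i = ∑ k, p k / 2 * ((2 * b k i - a i : ℤ) : ℂ)) :
    zz q = d q := by
  classical
  have hσ2 : σ * σ = 1 := by rcases hσ with h | h <;> rw [h] <;> norm_num
  have hxq2 : x q * x q = 1 := by rcases hxq with h | h <;> rw [h] <;> norm_num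
  have hxA2 : x A * x A = 1 := by rcases hxA with h | h <;> rw [h] <;> norm_num
  have hw0A : 2 * b 0 A - a A = 2 * x A := by
    rw [← hw0 A, haA]; ring
  have hbl : ∀ l, l ≠ 0 → b l A = 0 := by
    intro l hl
    by_contra hne
    set γ := b l A with hγ
    have hγle : (2 * γ - a A) * (2 * γ - a A) ≤ 8 :=
      bsq_sq_le (fun i => 2 * b l i - a i) 8 (hwn l) A
    rw [haA] at hγle
    have hγ2 : γ * γ = 1 := by
      have h1 : γ < 2 := by nlinarith
      have h2 : -2 < γ := by nlinarith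
      have h3 : γ = 1 ∨ γ = -1 := by omega
      rcases h3 with h | h <;> rw [h] <;> norm_num
    set c := x A * γ with hc
    have hc2 : c * c = 1 := by
      rw [hc]
      calc x A * γ * (x A * γ) = (x A * x A) * (γ * γ) := by ring
        _ = 1 := by rw [hxA2, hγ2]; norm_num
    set y : ι → ℤ := fun i => 1 * (2 * b l i - a i) + c * (2 * b 0 i - a i) with hy
    have hyy : bsqDot y y = 16 := by
      rw [hy, bsqDot_lin, bsqDot_lin', bsqDot_lin', hwn l, hwn 0, hwo l hl,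
        bsqDot_comm (fun i => 2 * b 0 i - a i), hwo l hl]
      nlinarith
    have hyA : y A = 4 * γ := by
      show 1 * (2 * b l A - a A) + c * (2 * b 0 A - a A) = 4 * γ
      rw [hw0A, haA, hc, ← hγ]
      calc 1 * (2 * γ - 0) + x A * γ * (2 * x A) = 2 * γ + 2 * γ * (x A * x A) := by ring
        _ = 4 * γ := by rw [hxA2]; ring
    have hyrest : ∀ i, i ≠ A → y i = 0 := by
      intro i hi
      have hsplit : y A * y A + ∑ j ∈ Finset.univ.erase A, y j * y j = 16 :=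
        (Finset.add_sum_erase _ (fun j => y j * y j) (Finset.mem_univ A)).trans hyy
      have hA16 : y A * y A = 16 := by
        rw [hyA]
        calc 4 * γ * (4 * γ) = 16 * (γ * γ) := by ring
          _ = 16 := by rw [hγ2]; norm_num
      have hrest : ∑ j ∈ Finset.univ.erase A, y j * y j = 0 := by omega
      have hmem : i ∈ Finset.univ.erase A := Finset.mem_erase.mpr ⟨hi, Finset.mem_univ _⟩
      have := (Finset.sum_eq_zero_iff_of_nonneg (fun j _ => mul_self_nonneg (y j))).mp hrest i hmem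
      exact mul_self_eq_zero.mp this
    have hEv : bsqEv y d = 0 := by
      rw [hy, bsqEv_lin, hDw l, hDw 0]; simp
    have hEv2 : bsqEv y d = (y A : ℂ) * d A := by
      unfold bsqEv
      refine Finset.sum_eq_single A ?_ ?_
      · intro i _ hi
        rw [hyrest i hi]; simp
      · intro h; exact absurd (Finset.mem_univ A) h
    rw [hEv2, hyA] at hEv
    have hγne : (γ : ℂ) ≠ 0 := by exact_mod_cast hne
    have : ((4 * γ : ℤ) : ℂ) ≠ 0 := by
      push_cast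
      exact mul_ne_zero (by norm_num) hγne
    exact (mul_ne_zero this (hd A)) hEv
  have hBA : A ∈ 𝔅 := by
    by_contra hnA
    have hsum : ∑ i, (if i ∈ 𝔅 then 0 else (x i : ℂ) * d i) = (x A : ℂ) * d A := by
      rw [Finset.sum_eq_single A]
      · rw [if_neg hnA]
      · intro i _ hi
        by_cases hiB : i ∈ 𝔅
        · rw [if_pos hiB]
        · rw [if_neg hiB]
          have hio : i ≠ o := fun h => hiB (h ▸ hBo)
          have hiq : i ≠ q := fun h => hiB (h ▸ hBq)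
          rw [hxsupp i hio hiq hi]; simp
      · intro h; exact absurd (Finset.mem_univ A) h
    rw [hsum] at hBx
    have hxAne : (x A : ℂ) ≠ 0 := by
      rcases hxA with h | h <;> rw [h] <;> norm_num
    exact (mul_ne_zero hxAne (hd A)) hBx
  have hwlA : ∀ l, l ≠ 0 → 2 * b l A - a A = 0 := by
    intro l hl
    rw [hbl l hl, haA]; norm_num
  have hzA : zz A = (x A : ℂ) * p 0 := by
    rw [hZ A hBA, Fin.sum_univ_three, hw0A, hwlA 1 (by decide), hwlA 2 (by decide)]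
    push_cast
    ring
  have haq' : a q = σ * x q := by
    calc a q = a q * (x q * x q) := by rw [hxq2, mul_one]
      _ = (a q * x q) * x q := by ring
      _ = σ * x q := by rw [haq]
  have hw0o : 2 * b 0 o - a o = σ := by
    rw [← hw0 o, hxo, hao]; ring
  have hw0q : 2 * b 0 q - a q = x q := by
    rw [← hw0 q, haq']
    calc 2 * x q - σ * (σ * x q) = 2 * x q - (σ * σ) * x q := by ring
      _ = x q := by rw [hσ2]; ring
  have hxwl : ∀ l, l ≠ 0 → σ * (2 * b l o - a o) + x q * (2 * b l q - a q) = 0 := by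
    intro l hl
    have h := hxw l hl
    unfold bsqDot at h
    rw [bsq_sum_three o q A hoq hoA hqA (fun i => x i * (2 * b l i - a i))
      (fun i h1 h2 h3 => by rw [hxsupp i h1 h2 h3, zero_mul])] at h
    rw [hwlA l hl, mul_zero, add_zero, hxo] at h
    exact h
  have hzq : (σ : ℂ) + (x q : ℂ) * zz q = p 0 := by
    have h1 := hZ o hBo
    have h2 := hZ q hBq
    rw [hzo] at h1
    rw [Fin.sum_univ_three] at h1 h2
    have e1 := hxwl 1 (by decide)
    have e2 := hxwl 2 (by decide)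
    have e1' : (σ : ℂ) * ((2 * b 1 o - a o : ℤ) : ℂ) + (x q : ℂ) * ((2 * b 1 q - a q : ℤ) : ℂ) = 0 := by
      exact_mod_cast e1
    have e2' : (σ : ℂ) * ((2 * b 2 o - a o : ℤ) : ℂ) + (x q : ℂ) * ((2 * b 2 q - a q : ℤ) : ℂ) = 0 := by
      exact_mod_cast e2
    have hσc : (σ : ℂ) * (σ : ℂ) = 1 := by exact_mod_cast hσ2
    have hxc : (x q : ℂ) * (x q : ℂ) = 1 := by exact_mod_cast hxq2
    rw [hw0o] at h1
    rw [hw0q] at h2
    have h1' : (σ : ℂ) = (σ : ℂ) * (σ : ℂ) * (σ : ℂ) := by rw [hσc, one_mul]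
    calc (σ : ℂ) + (x q : ℂ) * zz q
        = (σ : ℂ) * 1 + (x q : ℂ) * zz q := by ring
      _ = (σ : ℂ) * (p 0 / 2 * (σ : ℂ) + p 1 / 2 * ((2 * b 1 o - a o : ℤ) : ℂ) +
            p 2 / 2 * ((2 * b 2 o - a o : ℤ) : ℂ)) +
          (x q : ℂ) * (p 0 / 2 * (x q : ℂ) + p 1 / 2 * ((2 * b 1 q - a q : ℤ) : ℂ) +
            p 2 / 2 * ((2 * b 2 q - a q : ℤ) : ℂ)) := by rw [← h1, ← h2]
      _ = p 0 / 2 * ((σ : ℂ) * (σ : ℂ) + (x q : ℂ) * (x q : ℂ)) +
          p 1 / 2 * ((σ : ℂ) * ((2 * b 1 o - a o : ℤ) : ℂ) + (x q : ℂ) * ((2 * b 1 q - a q : ℤ) : ℂ)) +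
          p 2 / 2 * ((σ : ℂ) * ((2 * b 2 o - a o : ℤ) : ℂ) + (x q : ℂ) * ((2 * b 2 q - a q : ℤ) : ℂ)) := by
            ring
      _ = p 0 := by rw [e1', e2', hσc, hxc]; ring
  have hD : (σ : ℂ) + (x q : ℂ) * d q + (x A : ℂ) * d A = 0 := by
    have h := hDx
    unfold bsqEv at h
    rw [bsq_sum_three o q A hoq hoA hqA (fun i => (x i : ℂ) * d i)
      (fun i h1 h2 h3 => by rw [hxsupp i h1 h2 h3]; simp)] at h
    rw [hxo, hdo, mul_one] at h
    exact h
  have hK : (σ : ℂ) + (x q : ℂ) * (zz q ^ 2 / d q) + (x A : ℂ) * (zz A ^ 2 / d A) = 0 := by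
    have h := hKx
    unfold bsqEv at h
    rw [bsq_sum_three o q A hoq hoA hqA (fun i => (x i : ℂ) * (zz i ^ 2 / d i))
      (fun i h1 h2 h3 => by rw [hxsupp i h1 h2 h3]; simp)] at h
    rw [hxo, hdo, hzo] at h
    simpa using h
  set S : ℂ := (σ : ℂ) with hS
  set X : ℂ := (x q : ℂ) with hX
  set Y : ℂ := (x A : ℂ) with hY
  have hS2 : S * S = 1 := by rw [hS]; exact_mod_cast hσ2
  have hX2 : X * X = 1 := by rw [hX]; exact_mod_cast hxq2
  have hY2 : Y * Y = 1 := by rw [hY]; exact_mod_cast hxA2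
  have hdq := hd q
  have hdA := hd A
  have hzA2 : zz A ^ 2 = p 0 ^ 2 := by
    rw [hzA]
    calc (Y * p 0) ^ 2 = (Y * Y) * p 0 ^ 2 := by ring
      _ = p 0 ^ 2 := by rw [hY2, one_mul]
  rw [hzA2, ← hzq] at hK
  have hdAeq : d A = -(Y * (S + X * d q)) := by
    have : Y * (S + X * d q + Y * d A) = 0 := by rw [hD, mul_zero]
    have h2 : Y * (S + X * d q) + (Y * Y) * d A = 0 := by linear_combination this
    rw [hY2, one_mul] at h2
    linear_combination h2
  have hK2 : (S + X * (zz q ^ 2 / d q)) * d A + Y * (S + X * zz q) ^ 2 = 0 := by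
    have : (S + X * (zz q ^ 2 / d q) + Y * ((S + X * zz q) ^ 2 / d A)) * d A = 0 := by
      rw [hK, zero_mul]
    field_simp at this
    field_simp
    linear_combination this
  rw [hdAeq] at hK2
  have hK3 : Y * ((S + X * zz q) ^ 2 - (S + X * (zz q ^ 2 / d q)) * (S + X * d q)) = 0 := by
    linear_combination hK2
  have hYne : Y ≠ 0 := by
    intro h
    rw [h, mul_zero] at hY2
    exact zero_ne_one hY2
  have hK4 : (S + X * zz q) ^ 2 - (S + X * (zz q ^ 2 / d q)) * (S + X * d q) = 0 :=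
    (mul_eq_zero.mp hK3).resolve_left hYne
  have hK5 : S * X * (2 * zz q - d q - zz q ^ 2 / d q) = 0 := by
    have e : (S + X * zz q) ^ 2 - (S + X * (zz q ^ 2 / d q)) * (S + X * d q) =
        S * S - S * S + (X * X) * zz q ^ 2 - (X * X) * (zz q ^ 2 / d q * d q) +
          S * X * (2 * zz q - d q - zz q ^ 2 / d q) := by ring
    rw [e, hX2, div_mul_cancel₀ _ hdq] at hK4
    linear_combination hK4
  have hSX : S * X ≠ 0 := by
    intro h
    have : (S * X) * (S * X) = 1 := by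
      calc (S * X) * (S * X) = (S * S) * (X * X) := by ring
        _ = 1 := by rw [hS2, hX2, one_mul]
    rw [h, mul_zero] at this
    exact zero_ne_one this
  have hK6 : 2 * zz q - d q - zz q ^ 2 / d q = 0 := (mul_eq_zero.mp hK5).resolve_left hSX
  have hK7 : (zz q - d q) ^ 2 = 0 := by
    have : (2 * zz q - d q - zz q ^ 2 / d q) * d q = 0 := by rw [hK6, zero_mul]
    field_simp at this
    linear_combination -this
  have := pow_eq_zero_iff (n := 2) (by norm_num) |>.mp hK7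
  linear_combination this

theorem bsq_norm_three [DecidableEq ι] (f : ι → ℤ) (h3 : bsqDot f f = 3) (o : ι) (ho : f o ≠ 0) :
    ∃ q r : ι, o ≠ q ∧ o ≠ r ∧ q ≠ r ∧ f q ≠ 0 ∧ f r ≠ 0 ∧
      ∀ i, i ≠ o → i ≠ q → i ≠ r → f i = 0 := by
  classical
  have hval : ∀ i, f i = 0 ∨ f i = 1 ∨ f i = -1 := fun i => bsq_abs_le_one _ (bsq_sq_le f 3 h3 i)
  have hsq : ∀ i, f i ≠ 0 → f i * f i = 1 := by
    intro i hi
    rcases hval i with h | h | h
    · exact absurd h hi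
    · rw [h]; norm_num
    · rw [h]; norm_num
  unfold bsqDot at h3
  have hs1 : f o * f o + ∑ i ∈ Finset.univ.erase o, f i * f i = 3 :=
    (Finset.add_sum_erase _ (fun i => f i * f i) (Finset.mem_univ o)).trans h3
  rw [hsq o ho] at hs1
  have hex : ∃ q ∈ Finset.univ.erase o, f q ≠ 0 := by
    by_contra hcon
    push Not at hcon
    rw [Finset.sum_eq_zero (fun i hi => by rw [hcon i hi, mul_zero])] at hs1
    omega
  obtain ⟨q, hqm, hq⟩ := hex
  have hs2 : f q * f q + ∑ i ∈ (Finset.univ.erase o).erase q, f i * f i =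
      ∑ i ∈ Finset.univ.erase o, f i * f i :=
    Finset.add_sum_erase _ (fun i => f i * f i) hqm
  rw [hsq q hq] at hs2
  have hex2 : ∃ r ∈ (Finset.univ.erase o).erase q, f r ≠ 0 := by
    by_contra hcon
    push Not at hcon
    rw [Finset.sum_eq_zero (fun i hi => by rw [hcon i hi, mul_zero])] at hs2
    omega
  obtain ⟨r, hrm, hr⟩ := hex2
  have hs3 : f r * f r + ∑ i ∈ ((Finset.univ.erase o).erase q).erase r, f i * f i =
      ∑ i ∈ (Finset.univ.erase o).erase q, f i * f i :=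
    Finset.add_sum_erase _ (fun i => f i * f i) hrm
  rw [hsq r hr] at hs3
  have hrest : ∑ i ∈ ((Finset.univ.erase o).erase q).erase r, f i * f i = 0 := by omega
  have hqo : q ≠ o := (Finset.mem_erase.mp hqm).1
  have hrq : r ≠ q := (Finset.mem_erase.mp hrm).1
  have hro : r ≠ o := (Finset.mem_erase.mp (Finset.mem_erase.mp hrm).2).1
  refine ⟨q, r, Ne.symm hqo, Ne.symm hro, Ne.symm hrq, hq, hr, ?_⟩
  intro i h1 h2 h3'
  have hmem : i ∈ ((Finset.univ.erase o).erase q).erase r :=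
    Finset.mem_erase.mpr ⟨h3', Finset.mem_erase.mpr ⟨h2, Finset.mem_erase.mpr ⟨h1, Finset.mem_univ _⟩⟩⟩
  have := (Finset.sum_eq_zero_iff_of_nonneg (fun i _ => mul_self_nonneg (f i))).mp hrest i hmem
  exact mul_self_eq_zero.mp this

open Classical in
theorem bsq_aux1 [DecidableEq ι] (o : ι)
    (a : ι → ℤ) (b : Fin 3 → ι → ℤ) (x : ι → ℤ) (σ : ℤ) (d zz : ι → ℂ) (p : Fin 3 → ℂ)
    (𝔅 : Set ι) (hσ : σ = 1 ∨ σ = -1)
    (hxx : bsqDot x x = 3) (hxo : x o = σ)
    (haval : ∀ i, a i = 0 ∨ a i = 1 ∨ a i = -1) (hax : bsqDot a x = 2 * σ)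
    (hao : a o = 1)
    (hw0 : ∀ i, 2 * x i - σ * a i = 2 * b 0 i - a i)
    (hwn : ∀ k, bsqDot (fun i => 2 * b k i - a i) (fun i => 2 * b k i - a i) = 8)
    (hwo : ∀ l, l ≠ 0 → bsqDot (fun i => 2 * b l i - a i) (fun i => 2 * b 0 i - a i) = 0)
    (hxw : ∀ l, l ≠ 0 → bsqDot x (fun i => 2 * b l i - a i) = 0)
    (hdo : d o = 1) (hzo : zz o = 1) (hd : ∀ i, d i ≠ 0)
    (hDw : ∀ k, bsqEv (fun i => 2 * b k i - a i) d = 0)
    (hDx : bsqEv x d = 0)
    (hKx : bsqEv x (fun i => zz i ^ 2 / d i) = 0)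
    (hB1 : ∀ i, a i ≠ 0 → i ∈ 𝔅)
    (hBx : ∑ i, (if i ∈ 𝔅 then 0 else (x i : ℂ) * d i) = 0)
    (hZ : ∀ i ∈ 𝔅, zz i = ∑ k, p k / 2 * ((2 * b k i - a i : ℤ) : ℂ)) :
    ∃ q, q ≠ o ∧ a q ≠ 0 ∧ zz q = d q := by
  have hxo0 : x o ≠ 0 := by
    rw [hxo]; rcases hσ with h | h <;> rw [h] <;> norm_num
  obtain ⟨q, r, hoq, hor, hqr, hq, hr, hsupp⟩ := bsq_norm_three x hxx o hxo0
  have hxval : ∀ i, x i ≠ 0 → x i = 1 ∨ x i = -1 := by
    intro i hi
    rcases bsq_abs_le_one _ (bsq_sq_le x 3 hxx i) with h | h | h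
    · exact absurd h hi
    · exact Or.inl h
    · exact Or.inr h
  have hxq := hxval q hq
  have hxr := hxval r hr
  have hsum : a o * x o + a q * x q + a r * x r = 2 * σ := by
    have h := hax
    unfold bsqDot at h
    rw [bsq_sum_three o q r hoq hor hqr (fun i => a i * x i)
      (fun i h1 h2 h3 => by rw [hsupp i h1 h2 h3, mul_zero])] at h
    exact h
  rw [hao, hxo, one_mul] at hsum
  have hBo : o ∈ 𝔅 := hB1 o (by rw [hao]; norm_num)
  have hcases : (a q * x q = σ ∧ a r = 0) ∨ (a r * x r = σ ∧ a q = 0) := by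
    rcases haval q with h1 | h1 | h1 <;> rcases haval r with h2 | h2 | h2 <;>
      rcases hxq with h3 | h3 <;> rcases hxr with h4 | h4 <;> rcases hσ with h5 | h5 <;>
      rw [h1, h2, h3, h4, h5] at hsum <;> rw [h1, h2, h3, h4, h5] <;> omega
  rcases hcases with ⟨h1, h2⟩ | ⟨h1, h2⟩
  · have haq0 : a q ≠ 0 := by
      intro h; rw [h, zero_mul] at h1
      rcases hσ with h5 | h5 <;> rw [h5] at h1 <;> omega
    refine ⟨q, Ne.symm hoq, haq0, ?_⟩
    exact bsq_aux2 o q r hoq hor hqr a b x σ d zz p 𝔅 hσ hxo hxq hxr hsupp hao h2 h1 hw0 hwn hwo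
      hxw hdo hzo hd hDw hDx hKx hBo (hB1 q haq0) hBx hZ
  · have har0 : a r ≠ 0 := by
      intro h; rw [h, zero_mul] at h1
      rcases hσ with h5 | h5 <;> rw [h5] at h1 <;> omega
    refine ⟨r, Ne.symm hor, har0, ?_⟩
    exact bsq_aux2 o r q hor hoq (Ne.symm hqr) a b x σ d zz p 𝔅 hσ hxo hxr hxq
      (fun i h1 h2 h3 => hsupp i h1 h3 h2) hao h2 h1 hw0 hwn hwo
      hxw hdo hzo hd hDw hDx hKx hBo (hB1 r har0) hBx hZ

open Classical in
theorem bsq_core [DecidableEq ι] (o : ι) (a : ι → ℤ) (b : Fin 3 → ι → ℤ) (d zz : ι → ℂ)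
    (p : Fin 3 → ℂ) (𝔅 : Set ι)
    (ha4 : bsqDot a a = 4) (hao : a o = 1)
    (hb3 : ∀ k, bsqDot (b k) (b k) = 3) (hab : ∀ k, bsqDot a (b k) = 2)
    (hbb : ∀ k l, k ≠ l → bsqDot (b k) (b l) = 1)
    (hdo : d o = 1) (hzo : zz o = 1) (hd : ∀ i, d i ≠ 0)
    (hDa : bsqEv a d = 0) (hDb : ∀ k, bsqEv (b k) d = 0)
    (hKa : bsqEv a (fun i => zz i ^ 2 / d i) = 0)
    (hKb : ∀ k, bsqEv (b k) (fun i => zz i ^ 2 / d i) = 0)
    (hB1 : ∀ i, a i ≠ 0 → i ∈ 𝔅)
    (hB2 : ∑ i, (if i ∈ 𝔅 then 0 else (b 0 i : ℂ) * d i) = 0)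
    (hZ : ∀ i ∈ 𝔅, zz i = ∑ k, p k / 2 * ((2 * b k i - a i : ℤ) : ℂ)) :
    ∃ q, q ≠ o ∧ a q ≠ 0 ∧ zz q = d q := by
  have haval : ∀ i, a i = 0 ∨ a i = 1 ∨ a i = -1 := by
    intro i
    by_cases hio : i = o
    · rw [hio, hao]; exact Or.inr (Or.inl rfl)
    · have h4 := ha4
      unfold bsqDot at h4
      have hs1 : a o * a o + ∑ j ∈ Finset.univ.erase o, a j * a j = 4 :=
        (Finset.add_sum_erase _ (fun j => a j * a j) (Finset.mem_univ o)).trans h4
      rw [hao] at hs1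
      have hmem : i ∈ Finset.univ.erase o := Finset.mem_erase.mpr ⟨hio, Finset.mem_univ _⟩
      have hle : a i * a i ≤ ∑ j ∈ Finset.univ.erase o, a j * a j :=
        Finset.single_le_sum (f := fun j => a j * a j) (fun j _ => mul_self_nonneg (a j)) hmem
      exact bsq_abs_le_one _ (by omega)
  have hba : ∀ k, bsqDot (b k) a = 2 := fun k => by rw [bsqDot_comm]; exact hab k
  have hwform : ∀ k, (fun i => 2 * b k i - a i) = (fun i => 2 * b k i + (-1) * a i) := by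
    intro k; funext i; ring
  have hwn : ∀ k, bsqDot (fun i => 2 * b k i - a i) (fun i => 2 * b k i - a i) = 8 := by
    intro k
    rw [hwform, bsqDot_lin, bsqDot_lin', bsqDot_lin', hb3, hba, hab, ha4]
    norm_num
  have hwo : ∀ l, l ≠ 0 → bsqDot (fun i => 2 * b l i - a i) (fun i => 2 * b 0 i - a i) = 0 := by
    intro l hl
    rw [hwform, hwform, bsqDot_lin, bsqDot_lin', bsqDot_lin', hbb l 0 hl, hba, hab, ha4]
    norm_num
  have hDw : ∀ k, bsqEv (fun i => 2 * b k i - a i) d = 0 := by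
    intro k
    rw [hwform, bsqEv_lin, hDb, hDa]; simp
  have hb0w : ∀ l, l ≠ 0 → bsqDot (b 0) (fun i => 2 * b l i - a i) = 0 := by
    intro l hl
    rw [hwform, bsqDot_lin', hbb 0 l (Ne.symm hl), hba]; norm_num
  have haw : ∀ l, bsqDot a (fun i => 2 * b l i - a i) = 0 := by
    intro l
    rw [hwform, bsqDot_lin', hab, ha4]; norm_num
  set b' : ι → ℤ := fun i => 1 * b 0 i + (-1) * a i with hb'
  have hb'3 : bsqDot b' b' = 3 := by
    rw [hb', bsqDot_lin, bsqDot_lin', bsqDot_lin', hb3, hba, hab, ha4]; norm_num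
  have hv0 := bsq_abs_le_one _ (bsq_sq_le (b 0) 3 (hb3 0) o)
  have hv1 := bsq_abs_le_one _ (bsq_sq_le b' 3 hb'3 o)
  have hb'o : b' o = b 0 o - 1 := by
    show 1 * b 0 o + (-1) * a o = b 0 o - 1
    rw [hao]; ring
  rw [hb'o] at hv1
  have hcase : b 0 o = 1 ∨ b 0 o = 0 := by omega
  rcases hcase with hc | hc
  · refine bsq_aux1 o a b (b 0) 1 d zz p 𝔅 (Or.inl rfl) (hb3 0) hc haval (by rw [hab]; norm_num)
      hao (fun i => by ring) hwn hwo hb0w hdo hzo hd hDw (hDb 0) (hKb 0) hB1 hB2 hZ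
  · refine bsq_aux1 o a b b' (-1) d zz p 𝔅 (Or.inr rfl) hb'3 (by rw [hb'o, hc]; norm_num) haval
      (by rw [hb', bsqDot_lin', hab, ha4]; norm_num) hao
      (fun i => by show 2 * (1 * b 0 i + (-1) * a i) - (-1) * a i = 2 * b 0 i - a i; ring)
      hwn hwo ?_ hdo hzo hd hDw ?_ ?_ hB1 ?_ hZ
    · intro l hl
      rw [hb', bsqDot_lin, hb0w l hl, haw]; norm_num
    · rw [hb', bsqEv_lin, hDb, hDa]; simp
    · rw [hb', bsqEv_lin, hKb, hKa]; simp
    · refine Eq.trans (Finset.sum_congr rfl fun i _ => ?_) hB2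
      by_cases hi : i ∈ 𝔅
      · rw [if_pos hi, if_pos hi]
      · rw [if_neg hi, if_neg hi]
        have hai : a i = 0 := by
          by_contra h; exact hi (hB1 i h)
        show ((1 * b 0 i + (-1) * a i : ℤ) : ℂ) * d i = _
        rw [hai]; push_cast; ring

end BSQCore

end Cfsg.Agent.Lib.Helper24
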