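import Mathlib
import Cfsg.Prelude.Def_Characters
import Cfsg.Agent.Lib.Helper24.BSQCore
import Cfsg.Agent.Lib.Helper11.VirtChar
import Cfsg.Agent.Lib.Helper25.CharLinear
import Cfsg.Agent.Lib.Helper25.CharOrth

set_option autoImplicit false
open scoped ComplexConjugate

namespace Cfsg.Agent.Lib.Helper24

open Cfsg.Agent.Lib.Helper11 Cfsg.Agent.Lib.Helper25

section BSQEnd
variable {G : Type*} [Group G] [Fintype G]

theorem bsq_inner_expand [Fintype (Cfsg.IrrCharacter G)] (f g : G → ℂ)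
    (hf : ∀ x h : G, f (h * x * h⁻¹) = f x) :
    Cfsg.classInner f g = ∑ μ : Cfsg.IrrCharacter G,
      Cfsg.classInner f (μ : G → ℂ) * conj (Cfsg.classInner g (μ : G → ℂ)) := by
  have hexp := classFunction_expansion f hf
  have h1 := congrArg (fun F => Cfsg.classInner F g) hexp
  rw [h1, classInner_sum_left]
  refine Finset.sum_congr rfl fun μ _ => ?_
  rw [classInner_smul_left, Cfsg.Agent.Lib.Helper25.classInner_conj_symm g (μ : G → ℂ)]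

theorem bsq_eval_expand [Fintype (Cfsg.IrrCharacter G)] (f : G → ℂ)
    (hf : ∀ x h : G, f (h * x * h⁻¹) = f x) (x : G) :
    f x = ∑ μ : Cfsg.IrrCharacter G, Cfsg.classInner f (μ : G → ℂ) * (μ : G → ℂ) x := by
  have hexp := classFunction_expansion f hf
  have h1 := congrFun hexp x
  rw [h1, Finset.sum_apply]
  refine Finset.sum_congr rfl fun μ _ => ?_
  simp

theorem bsq_K_expand [Fintype (Cfsg.IrrCharacter G)] (f : G → ℂ)
    (hf : ∀ x h : G, f (h * x * h⁻¹) = f x) (z : G)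
    (hv : ∀ y : G, f (y * z * y⁻¹ * z) = 0) :
    ∑ μ : Cfsg.IrrCharacter G, Cfsg.classInner f (μ : G → ℂ) *
      ((μ : G → ℂ) z ^ 2 / (μ : G → ℂ) 1) = 0 := by
  have hne : (Nat.card G : ℂ) ≠ 0 := by exact_mod_cast (Nat.card_pos (α := G)).ne'
  have h0 : ∑ y : G, f (y * z * y⁻¹ * z) = 0 := Finset.sum_eq_zero fun y _ => hv y
  have h1 : ∑ y : G, f (y * z * y⁻¹ * z) =
      ∑ μ : Cfsg.IrrCharacter G, Cfsg.classInner f (μ : G → ℂ) *
        ((Nat.card G : ℂ) * (μ : G → ℂ) z * (μ : G → ℂ) z / (μ : G → ℂ) 1) := by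
    simp_rw [bsq_eval_expand f hf]
    rw [Finset.sum_comm]
    refine Finset.sum_congr rfl fun μ _ => ?_
    rw [← Finset.mul_sum, irr_sum_conj_mul]
  rw [h0] at h1
  have h2 : (Nat.card G : ℂ) * ∑ μ : Cfsg.IrrCharacter G, Cfsg.classInner f (μ : G → ℂ) *
      ((μ : G → ℂ) z ^ 2 / (μ : G → ℂ) 1) = 0 := by
    rw [h1, Finset.mul_sum]
    refine Finset.sum_congr rfl fun μ _ => ?_
    ring
  exact (mul_eq_zero.mp h2).resolve_left hne

open Classical in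
theorem bsq_endgame [Fintype (Cfsg.IrrCharacter G)] (z : G) (Θ : G → ℂ) (Ξ : Fin 3 → G → ℂ) (p : Fin 3 → ℂ)
    (𝔅 : Set (Cfsg.IrrCharacter G))
    (hΘ : Cfsg.IsGeneralizedCharacter G Θ) (hΞ : ∀ k, Cfsg.IsGeneralizedCharacter G (Ξ k))
    (hΘΘ : Cfsg.classInner Θ Θ = 4) (hΘ1 : Cfsg.classInner Θ (fun _ => (1 : ℂ)) = 1)
    (hΞΞ : ∀ k, Cfsg.classInner (Ξ k) (Ξ k) = 3) (hΘΞ : ∀ k, Cfsg.classInner Θ (Ξ k) = 2)
    (hΞkl : ∀ k l, k ≠ l → Cfsg.classInner (Ξ k) (Ξ l) = 1)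
    (hΘ0 : Θ 1 = 0) (hΞ0 : ∀ k, Ξ k 1 = 0)
    (hΘz : ∀ y : G, Θ (y * z * y⁻¹ * z) = 0) (hΞz : ∀ k, ∀ y : G, Ξ k (y * z * y⁻¹ * z) = 0)
    (hΘB : ∀ χ : Cfsg.IrrCharacter G, Cfsg.classInner Θ (χ : G → ℂ) ≠ 0 → χ ∈ 𝔅)
    (hΞB : (∑ χ : Cfsg.IrrCharacter G, if χ ∈ 𝔅 then 0 else
      Cfsg.classInner (Ξ 0) (χ : G → ℂ) * (χ : G → ℂ) 1) = 0)
    (hZ : ∀ χ ∈ 𝔅, (χ : G → ℂ) z = ∑ k, p k / 2 *
      (2 * Cfsg.classInner (Ξ k) (χ : G → ℂ) - Cfsg.classInner Θ (χ : G → ℂ))) :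
    ∃ χ : Cfsg.IrrCharacter G, χ ≠ trivIrr G ∧ (χ : G → ℂ) z = (χ : G → ℂ) 1 := by
  have hΘcl := genChar_classFunction Θ hΘ
  have hΞcl := fun k => genChar_classFunction (Ξ k) (hΞ k)
  choose a ha using fun η => genChar_inner_int Θ hΘ η
  choose b hb using fun k => fun η => genChar_inner_int (Ξ k) (hΞ k) η
  have hdot : ∀ (f g : G → ℂ) (u v : Cfsg.IrrCharacter G → ℤ)
      (hf : ∀ x h : G, f (h * x * h⁻¹) = f x)
      (hu : ∀ η : Cfsg.IrrCharacter G, Cfsg.classInner f (η : G → ℂ) = (u η : ℂ))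
      (hv : ∀ η : Cfsg.IrrCharacter G, Cfsg.classInner g (η : G → ℂ) = (v η : ℂ)) (n : ℤ),
      Cfsg.classInner f g = (n : ℂ) → bsqDot u v = n := by
    intro f g u v hf hu hv n hn
    rw [bsq_inner_expand f g hf] at hn
    simp only [hu, hv, map_intCast] at hn
    unfold bsqDot
    have : ((∑ i, u i * v i : ℤ) : ℂ) = (n : ℂ) := by
      rw [← hn]; push_cast; rfl
    exact_mod_cast this
  have hev : ∀ (f : G → ℂ) (u : Cfsg.IrrCharacter G → ℤ)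
      (hf : ∀ x h : G, f (h * x * h⁻¹) = f x)
      (hu : ∀ η : Cfsg.IrrCharacter G, Cfsg.classInner f (η : G → ℂ) = (u η : ℂ)), f 1 = 0 →
      bsqEv u (fun η => (η : G → ℂ) 1) = 0 := by
    intro f u hf hu h0
    rw [bsq_eval_expand f hf 1] at h0
    simp only [hu] at h0
    exact h0
  have hK : ∀ (f : G → ℂ) (u : Cfsg.IrrCharacter G → ℤ)
      (hf : ∀ x h : G, f (h * x * h⁻¹) = f x)
      (hu : ∀ η : Cfsg.IrrCharacter G, Cfsg.classInner f (η : G → ℂ) = (u η : ℂ)),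
      (∀ y : G, f (y * z * y⁻¹ * z) = 0) →
      bsqEv u (fun η => (η : G → ℂ) z ^ 2 / (η : G → ℂ) 1) = 0 := by
    intro f u hf hu hv
    have := bsq_K_expand f hf z hv
    simp only [hu] at this
    exact this
  have hao : a (trivIrr G) = 1 := by
    have h := ha (trivIrr G)
    have h1 : ((trivIrr G : Cfsg.IrrCharacter G) : G → ℂ) = fun _ => (1 : ℂ) := rfl
    rw [h1, hΘ1] at h
    exact_mod_cast h.symm
  obtain ⟨q, hq1, hq2, hq3⟩ := bsq_core (trivIrr G) a b (fun η => (η : G → ℂ) 1)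
    (fun η => (η : G → ℂ) z) p 𝔅
    (hdot Θ Θ a a hΘcl ha ha 4 (by rw [hΘΘ]; norm_num)) hao
    (fun k => hdot (Ξ k) (Ξ k) (b k) (b k) (hΞcl k) (hb k) (hb k) 3 (by rw [hΞΞ]; norm_num))
    (fun k => hdot Θ (Ξ k) a (b k) hΘcl ha (hb k) 2 (by rw [hΘΞ]; norm_num))
    (fun k l hkl => hdot (Ξ k) (Ξ l) (b k) (b l) (hΞcl k) (hb k) (hb l) 1
      (by rw [hΞkl k l hkl]; norm_num))
    rfl rfl (fun η => irr_one_ne_zero η)
    (hev Θ a hΘcl ha hΘ0) (fun k => hev (Ξ k) (b k) (hΞcl k) (hb k) (hΞ0 k))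
    (hK Θ a hΘcl ha hΘz) (fun k => hK (Ξ k) (b k) (hΞcl k) (hb k) (hΞz k))
    (fun η hη => hΘB η (by rw [ha η]; exact_mod_cast hη))
    (by
      refine Eq.trans (Finset.sum_congr rfl fun η _ => ?_) hΞB
      rw [hb 0 η])
    (fun η hη => by
      rw [hZ η hη]
      refine Finset.sum_congr rfl fun k _ => ?_
      rw [hb k η, ha η]; push_cast; ring)
  exact ⟨q, hq1, hq3⟩

end BSQEnd

end Cfsg.Agent.Lib.Helper24
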