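import Mathlib
import Cfsg.Prelude.Def_Characters
import Cfsg.Agent.Lib.Helper11.VirtChar
import Cfsg.Agent.Lib.Helper25.CharLinear
import Cfsg.Agent.Lib.Helper25.CharOrth
import Cfsg.Agent.Lib.Helper24.BSQEnd

set_option autoImplicit false
open scoped ComplexConjugate

namespace Cfsg.Agent.Lib.Helper24

open Cfsg.Agent.Lib.Helper11 Cfsg.Agent.Lib.Helper25

section BSQC6
variable {C : Type*} [Group C] [Fintype C]

open Classical in
noncomputable def bsqOdd (a : C → ℂ) : C → ℂ := fun c => if Odd (orderOf c) then a c else 0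

open Classical in
theorem bsqOdd_apply (a : C → ℂ) (c : C) :
    bsqOdd a c = if Odd (orderOf c) then a c else 0 := rfl

theorem bsqOdd_classFunction (a : C → ℂ) (ha : ∀ x h : C, a (h * x * h⁻¹) = a x) :
    ∀ x h : C, bsqOdd a (h * x * h⁻¹) = bsqOdd a x := by
  intro x h
  have : orderOf (h * x * h⁻¹) = orderOf x := by
    have := MulEquiv.orderOf_eq (MulAut.conj h) x
    rwa [MulAut.conj_apply] at this
  unfold bsqOdd
  rw [this, ha]

open Classical in
theorem bsqOdd_inner (a b : C → ℂ) :
    Cfsg.classInner (bsqOdd a) b =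
      (Nat.card C : ℂ)⁻¹ * ∑ c : C, if Odd (orderOf c) then a c * conj (b c) else 0 := by
  unfold Cfsg.classInner bsqOdd
  congr 1
  refine Finset.sum_congr rfl fun c _ => ?_
  split_ifs <;> simp

open Classical in
theorem bsqOdd_inner_odd (a b : C → ℂ) :
    Cfsg.classInner (bsqOdd a) (bsqOdd b) = Cfsg.classInner (bsqOdd a) b := by
  rw [bsqOdd_inner, bsqOdd_inner]
  congr 1
  refine Finset.sum_congr rfl fun c _ => ?_
  unfold bsqOdd
  split_ifs <;> simp

open Classical in
theorem bsq_inner_split (z : C)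
    (hsplit : ∀ F : C → ℂ, ∑ c : C, F c =
      (∑ c : C, if Odd (orderOf c) then F c + F (z * c) else 0) +
        ∑ c : C, if 4 ∣ orderOf c then F c else 0) (a b : C → ℂ) :
    Cfsg.classInner a b = (Nat.card C : ℂ)⁻¹ *
      ((∑ c : C, if Odd (orderOf c) then a c * conj (b c) + a (z * c) * conj (b (z * c)) else 0) +
        ∑ c : C, if 4 ∣ orderOf c then a c * conj (b c) else 0) := by
  unfold Cfsg.classInner
  rw [hsplit (fun c => a c * conj (b c))]

end BSQC6

end Cfsg.Agent.Lib.Helper24
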