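import Mathlib
import Cfsg.Prelude.Def_Characters
import Cfsg.Agent.Lib.Helper11.VirtChar
import Cfsg.Agent.Lib.Helper25.CharLinear
import Cfsg.Agent.Lib.Helper25.CharOrth
import Cfsg.Agent.Lib.Helper24.BSQEnd
import Cfsg.Agent.Lib.Helper24.BSQC6

set_option autoImplicit false
open scoped ComplexConjugate

namespace Cfsg.Agent.Lib.Helper24

open Cfsg.Agent.Lib.Helper11 Cfsg.Agent.Lib.Helper25

section BSQC7
variable {C : Type*} [Group C] [Fintype C] [Fintype (Cfsg.IrrCharacter C)]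

open Classical in
structure BsqHyp (z : C) (𝔹 : Finset (Cfsg.IrrCharacter C)) (ψ : Fin 4 → Cfsg.IrrCharacter C)
    (s : Fin 4 → ℤ) : Prop where
  split : ∀ F : C → ℂ, ∑ c : C, F c =
      (∑ c : C, if Odd (orderOf c) then F c + F (z * c) else 0) +
        ∑ c : C, if 4 ∣ orderOf c then F c else 0
  ex4 : ∃ u : C, 4 ∣ orderOf u
  ψinj : Function.Injective ψ
  ψmem : ∀ j, ψ j ∈ 𝔹
  ψ0 : ψ 0 = trivIrr C
  s0 : s 0 = 1
  ssq : ∀ j, s j * s j = 1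
  ψz : ∀ j c, (ψ j : C → ℂ) (z * c) = (ψ j : C → ℂ) c
  Fz : ∀ χ ∈ 𝔹, (∀ j, χ ≠ ψ j) → ∀ c, (χ : C → ℂ) (z * c) = - (χ : C → ℂ) c
  ψ4 : ∀ j c, 4 ∣ orderOf c → (ψ j : C → ℂ) c = (s j : ℂ)
  F4 : ∀ χ ∈ 𝔹, (∀ j, χ ≠ ψ j) → ∀ c, 4 ∣ orderOf c → (χ : C → ℂ) c = 0
  rel : ∀ c, Odd (orderOf c) → ∑ j, (s j : ℂ) * (ψ j : C → ℂ) c = 0
  span : ∀ θ ∈ 𝔹, ∀ μ : Cfsg.IrrCharacter C, μ ∉ 𝔹 →
    Cfsg.classInner (bsqOdd (θ : C → ℂ)) (μ : C → ℂ) = 0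
  int : ∀ θ : Cfsg.IrrCharacter C,
    Cfsg.IsGeneralizedCharacter C (fun c => 8 * bsqOdd (θ : C → ℂ) c)

variable {z : C} {𝔹 : Finset (Cfsg.IrrCharacter C)} {ψ : Fin 4 → Cfsg.IrrCharacter C}
  {s : Fin 4 → ℤ}

theorem bsq_odd_not_four (c : C) (h : Odd (orderOf c)) : ¬ 4 ∣ orderOf c := by
  rintro ⟨k, hk⟩
  rw [hk] at h
  exact (Nat.not_even_iff_odd.mpr h) ⟨2 * k, by ring⟩

open Classical in
noncomputable def bsqNu (C : Type*) [Group C] [Fintype C] : ℂ :=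
  (Nat.card C : ℂ)⁻¹ * ∑ c : C, if 4 ∣ orderOf c then (1 : ℂ) else 0

theorem BsqHyp.scast (h : BsqHyp z 𝔹 ψ s) (j : Fin 4) : (s j : ℂ) * (s j : ℂ) = 1 := by
  exact_mod_cast h.ssq j

theorem BsqHyp.sconj (j : Fin 4) : conj ((s j : ℤ) : ℂ) = ((s j : ℤ) : ℂ) := by
  simp

open Classical in
theorem BsqHyp.inner_FF (h : BsqHyp z 𝔹 ψ s) (χ χ' : Cfsg.IrrCharacter C) (hχ : χ ∈ 𝔹)
    (hχ' : χ' ∈ 𝔹) (hn : ∀ j, χ ≠ ψ j) (hn' : ∀ j, χ' ≠ ψ j) :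
    Cfsg.classInner (χ : C → ℂ) (χ' : C → ℂ) =
      2 * Cfsg.classInner (bsqOdd (χ : C → ℂ)) (χ' : C → ℂ) := by
  rw [bsq_inner_split z h.split, bsqOdd_inner]
  have h2 : (∑ c : C, if 4 ∣ orderOf c then (χ : C → ℂ) c * conj ((χ' : C → ℂ) c) else 0) = 0 := by
    refine Finset.sum_eq_zero fun c _ => ?_
    split_ifs with h4
    · rw [h.F4 χ hχ hn c h4, zero_mul]
    · rfl
  rw [h2, add_zero]
  have h1 : (∑ c : C, if Odd (orderOf c) then (χ : C → ℂ) c * conj ((χ' : C → ℂ) c) +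
      (χ : C → ℂ) (z * c) * conj ((χ' : C → ℂ) (z * c)) else 0) =
      2 * ∑ c : C, if Odd (orderOf c) then (χ : C → ℂ) c * conj ((χ' : C → ℂ) c) else 0 := by
    rw [Finset.mul_sum]
    refine Finset.sum_congr rfl fun c _ => ?_
    split_ifs
    · rw [h.Fz χ hχ hn, h.Fz χ' hχ' hn', map_neg]; ring
    · simp
  rw [h1]; ring

open Classical in
theorem BsqHyp.inner_ψψ (h : BsqHyp z 𝔹 ψ s) (j j' : Fin 4) :
    Cfsg.classInner (ψ j : C → ℂ) (ψ j' : C → ℂ) =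
      2 * Cfsg.classInner (bsqOdd (ψ j : C → ℂ)) (ψ j' : C → ℂ) +
        bsqNu C * ((s j : ℂ) * (s j' : ℂ)) := by
  rw [bsq_inner_split z h.split, bsqOdd_inner]
  have h2 : (∑ c : C, if 4 ∣ orderOf c then (ψ j : C → ℂ) c * conj ((ψ j' : C → ℂ) c) else 0) =
      (∑ c : C, if 4 ∣ orderOf c then (1 : ℂ) else 0) * ((s j : ℂ) * (s j' : ℂ)) := by
    rw [Finset.sum_mul]
    refine Finset.sum_congr rfl fun c _ => ?_
    split_ifs with h4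
    · rw [h.ψ4 j c h4, h.ψ4 j' c h4]; simp
    · simp
  have h1 : (∑ c : C, if Odd (orderOf c) then (ψ j : C → ℂ) c * conj ((ψ j' : C → ℂ) c) +
      (ψ j : C → ℂ) (z * c) * conj ((ψ j' : C → ℂ) (z * c)) else 0) =
      2 * ∑ c : C, if Odd (orderOf c) then (ψ j : C → ℂ) c * conj ((ψ j' : C → ℂ) c) else 0 := by
    rw [Finset.mul_sum]
    refine Finset.sum_congr rfl fun c _ => ?_
    split_ifs
    · rw [h.ψz, h.ψz]; ring
    · simp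
  rw [h1, h2]
  unfold bsqNu
  ring

theorem BsqHyp.ψ_orth (h : BsqHyp z 𝔹 ψ s) (j j' : Fin 4) :
    Cfsg.classInner (ψ j : C → ℂ) (ψ j' : C → ℂ) = if j = j' then 1 else 0 := by
  rw [irr_classInner]
  by_cases hjj : j = j'
  · rw [if_pos hjj, if_pos (by rw [hjj])]
  · rw [if_neg hjj, if_neg (fun he => hjj (h.ψinj he))]

end BSQC7

end Cfsg.Agent.Lib.Helper24
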