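import Mathlib
import Cfsg.Prelude.Def_Characters
import Cfsg.Agent.Lib.Helper11.VirtChar
import Cfsg.Agent.Lib.Helper25.CharLinear
import Cfsg.Agent.Lib.Helper25.CharOrth
import Cfsg.Agent.Lib.Helper24.BSQEnd
import Cfsg.Agent.Lib.Helper24.BSQC6
import Cfsg.Agent.Lib.Helper24.BSQC7

set_option autoImplicit false
open scoped ComplexConjugate

namespace Cfsg.Agent.Lib.Helper24

open Cfsg.Agent.Lib.Helper11 Cfsg.Agent.Lib.Helper25


theorem bsq_int_four (a b c d : ℤ) (h1 : a * a + b * b + c * c + d * d = 16)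
    (h2 : a + b + c + d = 0) :
    (a = 2 ∨ a = -2) ∧ (b = 2 ∨ b = -2) ∧ (c = 2 ∨ c = -2) ∧ (d = 2 ∨ d = -2) := by
  have ha : -4 ≤ a ∧ a ≤ 4 := by
    constructor <;> nlinarith [mul_self_nonneg b, mul_self_nonneg c, mul_self_nonneg d]
  have hb : -4 ≤ b ∧ b ≤ 4 := by
    constructor <;> nlinarith [mul_self_nonneg a, mul_self_nonneg c, mul_self_nonneg d]
  have hc : -4 ≤ c ∧ c ≤ 4 := by
    constructor <;> nlinarith [mul_self_nonneg a, mul_self_nonneg b, mul_self_nonneg d]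
  obtain ⟨ha1, ha2⟩ := ha
  obtain ⟨hb1, hb2⟩ := hb
  obtain ⟨hc1, hc2⟩ := hc
  obtain rfl : d = -a - b - c := by omega
  interval_cases a <;> interval_cases b <;> interval_cases c <;> omega

theorem bsq_pm_of_sq (x : ℤ) (h : x * x = 1) : x = 1 ∨ x = -1 := by
  have h1 : (x - 1) * (x + 1) = 0 := by ring_nf; linarith
  rcases mul_eq_zero.mp h1 with h2 | h2
  · left; omega
  · right; omega

theorem bsq_int_tau (n s : Fin 4 → ℤ) (hs : ∀ j, s j * s j = 1)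
    (h1 : ∑ j, n j * n j = 16) (h2 : ∑ j, s j * n j = 0) :
    ∃ τ : Fin 4 → ℤ, (∀ j, τ j * τ j = 1) ∧ (∀ j, n j = 2 * τ j) ∧ ∑ j, s j * τ j = 0 := by
  rw [Fin.sum_univ_four] at h1 h2
  have hsq : ∀ j, (s j * n j) * (s j * n j) = n j * n j := by
    intro j
    have := hs j
    calc (s j * n j) * (s j * n j) = (s j * s j) * (n j * n j) := by ring
      _ = n j * n j := by rw [this, one_mul]
  have key := bsq_int_four (s 0 * n 0) (s 1 * n 1) (s 2 * n 2) (s 3 * n 3)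
    (by rw [hsq, hsq, hsq, hsq]; exact h1) h2
  have hn : ∀ j, n j = 2 ∨ n j = -2 := by
    intro j
    have hj : s j * n j = 2 ∨ s j * n j = -2 := by
      fin_cases j
      · exact key.1
      · exact key.2.1
      · exact key.2.2.1
      · exact key.2.2.2
    rcases bsq_pm_of_sq _ (hs j) with h | h <;> rw [h] at hj <;> omega
  refine ⟨fun j => if n j = 2 then 1 else -1, ?_, ?_, ?_⟩
  · intro j
    by_cases h : n j = 2 <;> simp [h]
  · intro j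
    rcases hn j with h | h <;> simp [h]
  · have hτ : ∀ j, n j = 2 * (if n j = 2 then (1 : ℤ) else -1) := by
      intro j
      rcases hn j with h | h <;> simp [h]
    rw [Fin.sum_univ_four]
    beta_reduce
    have e0 := hτ 0
    have e1 := hτ 1
    have e2 := hτ 2
    have e3 := hτ 3
    generalize (if n 0 = 2 then (1 : ℤ) else -1) = t0 at *
    generalize (if n 1 = 2 then (1 : ℤ) else -1) = t1 at *
    generalize (if n 2 = 2 then (1 : ℤ) else -1) = t2 at *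
    generalize (if n 3 = 2 then (1 : ℤ) else -1) = t3 at *
    rw [e0, e1, e2, e3] at h2
    have : 2 * (s 0 * t0 + s 1 * t1 + s 2 * t2 + s 3 * t3) = 0 := by linarith
    omega


section BSQC8
variable {C : Type*} [Group C] [Fintype C] [Fintype (Cfsg.IrrCharacter C)]
variable {z : C} {𝔹 : Finset (Cfsg.IrrCharacter C)} {ψ : Fin 4 → Cfsg.IrrCharacter C}
  {s : Fin 4 → ℤ}

open Classical in
theorem BsqHyp.rel_inner (h : BsqHyp z 𝔹 ψ s) (b : C → ℂ) :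
    ∑ j, (s j : ℂ) * Cfsg.classInner (bsqOdd (ψ j : C → ℂ)) b = 0 := by
  simp_rw [bsqOdd_inner]
  have : ∀ j, (s j : ℂ) * ((Nat.card C : ℂ)⁻¹ *
      ∑ c : C, if Odd (orderOf c) then (ψ j : C → ℂ) c * conj (b c) else 0) =
      (Nat.card C : ℂ)⁻¹ * ∑ c : C, if Odd (orderOf c) then
        ((s j : ℂ) * (ψ j : C → ℂ) c) * conj (b c) else 0 := by
    intro j
    rw [mul_left_comm, Finset.mul_sum]
    congr 1
    refine Finset.sum_congr rfl fun c _ => ?_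
    split_ifs
    · ring
    · simp
  simp_rw [this]
  rw [← Finset.mul_sum, Finset.sum_comm]
  have h0 : ∀ c : C, (∑ j, if Odd (orderOf c) then
        ((s j : ℂ) * (ψ j : C → ℂ) c) * conj (b c) else 0) = 0 := by
    intro c
    by_cases hc : Odd (orderOf c)
    · simp only [if_pos hc]
      rw [← Finset.sum_mul, h.rel c hc, zero_mul]
    · simp only [if_neg hc]
      simp
  simp_rw [h0]
  simp

theorem BsqHyp.nu (h : BsqHyp z 𝔹 ψ s) : bsqNu C = 1 / 4 := by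
  have h1 : ∑ j, (s j : ℂ) * Cfsg.classInner (ψ j : C → ℂ) (ψ 0 : C → ℂ) = 1 := by
    simp_rw [h.ψ_orth]
    rw [Fin.sum_univ_four]
    simp [h.s0]
  have h2 : ∑ j, (s j : ℂ) * Cfsg.classInner (ψ j : C → ℂ) (ψ 0 : C → ℂ) =
      2 * ∑ j, (s j : ℂ) * Cfsg.classInner (bsqOdd (ψ j : C → ℂ)) (ψ 0 : C → ℂ) +
        bsqNu C * ∑ j, (s j : ℂ) * (s j : ℂ) := by
    rw [Finset.mul_sum, Finset.mul_sum, ← Finset.sum_add_distrib]
    refine Finset.sum_congr rfl fun j _ => ?_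
    rw [h.inner_ψψ j 0, h.s0]
    push_cast
    ring
  rw [h.rel_inner, h1] at h2
  simp_rw [h.scast] at h2
  simp at h2
  linear_combination (-(1:ℂ)/4) * h2

theorem BsqHyp.oi_ψψ (h : BsqHyp z 𝔹 ψ s) (j j' : Fin 4) :
    Cfsg.classInner (bsqOdd (ψ j : C → ℂ)) (ψ j' : C → ℂ) =
      ((if j = j' then (1 : ℂ) else 0) - (s j : ℂ) * (s j' : ℂ) / 4) / 2 := by
  have h1 := h.inner_ψψ j j'
  rw [h.ψ_orth, h.nu] at h1
  linear_combination (-(1:ℂ)/2) * h1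

theorem BsqHyp.oi_FF (h : BsqHyp z 𝔹 ψ s) (χ χ' : Cfsg.IrrCharacter C) (hχ : χ ∈ 𝔹)
    (hχ' : χ' ∈ 𝔹) (hn : ∀ j, χ ≠ ψ j) (hn' : ∀ j, χ' ≠ ψ j) :
    Cfsg.classInner (bsqOdd (χ : C → ℂ)) (χ' : C → ℂ) = if χ = χ' then 1 / 2 else 0 := by
  have h1 := h.inner_FF χ χ' hχ hχ' hn hn'
  rw [irr_classInner] at h1
  split_ifs at h1 ⊢ with he
  · linear_combination (-(1:ℂ)/2) * h1
  · linear_combination (-(1:ℂ)/2) * h1

omit [Fintype (Cfsg.IrrCharacter C)] in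
theorem bsqOdd_inner_conj (a b : C → ℂ) :
    conj (Cfsg.classInner (bsqOdd a) b) = Cfsg.classInner (bsqOdd b) a := by
  classical
  rw [bsqOdd_inner, bsqOdd_inner, map_mul, map_sum]
  congr 1
  · simp
  · refine Finset.sum_congr rfl fun c _ => ?_
    split_ifs
    · simp [mul_comm]
    · simp

theorem BsqHyp.expand (h : BsqHyp z 𝔹 ψ s) (θ : Cfsg.IrrCharacter C) (hθ : θ ∈ 𝔹) (c : C) :
    bsqOdd (θ : C → ℂ) c = ∑ μ ∈ 𝔹, Cfsg.classInner (bsqOdd (θ : C → ℂ)) (μ : C → ℂ) *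
      (μ : C → ℂ) c := by
  have h1 := bsq_eval_expand (bsqOdd (θ : C → ℂ))
    (bsqOdd_classFunction _ (fun x g => irr_conj_invariant θ x g)) c
  rw [h1]
  symm
  refine Finset.sum_subset (Finset.subset_univ _) fun μ _ hμ => ?_
  rw [h.span θ hθ μ hμ, zero_mul]

theorem BsqHyp.parseval (h : BsqHyp z 𝔹 ψ s) (θ θ' : Cfsg.IrrCharacter C) (hθ : θ ∈ 𝔹) :
    Cfsg.classInner (bsqOdd (θ : C → ℂ)) (θ' : C → ℂ) =
      ∑ μ ∈ 𝔹, Cfsg.classInner (bsqOdd (θ : C → ℂ)) (μ : C → ℂ) *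
        conj (Cfsg.classInner (bsqOdd (θ' : C → ℂ)) (μ : C → ℂ)) := by
  rw [← bsqOdd_inner_odd, bsq_inner_expand (bsqOdd (θ : C → ℂ)) (bsqOdd (θ' : C → ℂ))
    (bsqOdd_classFunction _ (fun x g => irr_conj_invariant θ x g))]
  symm
  refine Finset.sum_subset (Finset.subset_univ _) fun μ _ hμ => ?_
  rw [h.span θ hθ μ hμ, zero_mul]

open Classical in
noncomputable def bsqF (𝔹 : Finset (Cfsg.IrrCharacter C)) (ψ : Fin 4 → Cfsg.IrrCharacter C) :
    Finset (Cfsg.IrrCharacter C) := 𝔹.filter (fun χ => ∀ j, χ ≠ ψ j)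

theorem bsqF_mem (χ : Cfsg.IrrCharacter C) : χ ∈ bsqF 𝔹 ψ ↔ χ ∈ 𝔹 ∧ ∀ j, χ ≠ ψ j := by
  classical
  unfold bsqF
  rw [Finset.mem_filter]

theorem BsqHyp.sum_split {M : Type*} [AddCommMonoid M] (h : BsqHyp z 𝔹 ψ s)
    (f : Cfsg.IrrCharacter C → M) :
    ∑ μ ∈ 𝔹, f μ = ∑ j, f (ψ j) + ∑ χ ∈ bsqF 𝔹 ψ, f χ := by
  classical
  have h1 : 𝔹 = Finset.image ψ Finset.univ ∪ bsqF 𝔹 ψ := by
    ext μ
    rw [Finset.mem_union, Finset.mem_image, bsqF_mem]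
    constructor
    · intro hμ
      by_cases hex : ∃ j, ψ j = μ
      · obtain ⟨j, hj⟩ := hex
        exact Or.inl ⟨j, Finset.mem_univ _, hj⟩
      · push Not at hex
        exact Or.inr ⟨hμ, fun j he => hex j he.symm⟩
    · rintro (⟨j, _, rfl⟩ | ⟨hμ, _⟩)
      · exact h.ψmem j
      · exact hμ
  have hd : Disjoint (Finset.image ψ Finset.univ) (bsqF 𝔹 ψ) := by
    rw [Finset.disjoint_left]
    rintro μ hμ hμ'
    rw [Finset.mem_image] at hμ
    obtain ⟨j, _, rfl⟩ := hμ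
    exact ((bsqF_mem _).mp hμ').2 j rfl
  conv_lhs => rw [h1]
  rw [Finset.sum_union hd, Finset.sum_image (fun a _ b _ hab => h.ψinj hab)]

theorem BsqHyp.int_inner (h : BsqHyp z 𝔹 ψ s) (θ μ : Cfsg.IrrCharacter C) :
    ∃ n : ℤ, 8 * Cfsg.classInner (bsqOdd (θ : C → ℂ)) (μ : C → ℂ) = (n : ℂ) := by
  obtain ⟨n, hn⟩ := genChar_inner_int _ (h.int θ) μ
  refine ⟨n, ?_⟩
  rw [← hn, ← classInner_smul_left]
  rfl

theorem BsqHyp.F_tau (h : BsqHyp z 𝔹 ψ s) (χ : Cfsg.IrrCharacter C) (hχ : χ ∈ bsqF 𝔹 ψ) :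
    ∃ τ : Fin 4 → ℤ, (∀ j, τ j * τ j = 1) ∧ (∑ j, s j * τ j = 0) ∧
      ∀ j, Cfsg.classInner (bsqOdd (χ : C → ℂ)) (ψ j : C → ℂ) = (τ j : ℂ) / 4 := by
  classical
  obtain ⟨hχB, hχn⟩ := (bsqF_mem χ).mp hχ
  have hint : ∀ j, ∃ n : ℤ, 8 * Cfsg.classInner (bsqOdd (χ : C → ℂ)) (ψ j : C → ℂ) = (n : ℂ) :=
    fun j => h.int_inner χ (ψ j)
  choose n hn using hint
  have hβ : ∀ j, Cfsg.classInner (bsqOdd (χ : C → ℂ)) (ψ j : C → ℂ) = (n j : ℂ) / 8 := by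
    intro j
    have := hn j
    linear_combination (1 / 8 : ℂ) * this
  have hFsum : ∀ g : Cfsg.IrrCharacter C → ℂ,
      ∑ χ' ∈ bsqF 𝔹 ψ, Cfsg.classInner (bsqOdd (χ : C → ℂ)) (χ' : C → ℂ) * g χ' =
        1 / 2 * g χ := by
    intro g
    have : ∀ χ' ∈ bsqF 𝔹 ψ, Cfsg.classInner (bsqOdd (χ : C → ℂ)) (χ' : C → ℂ) * g χ' =
        if χ = χ' then 1 / 2 * g χ' else 0 := by
      intro χ' hχ'
      obtain ⟨hB', hn'⟩ := (bsqF_mem χ').mp hχ'
      rw [h.oi_FF χ χ' hχB hB' hχn hn']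
      split_ifs <;> simp
    rw [Finset.sum_congr rfl this, Finset.sum_ite_eq, if_pos hχ]
  have hP := h.parseval χ χ hχB
  rw [h.oi_FF χ χ hχB hχB hχn hχn, if_pos rfl, h.sum_split, hFsum,
    h.oi_FF χ χ hχB hχB hχn hχn, if_pos rfl] at hP
  simp_rw [hβ] at hP
  have h1 : ∑ j, n j * n j = 16 := by
    have : ((∑ j, n j * n j : ℤ) : ℂ) = 16 := by
      push_cast
      have e : ∀ j, (n j : ℂ) * (n j : ℂ) = 64 * ((n j : ℂ) / 8 * conj ((n j : ℂ) / 8)) := by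
        intro j
        simp only [map_div₀, Complex.conj_ofNat, map_intCast]
        ring
      simp_rw [e]
      rw [← Finset.mul_sum]
      have hc : conj ((1 : ℂ) / 2) = 1 / 2 := by
        simp only [map_div₀, Complex.conj_ofNat, map_one]
      rw [hc] at hP
      linear_combination (-64 : ℂ) * hP
    exact_mod_cast this
  obtain ⟨u, hu⟩ := h.ex4
  have hE := h.expand χ hχB u
  rw [bsqOdd_apply, if_neg (fun ho => bsq_odd_not_four u ho hu), h.sum_split, hFsum,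
    h.F4 χ hχB hχn u hu] at hE
  simp_rw [hβ, h.ψ4 _ u hu] at hE
  have h2 : ∑ j, s j * n j = 0 := by
    have : ((∑ j, s j * n j : ℤ) : ℂ) = 0 := by
      push_cast
      have e : ∀ j, (s j : ℂ) * (n j : ℂ) = 8 * ((n j : ℂ) / 8 * (s j : ℂ)) := by
        intro j; ring
      simp_rw [e]
      rw [← Finset.mul_sum]
      linear_combination (-8 : ℂ) * hE
    exact_mod_cast this
  obtain ⟨τ, hτ1, hτ2, hτ3⟩ := bsq_int_tau n s h.ssq h1 h2
  refine ⟨τ, hτ1, hτ3, fun j => ?_⟩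
  rw [hβ, hτ2]
  push_cast
  ring

end BSQC8

end Cfsg.Agent.Lib.Helper24
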