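import Mathlib
import Cfsg.Prelude.Def_Characters
import Cfsg.Agent.Lib.Helper11.VirtChar
import Cfsg.Agent.Lib.Helper25.CharLinear
import Cfsg.Agent.Lib.Helper25.CharOrth
import Cfsg.Agent.Lib.Helper24.BSQEnd
import Cfsg.Agent.Lib.Helper24.BSQC6
import Cfsg.Agent.Lib.Helper24.BSQC7
import Cfsg.Agent.Lib.Helper24.BSQC8

set_option autoImplicit false
open scoped ComplexConjugate

namespace Cfsg.Agent.Lib.Helper24

open Cfsg.Agent.Lib.Helper11 Cfsg.Agent.Lib.Helper25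

theorem bsq_type_int (s τ : Fin 4 → ℤ) (hs : ∀ j, s j * s j = 1) (hτ : ∀ j, τ j * τ j = 1)
    (hs0 : s 0 = 1) (horth : ∑ j, s j * τ j = 0) (i : Fin 4) (hi : i ≠ 0)
    (hi' : τ 0 * τ i = s i) :
    ∀ j, τ j = (if j = 0 ∨ j = i then 1 else -1) * τ 0 * s j := by
  rw [Fin.sum_univ_four] at horth
  have a1 := bsq_pm_of_sq _ (hs 1)
  have a2 := bsq_pm_of_sq _ (hs 2)
  have a3 := bsq_pm_of_sq _ (hs 3)
  have b0 := bsq_pm_of_sq _ (hτ 0)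
  have b1 := bsq_pm_of_sq _ (hτ 1)
  have b2 := bsq_pm_of_sq _ (hτ 2)
  have b3 := bsq_pm_of_sq _ (hτ 3)
  intro j
  fin_cases i
  · exact absurd rfl hi
  all_goals
    fin_cases j <;> simp only [Fin.isValue, Fin.zero_eta, Fin.mk_one, Fin.reduceFinMk,
      Fin.reduceEq, or_self, or_true, or_false, if_true, if_false] at hi' ⊢ <;>
    rcases a1 with a1 | a1 <;> rcases a2 with a2 | a2 <;> rcases a3 with a3 | a3 <;>
    rcases b0 with b0 | b0 <;>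
    simp only [hs0, a1, a2, a3, b0] at horth hi' ⊢ <;> omega

section BSQC9
variable {C : Type*} [Group C] [Fintype C] [Fintype (Cfsg.IrrCharacter C)]
variable {z : C} {𝔹 : Finset (Cfsg.IrrCharacter C)} {ψ : Fin 4 → Cfsg.IrrCharacter C}
  {s : Fin 4 → ℤ}

theorem BsqHyp.F_odd (h : BsqHyp z 𝔹 ψ s) (χ : Cfsg.IrrCharacter C) (hχ : χ ∈ bsqF 𝔹 ψ)
    (τ : Fin 4 → ℤ)
    (hτ : ∀ j, Cfsg.classInner (bsqOdd (χ : C → ℂ)) (ψ j : C → ℂ) = (τ j : ℂ) / 4)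
    (c : C) (hc : Odd (orderOf c)) :
    (χ : C → ℂ) c = 1 / 2 * ∑ j, (τ j : ℂ) * (ψ j : C → ℂ) c := by
  classical
  obtain ⟨hχB, hχn⟩ := (bsqF_mem χ).mp hχ
  have hE := h.expand χ hχB c
  rw [bsqOdd_apply, if_pos hc, h.sum_split] at hE
  have hF : ∑ χ' ∈ bsqF 𝔹 ψ, Cfsg.classInner (bsqOdd (χ : C → ℂ)) (χ' : C → ℂ) *
      (χ' : C → ℂ) c = 1 / 2 * (χ : C → ℂ) c := by
    have : ∀ χ' ∈ bsqF 𝔹 ψ, Cfsg.classInner (bsqOdd (χ : C → ℂ)) (χ' : C → ℂ) *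
        (χ' : C → ℂ) c = if χ = χ' then 1 / 2 * (χ' : C → ℂ) c else 0 := by
      intro χ' hχ'
      obtain ⟨hB', hn'⟩ := (bsqF_mem χ').mp hχ'
      rw [h.oi_FF χ χ' hχB hB' hχn hn']
      split_ifs <;> simp
    rw [Finset.sum_congr rfl this, Finset.sum_ite_eq, if_pos hχ]
  rw [hF] at hE
  simp_rw [hτ] at hE
  rw [Finset.mul_sum]
  have e : ∀ j, (1 : ℂ) / 2 * ((τ j : ℂ) * (ψ j : C → ℂ) c) =
      2 * ((τ j : ℂ) / 4 * (ψ j : C → ℂ) c) := by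
    intro j; ring
  simp_rw [e]
  rw [← Finset.mul_sum]
  linear_combination 2 * hE

theorem BsqHyp.exists_tau (h : BsqHyp z 𝔹 ψ s) :
    ∃ τ : Cfsg.IrrCharacter C → Fin 4 → ℤ, ∀ χ ∈ bsqF 𝔹 ψ,
      (∀ j, τ χ j * τ χ j = 1) ∧ (∑ j, s j * τ χ j = 0) ∧
      ∀ j, Cfsg.classInner (bsqOdd (χ : C → ℂ)) (ψ j : C → ℂ) = (τ χ j : ℂ) / 4 := by
  classical
  have : ∀ χ : Cfsg.IrrCharacter C, ∃ τ : Fin 4 → ℤ, χ ∈ bsqF 𝔹 ψ →
      ((∀ j, τ j * τ j = 1) ∧ (∑ j, s j * τ j = 0) ∧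
      ∀ j, Cfsg.classInner (bsqOdd (χ : C → ℂ)) (ψ j : C → ℂ) = (τ j : ℂ) / 4) := by
    intro χ
    by_cases hχ : χ ∈ bsqF 𝔹 ψ
    · obtain ⟨τ, hτ⟩ := h.F_tau χ hχ
      exact ⟨τ, fun _ => hτ⟩
    · exact ⟨fun _ => 0, fun hc => absurd hc hχ⟩
  choose τ hτ using this
  exact ⟨τ, hτ⟩

theorem BsqHyp.col_orth (h : BsqHyp z 𝔹 ψ s) (τ : Cfsg.IrrCharacter C → Fin 4 → ℤ)
    (hτ : ∀ χ ∈ bsqF 𝔹 ψ, (∀ j, τ χ j * τ χ j = 1) ∧ (∑ j, s j * τ χ j = 0) ∧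
      ∀ j, Cfsg.classInner (bsqOdd (χ : C → ℂ)) (ψ j : C → ℂ) = (τ χ j : ℂ) / 4)
    (j' : Fin 4) :
    ∑ χ ∈ bsqF 𝔹 ψ, τ χ 0 * τ χ j' = (if j' = 0 then 4 else 0) - s j' := by
  classical
  have hP := h.parseval (ψ 0) (ψ j') (h.ψmem 0)
  rw [h.sum_split] at hP
  have hF : ∑ χ ∈ bsqF 𝔹 ψ, Cfsg.classInner (bsqOdd (ψ 0 : C → ℂ)) (χ : C → ℂ) *
      conj (Cfsg.classInner (bsqOdd (ψ j' : C → ℂ)) (χ : C → ℂ)) =
      ((∑ χ ∈ bsqF 𝔹 ψ, τ χ 0 * τ χ j' : ℤ) : ℂ) / 16 := by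
    push_cast
    rw [Finset.sum_div]
    refine Finset.sum_congr rfl fun χ hχ => ?_
    rw [bsqOdd_inner_conj, ← bsqOdd_inner_conj (χ : C → ℂ) (ψ 0 : C → ℂ), (hτ χ hχ).2.2,
      (hτ χ hχ).2.2]
    simp only [map_div₀, Complex.conj_ofNat, map_intCast]
    ring
  rw [hF] at hP
  simp_rw [h.oi_ψψ] at hP
  rw [Fin.sum_univ_four] at hP
  have a1 := bsq_pm_of_sq _ (h.ssq 1)
  have a2 := bsq_pm_of_sq _ (h.ssq 2)
  have a3 := bsq_pm_of_sq _ (h.ssq 3)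
  have : ((∑ χ ∈ bsqF 𝔹 ψ, τ χ 0 * τ χ j' : ℤ) : ℂ) =
      (((if j' = 0 then 4 else 0) - s j' : ℤ) : ℂ) := by
    generalize ((∑ χ ∈ bsqF 𝔹 ψ, τ χ 0 * τ χ j' : ℤ) : ℂ) = X at hP ⊢
    fin_cases j' <;>
    rcases a1 with a1 | a1 <;> rcases a2 with a2 | a2 <;> rcases a3 with a3 | a3 <;>
    simp only [Fin.isValue, Fin.zero_eta, Fin.mk_one, Fin.reduceFinMk, Fin.reduceEq,
      if_true, if_false, h.s0, a1, a2, a3, map_div₀, map_sub, map_mul, map_one, map_zero,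
      Complex.conj_ofNat, Int.cast_one, Int.cast_neg, map_neg, Int.cast_sub, Int.cast_ofNat,
      Int.cast_zero] at hP ⊢ <;>
    linear_combination (-16 : ℂ) * hP
  exact_mod_cast this

theorem BsqHyp.card_F (h : BsqHyp z 𝔹 ψ s) : (bsqF 𝔹 ψ).card = 3 := by
  obtain ⟨τ, hτ⟩ := h.exists_tau
  have h0 := h.col_orth τ hτ 0
  rw [if_pos rfl, h.s0] at h0
  have h1 : ∑ χ ∈ bsqF 𝔹 ψ, τ χ 0 * τ χ 0 = ∑ χ ∈ bsqF 𝔹 ψ, (1 : ℤ) :=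
    Finset.sum_congr rfl fun χ hχ => (hτ χ hχ).1 0
  rw [h1, Finset.sum_const, nsmul_eq_mul, mul_one] at h0
  omega

theorem BsqHyp.exists_type (h : BsqHyp z 𝔹 ψ s) (τ : Cfsg.IrrCharacter C → Fin 4 → ℤ)
    (hτ : ∀ χ ∈ bsqF 𝔹 ψ, (∀ j, τ χ j * τ χ j = 1) ∧ (∑ j, s j * τ χ j = 0) ∧
      ∀ j, Cfsg.classInner (bsqOdd (χ : C → ℂ)) (ψ j : C → ℂ) = (τ χ j : ℂ) / 4)
    (i : Fin 4) (hi : i ≠ 0) :
    ∃ χ ∈ bsqF 𝔹 ψ, τ χ 0 * τ χ i = s i := by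
  by_contra hcon
  push Not at hcon
  have h0 := h.col_orth τ hτ i
  rw [if_neg hi] at h0
  have h1 : ∑ χ ∈ bsqF 𝔹 ψ, τ χ 0 * τ χ i = ∑ χ ∈ bsqF 𝔹 ψ, (- s i) := by
    refine Finset.sum_congr rfl fun χ hχ => ?_
    have hne := hcon χ hχ
    have a := bsq_pm_of_sq _ (h.ssq i)
    have b0 := bsq_pm_of_sq _ ((hτ χ hχ).1 0)
    have bi := bsq_pm_of_sq _ ((hτ χ hχ).1 i)
    rcases a with a | a <;> rcases b0 with b0 | b0 <;> rcases bi with bi | bi <;>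
      rw [a, b0, bi] at hne ⊢ <;> first | rfl | exact absurd rfl hne
  rw [h1, Finset.sum_const, h.card_F, nsmul_eq_mul] at h0
  push_cast at h0
  have a := bsq_pm_of_sq _ (h.ssq i)
  rcases a with a | a <;> rw [a] at h0 <;> omega

theorem BsqHyp.type_formula (h : BsqHyp z 𝔹 ψ s) (χ : Cfsg.IrrCharacter C)
    (hχ : χ ∈ bsqF 𝔹 ψ) (τ : Fin 4 → ℤ) (hτ1 : ∀ j, τ j * τ j = 1)
    (hτ2 : ∑ j, s j * τ j = 0)
    (hτ3 : ∀ j, Cfsg.classInner (bsqOdd (χ : C → ℂ)) (ψ j : C → ℂ) = (τ j : ℂ) / 4)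
    (i : Fin 4) (hi : i ≠ 0) (hi' : τ 0 * τ i = s i) (c : C) (hc : Odd (orderOf c)) :
    (χ : C → ℂ) c = (τ 0 : ℂ) * ((ψ 0 : C → ℂ) c + (s i : ℂ) * (ψ i : C → ℂ) c) := by
  have hJ := h.F_odd χ hχ τ hτ3 c hc
  have hT := bsq_type_int s τ h.ssq hτ1 h.s0 hτ2 i hi hi'
  have hR := h.rel c hc
  rw [Fin.sum_univ_four] at hJ hR
  have e0 : (s 0 : ℂ) = 1 := by exact_mod_cast h.s0
  have e1 : (τ 1 : ℂ) = (((if (1 : Fin 4) = 0 ∨ (1 : Fin 4) = i then 1 else -1) * τ 0 * s 1 : ℤ) : ℂ) := by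
    rw [← hT 1]
  have e2 : (τ 2 : ℂ) = (((if (2 : Fin 4) = 0 ∨ (2 : Fin 4) = i then 1 else -1) * τ 0 * s 2 : ℤ) : ℂ) := by
    rw [← hT 2]
  have e3 : (τ 3 : ℂ) = (((if (3 : Fin 4) = 0 ∨ (3 : Fin 4) = i then 1 else -1) * τ 0 * s 3 : ℤ) : ℂ) := by
    rw [← hT 3]
  rw [hJ, e1, e2, e3]
  rw [e0] at hR
  fin_cases i
  · exact absurd rfl hi
  all_goals
    simp only [Fin.isValue, Fin.mk_one, Fin.reduceFinMk, Fin.reduceEq, or_self,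
      or_true, if_true, if_false]
    push_cast
    linear_combination (-(τ 0 : ℂ) / 2) * hR

theorem BsqHyp.main (h : BsqHyp z 𝔹 ψ s) :
    ∃ (χ : Fin 4 → Cfsg.IrrCharacter C) (κ : Fin 4 → ℤ),
      (∀ i, i ≠ 0 → χ i ∈ 𝔹 ∧ (∀ j, χ i ≠ ψ j) ∧ κ i * κ i = 1 ∧
        ∀ c, Odd (orderOf c) → (χ i : C → ℂ) c =
          (κ i : ℂ) * ((ψ 0 : C → ℂ) c + (s i : ℂ) * (ψ i : C → ℂ) c)) ∧
      (∀ i i', i ≠ 0 → i' ≠ 0 → χ i = χ i' → i = i') ∧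
      (∀ θ ∈ 𝔹, (∃ j, θ = ψ j) ∨ ∃ i, i ≠ 0 ∧ θ = χ i) := by
  classical
  obtain ⟨τ, hτ⟩ := h.exists_tau
  have hex : ∀ i : Fin 4, ∃ χ : Cfsg.IrrCharacter C, i ≠ 0 →
      (χ ∈ bsqF 𝔹 ψ ∧ τ χ 0 * τ χ i = s i) := by
    intro i
    by_cases hi : i = 0
    · exact ⟨ψ 0, fun hc => absurd hi hc⟩
    · obtain ⟨χ, hχ, hχi⟩ := h.exists_type τ hτ i hi
      exact ⟨χ, fun _ => ⟨hχ, hχi⟩⟩
  choose χ hχ using hex
  have hinj : ∀ i i', i ≠ 0 → i' ≠ 0 → χ i = χ i' → i = i' := by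
    intro i i' hi hi' he
    by_contra hne
    have hF := (hχ i hi).1
    have hT := bsq_type_int s (τ (χ i)) h.ssq (hτ _ hF).1 h.s0 (hτ _ hF).2.1 i hi (hχ i hi).2 i'
    rw [if_neg (by
      rintro (h0 | h0)
      · exact hi' h0
      · exact hne h0.symm)] at hT
    have h2 := (hχ i' hi').2
    rw [← he] at h2
    rw [hT] at h2
    have a := bsq_pm_of_sq _ (h.ssq i')
    have b0 := (hτ _ hF).1 0
    have : τ (χ i) 0 * (-1 * τ (χ i) 0 * s i') = - (τ (χ i) 0 * τ (χ i) 0) * s i' := by ring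
    rw [this, b0] at h2
    rcases a with a | a <;> rw [a] at h2 <;> omega
  refine ⟨χ, fun i => τ (χ i) 0, ?_, hinj, ?_⟩
  · intro i hi
    obtain ⟨hF, hT⟩ := hχ i hi
    obtain ⟨hB, hn⟩ := (bsqF_mem _).mp hF
    refine ⟨hB, hn, (hτ _ hF).1 0, fun c hc => ?_⟩
    exact h.type_formula (χ i) hF (τ (χ i)) (hτ _ hF).1 (hτ _ hF).2.1 (hτ _ hF).2.2 i hi hT c hc
  · intro θ hθ
    by_cases hex : ∃ j, θ = ψ j
    · exact Or.inl hex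
    · right
      push Not at hex
      have hθF : θ ∈ bsqF 𝔹 ψ := (bsqF_mem _).mpr ⟨hθ, hex⟩
      set S : Finset (Fin 4) := {1, 2, 3} with hS
      have hS0 : ∀ i ∈ S, i ≠ 0 := by
        intro i hi
        rw [hS] at hi
        simp only [Finset.mem_insert, Finset.mem_singleton] at hi
        rcases hi with rfl | rfl | rfl <;> decide
      have hsub : S.image χ ⊆ bsqF 𝔹 ψ := by
        intro μ hμ
        rw [Finset.mem_image] at hμ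
        obtain ⟨i, hi, rfl⟩ := hμ
        exact (hχ i (hS0 i hi)).1
      have hcard : (S.image χ).card = 3 := by
        rw [Finset.card_image_of_injOn]
        · rfl
        · intro i hi i' hi' he
          exact hinj i i' (hS0 i hi) (hS0 i' hi') he
      have heq : S.image χ = bsqF 𝔹 ψ :=
        Finset.eq_of_subset_of_card_le hsub (by rw [hcard, h.card_F])
      rw [← heq, Finset.mem_image] at hθF
      obtain ⟨i, hi, rfl⟩ := hθF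
      exact ⟨i, hS0 i hi, rfl⟩

end BSQC9

end Cfsg.Agent.Lib.Helper24
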