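import Cfsg.Agent.Lib.Helper24.PRegGen2
import Cfsg.Agent.Lib.Helper25.BlockRankTrace

set_option autoImplicit false
open scoped ComplexConjugate

namespace Cfsg.Agent.Lib.Helper24

open Cfsg.Agent.Lib.helper2 Cfsg.Agent.Lib.helper7 Cfsg.Agent.Lib.Helper11 Cfsg.Agent.Lib.Helper25

section bo

variable {G : Type*} [Group G] [Fintype G]

theorem bo_sum_irr (χ ψ : Cfsg.IrrCharacter G) [Decidable (χ = ψ)] :
    ∑ y : G, (χ : G → ℂ) y * conj ((ψ : G → ℂ) y) = if χ = ψ then (Nat.card G : ℂ) else 0 := by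
  have h := irr_classInner χ ψ
  unfold Cfsg.classInner at h
  have hG : (Nat.card G : ℂ) ≠ 0 := by exact_mod_cast Nat.card_pos.ne'
  have h2 : ∑ y : G, (χ : G → ℂ) y * conj ((ψ : G → ℂ) y) =
      (Nat.card G : ℂ) * ((Nat.card G : ℂ)⁻¹ * ∑ y : G, (χ : G → ℂ) y * conj ((ψ : G → ℂ) y)) := by
    rw [← mul_assoc, mul_inv_cancel₀ hG, one_mul]
  rw [h2, h]
  split_ifs <;> simp

theorem bo_row_abs [Fintype (Cfsg.IrrCharacter G)] (p : ℕ) (B : Set (Cfsg.IrrCharacter G))
    [DecidablePred (· ∈ B)]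
    (hcol : ∀ x y : G, ¬ p ∣ orderOf x → p ∣ orderOf y →
      ∑ χ' : Cfsg.IrrCharacter G,
        (if χ' ∈ B then (χ' : G → ℂ) x * conj ((χ' : G → ℂ) y) else 0) = 0)
    (χ ψ : Cfsg.IrrCharacter G) (hχ : χ ∈ B) (hψ : ψ ∉ B) :
    ∑ y : G, (if p ∣ orderOf y then 0 else (χ : G → ℂ) y * conj ((ψ : G → ℂ) y)) = 0 := by
  classical
  set A : Cfsg.IrrCharacter G → ℂ := fun χ' =>
    ∑ y : G, (if p ∣ orderOf y then 0 else (χ' : G → ℂ) y * conj ((ψ : G → ℂ) y)) with hA
  have hkey : ∀ x : G, ¬ p ∣ orderOf x →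
      ∑ χ' : Cfsg.IrrCharacter G, (if χ' ∈ B then conj ((χ' : G → ℂ) x) * A χ' else 0) = 0 := by
    intro x hx
    have h1 : ∑ y : G, (∑ χ' : Cfsg.IrrCharacter G,
        (if χ' ∈ B then conj ((χ' : G → ℂ) x) * (χ' : G → ℂ) y else 0)) * conj ((ψ : G → ℂ) y) = 0 := by
      simp only [Finset.sum_mul]
      rw [Finset.sum_comm]
      apply Finset.sum_eq_zero
      intro χ' _
      by_cases hχ' : χ' ∈ B
      · simp only [hχ', if_true]
        have h2 : ∑ y : G, conj ((χ' : G → ℂ) x) * (χ' : G → ℂ) y * conj ((ψ : G → ℂ) y) =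
            conj ((χ' : G → ℂ) x) * ∑ y : G, (χ' : G → ℂ) y * conj ((ψ : G → ℂ) y) := by
          rw [Finset.mul_sum]
          refine Finset.sum_congr rfl fun y _ => ?_
          ring
        rw [h2, bo_sum_irr]
        have hne : χ' ≠ ψ := by
          intro h
          rw [h] at hχ'
          exact hψ hχ'
        rw [if_neg hne, mul_zero]
      · simp [hχ']
    have h3 : ∀ y : G, (∑ χ' : Cfsg.IrrCharacter G,
        (if χ' ∈ B then conj ((χ' : G → ℂ) x) * (χ' : G → ℂ) y else 0)) * conj ((ψ : G → ℂ) y) =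
        ∑ χ' : Cfsg.IrrCharacter G, (if χ' ∈ B then conj ((χ' : G → ℂ) x) *
          (if p ∣ orderOf y then 0 else (χ' : G → ℂ) y * conj ((ψ : G → ℂ) y)) else 0) := by
      intro y
      by_cases hy : p ∣ orderOf y
      · have h5 : ∑ χ' : Cfsg.IrrCharacter G,
            (if χ' ∈ B then conj ((χ' : G → ℂ) x) * (χ' : G → ℂ) y else 0) = 0 := by
          have h6 := congrArg conj (hcol x y hx hy)
          rw [map_sum, map_zero] at h6
          refine (Finset.sum_congr rfl fun χ' _ => ?_).trans h6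
          by_cases hχ' : χ' ∈ B
          · simp only [hχ', if_true, map_mul, Complex.conj_conj]
          · simp [hχ']
        rw [h5, zero_mul]
        simp [hy]
      · simp only [hy, if_false]
        rw [Finset.sum_mul]
        refine Finset.sum_congr rfl fun χ' _ => ?_
        by_cases hχ' : χ' ∈ B
        · simp only [hχ', if_true]
          ring
        · simp [hχ']
    rw [Finset.sum_congr rfl (fun y _ => h3 y), Finset.sum_comm] at h1
    refine (Finset.sum_congr rfl fun χ' _ => ?_).trans h1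
    by_cases hχ' : χ' ∈ B
    · simp only [hχ', if_true, hA]
      rw [Finset.mul_sum]
    · simp [hχ']
  have hsq : ∑ χ' : Cfsg.IrrCharacter G, (if χ' ∈ B then conj (A χ') * A χ' else 0) = 0 := by
    have h1 : ∑ x : G, (if p ∣ orderOf x then 0 else (ψ : G → ℂ) x *
        ∑ χ' : Cfsg.IrrCharacter G, (if χ' ∈ B then conj ((χ' : G → ℂ) x) * A χ' else 0)) = 0 := by
      apply Finset.sum_eq_zero
      intro x _
      by_cases hx : p ∣ orderOf x
      · simp [hx]
      · simp only [hx, if_false]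
        rw [hkey x hx, mul_zero]
    have h2 : ∀ x : G, (if p ∣ orderOf x then 0 else (ψ : G → ℂ) x *
        ∑ χ' : Cfsg.IrrCharacter G, (if χ' ∈ B then conj ((χ' : G → ℂ) x) * A χ' else 0)) =
        ∑ χ' : Cfsg.IrrCharacter G, (if χ' ∈ B then
          (if p ∣ orderOf x then 0 else (ψ : G → ℂ) x * conj ((χ' : G → ℂ) x)) * A χ' else 0) := by
      intro x
      by_cases hx : p ∣ orderOf x
      · simp [hx]
      · simp only [hx, if_false]
        rw [Finset.mul_sum]
        refine Finset.sum_congr rfl fun χ' _ => ?_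
        by_cases hχ' : χ' ∈ B
        · simp only [hχ', if_true]
          ring
        · simp [hχ']
    rw [Finset.sum_congr rfl (fun x _ => h2 x), Finset.sum_comm] at h1
    refine (Finset.sum_congr rfl fun χ' _ => ?_).trans h1
    by_cases hχ' : χ' ∈ B
    · simp only [hχ', if_true]
      rw [← Finset.sum_mul]
      congr 1
      rw [hA]
      simp only
      rw [map_sum]
      refine Finset.sum_congr rfl fun x _ => ?_
      by_cases hx : p ∣ orderOf x
      · simp [hx]
      · simp only [hx, if_false, map_mul, Complex.conj_conj]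
        ring
    · simp [hχ']
  have hnonneg : ∀ χ' : Cfsg.IrrCharacter G,
      (if χ' ∈ B then conj (A χ') * A χ' else 0) =
        ((if χ' ∈ B then Complex.normSq (A χ') else 0 : ℝ) : ℂ) := by
    intro χ'
    by_cases hχ' : χ' ∈ B
    · simp only [hχ', if_true]
      rw [mul_comm, Complex.mul_conj]
    · simp [hχ']
  rw [Finset.sum_congr rfl (fun χ' _ => hnonneg χ'), ← Complex.ofReal_sum] at hsq
  have hsq' : ∑ χ' : Cfsg.IrrCharacter G, (if χ' ∈ B then Complex.normSq (A χ') else 0 : ℝ) = 0 := by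
    exact_mod_cast hsq
  have h0 := (Finset.sum_eq_zero_iff_of_nonneg (fun χ' _ => by
    by_cases hχ' : χ' ∈ B
    · simp only [hχ', if_true]
      exact Complex.normSq_nonneg _
    · simp [hχ'])).mp hsq' χ (Finset.mem_univ _)
  rw [if_pos hχ] at h0
  exact Complex.normSq_eq_zero.mp h0

theorem bo_row [Fintype (Cfsg.IrrCharacter G)] {p : ℕ} [Fact p.Prime] {M : Ideal Cfsg.AlgInt}
    (hM : Cfsg.IsPModular p M) (χ₀ : Cfsg.IrrCharacter G)
    (χ ψ : Cfsg.IrrCharacter G) (hχ : χ ∈ Cfsg.blockOf M (χ₀ : G → ℂ))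
    (hψ : ψ ∉ Cfsg.blockOf M (χ₀ : G → ℂ)) :
    ∑ y : G, (if p ∣ orderOf y then 0 else (χ : G → ℂ) y * conj ((ψ : G → ℂ) y)) = 0 := by
  classical
  exact bo_row_abs p (Cfsg.blockOf M (χ₀ : G → ℂ))
    (fun x y hx hy => br_weak_orth hM χ₀ x y hx hy) χ ψ hχ hψ

end bo

end Cfsg.Agent.Lib.Helper24
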