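import Mathlib
import Cfsg.Prelude.Def_Characters
import Cfsg.Prelude.Def_Blocks
import Cfsg.Agent.Lib.Helper24.BSQC2
import Cfsg.Agent.Lib.Helper24.BSQC3
import Cfsg.Agent.Lib.Helper24.BSQC4
import Cfsg.Agent.Lib.Helper24.BSQC5
import Cfsg.Agent.Lib.Helper24.BSQC9
import Cfsg.Agent.Lib.Helper24.BlockOrthRow
import Cfsg.Agent.Lib.helper7.Q8Cent2
import Cfsg.Agent.Lib.helper7.Q8Cent3
import Cfsg.Agent.Lib.Helper29.BSQ8Spec

set_option autoImplicit false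
open scoped ComplexConjugate

namespace Cfsg.Agent.Lib.Helper24

open Cfsg.Agent.Lib.Helper11 Cfsg.Agent.Lib.Helper25 Cfsg.Agent.Lib.helper7

section BSQC10
variable {C : Type*} [Group C] [Finite C]

theorem bsqc_ex4 (P : Sylow 2 C) (e : (P : Subgroup C) ≃* QuaternionGroup 2) :
    ∃ u : C, orderOf u = 4 := by
  refine ⟨((e.symm (QuaternionGroup.a 1) : (P : Subgroup C)) : C), ?_⟩
  rw [Subgroup.orderOf_coe, MulEquiv.orderOf_eq, QuaternionGroup.orderOf_a_one]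

theorem bsqc_sq_eq_z (P : Sylow 2 C) (e : (P : Subgroup C) ≃* QuaternionGroup 2)
    (z : C) (hz : orderOf z = 2) (hzc : z ∈ Subgroup.center C) (u : C) (hu : orderOf u = 4) :
    u * u = z := by
  have h4 : u ^ 4 = 1 := by rw [← hu, pow_orderOf_eq_one]
  rcases bsqc_sq_mem P e z hz hzc u h4 with h | h
  · exfalso
    have := orderOf_dvd_of_pow_eq_one h
    rw [hu] at this
    omega
  · rw [← pow_two, h]

theorem bsqc_hk3 (P : Sylow 2 C) (e : (P : Subgroup C) ≃* QuaternionGroup 2)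
    (x : C) (hx : 4 ∣ orderOf x) :
    ∃ u w : C, x = u * w ∧ orderOf u = 4 ∧ w ∈ Cfsg.centralizerPPrimeCore 2 u := by
  obtain ⟨u, y, hxy, hu, hc, hy⟩ := bsqc_four_decomp P e x hx
  exact ⟨u, y, hxy, hu, bsqc_cent_core P e u hu y hc hy⟩

theorem bsq_odd_iff (n : ℕ) : Odd n ↔ ¬ 2 ∣ n := by
  rw [← Nat.not_even_iff_odd, even_iff_two_dvd]

open Classical in
theorem bsq_hyp [Fintype C] [Fintype (Cfsg.IrrCharacter C)] (M : Ideal Cfsg.AlgInt)
    (hM : Cfsg.IsPModular 2 M) (z : C) (hz : orderOf z = 2) (hzc : z ∈ Subgroup.center C)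
    (P : Sylow 2 C) (e : (P : Subgroup C) ≃* QuaternionGroup 2)
    (ψ₂ ψ₃ ψ₄ : Cfsg.IrrCharacter C) (ε : ℤ) (hε : ε = 1 ∨ ε = -1)
    (hnd : [trivIrr C, ψ₂, ψ₃, ψ₄].Nodup)
    (hm2 : ψ₂ ∈ Cfsg.principalBlock M C) (hm3 : ψ₃ ∈ Cfsg.principalBlock M C)
    (hm4 : ψ₄ ∈ Cfsg.principalBlock M C)
    (hker : ∀ χ : Cfsg.IrrCharacter C, χ ∈ Cfsg.principalBlock M C →
        (χ : C → ℂ) z = (χ : C → ℂ) 1 → χ ∈ [trivIrr C, ψ₂, ψ₃, ψ₄])
    (hz2 : ∀ x : C, (ψ₂ : C → ℂ) (z * x) = (ψ₂ : C → ℂ) x)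
    (hz3 : ∀ x : C, (ψ₃ : C → ℂ) (z * x) = (ψ₃ : C → ℂ) x)
    (hz4 : ∀ x : C, (ψ₄ : C → ℂ) (z * x) = (ψ₄ : C → ℂ) x)
    (hv4 : ∀ x : C, 4 ∣ orderOf x → (ψ₂ : C → ℂ) x = 1 ∧ (ψ₃ : C → ℂ) x = (ε : ℂ) ∧
        (ψ₄ : C → ℂ) x = -1)
    (hrel : ∀ y : C, Odd (orderOf y) →
        1 + (ψ₂ : C → ℂ) y + (ε : ℂ) * (ψ₃ : C → ℂ) y - (ψ₄ : C → ℂ) y = 0)
    (hF4 : ∀ χ : Cfsg.IrrCharacter C, χ ∈ Cfsg.principalBlock M C →
        (χ : C → ℂ) z = -(χ : C → ℂ) 1 → ∀ x : C, 4 ∣ orderOf x → (χ : C → ℂ) x = 0) :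
    BsqHyp z (Finset.univ.filter (fun χ : Cfsg.IrrCharacter C => χ ∈ Cfsg.principalBlock M C))
      ![trivIrr C, ψ₂, ψ₃, ψ₄] ![1, 1, ε, -1] := by
  haveI : Fact (Nat.Prime 2) := ⟨Nat.prime_two⟩
  have hzz : z * z = 1 := by rw [← pow_two, ← hz, pow_orderOf_eq_one]
  have htriv : trivIrr C ∈ Cfsg.principalBlock M C := by
    exact h7_sameBlock_refl hM.2.1.isPrime _
  have hmem : ∀ j, (![trivIrr C, ψ₂, ψ₃, ψ₄] : Fin 4 → Cfsg.IrrCharacter C) j ∈
      Cfsg.principalBlock M C := by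
    intro j
    fin_cases j
    · exact htriv
    · exact hm2
    · exact hm3
    · exact hm4
  have hFz1 : ∀ χ : Cfsg.IrrCharacter C, χ ∈ Cfsg.principalBlock M C →
      (∀ j, χ ≠ (![trivIrr C, ψ₂, ψ₃, ψ₄] : Fin 4 → Cfsg.IrrCharacter C) j) →
      ∀ c, (χ : C → ℂ) (z * c) = - (χ : C → ℂ) c := by
    intro χ hχ hn c
    obtain ⟨ω, hω, hωx⟩ := h7_central_invol_sign χ z hzc hzz
    rcases hω with rfl | rfl
    · exfalso
      have h1 : (χ : C → ℂ) z = (χ : C → ℂ) 1 := by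
        have := hωx 1
        rw [mul_one, one_mul] at this
        exact this
      have := hker χ hχ h1
      simp only [List.mem_cons, List.mem_nil_iff, or_false] at this
      rcases this with h | h | h | h
      · exact hn 0 h
      · exact hn 1 h
      · exact hn 2 h
      · exact hn 3 h
    · rw [hωx c]; ring
  refine
    { split := fun F => ?_
      ex4 := ?_
      ψinj := ?_
      ψmem := ?_
      ψ0 := rfl
      s0 := rfl
      ssq := ?_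
      ψz := ?_
      Fz := ?_
      ψ4 := ?_
      F4 := ?_
      rel := ?_
      span := ?_
      int := ?_ }
  · convert bsqc_sum_split P e z hz hzc F
  · obtain ⟨u, hu⟩ := bsqc_ex4 P e
    exact ⟨u, by rw [hu]⟩
  · have := List.nodup_ofFn.mp (by simpa using hnd :
      (List.ofFn (![trivIrr C, ψ₂, ψ₃, ψ₄] : Fin 4 → Cfsg.IrrCharacter C)).Nodup)
    exact this
  · intro j
    rw [Finset.mem_filter]
    exact ⟨Finset.mem_univ _, hmem j⟩
  · intro j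
    fin_cases j
    · simp
    · simp
    · rcases hε with rfl | rfl <;> simp
    · simp
  · intro j c
    fin_cases j
    · simp
    · exact hz2 c
    · exact hz3 c
    · exact hz4 c
  · intro χ hχ hn c
    rw [Finset.mem_filter] at hχ
    exact hFz1 χ hχ.2 hn c
  · intro j c hc
    obtain ⟨h2, h3, h4'⟩ := hv4 c hc
    fin_cases j
    · simp
    · simpa using h2
    · simpa using h3
    · simpa using h4'
  · intro χ hχ hn c hc
    rw [Finset.mem_filter] at hχ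
    have h1 := hFz1 χ hχ.2 hn 1
    rw [mul_one] at h1
    exact hF4 χ hχ.2 h1 c hc
  · intro c hc
    rw [Fin.sum_univ_four]
    have := hrel c hc
    simp
    linear_combination this
  · intro θ hθ μ hμ
    rw [Finset.mem_filter] at hθ hμ
    have hμ' : μ ∉ Cfsg.principalBlock M C := fun hc => hμ ⟨Finset.mem_univ _, hc⟩
    have := bo_row hM (trivIrr C) θ μ hθ.2 hμ'
    rw [bsqOdd_inner]
    have e2 : ∀ c : C, (if Odd (orderOf c) then (θ : C → ℂ) c * conj ((μ : C → ℂ) c) else 0) =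
        if 2 ∣ orderOf c then 0 else (θ : C → ℂ) c * conj ((μ : C → ℂ) c) := by
      intro c
      by_cases h2 : 2 ∣ orderOf c
      · rw [if_pos h2, if_neg (fun ho => (bsq_odd_iff _).mp ho h2)]
      · rw [if_neg h2, if_pos ((bsq_odd_iff _).mpr h2)]
    simp_rw [e2]
    rw [this, mul_zero]
  · intro θ
    have h961 := Cfsg.Agent.S0961.result 2 θ
    have hcard : (Nat.card C).factorization 2 = 3 := by
      have h1 := P.card_eq_multiplicity
      rw [bsqc_card_P P e] at h1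
      have : (2 : ℕ) ^ 3 = 2 ^ (Nat.card C).factorization 2 := by rw [← h1]; norm_num
      exact (Nat.pow_right_injective (le_refl 2) this).symm
    rw [hcard] at h961
    convert h961 using 2 with c
    rw [bsqOdd_apply]
    by_cases h2 : 2 ∣ orderOf c
    · rw [if_pos h2, if_neg (fun ho => (bsq_odd_iff _).mp ho h2), mul_zero]
    · rw [if_neg h2, if_pos ((bsq_odd_iff _).mpr h2)]
      norm_num

end BSQC10

universe u

theorem bsq_cdata {C : Type u} [Group C] [Finite C] (M : Ideal Cfsg.AlgInt)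
    (hM : Cfsg.IsPModular 2 M) (z : C) (hz : orderOf z = 2) (hzc : z ∈ Subgroup.center C)
    (P : Sylow 2 C) (e : (P : Subgroup C) ≃* QuaternionGroup 2)
    (h4 : ∀ u v : C, orderOf u = 4 → orderOf v = 4 → IsConj u v) :
    Nonempty (Cfsg.Agent.Lib.Helper29.BSQ8.CData M z) := by
  classical
  haveI : Fintype C := Fintype.ofFinite C
  haveI : Fintype (Cfsg.IrrCharacter C) := Fintype.ofFinite _
  haveI hn : (Subgroup.zpowers z).Normal := bsqc_normal z hzc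
  have hk4 : ∃ Q : Sylow 2 (C ⧸ Subgroup.zpowers z),
      IsKleinFour ↥(Q : Subgroup (C ⧸ Subgroup.zpowers z)) ∧
      ∀ s t : C ⧸ Subgroup.zpowers z, orderOf s = 2 → orderOf t = 2 → IsConj s t := by
    obtain ⟨Q, hQ⟩ := bsqc_quot_klein P e z hz hzc (Subgroup.zpowers z) rfl
    exact ⟨Q, hQ, fun s t hs ht => bsqc_quot_hone P e z hz hzc (Subgroup.zpowers z) rfl h4 s t hs ht⟩
  obtain ⟨ψ₂, ψ₃, ψ₄, ε, hε, hnd, hm2, hm3, hm4, hker, hz2, hz3, hz4, hv4, hrel, hF4⟩ :=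
    h7_q8cent_step1 M hM z hz hzc (fun u hu => bsqc_sq_eq_z P e z hz hzc u hu)
      (fun x hx => bsqc_hk3 P e x hx) hk4 h4
  have hH := bsq_hyp M hM z hz hzc P e ψ₂ ψ₃ ψ₄ ε hε hnd hm2 hm3 hm4 hker hz2 hz3 hz4 hv4 hrel hF4
  obtain ⟨χ, κ, hχ, hinj, hcov⟩ := hH.main
  have h1 : (1 : Fin 4) ≠ 0 := by decide
  have h2 : (2 : Fin 4) ≠ 0 := by decide
  have h3 : (3 : Fin 4) ≠ 0 := by decide
  obtain ⟨hB1, hn1, hκ1, hf1⟩ := hχ 1 h1
  obtain ⟨hB2, hn2, hκ2, hf2⟩ := hχ 2 h2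
  obtain ⟨hB3, hn3, hκ3, hf3⟩ := hχ 3 h3
  rw [Finset.mem_filter] at hB1 hB2 hB3
  have hψ0 : (![trivIrr C, ψ₂, ψ₃, ψ₄] : Fin 4 → Cfsg.IrrCharacter C) 0 = trivIrr C := rfl
  have hψ1 : (![trivIrr C, ψ₂, ψ₃, ψ₄] : Fin 4 → Cfsg.IrrCharacter C) 1 = ψ₂ := rfl
  have hψ2 : (![trivIrr C, ψ₂, ψ₃, ψ₄] : Fin 4 → Cfsg.IrrCharacter C) 2 = ψ₃ := rfl
  have hψ3 : (![trivIrr C, ψ₂, ψ₃, ψ₄] : Fin 4 → Cfsg.IrrCharacter C) 3 = ψ₄ := rfl
  have hs1 : (![1, 1, ε, -1] : Fin 4 → ℤ) 1 = 1 := rfl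
  have hs2 : (![1, 1, ε, -1] : Fin 4 → ℤ) 2 = ε := rfl
  have hs3 : (![1, 1, ε, -1] : Fin 4 → ℤ) 3 = -1 := rfl
  have hzχ : ∀ i : Fin 4, i ≠ 0 → (χ i : C → ℂ) z = - (χ i : C → ℂ) 1 := by
    intro i hi
    obtain ⟨hB, hnn, -, -⟩ := hχ i hi
    have := hH.Fz (χ i) hB hnn 1
    rwa [mul_one] at this
  have hpm : ∀ k : ℤ, k * k = 1 → k = 1 ∨ k = -1 := bsq_pm_of_sq
  have hκc : ∀ i : Fin 4, i ≠ 0 → (κ i : ℂ) * (κ i : ℂ) = 1 := by
    intro i hi
    exact_mod_cast (hχ i hi).2.2.1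
  refine ⟨{
    ψ₂ := ψ₂
    ψ₃ := ψ₃
    ψ₄ := ψ₄
    χ₁ := χ 1
    χ₂ := χ 2
    χ₃ := χ 3
    ε := ε
    s₁ := κ 1
    s₂ := κ 2
    s₃ := - κ 3
    hε := hε
    hs₁ := hpm _ hκ1
    hs₂ := hpm _ hκ2
    hs₃ := by
      rcases hpm _ hκ3 with h | h
      · right; rw [h]
      · left; rw [h]; rfl
    nodup := ?_
    block := ?_
    ψ₂_z := by have := hz2 1; rwa [mul_one] at this
    ψ₃_z := by have := hz3 1; rwa [mul_one] at this
    ψ₄_z := by have := hz4 1; rwa [mul_one] at this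
    χ₁_z := hzχ 1 h1
    χ₂_z := hzχ 2 h2
    χ₃_z := hzχ 3 h3
    odd₁ := ?_
    odd₂ := ?_
    odd₃ := ?_
    odd₄ := ?_ }⟩
  · have hne : ∀ i : Fin 4, i ≠ 0 → χ i ∉ [trivIrr C, ψ₂, ψ₃, ψ₄] := by
      intro i hi hmem
      obtain ⟨-, hnn, -, -⟩ := hχ i hi
      simp only [List.mem_cons, List.mem_nil_iff, or_false] at hmem
      rcases hmem with h | h | h | h
      · exact hnn 0 h
      · exact hnn 1 h
      · exact hnn 2 h
      · exact hnn 3 h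
    have h12 : χ 1 ≠ χ 2 := fun h => absurd (hinj 1 2 h1 h2 h) (by decide)
    have h13 : χ 1 ≠ χ 3 := fun h => absurd (hinj 1 3 h1 h3 h) (by decide)
    have h23 : χ 2 ≠ χ 3 := fun h => absurd (hinj 2 3 h2 h3 h) (by decide)
    have e1 := hne 1 h1
    have e2 := hne 2 h2
    have e3 := hne 3 h3
    simp only [List.nodup_cons, List.mem_cons, or_false, not_or,
      List.not_mem_nil, not_false_eq_true, List.nodup_nil, and_true] at hnd e1 e2 e3 ⊢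
    obtain ⟨⟨a1, a2, a3⟩, ⟨b1, b2⟩, c1⟩ := hnd
    refine ⟨⟨a1, a2, a3, Ne.symm e1.1, Ne.symm e2.1, Ne.symm e3.1⟩,
      ⟨b1, b2, Ne.symm e1.2.1, Ne.symm e2.2.1, Ne.symm e3.2.1⟩,
      ⟨c1, Ne.symm e1.2.2.1, Ne.symm e2.2.2.1, Ne.symm e3.2.2.1⟩,
      ⟨Ne.symm e1.2.2.2, Ne.symm e2.2.2.2, Ne.symm e3.2.2.2⟩, ⟨h12, h13⟩, h23⟩
  · intro θ
    constructor
    · intro hθ
      have := hcov θ (Finset.mem_filter.mpr ⟨Finset.mem_univ _, hθ⟩)
      simp only [List.mem_cons, List.mem_nil_iff, or_false]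
      rcases this with ⟨j, rfl⟩ | ⟨i, hi, rfl⟩
      · fin_cases j
        · exact Or.inl rfl
        · exact Or.inr (Or.inl rfl)
        · exact Or.inr (Or.inr (Or.inl rfl))
        · exact Or.inr (Or.inr (Or.inr (Or.inl rfl)))
      · fin_cases i
        · exact absurd rfl hi
        · exact Or.inr (Or.inr (Or.inr (Or.inr (Or.inl rfl))))
        · exact Or.inr (Or.inr (Or.inr (Or.inr (Or.inr (Or.inl rfl)))))
        · exact Or.inr (Or.inr (Or.inr (Or.inr (Or.inr (Or.inr rfl)))))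
    · intro hθ
      simp only [List.mem_cons, List.mem_nil_iff, or_false] at hθ
      rcases hθ with rfl | rfl | rfl | rfl | rfl | rfl | rfl
      · exact h7_sameBlock_refl hM.2.1.isPrime _
      · exact hm2
      · exact hm3
      · exact hm4
      · exact hB1.2
      · exact hB2.2
      · exact hB3.2
  · intro y hy
    have := hf1 y hy
    rw [hψ0, hψ1, hs1, trivIrr_apply] at this
    rw [this]
    push_cast
    linear_combination (-(1 + (ψ₂ : C → ℂ) y)) * hκc 1 h1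
  · intro y hy
    have := hf2 y hy
    rw [hψ0, hψ2, hs2, trivIrr_apply] at this
    rw [this]
    linear_combination (-(1 + (ε : ℂ) * (ψ₃ : C → ℂ) y)) * hκc 2 h2
  · intro y hy
    have := hf3 y hy
    rw [hψ0, hψ3, hs3, trivIrr_apply] at this
    rw [this]
    have hr := hrel y hy
    push_cast
    linear_combination (-((ψ₂ : C → ℂ) y + (ε : ℂ) * (ψ₃ : C → ℂ) y)) * hκc 3 h3 +
      (κ 3 : ℂ) * (κ 3 : ℂ) * hr
  · exact hrel


end Cfsg.Agent.Lib.Helper24
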