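import Mathlib
import Cfsg.Agent.Lib.helper7.REE.Defs

set_option autoImplicit false
set_option linter.unusedSectionVars false

namespace Cfsg.Agent.Lib.helper7.REE

open Matrix Polynomial Cfsg.Agent.Lib.helper8

universe u v

section GEN

variable {G : Type u} [Group G] [Finite G]

theorem reegenb_comm (S : Subgroup G) (hexp : ∀ x ∈ S, x * x = 1) (x y : G) (hx : x ∈ S)
    (hy : y ∈ S) : x * y = y * x := by
  have h1 := hexp (x * y) (S.mul_mem hx hy)
  have hx' : x = x⁻¹ := eq_inv_of_mul_eq_one_left (hexp x hx)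
  have hy' : y = y⁻¹ := eq_inv_of_mul_eq_one_left (hexp y hy)
  have hxy : x * y = (x * y)⁻¹ := eq_inv_of_mul_eq_one_left h1
  rw [hxy, _root_.mul_inv_rev, ← hx', ← hy']

theorem reegenb_two_elt (S : Sylow 2 G) (g : G)
    (hg : g ∈ Subgroup.normalizer ((S : Subgroup G) : Set G)) (h4 : g ^ 4 = 1) :
    g ∈ (S : Subgroup G) := by
  have hp : IsPGroup 2 (Subgroup.zpowers g) := by
    rintro ⟨y, hy⟩
    refine ⟨2, ?_⟩
    obtain ⟨n, rfl⟩ := Subgroup.mem_zpowers_iff.mp hy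
    apply Subtype.ext
    show (g ^ n) ^ (2 ^ 2) = 1
    have h22 : (2 : ℕ) ^ 2 = 4 := by norm_num
    rw [h22, ← zpow_natCast, ← _root_.zpow_mul, mul_comm, _root_.zpow_mul, zpow_natCast, h4,
      _root_.one_zpow]
  have h1 := hp.inf_normalizer_sylow S
  have h2 : g ∈ Subgroup.zpowers g ⊓ Subgroup.normalizer (S : Set G) :=
    ⟨Subgroup.mem_zpowers g, hg⟩
  rw [h1] at h2
  exact h2.2

theorem reegenb_stab (S : Sylow 2 G) (hexp : ∀ x ∈ (S : Subgroup G), x * x = 1)
    (hcard : Nat.card (S : Subgroup G) = 8)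
    (hcent : Subgroup.centralizer ((S : Subgroup G) : Set G) = S)
    (a b : G) (ha : a ∈ (S : Subgroup G)) (hb : b ∈ (S : Subgroup G)) (ha1 : a ≠ 1) (hb1 : b ≠ 1)
    (hab : a ≠ b) (g : G) (hg : g ∈ Subgroup.normalizer ((S : Subgroup G) : Set G))
    (hga : g * a = a * g) (hgb : g * b = b * g) : g ∈ (S : Subgroup G) := by
  classical
  obtain ⟨H', hH'⟩ : ∃ H' : Subgroup ↥(S : Subgroup G),
      H' = (Subgroup.centralizer {g}).subgroupOf (S : Subgroup G) := ⟨_, rfl⟩
  have hmem : ∀ s : ↥(S : Subgroup G), s ∈ H' ↔ (s : G) * g = g * (s : G) := by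
    intro s
    rw [hH', Subgroup.mem_subgroupOf, Subgroup.mem_centralizer_singleton_iff]
  have hdvd : Nat.card H' ∣ 8 := by
    rw [← hcard]
    exact Subgroup.card_subgroup_dvd_card H'
  have hidx : Nat.card H' * H'.index = 8 := by
    rw [← hcard]
    exact Subgroup.card_mul_index H'
  have h4le : 4 ≤ Nat.card H' := by
    have hab' : a * b ∈ (S : Subgroup G) := Subgroup.mul_mem _ ha hb
    obtain ⟨F, hF⟩ : ∃ F : Finset ↥(S : Subgroup G),
        F = {(1 : ↥(S : Subgroup G)), ⟨a, ha⟩, ⟨b, hb⟩, ⟨a * b, hab'⟩} := ⟨_, rfl⟩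
    have hFc : F.card = 4 := by
      have e1 : (1 : ↥(S : Subgroup G)) ≠ ⟨a, ha⟩ := by
        intro h
        exact ha1 (congrArg Subtype.val h).symm
      have e2 : (1 : ↥(S : Subgroup G)) ≠ ⟨b, hb⟩ := by
        intro h
        exact hb1 (congrArg Subtype.val h).symm
      have e3 : (1 : ↥(S : Subgroup G)) ≠ ⟨a * b, hab'⟩ := by
        intro h
        have h1 : a * b = 1 := (congrArg Subtype.val h).symm
        have h2 : a * a = 1 := hexp a ha
        exact hab (mul_left_cancel (h2.trans h1.symm)).symm.symm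
      have e4 : (⟨a, ha⟩ : ↥(S : Subgroup G)) ≠ ⟨b, hb⟩ := by
        intro h
        exact hab (congrArg Subtype.val h)
      have e5 : (⟨a, ha⟩ : ↥(S : Subgroup G)) ≠ ⟨a * b, hab'⟩ := by
        intro h
        have h1 : a = a * b := congrArg Subtype.val h
        exact hb1 (mul_left_cancel (a := a) (by rw [mul_one]; exact h1.symm))
      have e6 : (⟨b, hb⟩ : ↥(S : Subgroup G)) ≠ ⟨a * b, hab'⟩ := by
        intro h
        have h1 : b = a * b := congrArg Subtype.val h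
        exact ha1 (mul_right_cancel (b := b) (by rw [one_mul]; exact h1.symm))
      rw [hF, Finset.card_insert_of_notMem, Finset.card_insert_of_notMem,
        Finset.card_insert_of_notMem, Finset.card_singleton]
      · simp only [Finset.mem_singleton]
        exact e6
      · simp only [Finset.mem_insert, Finset.mem_singleton, not_or]
        exact ⟨e4, e5⟩
      · simp only [Finset.mem_insert, Finset.mem_singleton, not_or]
        exact ⟨e1, e2, e3⟩
    have hsub : (↑F : Set ↥(S : Subgroup G)) ⊆ (H' : Set ↥(S : Subgroup G)) := by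
      intro s hs
      rw [hF] at hs
      simp only [Finset.coe_insert, Finset.coe_singleton, Set.mem_insert_iff,
        Set.mem_singleton_iff] at hs
      show s ∈ H'
      rw [hmem]
      rcases hs with rfl | rfl | rfl | rfl
      · show (1 : G) * g = g * 1
        rw [one_mul, mul_one]
      · exact hga.symm
      · exact hgb.symm
      · show a * b * g = g * (a * b)
        rw [mul_assoc, ← hgb, ← mul_assoc, ← hga, mul_assoc]
    have h1 := Set.ncard_le_ncard hsub (Set.toFinite _)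
    rw [Set.ncard_coe_finset, hFc] at h1
    have h2 : (H' : Set ↥(S : Subgroup G)).ncard = Nat.card H' := by
      rw [← Nat.card_coe_set_eq]
      rfl
    rw [h2] at h1
    exact h1
  have hidx12 : H'.index = 1 ∨ H'.index = 2 := by
    have hle : Nat.card H' ≤ 8 := Nat.le_of_dvd (by norm_num) hdvd
    obtain ⟨c, hc⟩ : ∃ c, c = Nat.card H' := ⟨_, rfl⟩
    rw [← hc] at hidx hdvd h4le hle
    interval_cases c
    · right; omega
    · exfalso; omega
    · exfalso; omega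
    · exfalso; omega
    · left; omega
  have hconjS : ∀ s : G, s ∈ (S : Subgroup G) → g * s * g⁻¹ ∈ (S : Subgroup G) := by
    intro s hs
    exact (Subgroup.mem_normalizer_iff.mp hg s).mp hs
  have hkey : ∀ s : G, s ∈ (S : Subgroup G) → (s⁻¹ * (g * s * g⁻¹)) * g = g * (s⁻¹ * (g * s * g⁻¹)) := by
    intro s hs
    have hs1 : (⟨s, hs⟩ : ↥(S : Subgroup G))⁻¹ * ⟨g * s * g⁻¹, hconjS s hs⟩ ∈ H' := by
      rcases hidx12 with h1 | h2
      · rw [Subgroup.index_eq_one.mp h1]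
        exact Subgroup.mem_top _
      · rw [Subgroup.mul_mem_iff_of_index_two h2, inv_mem_iff, hmem, hmem]
        show s * g = g * s ↔ g * s * g⁻¹ * g = g * (g * s * g⁻¹)
        constructor
        · intro h
          calc g * s * g⁻¹ * g = g * s := inv_mul_cancel_right _ _
            _ = g * (s * g * g⁻¹) := by rw [mul_inv_cancel_right]
            _ = g * (g * s * g⁻¹) := by rw [h]
        · intro h
          have h' : g * s = g * (g * s * g⁻¹) := by rw [← h, inv_mul_cancel_right]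
          have h'' : s = g * s * g⁻¹ := mul_left_cancel h'
          rw [eq_mul_inv_iff_mul_eq] at h''
          exact h''
    exact (hmem _).mp hs1
  have hsq : g * g ∈ (S : Subgroup G) := by
    rw [← hcent, Subgroup.mem_centralizer_iff]
    intro s hs
    have ht := hkey s hs
    have htS : s⁻¹ * (g * s * g⁻¹) ∈ (S : Subgroup G) :=
      Subgroup.mul_mem _ (Subgroup.inv_mem _ hs) (hconjS s hs)
    have htt := hexp _ htS
    have h1 : g * s * g⁻¹ = s * (s⁻¹ * (g * s * g⁻¹)) := by group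
    have h2 : g * (s⁻¹ * (g * s * g⁻¹)) * g⁻¹ = s⁻¹ * (g * s * g⁻¹) := by
      rw [← ht]
      group
    have h3 : g * (g * s * g⁻¹) * g⁻¹ = s := by
      calc g * (g * s * g⁻¹) * g⁻¹ = g * (s * (s⁻¹ * (g * s * g⁻¹))) * g⁻¹ := by rw [← h1]
        _ = (g * s * g⁻¹) * (g * (s⁻¹ * (g * s * g⁻¹)) * g⁻¹) := by group
        _ = (s * (s⁻¹ * (g * s * g⁻¹))) * (s⁻¹ * (g * s * g⁻¹)) := by rw [h2, ← h1]
        _ = s * ((s⁻¹ * (g * s * g⁻¹)) * (s⁻¹ * (g * s * g⁻¹))) := by group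
        _ = s := by rw [htt, mul_one]
    calc s * (g * g) = g * (g * s * g⁻¹) * g⁻¹ * (g * g) := by rw [h3]
      _ = g * g * s := by group
  have h4 : g ^ 4 = 1 := by
    have h5 := hexp _ hsq
    calc g ^ 4 = g * g * (g * g) := by
          rw [pow_succ, pow_succ, pow_succ, pow_one, mul_assoc, mul_assoc]
      _ = 1 := h5
  exact reegenb_two_elt S g hg h4

theorem reegenb_sq (S : Sylow 2 G) (hexp : ∀ x ∈ (S : Subgroup G), x * x = 1)
    (hcard : Nat.card (S : Subgroup G) = 8)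
    (hcent : Subgroup.centralizer ((S : Subgroup G) : Set G) = S)
    (a b : G) (ha : a ∈ (S : Subgroup G)) (hb : b ∈ (S : Subgroup G)) (ha1 : a ≠ 1) (hb1 : b ≠ 1)
    (hab : a ≠ b) (h : G) (hh : h ∈ Subgroup.normalizer ((S : Subgroup G) : Set G))
    (h1 : h * h * a = a * (h * h)) (h2 : h * h * b = b * (h * h)) : h ∈ (S : Subgroup G) := by
  have hN2 : h * h ∈ Subgroup.normalizer ((S : Subgroup G) : Set G) := Subgroup.mul_mem _ hh hh
  have h3 := reegenb_stab S hexp hcard hcent a b ha hb ha1 hb1 hab (h * h) hN2 h1 h2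
  have h4 := hexp _ h3
  apply reegenb_two_elt S h hh
  calc h ^ 4 = h * h * (h * h) := by
        rw [pow_succ, pow_succ, pow_succ, pow_one, mul_assoc, mul_assoc]
    _ = 1 := h4

theorem reegenb_transport (N : Subgroup G) (g g' u v u' v' : G) (hg : g ∈ N) (hg' : g' ∈ N)
    (h : (g * u * g⁻¹, g * v * g⁻¹) = (g' * u' * g'⁻¹, g' * v' * g'⁻¹)) :
    g'⁻¹ * g ∈ N ∧ (g'⁻¹ * g) * u * (g'⁻¹ * g)⁻¹ = u' ∧ (g'⁻¹ * g) * v * (g'⁻¹ * g)⁻¹ = v' := by
  have h1 : g * u * g⁻¹ = g' * u' * g'⁻¹ := congrArg Prod.fst h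
  have h2 : g * v * g⁻¹ = g' * v' * g'⁻¹ := congrArg Prod.snd h
  refine ⟨Subgroup.mul_mem _ (Subgroup.inv_mem _ hg') hg, ?_, ?_⟩
  · calc (g'⁻¹ * g) * u * (g'⁻¹ * g)⁻¹ = g'⁻¹ * (g * u * g⁻¹) * g' := by group
      _ = g'⁻¹ * (g' * u' * g'⁻¹) * g' := by rw [h1]
      _ = u' := by group
  · calc (g'⁻¹ * g) * v * (g'⁻¹ * g)⁻¹ = g'⁻¹ * (g * v * g⁻¹) * g' := by group
      _ = g'⁻¹ * (g' * v' * g'⁻¹) * g' := by rw [h2]
      _ = v' := by group

theorem reegenb_orbit (S : Sylow 2 G) (hexp : ∀ x ∈ (S : Subgroup G), x * x = 1)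
    (hcard : Nat.card (S : Subgroup G) = 8)
    (hcent : Subgroup.centralizer ((S : Subgroup G) : Set G) = S)
    (hnorm : Nat.card (Subgroup.normalizer ((S : Subgroup G) : Set G)) = 168)
    (u v : G) (hu : u ∈ (S : Subgroup G)) (hv : v ∈ (S : Subgroup G)) (hu1 : u ≠ 1) (hv1 : v ≠ 1)
    (huv : u ≠ v) :
    ∃ O : Finset (G × G), 21 ≤ O.card ∧
      (∀ y ∈ O, y.1 ∈ (S : Subgroup G) ∧ y.1 ≠ 1 ∧ y.2 ∈ (S : Subgroup G)) ∧
      (∀ y ∈ O, ∃ g ∈ Subgroup.normalizer ((S : Subgroup G) : Set G),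
        y = (g * u * g⁻¹, g * v * g⁻¹)) := by
  classical
  have hfin : Fintype G := Fintype.ofFinite G
  obtain ⟨NS, hNS⟩ : ∃ NS : Finset G,
      NS = Finset.univ.filter (fun g => g ∈ Subgroup.normalizer ((S : Subgroup G) : Set G)) :=
    ⟨_, rfl⟩
  obtain ⟨S8, hS8⟩ : ∃ S8 : Finset G, S8 = Finset.univ.filter (fun g => g ∈ (S : Subgroup G)) :=
    ⟨_, rfl⟩
  have hNSmem : ∀ g, g ∈ NS ↔ g ∈ Subgroup.normalizer ((S : Subgroup G) : Set G) := by
    intro g
    rw [hNS, Finset.mem_filter]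
    simp
  have hS8mem : ∀ g, g ∈ S8 ↔ g ∈ (S : Subgroup G) := by
    intro g
    rw [hS8, Finset.mem_filter]
    simp
  have hNScard : NS.card = 168 := by
    rw [← hnorm, Nat.card_eq_fintype_card]
    exact (Fintype.card_of_subtype NS hNSmem).symm
  have hS8card : S8.card = 8 := by
    rw [← hcard, Nat.card_eq_fintype_card]
    exact (Fintype.card_of_subtype S8 hS8mem).symm
  obtain ⟨f, hf⟩ : ∃ f : G → G × G, f = fun g => (g * u * g⁻¹, g * v * g⁻¹) := ⟨_, rfl⟩
  refine ⟨NS.image f, ?_, ?_, ?_⟩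
  · have hfib : ∀ y ∈ NS.image f, (NS.filter (fun g => f g = y)).card ≤ 8 := by
      intro y hy
      obtain ⟨g₀, hg₀, rfl⟩ := Finset.mem_image.mp hy
      rw [← hS8card]
      apply Finset.card_le_card_of_injOn (fun g => g₀⁻¹ * g)
      · intro g hgm
        have hgm' := Finset.mem_filter.mp (Finset.mem_coe.mp hgm)
        have hgN := (hNSmem g).mp hgm'.1
        have hg₀N := (hNSmem g₀).mp hg₀
        have heq : (g * u * g⁻¹, g * v * g⁻¹) = (g₀ * u * g₀⁻¹, g₀ * v * g₀⁻¹) := by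
          have := hgm'.2
          rw [hf] at this
          exact this
        obtain ⟨t1, t2, t3⟩ := reegenb_transport _ g g₀ u v u v hgN hg₀N heq
        show g₀⁻¹ * g ∈ (S8 : Set G)
        rw [Finset.mem_coe, hS8mem]
        apply reegenb_stab S hexp hcard hcent u v hu hv hu1 hv1 huv _ t1
        · exact mul_inv_eq_iff_eq_mul.mp t2
        · exact mul_inv_eq_iff_eq_mul.mp t3
      · intro g _ g' _ hgg
        exact mul_left_cancel hgg
    have h1 := Finset.card_le_mul_card_image NS 8 hfib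
    rw [hNScard] at h1
    omega
  · intro y hy
    obtain ⟨g, hg, rfl⟩ := Finset.mem_image.mp hy
    have hgN := (hNSmem g).mp hg
    rw [hf]
    refine ⟨(Subgroup.mem_normalizer_iff.mp hgN u).mp hu, ?_, (Subgroup.mem_normalizer_iff.mp hgN v).mp hv⟩
    intro h
    apply hu1
    have h' : g * u * g⁻¹ = 1 := h
    have : g * u * g⁻¹ = g * 1 * g⁻¹ := by rw [h']; group
    exact mul_left_cancel (mul_right_cancel this)
  · intro y hy
    obtain ⟨g, hg, rfl⟩ := Finset.mem_image.mp hy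
    exact ⟨g, (hNSmem g).mp hg, by rw [hf]⟩

theorem reegenb_T (S : Sylow 2 G) (hcard : Nat.card (S : Subgroup G) = 8) :
    ∃ T : Finset (G × G), T.card = 56 ∧
      ∀ y : G × G, y.1 ∈ (S : Subgroup G) → y.1 ≠ 1 → y.2 ∈ (S : Subgroup G) → y ∈ T := by
  classical
  have hfin : Fintype G := Fintype.ofFinite G
  obtain ⟨S8, hS8⟩ : ∃ S8 : Finset G, S8 = Finset.univ.filter (fun g => g ∈ (S : Subgroup G)) :=
    ⟨_, rfl⟩
  have hS8mem : ∀ g, g ∈ S8 ↔ g ∈ (S : Subgroup G) := by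
    intro g
    rw [hS8, Finset.mem_filter]
    simp
  have hS8card : S8.card = 8 := by
    rw [← hcard, Nat.card_eq_fintype_card]
    exact (Fintype.card_of_subtype S8 hS8mem).symm
  have h1mem : (1 : G) ∈ S8 := (hS8mem 1).mpr (Subgroup.one_mem _)
  refine ⟨(S8.erase 1) ×ˢ S8, ?_, ?_⟩
  · rw [Finset.card_product, Finset.card_erase_of_mem h1mem, hS8card]
  · intro y h1 h2 h3
    rw [Finset.mem_product, Finset.mem_erase]
    exact ⟨⟨h2, (hS8mem _).mpr h1⟩, (hS8mem _).mpr h3⟩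

theorem reegenb_conj_sq (h u w z : G) (h1 : h * u * h⁻¹ = w) (h2 : h * w * h⁻¹ = z) :
    h * h * u = z * (h * h) := by
  rw [← mul_inv_eq_iff_eq_mul]
  calc h * h * u * (h * h)⁻¹ = h * (h * u * h⁻¹) * h⁻¹ := by group
    _ = z := by rw [h1, h2]

theorem four_normalizer (S : Sylow 2 G) (hexp : ∀ x ∈ S, x * x = 1) (hcard : Nat.card S = 8)
    (hcent : Subgroup.centralizer ((S : Subgroup G) : Set G) = S)
    (hnorm : Nat.card (Subgroup.normalizer ((S : Subgroup G) : Set G)) = 168)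
    (a b : G) (ha : a ∈ S) (hb : b ∈ S) (ha1 : a ≠ 1) (hb1 : b ≠ 1) (hab : a ≠ b) :
    ∃ ρ : G, ρ * a * ρ⁻¹ = b ∧ ρ * b * ρ⁻¹ = a * b := by
  classical
  have hexp' : ∀ x ∈ (S : Subgroup G), x * x = 1 := hexp
  have hcard' : Nat.card (S : Subgroup G) = 8 := hcard
  have ha' : a ∈ (S : Subgroup G) := ha
  have hb' : b ∈ (S : Subgroup G) := hb
  have habS : a * b ∈ (S : Subgroup G) := Subgroup.mul_mem _ ha' hb'
  have hab1 : a * b ≠ 1 := by
    intro h1
    have h2 : a * a = 1 := hexp' a ha'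
    exact hab (mul_left_cancel (h2.trans h1.symm))
  have hbab : b ≠ a * b := by
    intro h1
    exact ha1 (mul_right_cancel (b := b) (by rw [one_mul]; exact h1.symm))
  have hcomm : ∀ x y : G, x ∈ (S : Subgroup G) → y ∈ (S : Subgroup G) → x * y = y * x :=
    fun x y hx hy => reegenb_comm (S : Subgroup G) hexp' x y hx hy
  obtain ⟨O1, c1, s1, r1⟩ :=
    reegenb_orbit S hexp' hcard' hcent hnorm a b ha' hb' ha1 hb1 hab
  obtain ⟨O2, c2, s2, r2⟩ :=
    reegenb_orbit S hexp' hcard' hcent hnorm b a hb' ha' hb1 ha1 (Ne.symm hab)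
  obtain ⟨O3, c3, s3, r3⟩ :=
    reegenb_orbit S hexp' hcard' hcent hnorm b (a * b) hb' habS hb1 hab1 hbab
  obtain ⟨T, hT, hTmem⟩ := reegenb_T S hcard'
  by_contra hno
  have d12 : Disjoint O1 O2 := by
    rw [Finset.disjoint_left]
    intro y h1 h2
    obtain ⟨g, hg, e1⟩ := r1 y h1
    obtain ⟨g', hg', e2⟩ := r2 y h2
    obtain ⟨t1, t2, t3⟩ := reegenb_transport _ g g' a b b a hg hg' (e1.symm.trans e2)
    have q1 := reegenb_conj_sq _ _ _ _ t2 t3
    have q2 := reegenb_conj_sq _ _ _ _ t3 t2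
    have hS := reegenb_sq S hexp' hcard' hcent a b ha' hb' ha1 hb1 hab _ t1 q1 q2
    have h3 : g'⁻¹ * g * a * (g'⁻¹ * g)⁻¹ = a := by
      rw [hcomm _ _ hS ha', mul_inv_cancel_right]
    exact hab (h3.symm.trans t2)
  have d23 : Disjoint O2 O3 := by
    rw [Finset.disjoint_left]
    intro y h1 h2
    obtain ⟨g, hg, e1⟩ := r2 y h1
    obtain ⟨g', hg', e2⟩ := r3 y h2
    obtain ⟨t1, t2, t3⟩ := reegenb_transport _ g g' b a b (a * b) hg hg' (e1.symm.trans e2)
    have t4 : g'⁻¹ * g * (a * b) * (g'⁻¹ * g)⁻¹ = a := by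
      calc g'⁻¹ * g * (a * b) * (g'⁻¹ * g)⁻¹
          = (g'⁻¹ * g * a * (g'⁻¹ * g)⁻¹) * (g'⁻¹ * g * b * (g'⁻¹ * g)⁻¹) := by group
        _ = a * b * b := by rw [t3, t2]
        _ = a := by rw [mul_assoc, hexp' b hb', mul_one]
    have q1 := reegenb_conj_sq _ _ _ _ t3 t4
    have q2 := reegenb_conj_sq _ _ _ _ t2 t2
    have hS := reegenb_sq S hexp' hcard' hcent a b ha' hb' ha1 hb1 hab _ t1 q1 q2
    have h3 : g'⁻¹ * g * a * (g'⁻¹ * g)⁻¹ = a := by
      rw [hcomm _ _ hS ha', mul_inv_cancel_right]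
    have h4 : a = a * b := h3.symm.trans t3
    exact hb1 (mul_left_cancel (a := a) (by rw [mul_one]; exact h4.symm))
  have d13 : Disjoint O1 O3 := by
    rw [Finset.disjoint_left]
    intro y h1 h2
    obtain ⟨g, hg, e1⟩ := r1 y h1
    obtain ⟨g', hg', e2⟩ := r3 y h2
    obtain ⟨t1, t2, t3⟩ := reegenb_transport _ g g' a b b (a * b) hg hg' (e1.symm.trans e2)
    exact hno ⟨g'⁻¹ * g, t2, t3⟩
  have hsub : O1 ∪ O2 ∪ O3 ⊆ T := by
    intro y hy
    rcases Finset.mem_union.mp hy with hy | hy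
    · rcases Finset.mem_union.mp hy with hy | hy
      · obtain ⟨p1, p2, p3⟩ := s1 y hy
        exact hTmem y p1 p2 p3
      · obtain ⟨p1, p2, p3⟩ := s2 y hy
        exact hTmem y p1 p2 p3
    · obtain ⟨p1, p2, p3⟩ := s3 y hy
      exact hTmem y p1 p2 p3
  have hle := Finset.card_le_card hsub
  have hd : Disjoint (O1 ∪ O2) O3 := Finset.disjoint_union_left.mpr ⟨d13, d23⟩
  rw [Finset.card_union_of_disjoint hd, Finset.card_union_of_disjoint d12, hT] at hle
  omega

end GEN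

end Cfsg.Agent.Lib.helper7.REE
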