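import Mathlib
import Cfsg.Agent.Lib.Helper18.REELA.Defs

set_option autoImplicit false
set_option linter.unusedSectionVars false

namespace Cfsg.Agent.Lib.helper7.REE

open Matrix Polynomial

universe v

section general

variable {F : Type*} [Field F] {V : Type*} [AddCommGroup V] [Module F V]

theorem reela15_aeval_conj {A : Type*} [Ring A] [Algebra F A] (N N' a : A) (hNN' : N * N' = 1)
    (hN'N : N' * N = 1) (r : F[X]) : aeval (N * a * N') r = N * aeval a r * N' := by
  induction r using Polynomial.induction_on' with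
  | add p q hp hq => rw [map_add, map_add, hp, hq, mul_add, add_mul]
  | monomial n c =>
    rw [aeval_monomial, aeval_monomial]
    have hpow : ∀ k : ℕ, (N * a * N') ^ k = N * a ^ k * N' := by
      intro k
      induction k with
      | zero => rw [pow_zero, pow_zero, mul_one, hNN']
      | succ k ih =>
        rw [pow_succ, ih, pow_succ]
        calc N * a ^ k * N' * (N * a * N') = N * a ^ k * (N' * N) * a * N' := by
              simp only [mul_assoc]
          _ = N * (a ^ k * a) * N' := by rw [hN'N, mul_one]; simp only [mul_assoc]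
    rw [hpow, Algebra.algebraMap_eq_smul_one, smul_mul_assoc, one_mul, smul_mul_assoc, one_mul,
      mul_smul_comm, smul_mul_assoc]

theorem reela15_aeval_fix (h : Module.End F V) (p : F[X]) (y : V) (hy : h y = y) :
    aeval h p y = p.eval 1 • y := by
  induction p using Polynomial.induction_on' with
  | add p q hp hq => rw [map_add, LinearMap.add_apply, hp, hq, eval_add, add_smul]
  | monomial n c =>
    rw [aeval_monomial, eval_monomial, one_pow, mul_one]
    have hpow : ∀ k : ℕ, (h ^ k) y = y := by
      intro k
      induction k with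
      | zero => rw [pow_zero, Module.End.one_apply]
      | succ k ih => rw [pow_succ, Module.End.mul_apply, hy, ih]
    rw [Module.End.mul_apply, hpow, Module.algebraMap_end_apply]

theorem reela15_commute_aeval {A : Type*} [Ring A] [Algebra F A] (g a : A) (hga : Commute g a)
    (r : F[X]) : Commute g (aeval a r) := by
  induction r using Polynomial.induction_on' with
  | add p q hp hq =>
    rw [map_add]
    exact hp.add_right hq
  | monomial n c =>
    rw [aeval_monomial]
    exact (Algebra.commute_algebraMap_right c g).mul_right (hga.pow_right n)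

theorem reela15_core [Module.Finite F V] (f : Module.End F V) (p : F[X]) (hs : LaSplit f p)
    (h : Module.End F V) (hcomm : Commute h f) (hfix : ∀ x ∈ LinearMap.ker (f - 1), h x = x)
    (N N' : Module.End F V) (hNN' : N * N' = 1) (hN'N : N' * N = 1) (hh : N * f * N' = h) :
    (∀ x ∈ LinearMap.ker (f - 1), N x ∈ LinearMap.ker (f - 1) ∧ N' x ∈ LinearMap.ker (f - 1)) ∧
    (∀ x ∈ LinearMap.ker (aeval f p),
      N x ∈ LinearMap.ker (aeval f p) ∧ N' x ∈ LinearMap.ker (aeval f p)) := by
  have hNN'a : ∀ x : V, N (N' x) = x := by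
    intro x
    rw [← Module.End.mul_apply, hNN', Module.End.one_apply]
  have hN'Na : ∀ x : V, N' (N x) = x := by
    intro x
    rw [← Module.End.mul_apply, hN'N, Module.End.one_apply]
  have hmemA : ∀ x : V, x ∈ LinearMap.ker (f - 1) ↔ f x = x := by
    intro x
    rw [LinearMap.mem_ker, LinearMap.sub_apply, Module.End.one_apply, sub_eq_zero]
  have hfN' : ∀ x : V, f (N' x) = N' (h x) := by
    intro x
    rw [← hh, Module.End.mul_apply, Module.End.mul_apply, hN'Na]
  have hA' : ∀ x ∈ LinearMap.ker (f - 1), N' x ∈ LinearMap.ker (f - 1) := by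
    intro x hx
    rw [hmemA, hfN', hfix x hx]
  have hAsurj : ∀ x ∈ LinearMap.ker (f - 1), ∃ y ∈ LinearMap.ker (f - 1), N' y = x := by
    have hinj : Function.Injective (N'.restrict hA') := by
      intro y z hyz
      apply Subtype.ext
      have h1 : N' (y : V) = N' (z : V) := congrArg Subtype.val hyz
      have h2 := congrArg N h1
      rw [hNN'a, hNN'a] at h2
      exact h2
    have hsurj := LinearMap.injective_iff_surjective.mp hinj
    intro x hx
    obtain ⟨y, hy⟩ := hsurj ⟨x, hx⟩
    exact ⟨y.1, y.2, congrArg Subtype.val hy⟩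
  have hA : ∀ x ∈ LinearMap.ker (f - 1), N x ∈ LinearMap.ker (f - 1) := by
    intro x hx
    obtain ⟨y, hy, hyx⟩ := hAsurj x hx
    rw [← hyx, hNN'a]
    exact hy
  have hp1 : p.eval 1 ≠ 0 := by
    intro h0
    have hne : (LinearMap.ker (f - 1)) ≠ ⊥ := by
      intro hbot
      have h1 := hs.one
      rw [hbot, finrank_bot] at h1
      exact zero_ne_one h1
    obtain ⟨y, hy, hy0⟩ := (Submodule.ne_bot_iff _).mp hne
    have h2 : aeval f p y = 0 := by
      rw [reela15_aeval_fix f p y ((hmemA y).mp hy), h0, zero_smul]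
    have h3 : y ∈ LinearMap.ker (f - 1) ⊓ LinearMap.ker (aeval f p) := ⟨hy, LinearMap.mem_ker.mpr h2⟩
    rw [hs.compl.inf_eq_bot] at h3
    exact hy0 ((Submodule.mem_bot F).mp h3)
  have hpcomm : Commute (aeval h p) (aeval f p) := by
    have h1 : Commute h (aeval f p) := reela15_commute_aeval h f hcomm p
    exact (reela15_commute_aeval (aeval f p) h h1.symm p).symm
  have hker : ∀ x : V, aeval h p x = 0 → x ∈ LinearMap.ker (aeval f p) := by
    intro x hx
    have hx' : x ∈ LinearMap.ker (f - 1) ⊔ LinearMap.ker (aeval f p) := by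
      rw [hs.compl.sup_eq_top]
      exact Submodule.mem_top
    obtain ⟨y, hy, z, hz, hyz⟩ := Submodule.mem_sup.mp hx'
    have h1 : aeval h p y = p.eval 1 • y := reela15_aeval_fix h p y (hfix y hy)
    have h2 : aeval h p z ∈ LinearMap.ker (aeval f p) := by
      rw [LinearMap.mem_ker, ← Module.End.mul_apply, ← hpcomm.eq, Module.End.mul_apply,
        LinearMap.mem_ker.mp hz, map_zero]
    have h3 : p.eval 1 • y + aeval h p z = 0 := by
      rw [← h1, ← map_add, hyz, hx]
    have h4 : p.eval 1 • y ∈ LinearMap.ker (f - 1) ⊓ LinearMap.ker (aeval f p) := by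
      refine ⟨Submodule.smul_mem _ _ hy, ?_⟩
      have h5 : p.eval 1 • y = -(aeval h p z) := eq_neg_of_add_eq_zero_left h3
      rw [h5]
      exact Submodule.neg_mem _ h2
    rw [hs.compl.inf_eq_bot] at h4
    have h6 : p.eval 1 • y = 0 := (Submodule.mem_bot F).mp h4
    have h7 : y = 0 := by
      rcases smul_eq_zero.mp h6 with h8 | h8
      · exact absurd h8 hp1
      · exact h8
    rw [h7, zero_add] at hyz
    rw [← hyz]
    exact hz
  have hconj : aeval h p = N * aeval f p * N' := by
    rw [← hh]
    exact reela15_aeval_conj N N' f hNN' hN'N p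
  have hW : ∀ x ∈ LinearMap.ker (aeval f p), N x ∈ LinearMap.ker (aeval f p) := by
    intro x hx
    apply hker
    rw [hconj, Module.End.mul_apply, Module.End.mul_apply, hN'Na, LinearMap.mem_ker.mp hx, map_zero]
  have hWsurj : ∀ x ∈ LinearMap.ker (aeval f p), ∃ y ∈ LinearMap.ker (aeval f p), N y = x := by
    have hinj : Function.Injective (N.restrict hW) := by
      intro y z hyz
      apply Subtype.ext
      have h1 : N (y : V) = N (z : V) := congrArg Subtype.val hyz
      have h2 := congrArg N' h1
      rw [hN'Na, hN'Na] at h2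
      exact h2
    have hsurj := LinearMap.injective_iff_surjective.mp hinj
    intro x hx
    obtain ⟨y, hy⟩ := hsurj ⟨x, hx⟩
    exact ⟨y.1, y.2, congrArg Subtype.val hy⟩
  have hW' : ∀ x ∈ LinearMap.ker (aeval f p), N' x ∈ LinearMap.ker (aeval f p) := by
    intro x hx
    obtain ⟨y, hy, hyx⟩ := hWsurj x hx
    rw [← hyx, hN'Na]
    exact hy
  exact ⟨fun x hx => ⟨hA x hx, hA' x hx⟩, fun x hx => ⟨hW x hx, hW' x hx⟩⟩

end general

end Cfsg.Agent.Lib.helper7.REE
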