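import Mathlib
import Cfsg.Agent.Lib.helper7.REE.Defs
import Cfsg.Agent.Lib.Helper29.REEARA
import Cfsg.Agent.Lib.Helper29.REEARB

set_option autoImplicit false
set_option linter.unusedVariables false
set_option linter.unusedSectionVars false

namespace Cfsg.Agent.Lib.Lead.RES

open Matrix Cfsg.Agent.Lib.helper8 Cfsg.Agent.Lib.helper7.REE

universe u v

theorem restra_pow (r k c g : ℕ) (hr : r.Prime) (hrk : r ∣ k) (hg : g = k * c) (hkc : Nat.Coprime k c) :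
    ∀ j : ℕ, r ^ j ∣ g → r ^ j ∣ k := by
  intro j hj
  have h1 : Nat.Coprime r c := Nat.Coprime.coprime_dvd_left hrk hkc
  have h2 : Nat.Coprime (r ^ j) c := h1.pow_left j
  rw [hg] at hj
  exact h2.dvd_of_dvd_mul_right hj

theorem restra_core (q k1 k2 k3 k4 N g r : ℕ) (hr : r.Prime) (hr3 : 3 < r) (hq : ∃ e : ℕ, q = 3 ^ e)
    (hN : N = k4 * k3) (hgg : g = q ^ 3 * (q - 1) * (q + 1) * N) (h2k1 : 2 * k1 = q - 1)
    (h4k2 : 4 * k2 = q + 1) (c2 : N.Coprime q) (c3 : N.Coprime (q - 1)) (c4 : N.Coprime (q + 1))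
    (c5 : k4.Coprime k3) (c6 : k2.Coprime 6) (c7 : k2.Coprime q) (c8 : k2.Coprime (q - 1))
    (c9 : k1.Coprime 6) (c10 : k1.Coprime q) (c11 : k1.Coprime (q + 1)) (hd : r ∣ g) :
    ∃ k : ℕ, (k = k1 ∨ k = k2 ∨ k = k3 ∨ k = k4) ∧ r ∣ k ∧ ∀ j : ℕ, r ^ j ∣ g → r ^ j ∣ k := by
  have hr2 : ¬ r ∣ 2 := by
    intro h
    have := Nat.le_of_dvd (by norm_num) h
    omega
  have hr3' : ¬ r ∣ 3 := by
    intro h
    have := Nat.le_of_dvd (by norm_num) h
    omega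
  have hrq : ¬ r ∣ q := by
    intro h
    obtain ⟨e, he⟩ := hq
    rw [he] at h
    exact hr3' (hr.dvd_of_dvd_pow h)
  have k1_2 : Nat.Coprime k1 2 := Nat.Coprime.coprime_dvd_right (by norm_num : 2 ∣ 6) c9
  have k2_2 : Nat.Coprime k2 2 := Nat.Coprime.coprime_dvd_right (by norm_num : 2 ∣ 6) c6
  have k2_4 : Nat.Coprime k2 4 := by
    have : (4 : ℕ) = 2 ^ 2 := by norm_num
    rw [this]
    exact k2_2.pow_right 2
  have k1_q3 : Nat.Coprime k1 (q ^ 3) := c10.pow_right 3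
  have k2_q3 : Nat.Coprime k2 (q ^ 3) := c7.pow_right 3
  have k1_dvd : k1 ∣ q - 1 := ⟨2, by rw [← h2k1]; ring⟩
  have k2_dvd : k2 ∣ q + 1 := ⟨4, by rw [← h4k2]; ring⟩
  have k3_dvd : k3 ∣ N := ⟨k4, by rw [hN]; ring⟩
  have k4_dvd : k4 ∣ N := ⟨k3, by rw [hN]⟩
  have k1_N : Nat.Coprime k1 N := (Nat.Coprime.coprime_dvd_right k1_dvd c3).symm
  have k2_N : Nat.Coprime k2 N := (Nat.Coprime.coprime_dvd_right k2_dvd c4).symm
  have N_q3 : Nat.Coprime N (q ^ 3) := c2.pow_right 3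
  rw [hgg] at hd
  rcases (Nat.Prime.dvd_mul hr).mp hd with h | h
  · rcases (Nat.Prime.dvd_mul hr).mp h with h | h
    · rcases (Nat.Prime.dvd_mul hr).mp h with h | h
      · exact absurd (hr.dvd_of_dvd_pow h) hrq
      · rw [← h2k1] at h
        rcases (Nat.Prime.dvd_mul hr).mp h with h | h
        · exact absurd h hr2
        · refine ⟨k1, Or.inl rfl, h, ?_⟩
          apply restra_pow r k1 (q ^ 3 * 2 * (q + 1) * N) g hr h
          · rw [hgg, ← h2k1]; ring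
          · exact ((k1_q3.mul_right k1_2).mul_right c11).mul_right k1_N
    · rw [← h4k2] at h
      rcases (Nat.Prime.dvd_mul hr).mp h with h | h
      · exfalso
        have : (4 : ℕ) = 2 ^ 2 := by norm_num
        rw [this] at h
        exact hr2 (hr.dvd_of_dvd_pow h)
      · refine ⟨k2, Or.inr (Or.inl rfl), h, ?_⟩
        apply restra_pow r k2 (q ^ 3 * (q - 1) * 4 * N) g hr h
        · rw [hgg, ← h4k2]; ring
        · exact ((k2_q3.mul_right c8).mul_right k2_4).mul_right k2_N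
  · rw [hN] at h
    rcases (Nat.Prime.dvd_mul hr).mp h with h | h
    · refine ⟨k4, Or.inr (Or.inr (Or.inr rfl)), h, ?_⟩
      apply restra_pow r k4 (q ^ 3 * (q - 1) * (q + 1) * k3) g hr h
      · rw [hgg, hN]; ring
      · have a1 : Nat.Coprime k4 (q ^ 3) := Nat.Coprime.coprime_dvd_left k4_dvd N_q3
        have a2 : Nat.Coprime k4 (q - 1) := Nat.Coprime.coprime_dvd_left k4_dvd c3
        have a3 : Nat.Coprime k4 (q + 1) := Nat.Coprime.coprime_dvd_left k4_dvd c4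
        exact ((a1.mul_right a2).mul_right a3).mul_right c5
    · refine ⟨k3, Or.inr (Or.inr (Or.inl rfl)), h, ?_⟩
      apply restra_pow r k3 (q ^ 3 * (q - 1) * (q + 1) * k4) g hr h
      · rw [hgg, hN]; ring
      · have a1 : Nat.Coprime k3 (q ^ 3) := Nat.Coprime.coprime_dvd_left k3_dvd N_q3
        have a2 : Nat.Coprime k3 (q - 1) := Nat.Coprime.coprime_dvd_left k3_dvd c3
        have a3 : Nat.Coprime k3 (q + 1) := Nat.Coprime.coprime_dvd_left k3_dvd c4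
        exact ((a1.mul_right a2).mul_right a3).mul_right c5.symm

theorem odd_arith (m : ℕ) (r : ℕ) (hr : r.Prime) (hr3 : 3 < r) (hd : r ∣ gg m) :
    ∃ k : ℕ, (k = (qq m - 1) / 2 ∨ k = (qq m + 1) / 4 ∨ k = qq m - rr m + 1 ∨ k = qq m + rr m + 1) ∧
      r ∣ k ∧ ∀ j : ℕ, r ^ j ∣ gg m → r ^ j ∣ k := by
  obtain ⟨-, -, -, -, -, hN, -, hgg, -, h2k1, -, h4k2, -⟩ := ar_basic m
  obtain ⟨c1, c2, c3, c4, c5, c6, c7, c8, c9, c10, c11, -, -, -⟩ := ar_coprime m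
  exact restra_core (qq m) ((qq m - 1) / 2) ((qq m + 1) / 4) (qq m - rr m + 1) (qq m + rr m + 1)
    (nn m) (gg m) r hr hr3 ⟨2 * m + 1, rfl⟩ hN hgg h2k1 h4k2 c2 c3 c4 c5 c6 c7 c8 c9 c10 c11 hd

end Cfsg.Agent.Lib.Lead.RES
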