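import Mathlib
import Cfsg.Agent.Lib.helper7.REE.Defs

set_option autoImplicit false
set_option linter.unusedVariables false
set_option linter.unusedSectionVars false

namespace Cfsg.Agent.Lib.Lead.RES

open Matrix Cfsg.Agent.Lib.helper8 Cfsg.Agent.Lib.helper7.REE
open scoped Pointwise

universe u v

theorem conj_into_hall {G : Type u} [Group G] [Finite G] (A : Subgroup G) (r : ℕ) (hr : r.Prime)
    (hfull : ∀ j : ℕ, r ^ j ∣ Nat.card G → r ^ j ∣ Nat.card A) (M : Subgroup G) (hM : IsPGroup r M) :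
    ∃ g : G, ∀ x ∈ M, g * x * g⁻¹ ∈ A := by
  have hfact : Fact r.Prime := ⟨hr⟩
  obtain ⟨PA⟩ : Nonempty (Sylow r A) := Sylow.nonempty
  have hcardPA : Nat.card (PA : Subgroup A) = r ^ (Nat.card A).factorization r :=
    Sylow.card_eq_multiplicity PA
  obtain ⟨P0, hP0⟩ : ∃ P0 : Subgroup G, P0 = (PA : Subgroup A).map A.subtype := ⟨_, rfl⟩
  have hcardP0 : Nat.card P0 = Nat.card (PA : Subgroup A) := by
    rw [hP0]
    exact Subgroup.card_map_of_injective A.subtype_injective
  have hfac : (Nat.card A).factorization r = (Nat.card G).factorization r := by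
    apply le_antisymm
    · exact (Nat.factorization_le_iff_dvd Nat.card_pos.ne' Nat.card_pos.ne').mpr
        (Subgroup.card_subgroup_dvd_card A) r
    · have h1 := hfull _ (Nat.ordProj_dvd (Nat.card G) r)
      exact (hr.pow_dvd_iff_le_factorization Nat.card_pos.ne').mp h1
  obtain ⟨P0', hP0'⟩ : ∃ P0' : Sylow r G, (P0' : Subgroup G) = P0 :=
    ⟨Sylow.ofCard P0 (by rw [hcardP0, hcardPA, hfac]), rfl⟩
  obtain ⟨P, hP⟩ := hM.exists_le_sylow
  obtain ⟨g, hg⟩ := MulAction.exists_smul_eq G P P0'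
  refine ⟨g, fun x hx => ?_⟩
  have hxP : x ∈ (P : Subgroup G) := hP hx
  have h2 := Subgroup.smul_mem_pointwise_smul x (MulAut.conj g) (P : Subgroup G) hxP
  rw [MulAut.smul_def, MulAut.conj_apply] at h2
  have h3 : ((g • P : Sylow r G) : Subgroup G) = MulAut.conj g • (P : Subgroup G) :=
    Sylow.pointwise_smul_def
  rw [← h3, hg, hP0', hP0] at h2
  obtain ⟨y, hy, hyx⟩ := Subgroup.mem_map.mp h2
  rw [← hyx]
  exact y.2

end Cfsg.Agent.Lib.Lead.RES
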