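import Mathlib
import Cfsg.Prelude.Def_Blocks
import Cfsg.Agent.Lib.Helper24.FSCount
import Cfsg.Agent.Lib.helper7.ClassSum

set_option autoImplicit false
set_option linter.style.haveILetI false

namespace Cfsg.Agent.Lib.Helper24

open Cfsg.Agent.Lib.Helper25 Cfsg.Agent.Lib.helper7

theorem bf_of_index_two {G : Type*} [Group G] [Finite G] (H : Subgroup G) (hH : H.index = 2)
    (hg : 2 < Nat.card G) : H ≠ ⊤ ∧ Nat.card G < Nat.card H ^ 3 := by
  constructor
  · intro h
    rw [h, Subgroup.index_top] at hH
    omega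
  · have h1 := Subgroup.card_mul_index H
    rw [hH] at h1
    set c := Nat.card H with hc
    rw [← h1]
    have hc2 : 2 ≤ c := by omega
    nlinarith [Nat.mul_le_mul hc2 hc2]

theorem bf_conj_order {G : Type*} [Group G] (g u : G) : orderOf (g * u * g⁻¹) = orderOf u := by
  have := orderOf_injective (MulAut.conj g).toMonoidHom (MulAut.conj g).injective u
  simpa using this

theorem bf_centralizer_ne_top {G : Type*} [Group G] (hZ : Subgroup.center G = ⊥) (x : G)
    (hx : x ≠ 1) : Subgroup.centralizer ({x} : Set G) ≠ ⊤ := by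
  intro h
  apply hx
  have : x ∈ Subgroup.center G := by
    rw [Subgroup.mem_center_iff]
    intro g
    have hg : g ∈ Subgroup.centralizer ({x} : Set G) := by rw [h]; exact Subgroup.mem_top g
    rw [Subgroup.mem_centralizer_iff] at hg
    exact (hg x rfl).symm
  rw [hZ, Subgroup.mem_bot] at this
  exact this

theorem bf_arith (g m c i t k : ℕ) (hk : k * m = g) (hkt : k ≤ t) (hci : c * i = g)
    (hit : i * t ^ 2 < g ^ 2) (hm : m ^ 3 ≤ g) (hg : 0 < g) : g < c ^ 3 := by
  have hgtm : g ≤ t * m := by rw [← hk]; exact Nat.mul_le_mul_right m hkt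
  have h1 : i * g ^ 2 ≤ i * (t * m) ^ 2 := by
    apply Nat.mul_le_mul_left
    exact Nat.pow_le_pow_left hgtm 2
  have h2 : i * (t * m) ^ 2 = (i * t ^ 2) * m ^ 2 := by ring
  have hmpos : 0 < m := by
    rcases Nat.eq_zero_or_pos m with h | h
    · rw [h, mul_zero] at hk; omega
    · exact h
  have h3 : (i * t ^ 2) * m ^ 2 < g ^ 2 * m ^ 2 := by
    apply Nat.mul_lt_mul_of_pos_right hit
    positivity
  have h4 : i * g ^ 2 < m ^ 2 * g ^ 2 := by
    calc i * g ^ 2 ≤ i * (t * m) ^ 2 := h1
      _ = (i * t ^ 2) * m ^ 2 := h2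
      _ < g ^ 2 * m ^ 2 := h3
      _ = m ^ 2 * g ^ 2 := by ring
  have h5 : i < m ^ 2 := lt_of_mul_lt_mul_right h4 (Nat.zero_le _)
  have hcpos : 0 < c := by
    rcases Nat.eq_zero_or_pos c with h | h
    · rw [h, zero_mul] at hci; omega
    · exact h
  have h6 : g < c * m ^ 2 := by
    rw [← hci]
    exact Nat.mul_lt_mul_of_pos_left h5 hcpos
  have h7 : g ^ 3 < (c * m ^ 2) ^ 3 := Nat.pow_lt_pow_left h6 (by norm_num)
  have h8 : (c * m ^ 2) ^ 3 = c ^ 3 * (m ^ 3) ^ 2 := by ring
  have h9 : (m ^ 3) ^ 2 ≤ g ^ 2 := Nat.pow_le_pow_left hm 2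
  have h10 : g ^ 3 < c ^ 3 * g ^ 2 := by
    calc g ^ 3 < (c * m ^ 2) ^ 3 := h7
      _ = c ^ 3 * (m ^ 3) ^ 2 := h8
      _ ≤ c ^ 3 * g ^ 2 := Nat.mul_le_mul_left _ h9
  have h11 : g * g ^ 2 < c ^ 3 * g ^ 2 := by
    calc g * g ^ 2 = g ^ 3 := by ring
      _ < c ^ 3 * g ^ 2 := h10
  exact lt_of_mul_lt_mul_right h11 (Nat.zero_le _)

theorem bf_center_trivial {G : Type*} [Group G] [Finite G] (heven : Even (Nat.card G))
    (hZ : Subgroup.center G = ⊥) :
    ∃ H : Subgroup G, H ≠ ⊤ ∧ Nat.card G < Nat.card H ^ 3 := by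
  classical
  haveI : Fintype G := Fintype.ofFinite G
  haveI : Fintype (Cfsg.IrrCharacter G) := Fintype.ofFinite _
  have h2dvd : 2 ∣ Nat.card G := heven.two_dvd
  have hg2 : 2 ≤ Nat.card G := Nat.le_of_dvd Nat.card_pos h2dvd
  haveI : Fact (Nat.Prime 2) := ⟨Nat.prime_two⟩
  obtain ⟨u₀, hu₀⟩ := exists_prime_orderOf_dvd_card' (G := G) 2 h2dvd
  have htpos : 0 < Nat.card {x : G // orderOf x = 2} :=
    Nat.card_pos_iff.mpr ⟨⟨⟨u₀, hu₀⟩⟩, inferInstance⟩
  set I := Finset.univ.filter (fun x : G => orderOf x = 2) with hI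
  have hIne : I.Nonempty := ⟨u₀, by rw [hI, Finset.mem_filter]; exact ⟨Finset.mem_univ _, hu₀⟩⟩
  obtain ⟨u, huI, humax⟩ := Finset.exists_max_image I
    (fun x => Nat.card (Subgroup.centralizer ({x} : Set G))) hIne
  have hu : orderOf u = 2 := (Finset.mem_filter.mp huI).2
  have hu1 : u ≠ 1 := by
    intro h; rw [h, orderOf_one] at hu; omega
  set m := Nat.card (Subgroup.centralizer ({u} : Set G)) with hm
  by_cases hcase : Nat.card G < m ^ 3
  · exact ⟨_, bf_centralizer_ne_top hZ u hu1, hcase⟩
  · have hm3 : m ^ 3 ≤ Nat.card G := not_lt.mp hcase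
    obtain ⟨x, hx1, hx⟩ := fs_exists_small_class (G := G) htpos hg2
    refine ⟨_, bf_centralizer_ne_top hZ x hx1, ?_⟩
    set t := Nat.card {x : G // orderOf x = 2} with ht
    set i := (Subgroup.centralizer ({x} : Set G)).index with hi
    have hk := h7_card_class_mul_card_centralizer u
    have hkt : Nat.card {y : G // IsConj u y} ≤ t := by
      rw [ht]
      apply Nat.card_le_card_of_injective
        (fun y : {y : G // IsConj u y} => (⟨y.1, by
          obtain ⟨c, hc⟩ := isConj_iff.mp y.2
          rw [← hc, bf_conj_order, hu]⟩ : {x : G // orderOf x = 2}))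
      intro a b hab
      apply Subtype.ext
      have := congrArg (fun z : {x : G // orderOf x = 2} => z.1) hab
      exact this
    have hci := Subgroup.card_mul_index (Subgroup.centralizer ({x} : Set G))
    have hit : i * t ^ 2 < Nat.card G ^ 2 := by
      have h1 : ((i * t ^ 2 : ℕ) : ℤ) ≤ ((Nat.card G : ℤ) - 1) ^ 2 := by
        push_cast
        exact hx
      have h2 : ((Nat.card G : ℤ) - 1) ^ 2 < ((Nat.card G : ℕ) : ℤ) ^ 2 := by
        have : (2 : ℤ) ≤ (Nat.card G : ℤ) := by exact_mod_cast hg2
        nlinarith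
      have h3 : ((i * t ^ 2 : ℕ) : ℤ) < ((Nat.card G ^ 2 : ℕ) : ℤ) := by
        push_cast
        push_cast at h1
        exact lt_of_le_of_lt h1 h2
      exact_mod_cast h3
    exact bf_arith (Nat.card G) m _ i t _ hk hkt hci hit hm3 Nat.card_pos

theorem bf_two_odd {G : Type*} [Group G] [Finite G] (q : ℕ) (hq : Odd q)
    (hg : Nat.card G = 2 * q) : ∃ K : Subgroup G, K.index = 2 := by
  haveI : Fact (Nat.Prime 2) := ⟨Nat.prime_two⟩
  have hqpos : q ≠ 0 := by
    rintro rfl
    simp at hq
  have hq2 : ¬ 2 ∣ q := by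
    intro h
    exact (Nat.not_even_iff_odd.mpr hq) (even_iff_two_dvd.mpr h)
  obtain P : Sylow 2 G := default
  have hPcard : Nat.card P = 2 := by
    rw [Sylow.card_eq_multiplicity, hg, Nat.factorization_mul (by norm_num) hqpos]
    simp [Nat.Prime.factorization_self Nat.prime_two, Nat.factorization_eq_zero_of_not_dvd hq2]
  have hPc : IsCyclic P := isCyclic_of_prime_card hPcard
  have hp : (Nat.card G).minFac = 2 := by
    rw [Nat.minFac_eq_two_iff, hg]
    exact dvd_mul_right 2 q
  have hcomp := IsCyclic.isComplement' hp hPc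
  exact ⟨_, hcomp.symm.index_eq_card.trans hPcard⟩

theorem bf_central_normal {G : Type*} [Group G] (z : G) (hz : z ∈ Subgroup.center G) :
    (Subgroup.zpowers z).Normal := by
  constructor
  intro n hn g
  obtain ⟨k, rfl⟩ := Subgroup.mem_zpowers_iff.mp hn
  have hzk : z ^ k ∈ Subgroup.center G := Subgroup.zpow_mem _ hz k
  rw [Subgroup.mem_center_iff] at hzk
  rw [hzk g, mul_inv_cancel_right]
  exact Subgroup.zpow_mem_zpowers z k

theorem bf_main : ∀ (n : ℕ) (G : Type*) [Group G] [Finite G], Nat.card G = n → Even n → 2 < n →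
    ∃ H : Subgroup G, H ≠ ⊤ ∧ Nat.card G < Nat.card H ^ 3 := by
  intro n
  induction n using Nat.strong_induction_on with
  | _ n ih =>
    intro G _ _ hn heven hgt
    by_cases hZ : Subgroup.center G = ⊥
    · exact bf_center_trivial (by rw [hn]; exact heven) hZ
    · have hZcard : Nat.card (Subgroup.center G) ≠ 1 := by
        intro h
        exact hZ (Subgroup.card_eq_one.mp h)
      obtain ⟨p, hp, hpdvd⟩ := Nat.exists_prime_and_dvd hZcard
      haveI : Fact p.Prime := ⟨hp⟩
      obtain ⟨z, hz⟩ := exists_prime_orderOf_dvd_card' p hpdvd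
      have hz' : orderOf (z : G) = p := by rw [Subgroup.orderOf_coe]; exact hz
      haveI hN : (Subgroup.zpowers (z : G)).Normal := bf_central_normal (z : G) z.2
      set N := Subgroup.zpowers (z : G) with hNdef
      have hNcard : Nat.card N = p := by rw [hNdef, Nat.card_zpowers, hz']
      set q := Nat.card (G ⧸ N) with hq
      have hgpq : p * q = n := by
        rw [← hn, ← hNcard, hq, ← Subgroup.index_eq_card]
        exact Subgroup.card_mul_index N
      have hqpos : 0 < q := Nat.card_pos
      rcases Nat.even_or_odd q with hqe | hqo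
      · rcases Nat.lt_or_ge 2 q with hq2 | hq2
        · have hqn : q < n := by
            rw [← hgpq]
            have := hp.two_le
            nlinarith
          obtain ⟨H', hH'top, hH'⟩ := ih q hqn (G ⧸ N) rfl hqe hq2
          refine ⟨H'.comap (QuotientGroup.mk' N), ?_, ?_⟩
          · intro htop
            apply hH'top
            have := Subgroup.map_comap_eq_self_of_surjective (QuotientGroup.mk'_surjective N) H'
            rw [htop, ← MonoidHom.range_eq_map,
              MonoidHom.range_eq_top.mpr (QuotientGroup.mk'_surjective N)] at this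
            exact this.symm
          · have hidx : (H'.comap (QuotientGroup.mk' N)).index = H'.index :=
              Subgroup.index_comap_of_surjective H' (QuotientGroup.mk'_surjective N)
            have h1 := Subgroup.card_mul_index (H'.comap (QuotientGroup.mk' N))
            have h2 := Subgroup.card_mul_index H'
            rw [hidx, hn] at h1
            rw [← hq] at h2
            have hipos : 0 < H'.index := Nat.pos_of_ne_zero Subgroup.index_ne_zero_of_finite
            have h3 : Nat.card (H'.comap (QuotientGroup.mk' N)) = p * Nat.card H' := by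
              apply Nat.eq_of_mul_eq_mul_right hipos
              rw [h1, mul_assoc, h2, hgpq]
            rw [h3, hn, ← hgpq, mul_pow]
            have hp2 := hp.two_le
            have h4 : p * q < p * Nat.card H' ^ 3 := by
              apply Nat.mul_lt_mul_of_pos_left _ hp.pos
              rw [hq]; exact hH'
            have h5 : p * Nat.card H' ^ 3 ≤ p ^ 3 * Nat.card H' ^ 3 := by
              apply Nat.mul_le_mul_right
              calc p = p ^ 1 := (pow_one p).symm
                _ ≤ p ^ 3 := Nat.pow_le_pow_right hp.pos (by norm_num)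
            omega
        · have hq2' : q = 2 := by
            obtain ⟨c, hc⟩ := hqe
            omega
          have hidx : N.index = 2 := by rw [Subgroup.index_eq_card, ← hq, hq2']
          exact ⟨N, bf_of_index_two N hidx (by rw [hn]; exact hgt)⟩
      · have hp2 : p = 2 := by
          have h2dvd : 2 ∣ p * q := by rw [hgpq]; exact heven.two_dvd
          rcases (Nat.Prime.dvd_mul Nat.prime_two).mp h2dvd with h | h
          · exact ((Nat.prime_dvd_prime_iff_eq Nat.prime_two hp).mp h).symm
          · exfalso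
            exact (Nat.not_even_iff_odd.mpr hqo) (even_iff_two_dvd.mpr h)
        obtain ⟨K, hK⟩ := bf_two_odd q hqo (by rw [hn, ← hgpq, hp2])
        exact ⟨K, bf_of_index_two K hK (by rw [hn]; exact hgt)⟩

end Cfsg.Agent.Lib.Helper24
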