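import Mathlib
import Cfsg.Agent.Lib.Helper24.SCH.Defs
import Cfsg.Agent.Lib.helper4.MinNonNilpC

set_option autoImplicit false

namespace Cfsg.Agent.Lib.Helper24.SCH

universe u

section X

variable {X : Type u} [Group X] [Finite X] {p : ℕ} [Fact p.Prime]

theorem schx_nilp_of_commute (H K : Subgroup X) (hH : Group.IsNilpotent H)
    (hK : Group.IsNilpotent K) (hcomm : ∀ h ∈ H, ∀ k ∈ K, h * k = k * h) (hsup : H ⊔ K = ⊤) :
    Group.IsNilpotent X := by
  have comm : ∀ (m : ↥H) (n : ↥K), Commute (H.subtype m) (K.subtype n) :=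
    fun m n => hcomm m.1 m.2 n.1 n.2
  have hsurj : Function.Surjective (MonoidHom.noncommCoprod H.subtype K.subtype comm) := by
    rw [← MonoidHom.range_eq_top, MonoidHom.noncommCoprod_range, Subgroup.range_subtype,
      Subgroup.range_subtype, hsup]
  exact Group.nilpotent_of_surjective _ hsurj

theorem schx_pgroup_nilp {q : ℕ} [Fact q.Prime] (H : Subgroup X) (hH : IsPGroup q H) :
    Group.IsNilpotent H := hH.isNilpotent

theorem sch_compl (hX : Cfsg.IsMinimalNonNilpotent X) (P : Sylow p X)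
    (hPn : (P : Subgroup X).Normal) (hP1 : (P : Subgroup X) ≠ ⊥) :
    ∃ (q : ℕ) (c : X), q.Prime ∧ q ≠ p ∧ (∃ k : ℕ, c ^ q ^ k = 1) ∧
      (P : Subgroup X) ⊔ Subgroup.zpowers c = ⊤ := by
  have hp : p.Prime := Fact.out
  obtain ⟨p', q', hp', hq', hpq', P', Q', hcyc, hQn, hsup⟩ :=
    Cfsg.Agent.Lib.helper4.min_non_nilp_structure hX
  haveI : Fact p'.Prime := ⟨hp'⟩
  haveI : Fact q'.Prime := ⟨hq'⟩
  by_cases hpq : p = q'
  · subst hpq
    have hPQ : P = Q' := by
      haveI := Sylow.unique_of_normal P hPn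
      exact Subsingleton.elim _ _
    obtain ⟨g, hg⟩ := IsCyclic.exists_generator (α := ↥(P' : Subgroup X))
    have hz : Subgroup.zpowers (g : X) = (P' : Subgroup X) := by
      apply le_antisymm
      · rw [Subgroup.zpowers_le]; exact g.2
      · intro x hx
        obtain ⟨k, hk⟩ := Subgroup.mem_zpowers_iff.mp (hg ⟨x, hx⟩)
        rw [Subgroup.mem_zpowers_iff]
        refine ⟨k, ?_⟩
        have := congrArg Subtype.val hk
        simpa using this
    refine ⟨p', (g : X), hp', hpq', ?_, ?_⟩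
    · obtain ⟨k, hk⟩ := P'.isPGroup' g
      refine ⟨k, ?_⟩
      have := congrArg Subtype.val hk
      simpa using this
    · rw [hz, hPQ, sup_comm]
      exact hsup
  · exfalso
    have hquot : ∀ x : X, ∃ a ∈ (P' : Subgroup X), ∃ b ∈ (Q' : Subgroup X), x = a * b := by
      intro x
      have h1 : x ∈ ((P' : Subgroup X) ⊔ (Q' : Subgroup X) : Subgroup X) := by
        rw [hsup]; exact Subgroup.mem_top _
      rw [← SetLike.mem_coe, Subgroup.mul_normal] at h1
      obtain ⟨a, ha, b, hb, hab⟩ := Set.mem_mul.mp h1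
      exact ⟨a, ha, b, hb, hab.symm⟩
    have hdisj : (P : Subgroup X) ⊓ (Q' : Subgroup X) = ⊥ :=
      disjoint_iff.mp (IsPGroup.disjoint_of_ne p q' hpq _ _ P.2 Q'.2)
    have hpp' : p = p' := by
      by_contra hne
      apply hP1
      rw [eq_bot_iff, ← hdisj]
      intro x hx
      refine ⟨hx, ?_⟩
      obtain ⟨a, ha, b, hb, hab⟩ := hquot x
      obtain ⟨k, hk⟩ := P.isPGroup' ⟨x, hx⟩
      obtain ⟨k', hk'⟩ := P'.isPGroup' ⟨a, ha⟩
      have hk1 : x ^ p ^ k = 1 := by
        have := congrArg Subtype.val hk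
        simpa using this
      have hk2 : a ^ p' ^ k' = 1 := by
        have := congrArg Subtype.val hk'
        simpa using this
      have h1 : (QuotientGroup.mk' (Q' : Subgroup X)) x = (QuotientGroup.mk' (Q' : Subgroup X)) a := by
        have hb1 : (QuotientGroup.mk' (Q' : Subgroup X)) b = 1 := (QuotientGroup.eq_one_iff b).mpr hb
        rw [hab, map_mul, hb1, mul_one]
      have h2 : ((QuotientGroup.mk' (Q' : Subgroup X)) x) ^ p ^ k = 1 := by
        rw [← map_pow, hk1, map_one]
      have h3 : ((QuotientGroup.mk' (Q' : Subgroup X)) x) ^ p' ^ k' = 1 := by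
        rw [h1, ← map_pow, hk2, map_one]
      have h4 : orderOf ((QuotientGroup.mk' (Q' : Subgroup X)) x) ∣ 1 := by
        have hcop : Nat.Coprime (p ^ k) (p' ^ k') :=
          Nat.Coprime.pow k k' ((Nat.coprime_primes hp hp').mpr hne)
        rw [← hcop]
        exact Nat.dvd_gcd (orderOf_dvd_of_pow_eq_one h2) (orderOf_dvd_of_pow_eq_one h3)
      have h5 := orderOf_eq_one_iff.mp (Nat.dvd_one.mp h4)
      exact (QuotientGroup.eq_one_iff x).mp h5
    subst hpp'
    have hPP' : P' = P := by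
      haveI := Sylow.unique_of_normal P hPn
      exact Subsingleton.elim _ _
    rw [hPP'] at hsup
    have hcomm : ∀ h ∈ (P : Subgroup X), ∀ k ∈ (Q' : Subgroup X), h * k = k * h := by
      intro h hh k hk
      exact Subgroup.commute_of_normal_of_disjoint _ _ hPn hQn (disjoint_iff.mpr hdisj) h k hh hk
    exact hX.1 (schx_nilp_of_commute _ _ (schx_pgroup_nilp _ P.2) (schx_pgroup_nilp _ Q'.2)
      hcomm hsup)

end X

end Cfsg.Agent.Lib.Helper24.SCH
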