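import Mathlib
import Cfsg.Agent.Lib.Helper24.SCH.Defs
import Cfsg.Agent.Lib.Helper24.SCHX1

set_option autoImplicit false

namespace Cfsg.Agent.Lib.Helper24.SCH

universe u

section X

variable {X : Type u} [Group X] [Finite X] {p : ℕ} [Fact p.Prime]

theorem schx_inf (P : Sylow p X) {q : ℕ} (hq : q.Prime) (hqp : q ≠ p) (c : X)
    (hc : ∃ k : ℕ, c ^ q ^ k = 1) (y : X) (hyP : y ∈ (P : Subgroup X))
    (hyc : y ∈ Subgroup.zpowers c) : y = 1 := by
  have hp : p.Prime := Fact.out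
  obtain ⟨k, hk⟩ := hc
  obtain ⟨j, hj⟩ := P.isPGroup' ⟨y, hyP⟩
  have hj1 : y ^ p ^ j = 1 := by
    have := congrArg Subtype.val hj
    simpa using this
  have hk1 : y ^ q ^ k = 1 := by
    obtain ⟨i, rfl⟩ := Subgroup.mem_zpowers_iff.mp hyc
    rw [← zpow_natCast, ← zpow_mul, mul_comm, zpow_mul, zpow_natCast, hk, one_zpow]
  have h4 : orderOf y ∣ 1 := by
    have hcop : Nat.Coprime (p ^ j) (q ^ k) :=
      Nat.Coprime.pow j k ((Nat.coprime_primes hp hq).mpr (Ne.symm hqp))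
    rw [← hcop]
    exact Nat.dvd_gcd (orderOf_dvd_of_pow_eq_one hj1) (orderOf_dvd_of_pow_eq_one hk1)
  exact orderOf_eq_one_iff.mp (Nat.dvd_one.mp h4)

theorem sch_min (hX : Cfsg.IsMinimalNonNilpotent X) (P : Sylow p X)
    (hPn : (P : Subgroup X).Normal) {q : ℕ} (hq : q.Prime) (hqp : q ≠ p) (c : X)
    (hc : ∃ k : ℕ, c ^ q ^ k = 1) (hsup : (P : Subgroup X) ⊔ Subgroup.zpowers c = ⊤)
    (S : Subgroup X) (hSP : S ≤ (P : Subgroup X)) (hne : S ≠ (P : Subgroup X))
    (hinv : ∀ s ∈ S, c * s * c⁻¹ ∈ S) : ∀ s ∈ S, c * s * c⁻¹ = s := by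
  have hp : p.Prime := Fact.out
  haveI : Fact q.Prime := ⟨hq⟩
  have hcN : Subgroup.zpowers c ≤ Subgroup.normalizer (S : Set X) := by
    rw [Subgroup.zpowers_le]
    have hfin : ∀ s, s ∈ S ↔ c * s * c⁻¹ ∈ S := by
      have hinj : Function.Injective (fun s : ↥S => (⟨c * s * c⁻¹, hinv s s.2⟩ : ↥S)) := by
        intro a b hab
        have := congrArg Subtype.val hab
        simp only [mul_left_inj, mul_right_inj] at this
        exact Subtype.ext this
      have hsurj := Finite.surjective_of_injective hinj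
      intro s
      refine ⟨hinv s, fun h => ?_⟩
      obtain ⟨t, ht⟩ := hsurj ⟨_, h⟩
      have := congrArg Subtype.val ht
      simp only [mul_left_inj, mul_right_inj] at this
      rw [← this]
      exact t.2
    exact Subgroup.mem_normalizer_iff.mpr hfin
  have hHne : Subgroup.zpowers c ⊔ S ≠ ⊤ := by
    intro htop
    apply hne
    apply le_antisymm hSP
    intro x hxP
    have h1 : x ∈ (Subgroup.zpowers c ⊔ S : Subgroup X) := by rw [htop]; exact Subgroup.mem_top _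
    rw [← SetLike.mem_coe, Subgroup.coe_mul_of_left_le_normalizer_right _ _ hcN] at h1
    obtain ⟨z, hz, s, hs, hzs⟩ := Set.mem_mul.mp h1
    have hzP : z ∈ (P : Subgroup X) := by
      have : z = x * s⁻¹ := by rw [← hzs]; group
      rw [this]
      exact Subgroup.mul_mem _ hxP (Subgroup.inv_mem _ (hSP hs))
    have hz1 : z = 1 := schx_inf P hq hqp c hc z hzP hz
    rw [hz1, one_mul] at hzs
    rw [← hzs]
    exact hs
  haveI hnil : Group.IsNilpotent ↥(Subgroup.zpowers c ⊔ S) := hX.2 _ hHne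
  intro s hs
  obtain ⟨k, hk⟩ := hc
  obtain ⟨j, hj⟩ := P.isPGroup' ⟨s, hSP hs⟩
  have hj1 : s ^ p ^ j = 1 := by
    have := congrArg Subtype.val hj
    simpa using this
  have hcomm := Cfsg.Agent.Lib.helper4.nilp_commute_coprime (Subgroup.zpowers c ⊔ S) q p hqp c s
    ((le_sup_left : Subgroup.zpowers c ≤ _) (Subgroup.mem_zpowers c))
    ((le_sup_right : S ≤ _) hs) k j hk hj1
  rw [hcomm]
  group

theorem sch_powq (hX : Cfsg.IsMinimalNonNilpotent X) (P : Sylow p X)
    (hPn : (P : Subgroup X).Normal) {q : ℕ} (hq : q.Prime) (hqp : q ≠ p) (c : X)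
    (hc : ∃ k : ℕ, c ^ q ^ k = 1) (hsup : (P : Subgroup X) ⊔ Subgroup.zpowers c = ⊤) :
    ∀ y ∈ (P : Subgroup X), c ^ q * y * (c ^ q)⁻¹ = y := by
  have hp : p.Prime := Fact.out
  haveI : Fact q.Prime := ⟨hq⟩
  have hHne : (P : Subgroup X) ⊔ Subgroup.zpowers (c ^ q) ≠ ⊤ := by
    intro htop
    have h1 : c ∈ ((P : Subgroup X) ⊔ Subgroup.zpowers (c ^ q) : Subgroup X) := by
      rw [htop]; exact Subgroup.mem_top _
    rw [← SetLike.mem_coe, Subgroup.normal_mul] at h1
    obtain ⟨y, hy, z, hz, hyz⟩ := Set.mem_mul.mp h1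
    obtain ⟨i, hi⟩ := Subgroup.mem_zpowers_iff.mp hz
    have hyc : y = c ^ (1 - (q : ℤ) * i) := by
      have : y = c * z⁻¹ := by rw [← hyz]; group
      rw [this, ← hi, ← zpow_natCast, ← zpow_mul, zpow_sub, zpow_one]
    have hy1 : y = 1 := schx_inf P hq hqp c hc y hy (hyc ▸ Subgroup.zpow_mem_zpowers c _)
    rw [hy1] at hyc
    have hdvd : (orderOf c : ℤ) ∣ 1 - (q : ℤ) * i := orderOf_dvd_iff_zpow_eq_one.mpr hyc.symm
    have hc1 : c = 1 := by
      by_contra hcne
      obtain ⟨k, hk⟩ := hc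
      have h2 : orderOf c ∣ q ^ k := orderOf_dvd_of_pow_eq_one hk
      obtain ⟨m, -, hm⟩ := (Nat.dvd_prime_pow hq).mp h2
      have hm0 : m ≠ 0 := by
        intro h0
        rw [h0, pow_zero] at hm
        exact hcne (orderOf_eq_one_iff.mp hm)
      have h3 : (q : ℤ) ∣ (orderOf c : ℤ) := by
        rw [hm]
        exact_mod_cast dvd_pow_self q hm0
      have h4 : (q : ℤ) ∣ 1 - (q : ℤ) * i := h3.trans hdvd
      have h5 : (q : ℤ) ∣ 1 := by
        have h6 : (q : ℤ) ∣ (q : ℤ) * i := dvd_mul_right _ _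
        have := dvd_add h4 h6
        simpa using this
      have h7 : q ∣ 1 := by exact_mod_cast h5
      exact hq.one_lt.ne' (Nat.dvd_one.mp h7)
    apply hX.1
    have hPtop : (P : Subgroup X) = ⊤ := by
      rw [hc1, Subgroup.zpowers_one_eq_bot, sup_bot_eq] at hsup
      exact hsup
    have hXp : IsPGroup p X := by
      intro x
      obtain ⟨k, hk⟩ := P.isPGroup' ⟨x, by rw [hPtop]; exact Subgroup.mem_top _⟩
      refine ⟨k, ?_⟩
      have := congrArg Subtype.val hk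
      simpa using this
    exact hXp.isNilpotent
  haveI hnil : Group.IsNilpotent ↥((P : Subgroup X) ⊔ Subgroup.zpowers (c ^ q)) := hX.2 _ hHne
  intro y hy
  obtain ⟨k, hk⟩ := hc
  obtain ⟨j, hj⟩ := P.isPGroup' ⟨y, hy⟩
  have hj1 : y ^ p ^ j = 1 := by
    have := congrArg Subtype.val hj
    simpa using this
  have hk1 : (c ^ q) ^ q ^ k = 1 := by
    rw [← pow_mul, mul_comm, pow_mul, hk, one_pow]
  have hcomm := Cfsg.Agent.Lib.helper4.nilp_commute_coprime
    ((P : Subgroup X) ⊔ Subgroup.zpowers (c ^ q)) q p hqp (c ^ q) y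
    ((le_sup_right : Subgroup.zpowers (c ^ q) ≤ _) (Subgroup.mem_zpowers _))
    ((le_sup_left : (P : Subgroup X) ≤ _) hy) k j hk1 hj1
  rw [hcomm]
  group

theorem sch_ne (hX : Cfsg.IsMinimalNonNilpotent X) (P : Sylow p X)
    (hPn : (P : Subgroup X).Normal) {q : ℕ} (hq : q.Prime) (hqp : q ≠ p) (c : X)
    (hc : ∃ k : ℕ, c ^ q ^ k = 1) (hsup : (P : Subgroup X) ⊔ Subgroup.zpowers c = ⊤) :
    ¬ ∀ y ∈ (P : Subgroup X), c * y * c⁻¹ = y := by
  intro hall
  apply hX.1
  have hcomm : ∀ h ∈ (P : Subgroup X), ∀ k ∈ Subgroup.zpowers c, h * k = k * h := by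
    intro h hh k hk
    obtain ⟨i, rfl⟩ := Subgroup.mem_zpowers_iff.mp hk
    have h1 : Commute c h := by
      have := hall h hh
      change c * h = h * c
      calc c * h = c * h * c⁻¹ * c := by group
        _ = h * c := by rw [this]
    exact ((h1.zpow_left i).eq).symm
  have hnz : Group.IsNilpotent ↥(Subgroup.zpowers c) := by
    letI : CommGroup ↥(Subgroup.zpowers c) :=
      { (inferInstance : Group ↥(Subgroup.zpowers c)) with
        mul_comm := fun a b => mul_comm' a b }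
    exact CommGroup.isNilpotent
  exact schx_nilp_of_commute _ _ (schx_pgroup_nilp _ P.2) hnz hcomm hsup

end X

end Cfsg.Agent.Lib.Helper24.SCH
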