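import Mathlib
import Cfsg.Agent.Lib.Helper24.SCH.Defs
import Cfsg.Agent.Lib.Helper24.SCHX1
import Cfsg.Agent.Lib.Helper24.SCHX2

set_option autoImplicit false

namespace Cfsg.Agent.Lib.Helper24.SCH

universe u

section X

variable {X : Type u} [Group X] [Finite X] {p : ℕ} [Fact p.Prime]

theorem exists_schAct (hX : Cfsg.IsMinimalNonNilpotent X) (P : Sylow p X)
    (hPn : (P : Subgroup X).Normal) (hP1 : (P : Subgroup X) ≠ ⊥) :
    ∃ (q : ℕ) (α : MulAut ↥(P : Subgroup X)), SchAct p q ↥(P : Subgroup X) α := by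
  obtain ⟨q, c, hq, hqp, hc, hsup⟩ := sch_compl hX P hPn hP1
  haveI := hPn
  have hα : ∀ (g : X) (y : ↥(P : Subgroup X)),
      ((MulAut.conjNormal g y : ↥(P : Subgroup X)) : X) = g * y * g⁻¹ := fun g y => rfl
  refine ⟨q, MulAut.conjNormal c, ?_⟩
  refine ⟨P.isPGroup', hq, hqp, ?_, ?_, ?_⟩
  · rw [← map_pow]
    ext y
    rw [hα, MulAut.one_apply]
    exact sch_powq hX P hPn hq hqp c hc hsup y y.2
  · intro h1
    apply sch_ne hX P hPn hq hqp c hc hsup
    intro y hy
    have := congrArg (fun f : MulAut ↥(P : Subgroup X) => ((f ⟨y, hy⟩ : ↥(P : Subgroup X)) : X)) h1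
    simpa [hα] using this
  · intro S hinv hne s hs
    have hSP : S.map (P : Subgroup X).subtype ≤ (P : Subgroup X) := by
      rintro _ ⟨t, _, rfl⟩
      exact t.2
    have hne' : S.map (P : Subgroup X).subtype ≠ (P : Subgroup X) := by
      intro h
      apply hne
      rw [eq_top_iff]
      intro t _
      have ht : (t : X) ∈ S.map (P : Subgroup X).subtype := by rw [h]; exact t.2
      obtain ⟨t', ht', htt⟩ := ht
      have : t' = t := Subtype.ext htt
      rw [← this]
      exact ht'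
    have hinv' : ∀ s ∈ S.map (P : Subgroup X).subtype, c * s * c⁻¹ ∈ S.map (P : Subgroup X).subtype := by
      rintro _ ⟨t, ht, rfl⟩
      exact ⟨MulAut.conjNormal c t, hinv t ht, rfl⟩
    have := sch_min hX P hPn hq hqp c hc hsup _ hSP hne' hinv' (s : X) ⟨s, hs, rfl⟩
    apply Subtype.ext
    rw [hα]
    exact this

end X

end Cfsg.Agent.Lib.Helper24.SCH
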