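import Mathlib
import Cfsg.Agent.Lib.Helper24.SCH.Defs

set_option autoImplicit false

namespace Cfsg.Agent.Lib.Helper24.SCH

universe u v

section B

variable {A : Type u} [CommGroup A] [Finite A] {Γ : Type v} [Group Γ] [Finite Γ] {p : ℕ} [Fact p.Prime]

theorem schb1_iter (f : MulAut A) (Y : Subgroup A)
    (h1 : ∀ a : A, f a / a ∈ Y) (h2 : ∀ y ∈ Y, f y = y) (a : A) (n : ℕ) :
    (f ^ n) a = a * (f a / a) ^ n := by
  obtain ⟨y, hy⟩ : ∃ y, y = f a / a := ⟨_, rfl⟩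
  have hyY : y ∈ Y := hy ▸ h1 a
  have hfa : f a = a * y := by rw [hy, mul_div_cancel]
  rw [← hy]
  induction n with
  | zero => simp
  | succ n ih =>
    rw [pow_succ', MulAut.mul_apply, ih, map_mul, map_pow, h2 y hyY, hfa, pow_succ', mul_assoc]

theorem stab_chain (hA : IsPGroup p A) (f : MulAut A) (Y : Subgroup A)
    (h1 : ∀ a : A, f a / a ∈ Y) (h2 : ∀ y ∈ Y, f y = y) {q k : ℕ} (hq : q.Prime) (hqp : q ≠ p)
    (hf : f ^ q ^ k = 1) : f = 1 := by
  have hp : p.Prime := Fact.out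
  obtain ⟨j, hj⟩ := hA.exists_card_eq
  have hfA : f ^ (p ^ j) = 1 := by
    ext a
    rw [schb1_iter f Y h1 h2, ← hj, pow_card_eq_one', mul_one]
    rfl
  have h3 : orderOf f ∣ p ^ j := orderOf_dvd_of_pow_eq_one hfA
  have h4 : orderOf f ∣ q ^ k := orderOf_dvd_of_pow_eq_one hf
  have h5 : Nat.Coprime (p ^ j) (q ^ k) :=
    Nat.Coprime.pow j k ((Nat.coprime_primes hp hq).mpr (Ne.symm hqp))
  have h6 : orderOf f ∣ 1 := by
    rw [← h5]
    exact Nat.dvd_gcd h3 h4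
  exact orderOf_eq_one_iff.mp (Nat.dvd_one.mp h6)

end B

end Cfsg.Agent.Lib.Helper24.SCH
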