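import Mathlib
import Cfsg.Agent.Lib.Helper24.SCH.Defs
import Cfsg.Agent.Lib.Helper20.PLDerD
import Cfsg.Agent.Lib.Helper10.CoprimeGen

set_option autoImplicit false

namespace Cfsg.Agent.Lib.Helper24.SCH

universe u v

section B

variable {A : Type u} [CommGroup A] [Finite A] {Γ : Type v} [Group Γ] [Finite Γ] {p : ℕ} [Fact p.Prime]

theorem exists_hyp (hsolv : Cfsg.IsPSolvable p Γ) (hO : Cfsg.pCore p Γ = ⊥) (E : Subgroup Γ)
    (hE : Cfsg.IsElementaryAbelian p E) (hE2 : p ^ 2 ≤ Nat.card E) (c : Γ) (hc : c ∈ E) (hc1 : c ≠ 1) :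
    ∃ (q : ℕ) (B : Subgroup Γ) (l : Γ), q.Prime ∧ q ≠ p ∧ B ≤ E ∧ B.relIndex E = p ∧
      l ∈ Subgroup.centralizer (B : Set Γ) ∧ c * l * c⁻¹ * l⁻¹ ≠ 1 ∧
      ∃ k : ℕ, (c * l * c⁻¹ * l⁻¹) ^ q ^ k = 1 := by
  have hp : p.Prime := Fact.out
  have hEp : IsPGroup p E := Cfsg.Agent.Lib.Helper10.elemAb_isPGroup p hE
  obtain ⟨q, hq, hqp, R, hR, hER, z, hzR, hz⟩ :=
    Cfsg.Agent.Lib.Helper20.PLDer.exists_moved_inv hsolv hO E hEp c (hE.2 c hc) hc1
  have : Fact q.Prime := ⟨hq⟩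
  have hX : ¬ p ∣ Nat.card ↥R := by
    obtain ⟨n, hn⟩ := hR.exists_card_eq
    rw [hn]
    intro h
    have h1 := hp.dvd_of_dvd_pow h
    exact hqp ((Nat.prime_dvd_prime_iff_eq hp hq).mp h1).symm
  have hgen := Cfsg.Agent.Lib.Helper10.hyperplane_generation p E R hE hE2 hX hER
  by_contra hcon
  apply hz
  have hRc : R ≤ Subgroup.centralizer ({c} : Set Γ) := by
    rw [hgen]
    apply iSup_le
    rintro ⟨B, hBE, hBidx⟩ l hl
    obtain ⟨hlR, hlB⟩ := Subgroup.mem_inf.mp hl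
    rw [Subgroup.mem_centralizer_iff]
    intro c' hc'
    rw [Set.mem_singleton_iff] at hc'
    subst hc'
    by_contra hne
    apply hcon
    refine ⟨q, B, l, hq, hqp, hBE, hBidx, hlB, ?_, ?_⟩
    · intro h
      apply hne
      have h5 : c' * l * c'⁻¹ = l := by
        rw [← mul_inv_eq_one]
        exact h
      calc c' * l = c' * l * c'⁻¹ * c' := by group
        _ = l * c' := by rw [h5]
    · have hcN : c' ∈ Subgroup.normalizer (R : Set Γ) := hER hc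
      have h1 : c' * l * c'⁻¹ ∈ R := (Subgroup.mem_normalizer_iff.mp hcN l).mp hlR
      have h2 : c' * l * c'⁻¹ * l⁻¹ ∈ R := R.mul_mem h1 (R.inv_mem hlR)
      obtain ⟨k, hk⟩ := hR ⟨_, h2⟩
      refine ⟨k, ?_⟩
      have := congrArg Subtype.val hk
      simpa using this
  have h1 := Subgroup.mem_centralizer_iff.mp (hRc hzR) c (Set.mem_singleton c)
  rw [h1]
  group

end B

end Cfsg.Agent.Lib.Helper24.SCH
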