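import Mathlib
import Cfsg.Prelude.Def_Transfer
import Cfsg.Agent.Lib.Helper24.SCH.Defs
import Cfsg.Agent.Lib.Helper24.SCHB1

set_option autoImplicit false

namespace Cfsg.Agent.Lib.Helper24.SCH

universe u v

section B

variable {A : Type u} [CommGroup A] [Finite A] {Γ : Type v} [Group Γ] [Finite Γ] {p : ℕ} [Fact p.Prime]

def schb3_fix (ρ : Γ →* MulAut A) (B : Subgroup Γ) : Subgroup A where
  carrier := {a | ∀ b ∈ B, ρ b a = a}
  one_mem' := fun b _ => map_one _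
  mul_mem' := by
    intro x y hx hy b hb
    rw [map_mul, hx b hb, hy b hb]
  inv_mem' := by
    intro x hx b hb
    rw [map_inv, hx b hb]

theorem schb3_case2 (ρ : Γ →* MulAut A) (E B : Subgroup Γ) (hBE : B ≤ E) (Z D : Subgroup A)
    (hDZ : D ≤ Z) (hb : ∀ e ∈ E, ∀ z ∈ Z, ρ e z = z)
    (hcase : ∀ a : A, (∀ b ∈ B, ρ b a = a) → a ∈ Z) :
    ∃ Y : Subgroup A, D ≤ Y ∧ Y ≤ Z ∧
      ∀ g ∈ Subgroup.centralizer (B : Set Γ), ∀ y ∈ Y, ρ g y ∈ Y := by
  refine ⟨schb3_fix ρ B, ?_, ?_, ?_⟩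
  · intro d hd b hbB
    exact hb b (hBE hbB) d (hDZ hd)
  · intro a ha
    exact hcase a ha
  · intro g hg y hy b hbB
    have h1 : b * g = g * b := Subgroup.mem_centralizer_iff.mp hg b hbB
    have h2 : ρ b (ρ g y) = (ρ (b * g)) y := by rw [map_mul]; rfl
    rw [h2, h1, map_mul]
    change ρ g (ρ b y) = ρ g y
    rw [hy b hbB]

def schb3_K (ρ : Γ →* MulAut A) (E : Subgroup Γ) (Z D : Subgroup A) (hDZ : D ≤ Z)
    (ha : ∀ e ∈ E, ∀ a : A, ρ e a / a ∈ D) (hb : ∀ e ∈ E, ∀ z ∈ Z, ρ e z = z) (a : A) (W : Subgroup A) :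
    Subgroup Γ where
  carrier := {e | e ∈ E ∧ ρ e a / a ∈ W}
  one_mem' := by
    refine ⟨E.one_mem, ?_⟩
    rw [map_one, MulAut.one_apply, div_self']
    exact W.one_mem
  mul_mem' := by
    rintro x y ⟨hx, hx'⟩ ⟨hy, hy'⟩
    refine ⟨E.mul_mem hx hy, ?_⟩
    have h1 : ρ (x * y) a / a = (ρ x a / a) * (ρ y a / a) := by
      have h2 : ρ x (ρ y a / a) = ρ y a / a := hb x hx _ (hDZ (ha y hy a))
      have h3 : ρ (x * y) a = ρ x (ρ y a) := by rw [map_mul]; rfl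
      have h4 : ρ y a = a * (ρ y a / a) := by rw [mul_div_cancel]
      rw [h3]
      conv_lhs => rw [h4]
      rw [map_mul, h2]
      rw [div_mul_eq_mul_div]
    rw [h1]
    exact W.mul_mem hx' hy'
  inv_mem' := by
    rintro x ⟨hx, hx'⟩
    refine ⟨E.inv_mem hx, ?_⟩
    have h2 : ρ x⁻¹ (ρ x a / a) = ρ x a / a := hb x⁻¹ (E.inv_mem hx) _ (hDZ (ha x hx a))
    have h3 : ρ x⁻¹ (ρ x a) = a := by
      have : ρ x⁻¹ (ρ x a) = (ρ (x⁻¹ * x)) a := by rw [map_mul]; rfl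
      rw [this, inv_mul_cancel, map_one]
      rfl
    have h4 : ρ x⁻¹ a / a = (ρ x a / a)⁻¹ := by
      have h5 : ρ x⁻¹ (ρ x a / a) = a / ρ x⁻¹ a := by rw [map_div, h3]
      rw [h2] at h5
      rw [h5, inv_div]
    rw [h4]
    exact W.inv_mem hx'

theorem exists_Y (hA : IsPGroup p A) (ρ : Γ →* MulAut A) (hρ : Function.Injective ρ)
    (E B : Subgroup Γ) (hE : Cfsg.IsElementaryAbelian p E) (hBE : B ≤ E) (hidx : B.relIndex E = p)
    (hB1 : B ≠ ⊥) (c : Γ) (hcE : c ∈ E) (hcB : c ∉ B) (Z D : Subgroup A) (hDZ : D ≤ Z)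
    (ha : ∀ e ∈ E, ∀ a : A, ρ e a / a ∈ D) (hb : ∀ e ∈ E, ∀ z ∈ Z, ρ e z = z)
    (hc : ∀ a : A, a ∉ Z → ∀ d ∈ D, ∃ e ∈ E, ρ e a / a = d) :
    ∃ Y : Subgroup A, D ≤ Y ∧ Y ≤ Z ∧
      ∀ g ∈ Subgroup.centralizer (B : Set Γ), ∀ y ∈ Y, ρ g y ∈ Y := by
  have hp : p.Prime := Fact.out
  by_cases hcase : ∀ a : A, (∀ b ∈ B, ρ b a = a) → a ∈ Z
  · exact schb3_case2 ρ E B hBE Z D hDZ hb hcase
  push Not at hcase
  obtain ⟨a, haB, haZ⟩ := hcase
  obtain ⟨d₀, hd₀⟩ : ∃ d₀, d₀ = ρ c a / a := ⟨_, rfl⟩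
  have hd₀D : d₀ ∈ D := hd₀ ▸ ha c hcE a
  have hd₀p : d₀ ^ p = 1 := by
    have h1 := schb1_iter (ρ c) D (ha c hcE) (fun y hy => hb c hcE y (hDZ hy)) a p
    rw [← map_pow, hE.2 c hcE, map_one, MulAut.one_apply, ← hd₀] at h1
    exact (mul_eq_left.mp h1.symm)
  set K := schb3_K ρ E Z D hDZ ha hb a (Subgroup.zpowers d₀) with hK
  have hKE : K ≤ E := fun e he => he.1
  have hBK : B ≤ K := by
    intro b hbB
    refine ⟨hBE hbB, ?_⟩
    rw [haB b hbB, div_self']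
    exact Subgroup.one_mem _
  have hcK : c ∈ K := ⟨hcE, by rw [← hd₀]; exact Subgroup.mem_zpowers d₀⟩
  have hEK : E ≤ K := by
    have h1 := Subgroup.relIndex_mul_relIndex B K E hBK hKE
    rw [hidx] at h1
    have h2 : B.relIndex K ≠ 1 := by
      intro h
      exact hcB (Subgroup.relIndex_eq_one.mp h hcK)
    have h3 : B.relIndex K ∣ p := Dvd.intro _ h1
    rcases (Nat.dvd_prime hp).mp h3 with h | h
    · exact (h2 h).elim
    · rw [h] at h1
      have h4 : K.relIndex E = 1 := by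
        have := hp.pos
        nlinarith
      exact Subgroup.relIndex_eq_one.mp h4
  have hDz : D ≤ Subgroup.zpowers d₀ := by
    intro d hd
    obtain ⟨e, heE, he⟩ := hc a haZ d hd
    rw [← he]
    exact (hEK heE).2
  set Y := Subgroup.closure {t : A | ∃ b ∈ B, ∃ a' : A, t = ρ b a' / a'} with hY
  have hYD : Y ≤ D := by
    rw [hY, Subgroup.closure_le]
    rintro t ⟨b, hbB, a', rfl⟩
    exact ha b (hBE hbB) a'
  have hYinv : ∀ g ∈ Subgroup.centralizer (B : Set Γ), ∀ y ∈ Y, ρ g y ∈ Y := by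
    intro g hg y hy
    induction hy using Subgroup.closure_induction with
    | mem t ht =>
      obtain ⟨b, hbB, a', rfl⟩ := ht
      apply Subgroup.subset_closure
      refine ⟨b, hbB, ρ g a', ?_⟩
      have h1 : b * g = g * b := Subgroup.mem_centralizer_iff.mp hg b hbB
      have h2 : ρ b (ρ g a') = (ρ (b * g)) a' := by rw [map_mul]; rfl
      rw [map_div, h2, h1, map_mul]
      rfl
    | one => rw [map_one]; exact Subgroup.one_mem _
    | mul x y _ _ hx hy => rw [map_mul]; exact Subgroup.mul_mem _ hx hy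
    | inv x _ hx => rw [map_inv]; exact Subgroup.inv_mem _ hx
  obtain ⟨t, htY, ht1⟩ : ∃ t ∈ Y, t ≠ 1 := by
    obtain ⟨b, hbB, hb1⟩ : ∃ b ∈ B, b ≠ 1 := by
      by_contra hcon
      push Not at hcon
      apply hB1
      rw [eq_bot_iff]
      intro b hbB
      exact Subgroup.mem_bot.mpr (hcon b hbB)
    have h1 : ρ b ≠ 1 := by
      intro h
      apply hb1
      apply hρ
      rw [h, map_one]
    obtain ⟨a', ha'⟩ : ∃ a', ρ b a' ≠ a' := by
      by_contra hcon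
      push Not at hcon
      apply h1
      ext x
      exact hcon x
    refine ⟨ρ b a' / a', Subgroup.subset_closure ⟨b, hbB, a', rfl⟩, ?_⟩
    intro h
    exact ha' (div_eq_one.mp h)
  have htz : t ∈ Subgroup.zpowers d₀ := hDz (hYD htY)
  have htp : t ^ p = 1 := by
    obtain ⟨i, rfl⟩ := Subgroup.mem_zpowers_iff.mp htz
    rw [← zpow_natCast, ← zpow_mul, mul_comm, zpow_mul, zpow_natCast, hd₀p, one_zpow]
  have hot : orderOf t = p := by
    rcases (Nat.dvd_prime hp).mp (orderOf_dvd_of_pow_eq_one htp) with h | h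
    · exact (ht1 (orderOf_eq_one_iff.mp h)).elim
    · exact h
  have hod : orderOf d₀ = p := by
    rcases (Nat.dvd_prime hp).mp (orderOf_dvd_of_pow_eq_one hd₀p) with h | h
    · exfalso
      rw [orderOf_eq_one_iff] at h
      rw [h, Subgroup.zpowers_one_eq_bot, Subgroup.mem_bot] at htz
      exact ht1 htz
    · exact h
  have hzz : Subgroup.zpowers t = Subgroup.zpowers d₀ := by
    apply Subgroup.eq_of_le_of_card_ge
    · rw [Subgroup.zpowers_le]; exact htz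
    · rw [Nat.card_zpowers, Nat.card_zpowers, hot, hod]
  refine ⟨Y, ?_, hYD.trans hDZ, hYinv⟩
  intro d hd
  have h1 : d ∈ Subgroup.zpowers t := hzz ▸ hDz hd
  exact (Subgroup.zpowers_le.mpr htY) h1

end B

end Cfsg.Agent.Lib.Helper24.SCH
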