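import Mathlib
import Cfsg.Agent.Lib.Helper24.SCH.Defs
import Cfsg.Agent.Lib.Helper24.SCHB1
import Cfsg.Agent.Lib.Helper24.SCHB2
import Cfsg.Agent.Lib.Helper24.SCHB3

set_option autoImplicit false

namespace Cfsg.Agent.Lib.Helper24.SCH

universe u v

section B

variable {A : Type u} [CommGroup A] [Finite A] {Γ : Type v} [Group Γ] [Finite Γ] {p : ℕ} [Fact p.Prime]

theorem kl1 (hA : IsPGroup p A) (ρ : Γ →* MulAut A) (hρ : Function.Injective ρ)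
    (hsolv : Cfsg.IsPSolvable p Γ) (hO : Cfsg.pCore p Γ = ⊥) (E : Subgroup Γ)
    (hE : Cfsg.IsElementaryAbelian p E) (Z D : Subgroup A) (hDZ : D ≤ Z)
    (ha : ∀ e ∈ E, ∀ a : A, ρ e a / a ∈ D) (hb : ∀ e ∈ E, ∀ z ∈ Z, ρ e z = z)
    (hc : ∀ a : A, a ∉ Z → ∀ d ∈ D, ∃ e ∈ E, ρ e a / a = d) : Nat.card E ≤ p := by
  have hp : p.Prime := Fact.out
  by_contra hlt
  push Not at hlt
  have hEp : IsPGroup p E := Cfsg.Agent.Lib.Helper10.elemAb_isPGroup p hE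
  obtain ⟨n, hn⟩ := hEp.exists_card_eq
  have hn2 : 2 ≤ n := by
    by_contra h
    push Not at h
    rw [hn] at hlt
    interval_cases n
    · simp at hlt
      exact absurd hp.one_lt (by omega)
    · simp at hlt
  have hE2 : p ^ 2 ≤ Nat.card E := by
    rw [hn]
    exact Nat.pow_le_pow_right hp.pos hn2
  have hEne : E ≠ ⊥ := by
    intro h
    rw [h, Subgroup.card_bot] at hlt
    exact absurd hp.one_lt (by omega)
  obtain ⟨⟨c, hcE⟩, hc1'⟩ := (Subgroup.ne_bot_iff_exists_ne_one).mp hEne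
  have hc1 : c ≠ 1 := fun h => hc1' (Subtype.ext h)
  obtain ⟨q, B, l, hq, hqp, hBE, hBidx, hlB, hw1, k, hwk⟩ :=
    exists_hyp hsolv hO E hE hE2 c hcE hc1
  have hcB : c ∉ B := by
    intro h
    apply hw1
    have h1 : c * l = l * c := Subgroup.mem_centralizer_iff.mp hlB c h
    rw [h1]
    group
  have hB1 : B ≠ ⊥ := by
    intro h
    rw [h, Subgroup.relIndex_bot_left] at hBidx
    omega
  obtain ⟨Y, hDY, hYZ, hYinv⟩ :=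
    exists_Y hA ρ hρ E B hE hBE hBidx hB1 c hcE hcB Z D hDZ ha hb hc
  have hlB' : l⁻¹ ∈ Subgroup.centralizer (B : Set Γ) := Subgroup.inv_mem _ hlB
  have hcE' : c⁻¹ ∈ E := E.inv_mem hcE
  have hw : ∀ a : A, ρ (c * l * c⁻¹ * l⁻¹) a = ρ c (ρ l (ρ c⁻¹ (ρ l⁻¹ a))) := by
    intro a
    simp only [map_mul, MulAut.mul_apply]
  have hll : ∀ a : A, ρ l (ρ l⁻¹ a) = a := by
    intro a
    have : ρ l (ρ l⁻¹ a) = (ρ (l * l⁻¹)) a := by rw [map_mul]; rfl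
    rw [this, mul_inv_cancel, map_one]
    rfl
  have h2 : ∀ y ∈ Y, ρ (c * l * c⁻¹ * l⁻¹) y = y := by
    intro y hy
    rw [hw]
    have hy1 : ρ l⁻¹ y ∈ Y := hYinv _ hlB' y hy
    rw [hb c⁻¹ hcE' _ (hYZ hy1), hll, hb c hcE y (hYZ hy)]
  have h1 : ∀ a : A, ρ (c * l * c⁻¹ * l⁻¹) a / a ∈ Y := by
    intro a
    rw [hw]
    obtain ⟨a₁, ha₁⟩ : ∃ a₁, a₁ = ρ l⁻¹ a := ⟨_, rfl⟩
    obtain ⟨d₁, hd₁⟩ : ∃ d₁, d₁ = ρ c⁻¹ a₁ / a₁ := ⟨_, rfl⟩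
    have hd₁D : d₁ ∈ D := hd₁ ▸ ha c⁻¹ hcE' a₁
    have e1 : ρ c⁻¹ a₁ = a₁ * d₁ := by rw [hd₁, mul_div_cancel]
    have hy₂ : ρ l d₁ ∈ Y := hYinv l hlB d₁ (hDY hd₁D)
    rw [← ha₁, e1, map_mul, ha₁, hll, map_mul, hb c hcE _ (hYZ hy₂)]
    have e2 : ρ c a * ρ l d₁ / a = (ρ c a / a) * ρ l d₁ := by
      rw [div_mul_eq_mul_div]
    rw [e2]
    exact Y.mul_mem (hDY (ha c hcE a)) hy₂
  have h3 : ρ (c * l * c⁻¹ * l⁻¹) = 1 := by
    apply stab_chain hA _ Y h1 h2 hq hqp (k := k)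
    rw [← map_pow, hwk, map_one]
  apply hw1
  apply hρ
  rw [h3, map_one]

end B

end Cfsg.Agent.Lib.Helper24.SCH
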