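import Cfsg.Agent.Lib.Helper24.TSLAcore
import Cfsg.Agent.Lib.Helper11.TSTVCL
import Cfsg.Agent.Lib.helper6.TSSIEG
import Cfsg.Agent.Lib.Helper18.TSPFIX
import Cfsg.Agent.Lib.Helper10.TSCALC
import Cfsg.Agent.Lib.Helper13.TSLAMSUB

set_option autoImplicit false
set_option linter.unusedSectionVars false
set_option linter.unusedVariables false

namespace Cfsg.Agent.Lib.Helper21.TS

open Matrix
open scoped Kronecker
open Cfsg.Agent.Lib.helper7.TP

variable {ι : Type*} [Fintype ι] [DecidableEq ι] {a b : ℕ} {F : Type*} [Field F]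
  {J1 : Matrix (Fin a) (Fin a) F} {J2 : Matrix (Fin b) (Fin b) F}
  {M : Subgroup (Matrix.GeneralLinearGroup (Fin a × Fin b) F)}

theorem la_sing [Fintype F] (C : Ctx J1 J2) (hb : 3 ≤ b) (hex : 5 ≤ Fintype.card F ∨ 4 ≤ b)
    (hT0 : T0 J1 J2 ≤ M) (hMS : M ≤ SpV J1 J2) {u : Fin a → F} (hu : u ≠ 0)
    {η : Matrix (Fin b) (Fin b) F} (hη : η ∈ LamU J1 J2 M u) (hns : ∀ c : F, η ≠ c • 1) :
    ∀ (u' : Fin a → F) (w : Fin b → F), bf J2 w w = 0 → TT J1 J2 M (ten u' w) :=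
  tsla_core C hb hex hT0 hMS tt_zero
    (fun p _ _ _ hw => rw_pgroup p C.sym C.two hw)
    (fun p _ _ G hG Λ S hSΛ hΛ hS hne => pfix p G hG Λ S hSΛ hΛ hS hne)
    (fun hw hw' hww' η hη h => calc_fix C.sym C.two C.det2 hb hex hw hw' hww' η hη h)
    (fun h h' => lamU_add C h h') (fun h => lamU_neg C h) (fun u c => lamU_scalar C hT0 u c)
    (fun h _ hβ => lamU_conj C hT0 h hβ) (fun hu hu' _ h => lamU_move C hT0 hu hu' h)
    (fun hu _ h c => lamU_smul C hT0 hu h c) hu hη hns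

end Cfsg.Agent.Lib.Helper21.TS
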