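import Mathlib
import Cfsg.Agent.Lib.Helper9.A2S.Defs

set_option autoImplicit false

namespace Cfsg.Agent.Lib.Helper9.A2S

open Equiv

theorem full_cycle_centralizer {α : Type*} [Fintype α] [DecidableEq α] (x : Perm α)
    (hx : x.IsCycle) (hs : x.support = Finset.univ) (y : Perm α) (hy : y * x = x * y) :
    y ∈ Subgroup.zpowers x := by
  have hc : Commute y x := hy
  obtain ⟨hc', k, hk⟩ := hx.commute_iff.mp hc
  refine ⟨k, ?_⟩
  have hk' : x ^ k = Perm.ofSubtype (y.subtypePerm hc') := hk
  show x ^ k = y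
  rw [hk']
  ext a
  have ha : a ∈ x.support := by rw [hs]; exact Finset.mem_univ a
  exact Perm.ofSubtype_subtypePerm_of_mem hc' ha

end Cfsg.Agent.Lib.Helper9.A2S
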