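import Mathlib
import Cfsg.Prelude.Def_Involutions
import Cfsg.Agent.Lib.Helper18.SylowIn
import Cfsg.Agent.Lib.Helper18.PPrimeCore
import Cfsg.Agent.Lib.Helper18.StronglyEmbedded

set_option autoImplicit false
set_option linter.style.haveILetI false

namespace Cfsg.Agent.Lib.Helper24

open Cfsg.Agent.Lib.Helper18

theorem sen_conjSub_self {G : Type*} [Group G] [Finite G] {H : Subgroup G} {x : G} (hx : x ∈ H) :
    conjSub x H = H :=
  conjSub_eq_of_le (conjSub_le_of_mem le_rfl hx)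

theorem sen_exists_sylowIn_ge {G : Type*} [Group G] [Finite G] {p : ℕ} [Fact p.Prime]
    {A U : Subgroup G} (hUA : U ≤ A) (hU : IsPGroup p U) :
    ∃ S : Subgroup G, IsSylowIn p S A ∧ U ≤ S := by
  obtain ⟨P⟩ := (inferInstance : Nonempty (Sylow p ↥A))
  have hP := isSylowIn_of_sylow P
  obtain ⟨x, hxA, hx⟩ := hP.exists_conj_le hUA hU
  refine ⟨conjSub x⁻¹ ((P : Subgroup ↥A).map A.subtype), ?_, ?_⟩
  · have := hP.conjSub x⁻¹
    rwa [sen_conjSub_self (A.inv_mem hxA)] at this
  · exact conjSub_le_iff.mp hx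

theorem sen_ne_bot_of_sylowIn {G : Type*} [Group G] [Finite G] {p : ℕ}
    {U K : Subgroup G} (hU : IsSylowIn p U K) (hK : p ∣ Nat.card K) : U ≠ ⊥ := by
  intro h
  apply hU.not_dvd
  rw [h, Subgroup.relIndex_bot_left]
  exact hK

theorem sen_sylowIn_up {G : Type*} [Group G] [Finite G] {p : ℕ} [Fact p.Prime]
    {A K U : Subgroup G} (hKA : K ≤ A) (hU : IsSylowIn p U K)
    (hN : Subgroup.normalizer (U : Set G) ≤ K) : IsSylowIn p U A := by
  obtain ⟨S, hS, hUS⟩ := sen_exists_sylowIn_ge (hU.le.trans hKA) hU.isPGroup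
  by_cases hne : U = S
  · rw [hne]; exact hS
  · exfalso
    have hlt : U < S := lt_of_le_of_ne hUS hne
    obtain ⟨z, hzS, hzN, hzU⟩ := exists_mem_normalizer_not_mem_of_lt_pGroup hS.isPGroup hlt
    have h1 : S ⊓ K = U :=
      hU.eq_of_le inf_le_right (hS.isPGroup.to_le inf_le_left) (le_inf hUS hU.le)
    apply hzU
    rw [← h1]
    exact ⟨hzS, hN hzN⟩

theorem sen_normalizer_conj {G : Type*} [Group G] [Finite G] {D : Subgroup G} {x n : G}
    (hn : n ∈ Subgroup.normalizer (D : Set G)) :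
    x * n * x⁻¹ ∈ Subgroup.normalizer ((conjSub x D : Subgroup G) : Set G) := by
  apply mem_normalizer_of_conjSub_le
  rw [conjSub_mul]
  have : x * n * x⁻¹ * x = x * n := by group
  rw [this, ← conjSub_mul, conjSub_eq_of_mem_normalizer hn]

theorem sen_all_of_sylow {G : Type*} [Group G] [Finite G] {p : ℕ} [Fact p.Prime]
    {H P₀ : Subgroup G} (hP : IsSylowIn p P₀ H)
    (hyp : ∀ D : Subgroup G, D ≤ P₀ → D ≠ ⊥ → Subgroup.normalizer (D : Set G) ≤ H)
    {D : Subgroup G} (hDH : D ≤ H) (hDp : IsPGroup p D) (hD : D ≠ ⊥) :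
    Subgroup.normalizer (D : Set G) ≤ H := by
  obtain ⟨x, hxH, hx⟩ := hP.exists_conj_le hDH hDp
  have hne : conjSub x D ≠ ⊥ := by
    intro h
    apply hD
    exact (Subgroup.map_eq_bot_iff_of_injective D (MulAut.conj x).injective).mp h
  intro n hn
  have h1 := hyp _ hx hne (sen_normalizer_conj (x := x) hn)
  have h2 : n = x⁻¹ * (x * n * x⁻¹) * x := by group
  rw [h2]
  exact H.mul_mem (H.mul_mem (H.inv_mem hxH) h1) hxH

theorem sen_main {G : Type*} [Group G] [Finite G] {p : ℕ} [Fact p.Prime]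
    {H : Subgroup G}
    (hall : ∀ D : Subgroup G, D ≤ H → IsPGroup p D → D ≠ ⊥ →
      Subgroup.normalizer (D : Set G) ≤ H)
    (g : G) (hdvd : p ∣ Nat.card ↥(H ⊓ H.map (MulAut.conj g).toMonoidHom)) : g ∈ H := by
  have hall' : ∀ D : Subgroup G, D ≤ conjSub g H → IsPGroup p D → D ≠ ⊥ →
      Subgroup.normalizer (D : Set G) ≤ conjSub g H := by
    intro D hD hDp hD1 n hn
    rw [mem_conjSub]
    have h1 : conjSub g⁻¹ D ≤ H := by
      have := conjSub_mono (g := g⁻¹) hD
      rwa [conjSub_mul, inv_mul_cancel, conjSub_one] at this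
    have hne : conjSub g⁻¹ D ≠ ⊥ := by
      intro h
      apply hD1
      exact (Subgroup.map_eq_bot_iff_of_injective D (MulAut.conj g⁻¹).injective).mp h
    have := hall _ h1 (conjSub_isPGroup hDp) hne (sen_normalizer_conj (x := g⁻¹) hn)
    rwa [inv_inv] at this
  set K := H ⊓ conjSub g H with hK
  obtain ⟨U, hU, -⟩ := sen_exists_sylowIn_ge (p := p) (bot_le : (⊥ : Subgroup G) ≤ K)
    IsPGroup.of_bot
  have hU1 : U ≠ ⊥ := sen_ne_bot_of_sylowIn hU hdvd
  have hNK : Subgroup.normalizer (U : Set G) ≤ K :=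
    le_inf (hall U (hU.le.trans inf_le_left) hU.isPGroup hU1)
      (hall' U (hU.le.trans inf_le_right) hU.isPGroup hU1)
  have hUH : IsSylowIn p U H := sen_sylowIn_up inf_le_left hU hNK
  have hUgH : IsSylowIn p U (conjSub g H) := sen_sylowIn_up inf_le_right hU hNK
  have hU' : IsSylowIn p (conjSub g⁻¹ U) H := by
    have := hUgH.conjSub g⁻¹
    rwa [conjSub_mul, inv_mul_cancel, conjSub_one] at this
  obtain ⟨x, hxH, hx⟩ := hUH.exists_conj_le hU'.le hU'.isPGroup
  rw [conjSub_mul] at hx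
  have h1 := hall U hUH.le hU.isPGroup hU1 (mem_normalizer_of_conjSub_le hx)
  have h2 : g⁻¹ = x⁻¹ * (x * g⁻¹) := by group
  have h3 : g⁻¹ ∈ H := by
    rw [h2]
    exact H.mul_mem (H.inv_mem hxH) h1
  simpa using H.inv_mem h3

theorem sen_iff {G : Type*} [Group G] [Finite G] (H : Subgroup G) (hH : H ≠ ⊤)
    (P : Sylow 2 ↥H) (hP : (P : Subgroup ↥H) ≠ ⊥) :
    Cfsg.IsStronglyEmbedded H ↔
      (∀ X : Subgroup ↥H, X ≤ (P : Subgroup ↥H) → X ≠ ⊥ →
        Subgroup.normalizer ((X.map H.subtype : Subgroup G) : Set G) ≤ H) := by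
  haveI : Fact (Nat.Prime 2) := ⟨Nat.prime_two⟩
  constructor
  · intro hse X hXP hX1
    have hspe : IsSPE 2 H := by
      refine ⟨hse.1, even_iff_two_dvd.mp hse.2.1, ?_⟩
      intro g hg hd
      exact (Nat.not_even_iff_odd.mpr (hse.2.2 g hg)) (even_iff_two_dvd.mpr hd)
    apply hspe.normalizer_le
    · exact (P.isPGroup'.to_le hXP).map _
    · intro h
      apply hX1
      exact (Subgroup.map_eq_bot_iff_of_injective X H.subtype_injective).mp h
    · exact Subgroup.map_subtype_le X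
  · intro hyp
    have hP₀ := isSylowIn_of_sylow P
    have hyp' : ∀ D : Subgroup G, D ≤ (P : Subgroup ↥H).map H.subtype → D ≠ ⊥ →
        Subgroup.normalizer (D : Set G) ≤ H := by
      intro D hD hD1
      have hDH : D ≤ H := hD.trans hP₀.le
      have hmap : (D.subgroupOf H).map H.subtype = D := by
        rw [Subgroup.subgroupOf_map_subtype]
        exact inf_eq_left.mpr hDH
      have h1 := hyp (D.subgroupOf H) ?_ ?_
      · rwa [hmap] at h1
      · intro y hy
        rw [Subgroup.mem_subgroupOf] at hy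
        obtain ⟨z, hz, hzy⟩ := hD hy
        have : z = y := Subtype.ext hzy
        rwa [← this]
      · intro h
        apply hD1
        rw [← hmap, h, Subgroup.map_bot]
    have hall := fun D hDH hDp hD1 => sen_all_of_sylow hP₀ hyp' (D := D) hDH hDp hD1
    have hP1 : (P : Subgroup ↥H).map H.subtype ≠ ⊥ := by
      intro h
      apply hP
      exact (Subgroup.map_eq_bot_iff_of_injective _ H.subtype_injective).mp h
    have hdvdP : 2 ∣ Nat.card ↥((P : Subgroup ↥H).map H.subtype) := by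
      rcases hP₀.isPGroup.card_eq_or_dvd with h0 | h0
      · exact absurd (Subgroup.card_eq_one.mp h0) hP1
      · exact h0
    refine ⟨hH, ?_, ?_⟩
    · rw [even_iff_two_dvd]
      exact dvd_trans hdvdP (Subgroup.card_dvd_of_le hP₀.le)
    · intro g hg
      rw [← Nat.not_even_iff_odd, even_iff_two_dvd]
      intro hd
      exact hg (sen_main hall g hd)

end Cfsg.Agent.Lib.Helper24
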