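import Mathlib
import Cfsg.Prelude.Def_Blocks
import Cfsg.Agent.Lib.helper7.Q8SecondMain
import Cfsg.Agent.S0925

set_option autoImplicit false
set_option linter.style.haveILetI false
set_option linter.unusedSectionVars false
set_option linter.unusedVariables false

namespace Cfsg.Agent.Lib.Helper24

open scoped ComplexConjugate
open Cfsg.Agent.Lib.Helper25 Cfsg.Agent.Lib.helper7

theorem pc_isPPart_self {G : Type*} [Group G] (p : ℕ) [hp : Fact p.Prime] (y : G)
    (hy : ∃ k : ℕ, orderOf y = p ^ k) : Cfsg.IsPPart p y y := by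
  refine ⟨1, mul_one y, Commute.one_right y, hy, ?_⟩
  rw [orderOf_one]
  exact hp.out.one_lt.ne' ∘ Nat.dvd_one.mp

theorem pc_orth {G : Type*} [Group G] [Finite G] (p : ℕ) [hp : Fact p.Prime]
    (M : Ideal Cfsg.AlgInt) (hM : Cfsg.IsPModular p M) (y y' : G)
    (hy : ∃ k : ℕ, orderOf y = p ^ k) (hy' : ∃ k : ℕ, orderOf y' = p ^ k)
    (hnc : ¬ IsConj y y') (B : Set (Cfsg.IrrCharacter G)) (hB : Cfsg.IsPBlock M B) :
    ∑ᶠ χ ∈ B, (χ : G → ℂ) y * conj ((χ : G → ℂ) y') = 0 := by
  have h := (Cfsg.Agent.S0925.result p M hM).2 y y' y y' (pc_isPPart_self p y hy)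
    (pc_isPPart_self p y' hy') hnc B hB
  rw [← h]
  apply finsum_mem_congr rfl
  intro χ _
  rw [irr_inv]

theorem pc_eval_nonprincipal {G : Type*} [Group G] [Finite G] (p : ℕ) [hp : Fact p.Prime]
    (M : Ideal Cfsg.AlgInt) (hM : Cfsg.IsPModular p M) (z : G)
    (hz : ∃ k : ℕ, orderOf z = p ^ k) [inst : Fintype (Subgroup.centralizer ({z} : Set G))]
    (ζ : Cfsg.IrrCharacter G) (hζ : ζ ∉ Cfsg.principalBlock M G) :
    ∑ᶠ χ ∈ Cfsg.principalBlock M (Subgroup.centralizer ({z} : Set G)),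
      Cfsg.classInner (fun c : Subgroup.centralizer ({z} : Set G) => (ζ : G → ℂ) (c : G))
        (χ : Subgroup.centralizer ({z} : Set G) → ℂ) *
      (χ : Subgroup.centralizer ({z} : Set G) → ℂ)
        ⟨z, Subgroup.mem_centralizer_singleton_iff.mpr rfl⟩ = 0 := by
  classical
  have hinst : inst = Fintype.ofFinite _ := Subsingleton.elim _ _
  subst hinst
  letI : Fintype G := Fintype.ofFinite G
  haveI : Fintype (Cfsg.IrrCharacter G) := Fintype.ofFinite _
  letI : Fintype (Subgroup.centralizer ({z} : Set G)) := Fintype.ofFinite _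
  haveI : Fintype (Cfsg.IrrCharacter (Subgroup.centralizer ({z} : Set G))) := Fintype.ofFinite _
  have hPr := hM.2.1.isPrime
  obtain ⟨hP, hPC, hCC, hCN⟩ := h7_centralizer_brauer_hyps p z hz
  have hb0 : Cfsg.IsPBlock M (Cfsg.principalBlock M (Subgroup.centralizer ({z} : Set G))) :=
    ⟨trivIrr _, rfl⟩
  have h3 : Cfsg.IsInducedBlock M (Subgroup.centralizer ({z} : Set G))
      (Cfsg.principalBlock M (Subgroup.centralizer ({z} : Set G))) (Cfsg.principalBlock M G) :=
    (Cfsg.Agent.S0936.result p M hM (Subgroup.centralizer ({z} : Set G)) _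
      (Cfsg.Agent.S0919.result p M hM (Subgroup.zpowers z)
        (Subgroup.centralizer ({z} : Set G)) hP hPC hCC hCN _ hb0)).mpr rfl
  have hnind : ¬ Cfsg.IsInducedBlock M (Subgroup.centralizer ({z} : Set G))
      (Cfsg.principalBlock M (Subgroup.centralizer ({z} : Set G)))
      (Cfsg.blockOf M (ζ : G → ℂ)) := by
    intro hc
    apply hζ
    rw [h7_induced_unique hPr _ _ _ _ h3 hc]
    exact h7_sameBlock_refl hPr _
  set zC : Subgroup.centralizer ({z} : Set G) :=
    ⟨z, Subgroup.mem_centralizer_singleton_iff.mpr rfl⟩ with hzC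
  have hzcen : zC ∈ Subgroup.center (Subgroup.centralizer ({z} : Set G)) := by
    rw [Subgroup.mem_center_iff]
    intro g
    apply Subtype.ext
    simp only [Subgroup.coe_mul, hzC]
    exact Subgroup.mem_centralizer_singleton_iff.mp g.2
  have h4 := Cfsg.Agent.S0923.result p M hM z hz (Cfsg.blockOf M (ζ : G → ℂ)) ⟨ζ, rfl⟩ ζ
    (h7_sameBlock_refl hPr _) _ hb0 hnind 1 (by
      rw [orderOf_one]
      exact hp.out.one_lt.ne' ∘ Nat.dvd_one.mp)
  rw [← h4]
  unfold Cfsg.blockPart
  apply finsum_mem_congr rfl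
  intro ψ _
  have := h7_classInner_shift_central zC hzcen
    (fun c : Subgroup.centralizer ({z} : Set G) => (ζ : G → ℂ) (c : G)) ψ
  rw [← this]
  rfl

end Cfsg.Agent.Lib.Helper24
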