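import Mathlib
import Cfsg.Prelude.Def_Blocks
import Cfsg.Prelude.Def_BlockLocal
import Cfsg.Prelude.Def_BrauerPairs
import Cfsg.Agent.Lib.Helper24.FongCover5
import Cfsg.Agent.Lib.Helper25.BlockPIndex

set_option autoImplicit false
set_option linter.style.haveILetI false
set_option linter.unusedSectionVars false
set_option linter.unusedVariables false

namespace Cfsg.Agent.Lib.Helper24

open scoped ComplexConjugate
open Cfsg.Agent.Lib.Helper25 Cfsg.Agent.Lib.Helper11 Cfsg.Agent.Lib.helper2 Cfsg.Agent.Lib.helper7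

variable {G : Type*} [Group G]

theorem fp_cj_of_stab (N : Subgroup G) [hN : N.Normal] (c : Set (Cfsg.IrrCharacter N)) (g : G)
    (hst : Cfsg.StabilizesBlock N c g⁻¹) (θ : Cfsg.IrrCharacter N) (hθ : θ ∈ c) :
    fr_cj N g θ ∈ c := by
  obtain ⟨χ', hχ', hconj⟩ := hst.2 θ hθ
  have : fr_cj N g θ = χ' := by
    apply Subtype.ext
    funext n
    rw [fr_cj_val, cj_apply]
    have := hconj ⟨g * n * g⁻¹, hN.conj_mem n n.2 g⟩ n (by simp; group)
    exact this.symm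
  rw [this]
  exact hχ'

theorem fp_inv_of_stab (N : Subgroup G) [hN : N.Normal] (c : Set (Cfsg.IrrCharacter N))
    (hst : ∀ x : G, Cfsg.StabilizesBlock N c x) : fc_inv N c :=
  fun g θ hθ => fp_cj_of_stab N c g (hst g⁻¹) θ hθ

theorem fp_stab_of_cj (N : Subgroup G) [hN : N.Normal] (c : Set (Cfsg.IrrCharacter N)) (g : G)
    (h : ∀ θ ∈ c, fr_cj N g⁻¹ θ ∈ c) : Cfsg.StabilizesBlock N c g := by
  refine ⟨?_, fun θ hθ => ⟨fr_cj N g⁻¹ θ, h θ hθ, ?_⟩⟩
  · rw [Subgroup.normalizer_eq_top_iff.mpr hN]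
    exact Subgroup.mem_top g
  · intro k k' hk
    rw [fr_cj_val, cj_apply]
    refine congrArg (θ : N → ℂ) (Subtype.ext ?_)
    simp only [hk]
    group

theorem fp_eq_of_blockCoeff_eq [Fintype G] (A A' : Set (Cfsg.IrrCharacter G))
    (h : ∀ g : G, Cfsg.blockCoeff A g = Cfsg.blockCoeff A' g) : A = A' := by
  classical
  haveI : Fintype (Cfsg.IrrCharacter G) := Fintype.ofFinite _
  ext φ
  have h1 := bu_eval A φ
  have h2 := bu_eval A' φ
  simp only [h] at h1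
  rw [h1] at h2
  have h3 := irr_one_ne_zero φ
  have h4 := mul_right_cancel₀ h3 h2
  by_cases hφ : φ ∈ A <;> by_cases hφ' : φ ∈ A' <;> simp [hφ, hφ'] at h4 ⊢

theorem fp_subgroupBlockCoeff_eq [Fintype G] (N : Subgroup G) (c : Set (Cfsg.IrrCharacter N))
    (g : G) : Cfsg.subgroupBlockCoeff N c g =
      Cfsg.extendByZero N (fun n : N => Cfsg.blockCoeff c n) g := by
  classical
  unfold Cfsg.subgroupBlockCoeff
  by_cases hg : g ∈ N
  · rw [dif_pos hg, h7_extendByZero_mem N _ g hg]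
  · rw [dif_neg hg, h7_extendByZero_not_mem N _ g hg]

theorem fp_over_is_block [Fintype G] {p : ℕ} [hp : Fact p.Prime] {M : Ideal Cfsg.AlgInt}
    (hM : Cfsg.IsPModular p M) (N : Subgroup G) [hN : N.Normal] [Fintype N]
    (hidx : ∃ k : ℕ, N.index = p ^ k)
    (c : Set (Cfsg.IrrCharacter N)) (hc : Cfsg.IsPBlock M c) (hinv : fc_inv N c) :
    Cfsg.IsPBlock M (h7_over N c) ∧ ∀ B' : Set (Cfsg.IrrCharacter G), Cfsg.IsPBlock M B' →
      (∃ χ ∈ B', ∃ θ ∈ c, Cfsg.classInner (fun n : N => (χ : G → ℂ) n) (θ : N → ℂ) ≠ 0) →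
      B' = h7_over N c := by
  classical
  haveI : Fintype (Cfsg.IrrCharacter G) := Fintype.ofFinite _
  have hPr := hM.2.1.isPrime
  obtain ⟨B₀, ⟨hB₀, hcov₀⟩, huniq⟩ := bu_unique_cover p M hM N hidx c hc
  have hsub := fc_block_sub_over hM N c hc hinv B₀ hB₀ hcov₀
  have hsup : h7_over N c ⊆ B₀ := by
    intro χ hχ
    have h1 : Cfsg.blockOf M (χ : G → ℂ) = B₀ :=
      huniq _ ⟨⟨χ, rfl⟩, χ, h7_sameBlock_refl hPr _, hχ⟩
    rw [← h1]
    exact h7_sameBlock_refl hPr _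
  have heq : B₀ = h7_over N c := Set.Subset.antisymm hsub hsup
  refine ⟨heq ▸ hB₀, fun B' hB' hcov' => ?_⟩
  rw [← heq]
  exact huniq B' ⟨hB', hcov'⟩

theorem fp_main {G : Type*} [Group G] [Fintype G] (p : ℕ) [hp : Fact p.Prime] (M : Ideal Cfsg.AlgInt) (hM : Cfsg.IsPModular p M) (N : Subgroup G) [hNn : N.Normal] (hN : ∃ k : ℕ, N.index = p ^ k) (c : Set (Cfsg.IrrCharacter N)) (hc : Cfsg.IsPBlock M c) (hst : ∀ x : G, Cfsg.StabilizesBlock N c x) : (∃ B : Set (Cfsg.IrrCharacter G), Cfsg.IsPBlock M B ∧ ∀ g : G, Cfsg.blockCoeff B g = Cfsg.subgroupBlockCoeff N c g) ∧ ∀ B : Set (Cfsg.IrrCharacter G), Cfsg.IsPBlock M B → (∀ g : G, Cfsg.blockCoeff B g = Cfsg.subgroupBlockCoeff N c g) → ∀ P : Subgroup G, Cfsg.IsDefectGroup p M B P → N ⊔ P = ⊤ ∧ Cfsg.IsDefectGroup p M c ((P ⊓ N).subgroupOf N) := by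
  classical
  haveI : Fintype N := Fintype.ofFinite _
  haveI : Fintype (Cfsg.IrrCharacter G) := Fintype.ofFinite _
  haveI : Fintype (Cfsg.IrrCharacter N) := Fintype.ofFinite _
  have hPr := hM.2.1.isPrime
  have hinv := fp_inv_of_stab N c hst
  obtain ⟨hblk, huniq⟩ := fp_over_is_block hM N hN c hc hinv
  have hcoef : ∀ g : G, Cfsg.blockCoeff (h7_over N c) g = Cfsg.subgroupBlockCoeff N c g := by
    intro g
    rw [fp_subgroupBlockCoeff_eq, h7_cover_coef N c (fc_gstable N c hinv)]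
  refine ⟨⟨_, hblk, hcoef⟩, ?_⟩
  intro B hB hBc P hP
  have hBeq : B = h7_over N c := fp_eq_of_blockCoeff_eq B _ (fun g => by rw [hBc, hcoef])
  subst hBeq
  obtain ⟨χ₀, hχ₀⟩ := hblk
  have hcov : ∃ χ ∈ h7_over N c, ∃ θ ∈ c,
      Cfsg.classInner (fun n : N => (χ : G → ℂ) n) (θ : N → ℂ) ≠ 0 := by
    have hmem : χ₀ ∈ h7_over N c := by
      rw [hχ₀]
      exact h7_sameBlock_refl hPr _
    exact ⟨χ₀, hmem, hmem⟩
  have hmax : ∀ B' : Set (Cfsg.IrrCharacter G), Cfsg.IsPBlock M B' →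
      (∃ χ ∈ B', ∃ θ ∈ c, Cfsg.classInner (fun n : N => (χ : G → ℂ) n) (θ : N → ℂ) ≠ 0) →
      Cfsg.blockDefect p B' ≤ Cfsg.blockDefect p (h7_over N c) := by
    intro B' hB' hcov'
    rw [huniq B' hB' hcov']
  obtain ⟨h1, h2, -⟩ := fc_fong hM N c hc hinv _ ⟨χ₀, hχ₀⟩ hcov hmax P hP
  refine ⟨?_, h2⟩
  obtain ⟨k, hk⟩ := hN
  have hdvd : (P ⊔ N).index ∣ p ^ k := by
    rw [← hk]
    exact Subgroup.index_dvd_of_le le_sup_right
  obtain ⟨j, -, hj⟩ := (Nat.dvd_prime_pow hp.out).mp hdvd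
  have hj0 : j = 0 := by
    by_contra hne
    apply h1
    rw [hj]
    exact dvd_pow_self p hne
  rw [hj0, pow_zero, Subgroup.index_eq_one] at hj
  rw [sup_comm]
  exact hj

end Cfsg.Agent.Lib.Helper24
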