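import Mathlib
import Cfsg.Agent.Lib.Helper24.QuotRank2
import Cfsg.Agent.Lib.Helper25.PermReal
import Cfsg.Agent.Lib.helper7.ClassSum
import Cfsg.Agent.S0939

set_option autoImplicit false
open scoped ComplexConjugate

namespace Cfsg.Agent.Lib.Helper24

open Cfsg.Agent.Lib.helper2 Cfsg.Agent.Lib.helper7 Cfsg.Agent.Lib.Helper11 Cfsg.Agent.Lib.Helper25

section qd

variable {G : Type*} [Group G]

theorem qd_kernel_of_sameBlock [Fintype G] (p : ℕ) [hp : Fact p.Prime] (M : Ideal Cfsg.AlgInt)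
    (hM : Cfsg.IsPModular p M) (N : Subgroup G) [hN : N.Normal] (hcop : (Nat.card N).Coprime p)
    (χ₁ χ₂ : Cfsg.IrrCharacter G) (h : Cfsg.SameBlock M (χ₁ : G → ℂ) (χ₂ : G → ℂ))
    (h1 : ∀ n ∈ N, (χ₁ : G → ℂ) n = (χ₁ : G → ℂ) 1) :
    ∀ n ∈ N, (χ₂ : G → ℂ) n = (χ₂ : G → ℂ) 1 := by
  classical
  have hMp := hM.2.1.isPrime
  haveI : Fintype N := Fintype.ofFinite _
  haveI : Fintype (Cfsg.IrrCharacter G) := Fintype.ofFinite _
  haveI : Fintype (Cfsg.IrrCharacter N) := Fintype.ofFinite _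
  set T : Set (Cfsg.IrrCharacter N) := {trivIrr N} with hT
  have hTs : h7_GStable N T := by
    intro g θ hθ
    rw [hT, Set.mem_singleton_iff] at hθ ⊢
    rw [hθ]
    apply Subtype.ext
    funext n
    rw [h7_irrSmul_apply]
    rfl
  have hS : ∀ n : N, Cfsg.MemLocalRing M (Cfsg.blockCoeff T n) :=
    fun n => h7_memLocalRing_blockCoeff_of_coprime hM hcop T n
  have h2 : χ₁ ∈ h7_over N T :=
    ⟨trivIrr N, rfl, (Cfsg.Agent.S0939.triv_constituent_iff N χ₁).2 h1⟩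
  have h3 : χ₂ ∈ h7_over N T := h7_over_congr N hMp T hTs hS χ₁ χ₂ h h2
  obtain ⟨θ, hθ, hne⟩ := h3
  rw [hT, Set.mem_singleton_iff] at hθ
  rw [hθ] at hne
  exact (Cfsg.Agent.S0939.triv_constituent_iff N χ₂).1 hne

theorem qd_centralChar_deflate [Fintype G] (N : Subgroup G) [hN : N.Normal]
    [Fintype (G ⧸ N)] [Fintype (ConjClasses G)]
    (F : G ⧸ N → ℂ) (hF : ∀ a b : G ⧸ N, F (b * a * b⁻¹) = F a) (y : G ⧸ N)
    [DecidablePred (fun z : G ⧸ N => IsConj y z)] :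
    Cfsg.centralChar F y = (Nat.card N : ℂ)⁻¹ * ∑ K : ConjClasses G,
      if IsConj y (QuotientGroup.mk (Quotient.out K) : G ⧸ N) then
        Cfsg.centralChar (fun g : G => F (QuotientGroup.mk g)) (Quotient.out K) else 0 := by
  classical
  haveI : Fintype N := Fintype.ofFinite _
  have hN0 : (Nat.card N : ℂ) ≠ 0 := by exact_mod_cast Nat.card_pos.ne'
  set h : G ⧸ N → ℂ := fun z => if IsConj y z then F z else 0 with hh
  have e1 : ((Subgroup.centralizer ({y} : Set (G ⧸ N))).index : ℂ) * F y = ∑ z : G ⧸ N, h z := by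
    rw [h7_index_centralizer_eq_card_class, Nat.card_eq_fintype_card, Fintype.card_subtype]
    simp only [hh]
    rw [← Finset.sum_filter]
    have : ∀ z ∈ Finset.univ.filter (fun z : G ⧸ N => IsConj y z), F z = F y := by
      intro z hz
      obtain ⟨c, hc⟩ := isConj_iff.mp (Finset.mem_filter.mp hz).2
      rw [← hc, hF]
    rw [Finset.sum_congr rfl this, Finset.sum_const, nsmul_eq_mul]
  have e2 := sum_quotient_mk N h
  have hcl : ∀ a b : G, h (QuotientGroup.mk (b * a * b⁻¹) : G ⧸ N) = h (QuotientGroup.mk a) := by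
    intro a b
    have h1 : (QuotientGroup.mk (b * a * b⁻¹) : G ⧸ N) =
        (QuotientGroup.mk b : G ⧸ N) * QuotientGroup.mk a * (QuotientGroup.mk b)⁻¹ := rfl
    simp only [hh]
    rw [h1, hF]
    have h2 : IsConj y ((QuotientGroup.mk b : G ⧸ N) * QuotientGroup.mk a * (QuotientGroup.mk b)⁻¹) ↔
        IsConj y (QuotientGroup.mk a : G ⧸ N) := by
      have h3 : IsConj (QuotientGroup.mk a : G ⧸ N)
          ((QuotientGroup.mk b : G ⧸ N) * QuotientGroup.mk a * (QuotientGroup.mk b)⁻¹) :=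
        isConj_iff.mpr ⟨_, rfl⟩
      exact ⟨fun h4 => h4.trans h3.symm, fun h4 => h4.trans h3⟩
    simp only [h2]
  have e3 := h7_sum_eq_sum_conjClasses (fun g : G => h (QuotientGroup.mk g)) hcl
  unfold Cfsg.centralChar
  rw [e1]
  have e4 : ∑ z : G ⧸ N, h z = (Nat.card N : ℂ)⁻¹ * ∑ g : G, h (QuotientGroup.mk g) := by
    rw [e2]
    field_simp
  rw [e4, e3, mul_div_assoc, Finset.sum_div]
  congr 1
  refine Finset.sum_congr rfl fun K _ => ?_
  simp only [hh, QuotientGroup.mk_one]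
  split_ifs
  · rw [nsmul_eq_mul]
  · rw [smul_zero, zero_div]

theorem qd_main [Finite G] (p : ℕ) [hp : Fact p.Prime] (M : Ideal Cfsg.AlgInt)
    (hM : Cfsg.IsPModular p M) (N : Subgroup G) [hN : N.Normal] (hNp : ¬ p ∣ Nat.card N)
    (χ : Cfsg.IrrCharacter (G ⧸ N)) (ψ : Cfsg.IrrCharacter G)
    (hψ : ψ ∈ Cfsg.blockOf M ((χ : G ⧸ N → ℂ) ∘ QuotientGroup.mk)) :
    ∃ ψ' : Cfsg.IrrCharacter (G ⧸ N), (ψ : G → ℂ) = (ψ' : G ⧸ N → ℂ) ∘ QuotientGroup.mk ∧
      Cfsg.SameBlock M (χ : G ⧸ N → ℂ) (ψ' : G ⧸ N → ℂ) := by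
  classical
  haveI : Fintype G := Fintype.ofFinite _
  haveI : Fintype (G ⧸ N) := Fintype.ofFinite _
  haveI : Fintype (ConjClasses G) := Fintype.ofFinite _
  have hMp := hM.2.1.isPrime
  have hcop : (Nat.card N).Coprime p := ((Nat.Prime.coprime_iff_not_dvd hp.out).mpr hNp).symm
  have hsurj : Function.Surjective (QuotientGroup.mk' N) := QuotientGroup.mk'_surjective N
  set χ' := xs_infl (QuotientGroup.mk' N) hsurj χ with hχ'
  have hsb : Cfsg.SameBlock M (χ' : G → ℂ) (ψ : G → ℂ) := hψ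
  have h1 : ∀ n ∈ N, (χ' : G → ℂ) n = (χ' : G → ℂ) 1 := by
    intro n hn
    rw [hχ', xs_infl_apply, xs_infl_apply, map_one]
    have : QuotientGroup.mk' N n = 1 := (QuotientGroup.eq_one_iff n).mpr hn
    rw [this]
  have h2 := qd_kernel_of_sameBlock p M hM N hcop χ' ψ hsb h1
  obtain ⟨φ, hφ⟩ := h7_deflate N ψ h2
  refine ⟨φ, funext (fun g => (hφ g).symm), ?_⟩
  intro y
  rw [qd_centralChar_deflate N (χ : G ⧸ N → ℂ) (fun a b => irr_conj_invariant χ a b) y,
    qd_centralChar_deflate N (φ : G ⧸ N → ℂ) (fun a b => irr_conj_invariant φ a b) y, ← mul_sub,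
    ← Finset.sum_sub_distrib]
  apply h7_memLocalIdeal_mul_left hMp (h7_memLocalRing_inv_natCast hM _ hcop)
  apply h7_memLocalIdeal_sum hMp
  intro K _
  split_ifs
  · have h3 := hsb (Quotient.out K)
    have h4 : (fun g : G => (φ : G ⧸ N → ℂ) (QuotientGroup.mk g)) = (ψ : G → ℂ) := by
      funext g
      exact hφ g
    rw [h4]
    exact h3
  · rw [sub_self]
    exact h7_memLocalIdeal_zero hMp

end qd

end Cfsg.Agent.Lib.Helper24
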