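import Mathlib
import Cfsg.Agent.Lib.Helper25.KleinFourRank
import Cfsg.Agent.Lib.Helper25.PrincipalNPC
import Cfsg.Agent.Lib.helper2.PModular2
import Cfsg.Agent.S0144
import Cfsg.Agent.Lib.Helper24.PrincCol1
import Cfsg.Agent.Lib.Helper11.LinCharDual

set_option autoImplicit false
set_option linter.style.haveILetI false
set_option linter.unusedVariables false
set_option maxHeartbeats 1600000

namespace Cfsg.Agent.Lib.Helper24
open Cfsg.Agent.Lib.helper2 Cfsg.Agent.Lib.Helper25 Cfsg.Agent.Lib.Helper11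
open scoped ComplexConjugate

theorem tp_solvable_linear {G : Type*} [Group G] [Finite G] [Nontrivial G]
    (hs : Group.IsSolvable G) :
    ∃ χ : Cfsg.IrrCharacter G, (χ : G → ℂ) ≠ (fun _ => 1) ∧ Cfsg.charDegree (χ : G → ℂ) = 1 := by
  haveI := hs
  have hlt : commutator G < ⊤ := Group.IsSolvable.commutator_lt_top_of_nontrivial G
  obtain ⟨g, hg⟩ : ∃ g : G, g ∉ commutator G := by
    by_contra h
    push Not at h
    exact hlt.ne (top_le_iff.mp (fun x _ => h x))
  have hx : (Abelianization.of g : Abelianization G) ∉ (⊥ : Subgroup (Abelianization G)) := by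
    intro h
    rw [Subgroup.mem_bot] at h
    apply hg
    have : (QuotientGroup.mk g : G ⧸ commutator G) = 1 := h
    exact (QuotientGroup.eq_one_iff g).mp this
  obtain ⟨φ, -, hφ⟩ := exists_linChar_ne_one (W := Abelianization G)
    (fun a b => mul_comm a b) ⊥ _ hx
  refine ⟨linIrr (φ.comp Abelianization.of), ?_, pq_linIrr_degree _⟩
  intro h
  have h1 := congrFun h g
  rw [linIrr_apply] at h1
  apply hφ
  ext
  simpa using h1

theorem tp_key {G : Type*} [Group G] [Finite G] [Nontrivial G] (p q r a b c : ℕ)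
    (hp : p.Prime) (hq : q.Prime) (hr : r.Prime) (hpq : p ≠ q) (hpr : p ≠ r) (hqr : q ≠ r)
    (ha : a ≤ 2) (hG : Nat.card G = p ^ a * q ^ b * r ^ c) :
    ∃ χ : Cfsg.IrrCharacter G, (χ : G → ℂ) ≠ (fun _ => 1) ∧
      ∃ k : ℕ, Cfsg.charDegree (χ : G → ℂ) = q ^ k := by
  classical
  by_cases hpG : p ∣ Nat.card G
  swap
  · have ha0 : a = 0 := by
      by_contra h
      exact hpG (hG ▸ dvd_mul_of_dvd_left (dvd_mul_of_dvd_left (dvd_pow_self p h) _) _)
    subst ha0
    have hs := Cfsg.Agent.S0144.result q r b c hq hr (by rw [hG]; simp)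
    obtain ⟨χ, h1, h2⟩ := tp_solvable_linear hs
    exact ⟨χ, h1, 0, by simpa using h2⟩
  · haveI : Fact p.Prime := ⟨hp⟩
    obtain ⟨M, hM⟩ := exists_isPModular p hp
    have hMp := hM.2.1.isPrime
    obtain ⟨y, hy⟩ := exists_prime_orderOf_dvd_card' p hpG
    by_contra hcon
    push Not at hcon
    have hcop : Nat.Coprime (p ^ 3) (q ^ b * r ^ c) := by
      apply Nat.Coprime.pow_left
      apply Nat.Coprime.mul_right
      · exact Nat.Coprime.pow_right _ ((Nat.coprime_primes hp hq).mpr hpq)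
      · exact Nat.Coprime.pow_right _ ((Nat.coprime_primes hp hr).mpr hpr)
    have hfac : (Nat.card G).factorization p ≤ 2 := by
      by_contra h
      push Not at h
      have h3 : p ^ 3 ∣ Nat.card G :=
        (hp.pow_dvd_iff_le_factorization Nat.card_pos.ne').mpr h
      rw [hG, mul_assoc] at h3
      have h4 : p ^ 3 ∣ p ^ a := hcop.dvd_of_dvd_mul_right h3
      have := (Nat.pow_dvd_pow_iff_le_right hp.one_lt).mp h4
      omega
    have hdiv : ∀ χ ∈ Cfsg.principalBlock M G, (χ : G → ℂ) ≠ (fun _ => 1) →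
        r ∣ Cfsg.charDegree (χ : G → ℂ) := by
      intro χ hχ hne
      by_contra hrd
      have hpd := (sk_odd_degree p M hM hfac χ hχ).2
      have hdvd := charDegree_dvd_card χ
      rw [hG] at hdvd
      have h1 : Nat.Coprime (Cfsg.charDegree (χ : G → ℂ)) (p ^ a) :=
        Nat.Coprime.pow_right _ ((Nat.Prime.coprime_iff_not_dvd hp).mpr hpd).symm
      have h2 : Nat.Coprime (Cfsg.charDegree (χ : G → ℂ)) (r ^ c) :=
        Nat.Coprime.pow_right _ ((Nat.Prime.coprime_iff_not_dvd hr).mpr hrd).symm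
      have h3 : Cfsg.charDegree (χ : G → ℂ) ∣ p ^ a * q ^ b := h2.dvd_of_dvd_mul_right hdvd
      have h4 : Cfsg.charDegree (χ : G → ℂ) ∣ q ^ b := h1.dvd_of_dvd_mul_left h3
      obtain ⟨k, -, hk⟩ := (Nat.dvd_prime_pow hq).mp h4
      exact hcon χ hne k hk
    have hy1 : ¬ IsConj y 1 := by
      intro h
      have : y = 1 := by
        rw [isConj_comm] at h
        exact (isConj_one_right.mp h)
      rw [this, orderOf_one] at hy
      exact hp.one_lt.ne hy
    have horth := pc_orth p M hM y 1 ⟨1, by rw [hy, pow_one]⟩ ⟨0, by simp⟩ hy1 _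
      (sk_pb_isBlock M)
    rw [finsum_mem_eq_finite_toFinset_sum _ (Set.toFinite _)] at horth
    have htm : trivIrr G ∈ (Set.toFinite (Cfsg.principalBlock M G)).toFinset := by
      rw [Set.Finite.mem_toFinset]
      exact sk_triv_mem hMp
    rw [← Finset.add_sum_erase _ _ htm] at horth
    have hint : IsIntegral ℤ ((∑ χ ∈ (Set.toFinite (Cfsg.principalBlock M G)).toFinset.erase
        (trivIrr G), (χ : G → ℂ) y * conj ((χ : G → ℂ) 1)) / (r : ℂ)) := by
      rw [Finset.sum_div]
      apply IsIntegral.sum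
      intro χ hχ
      rw [Finset.mem_erase, Set.Finite.mem_toFinset] at hχ
      have hne : (χ : G → ℂ) ≠ (fun _ => 1) := by
        intro h
        apply hχ.1
        apply Subtype.ext
        rw [h]
        rfl
      obtain ⟨m, hm⟩ := hdiv χ hχ.2 hne
      have hdeg : (χ : G → ℂ) 1 = ((Cfsg.charDegree (χ : G → ℂ) : ℕ) : ℂ) := pq_degree_cast χ
      rw [hdeg, hm]
      have hr0 : (r : ℂ) ≠ 0 := by exact_mod_cast hr.ne_zero
      have : (χ : G → ℂ) y * conj (((r * m : ℕ) : ℂ)) / (r : ℂ) = (χ : G → ℂ) y * (m : ℂ) := by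
        rw [Complex.conj_natCast]
        push_cast
        field_simp
      rw [this]
      exact (irr_integral χ y).mul (isIntegral_algebraMap (R := ℤ) (x := (m : ℤ)) |> fun h => by simpa using h)
    have h1 : (trivIrr G : G → ℂ) y * conj ((trivIrr G : G → ℂ) 1) = 1 := by
      simp
    rw [h1] at horth
    have hr0 : (r : ℂ) ≠ 0 := by exact_mod_cast hr.ne_zero
    have h2 : (∑ χ ∈ (Set.toFinite (Cfsg.principalBlock M G)).toFinset.erase
        (trivIrr G), (χ : G → ℂ) y * conj ((χ : G → ℂ) 1)) / (r : ℂ) = - ((1 : ℕ) : ℂ) / (r : ℂ) := by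
      have : (∑ χ ∈ (Set.toFinite (Cfsg.principalBlock M G)).toFinset.erase
        (trivIrr G), (χ : G → ℂ) y * conj ((χ : G → ℂ) 1)) = -1 := by
        linear_combination horth
      rw [this]
      simp
    rw [h2] at hint
    have h3 : IsIntegral ℤ (((1 : ℕ) : ℂ) / (r : ℂ)) := by
      have := hint.neg
      rwa [← neg_div, neg_neg] at this
    have h4 := nat_dvd_of_isIntegral_div 1 r hr.ne_zero h3
    exact hr.one_lt.ne' (Nat.dvd_one.mp h4)

end Cfsg.Agent.Lib.Helper24
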