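import Mathlib
import Cfsg.Agent.Lib.Helper10.C3E.Defs

set_option autoImplicit false
set_option linter.unusedVariables false
set_option linter.unusedSectionVars false

namespace Cfsg.Agent.Lib.Helper10.C3E

open Module Cfsg.Agent.Lib.helper8.C3S

variable {F K V : Type*} [Field F] [Field K] [Algebra F K] [AddCommGroup V] [Module F V] [Module K V]
  [IsScalarTower F K V]

theorem c3eif1_semi [FiniteDimensional F V] (g : V ≃ₗ[F] V) (σ : K → K)
    (hσ : ∀ (a : K) (x : V), g (a • x) = σ a • g x) (a : K) (ha : σ a ≠ a) (c : F) :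
    2 * finrank F (fixc g c) ≤ finrank F V := by
  classical
  by_cases hc : c = 0
  · subst hc
    have hbot : fixc g 0 = ⊥ := by
      rw [eq_bot_iff]
      intro x hx
      rw [mem_fixc, zero_smul] at hx
      have hx0 : x = 0 := g.injective (hx.trans (map_zero g).symm)
      rw [hx0]
      exact Submodule.zero_mem _
    rw [hbot, finrank_bot]
    omega
  · by_cases ha0 : a = 0
    · subst ha0
      have hV : ∀ x : V, x = 0 := by
        intro x
        have h1 := hσ 0 x
        rw [zero_smul, map_zero] at h1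
        have h2 : g x = 0 := by
          rcases smul_eq_zero.mp h1.symm with h | h
          · exact absurd h ha
          · exact h
        exact g.injective (h2.trans (map_zero g).symm)
      have hbot : fixc g c = ⊥ := by
        rw [eq_bot_iff]
        intro x _
        rw [hV x]
        exact Submodule.zero_mem _
      rw [hbot, finrank_bot]
      omega
    · let m : V →ₗ[F] V :=
        { toFun := fun x => a • x
          map_add' := smul_add a
          map_smul' := fun t x => smul_comm a t x }
      have hm : Function.Injective m := fun x y h => smul_right_injective V ha0 h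
      have hdisj : Disjoint (fixc g c) ((fixc g c).map m) := by
        rw [Submodule.disjoint_def]
        intro x hx hx'
        obtain ⟨x', hx'E, rfl⟩ := hx'
        have hx'E2 : g x' = c • x' := (mem_fixc g c x').mp hx'E
        have hx2 : g (m x') = c • m x' := (mem_fixc g c (m x')).mp hx
        have h1 : g (a • x') = σ a • c • x' := by rw [hσ, hx'E2]
        have h2 : g (a • x') = c • a • x' := hx2
        have h3 : c • ((σ a - a) • x') = 0 := by
          rw [sub_smul, smul_sub, smul_comm c (σ a), ← h1, h2, sub_self]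
        have h4 : (σ a - a) • x' = 0 := (smul_eq_zero.mp h3).resolve_left hc
        have h5 : x' = 0 := (smul_eq_zero.mp h4).resolve_left (sub_ne_zero.mpr ha)
        rw [h5, map_zero]
      have h6 := Submodule.finrank_add_finrank_le_of_disjoint hdisj
      have h7 : finrank F ((fixc g c).map m) = finrank F (fixc g c) :=
        (Submodule.equivMapOfInjective m hm _).finrank_eq.symm
      omega

theorem c3eif1_skew (B : V →ₗ[K] V →ₗ[K] K) (hB0 : ∀ x, B x x = 0) (x y : V) : B x y = - B y x := by
  have h := hB0 (x + y)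
  simp only [map_add, LinearMap.add_apply, hB0, zero_add, add_zero] at h
  exact eq_neg_of_add_eq_zero_right h

theorem c3eif1_pair [FiniteDimensional K V] (B : V →ₗ[K] V →ₗ[K] K) (hB0 : ∀ x, B x x = 0)
    (hBn : ∀ x, x ≠ 0 → ∃ y, B x y ≠ 0) (hV : finrank K V = 2) :
    ∃ e e' : V, B e e' = 1 ∧ B e' e = -1 ∧ LinearIndependent K ![e, e'] ∧
      ∀ v : V, v = B v e' • e + B e v • e' := by
  classical
  have : Nontrivial V := Module.nontrivial_of_finrank_pos (R := K) (by rw [hV]; norm_num)
  obtain ⟨e, he⟩ := exists_ne (0 : V)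
  obtain ⟨e0, he0⟩ := hBn e he
  have hee' : B e ((B e e0)⁻¹ • e0) = 1 := by
    rw [map_smul, smul_eq_mul, inv_mul_cancel₀ he0]
  generalize (B e e0)⁻¹ • e0 = e' at hee'
  have he'e : B e' e = -1 := by rw [c3eif1_skew B hB0, hee']
  have hli : LinearIndependent K ![e, e'] := by
    rw [LinearIndependent.pair_iff]
    intro s t hst
    have h1 : B e (s • e + t • e') = 0 := by rw [hst, map_zero]
    have h2 : B e' (s • e + t • e') = 0 := by rw [hst, map_zero]
    rw [map_add, map_smul, map_smul, hB0, hee', smul_zero, zero_add, smul_eq_mul, mul_one] at h1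
    rw [map_add, map_smul, map_smul, hB0, he'e, smul_zero, add_zero, smul_eq_mul, mul_neg, mul_one,
      neg_eq_zero] at h2
    exact ⟨h2, h1⟩
  refine ⟨e, e', hee', he'e, hli, ?_⟩
  intro v
  have hcard : Fintype.card (Fin 2) = finrank K V := by rw [hV]; rfl
  have h := (basisOfLinearIndependentOfCardEqFinrank hli hcard).sum_repr v
  rw [Fin.sum_univ_two] at h
  simp only [coe_basisOfLinearIndependentOfCardEqFinrank, Matrix.cons_val_zero, Matrix.cons_val_one] at h
  obtain ⟨s, t, hst⟩ : ∃ s t : K, s • e + t • e' = v := ⟨_, _, h⟩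
  subst hst
  have hs : B (s • e + t • e') e' = s := by
    rw [map_add, LinearMap.add_apply, map_smul, map_smul, LinearMap.smul_apply, LinearMap.smul_apply,
      hB0, hee', smul_zero, add_zero, smul_eq_mul, mul_one]
  have ht : B e (s • e + t • e') = t := by
    rw [map_add, map_smul, map_smul, hB0, hee', smul_zero, zero_add, smul_eq_mul, mul_one]
  rw [hs, ht]

theorem c3e_if_inv [Finite K] [FiniteDimensional F K] [FiniteDimensional K V] [FiniteDimensional F V]
    (B : V →ₗ[K] V →ₗ[K] K) (hB0 : ∀ x, B x x = 0)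
    (hBn : ∀ x, x ≠ 0 → ∃ y, B x y ≠ 0) (hk : finrank F K = 2) (hV : finrank K V = 2) :
    ∃ y ∈ Spf F B, (∃ σ : K ≃ₐ[F] K, ∀ (a : K) (x : V), y (a • x) = σ a • y x) ∧ y ^ 2 = 1 ∧ finrank F (fixc y 1) = 2 := by
  classical
  obtain ⟨e, e', hee', he'e, hli, hdec⟩ := c3eif1_pair B hB0 hBn hV
  have : IsGalois F K := inferInstance
  have hcard : Nat.card (K ≃ₐ[F] K) = 2 := by rw [IsGalois.card_aut_eq_finrank, hk]
  have : Finite (K ≃ₐ[F] K) := Nat.finite_of_card_ne_zero (by rw [hcard]; norm_num)
  have : Nontrivial (K ≃ₐ[F] K) := (Finite.one_lt_card_iff_nontrivial).mp (by rw [hcard]; norm_num)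
  obtain ⟨σ, hσ1⟩ := exists_ne (1 : K ≃ₐ[F] K)
  have hσ2 : σ ^ 2 = 1 := by rw [← hcard]; exact pow_card_eq_one'
  have hσσ : ∀ a, σ (σ a) = a := by
    intro a
    have h := congrArg (fun τ : K ≃ₐ[F] K => τ a) hσ2
    simpa [pow_two, AlgEquiv.mul_apply] using h
  obtain ⟨a0, ha0⟩ : ∃ a, σ a ≠ a := by
    by_contra hcon
    exact hσ1 (AlgEquiv.ext fun a => not_not.mp fun h => hcon ⟨a, h⟩)
  have hadd : ∀ u v : V, σ (B (u + v) e') • e + σ (B e (u + v)) • e'
      = (σ (B u e') • e + σ (B e u) • e') + (σ (B v e') • e + σ (B e v) • e') := by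
    intro u v
    rw [map_add, LinearMap.add_apply, map_add, map_add, map_add, add_smul, add_smul]
    abel
  have hsl : ∀ (a : K) (v : V), σ (B (a • v) e') • e + σ (B e (a • v)) • e'
      = σ a • (σ (B v e') • e + σ (B e v) • e') := by
    intro a v
    have h1 : B (a • v) e' = a * B v e' := by rw [map_smul, LinearMap.smul_apply, smul_eq_mul]
    have h2 : B e (a • v) = a * B e v := by rw [map_smul, smul_eq_mul]
    rw [h1, h2, map_mul, map_mul, mul_smul, mul_smul, smul_add]
  let y₀ : V →ₗ[F] V :=
    { toFun := fun v => σ (B v e') • e + σ (B e v) • e'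
      map_add' := hadd
      map_smul' := by
        intro c v
        have h := hsl (algebraMap F K c) v
        rw [algebraMap_smul, AlgEquiv.commutes, algebraMap_smul] at h
        exact h }
  have hy₀ : ∀ v, y₀ v = σ (B v e') • e + σ (B e v) • e' := fun v => rfl
  have hB1 : ∀ v, B (y₀ v) e' = σ (B v e') := by
    intro v
    rw [hy₀, map_add, LinearMap.add_apply, map_smul, map_smul, LinearMap.smul_apply, LinearMap.smul_apply,
      hB0, hee', smul_zero, add_zero, smul_eq_mul, mul_one]
  have hB2 : ∀ v, B e (y₀ v) = σ (B e v) := by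
    intro v
    rw [hy₀, map_add, map_smul, map_smul, hB0, hee', smul_zero, zero_add, smul_eq_mul, mul_one]
  have hinv : Function.Involutive y₀ := by
    intro v
    rw [hy₀ (y₀ v), hB1, hB2, hσσ, hσσ]
    exact (hdec v).symm
  have hform : ∀ u v : V, B u v = B u e' * B e v - B e u * B v e' := by
    intro u v
    conv_lhs => rw [hdec u, hdec v]
    simp only [map_add, map_smul, LinearMap.add_apply, LinearMap.smul_apply, smul_eq_mul, hB0, hee', he'e]
    ring
  have hBy : ∀ u v : V, B (y₀ u) (y₀ v) = σ (B u v) := by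
    intro u v
    rw [hform (y₀ u) (y₀ v), hB1, hB2, hB1, hB2, hform u v, map_sub, map_mul, map_mul]
  refine ⟨LinearEquiv.ofInvolutive y₀ hinv, ?_, ⟨σ, ?_⟩, ?_, ?_⟩
  · intro u v
    rw [LinearEquiv.coe_ofInvolutive, hBy, Algebra.trace_eq_of_algEquiv]
  · intro a x
    rw [LinearEquiv.coe_ofInvolutive]
    exact hsl a x
  · apply LinearEquiv.ext
    intro v
    rw [pow_two, LinearEquiv.mul_apply, LinearEquiv.coe_ofInvolutive]
    exact hinv v
  · have hsemi := c3eif1_semi (LinearEquiv.ofInvolutive y₀ hinv) (fun a => σ a)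
      (fun a x => by rw [LinearEquiv.coe_ofInvolutive]; exact hsl a x) a0 ha0 1
    have hdim : finrank F V = 4 := by
      rw [← Module.finrank_mul_finrank F K V, hk, hV]
    have he_fix : e ∈ fixc (LinearEquiv.ofInvolutive y₀ hinv) (1 : F) := by
      rw [mem_fixc, LinearEquiv.coe_ofInvolutive, hy₀, hee', hB0, map_one, map_zero, one_smul, zero_smul,
        add_zero, one_smul]
    have he'_fix : e' ∈ fixc (LinearEquiv.ofInvolutive y₀ hinv) (1 : F) := by
      rw [mem_fixc, LinearEquiv.coe_ofInvolutive, hy₀, hee', hB0, map_one, map_zero, one_smul, zero_smul,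
        zero_add, one_smul]
    have hliF : LinearIndependent F
        ![(⟨e, he_fix⟩ : fixc (LinearEquiv.ofInvolutive y₀ hinv) (1 : F)), ⟨e', he'_fix⟩] := by
      rw [LinearIndependent.pair_iff]
      intro s t hst
      have h1 : s • e + t • e' = 0 := by
        have h := congrArg Subtype.val hst
        simpa using h
      rw [← algebraMap_smul K s e, ← algebraMap_smul K t e'] at h1
      have h2 := (LinearIndependent.pair_iff.mp hli) _ _ h1
      exact ⟨(map_eq_zero (algebraMap F K)).mp h2.1, (map_eq_zero (algebraMap F K)).mp h2.2⟩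
    have hge := hliF.fintype_card_le_finrank
    rw [Fintype.card_fin] at hge
    omega

end Cfsg.Agent.Lib.Helper10.C3E
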