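import Mathlib
import Cfsg.Agent.Lib.Helper22.C3L.Defs
import Cfsg.Agent.Lib.helper8.C3S.Defs

set_option autoImplicit false
set_option linter.unusedVariables false
set_option linter.unusedSectionVars false

namespace Cfsg.Agent.Lib.helper8.C3S

open Module Cfsg.Agent.Lib.Helper22.C3L

variable {F K V : Type*} [Field F] [Field K] [Algebra F K] [AddCommGroup V] [Module F V] [Module K V]
  [IsScalarTower F K V]

theorem c3sktv_skew (B : V →ₗ[K] V →ₗ[K] K) (hB0 : ∀ x, B x x = 0) (x y : V) : B y x = - B x y := by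
  have h := hB0 (x + y)
  simp only [map_add, LinearMap.add_apply, hB0, zero_add, add_zero] at h
  exact eq_neg_of_add_eq_zero_left h

theorem c3sktv_nil (B : V →ₗ[K] V →ₗ[K] K) (N : V →ₗ[K] V) (hN2 : ∀ x, N (N x) = 0)
    (hNB : ∀ x y, B (N x) y + B x (N y) + B (N x) (N y) = 0) :
    ∃ g ∈ SpB F B, ∀ x : V, g x = x + N x := by
  let NF : V →ₗ[F] V := N.restrictScalars F
  have hNF : ∀ x, NF x = N x := fun x => rfl
  let g : V ≃ₗ[F] V := LinearEquiv.ofLinearMap (LinearMap.id + NF) (LinearMap.id - NF)
    (by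
      ext x
      simp only [LinearMap.comp_apply, LinearMap.add_apply, LinearMap.sub_apply, LinearMap.id_apply,
        hNF, map_sub, hN2]
      abel)
    (by
      ext x
      simp only [LinearMap.comp_apply, LinearMap.add_apply, LinearMap.sub_apply, LinearMap.id_apply,
        hNF, map_add, hN2]
      abel)
  have hg : ∀ x, g x = x + N x := fun x => rfl
  refine ⟨g, ⟨fun a x => ?_, fun x y => ?_⟩, hg⟩
  · rw [hg, hg, map_smul, smul_add]
  · rw [hg, hg]
    simp only [map_add, LinearMap.add_apply]
    have := hNB x y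
    linear_combination this

theorem ktv_mem (B : V →ₗ[K] V →ₗ[K] K) (hB0 : ∀ x, B x x = 0) (u : V) (c : K) :
    ∃ g ∈ SpB F B, ∀ x : V, g x = x + (c * B x u) • u := by
  let N : V →ₗ[K] V := (c • B.flip u).smulRight u
  have hN : ∀ x, N x = (c * B x u) • u := fun x => by
    simp [N, LinearMap.smulRight_apply, LinearMap.flip_apply]
  obtain ⟨g, hg, hgx⟩ := c3sktv_nil (F := F) B N
    (by
      intro x
      rw [hN, hN]
      simp only [map_smul, LinearMap.smul_apply, hB0, smul_eq_mul, mul_zero, zero_smul])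
    (by
      intro x y
      rw [hN, hN]
      simp only [map_smul, LinearMap.smul_apply, hB0, smul_eq_mul, mul_zero, add_zero]
      rw [c3sktv_skew B hB0 y u]
      ring)
  exact ⟨g, hg, fun x => by rw [hgx, hN]⟩

theorem siegel_mem (B : V →ₗ[K] V →ₗ[K] K) (hB0 : ∀ x, B x x = 0) {v w : V} (hvw : B v w = 0) :
    ∃ g ∈ SpB F B, ∀ x : V, g x = x + B x v • w + B x w • v := by
  have hwv : B w v = 0 := by rw [c3sktv_skew B hB0 v w, hvw, neg_zero]
  let N : V →ₗ[K] V := (B.flip v).smulRight w + (B.flip w).smulRight v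
  have hN : ∀ x, N x = B x v • w + B x w • v := fun x => by
    simp [N, LinearMap.smulRight_apply, LinearMap.flip_apply]
  have hNv : ∀ x, B (N x) v = 0 := by
    intro x
    rw [hN]
    simp only [map_add, map_smul, LinearMap.add_apply, LinearMap.smul_apply, hB0, hwv, smul_eq_mul,
      mul_zero, add_zero]
  have hNw : ∀ x, B (N x) w = 0 := by
    intro x
    rw [hN]
    simp only [map_add, map_smul, LinearMap.add_apply, LinearMap.smul_apply, hB0, hvw, smul_eq_mul,
      mul_zero, add_zero]
  obtain ⟨g, hg, hgx⟩ := c3sktv_nil (F := F) B N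
    (by
      intro x
      rw [hN (N x), hNv, hNw]
      simp)
    (by
      intro x y
      have e1 : B (N x) (N y) = 0 := by
        rw [hN y]
        simp only [map_add, map_smul, hNv, hNw, smul_eq_mul, mul_zero, add_zero]
      rw [e1, hN, hN]
      simp only [map_add, map_smul, LinearMap.add_apply, LinearMap.smul_apply, smul_eq_mul, add_zero]
      rw [c3sktv_skew B hB0 y w, c3sktv_skew B hB0 y v]
      ring)
  exact ⟨g, hg, fun x => by rw [hgx, hN, add_assoc]⟩

end Cfsg.Agent.Lib.helper8.C3S
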