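import Mathlib
import Cfsg.Agent.Lib.Helper22.C3L.Defs
import Cfsg.Agent.Lib.Helper20.C3LLH

set_option autoImplicit false
set_option linter.unusedVariables false
set_option linter.unusedSectionVars false

namespace Cfsg.Agent.Lib.Helper22.C3L

open Module

variable {F K V : Type*} [Field F] [Field K] [Algebra F K] [AddCommGroup V] [Module F V] [Module K V]
  [IsScalarTower F K V]

def c3lstepc_iota (F : Type*) {K V : Type*} [Field F] [Field K] [Algebra F K] [AddCommGroup V]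
    [Module F V] [Module K V] [IsScalarTower F K V] (v : V) : K →ₗ[F] V where
  toFun a := a • v
  map_add' a b := add_smul a b v
  map_smul' c a := smul_assoc c a v

@[simp] theorem c3lstepc_iota_apply (v : V) (a : K) : c3lstepc_iota F v a = a • v := rfl

theorem c3lstepc_iota_inj {v : V} (hv : v ≠ 0) : Function.Injective (c3lstepc_iota F (K := K) v) := by
  intro a b hab
  simp only [c3lstepc_iota_apply] at hab
  have : (a - b) • v = 0 := by rw [sub_smul, hab, sub_self]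
  rcases smul_eq_zero.mp this with h | h
  · exact sub_eq_zero.mp h
  · exact absurd h hv

theorem c3lstepc_pi {v : V} (hv : v ≠ 0) :
    ∃ π : V →ₗ[F] K, ∀ a : K, π (a • v) = a := by
  obtain ⟨π, hπ⟩ := LinearMap.exists_leftInverse_of_injective (c3lstepc_iota F (K := K) v)
    (LinearMap.ker_eq_bot.mpr (c3lstepc_iota_inj hv))
  exact ⟨π, fun a => LinearMap.congr_fun hπ a⟩

theorem c3lstepc_coord {v : V} (hv : v ≠ 0) (X : V →ₗ[F] V) (hX : ∀ x, X x ∈ Kl F K v) :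
    ∃ ξ : V →ₗ[F] K, X = c3lstepc_iota F v ∘ₗ ξ := by
  obtain ⟨π, hπ⟩ := c3lstepc_pi (F := F) (K := K) hv
  refine ⟨π ∘ₗ X, ?_⟩
  ext x
  obtain ⟨a, ha⟩ := (mem_Kl F K).mp (hX x)
  rw [LinearMap.comp_apply, LinearMap.comp_apply, c3lstepc_iota_apply, ← ha, hπ]

def c3lstepc_O (K : Type*) {F V : Type*} [Field F] [Field K] [Algebra F K] [AddCommGroup V]
    [Module F V] [Module K V] [IsScalarTower F K V]
    (H : Subgroup (V ≃ₗ[F] V)) (v : V)
    (hsmul : ∀ (k : K) (X : V →ₗ[F] V), X ∈ LH K H v → kmul F K k ∘ₗ X ∈ LH K H v) :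
    Subalgebra F (Module.End F K) where
  carrier := {β | ∀ ξ : V →ₗ[F] K, c3lstepc_iota F v ∘ₗ ξ ∈ LH K H v →
    c3lstepc_iota F v ∘ₗ β ∘ₗ ξ ∈ LH K H v}
  mul_mem' := by
    intro β β' hβ hβ' ξ hξ
    have := hβ (β' ∘ₗ ξ) (hβ' ξ hξ)
    exact this
  one_mem' := by
    intro ξ hξ
    exact hξ
  add_mem' := by
    intro β β' hβ hβ' ξ hξ
    have := lh_add H v (hβ ξ hξ) (hβ' ξ hξ)
    have e : c3lstepc_iota F v ∘ₗ (β + β') ∘ₗ ξ =
        c3lstepc_iota F v ∘ₗ β ∘ₗ ξ + c3lstepc_iota F v ∘ₗ β' ∘ₗ ξ := by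
      ext x
      simp [add_smul]
    rw [e]
    exact this
  zero_mem' := by
    intro ξ hξ
    have e : c3lstepc_iota F v ∘ₗ (0 : Module.End F K) ∘ₗ ξ = 0 := by
      ext x
      simp
    rw [e]
    exact lh_zero H v
  algebraMap_mem' := by
    intro c ξ hξ
    have := hsmul (algebraMap F K c) _ hξ
    have e : c3lstepc_iota F v ∘ₗ (algebraMap F (Module.End F K) c) ∘ₗ ξ =
        kmul F K (algebraMap F K c) ∘ₗ c3lstepc_iota F v ∘ₗ ξ := by
      ext x
      simp only [LinearMap.comp_apply, c3lstepc_iota_apply, Module.algebraMap_end_apply, kmul_apply]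
      rw [smul_assoc, algebraMap_smul]
    rw [e]
    exact this

theorem c3lstepc_mem_O (H : Subgroup (V ≃ₗ[F] V)) (v : V)
    (hsmul : ∀ (k : K) (X : V →ₗ[F] V), X ∈ LH K H v → kmul F K k ∘ₗ X ∈ LH K H v)
    (β : Module.End F K) :
    β ∈ c3lstepc_O K H v hsmul ↔ ∀ ξ : V →ₗ[F] K, c3lstepc_iota F v ∘ₗ ξ ∈ LH K H v →
      c3lstepc_iota F v ∘ₗ β ∘ₗ ξ ∈ LH K H v := Iff.rfl

theorem c3lstepc_kmul_mem (H : Subgroup (V ≃ₗ[F] V)) (v : V)
    (hsmul : ∀ (k : K) (X : V →ₗ[F] V), X ∈ LH K H v → kmul F K k ∘ₗ X ∈ LH K H v) (k : K) :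
    kmul F K k ∈ c3lstepc_O K H v hsmul := by
  intro ξ hξ
  have := hsmul k _ hξ
  have e : c3lstepc_iota F v ∘ₗ (kmul F K k : Module.End F K) ∘ₗ ξ =
      kmul F K k ∘ₗ c3lstepc_iota F v ∘ₗ ξ := by
    ext x
    simp [mul_smul]
  rw [e]
  exact this

theorem c3lstepc_core [Finite K] [FiniteDimensional K V] (hr : (finrank F K).Prime) (hm : 2 ≤ finrank K V)
    (H : Subgroup (V ≃ₗ[F] V)) (hC : C1 F K V ≤ H) {g : V ≃ₗ[F] V} (hg : g ∈ H) {v : V} (hv : v ≠ 0)
    (hgv : ∀ a : K, ∃ b : K, g (a • v) = b • v)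
    (hgn : ∃ a : K, ∀ b : K, ∃ c : K, g (a • c • v) ≠ b • g (c • v))
    (hsmul : ∀ (k : K) (X : V →ₗ[F] V), X ∈ LH K H v → kmul F K k ∘ₗ X ∈ LH K H v)
    (hn2 : ∀ (A : Subalgebra F (Module.End F K)), (∀ a : K, kmul F K a ∈ A) →
      ∀ T : Module.End F K, T ∈ A → (∀ a : K, T ≠ kmul F K a) → A = ⊤) : HasTv2 K H := by
  have hr2 : 2 ≤ finrank F K := hr.two_le
  have : FiniteDimensional F K := Module.finite_of_finrank_pos (by omega)
  obtain ⟨π, hπ⟩ := c3lstepc_pi (F := F) (K := K) hv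
  obtain ⟨α, hα⟩ : ∃ α : K →ₗ[F] K, ∀ a : K, g (a • v) = α a • v := by
    refine ⟨π ∘ₗ (g : V →ₗ[F] V) ∘ₗ c3lstepc_iota F v, ?_⟩
    intro a
    obtain ⟨b, hb⟩ := hgv a
    simp only [LinearMap.comp_apply, c3lstepc_iota_apply, LinearEquiv.coe_coe]
    rw [hb, hπ]
  have hαinj : Function.Injective α := by
    intro a b hab
    have : g (a • v) = g (b • v) := by rw [hα, hα, hab]
    exact c3lstepc_iota_inj (F := F) hv (g.injective this)
  have hαsurj : Function.Surjective α := LinearMap.injective_iff_surjective.mp hαinj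
  obtain ⟨α', hα'⟩ : ∃ α' : K →ₗ[F] K, ∀ b : K, g.symm (b • v) = α' b • v := by
    refine ⟨π ∘ₗ (g.symm : V →ₗ[F] V) ∘ₗ c3lstepc_iota F v, ?_⟩
    intro b
    obtain ⟨a, ha⟩ := hαsurj b
    simp only [LinearMap.comp_apply, c3lstepc_iota_apply, LinearEquiv.coe_coe]
    rw [← ha, ← hα, LinearEquiv.symm_apply_apply, hπ]
  have hαα' : ∀ b, α (α' b) = b := by
    intro b
    have : g (g.symm (b • v)) = b • v := LinearEquiv.apply_symm_apply g _
    rw [hα', hα] at this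
    exact c3lstepc_iota_inj (F := F) hv this
  have hα'α : ∀ a, α' (α a) = a := by
    intro a
    have : g.symm (g (a • v)) = a • v := LinearEquiv.symm_apply_apply g _
    rw [hα, hα'] at this
    exact c3lstepc_iota_inj (F := F) hv this
  have hgs : g.symm ∈ H := by
    have := H.inv_mem hg
    exact this
  have hgsv : ∀ a : K, ∃ b : K, g.symm (a • v) = b • v := fun a => ⟨α' a, hα' a⟩
  have hnorm : ∀ β ∈ c3lstepc_O K H v hsmul, α ∘ₗ β ∘ₗ α' ∈ c3lstepc_O K H v hsmul := by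
    intro β hβ ξ hξ
    have h1 := lh_conj H hgs hgsv hξ
    have e1 : (g.symm : V →ₗ[F] V) ∘ₗ (c3lstepc_iota F v ∘ₗ ξ) ∘ₗ ((g.symm).symm : V →ₗ[F] V) =
        c3lstepc_iota F v ∘ₗ (α' ∘ₗ ξ ∘ₗ (g : V →ₗ[F] V)) := by
      ext x
      simp only [LinearMap.comp_apply, c3lstepc_iota_apply, LinearEquiv.coe_coe,
        LinearEquiv.symm_symm]
      rw [hα']
    rw [e1] at h1
    have h2 := hβ _ h1
    have h3 := lh_conj H hg hgv h2
    have e2 : (g : V →ₗ[F] V) ∘ₗ (c3lstepc_iota F v ∘ₗ β ∘ₗ (α' ∘ₗ ξ ∘ₗ (g : V →ₗ[F] V))) ∘ₗ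
        (g.symm : V →ₗ[F] V) = c3lstepc_iota F v ∘ₗ (α ∘ₗ β ∘ₗ α') ∘ₗ ξ := by
      ext x
      simp only [LinearMap.comp_apply, c3lstepc_iota_apply, LinearEquiv.coe_coe,
        LinearEquiv.apply_symm_apply]
      rw [hα]
    rw [e2] at h3
    exact h3
  obtain ⟨a, ha⟩ := hgn
  have hT : α ∘ₗ (kmul F K a : Module.End F K) ∘ₗ α' ∈ c3lstepc_O K H v hsmul :=
    hnorm _ (c3lstepc_kmul_mem H v hsmul a)
  have hTK : ∀ b : K, (α ∘ₗ (kmul F K a : Module.End F K) ∘ₗ α' : Module.End F K) ≠ kmul F K b := by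
    intro b hb
    obtain ⟨c, hc⟩ := ha b
    apply hc
    have := LinearMap.congr_fun hb (α c)
    simp only [LinearMap.comp_apply, kmul_apply, hα'α] at this
    rw [smul_smul, hα, hα, smul_smul]
    congr 1
  have htop : c3lstepc_O K H v hsmul = ⊤ :=
    hn2 (c3lstepc_O K H v hsmul) (c3lstepc_kmul_mem H v hsmul) _ hT hTK
  obtain ⟨X, hX, hX0⟩ := lh_ne (K := K) hm H hC hv
  obtain ⟨ξ, rfl⟩ := c3lstepc_coord hv X hX.1
  obtain ⟨x₀, hx₀⟩ : ∃ x₀, ξ x₀ ≠ 0 := by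
    by_contra hcon
    push Not at hcon
    apply hX0
    ext x
    simp [hcon x]
  obtain ⟨lam, hlam⟩ := Module.Projective.exists_dual_eq_one F hx₀
  have hβ : (LinearMap.toSpanSingleton F K (ξ x₀) ∘ₗ lam : Module.End F K) ∈
      c3lstepc_O K H v hsmul := by
    rw [htop]
    exact Algebra.mem_top
  obtain ⟨-, -, g', hg'H, hg'⟩ := hβ ξ hX
  have hker : ∀ b : K, ξ (b • v) = 0 := by
    intro b
    have := hX.2.1 (b • v) (smul_mem_Kl F K b v)
    simp only [LinearMap.comp_apply, c3lstepc_iota_apply] at this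
    rcases smul_eq_zero.mp this with h | h
    · exact h
    · exact absurd h hv
  have hφz : (lam ∘ₗ ξ) (ξ x₀ • v) = 0 := by
    rw [LinearMap.comp_apply, hker, map_zero]
  refine ⟨lam ∘ₗ ξ, ξ x₀ • v, hφz, ?_, ?_, ?_, ?_⟩
  · exact smul_ne_zero hx₀ hv
  · intro h0
    have := LinearMap.congr_fun h0 x₀
    rw [LinearMap.comp_apply, hlam, LinearMap.zero_apply] at this
    exact one_ne_zero this
  · intro b
    rw [LinearMap.comp_apply, smul_smul, hker, map_zero]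
  · have e : LinearEquiv.transvection hφz = g' := by
      ext x
      rw [LinearEquiv.transvection.apply, hg']
      simp only [LinearMap.comp_apply, c3lstepc_iota_apply, LinearMap.toSpanSingleton_apply]
      rw [smul_assoc]
    rw [e]
    exact hg'H

end Cfsg.Agent.Lib.Helper22.C3L
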