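import Mathlib
import Cfsg.Agent.Lib.Helper22.C3L.Defs
import Cfsg.Agent.Lib.Helper24.C3LSTEPCcore
import Cfsg.Agent.Lib.Helper20.C3LLK
import Cfsg.Agent.Lib.Helper13.C3LN2

set_option autoImplicit false
set_option linter.unusedVariables false
set_option linter.unusedSectionVars false

namespace Cfsg.Agent.Lib.Helper22.C3L

open Module

variable {F K V : Type*} [Field F] [Field K] [Algebra F K] [AddCommGroup V] [Module F V] [Module K V]
  [IsScalarTower F K V]

theorem stepC [Finite K] [FiniteDimensional K V] (hr : (finrank F K).Prime) (hm : 2 ≤ finrank K V)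
    (H : Subgroup (V ≃ₗ[F] V)) (hC : C1 F K V ≤ H) {g : V ≃ₗ[F] V} (hg : g ∈ H) {v : V} (hv : v ≠ 0)
    (hgv : ∀ a : K, ∃ b : K, g (a • v) = b • v)
    (hgn : ∃ a : K, ∀ b : K, ∃ c : K, g (a • c • v) ≠ b • g (c • v)) : HasTv2 K H := by
  have hr2 : 2 ≤ finrank F K := hr.two_le
  have hfd : FiniteDimensional F K := Module.finite_of_finrank_pos (by omega)
  exact c3lstepc_core hr hm H hC hg hv hgv hgn
    (fun k X hX => lh_smul hr2 H hC hv k hX)
    (fun A hK T hT hTK => n2 (K := K) (W := K) (Module.finrank_self K) hr A hK T hT hTK)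

end Cfsg.Agent.Lib.Helper22.C3L
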