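import Mathlib
import Cfsg.Prelude.Def_GeometricClasses
import Cfsg.Agent.Lib.helper6.PlusCoords

set_option autoImplicit false
set_option linter.unusedVariables false
set_option linter.unusedSectionVars false

namespace Cfsg.Agent.Lib.Helper26.E12P

open Cfsg Cfsg.Geo
open scoped MatrixGroups Matrix

variable {n : ℕ} {F : Type*} [Field F]

theorem e12pd4q2_hyp4 (Q : QuadraticForm F (Fin n → F)) (W : Submodule F (Fin n → F))
    (hW : IsNondegenerateOn (QuadraticMap.polar (⇑Q)) W) (hd : Module.finrank F W = 4)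
    (hp : IsPlusTypeOn (⇑Q) W) :
    ∃ e₁ f₁ e₂ f₂ : Fin n → F, e₁ ∈ W ∧ f₁ ∈ W ∧ e₂ ∈ W ∧ f₂ ∈ W ∧
      (∀ w ∈ W, ∃ x₁ y₁ x₂ y₂ : F, w = x₁ • e₁ + y₁ • f₁ + x₂ • e₂ + y₂ • f₂) ∧
      (∀ x₁ y₁ x₂ y₂ : F, Q (x₁ • e₁ + y₁ • f₁ + x₂ • e₂ + y₂ • f₂) = x₁ * y₁ + x₂ * y₂) := by
  classical
  obtain ⟨U, hUW, hUs, hUd⟩ := hp
  have hU2 : Module.finrank F U = 2 := by omega
  obtain ⟨Q', hQ'⟩ : ∃ Q' : QuadraticForm F W, Q' = Q.comp W.subtype := ⟨_, rfl⟩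
  have hQ'app : ∀ w : W, Q' w = Q (w : Fin n → F) := fun w => by rw [hQ']; rfl
  have hpol' : ∀ a b : W, QuadraticMap.polarBilin Q' a b =
      QuadraticMap.polar (⇑Q) (a : Fin n → F) (b : Fin n → F) := by
    intro a b
    show QuadraticMap.polar (⇑Q') a b = _
    unfold QuadraticMap.polar
    rw [hQ'app, hQ'app, hQ'app]
    rfl
  have hnd : (QuadraticMap.polarBilin Q').Nondegenerate := by
    constructor
    · intro a ha
      by_contra ha0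
      have ha0' : (a : Fin n → F) ≠ 0 := fun h => ha0 (Subtype.ext h)
      obtain ⟨_, ⟨x, hx, hxa⟩⟩ := hW a a.2 ha0'
      apply hxa
      have := ha ⟨x, hx⟩
      rw [hpol'] at this
      exact this
    · intro a ha
      by_contra ha0
      have ha0' : (a : Fin n → F) ≠ 0 := fun h => ha0 (Subtype.ext h)
      obtain ⟨⟨x, hx, hxa⟩, _⟩ := hW a a.2 ha0'
      apply hxa
      have := ha ⟨x, hx⟩
      rw [hpol'] at this
      exact this
  obtain ⟨U', hU'⟩ : ∃ U' : Submodule F W, U' = Submodule.comap W.subtype U := ⟨_, rfl⟩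
  have hU's : ∀ u ∈ U', Q' u = 0 := by
    intro u hu
    rw [hQ'app]
    rw [hU'] at hu
    exact hUs _ hu
  have hU'd : Module.finrank F U' = 2 := by
    rw [hU', ← hU2]
    exact LinearEquiv.finrank_eq (Submodule.comapSubtypeEquivOfLe hUW)
  obtain ⟨T, hT⟩ := Cfsg.Agent.Lib.helper6.Plus.exists_hyp_coords Q' hnd U' hU's 2 hU'd (by rw [hd])
  obtain ⟨b, hb⟩ : ∃ b : Fin 2 ⊕ Fin 2 → W, ∀ k, b k = T.symm (Pi.single k 1) := ⟨_, fun _ => rfl⟩
  have hTb : ∀ k, T (b k) = Pi.single k 1 := fun k => by rw [hb, LinearEquiv.apply_symm_apply]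
  have hcomb : ∀ x₁ y₁ x₂ y₂ : F,
      T (x₁ • b (Sum.inl 0) + y₁ • b (Sum.inr 0) + x₂ • b (Sum.inl 1) + y₂ • b (Sum.inr 1)) =
        fun k => Sum.elim ![x₁, x₂] ![y₁, y₂] k := by
    intro x₁ y₁ x₂ y₂
    rw [map_add, map_add, map_add, map_smul, map_smul, map_smul, map_smul, hTb, hTb, hTb, hTb]
    funext k
    rcases k with k | k <;> fin_cases k <;> simp
  refine ⟨(b (Sum.inl 0) : Fin n → F), (b (Sum.inr 0) : Fin n → F), (b (Sum.inl 1) : Fin n → F),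
    (b (Sum.inr 1) : Fin n → F), (b _).2, (b _).2, (b _).2, (b _).2, ?_, ?_⟩
  · intro w hw
    refine ⟨T ⟨w, hw⟩ (Sum.inl 0), T ⟨w, hw⟩ (Sum.inr 0), T ⟨w, hw⟩ (Sum.inl 1), T ⟨w, hw⟩ (Sum.inr 1), ?_⟩
    have h1 : (⟨w, hw⟩ : W) = T ⟨w, hw⟩ (Sum.inl 0) • b (Sum.inl 0) + T ⟨w, hw⟩ (Sum.inr 0) • b (Sum.inr 0) +
        T ⟨w, hw⟩ (Sum.inl 1) • b (Sum.inl 1) + T ⟨w, hw⟩ (Sum.inr 1) • b (Sum.inr 1) := by
      apply T.injective
      rw [hcomb]
      funext k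
      rcases k with k | k <;> fin_cases k <;> simp
    have h2 := congrArg (Subtype.val) h1
    simpa using h2
  · intro x₁ y₁ x₂ y₂
    have h1 : (x₁ • (b (Sum.inl 0) : Fin n → F) + y₁ • (b (Sum.inr 0) : Fin n → F) +
        x₂ • (b (Sum.inl 1) : Fin n → F) + y₂ • (b (Sum.inr 1) : Fin n → F)) =
        ((x₁ • b (Sum.inl 0) + y₁ • b (Sum.inr 0) + x₂ • b (Sum.inl 1) + y₂ • b (Sum.inr 1) : W) : Fin n → F) := by
      simp
    rw [h1, ← hQ'app, ← hT, hcomb]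
    simp [Cfsg.quadFormPlus, Fin.sum_univ_two]


theorem e12pd4q2_two [Fintype F] (hq : Fintype.card F = 2) : (2 : F) = 0 := by
  have h := FiniteField.cast_card_eq_zero F
  rw [hq] at h
  exact_mod_cast h

theorem e12pd4q2_elems [Fintype F] (hq : Fintype.card F = 2) (a : F) : a = 0 ∨ a = 1 := by
  have h := FiniteField.pow_card a
  rw [hq] at h
  have h1 : a * (a - 1) = 0 := by linear_combination h
  rcases mul_eq_zero.1 h1 with h2 | h2
  · exact Or.inl h2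
  · exact Or.inr (sub_eq_zero.1 h2)

theorem e12pd4q2_block [Fintype F] (hq : Fintype.card F = 2) (Q : QuadraticForm F (Fin n → F))
    (W : Submodule F (Fin n → F)) (hW : IsNondegenerateOn (QuadraticMap.polar (⇑Q)) W)
    (hd : Module.finrank F W = 4) (hp : IsPlusTypeOn (⇑Q) W) :
    ∃ P P' : Submodule F (Fin n → F), P ≤ W ∧ P' ≤ W ∧ Module.finrank F P = 2 ∧
      Module.finrank F P' = 2 ∧ P ⊔ P' = W ∧ AreOrthogonalFor (QuadraticMap.polar (⇑Q)) P P' ∧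
      (∀ v ∈ P, v ≠ 0 → Q v = 1) ∧ (∀ v ∈ P', v ≠ 0 → Q v = 1) ∧
      (∀ u ∈ W, ∀ v ∈ W, Q u = 1 → Q v = 1 → u ≠ v → QuadraticMap.polar (⇑Q) u v = 1 →
        (u ∈ P ∧ v ∈ P) ∨ (u ∈ P' ∧ v ∈ P')) := by
  classical
  have h2 : (2 : F) = 0 := e12pd4q2_two hq
  have h01 := e12pd4q2_elems hq
  obtain ⟨e₁, f₁, e₂, f₂, he₁, hf₁, he₂, hf₂, hrepr, hQ4⟩ := e12pd4q2_hyp4 Q W hW hd hp
  obtain ⟨L, hL⟩ : ∃ L : F → F → F → F → (Fin n → F),
      ∀ x₁ y₁ x₂ y₂, L x₁ y₁ x₂ y₂ = x₁ • e₁ + y₁ • f₁ + x₂ • e₂ + y₂ • f₂ := ⟨_, fun _ _ _ _ => rfl⟩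
  have hLW : ∀ x₁ y₁ x₂ y₂, L x₁ y₁ x₂ y₂ ∈ W := by
    intro x₁ y₁ x₂ y₂
    rw [hL]
    exact W.add_mem (W.add_mem (W.add_mem (W.smul_mem _ he₁) (W.smul_mem _ hf₁)) (W.smul_mem _ he₂))
      (W.smul_mem _ hf₂)
  have hLadd : ∀ x₁ y₁ x₂ y₂ x₁' y₁' x₂' y₂', L x₁ y₁ x₂ y₂ + L x₁' y₁' x₂' y₂' =
      L (x₁ + x₁') (y₁ + y₁') (x₂ + x₂') (y₂ + y₂') := by
    intro x₁ y₁ x₂ y₂ x₁' y₁' x₂' y₂'
    rw [hL, hL, hL]
    module
  have hLsmul : ∀ s x₁ y₁ x₂ y₂, s • L x₁ y₁ x₂ y₂ = L (s * x₁) (s * y₁) (s * x₂) (s * y₂) := by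
    intro s x₁ y₁ x₂ y₂
    rw [hL, hL]
    module
  have hQL : ∀ x₁ y₁ x₂ y₂, Q (L x₁ y₁ x₂ y₂) = x₁ * y₁ + x₂ * y₂ := by
    intro x₁ y₁ x₂ y₂
    rw [hL]
    exact hQ4 _ _ _ _
  have hpolL : ∀ x₁ y₁ x₂ y₂ x₁' y₁' x₂' y₂', QuadraticMap.polar (⇑Q) (L x₁ y₁ x₂ y₂) (L x₁' y₁' x₂' y₂') =
      x₁ * y₁' + x₁' * y₁ + x₂ * y₂' + x₂' * y₂ := by
    intro x₁ y₁ x₂ y₂ x₁' y₁' x₂' y₂'
    unfold QuadraticMap.polar
    rw [hLadd, hQL, hQL, hQL]
    ring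
  have hLinj : ∀ x₁ y₁ x₂ y₂ x₁' y₁' x₂' y₂', L x₁ y₁ x₂ y₂ = L x₁' y₁' x₂' y₂' →
      x₁ = x₁' ∧ y₁ = y₁' ∧ x₂ = x₂' ∧ y₂ = y₂' := by
    intro x₁ y₁ x₂ y₂ x₁' y₁' x₂' y₂' h
    have k1 := congrArg (fun v => QuadraticMap.polar (⇑Q) v (L 0 1 0 0)) h
    have k2 := congrArg (fun v => QuadraticMap.polar (⇑Q) v (L 1 0 0 0)) h
    have k3 := congrArg (fun v => QuadraticMap.polar (⇑Q) v (L 0 0 0 1)) h
    have k4 := congrArg (fun v => QuadraticMap.polar (⇑Q) v (L 0 0 1 0)) h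
    simp only [hpolL] at k1 k2 k3 k4
    refine ⟨by linear_combination k1, by linear_combination k2, by linear_combination k3,
      by linear_combination k4⟩
  have hL0 : L 0 0 0 0 = 0 := by
    rw [hL]
    simp
  obtain ⟨P, hP⟩ : ∃ P : Submodule F (Fin n → F), P = Submodule.span F {L 1 1 0 0, L 1 0 1 1} := ⟨_, rfl⟩
  obtain ⟨P', hP'⟩ : ∃ P' : Submodule F (Fin n → F), P' = Submodule.span F {L 0 0 1 1, L 1 1 1 0} := ⟨_, rfl⟩
  have hPmem : ∀ v, v ∈ P ↔ ∃ s r : F, v = L (s + r) s r r := by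
    intro v
    rw [hP, Submodule.mem_span_pair]
    constructor
    · rintro ⟨s, r, rfl⟩
      refine ⟨s, r, ?_⟩
      rw [hLsmul, hLsmul, hLadd]
      congr 1 <;> ring
    · rintro ⟨s, r, rfl⟩
      refine ⟨s, r, ?_⟩
      rw [hLsmul, hLsmul, hLadd]
      congr 1 <;> ring
  have hP'mem : ∀ v, v ∈ P' ↔ ∃ s r : F, v = L r r (s + r) s := by
    intro v
    rw [hP', Submodule.mem_span_pair]
    constructor
    · rintro ⟨s, r, rfl⟩
      refine ⟨s, r, ?_⟩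
      rw [hLsmul, hLsmul, hLadd]
      congr 1 <;> ring
    · rintro ⟨s, r, rfl⟩
      refine ⟨s, r, ?_⟩
      rw [hLsmul, hLsmul, hLadd]
      congr 1 <;> ring
  have hPW : P ≤ W := by
    intro v hv
    obtain ⟨s, r, rfl⟩ := (hPmem v).1 hv
    exact hLW _ _ _ _
  have hP'W : P' ≤ W := by
    intro v hv
    obtain ⟨s, r, rfl⟩ := (hP'mem v).1 hv
    exact hLW _ _ _ _
  have hfin : ∀ a c : Fin n → F, (∀ s r : F, s • a + r • c = 0 → s = 0 ∧ r = 0) →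
      Module.finrank F (Submodule.span F ({a, c} : Set (Fin n → F))) = 2 := by
    intro a c hac
    have hli : LinearIndependent F ![a, c] := by
      rw [LinearIndependent.pair_iff]
      exact hac
    have h3 := finrank_span_eq_card hli
    rw [Fintype.card_fin] at h3
    have hr : Set.range ![a, c] = ({a, c} : Set (Fin n → F)) := by
      ext z
      simp [eq_comm]
      exact or_comm
    rw [hr] at h3
    exact h3
  have hPfin : Module.finrank F P = 2 := by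
    rw [hP]
    apply hfin
    intro s r h
    rw [hLsmul, hLsmul, hLadd, ← hL0] at h
    obtain ⟨k1, k2, k3, k4⟩ := hLinj _ _ _ _ _ _ _ _ h
    refine ⟨by linear_combination k2, by linear_combination k3⟩
  have hP'fin : Module.finrank F P' = 2 := by
    rw [hP']
    apply hfin
    intro s r h
    rw [hLsmul, hLsmul, hLadd, ← hL0] at h
    obtain ⟨k1, k2, k3, k4⟩ := hLinj _ _ _ _ _ _ _ _ h
    refine ⟨by linear_combination k4, by linear_combination k1⟩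
  have horth : AreOrthogonalFor (QuadraticMap.polar (⇑Q)) P P' := by
    intro u hu v hv
    obtain ⟨s, r, rfl⟩ := (hPmem u).1 hu
    obtain ⟨s', r', rfl⟩ := (hP'mem v).1 hv
    rw [hpolL]
    linear_combination (s * r' + r * r' + r * s') * h2
  have hPan : ∀ v ∈ P, v ≠ 0 → Q v = 1 := by
    intro v hv hv0
    obtain ⟨s, r, rfl⟩ := (hPmem v).1 hv
    rw [hQL]
    rcases h01 s with rfl | rfl <;> rcases h01 r with rfl | rfl
    · exfalso
      apply hv0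
      rw [add_zero, hL0]
    · ring
    · ring
    · linear_combination h2
  have hP'an : ∀ v ∈ P', v ≠ 0 → Q v = 1 := by
    intro v hv hv0
    obtain ⟨s, r, rfl⟩ := (hP'mem v).1 hv
    rw [hQL]
    rcases h01 s with rfl | rfl <;> rcases h01 r with rfl | rfl
    · exfalso
      apply hv0
      rw [add_zero, hL0]
    · ring
    · ring
    · linear_combination h2
  have hsup : P ⊔ P' = W := by
    apply le_antisymm (sup_le hPW hP'W)
    intro w hw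
    obtain ⟨x₁, y₁, x₂, y₂, rfl⟩ := hrepr w hw
    rw [← hL]
    have h3 : L x₁ y₁ x₂ y₂ = L ((y₁ - (x₂ - y₂)) + (x₁ - y₁)) (y₁ - (x₂ - y₂)) (x₁ - y₁) (x₁ - y₁) +
        L (x₂ - y₂) (x₂ - y₂) ((y₂ - (x₁ - y₁)) + (x₂ - y₂)) (y₂ - (x₁ - y₁)) := by
      rw [hLadd]
      congr 1 <;> ring
    rw [h3]
    exact Submodule.add_mem_sup ((hPmem _).2 ⟨_, _, rfl⟩) ((hP'mem _).2 ⟨_, _, rfl⟩)
  refine ⟨P, P', hPW, hP'W, hPfin, hP'fin, hsup, horth, hPan, hP'an, ?_⟩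
  have hone : ∀ w ∈ W, Q w = 1 → w ∈ P ∨ w ∈ P' := by
    intro w hw hQw
    rw [← hsup] at hw
    obtain ⟨p, hp, p', hp', rfl⟩ := Submodule.mem_sup.1 hw
    have h3 : Q (p + p') = Q p + Q p' + QuadraticMap.polar (⇑Q) p p' := QuadraticMap.map_add Q p p'
    rw [horth p hp p' hp', add_zero] at h3
    by_cases hp0 : p = 0
    · right
      rw [hp0, zero_add]
      exact hp'
    by_cases hp'0 : p' = 0
    · left
      rw [hp'0, add_zero]
      exact hp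
    exfalso
    rw [hQw, hPan p hp hp0, hP'an p' hp' hp'0] at h3
    have h4 : (1 : F) = 0 := by linear_combination h3 + h2
    exact one_ne_zero h4
  intro u hu v hv hQu hQv huv hpol
  rcases hone u hu hQu with h3 | h3 <;> rcases hone v hv hQv with h4 | h4
  · exact Or.inl ⟨h3, h4⟩
  · exfalso
    rw [horth u h3 v h4] at hpol
    exact zero_ne_one hpol
  · exfalso
    rw [QuadraticMap.polar_comm, horth v h4 u h3] at hpol
    exact zero_ne_one hpol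
  · exact Or.inr ⟨h3, h4⟩

end Cfsg.Agent.Lib.Helper26.E12P
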