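import Mathlib

set_option autoImplicit false

namespace Cfsg.Agent.Lib.Helper24.O5040A

def o5040arith_prs : List (ℕ × ℤ) :=
  [(2, 2), (5, -2), (6, -1), (8, 1), (9, 2), (12, -2), (15, 1), (16, 2), (20, -1), (30, 2),
    (36, 1), (40, -2), (48, -1)]

def o5040arith_prs1 : List (ℕ × ℤ) := [(6, -1), (8, 1), (15, 1), (20, -1), (36, 1), (48, -1)]

def o5040arith_ks (D : ℕ) : List ℤ :=
  if D = 2 then [2, -2] else if D = 5 then [] else if D = 6 then [] else if D = 8 then [0]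
  else if D = 9 then [1, -3] else if D = 12 then [0] else if D = 15 then [-1, 3]
  else if D = 16 then [0, 4, -4] else if D = 20 then [0] else if D = 30 then [2, -2, 6, -6]
  else [0, 4, -4]

def o5040arith_sqrt (q : ℕ) : ℕ :=
  (Nat.rec (motive := fun _ => ℕ × ℕ → ℕ) (fun lh => lh.1)
    (fun _ ih lh => if ((lh.1 + lh.2) / 2) * ((lh.1 + lh.2) / 2) ≤ q then ih ((lh.1 + lh.2) / 2, lh.2)
      else ih (lh.1, (lh.1 + lh.2) / 2)) 12 : ℕ × ℕ → ℕ) (0, 2048)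

def o5040arith_T (l : List ((ℕ × ℤ) × ℤ)) : ℤ :=
  5040 + (l.map fun x => x.1.2 * x.2 ^ 2 * ((5040 / x.1.1 : ℕ) : ℤ)).sum

def o5040arith_bad (l : List ((ℕ × ℤ) × ℤ)) : Bool :=
  let t := o5040arith_T l
  let q := (t / 7).toNat
  let r := o5040arith_sqrt q
  decide (t % 7 ≠ 0) || decide (t < 0) || (decide (r * r < q) && decide (q < (r + 1) * (r + 1)))

theorem o5040arith_cert (l : List ((ℕ × ℤ) × ℤ)) (c : ℕ) (hc : 7 * (c : ℤ) ^ 2 = o5040arith_T l)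
    (hbad : o5040arith_bad l = true) : False := by
  simp only [o5040arith_bad, Bool.or_eq_true, Bool.and_eq_true, decide_eq_true_eq] at hbad
  have hq : o5040arith_T l / 7 = (c : ℤ) ^ 2 := by
    rw [← hc]
    exact Int.mul_ediv_cancel_left _ (by norm_num)
  have hq' : (o5040arith_T l / 7).toNat = c ^ 2 := by
    rw [hq]
    exact_mod_cast Int.toNat_natCast (c ^ 2)
  rw [hq'] at hbad
  rcases hbad with (h | h) | h
  · apply h
    rw [← hc]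
    exact Int.mul_emod_right _ _
  · rw [← hc] at h
    have : 0 ≤ 7 * (c : ℤ) ^ 2 := by positivity
    omega
  · obtain ⟨h1, h2⟩ := h
    set r := o5040arith_sqrt (c ^ 2)
    have h3 : r < c := by nlinarith
    have h4 : c < r + 1 := by nlinarith
    omega

theorem o5040arith_cl {n : ℕ} (D : Fin n → ℕ) (v k : Fin n → ℤ) (c : ℕ) (hD2 : ∀ i, 2 ≤ D i)
    (hDdvd : ∀ i, D i ∣ 5040)
    (hcl : (7 : ℚ) * (c : ℚ) ^ 2 = 5040 * (1 + ∑ i, (v i : ℚ) * (k i : ℚ) ^ 2 / (D i : ℚ))) :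
    7 * (c : ℤ) ^ 2 = 5040 + ∑ i, v i * k i ^ 2 * ((5040 / D i : ℕ) : ℤ) := by
  have e : ∀ i, (5040 : ℚ) * ((v i : ℚ) * (k i : ℚ) ^ 2 / (D i : ℚ)) =
      (v i : ℚ) * (k i : ℚ) ^ 2 * ((5040 / D i : ℕ) : ℚ) := by
    intro i
    have h0 : (D i : ℚ) ≠ 0 := by
      have := hD2 i
      have : (0 : ℚ) < (D i : ℚ) := by exact_mod_cast (by omega : 0 < D i)
      exact this.ne'
    have h1 : ((5040 / D i : ℕ) : ℚ) = 5040 / (D i : ℚ) := by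
      rw [Nat.cast_div (hDdvd i) h0]
      norm_num
    rw [h1]
    field_simp
  have h2 : (7 : ℚ) * (c : ℚ) ^ 2 = 5040 + ∑ i, (v i : ℚ) * (k i : ℚ) ^ 2 * ((5040 / D i : ℕ) : ℚ) := by
    rw [hcl, mul_add, mul_one, Finset.mul_sum]
    congr 1
    exact Finset.sum_congr rfl fun i _ => e i
  have h3 : ((7 * (c : ℤ) ^ 2 : ℤ) : ℚ) =
      ((5040 + ∑ i, v i * k i ^ 2 * ((5040 / D i : ℕ) : ℤ) : ℤ) : ℚ) := by
    push_cast
    exact h2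
  exact Int.cast_injective h3

theorem o5040arith_pair (D : ℕ) (v : ℤ) (hv : v = 1 ∨ v = -1 ∨ v = 2 ∨ v = -2) (hD2 : 2 ≤ D)
    (hD70 : D ≤ 70) (hdvd : D ∣ 5040) (h7 : (7 : ℤ) ∣ (D : ℤ) - v) : (D, v) ∈ o5040arith_prs := by
  rcases hv with rfl | rfl | rfl | rfl <;> interval_cases D <;> first | (exfalso; omega) | decide

theorem o5040arith_pair1 (D : ℕ) (v : ℤ) (hv : v = 1 ∨ v = -1) (hD2 : 2 ≤ D)
    (hD70 : D ≤ 70) (hdvd : D ∣ 5040) (h7 : (7 : ℤ) ∣ (D : ℤ) - v) : (D, v) ∈ o5040arith_prs1 := by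
  rcases hv with rfl | rfl <;> interval_cases D <;> first | (exfalso; omega) | decide

theorem o5040arith_prs1_sub (x : ℕ × ℤ) (h : x ∈ o5040arith_prs1) : x ∈ o5040arith_prs := by
  revert x
  decide

theorem o5040arith_k (D : ℕ) (v k : ℤ) (hp : (D, v) ∈ o5040arith_prs)
    (hk : ∃ m₀ m₁ : ℕ, (D : ℤ) + 6 * v + 7 * k = 14 * (m₀ : ℤ) ∧
      (D : ℤ) + 6 * v - 7 * k = 14 * (m₁ : ℤ)) (hm4 : (4 : ℤ) ∣ (D : ℤ) - k) :
    k ∈ o5040arith_ks D := by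
  obtain ⟨m0, m1, h0, h1⟩ := hk
  simp only [o5040arith_prs, List.mem_cons, Prod.mk.injEq, List.not_mem_nil, or_false] at hp
  rcases hp with ⟨rfl, rfl⟩ | ⟨rfl, rfl⟩ | ⟨rfl, rfl⟩ | ⟨rfl, rfl⟩ | ⟨rfl, rfl⟩ | ⟨rfl, rfl⟩ |
    ⟨rfl, rfl⟩ | ⟨rfl, rfl⟩ | ⟨rfl, rfl⟩ | ⟨rfl, rfl⟩ | ⟨rfl, rfl⟩ | ⟨rfl, rfl⟩ | ⟨rfl, rfl⟩ <;>
    simp only [o5040arith_ks] <;> norm_num <;> omega

theorem o5040arith_le70 {n : ℕ} (D : Fin n → ℕ) (hsq : 1 + ∑ i, (D i) ^ 2 ≤ 5040) (i : Fin n) :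
    D i ≤ 70 := by
  by_contra h
  push Not at h
  have h1 : 71 * 71 ≤ D i ^ 2 := by nlinarith
  have h2 : D i ^ 2 ≤ ∑ j, D j ^ 2 :=
    Finset.single_le_sum (f := fun j => D j ^ 2) (fun j _ => Nat.zero_le _) (Finset.mem_univ i)
  omega

def o5040arith_rel3 (p0 p1 p2 : ℕ × ℤ) : Bool :=
  decide (1 + (p0.2 * p0.1 + p1.2 * p1.1 + p2.2 * p2.1) = 0) &&
    decide (1 + (p0.1 ^ 2 + p1.1 ^ 2 + p2.1 ^ 2) ≤ 5040)

def o5040arith_rel6 (p0 p1 p2 p3 p4 p5 : ℕ × ℤ) : Bool :=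
  decide (1 + (p0.2 * p0.1 + p1.2 * p1.1 + p2.2 * p2.1 + p3.2 * p3.1 + p4.2 * p4.1 + p5.2 * p5.1) = 0) &&
    decide (1 + (p0.1 ^ 2 + p1.1 ^ 2 + p2.1 ^ 2 + p3.1 ^ 2 + p4.1 ^ 2 + p5.1 ^ 2) ≤ 5040)

theorem o5040arith_all3 : o5040arith_prs.all (fun p0 => o5040arith_prs.all fun p1 =>
    o5040arith_prs.all fun p2 =>
      !(o5040arith_rel3 p0 p1 p2) ||
      ((o5040arith_ks p0.1).all fun k0 => (o5040arith_ks p1.1).all fun k1 =>
        (o5040arith_ks p2.1).all fun k2 =>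
          o5040arith_bad [(p0, k0), (p1, k1), (p2, k2)])) = true := by
  decide +kernel

theorem o5040arith_all6 : o5040arith_prs1.all (fun p0 => o5040arith_prs1.all fun p1 =>
    o5040arith_prs1.all fun p2 => o5040arith_prs1.all fun p3 => o5040arith_prs1.all fun p4 =>
    o5040arith_prs1.all fun p5 =>
      !(o5040arith_rel6 p0 p1 p2 p3 p4 p5) ||
      ((o5040arith_ks p0.1).all fun k0 => (o5040arith_ks p1.1).all fun k1 =>
        (o5040arith_ks p2.1).all fun k2 => (o5040arith_ks p3.1).all fun k3 =>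
        (o5040arith_ks p4.1).all fun k4 => (o5040arith_ks p5.1).all fun k5 =>
          o5040arith_bad [(p0, k0), (p1, k1), (p2, k2), (p3, k3), (p4, k4), (p5, k5)])) = true := by
  decide +kernel

theorem o5040arith_three (D : Fin 3 → ℕ) (v k : Fin 3 → ℤ) (c : ℕ)
    (hv : ∀ i, v i = 1 ∨ v i = -1 ∨ v i = 2 ∨ v i = -2) (hD2 : ∀ i, 2 ≤ D i)
    (hDdvd : ∀ i, D i ∣ 5040) (hDc : ∀ i, (7 : ℤ) ∣ (D i : ℤ) - v i)
    (hrel : 1 + ∑ i, v i * (D i : ℤ) = 0) (hsq : 1 + ∑ i, (D i) ^ 2 ≤ 5040)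
    (hk : ∀ i, ∃ m₀ m₁ : ℕ, (D i : ℤ) + 6 * v i + 7 * k i = 14 * (m₀ : ℤ) ∧
      (D i : ℤ) + 6 * v i - 7 * k i = 14 * (m₁ : ℤ))
    (hm4 : ∀ i, (4 : ℤ) ∣ (D i : ℤ) - k i)
    (hcl : (7 : ℚ) * (c : ℚ) ^ 2 =
      5040 * (1 + ∑ i, (v i : ℚ) * (k i : ℚ) ^ 2 / (D i : ℚ))) : False := by
  have hp : ∀ i, (D i, v i) ∈ o5040arith_prs := fun i =>
    o5040arith_pair _ _ (hv i) (hD2 i) (o5040arith_le70 D hsq i) (hDdvd i) (hDc i)
  have hkk : ∀ i, k i ∈ o5040arith_ks (D i) := fun i =>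
    o5040arith_k _ _ _ (hp i) (hk i) (hm4 i)
  have hT := o5040arith_cl D v k c hD2 hDdvd hcl
  have hall := o5040arith_all3
  simp only [List.all_eq_true] at hall
  have h1 := hall _ (hp 0) _ (hp 1) _ (hp 2)
  rw [Fin.sum_univ_three] at hrel hsq hT
  have hrel' : o5040arith_rel3 (D 0, v 0) (D 1, v 1) (D 2, v 2) = true := by
    simp only [o5040arith_rel3, Bool.and_eq_true, decide_eq_true_eq]
    constructor
    · linarith
    · omega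
  rw [hrel'] at h1
  simp only [Bool.not_true, Bool.false_or, List.all_eq_true] at h1
  have h2 := h1 _ (hkk 0) _ (hkk 1) _ (hkk 2)
  refine o5040arith_cert _ c ?_ h2
  simp only [o5040arith_T, List.map_cons, List.map_nil, List.sum_cons, List.sum_nil]
  linarith

theorem o5040arith_six (D : Fin 6 → ℕ) (v k : Fin 6 → ℤ) (c : ℕ)
    (hv : ∀ i, v i = 1 ∨ v i = -1) (hD2 : ∀ i, 2 ≤ D i)
    (hDdvd : ∀ i, D i ∣ 5040) (hDc : ∀ i, (7 : ℤ) ∣ (D i : ℤ) - v i)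
    (hrel : 1 + ∑ i, v i * (D i : ℤ) = 0) (hsq : 1 + ∑ i, (D i) ^ 2 ≤ 5040)
    (hk : ∀ i, ∃ m₀ m₁ : ℕ, (D i : ℤ) + 6 * v i + 7 * k i = 14 * (m₀ : ℤ) ∧
      (D i : ℤ) + 6 * v i - 7 * k i = 14 * (m₁ : ℤ))
    (hm4 : ∀ i, (4 : ℤ) ∣ (D i : ℤ) - k i)
    (hcl : (7 : ℚ) * (c : ℚ) ^ 2 =
      5040 * (1 + ∑ i, (v i : ℚ) * (k i : ℚ) ^ 2 / (D i : ℚ))) : False := by
  have hp : ∀ i, (D i, v i) ∈ o5040arith_prs1 := fun i =>
    o5040arith_pair1 _ _ (hv i) (hD2 i) (o5040arith_le70 D hsq i) (hDdvd i) (hDc i)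
  have hkk : ∀ i, k i ∈ o5040arith_ks (D i) := fun i =>
    o5040arith_k _ _ _ (o5040arith_prs1_sub _ (hp i)) (hk i) (hm4 i)
  have hT := o5040arith_cl D v k c hD2 hDdvd hcl
  have hall := o5040arith_all6
  simp only [List.all_eq_true] at hall
  have h1 := hall _ (hp 0) _ (hp 1) _ (hp 2) _ (hp 3) _ (hp 4) _ (hp 5)
  rw [Fin.sum_univ_six] at hrel hsq hT
  have hrel' : o5040arith_rel6 (D 0, v 0) (D 1, v 1) (D 2, v 2) (D 3, v 3) (D 4, v 4) (D 5, v 5)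
      = true := by
    simp only [o5040arith_rel6, Bool.and_eq_true, decide_eq_true_eq]
    constructor
    · linarith
    · omega
  rw [hrel'] at h1
  simp only [Bool.not_true, Bool.false_or, List.all_eq_true] at h1
  have h2 := h1 _ (hkk 0) _ (hkk 1) _ (hkk 2) _ (hkk 3) _ (hkk 4) _ (hkk 5)
  refine o5040arith_cert _ c ?_ h2
  simp only [o5040arith_T, List.map_cons, List.map_nil, List.sum_cons, List.sum_nil]
  linarith

end Cfsg.Agent.Lib.Helper24.O5040A
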