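import Mathlib
import Cfsg.Agent.Lib.helper2.Burnside2
import Cfsg.Agent.Lib.helper2.CharNat
import Cfsg.Agent.Lib.helper7.BlockInd2
import Cfsg.Agent.Lib.Helper25.CharAbelian
import Cfsg.Agent.Lib.Helper1.FrobeniusThm

set_option autoImplicit false

namespace Cfsg.Agent.Lib.Helper24

open Cfsg.Agent.Lib.helper7 Cfsg.Agent.Lib.Helper25 Cfsg.Agent.Lib.helper2

variable {G : Type*} [Group G]

theorem pd_vanish [Finite G] (p : ℕ) [hp : Fact p.Prime] (hZ : Subgroup.center G = ⊥) (P : Sylow p G)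
    (χ : Cfsg.IrrCharacter G) (hfaith : ∀ g : G, (χ : G → ℂ) g = (χ : G → ℂ) 1 → g = 1) (n : ℕ)
    (hdeg : Cfsg.charDegree (χ : G → ℂ) = p ^ n) (z : G)
    (hzc : ∀ y ∈ (P : Subgroup G), y * z = z * y) (hz1 : z ≠ 1) : (χ : G → ℂ) z = 0 := by
  obtain ⟨m, ρ, hirr, hchar⟩ := χ.2
  haveI := hirr
  have h1 : (χ : G → ℂ) 1 = (Module.finrank ℂ (Fin m → ℂ) : ℂ) := by
    rw [← hchar, Representation.char_one]
  have hfr : Module.finrank ℂ (Fin m → ℂ) = p ^ n := by
    have := (charDegree_irr χ).1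
    rw [h1, hdeg] at this
    exact_mod_cast this.symm
  have hPC : (P : Subgroup G) ≤ Subgroup.centralizer ({z} : Set G) := by
    intro y hy
    rw [Subgroup.mem_centralizer_iff]
    intro w hw
    rw [Set.mem_singleton_iff] at hw
    rw [hw]
    exact (hzc y hy).symm
  have hidx : ¬ p ∣ (Subgroup.centralizer ({z} : Set G)).index := by
    intro hdvd
    exact P.not_dvd_index (hdvd.trans (Subgroup.index_dvd_of_le hPC))
  have hcop : Nat.Coprime (Module.finrank ℂ (Fin m → ℂ)) (Subgroup.centralizer ({z} : Set G)).index := by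
    rw [hfr]
    apply Nat.Coprime.pow_left
    exact (Nat.Prime.coprime_iff_not_dvd hp.out).mpr hidx
  rcases burnside_coprime ρ z hcop with h | h
  · rw [← hchar]
    exact h
  · exfalso
    obtain ⟨ω, hω⟩ := (Cfsg.Agent.S0138.result ρ z).mp h
    apply hz1
    have hzcen : z ∈ Subgroup.center G := by
      rw [Subgroup.mem_center_iff]
      intro y
      have h2 : ρ (y * z * y⁻¹ * z⁻¹) = 1 := by
        have e1 : ρ y * ρ z = ρ z * ρ y := by
          rw [hω]
          ext v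
          simp
        have e2 : ρ z * ρ z⁻¹ = 1 := by rw [← map_mul, mul_inv_cancel, map_one]
        have e3 : ρ y * ρ y⁻¹ = 1 := by rw [← map_mul, mul_inv_cancel, map_one]
        rw [map_mul, map_mul, map_mul, e1, mul_assoc (ρ z), e3, mul_one, e2]
      have h3 : (χ : G → ℂ) (y * z * y⁻¹ * z⁻¹) = (χ : G → ℂ) 1 := by
        rw [← hchar]
        show LinearMap.trace ℂ (Fin m → ℂ) (ρ (y * z * y⁻¹ * z⁻¹)) = LinearMap.trace ℂ (Fin m → ℂ) (ρ 1)
        rw [h2, map_one ρ]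
      have h4 := hfaith _ h3
      have : y * z = z * y := by
        have := congrArg (· * (z * y)) h4
        simpa [mul_assoc] using this
      exact this
    rw [hZ, Subgroup.mem_bot] at hzcen
    exact hzcen

theorem pd_ratio [Finite G] {p : ℕ} [hp : Fact p.Prime] {M : Ideal Cfsg.AlgInt}
    (hM : Cfsg.IsPModular p M) (χ ψ : Cfsg.IrrCharacter G)
    (hsb : Cfsg.SameBlock M (χ : G → ℂ) (ψ : G → ℂ)) (z : G) (hχz : (χ : G → ℂ) z = 0)
    (hidx : ¬ p ∣ (Subgroup.centralizer ({z} : Set G)).index) :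
    Cfsg.MemLocalIdeal M ((ψ : G → ℂ) z / (ψ : G → ℂ) 1) := by
  have hPr := hM.2.1.isPrime
  have h1 := hsb z
  unfold Cfsg.centralChar at h1
  rw [hχz, mul_zero, zero_div, zero_sub] at h1
  have h2 := h7_memLocalIdeal_neg h1
  rw [neg_neg] at h2
  set k := (Subgroup.centralizer ({z} : Set G)).index with hk
  have hkM : (k : Cfsg.AlgInt) ∉ M :=
    h7_natCast_not_mem hM k ((Nat.Prime.coprime_iff_not_dvd hp.out).mpr hidx).symm
  have hk0 : (k : ℂ) ≠ 0 := by
    have := h7_coe_ne_zero_of_not_mem hkM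
    simpa using this
  have hr : Cfsg.MemLocalRing M ((k : ℂ)⁻¹) := by
    refine ⟨1, (k : Cfsg.AlgInt), hkM, ?_⟩
    simp
  have h3 := h7_memLocalIdeal_mul_left hPr hr h2
  have e : (k : ℂ)⁻¹ * ((k : ℂ) * (ψ : G → ℂ) z / (ψ : G → ℂ) 1) = (ψ : G → ℂ) z / (ψ : G → ℂ) 1 := by
    field_simp
  rw [e] at h3
  exact h3

end Cfsg.Agent.Lib.Helper24
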