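import Mathlib
import Cfsg.Agent.Lib.Helper24.P2P.Defs
import Cfsg.Agent.Lib.Helper22.P2PCEN
import Cfsg.Agent.Lib.Helper26.P2PDIH

set_option autoImplicit false
set_option linter.unusedVariables false
set_option linter.unusedSectionVars false
open scoped ComplexConjugate
open Classical

namespace Cfsg.Agent.Lib.Helper24.P2P

open MulAction Cfsg.Agent.Lib.helper6.PermChar Cfsg.Agent.Lib.Lead.W2P Cfsg.Agent.Lib.Helper25

universe u v

section setting

variable {G : Type u} [Group G] [Fintype G] {Ω : Type v} [Fintype Ω] [DecidableEq Ω] [MulAction G Ω]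
  {p : ℕ} [Fact p.Prime] {P : Sylow p G}

theorem card_conjClasses_nrm (h : Setting2 G Ω p P) :
    2 * Nat.card (ConjClasses ↥(Subgroup.normalizer ((P : Subgroup G) : Set G))) = p + 3 := by
  have hp : p.Prime := Fact.out
  have hodd : p ≠ 2 := h.S.odd
  have hle : (P : Subgroup G) ≤ Subgroup.normalizer ((P : Subgroup G) : Set G) :=
    Subgroup.le_normalizer
  have hQ : Nat.card ((P : Subgroup G).subgroupOf
      (Subgroup.normalizer ((P : Subgroup G) : Set G))) = p := by
    rw [Nat.card_congr (Subgroup.subgroupOfEquivOfLe hle).toEquiv, h.S.cardP]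
  have hcen := cen_eq h
  have hC : Subgroup.centralizer (((P : Subgroup G).subgroupOf
      (Subgroup.normalizer ((P : Subgroup G) : Set G)) : Subgroup _) : Set _) =
      (P : Subgroup G).subgroupOf (Subgroup.normalizer ((P : Subgroup G) : Set G)) := by
    ext n
    have hmemP : (n : G) ∈ (P : Subgroup G) ↔
        (n : G) ∈ Subgroup.centralizer ((P : Subgroup G) : Set G) := by rw [hcen]
    rw [Subgroup.mem_centralizer_iff, Subgroup.mem_subgroupOf, hmemP,
      Subgroup.mem_centralizer_iff]
    constructor
    · intro hn y hy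
      have := hn ⟨y, hle hy⟩ (by
        show (⟨y, hle hy⟩ : ↥(Subgroup.normalizer ((P : Subgroup G) : Set G))) ∈
          (P : Subgroup G).subgroupOf _
        rw [Subgroup.mem_subgroupOf]; exact hy)
      exact congrArg Subtype.val this
    · intro hn q hq
      have hq' : (q : G) ∈ (P : Subgroup G) := Subgroup.mem_subgroupOf.mp hq
      apply Subtype.ext
      exact hn (q : G) hq'
  exact card_conjClasses_dihedral p hp hodd h.nrm _ hQ hC

end setting

end Cfsg.Agent.Lib.Helper24.P2P
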