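import Mathlib
import Cfsg.Agent.Lib.Helper10.PGM.Defs

set_option autoImplicit false

namespace Cfsg.Agent.Lib.Helper10.PGM

open Matrix Cfsg.Agent.Lib.helper15.UNat

universe u

theorem charP_of_card {F : Type*} [Field F] [Fintype F] (p f q : ℕ) (hp : p.Prime) (hf : 1 ≤ f)
    (hq : q = p ^ f) (hF : Fintype.card F = q ^ 2) : CharP F p := by
  obtain ⟨n, hr, hn⟩ := FiniteField.card F (ringChar F)
  have hcp : CharP F (ringChar F) := ringChar.charP F
  have h1 : p ^ (f * 2) = ringChar F ^ (n : ℕ) := by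
    rw [pow_mul, ← hq, ← hF, hn]
  have hdvd : p ∣ ringChar F ^ (n : ℕ) := by
    rw [← h1]
    exact dvd_pow_self p (by omega)
  have h2 : p ∣ ringChar F := hp.dvd_of_dvd_pow hdvd
  have h3 : p = ringChar F := (Nat.prime_dvd_prime_iff_eq hp hr).mp h2
  rw [h3]
  exact hcp

end Cfsg.Agent.Lib.Helper10.PGM
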