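import Mathlib
import Cfsg.Agent.Lib.Helper10.PGM.Defs
import Cfsg.Agent.Lib.helper15.UBlk

set_option autoImplicit false

namespace Cfsg.Agent.Lib.Helper10.PGM

open Matrix Cfsg.Agent.Lib.helper15.UNat Cfsg.Agent.Lib.helper15.UBlk

universe u

theorem pgme1_map_blk {F : Type*} [Field F] [Fintype F] {q b k : ℕ} (hF : Fintype.card F = q ^ 2)
    (X : Matrix (Fin b) (Fin b) F) (Y : Matrix (Fin k) (Fin k) F) :
    ((blk X Y).map (fun x => x ^ q)).transpose =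
      blk ((X.map (fun x => x ^ q)).transpose) ((Y.map (fun x => x ^ q)).transpose) := by
  obtain ⟨σ, hσ, hσσ⟩ := Cfsg.Agent.Lib.helper15.UBase.frob_data hF
  have hfun : (fun x : F => x ^ q) = σ := funext (fun x => (hσ x).symm)
  have hadj := blk_adj σ hσσ X Y
  rw [Cfsg.Agent.Lib.Helper16.RN.uAdj_apply, Cfsg.Agent.Lib.Helper16.RN.uAdj_apply,
    Cfsg.Agent.Lib.Helper16.RN.uAdj_apply] at hadj
  rw [hfun]
  exact hadj

theorem selfdual_blk {F : Type*} [Field F] [Fintype F] {q b k : ℕ} (hF : Fintype.card F = q ^ 2)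
    (X : Matrix (Fin b) (Fin b) F) (Y : Matrix (Fin k) (Fin k) F)
    (hX : SelfDual q X) (hY : SelfDual q Y) : SelfDual q (blk X Y) := by
  obtain ⟨X', CX, CX', hx1, hx2, hx3, hx4, hx5⟩ := hX
  obtain ⟨Y', CY, CY', hy1, hy2, hy3, hy4, hy5⟩ := hY
  refine ⟨blk X' Y', blk CX CY, blk CX' CY', ?_, ?_, ?_, ?_, ?_⟩
  · rw [blk_mul, hx1, hy1, blk_one]
  · rw [blk_mul, hx2, hy2, blk_one]
  · rw [blk_mul, hx3, hy3, blk_one]
  · rw [blk_mul, hx4, hy4, blk_one]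
  · rw [pgme1_map_blk hF, blk_mul, blk_mul, hx5, hy5]

end Cfsg.Agent.Lib.Helper10.PGM
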