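import Mathlib
import Cfsg.Agent.Lib.Helper10.PGM.Defs
import Cfsg.Agent.Lib.helper15.UBlk
import Cfsg.Agent.Lib.Helper16.PGUr1

set_option autoImplicit false

namespace Cfsg.Agent.Lib.Helper10.PGM

open Matrix Cfsg.Agent.Lib.helper15.UNat Cfsg.Agent.Lib.helper15.UBlk

universe u

theorem pgme2_inv_map {F : Type*} [Field F] [Fintype F] {q n : ℕ}
    (hF : Fintype.card F = q ^ 2) (A A' : Matrix (Fin n) (Fin n) F) (h2 : A' * A = 1) :
    ((A.map (fun x : F => x ^ q)).transpose)⁻¹ = (A'.map (fun x : F => x ^ q)).transpose := by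
  obtain ⟨σ, hσ, hσσ⟩ := Cfsg.Agent.Lib.helper15.UBase.frob_data hF
  have hfun : (fun x : F => x ^ q) = σ := funext (fun x => (hσ x).symm)
  rw [hfun]
  apply Matrix.inv_eq_right_inv
  rw [← Matrix.transpose_mul, ← Matrix.map_mul, h2, Matrix.map_one _ (map_zero σ) (map_one σ),
    Matrix.transpose_one]

theorem pgme2_mk_pow_eq_one_iff {F : Type*} [Field F] [Fintype F] {q n : ℕ}
    (hF : Fintype.card F = q ^ 2) (hn : 1 ≤ n) (B : ↥(Cfsg.GU n F q)) (t : ℕ) :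
    (QuotientGroup.mk B : PGU n F q) ^ t = 1 ↔
      ∃ c : F, (B.1.1 : Matrix (Fin n) (Fin n) F) ^ t = c • 1 := by
  rw [← QuotientGroup.mk_pow, QuotientGroup.eq_one_iff,
    Cfsg.Agent.Lib.Helper16.PGUR.mem_center_gu_iff hF hn]
  rfl

theorem exists_of_selfdual {F : Type*} [Field F] [Fintype F] {q n : ℕ}
    (hF : Fintype.card F = q ^ 2) (hn : 1 ≤ n) (A : Matrix (Fin n) (Fin n) F)
    (hA : SelfDual q A) (N : ℕ) (hN : 0 < N)
    (hord : ∀ t : ℕ, (∃ c : F, A ^ t = c • 1) ↔ N ∣ t) :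
    ∃ g : PGU n F q, orderOf g = N := by
  classical
  obtain ⟨A', C, C', h1, h2, h3, h4, h5⟩ := hA
  obtain ⟨Ag, hAg⟩ : ∃ Ag : GL (Fin n) F, (Ag : Matrix (Fin n) (Fin n) F) = A := ⟨⟨A, A', h1, h2⟩, rfl⟩
  obtain ⟨Cg, hCg⟩ : ∃ Cg : GL (Fin n) F, (Cg : Matrix (Fin n) (Fin n) F) = C := ⟨⟨C, C', h3, h4⟩, rfl⟩
  have hconj : IsConj (Ag : Matrix (Fin n) (Fin n) F)
      (((Ag : Matrix (Fin n) (Fin n) F).map (fun x : F => x ^ q)).transpose)⁻¹ := by
    rw [hAg, pgme2_inv_map hF A A' h2]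
    refine ⟨Cg, ?_⟩
    show (Cg : Matrix (Fin n) (Fin n) F) * A = (A'.map (fun x : F => x ^ q)).transpose * (Cg : Matrix (Fin n) (Fin n) F)
    rw [hCg]
    exact h5
  obtain ⟨B, hB⟩ := (Cfsg.Agent.Lib.Helper16.FCR.gu_conj_iff_self_dual hF Ag).2 hconj
  obtain ⟨D, hD⟩ := isConj_iff.1 hB
  have hBpow : ∀ s : ℕ, (B.1.1 : Matrix (Fin n) (Fin n) F) ^ s =
      (D : Matrix (Fin n) (Fin n) F) * A ^ s * ((D⁻¹ : GL (Fin n) F) : Matrix (Fin n) (Fin n) F) := by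
    intro s
    rw [← hAg]
    show ((B : GL (Fin n) F) : Matrix (Fin n) (Fin n) F) ^ s = _
    rw [← hD, ← Units.val_pow_eq_pow_val, conj_pow, Units.val_mul, Units.val_mul,
      Units.val_pow_eq_pow_val]
  have hDD : (D : Matrix (Fin n) (Fin n) F) * ((D⁻¹ : GL (Fin n) F) : Matrix (Fin n) (Fin n) F) = 1 := by
    rw [← Units.val_mul, mul_inv_cancel, Units.val_one]
  have hDD' : ((D⁻¹ : GL (Fin n) F) : Matrix (Fin n) (Fin n) F) * (D : Matrix (Fin n) (Fin n) F) = 1 := by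
    rw [← Units.val_mul, inv_mul_cancel, Units.val_one]
  have hscal : ∀ (s : ℕ) (c : F), (B.1.1 : Matrix (Fin n) (Fin n) F) ^ s = c • 1 ↔ A ^ s = c • 1 := by
    intro s c
    rw [hBpow]
    constructor
    · intro h
      calc A ^ s
          = ((D⁻¹ : GL (Fin n) F) : Matrix (Fin n) (Fin n) F) * ((D : Matrix (Fin n) (Fin n) F) *
            A ^ s * ((D⁻¹ : GL (Fin n) F) : Matrix (Fin n) (Fin n) F)) *
            (D : Matrix (Fin n) (Fin n) F) := by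
            simp only [Matrix.mul_assoc]
            rw [hDD', Matrix.mul_one, ← Matrix.mul_assoc, hDD', Matrix.one_mul]
        _ = c • 1 := by
            rw [h, Matrix.mul_smul, Matrix.mul_one, Matrix.smul_mul, hDD']
    · intro h
      rw [h, Matrix.mul_smul, Matrix.mul_one, Matrix.smul_mul, hDD]
  have hkey : ∀ t : ℕ, (QuotientGroup.mk B : PGU n F q) ^ t = 1 ↔ N ∣ t := by
    intro t
    rw [pgme2_mk_pow_eq_one_iff hF hn, ← hord t]
    constructor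
    · rintro ⟨c, hc⟩
      exact ⟨c, (hscal t c).1 hc⟩
    · rintro ⟨c, hc⟩
      exact ⟨c, (hscal t c).2 hc⟩
  refine ⟨QuotientGroup.mk B, ?_⟩
  rw [orderOf_eq_iff hN]
  constructor
  · exact (hkey N).2 dvd_rfl
  · intro m hm hmpos h
    have h1 := (hkey m).1 h
    exact absurd (Nat.le_of_dvd hmpos h1) (by omega)

end Cfsg.Agent.Lib.Helper10.PGM
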