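import Mathlib
import Cfsg.Agent.Lib.Helper10.PGM.Defs

set_option autoImplicit false

namespace Cfsg.Agent.Lib.Helper10.PGM

open Matrix Cfsg.Agent.Lib.helper15.UNat

universe u

theorem one_block {F : Type*} [Field F] (q : ℕ) :
    SelfDual q (1 : Matrix (Fin 1) (Fin 1) F) ∧
      ∀ (t : ℕ) (c : F), (1 : Matrix (Fin 1) (Fin 1) F) ^ t = c • 1 ↔ c = 1 := by
  refine ⟨⟨1, 1, 1, by simp, by simp, by simp, by simp, ?_⟩, ?_⟩
  · have h1 : ((1 : Matrix (Fin 1) (Fin 1) F).map (fun x => x ^ q)) = 1 := by
      ext i j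
      have hi : i = 0 := Subsingleton.elim _ _
      have hj : j = 0 := Subsingleton.elim _ _
      subst hi; subst hj
      simp
    rw [h1]
    simp
  · intro t c
    rw [one_pow]
    constructor
    · intro h
      have h2 := congrFun (congrFun h 0) 0
      simp at h2
      exact h2.symm
    · intro h
      rw [h, one_smul]

end Cfsg.Agent.Lib.Helper10.PGM
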