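import Mathlib
import Cfsg.Agent.Lib.Helper10.PGM.Defs

set_option autoImplicit false

namespace Cfsg.Agent.Lib.Helper10.PGM

open Matrix Cfsg.Agent.Lib.helper15.UNat

universe u

theorem pgme6_neg_one_pow {F : Type*} [Field F] (p f : ℕ) [Fact p.Prime] [CharP F p] :
    (-1 : F) ^ (p ^ f) = -1 := by
  rcases Nat.Prime.eq_two_or_odd' (Fact.out : p.Prime) with h2 | hodd
  · subst h2
    have h1 : (-1 : F) = 1 := CharTwo.neg_eq 1
    rw [h1, one_pow]
  · exact Odd.neg_one_pow (Odd.pow hodd)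

theorem pgme6_pow {F : Type*} [Field F] (t : ℕ) :
    (!![1, 1; 0, 1] : Matrix (Fin 2) (Fin 2) F) ^ t = !![1, (t : F); 0, 1] := by
  induction t with
  | zero =>
    ext i j
    fin_cases i <;> fin_cases j <;> simp
  | succ t ih =>
    rw [pow_succ, ih]
    ext i j
    fin_cases i <;> fin_cases j <;> simp [Matrix.mul_apply, Fin.sum_univ_two, add_comm]

theorem j2_block {F : Type*} [Field F] (p f q : ℕ) [Fact p.Prime] [CharP F p] (hq : q = p ^ f) :
    SelfDual q (!![1, 1; 0, 1] : Matrix (Fin 2) (Fin 2) F) ∧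
      ∀ (t : ℕ) (c : F), (!![1, 1; 0, 1] : Matrix (Fin 2) (Fin 2) F) ^ t = c • 1 ↔
        (c = 1 ∧ p ∣ t) := by
  have hp : p.Prime := Fact.out
  have hq1 : q ≠ 0 := by
    rw [hq]
    exact pow_ne_zero _ hp.ne_zero
  have hneg : (-1 : F) ^ q = -1 := by
    rw [hq]
    exact pgme6_neg_one_pow p f
  refine ⟨⟨!![1, -1; 0, 1], !![0, 1; -1, 0], !![0, -1; 1, 0], ?_, ?_, ?_, ?_, ?_⟩, ?_⟩
  · ext i j
    fin_cases i <;> fin_cases j <;> simp [Matrix.mul_apply, Fin.sum_univ_two]
  · ext i j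
    fin_cases i <;> fin_cases j <;> simp [Matrix.mul_apply, Fin.sum_univ_two]
  · ext i j
    fin_cases i <;> fin_cases j <;> simp [Matrix.mul_apply, Fin.sum_univ_two]
  · ext i j
    fin_cases i <;> fin_cases j <;> simp [Matrix.mul_apply, Fin.sum_univ_two]
  · ext i j
    fin_cases i <;> fin_cases j <;>
      simp [Matrix.mul_apply, Fin.sum_univ_two, hneg, zero_pow hq1]
  · intro t c
    rw [pgme6_pow]
    constructor
    · intro h
      have h00 := congrFun (congrFun h 0) 0
      have h01 := congrFun (congrFun h 0) 1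
      simp at h00 h01
      refine ⟨h00.symm, ?_⟩
      exact (CharP.cast_eq_zero_iff F p t).mp h01
    · rintro ⟨hc, hpt⟩
      have h01 : (t : F) = 0 := (CharP.cast_eq_zero_iff F p t).mpr hpt
      rw [hc, h01]
      ext i j
      fin_cases i <;> fin_cases j <;> simp

end Cfsg.Agent.Lib.Helper10.PGM
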