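import Mathlib
import Cfsg.Agent.Lib.Helper10.PGM.Defs
import Cfsg.Agent.Lib.helper15.UBlk

set_option autoImplicit false

namespace Cfsg.Agent.Lib.Helper10.PGM

open Matrix Cfsg.Agent.Lib.helper15.UNat Cfsg.Agent.Lib.helper15.UBlk

universe u

theorem blk_scalar_iff {F : Type*} [Field F] {b k : ℕ} (X : Matrix (Fin b) (Fin b) F)
    (Y : Matrix (Fin k) (Fin k) F) (t : ℕ) (c : F) :
    blk X Y ^ t = c • 1 ↔ X ^ t = c • 1 ∧ Y ^ t = c • 1 := by
  rw [blk_pow, ← blk_one, ← blk_smul]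
  constructor
  · intro h
    exact blk_inj _ _ _ _ h
  · rintro ⟨h1, h2⟩
    rw [h1, h2]

end Cfsg.Agent.Lib.Helper10.PGM
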