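import Mathlib
import Cfsg.Agent.Lib.Helper10.PGM.Defs

set_option autoImplicit false

namespace Cfsg.Agent.Lib.Helper10.PGM

open Matrix Cfsg.Agent.Lib.helper15.UNat

universe u

theorem pgme7_sq {F : Type*} [Field F] [CharP F 2] :
    (!![1, 1, 0; 0, 1, 1; 0, 0, 1] : Matrix (Fin 3) (Fin 3) F) ^ 2 = !![1, 0, 1; 0, 1, 0; 0, 0, 1] := by
  have h11 : (1 : F) + 1 = 0 := CharTwo.add_self_eq_zero 1
  rw [pow_two]
  ext i j
  fin_cases i <;> fin_cases j <;> simp [Matrix.mul_apply, Fin.sum_univ_three, h11]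

theorem pgme7_cube {F : Type*} [Field F] [CharP F 2] :
    (!![1, 1, 0; 0, 1, 1; 0, 0, 1] : Matrix (Fin 3) (Fin 3) F) ^ 3 = !![1, 1, 1; 0, 1, 1; 0, 0, 1] := by
  rw [pow_succ, pgme7_sq]
  ext i j
  fin_cases i <;> fin_cases j <;> simp [Matrix.mul_apply, Fin.sum_univ_three]

theorem pgme7_four {F : Type*} [Field F] [CharP F 2] :
    (!![1, 1, 0; 0, 1, 1; 0, 0, 1] : Matrix (Fin 3) (Fin 3) F) ^ 4 = 1 := by
  have h11 : (1 : F) + 1 = 0 := CharTwo.add_self_eq_zero 1
  have h : (4 : ℕ) = 2 * 2 := by norm_num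
  rw [h, pow_mul, pgme7_sq, pow_two]
  ext i j
  fin_cases i <;> fin_cases j <;> simp [Matrix.mul_apply, Fin.sum_univ_three, h11]

theorem pgme7_pow_mod {F : Type*} [Field F] [CharP F 2] (t : ℕ) :
    (!![1, 1, 0; 0, 1, 1; 0, 0, 1] : Matrix (Fin 3) (Fin 3) F) ^ t =
      (!![1, 1, 0; 0, 1, 1; 0, 0, 1] : Matrix (Fin 3) (Fin 3) F) ^ (t % 4) := by
  conv_lhs => rw [← Nat.div_add_mod t 4]
  rw [pow_add, pow_mul, pgme7_four, one_pow, one_mul]

theorem j3_block {F : Type*} [Field F] [CharP F 2] (q : ℕ) (hq : 1 ≤ q) :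
    SelfDual q (!![1, 1, 0; 0, 1, 1; 0, 0, 1] : Matrix (Fin 3) (Fin 3) F) ∧
      ∀ (t : ℕ) (c : F), (!![1, 1, 0; 0, 1, 1; 0, 0, 1] : Matrix (Fin 3) (Fin 3) F) ^ t = c • 1 ↔
        (c = 1 ∧ 4 ∣ t) := by
  have h11 : (1 : F) + 1 = 0 := CharTwo.add_self_eq_zero 1
  have hq1 : q ≠ 0 := by omega
  refine ⟨⟨!![1, 1, 1; 0, 1, 1; 0, 0, 1], !![0, 0, 1; 0, 1, 0; 1, 1, 0], !![0, 1, 1; 0, 1, 0; 1, 0, 0],
    ?_, ?_, ?_, ?_, ?_⟩, ?_⟩
  · ext i j
    fin_cases i <;> fin_cases j <;> simp [Matrix.mul_apply, Fin.sum_univ_three, h11]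
  · ext i j
    fin_cases i <;> fin_cases j <;> simp [Matrix.mul_apply, Fin.sum_univ_three, h11]
  · ext i j
    fin_cases i <;> fin_cases j <;> simp [Matrix.mul_apply, Fin.sum_univ_three, h11]
  · ext i j
    fin_cases i <;> fin_cases j <;> simp [Matrix.mul_apply, Fin.sum_univ_three, h11]
  · ext i j
    fin_cases i <;> fin_cases j <;>
      simp [Matrix.mul_apply, Fin.sum_univ_three, h11, zero_pow hq1]
  · intro t c
    rw [pgme7_pow_mod]
    have hlt : t % 4 < 4 := Nat.mod_lt _ (by norm_num)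
    have hdvd : 4 ∣ t ↔ t % 4 = 0 := Nat.dvd_iff_mod_eq_zero
    rw [hdvd]
    generalize t % 4 = r at hlt
    interval_cases r
    · rw [pow_zero]
      constructor
      · intro h
        have h00 := congrFun (congrFun h 0) 0
        simp at h00
        exact ⟨h00.symm, rfl⟩
      · rintro ⟨hc, -⟩
        rw [hc, one_smul]
    · rw [pow_one]
      constructor
      · intro h
        have h01 := congrFun (congrFun h 0) 1
        simp at h01
      · rintro ⟨-, h⟩
        exact absurd h (by norm_num)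
    · rw [pgme7_sq]
      constructor
      · intro h
        have h02 := congrFun (congrFun h 0) 2
        simp at h02
      · rintro ⟨-, h⟩
        exact absurd h (by norm_num)
    · rw [pgme7_cube]
      constructor
      · intro h
        have h01 := congrFun (congrFun h 0) 1
        simp at h01
      · rintro ⟨-, h⟩
        exact absurd h (by norm_num)

end Cfsg.Agent.Lib.Helper10.PGM
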