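import Mathlib
import Cfsg.Agent.Lib.Helper10.PGM.Defs

set_option autoImplicit false

namespace Cfsg.Agent.Lib.Helper10.PGM

open Matrix Cfsg.Agent.Lib.helper15.UNat

universe u

theorem descend_scalar {F : Type*} [Field F] {K : Type*} [Field K] [Algebra F K] {n : ℕ}
    (A : Matrix (Fin n) (Fin n) F) (c : K) (h : A.map (algebraMap F K) = c • 1) :
    ∃ c' : F, A = c' • 1 := by
  rcases Nat.eq_zero_or_pos n with hn | hn
  · subst hn
    exact ⟨0, Subsingleton.elim _ _⟩
  · refine ⟨A ⟨0, hn⟩ ⟨0, hn⟩, ?_⟩
    have hinj : Function.Injective (algebraMap F K) := (algebraMap F K).injective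
    have hent : ∀ i j, algebraMap F K (A i j) = c * (if i = j then 1 else 0) := by
      intro i j
      have h2 := congrFun (congrFun h i) j
      rw [Matrix.map_apply, Matrix.smul_apply, Matrix.one_apply, smul_eq_mul] at h2
      exact h2
    ext i j
    rw [Matrix.smul_apply, Matrix.one_apply, smul_eq_mul]
    apply hinj
    rw [hent i j, map_mul, hent ⟨0, hn⟩ ⟨0, hn⟩]
    by_cases hij : i = j
    · simp [hij]
    · simp [hij]

end Cfsg.Agent.Lib.Helper10.PGM
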