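import Mathlib
import Cfsg.Agent.Lib.helper7.SPC.Defs

set_option autoImplicit false
set_option linter.unusedVariables false
set_option linter.unusedSectionVars false

namespace Cfsg.Agent.Lib.helper7.SPC

universe u

open Module

variable {F : Type u} [Field F]

theorem spcg5_prodMap_pow {V V' : Type u} [AddCommGroup V] [Module F V] [AddCommGroup V']
    [Module F V'] (f : V →ₗ[F] V) (g : V' →ₗ[F] V') (k : ℕ) :
    (LinearMap.prodMap f g) ^ k = LinearMap.prodMap (f ^ k) (g ^ k) := by
  induction k with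
  | zero =>
    rw [pow_zero, pow_zero, pow_zero]
    exact LinearMap.prodMap_one.symm
  | succ k ih =>
    rw [pow_succ, pow_succ, pow_succ, ih]
    exact LinearMap.prodMap_mul _ _ _ _

theorem spcg5_TSum_good (T T' : Trip F) (hT : T.Good) (hT' : T'.Good) : (TSum T T').Good := by
  refine ⟨?_, ?_, ?_, ?_⟩
  · intro x
    show T.B x.1 x.1 + T'.B x.2 x.2 = 0
    rw [hT.alt, hT'.alt, add_zero]
  · intro x hx
    have h1 : x.1 = 0 := by
      apply hT.nd
      intro y
      have h := hx (y, 0)
      change T.B x.1 y + T'.B x.2 0 = 0 at h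
      rwa [map_zero, add_zero] at h
    have h2 : x.2 = 0 := by
      apply hT'.nd
      intro y
      have h := hx (0, y)
      change T.B x.1 0 + T'.B x.2 y = 0 at h
      rwa [map_zero, zero_add] at h
    exact Prod.ext h1 h2
  · intro x y
    show T.B (T.N x.1) y.1 + T'.B (T'.N x.2) y.2 = -(T.B x.1 (T.N y.1) + T'.B x.2 (T'.N y.2))
    rw [hT.skew, hT'.skew]
    ring
  · obtain ⟨a, ha⟩ := hT.nil
    obtain ⟨b, hb⟩ := hT'.nil
    refine ⟨a + b, ?_⟩
    show (LinearMap.prodMap T.N T'.N) ^ (a + b) = 0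
    rw [spcg5_prodMap_pow, pow_add, ha, zero_mul, pow_add, hb, mul_zero]
    exact LinearMap.prodMap_zero

theorem spcg5_TZero_good : (TZero F).Good := by
  refine ⟨?_, ?_, ?_, ?_⟩
  · intro x
    rfl
  · intro x _
    exact Subsingleton.elim (α := PUnit.{u + 1}) _ _
  · intro x y
    show (0 : F) = -0
    rw [neg_zero]
  · exact ⟨1, pow_one _⟩

theorem spcg5_core
    (hG1 : ∀ (k : ℕ) (c : F), Even k → c ≠ 0 → (blkA k c).Good)
    (hG2 : ∀ k : ℕ, (blkH k F).Good)
    (L : List (Blk F)) (hL : CanonL L) : (sumList L).Good := by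
  induction L with
  | nil => exact spcg5_TZero_good
  | cons b L ih =>
    rw [sumList_cons]
    have hb : b.Canon := hL b List.mem_cons_self
    have hL' : CanonL L := fun b' hb' => hL b' (List.mem_cons_of_mem _ hb')
    refine spcg5_TSum_good _ _ ?_ (ih hL')
    cases b with
    | A k c => exact hG1 k c hb.1 hb.2.2
    | H k => exact hG2 k

end Cfsg.Agent.Lib.helper7.SPC
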