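import Mathlib
import Cfsg.Agent.Lib.helper7.SPC.Defs
import Cfsg.Agent.Lib.Helper24.SPCG5core
import Cfsg.Agent.Lib.Helper26.SPCG1
import Cfsg.Agent.Lib.helper2.SPCG2

set_option autoImplicit false

namespace Cfsg.Agent.Lib.helper7.SPC

universe u

open Module

variable {F : Type u} [Field F]

theorem sumList_good (h2 : (2 : F) ≠ 0) (L : List (Blk F)) (hL : CanonL L) : (sumList L).Good :=
  spcg5_core (fun k c hk hc => blkA_good h2 k c hk hc) (fun k => blkH_good h2 k) L hL

end Cfsg.Agent.Lib.helper7.SPC
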