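import Mathlib
import Cfsg.Prelude.Def_GeometricClasses
import Cfsg.Agent.Lib.Helper27.ASC.Defs
import Cfsg.Agent.Lib.Helper19.ASG.Defs
import Cfsg.Agent.Lib.Helper19.ASU.Defs
import Cfsg.Agent.Lib.Helper26.ASUC.Defs
import Cfsg.Agent.Lib.Helper20.ASGCMEM
import Cfsg.Agent.Lib.Helper20.ASPCACT
import Cfsg.Agent.Lib.Helper20.ASPCSIM

set_option autoImplicit false
set_option linter.unusedVariables false
set_option linter.unusedSectionVars false

namespace Cfsg.Agent.Lib.Helper19.ASU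

open Cfsg Cfsg.Geo Cfsg.Agent.Lib.Helper27.ASC Cfsg.Agent.Lib.Helper19.ASG
open scoped MatrixGroups Matrix Kronecker

variable {n : ℕ} {F : Type*} [Field F]

theorem asucsim_entry (q : ℕ) {κ : Type} [Fintype κ] [DecidableEq κ] (M N : Matrix κ κ F) (p p' : κ) :
    formOfGram (fun a : F => a ^ q) M (N *ᵥ Pi.single p 1) (N *ᵥ Pi.single p' 1) =
      (Nᵀ * M * N.map (fun a : F => a ^ q)) p p' := by
  unfold formOfGram
  simp only [Matrix.mulVec_single_one, Matrix.mul_apply, Matrix.transpose_apply, Matrix.map_apply, Matrix.col_apply,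
    Finset.sum_mul]
  rw [Finset.sum_comm]

theorem asucsim_single (q : ℕ) (hq : q ≠ 0) {κ : Type} [Fintype κ] [DecidableEq κ] (M : Matrix κ κ F) (p p' : κ) :
    formOfGram (fun a : F => a ^ q) M (Pi.single p 1) (Pi.single p' 1) = M p p' := by
  have := asucsim_entry q M 1 p p'
  rw [Matrix.one_mulVec, Matrix.one_mulVec] at this
  rw [this, Matrix.transpose_one, Matrix.one_mul]
  have h1 : (1 : Matrix κ κ F).map (fun a : F => a ^ q) = 1 := by
    ext i j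
    by_cases hij : i = j
    · subst hij; simp
    · simp [Matrix.one_apply_ne hij, hq]
  rw [h1, Matrix.mul_one]

theorem asucsim_kron_map (q : ℕ) {k d : ℕ} (a : Matrix (Fin k) (Fin k) F) (b : Matrix (Fin d) (Fin d) F) :
    (a ⊗ₖ b).map (fun x : F => x ^ q) = a.map (fun x : F => x ^ q) ⊗ₖ b.map (fun x : F => x ^ q) := by
  ext p p'
  simp [Matrix.kroneckerMap_apply, mul_pow]

theorem uc_kron_sim [Fintype F] (q : ℕ) (hF : Fintype.card F = q ^ 2) {k d : ℕ}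
    (e : Fin n ≃ Fin k × Fin d) (P : GL (Fin n) F) (A : Matrix (Fin k) (Fin k) F) (B : Matrix (Fin d) (Fin d) F)
    (hA : A ≠ 0) (hB : B ≠ 0) (hK : UKrGram q e P A B) (h : GL (Fin n) F) (hiso : h ∈ GU n F q)
    (hmem : h ∈ tensorProductSubgroup k d e P) :
    ∃ (a : GL (Fin k) F) (b : GL (Fin d) F) (μ : F), μ ≠ 0 ∧
      (h : Matrix (Fin n) (Fin n) F) =
        ucKr e P ((a : Matrix (Fin k) (Fin k) F) ⊗ₖ (b : Matrix (Fin d) (Fin d) F)) ∧
      (a : Matrix (Fin k) (Fin k) F)ᵀ * A * (a : Matrix (Fin k) (Fin k) F).map (fun x : F => x ^ q) = μ • A ∧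
      (b : Matrix (Fin d) (Fin d) F)ᵀ * B * (b : Matrix (Fin d) (Fin d) F).map (fun x : F => x ^ q) = μ⁻¹ • B := by
  classical
  have hq : q ≠ 0 := by
    rintro rfl
    have := Fintype.one_lt_card (α := F)
    omega
  obtain ⟨a, b, hab⟩ := (mem_tensorProductSubgroup_iff e P h).1 hmem
  have hiso' : ∀ u v, hermForm n F q ((h : Matrix (Fin n) (Fin n) F) *ᵥ u)
      ((h : Matrix (Fin n) (Fin n) F) *ᵥ v) = hermForm n F q u v := hiso
  have hM : ((a : Matrix (Fin k) (Fin k) F) ⊗ₖ (b : Matrix (Fin d) (Fin d) F))ᵀ * (A ⊗ₖ B) *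
      ((a : Matrix (Fin k) (Fin k) F) ⊗ₖ (b : Matrix (Fin d) (Fin d) F)).map (fun x : F => x ^ q) = A ⊗ₖ B := by
    ext p p'
    have h1 := hiso' ((P : Matrix (Fin n) (Fin n) F) *ᵥ ((Pi.single p 1 : Fin k × Fin d → F) ∘ e))
      ((P : Matrix (Fin n) (Fin n) F) *ᵥ ((Pi.single p' 1 : Fin k × Fin d → F) ∘ e))
    rw [hab, Cfsg.Agent.Lib.Helper18.ASP.spc_kr_act, Cfsg.Agent.Lib.Helper18.ASP.spc_kr_act, hK, hK,
      asucsim_entry, asucsim_single q hq] at h1
    exact h1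
  rw [asucsim_kron_map, ← Matrix.kroneckerMap_transpose, ← Matrix.mul_kronecker_mul,
    ← Matrix.mul_kronecker_mul] at hM
  obtain ⟨μ, hμ, h1, h2⟩ := Cfsg.Agent.Lib.Helper18.ASP.aspcsim_kron_eq_kron _ A _ B hA hB hM
  exact ⟨a, b, μ, hμ, hab, h1, h2⟩

end Cfsg.Agent.Lib.Helper19.ASU
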