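import Mathlib
import Cfsg.Agent.Lib.Lead.BCG.Defs

set_option autoImplicit false
set_option linter.unusedVariables false

namespace Cfsg.Agent.Lib.Lead.BCG

open Polynomial Module Matrix Cfsg.Agent.Lib.Helper13.S5955 Cfsg.Agent.Lib.helper15.S5972
  Cfsg.Agent.Lib.Helper18.ONE Cfsg.Agent.Lib.Lead.BCS

theorem bcgl2_negOne_sq {F : Type*} [Field F] (d : ℕ) :
    Cfsg.Agent.S0246.negOne F d * Cfsg.Agent.S0246.negOne F d = 1 := by
  apply Subtype.ext
  rw [Submonoid.coe_mul, Cfsg.Agent.S0246.negOne_coe, neg_mul_neg, mul_one]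
  rfl

theorem bcgl2_odd_pow {G : Type*} [Group G] (z : G) (hzz : z * z = 1) (N : ℕ) (hN : Odd N) :
    z ^ N = z := by
  obtain ⟨k, hk⟩ := hN
  rw [hk, pow_succ, pow_mul, pow_two, hzz, one_pow, one_mul]

theorem bcgl2_gen {G : Type*} [Group G] (z : G) (hz : z ∈ Subgroup.center G) (hzz : z * z = 1)
    (hcases : ∀ g ∈ Subgroup.center G, g = 1 ∨ g = z) (N : ℕ) (hN : Odd N) :
    N ∈ Set.range (orderOf : G ⧸ Subgroup.center G → ℕ) ↔ ∃ x : G, orderOf x = N := by
  constructor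
  · rintro ⟨xb, hxb⟩
    obtain ⟨x, rfl⟩ := QuotientGroup.mk_surjective xb
    have hpow : x ^ N ∈ Subgroup.center G := by
      rw [← QuotientGroup.eq_one_iff, QuotientGroup.mk_pow, ← hxb, pow_orderOf_eq_one]
    have key : ∃ x' : G, (QuotientGroup.mk x' : G ⧸ Subgroup.center G) = QuotientGroup.mk x ∧
        x' ^ N = 1 := by
      rcases hcases _ hpow with h1 | h1
      · exact ⟨x, rfl, h1⟩
      · refine ⟨z * x, ?_, ?_⟩
        · rw [QuotientGroup.mk_mul, (QuotientGroup.eq_one_iff z).mpr hz, one_mul]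
        · have hc : Commute z x := (Subgroup.mem_center_iff.mp hz x).symm
          rw [hc.mul_pow, h1, bcgl2_odd_pow z hzz N hN, hzz]
    obtain ⟨x', hx', hx'N⟩ := key
    refine ⟨x', ?_⟩
    apply Nat.dvd_antisymm (orderOf_dvd_of_pow_eq_one hx'N)
    rw [← hxb, ← hx']
    exact orderOf_map_dvd (QuotientGroup.mk' (Subgroup.center G)) x'
  · rintro ⟨x, hx⟩
    refine ⟨QuotientGroup.mk x, ?_⟩
    apply Nat.dvd_antisymm
    · rw [← hx]
      exact orderOf_map_dvd (QuotientGroup.mk' (Subgroup.center G)) x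
    · have hk : x ^ orderOf (QuotientGroup.mk x : G ⧸ Subgroup.center G) ∈ Subgroup.center G := by
        rw [← QuotientGroup.eq_one_iff, QuotientGroup.mk_pow, pow_orderOf_eq_one]
      have h2k : x ^ (orderOf (QuotientGroup.mk x : G ⧸ Subgroup.center G) * 2) = 1 := by
        rw [pow_mul, pow_two]
        rcases hcases _ hk with h1 | h1
        · rw [h1, one_mul]
        · rw [h1, hzz]
      have hdvd : N ∣ orderOf (QuotientGroup.mk x : G ⧸ Subgroup.center G) * 2 := by
        rw [← hx]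
        exact orderOf_dvd_of_pow_eq_one h2k
      exact Nat.Coprime.dvd_of_dvd_mul_right hN.coprime_two_right hdvd

theorem ins_odd {F : Type*} [Field F] (h2 : (2 : F) ≠ 0) (d : ℕ) (hd : 1 ≤ d) (N : ℕ)
    (hN : Odd N) :
    N ∈ Set.range (orderOf : Cfsg.PSp d F → ℕ) ↔
      ∃ x : Matrix.symplecticGroup (Fin d) F, orderOf x = N :=
  bcgl2_gen (Cfsg.Agent.S0246.negOne F d) Cfsg.Agent.S0246.negOne_mem_center (bcgl2_negOne_sq d)
    (fun g hg => Cfsg.Agent.S0246.center_cases hd g hg) N hN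

end Cfsg.Agent.Lib.Lead.BCG
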