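import Mathlib
import Cfsg.Agent.Lib.Lead.BCS.Defs
import Cfsg.Agent.Lib.Helper24.S5972SPLIT
import Cfsg.Agent.Lib.Helper24.ElC
import Cfsg.Agent.Lib.helper23.ONECYCLADDER

set_option autoImplicit false
set_option linter.unusedVariables false

namespace Cfsg.Agent.Lib.Lead.BCS

open Polynomial Module Matrix Cfsg.Agent.Lib.Helper13.S5955 Cfsg.Agent.Lib.helper15.S5972
  Cfsg.Agent.Lib.Helper18.ONE

theorem bcsa9_comm {F : Type*} [Field F] {V : Type*} [AddCommGroup V] [Module F V]
    (z y : Module.End F V) (hc : Commute z y) (P : F[X]) : Commute z (aeval y P) := by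
  induction P using Polynomial.induction_on' with
  | add p q hp hq =>
    rw [map_add]
    exact hp.add_right hq
  | monomial n a =>
    rw [← C_mul_X_pow_eq_monomial, map_mul, aeval_C, map_pow, aeval_X]
    exact (Algebra.commute_algebraMap_right a z).mul_right (hc.pow_right n)

theorem bcsa9_h24 {F : Type*} [Field F] [Fintype F] {p : ℕ} [Fact p.Prime] [CharP F p]
    (h2 : (2 : F) ≠ 0) {V : Type*} [AddCommGroup V] [Module F V] [FiniteDimensional F V]
    {ℓ : ℕ} [Fact ℓ.Prime] (hℓp : ℓ ≠ p) (hℓ2 : ℓ ≠ 2) {B : LinearMap.BilinForm F V}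
    {y z : Module.End F V} (h : OCtx ℓ B y) (hz : OCtx 2 B z) (hc : Commute z y) (m : ℕ)
    (hm : 1 ≤ m) (hi : OrdC (Fintype.card F) m ℓ) (hdim : finrank F (cycS ℓ y) = 2 * m) :
    (∀ w ∈ cycS ℓ y, z w = w) ∨ (∀ w ∈ cycS ℓ y, z w = -w) := by
  obtain ⟨-, -, -, hWnd⟩ := o_split hℓp h
  have hzz : ∀ v, z (z v) = v := by
    intro v
    have h0 := hz.pow
    rw [pow_two] at h0
    have h1 := congrArg (fun f : Module.End F V => f v) h0
    simpa using h1
  have hWz : SInv z (cycS ℓ y) := by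
    intro w hw
    unfold cycS at hw ⊢
    rw [LinearMap.mem_ker] at hw ⊢
    have hcm := bcsa9_comm z y hc (cyclotomic ℓ F)
    have h1 : aeval y (cyclotomic ℓ F) (z w) = z (aeval y (cyclotomic ℓ F) w) := by
      have h0 := congrArg (fun f : Module.End F V => f w) hcm.eq
      simp only [Module.End.mul_apply] at h0
      exact h0.symm
    rw [h1, hw, map_zero]
  have hFy : SInv y (fixS z) := by
    intro w hw
    rw [bcs_mem_fixS] at hw ⊢
    have h0 := congrArg (fun f : Module.End F V => f w) hc.eq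
    simp only [Module.End.mul_apply] at h0
    rw [h0, hw]
  have hEinv : SInv y (cycS ℓ y ⊓ fixS z) :=
    Cfsg.Agent.Lib.Helper24.el_inv_inf (Cfsg.Agent.Lib.Helper24.el_inv_ker y _) hFy
  have hEle : cycS ℓ y ⊓ fixS z ≤ cycS ℓ y := inf_le_left
  have hplus : ∀ w ∈ cycS ℓ y, w + z w ∈ cycS ℓ y ⊓ fixS z := by
    intro w hw
    refine Submodule.mem_inf.mpr ⟨Submodule.add_mem _ hw (hWz w hw), ?_⟩
    rw [bcs_mem_fixS, map_add, hzz, add_comm]
  by_cases hE0 : cycS ℓ y ⊓ fixS z = ⊥
  · right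
    intro w hw
    have h0 := hplus w hw
    rw [hE0, Submodule.mem_bot] at h0
    exact eq_neg_of_add_eq_zero_right h0
  · left
    have hEnd : SND B (cycS ℓ y ⊓ fixS z) := by
      intro u hu hu0
      have huW := hEle hu
      have hzu : z u = u := (bcs_mem_fixS z u).mp (Submodule.mem_inf.mp hu).2
      apply hWnd u huW
      intro w hw
      have h1 : B u (z w) = B u w := by
        have h0 := hz.pres u w
        rw [hzu] at h0
        exact h0
      have h3 := hu0 (w + z w) (hplus w hw)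
      rw [map_add, h1] at h3
      have h4 : (2 : F) * B u w = 0 := by
        rw [two_mul]
        exact h3
      rcases mul_eq_zero.mp h4 with h5 | h5
      · exact absurd h5 h2
      · exact h5
    have hdvd := o_cyc_nd_dvd hℓp hℓ2 h _ (2 * m) rfl (ordc_c hi) (cycS ℓ y ⊓ fixS z) hEinv
      hEle hEnd
    have hpos : 0 < finrank F ↥(cycS ℓ y ⊓ fixS z) :=
      Nat.pos_of_ne_zero (fun h0 => hE0 (Submodule.finrank_eq_zero.mp h0))
    have hge : 2 * m ≤ finrank F ↥(cycS ℓ y ⊓ fixS z) := Nat.le_of_dvd hpos hdvd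
    have hEW : cycS ℓ y ⊓ fixS z = cycS ℓ y :=
      Submodule.eq_of_le_of_finrank_le hEle (by rw [hdim]; exact hge)
    intro w hw
    rw [← hEW] at hw
    exact (bcs_mem_fixS z w).mp (Submodule.mem_inf.mp hw).2

end Cfsg.Agent.Lib.Lead.BCS
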