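import Mathlib
import Cfsg.Agent.Lib.helper15.St2
import Cfsg.Agent.Lib.helper7.StA
import Cfsg.Agent.Lib.helper7.StC
import Cfsg.Agent.Lib.helper3.STC.Defs
import Cfsg.Agent.Lib.Helper24.STCI1

set_option autoImplicit false

namespace Cfsg.Agent.Lib.helper3.STC

open Cfsg.Agent.Lib.helper15.St2 Cfsg.Agent.Lib.helper7.St

namespace SysC

variable {K : Type*} [Field K] {ι : Type*} {G : Type*} [Group G] (S : SysC K ι G)

theorem x_zero (a b : ι ⊕ ι) : S.x a b 0 = 1 := by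
  by_cases h : a = b
  · subst h; exact S.diag a 0
  · have := S.add a b h 0 0
    rw [add_zero] at this
    exact mul_eq_left.mp this

theorem x_neg (a b : ι ⊕ ι) (t : K) : S.x a b (-t) = (S.x a b t)⁻¹ := by
  by_cases h : a = b
  · subst h; rw [S.diag, S.diag, inv_one]
  · exact eq_inv_of_mul_eq_one_left (by rw [S.add a b h, neg_add_cancel, S.x_zero])

theorem st_x {a b : ι ⊕ ι} (hab : a ≠ b) (t : K) : (S.st a b hab).x t = S.x a b t := rfl

theorem st_y {a b : ι ⊕ ι} (hab : a ≠ b) (t : K) : (S.st a b hab).y t = S.x b a t := rfl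

theorem st_w {a b : ι ⊕ ι} (hab : a ≠ b) (t : K) : (S.st a b hab).w t = S.w a b t := rfl

theorem st_h {a b : ι ⊕ ι} (hab : a ≠ b) (t : K) : (S.st a b hab).h t = S.h a b t := rfl

theorem w_neg (a b : ι ⊕ ι) (t : K) : S.w a b (-t) = (S.w a b t)⁻¹ := by
  unfold w
  rw [mul_inv_rev, mul_inv_rev, ← S.x_neg, ← S.x_neg, inv_neg, neg_neg, mul_assoc]

theorem w_swap {a b : ι ⊕ ι} (hab : a ≠ b) (t : K) (ht : t ≠ 0) : S.w b a t = S.w a b (-t⁻¹) := by
  have h := (S.st a b hab).W_swap false t ht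
  exact h

theorem h_one (a b : ι ⊕ ι) : S.h a b 1 = 1 := by
  unfold h
  rw [S.w_neg]
  group

theorem w_sym {a b : ι ⊕ ι} (hab : a ≠ b) (t : K) :
    S.w a b t = S.w (ng b) (ng a) (-(sg a * sg b * t)) := by
  unfold w
  rw [S.sym a b hab t, S.sym b a hab.symm (-t⁻¹)]
  have e : -(sg b * sg a * -t⁻¹) = -(-(sg a * sg b * t))⁻¹ := by
    rw [inv_neg, mul_inv, mul_inv, sg_inv, sg_inv]
    ring
  rw [e]

theorem cj_comm {a b c d : ι ⊕ ι} (hab : a ≠ b) (hcd : c ≠ d) (hbc : b ≠ c) (had : a ≠ d)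
    (hbd : b ≠ ng d) (hac : a ≠ ng c) (t u : K) : cj (S.x a b t) (S.x c d u) = S.x c d u := by
  unfold cj
  rw [S.comm a b c d hab hcd hbc had hbd hac t u]
  group

theorem cj3 {a b c : ι ⊕ ι} (hab : a ≠ b) (hab' : a ≠ ng b) (hbc : b ≠ c) (hbc' : b ≠ ng c)
    (hac : a ≠ c) (hac' : a ≠ ng c) (t u : K) :
    cj (S.x a b t) (S.x b c u) = S.x a c (t * u) * S.x b c u := by
  unfold cj
  rw [← S.comm3 a b c hab hab' hbc hbc' hac hac' t u]
  group

theorem cj3' {a b c : ι ⊕ ι} (hab : a ≠ b) (hab' : a ≠ ng b) (hca : c ≠ a) (hca' : c ≠ ng a)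
    (hcb : c ≠ b) (hcb' : c ≠ ng b) (t u : K) :
    cj (S.x a b t) (S.x c a u) = S.x c b (-(u * t)) * S.x c a u := by
  unfold cj
  rw [S.x_neg, ← S.comm3 c a b hca hca' hab hab' hcb hcb' u t]
  group

theorem cj_ssl {a b : ι ⊕ ι} (hab : a ≠ b) (hab' : a ≠ ng b) (t u : K) :
    cj (S.x a b t) (S.x b (ng a) u) = S.x a (ng a) (2 * t * u) * S.x b (ng a) u := by
  unfold cj
  rw [← S.ssl a b hab hab' t u]
  group

theorem cj_ls {a b : ι ⊕ ι} (hab : a ≠ b) (hab' : a ≠ ng b) (t u : K) :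
    cj (S.x a (ng a) t) (S.x (ng a) b u) =
      S.x a b (t * u) * S.x (ng b) b (sg a * sg b * t * u ^ 2) * S.x (ng a) b u := by
  unfold cj
  rw [← S.ls a b hab hab' t u]
  group

theorem cj_sl {a b : ι ⊕ ι} (hab : a ≠ b) (hab' : a ≠ ng b) (t u : K) :
    cj (S.x b a u) (S.x a (ng a) t) =
      S.x b (ng a) (t * u) * S.x b (ng b) (sg a * sg b * t * u ^ 2) * S.x a (ng a) t := by
  have hnb : a ≠ ng (ng b) := by rw [ng_ng]; exact hab
  have hba' : b ≠ ng a := fun h => hab' (by rw [h, ng_ng])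
  have hls := S.ls a (ng b) hab' hnb t (-(sg b * sg a * u))
  rw [ng_ng, sg_ng, ← S.sym b a hab.symm u] at hls
  have e1 : sg a * -sg b * t * (-(sg b * sg a * u)) ^ 2 = -(sg a * sg b * t * u ^ 2) := by
    have h1 := sg_mul_self (K := K) a
    have h2 := sg_mul_self (K := K) b
    have : (-(sg b * sg a * u)) ^ 2 = (sg a * sg a) * (sg b * sg b) * u ^ 2 := by ring
    rw [this, h1, h2]
    ring
  rw [e1] at hls
  have hP : S.x a (ng b) (t * -(sg b * sg a * u)) = (S.x b (ng a) (t * u))⁻¹ := by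
    rw [← S.x_neg, S.sym b (ng a) hba' (-(t * u)), ng_ng, sg_ng]
    congr 1
    ring
  rw [hP, S.x_neg] at hls
  have hc : S.x b (ng a) (t * u) * S.x b (ng b) (sg a * sg b * t * u ^ 2) =
      S.x b (ng b) (sg a * sg b * t * u ^ 2) * S.x b (ng a) (t * u) := by
    apply S.comm b (ng a) b (ng b) hba' (ne_ng b)
    · exact fun h => hab' (ng_eq_iff.mp h)
    · exact ne_ng b
    · rw [ng_ng]; exact fun h => hab' (ng_eq_iff.mp h)
    · exact ne_ng b
  unfold cj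
  rw [hc]
  have h2 : S.x b a u * S.x a (ng a) t * (S.x b a u)⁻¹ =
      (S.x a (ng a) t * S.x b a u * (S.x a (ng a) t)⁻¹ * (S.x b a u)⁻¹)⁻¹ * S.x a (ng a) t := by
    group
  rw [h2, hls]
  group

end SysC

end Cfsg.Agent.Lib.helper3.STC
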