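import Mathlib
import Cfsg.Agent.Lib.Helper20.GLE.Defs
import Cfsg.Agent.Lib.Helper20.SPMA1
import Cfsg.Agent.Lib.Helper29.SPMA3
import Cfsg.Agent.Lib.Helper29.SPMA4
import Cfsg.Agent.Lib.Helper24.STCI1
import Cfsg.Agent.Lib.Helper9.GLEE1
import Cfsg.Agent.Lib.Helper9.GLEE5
import Cfsg.Agent.Lib.Helper26.GLEL0
import Cfsg.Agent.Lib.Helper20.GLEI2
import Cfsg.Agent.Lib.Helper24.GLET1
import Cfsg.Agent.Lib.Helper24.GLET4

set_option autoImplicit false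
set_option linter.unusedSectionVars false

namespace Cfsg.Agent.Lib.Helper20.GLE

open Cfsg.Agent.Lib.helper3.STC (ng ab)
open Cfsg.Agent.Lib.helper3.SPM (Pts pe sgm sn sig2 ptsFin pe2)
open Cfsg.Agent.Lib.Helper27.STU
open Cfsg.Agent.Lib.helper17.SLP (cm)

universe u v w x v' y

section main
variable {F : Type u} [Field F] [StarRing F] {L : Type x} [Group L] {ι : Type w} [Fintype ι] [DecidableEq ι] {G : Type v} [Group G]
  (S₂ : SysU F False (Fin 2) L) (swL : L) (ζ : F) (p : Pts ι) (ν : Equiv.Perm ι →* G) (lam : L →* G)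

omit [Fintype ι] in
theorem glet5_sig2_base : sig2 p p.o0 p.o1 = 1 := by
  unfold sig2
  rw [Equiv.swap_self, Equiv.refl_apply, Equiv.swap_self]
  rfl

omit [Fintype ι] in
theorem glet5_uA (t : F) : xrs S₂ p ν lam (Sum.inl p.o0) (Sum.inl p.o1) t = lam (uA S₂ t) := by
  unfold xrs
  show lamC ν lam (sig2 p p.o0 p.o1) (S₂.xs (Sum.inl 0) (Sum.inl 1) t) = lam (uA S₂ t)
  rw [glet5_sig2_base]
  show ν 1 * lam (uA S₂ t) * (ν 1)⁻¹ = lam (uA S₂ t)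
  rw [map_one, one_mul, inv_one, mul_one]

omit [Fintype ι] in
theorem glet5_conj_comm {hh x g : G} (h1 : Commute x g) (hc : Commute hh g) : Commute (hh * x * hh⁻¹) g := by
  have hg' : hh * g * hh⁻¹ = g := by
    rw [hc.eq, mul_inv_cancel_right]
  have : Commute (hh * x * hh⁻¹) (hh * g * hh⁻¹) := by
    show _ * _ = _ * _
    have e := h1.eq
    calc hh * x * hh⁻¹ * (hh * g * hh⁻¹) = hh * (x * g) * hh⁻¹ := by group
      _ = hh * (g * x) * hh⁻¹ := by rw [e]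
      _ = hh * g * hh⁻¹ * (hh * x * hh⁻¹) := by group
  rwa [hg'] at this

theorem glet5_scale (hF : Hyp F) (H : Glue S₂ swL ζ p ν lam) (hU : UFacts S₂ swL ζ) {g : G} (hg : g ∈ LB S₂ p ν lam p.o2)
    {t : F} (h1 : Commute (xrs S₂ p ν lam (Sum.inl p.o0) (Sum.inl p.o1) t) g) {r : F} (hr : star r = r) :
    Commute (xrs S₂ p ν lam (Sum.inl p.o0) (Sum.inl p.o1) (r * t)) g := by
  by_cases hr0 : r = 0
  · subst hr0
    rw [zero_mul, xrs_zero]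
    exact Commute.one_left g
  obtain ⟨ξ, η, hξ, hη, hrat⟩ := exists_lam_ratio hF hr hr0
  have hmem : hrl S₂ p ν lam (Sum.inl p.o0) ξ η ∈ LB S₂ p ν lam p.o0 := hrl_mem_LB S₂ p ν lam (Sum.inl p.o0) ξ η
  have hcomm : Commute (hrl S₂ p ν lam (Sum.inl p.o0) ξ η) g := LB_comm S₂ swL ζ p ν lam H hU p.h02 hmem hg
  have hab : ab (Sum.inl p.o0 : ι ⊕ ι) ≠ ab (Sum.inl p.o1 : ι ⊕ ι) := p.h01
  have hconj := hl_pair_s S₂ swL ζ p ν lam H hU p.h01 hξ hη hab (Or.inl rfl) (Or.inr rfl) t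
  have hd1 : dhl (Sum.inl p.o0) (ξ.c / η.c) (Sum.inl p.o0 : ι ⊕ ι) = ξ.c / η.c := by
    unfold dhl
    rw [if_pos rfl]
  have hd2 : dhl (Sum.inl p.o0) (ξ.c / η.c) (Sum.inl p.o1 : ι ⊕ ι) = 1 := by
    unfold dhl
    have e1 : (Sum.inl p.o1 : ι ⊕ ι) ≠ Sum.inl p.o0 := fun h => p.h01 (Sum.inl.inj h).symm
    have e2 : (Sum.inl p.o1 : ι ⊕ ι) ≠ ng (Sum.inl p.o0) := by
      intro h
      cases h
    rw [if_neg e1, if_neg e2]
  rw [hd1, hd2, inv_one, mul_one, hrat] at hconj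
  rw [← hconj]
  exact glet5_conj_comm h1 hcomm

theorem d3_base (hF : Hyp F) (H : Glue S₂ swL ζ p ν lam) (hU : UFacts S₂ swL ζ) (t : F) {g : G} (hg : g ∈ LB S₂ p ν lam p.o2) :
    Commute (xrs S₂ p ν lam (Sum.inl p.o0) (Sum.inl p.o1) t) g := by
  have hbase : ∀ t0 : F, t0 = 1 ∨ t0 = ζ → Commute (xrs S₂ p ν lam (Sum.inl p.o0) (Sum.inl p.o1) t0) g := by
    intro t0 ht0
    rw [glet5_uA]
    obtain ⟨g₀, hg₀, rfl⟩ := hg
    exact H.d3 t0 ht0 g₀ hg₀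
  obtain ⟨s, s', hs, hs', rfl⟩ := hU.span t
  rw [← xrs_add]
  refine Commute.mul_left ?_ ?_
  · have := glet5_scale S₂ swL ζ p ν lam hF H hU hg (hbase 1 (Or.inl rfl)) hs
    rwa [mul_one] at this
  · exact glet5_scale S₂ swL ζ p ν lam hF H hU hg (hbase ζ (Or.inr rfl)) hs'

end main

end Cfsg.Agent.Lib.Helper20.GLE
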