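import Mathlib
import Cfsg.Agent.Lib.Helper19.ORE.Defs

set_option autoImplicit false

namespace Cfsg.Agent.Lib.Helper19.ORE

open Polynomial Module

universe u v

section General
variable {F : Type u} [Field F]

theorem oreb3_mem_span {V : Type v} [AddCommGroup V] [Module F V] [FiniteDimensional F V]
    (f : V →ₗ[F] V) (v : V) (d : ℕ) (hd : finrank F V = d) (p : F[X]) :
    aeval f p v ∈ Submodule.span F (Set.range (fun i : Fin d => (f ^ (i : ℕ)) v)) := by
  set μ := minpoly F f with hμdef
  have hμ : μ.Monic := minpoly.monic (Algebra.IsIntegral.isIntegral f)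
  have hμ0 : aeval f μ = 0 := minpoly.aeval F f
  have hdeg : μ.natDegree ≤ d := by
    have h1 : μ ∣ f.charpoly := LinearMap.minpoly_dvd_charpoly f
    have h2 : f.charpoly.natDegree = d := by rw [LinearMap.charpoly_natDegree, hd]
    have h3 : f.charpoly ≠ 0 := (LinearMap.charpoly_monic f).ne_zero
    rw [← h2]
    exact Polynomial.natDegree_le_of_dvd h1 h3
  have e : aeval f p v = aeval f (p %ₘ μ) v := by
    conv_lhs => rw [← Polynomial.modByMonic_add_div p μ]
    rw [map_add, map_mul, hμ0, zero_mul, add_zero]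
  rw [e]
  set r := p %ₘ μ with hr
  by_cases hr0 : r = 0
  · rw [hr0, map_zero, LinearMap.zero_apply]
    exact Submodule.zero_mem _
  · have h1 : r.degree < μ.degree := degree_modByMonic_lt p hμ
    have h2 : r.natDegree < d := by
      have h3 : r.natDegree < μ.natDegree := Polynomial.natDegree_lt_natDegree hr0 h1
      omega
    rw [Polynomial.aeval_eq_sum_range' h2, LinearMap.sum_apply]
    apply Submodule.sum_mem
    intro i hi
    rw [LinearMap.smul_apply]
    apply Submodule.smul_mem
    apply Submodule.subset_span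
    exact ⟨⟨i, Finset.mem_range.mp hi⟩, rfl⟩

theorem cyc_basis {V : Type v} [AddCommGroup V] [Module F V] [FiniteDimensional F V]
    (g : V ≃ₗ[F] V) (hg : IsCyc g) (d : ℕ) (hd : finrank F V = d) :
    ∃ (v : V) (b : Basis (Fin d) F V), ∀ i : Fin d, b i = ((g : V →ₗ[F] V) ^ (i : ℕ)) v := by
  obtain ⟨v, hv⟩ := hg
  refine ⟨v, ?_⟩
  have hspan : ⊤ ≤ Submodule.span F
      (Set.range (fun i : Fin d => ((g : V →ₗ[F] V) ^ (i : ℕ)) v)) := by
    intro x _
    obtain ⟨p, rfl⟩ := hv x
    exact oreb3_mem_span (g : V →ₗ[F] V) v d hd p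
  have hcard : Fintype.card (Fin d) = finrank F V := by rw [Fintype.card_fin, hd]
  refine ⟨basisOfTopLeSpanOfCardEqFinrank _ hspan hcard, ?_⟩
  intro i
  rw [coe_basisOfTopLeSpanOfCardEqFinrank]

end General

end Cfsg.Agent.Lib.Helper19.ORE
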