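import Mathlib
import Cfsg.Agent.Lib.Helper19.SO8.Defs

set_option autoImplicit false
set_option linter.unusedVariables false

namespace Cfsg.Agent.Lib.Helper19.SO8

open Polynomial Cfsg.Agent.Lib.Helper13.OTS

theorem reverse_eq_of_associated {F : Type*} [Field F] [CharP F 2] (f : F[X]) (h0 : f.coeff 0 ≠ 0)
    (h : Associated f.reverse f) : f.reverse = f := by
  obtain ⟨u, hu⟩ := h
  obtain ⟨c, hc, hcu⟩ := Polynomial.isUnit_iff.mp u.isUnit
  rw [← hcu] at hu
  have h1 : f.coeff 0 = f.coeff f.natDegree * c := by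
    have h2 := congrArg (fun p : F[X] => p.coeff 0) hu
    simp only [coeff_mul_C, coeff_reverse, revAt_le (Nat.zero_le _), Nat.sub_zero] at h2
    exact h2.symm
  have h3 : f.coeff f.natDegree = f.coeff 0 * c := by
    have h2 := congrArg (fun p : F[X] => p.coeff f.natDegree) hu
    simp only [coeff_mul_C, coeff_reverse, revAt_le (le_refl _), Nat.sub_self] at h2
    exact h2.symm
  have h4 : c * c = 1 := by
    have h5 : f.coeff 0 * (c * c) = f.coeff 0 * 1 := by
      rw [mul_one, ← mul_assoc, ← h3, ← h1]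
    exact mul_left_cancel₀ h0 h5
  have h6 : c = 1 := by
    have h7 : (c + 1) * (c + 1) = 0 := by
      have h8 : (c + 1) * (c + 1) = c * c + (c + c) + 1 := by ring
      rw [h8, h4, CharTwo.add_self_eq_zero c, add_zero, CharTwo.add_self_eq_zero]
    have h9 : c + 1 = 0 := by
      rcases mul_eq_zero.mp h7 with h | h <;> exact h
    have h10 := CharTwo.add_self_eq_zero (1 : F)
    calc c = c + (1 + 1) := by rw [h10, add_zero]
      _ = (c + 1) + 1 := by ring
      _ = 1 := by rw [h9, zero_add]
  rw [h6, C_1, mul_one] at hu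
  exact hu

end Cfsg.Agent.Lib.Helper19.SO8
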