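import Mathlib
import Cfsg.Agent.Lib.Helper19.SO8.Defs

set_option autoImplicit false
set_option linter.unusedVariables false

namespace Cfsg.Agent.Lib.Helper19.SO8

open Polynomial Cfsg.Agent.Lib.Helper13.OTS

theorem selfrec_even {F : Type*} [Field F] [CharP F 2] (g : F[X]) (hr : g.reverse = g) (h1 : g.eval 1 ≠ 0) :
    Even g.natDegree := by
  by_contra hodd
  rw [Nat.not_even_iff_odd] at hodd
  apply h1
  rw [eval_eq_sum_range]
  simp only [one_pow, mul_one]
  have hco : ∀ i, i ≤ g.natDegree → g.coeff (g.natDegree - i) = g.coeff i := by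
    intro i hi
    have h2 : g.reverse.coeff i = g.coeff (g.natDegree - i) := by
      rw [coeff_reverse, revAt_le hi]
    rw [← h2, hr]
  refine Finset.sum_involution (fun i _ => g.natDegree - i) ?_ ?_ ?_ ?_
  · intro i hi
    have hi' : i ≤ g.natDegree := by
      have := Finset.mem_range.mp hi
      omega
    rw [hco i hi']
    exact CharTwo.add_self_eq_zero _
  · intro i hi _ h
    have hi' : i ≤ g.natDegree := by
      have := Finset.mem_range.mp hi
      omega
    obtain ⟨k, hk⟩ := hodd
    omega
  · intro i hi
    apply Finset.mem_range.mpr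
    omega
  · intro i hi
    have hi' : i ≤ g.natDegree := by
      have := Finset.mem_range.mp hi
      omega
    show g.natDegree - (g.natDegree - i) = i
    omega

end Cfsg.Agent.Lib.Helper19.SO8
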