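import Mathlib
import Cfsg.Prelude.Def_Characters
import Cfsg.Prelude.Def_Blocks
import Cfsg.Agent.Lib.Helper25.CharLinear
import Cfsg.Agent.Lib.Helper29.LeoOrbit
import Cfsg.Agent.Lib.helper7.BR.Defs
import Cfsg.Agent.Lib.Helper13.BT.Defs

set_option autoImplicit false
set_option linter.unusedVariables false
set_option linter.unusedSectionVars false
set_option linter.style.haveILetI false

namespace Cfsg.Agent.Lib.Helper13.BT

open Classical
open scoped ComplexConjugate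
open Cfsg.Agent.Lib.Helper25 Cfsg.Agent.Lib.Helper29
open Cfsg.Agent.Lib.helper7.BR

universe u

variable {G : Type u} [Group G] [Fintype G] {p : ℕ} [Fact p.Prime]

theorem btcsum_sing (P : Sylow p G) (x : G) (hx : x ∈ (P : Subgroup G)) (hx1 : x ≠ 1) :
    p ∣ orderOf x := by
  have hp : p.Prime := Fact.out
  obtain ⟨k, hk⟩ := P.isPGroup' ⟨x, hx⟩
  have h1 : x ^ p ^ k = 1 := by
    have := congrArg (Subtype.val) hk
    simpa using this
  have h2 : orderOf x ∣ p ^ k := orderOf_dvd_of_pow_eq_one h1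
  obtain ⟨j, -, hj⟩ := (Nat.dvd_prime_pow hp).mp h2
  rcases Nat.eq_zero_or_pos j with h0 | h0
  · rw [h0, pow_zero] at hj
    exact absurd (orderOf_eq_one_iff.mp hj) hx1
  · rw [hj]
    exact dvd_pow_self p (by omega)

theorem btcsum_reg (hodd : p ≠ 2) (u : G) (hu : u * u = 1) : ¬ p ∣ orderOf u := by
  have hp : p.Prime := Fact.out
  intro h
  have h1 : orderOf u ∣ 2 := orderOf_dvd_of_pow_eq_one (by rw [pow_two]; exact hu)
  exact hodd ((Nat.prime_dvd_prime_iff_eq hp Nat.prime_two).mp (h.trans h1))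

theorem class_sum (hodd : p ≠ 2) {P : Sylow p G} {e : ℕ} {X Y : Finset (Cfsg.IrrCharacter G)}
    {a : Cfsg.IrrCharacter G → ℤ} (hB : PB3 p e P X Y a (-1))
    (hvan : ∀ ξ : Cfsg.IrrCharacter G, ξ ∉ X → ξ ∉ Y → ∀ x ∈ (P : Subgroup G), x ≠ 1 → (ξ : G → ℂ) x = 0)
    (z : ℕ) (hdegY : ∀ η ∈ Y, leoDeg η = z) (η₀ : Cfsg.IrrCharacter G) (hη₀ : η₀ ∈ Y)
    (u : G) (hu : u * u = 1) (x : G) (hx : x ∈ (P : Subgroup G)) (hx1 : x ≠ 1) :
    ∑ᶠ χ : Cfsg.IrrCharacter G,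
        (χ : G → ℂ) u * (χ : G → ℂ) u * conj ((χ : G → ℂ) x) / (χ : G → ℂ) 1 =
      ∑ ξ ∈ X, (a ξ : ℂ) * ((ξ : G → ℂ) u * (ξ : G → ℂ) u) / (leoDeg ξ : ℂ) +
        (η₀ : G → ℂ) u * (η₀ : G → ℂ) u / (z : ℂ) := by
  letI : Fintype (Cfsg.IrrCharacter G) := Fintype.ofFinite _
  rw [finsum_eq_sum_of_fintype]
  have hpx : p ∣ orderOf x := btcsum_sing P x hx hx1
  have hpu : ¬ p ∣ orderOf u := btcsum_reg hodd u hu
  have hsplit : ∑ χ : Cfsg.IrrCharacter G,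
      (χ : G → ℂ) u * (χ : G → ℂ) u * conj ((χ : G → ℂ) x) / (χ : G → ℂ) 1 =
      ∑ χ ∈ X, (χ : G → ℂ) u * (χ : G → ℂ) u * conj ((χ : G → ℂ) x) / (χ : G → ℂ) 1 +
      ∑ χ ∈ Y, (χ : G → ℂ) u * (χ : G → ℂ) u * conj ((χ : G → ℂ) x) / (χ : G → ℂ) 1 := by
    rw [← Finset.sum_union hB.disj]
    symm
    apply Finset.sum_subset (Finset.subset_univ _)
    intro χ _ hχ
    rw [Finset.mem_union, not_or] at hχ
    rw [hvan χ hχ.1 hχ.2 x hx hx1, map_zero, mul_zero, zero_div]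
  rw [hsplit]
  congr 1
  · apply Finset.sum_congr rfl
    intro ξ hξ
    rw [hB.valX ξ hξ x hpx, leoDeg_spec, map_intCast]
    ring
  · have h1 : ∀ η ∈ Y, (η : G → ℂ) u * (η : G → ℂ) u * conj ((η : G → ℂ) x) / (η : G → ℂ) 1 =
        ((η₀ : G → ℂ) u * (η₀ : G → ℂ) u / (z : ℂ)) * conj ((η : G → ℂ) x) := by
      intro η hη
      rw [hB.agree η hη η₀ hη₀ u hpu, leoDeg_spec, hdegY η hη]
      ring
    rw [Finset.sum_congr rfl h1, ← Finset.mul_sum, ← map_sum, hB.sumY x hpx]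
    simp

end Cfsg.Agent.Lib.Helper13.BT
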