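import Cfsg.Agent.Lib.Helper24.BTBOUNDcore
import Cfsg.Agent.Lib.helper6.BTCLS
import Cfsg.Agent.Lib.helper6.BTREAL
import Cfsg.Agent.Lib.helper8.BTXDEG
import Cfsg.Agent.Lib.helper4.BTCNT

set_option autoImplicit false
set_option linter.unusedVariables false
set_option linter.unusedSectionVars false

namespace Cfsg.Agent.Lib.Helper13.BT

open Classical
open scoped ComplexConjugate
open Cfsg.Agent.Lib.Helper25 Cfsg.Agent.Lib.Helper29
open Cfsg.Agent.Lib.helper7.BR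

universe u

variable {G : Type u} [Group G] [Fintype G] {p : ℕ} [Fact p.Prime]

theorem cent_bound (hperf : commutator G = ⊤) (hodd : p ≠ 2) {P : Sylow p G}
    (hP : Nat.card ↥(P : Subgroup G) = p) (hcen : cen P = (P : Subgroup G))
    {f : ℕ} {X Y : Finset (Cfsg.IrrCharacter G)} {a : Cfsg.IrrCharacter G → ℤ}
    (hB : PB3 p f P X Y a (-1)) (hpf : 2 * f + 1 = p) (b : ℕ)
    (hcard : Nat.card G = p * 2 ^ b * (f + 1))
    (hvan : ∀ ξ : Cfsg.IrrCharacter G, ξ ∉ X → ξ ∉ Y → ∀ x ∈ (P : Subgroup G), x ≠ 1 → (ξ : G → ℂ) x = 0)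
    (hdegY : ∀ η ∈ Y, leoDeg η = f + 1)
    (t : G) (ht1 : t ≠ 1) (ht2 : t * t = 1) (hinv : ∀ x ∈ (P : Subgroup G), t * x * t⁻¹ = x⁻¹) :
    2 * Nat.card ↥(Subgroup.centralizer ({t} : Set G)) ^ 2 ≤
      2 ^ b * (p + Nat.card ↥(Subgroup.centralizer ({t} : Set G))) :=
  btbound_core hodd hP hB hpf b hcard hvan hdegY t ht2 (X_degrees hperf hP hB)
    (fun χ => real_of_involution χ t ht2) (card_conj_class t)
    (fun x hx hx1 => (count_pairs hodd P hP hcen t ht1 ht2 hinv x hx hx1).1)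

end Cfsg.Agent.Lib.Helper13.BT
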