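import Mathlib
import Cfsg.Prelude.Def_Characters
import Cfsg.Agent.Lib.helper7.PM2.Defs
import Cfsg.Agent.Lib.helper7.CharTools

set_option autoImplicit false
set_option linter.unusedVariables false
set_option linter.unusedSectionVars false

namespace Cfsg.Agent.Lib.helper7.PM2

open scoped ComplexConjugate

universe u

variable {G : Type u} [Group G] [Fintype G] {p : ℕ} {ζ : G → ℂ} {x : G} {ω : ℂ}

theorem pm2cnt_split (p : ℕ) (F : G → ℂ) :
    ∑ g : G, F g = ∑ g ∈ sing p G, F g + ∑ g ∈ reg p G, F g := by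
  classical
  unfold sing reg
  rw [Finset.sum_filter_add_sum_filter_not]

theorem pm2cnt_card_cen : (cen G).card = Nat.card (Subgroup.center G) := by
  classical
  rw [Nat.card_eq_fintype_card]
  exact (Fintype.card_of_subtype (cen G) (fun g => mem_cen g)).symm

theorem pm2cnt_p_ne (S : Setting p ζ x ω) : (p : ℂ) ≠ 0 := by
  have := S.hp.pos
  exact_mod_cast this.ne'

theorem pm2cnt_p2_ne (S : Setting p ζ x ω) : (p : ℂ) - 2 ≠ 0 := by
  have h5 := S.hp5
  intro h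
  have h2 : (p : ℂ) = 2 := by linear_combination h
  have : p = 2 := by exact_mod_cast h2
  omega

theorem pm2cnt_zeta_cen (S : Setting p ζ x ω) (c : G) : ζ c = nu ζ c * ((p : ℂ) - 2) := by
  unfold nu
  rw [S.deg]
  field_simp [pm2cnt_p2_ne S]

theorem pm2cnt_card_ne : (Nat.card G : ℂ) ≠ 0 := by
  have : 0 < Nat.card G := Nat.card_pos
  exact_mod_cast this.ne'

theorem pm2cnt_norm_sum (S : Setting p ζ x ω) :
    ∑ g : G, ζ g * conj (ζ g) = (Nat.card G : ℂ) := by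
  have h := Cfsg.Agent.Lib.helper7.h7_irr_norm S.irr
  unfold Cfsg.classInner at h
  have hn : (Nat.card G : ℂ) ≠ 0 := pm2cnt_card_ne
  field_simp at h
  exact h

theorem pm2cnt_unit_sq {z : ℂ} (h : ‖z‖ = 1) : z * conj z = 1 := by
  rw [Complex.mul_conj, Complex.normSq_eq_norm_sq, h]
  norm_num

theorem pm2cnt1_core (S : Setting p ζ x ω)
    (hSI1 : ∀ k k' : ℕ, ¬ p ∣ k → ¬ p ∣ k' → k ≡ k' [MOD Nat.card (Subgroup.center G)] →
      ∑ g ∈ sing p G, pw ζ k g * conj (pw ζ k' g) =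
        (Nat.card G : ℂ) * ((if k ≡ k' [MOD p] ∨ k + k' ≡ 0 [MOD p] then 1 else 0) - 2 / (p : ℂ)))
    (hREG : ∀ F : G → ℂ, (∀ g, ζ g = 0 → F g = 0) →
      ∑ g ∈ reg p G, F g = ∑ c ∈ cen G, F c + ∑ u ∈ invol G, ∑ c ∈ cen G, F (u * c))
    (hnorm : ∀ c : G, c ∈ Subgroup.center G → ‖nu ζ c‖ = 1)
    (hinv : ∀ u c : G, orderOf u = 2 → c ∈ Subgroup.center G → ζ (u * c) = - nu ζ c) :
    2 * (Nat.card G : ℂ) / (p : ℂ) =
      (Nat.card (Subgroup.center G) : ℂ) * (((p : ℂ) - 2) ^ 2 + ((invol G).card : ℂ)) := by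
  classical
  have hp0 := pm2cnt_p_ne S
  have hp1 : ¬ p ∣ 1 := by
    intro h
    have := Nat.le_of_dvd Nat.one_pos h
    have := S.hp5
    omega
  have h1 := hSI1 1 1 hp1 hp1 (Nat.ModEq.refl _)
  rw [if_pos (Or.inl (Nat.ModEq.refl _))] at h1
  have h1' : ∑ g ∈ sing p G, ζ g * conj (ζ g) = (Nat.card G : ℂ) * (1 - 2 / (p : ℂ)) := by
    rw [← h1]
    refine Finset.sum_congr rfl (fun g _ => ?_)
    rw [pw_apply, pow_one]
  have h2 := hREG (fun g => ζ g * conj (ζ g)) (fun g hg => by simp [hg])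
  have h3 : ∑ c ∈ cen G, ζ c * conj (ζ c) =
      (Nat.card (Subgroup.center G) : ℂ) * ((p : ℂ) - 2) ^ 2 := by
    rw [← pm2cnt_card_cen, ← nsmul_eq_mul, ← Finset.sum_const]
    refine Finset.sum_congr rfl (fun c hc => ?_)
    have hc' := (mem_cen c).1 hc
    rw [pm2cnt_zeta_cen S c, map_mul, map_sub, Complex.conj_natCast]
    have : (starRingEnd ℂ) (2 : ℂ) = 2 := Complex.conj_ofNat 2
    rw [this]
    have hu := pm2cnt_unit_sq (hnorm c hc')
    linear_combination ((p : ℂ) - 2) ^ 2 * hu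
  have h4 : ∑ u ∈ invol G, ∑ c ∈ cen G, ζ (u * c) * conj (ζ (u * c)) =
      (Nat.card (Subgroup.center G) : ℂ) * ((invol G).card : ℂ) := by
    have : ∀ u ∈ invol G, ∑ c ∈ cen G, ζ (u * c) * conj (ζ (u * c)) =
        (Nat.card (Subgroup.center G) : ℂ) := by
      intro u hu
      have hu' := (mem_invol u).1 hu
      rw [← pm2cnt_card_cen]
      have : ∀ c ∈ cen G, ζ (u * c) * conj (ζ (u * c)) = 1 := by
        intro c hc
        have hc' := (mem_cen c).1 hc
        rw [hinv u c hu' hc', map_neg]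
        have hu := pm2cnt_unit_sq (hnorm c hc')
        linear_combination hu
      rw [Finset.sum_congr rfl this]
      simp
    rw [Finset.sum_congr rfl this]
    simp [mul_comm]
  have h5 := pm2cnt_norm_sum S
  rw [pm2cnt_split p, h1', h2, h3, h4] at h5
  field_simp
  field_simp at h5
  linear_combination -h5

theorem pm2cnt2_core (S : Setting p ζ x ω)
    (hDEC5 : ∃ k : ℕ, Nat.Coprime k (Nat.card G) ∧ k ≡ 1 [MOD p] ∧
      k ≡ 2 [MOD Nat.card (Subgroup.center G)] ∧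
      ∑ g : G, ζ g ^ 2 * conj (ζ (g ^ k)) = (Nat.card G : ℂ))
    (hSI4 : ∀ k : ℕ, k ≡ 1 [MOD p] → k ≡ 2 [MOD Nat.card (Subgroup.center G)] →
      ∑ g ∈ sing p G, ζ g ^ 2 * conj (pw ζ k g) = 4 * (Nat.card G : ℂ) / (p : ℂ))
    (hREG : ∀ F : G → ℂ, (∀ g, ζ g = 0 → F g = 0) →
      ∑ g ∈ reg p G, F g = ∑ c ∈ cen G, F c + ∑ u ∈ invol G, ∑ c ∈ cen G, F (u * c))
    (hnupow : ∀ c : G, c ∈ Subgroup.center G → ∀ k : ℕ, nu ζ (c ^ k) = nu ζ c ^ k)
    (hnusum : ∀ k k' : ℕ, ∑ c ∈ cen G, nu ζ c ^ k * conj (nu ζ c ^ k') =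
      if k ≡ k' [MOD Nat.card (Subgroup.center G)] then (Nat.card (Subgroup.center G) : ℂ) else 0)
    (hinv : ∀ u c : G, orderOf u = 2 → c ∈ Subgroup.center G → ζ (u * c) = - nu ζ c) :
    (Nat.card G : ℂ) * ((p : ℂ) - 4) / (p : ℂ) =
      (Nat.card (Subgroup.center G) : ℂ) * (((p : ℂ) - 2) ^ 3 - ((invol G).card : ℂ)) := by
  classical
  have hp0 := pm2cnt_p_ne S
  obtain ⟨k, hkn, hk1, hk2, hsum⟩ := hDEC5
  have h1 := hSI4 k hk1 hk2
  have h1' : ∑ g ∈ sing p G, ζ g ^ 2 * conj (ζ (g ^ k)) = 4 * (Nat.card G : ℂ) / (p : ℂ) := by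
    rw [← h1]
    refine Finset.sum_congr rfl (fun g _ => ?_)
    rw [pw_apply]
  have h2 := hREG (fun g => ζ g ^ 2 * conj (ζ (g ^ k))) (fun g hg => by simp [hg])
  have hns := hnusum 2 k
  rw [if_pos hk2.symm] at hns
  have h3 : ∑ c ∈ cen G, ζ c ^ 2 * conj (ζ (c ^ k)) =
      (Nat.card (Subgroup.center G) : ℂ) * ((p : ℂ) - 2) ^ 3 := by
    rw [← hns, Finset.sum_mul]
    refine Finset.sum_congr rfl (fun c hc => ?_)
    have hc' := (mem_cen c).1 hc
    rw [pm2cnt_zeta_cen S c, pm2cnt_zeta_cen S (c ^ k), hnupow c hc' k, map_mul, map_sub,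
      Complex.conj_natCast]
    have : (starRingEnd ℂ) (2 : ℂ) = 2 := Complex.conj_ofNat 2
    rw [this]
    ring
  have h4 : ∑ u ∈ invol G, ∑ c ∈ cen G, ζ (u * c) ^ 2 * conj (ζ ((u * c) ^ k)) =
      - ((Nat.card (Subgroup.center G) : ℂ) * ((invol G).card : ℂ)) := by
    have : ∀ u ∈ invol G, ∑ c ∈ cen G, ζ (u * c) ^ 2 * conj (ζ ((u * c) ^ k)) =
        - (Nat.card (Subgroup.center G) : ℂ) := by
      intro u hu
      have hu' := (mem_invol u).1 hu
      have h2n : 2 ∣ Nat.card G := hu' ▸ orderOf_dvd_natCard u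
      have hkodd : k % 2 = 1 := by
        rcases Nat.mod_two_eq_zero_or_one k with h | h
        · exfalso
          have h2k : 2 ∣ k := Nat.dvd_of_mod_eq_zero h
          have := Nat.Coprime.eq_one_of_dvd (Nat.Coprime.coprime_dvd_left h2k hkn) h2n
          omega
        · exact h
      have huk : u ^ k = u := by
        have hu2 : u ^ 2 = 1 := by rw [← hu']; exact pow_orderOf_eq_one u
        conv_lhs => rw [← Nat.div_add_mod k 2, pow_add, pow_mul, hu2, one_pow, one_mul, hkodd, pow_one]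
      rw [← hns, ← Finset.sum_neg_distrib]
      refine Finset.sum_congr rfl (fun c hc => ?_)
      have hc' := (mem_cen c).1 hc
      have hcomm : Commute u c := (Subgroup.mem_center_iff.1 hc' u)
      rw [hcomm.mul_pow, huk, hinv u c hu' hc', hinv u (c ^ k) hu' (Subgroup.pow_mem _ hc' k),
        hnupow c hc' k, map_neg]
      ring
    rw [Finset.sum_congr rfl this]
    simp [mul_comm]
  rw [pm2cnt_split p, h1', h2, h3, h4] at hsum
  field_simp
  field_simp at hsum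
  linear_combination -hsum

theorem pm2cnt_core (S : Setting p ζ x ω)
    (h1 : 2 * (Nat.card G : ℂ) / (p : ℂ) =
      (Nat.card (Subgroup.center G) : ℂ) * (((p : ℂ) - 2) ^ 2 + ((invol G).card : ℂ)))
    (h2 : (Nat.card G : ℂ) * ((p : ℂ) - 4) / (p : ℂ) =
      (Nat.card (Subgroup.center G) : ℂ) * (((p : ℂ) - 2) ^ 3 - ((invol G).card : ℂ))) :
    Nat.card G = Nat.card (Subgroup.center G) * (p * (p - 1) * (p - 2)) := by
  have hp0 := pm2cnt_p_ne S
  have hp2 := pm2cnt_p2_ne S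
  have h5 := S.hp5
  have key : (Nat.card G : ℂ) * ((p : ℂ) - 2) =
      ((Nat.card (Subgroup.center G) : ℂ) * ((p : ℂ) * ((p : ℂ) - 1) * ((p : ℂ) - 2))) * ((p : ℂ) - 2) := by
    field_simp at h1 h2
    linear_combination h1 + h2
  have key2 := mul_right_cancel₀ hp2 key
  have : ((Nat.card G : ℕ) : ℂ) = ((Nat.card (Subgroup.center G) * (p * (p - 1) * (p - 2)) : ℕ) : ℂ) := by
    rw [key2]
    push_cast [Nat.cast_sub (by omega : 1 ≤ p), Nat.cast_sub (by omega : 2 ≤ p)]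
    ring
  exact_mod_cast this

end Cfsg.Agent.Lib.helper7.PM2
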