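import Mathlib
import Cfsg.Prelude.Def_Characters
import Cfsg.Agent.Lib.helper7.PM2.Defs
import Cfsg.Agent.Lib.Helper24.PM2CNTcore
import Cfsg.Agent.Lib.Helper9.PM2SI1
import Cfsg.Agent.Lib.Helper11.PM2SI34
import Cfsg.Agent.Lib.Helper29.PM2DEC5
import Cfsg.Agent.Lib.Helper19.PM2BAS
import Cfsg.Agent.Lib.Helper25.PM2NUSUM
import Cfsg.Agent.Lib.Helper1.PM2VT

set_option autoImplicit false
set_option linter.unusedVariables false
set_option linter.unusedSectionVars false

namespace Cfsg.Agent.Lib.helper7.PM2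

open scoped ComplexConjugate

universe u

section setting

variable {G : Type u} [Group G] [Fintype G] {p : ℕ} {ζ : G → ℂ} {x : G} {ω : ℂ}

theorem norm_count (S : Setting p ζ x ω) :
    2 * (Nat.card G : ℂ) / (p : ℂ) =
      (Nat.card (Subgroup.center G) : ℂ) * (((p : ℂ) - 2) ^ 2 + ((invol G).card : ℂ)) :=
  pm2cnt1_core S (sing_pw_pw S) (reg_sum S) (fun c hc => nu_norm S hc) (val_invol_mul S)

theorem cube_count (S : Setting p ζ x ω) :
    (Nat.card G : ℂ) * ((p : ℂ) - 4) / (p : ℂ) =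
      (Nat.card (Subgroup.center G) : ℂ) * (((p : ℂ) - 2) ^ 3 - ((invol G).card : ℂ)) :=
  pm2cnt2_core S (cube_inner S) (sing_cube S) (reg_sum S) (fun c hc k => nu_pow S hc k) (nu_sum S)
    (val_invol_mul S)

theorem card_eq (S : Setting p ζ x ω) :
    Nat.card G = Nat.card (Subgroup.center G) * (p * (p - 1) * (p - 2)) :=
  pm2cnt_core S (norm_count S) (cube_count S)

end setting

end Cfsg.Agent.Lib.helper7.PM2
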