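import Mathlib
import Cfsg.Agent.Lib.Helper25.BHBT3
import Cfsg.Agent.Lib.helper7.PM2.Defs
import Cfsg.Agent.Lib.helper7.PM2.FrontDefs

set_option autoImplicit false
set_option linter.unusedVariables false
set_option linter.unusedSectionVars false
set_option linter.style.haveILetI false
open scoped ComplexConjugate

namespace Cfsg.Agent.Lib.helper7.PM2

open Cfsg.Agent.Lib.helper7 Cfsg.Agent.Lib.helper7.BD Cfsg.Agent.Lib.helper2 Cfsg.Agent.Lib.Helper25
  Cfsg.Agent.Lib.Helper29 Cfsg.Agent.Lib.helper15.BH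

universe u

theorem pm2fr2_arith_pos (p d f k1 k2 q : ℤ) (hp : 5 < p) (hd : 1 ≤ d) (hf : 1 ≤ f)
    (hq : p - 1 = f * q) (hk1 : 0 ≤ k1) (hk2 : 0 ≤ k2)
    (h1 : (p - 2) - d * f = p * k1) (h2 : (p - 2) + d * (p - f) = p * k2) :
    f = 1 ∧ k2 = p - 2 := by
  have hdf : 1 ≤ d * f := by nlinarith
  have hk10 : k1 = 0 := by
    by_contra hc
    have h6 : 1 ≤ k1 := by omega
    have h7 : p ≤ p * k1 := by nlinarith
    linarith
  rw [hk10, mul_zero] at h1
  have h3 : f * (q - d) = 1 := by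
    have : f * (q - d) = f * q - d * f := by ring
    rw [this, ← hq]
    linarith
  have hf1 : f = 1 := Int.eq_one_of_mul_eq_one_right (by linarith) h3
  refine ⟨hf1, ?_⟩
  rw [hf1] at h1 h2
  have hd2 : d = p - 2 := by linarith
  rw [hd2] at h2
  have h8 : p * k2 = p * (p - 2) := by
    rw [← h2]
    ring
  exact mul_left_cancel₀ (by linarith : p ≠ 0) h8

theorem pm2fr2_arith_neg (p d f k1 k2 q : ℤ) (hp : 5 < p) (hd : 1 ≤ d) (hf : 1 ≤ f)
    (hq : p - 1 = f * q) (hk1 : 0 ≤ k1) (hk2 : 0 ≤ k2)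
    (h1 : (p - 2) + d * f = p * k1) (h2 : (p - 2) - d * (p - f) = p * k2) :
    (f = p - 1 ∧ k1 = p - 2) ∨ (d = 1 ∧ f = 2) := by
  have hq1 : 1 ≤ q := by
    by_contra hc
    have h0 : q ≤ 0 := by omega
    have : f * q ≤ 0 := by nlinarith
    linarith
  by_cases hq' : q = 1
  · left
    rw [hq', mul_one] at hq
    have hf' : f = p - 1 := hq.symm
    refine ⟨hf', ?_⟩
    rw [hf'] at h1 h2
    have h2' : (p - 2) - d = p * k2 := by
      have : d * (p - (p - 1)) = d := by ring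
      linarith
    have hk20 : k2 = 0 := by
      by_contra hc
      have h6 : 1 ≤ k2 := by omega
      have h7 : p ≤ p * k2 := by nlinarith
      linarith
    rw [hk20, mul_zero] at h2'
    have hd2 : d = p - 2 := by linarith
    rw [hd2] at h1
    have h8 : p * k1 = p * (p - 2) := by
      rw [← h1]
      ring
    exact mul_left_cancel₀ (by linarith : p ≠ 0) h8
  · right
    have hq2 : 2 ≤ q := by omega
    have h3 : 2 * f ≤ p - 1 := by
      rw [hq]
      nlinarith
    have h5 : 0 ≤ p * k2 := mul_nonneg (by linarith) hk2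
    have hd1 : d = 1 := by
      by_contra hc
      have hd2 : 2 ≤ d := by omega
      have h4 : 2 * (p - f) ≤ d * (p - f) := by nlinarith
      linarith
    refine ⟨hd1, ?_⟩
    rw [hd1, one_mul] at h1
    have hk11 : k1 = 1 := by
      have h6 : 1 ≤ k1 := by
        by_contra hc
        have h0 : k1 ≤ 0 := by omega
        have : p * k1 ≤ 0 := by nlinarith
        linarith
      have h7 : k1 < 2 := by
        by_contra hc
        have h0 : 2 ≤ k1 := by omega
        have : 2 * p ≤ p * k1 := by nlinarith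
        linarith
      omega
    rw [hk11, mul_one] at h1
    linarith

theorem pm2fr2_unit_norm {H : Type*} [Group H] [Finite H] (μ : H →* ℂˣ) (x : H) :
    ‖((μ x : ℂˣ) : ℂ)‖ = 1 := by
  have h1 : (μ x) ^ (Nat.card H) = 1 := by
    rw [← map_pow, pow_card_eq_one', map_one]
  have h2 : ((μ x : ℂˣ) : ℂ) ^ (Nat.card H) = 1 := by
    rw [← Units.val_pow_eq_pow_val, h1, Units.val_one]
  exact Complex.norm_eq_one_of_pow_eq_one h2 Nat.card_pos.ne'

section adapter

variable {G : Type u} [Group G] [Fintype G] {p : ℕ} [Fact p.Prime] {P : Sylow p G}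
  [Fintype ↥(Subgroup.centralizer ((P : Subgroup G) : Set G))]
  [Fintype ↥(Subgroup.normalizer ((P : Subgroup G) : Set G))]
  {ζ : G → ℂ} {ε : ℤ} {a : ℕ} {Λ : ↥(Subgroup.centralizer ((P : Subgroup G) : Set G)) →* ℂˣ}
  {θ ξ : Cfsg.IrrCharacter ↥(Subgroup.centralizer ((P : Subgroup G) : Set G))}

theorem pm2fr2_core (D : FrontData p P ζ ε a Λ θ ξ) (hP : Nat.card P = p) (hp5 : 5 < p)
    (hnn : ¬ (P : Subgroup G).Normal) (hζ : Cfsg.IsIrrCharacter G ζ)
    (hfaith : ∀ g : G, ζ g = ζ 1 → g = 1) (hdeg : ζ 1 = (p : ℂ) - 2)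
    (hcen : ∀ g : G, ‖ζ g‖ = ‖ζ 1‖ → g ∈ Subgroup.center G) :
    ε = -1 ∧ (θ : ↥(Subgroup.centralizer ((P : Subgroup G) : Set G)) → ℂ) 1 = 1 ∧
      (Subgroup.centralizer ((P : Subgroup G) : Set G)).relIndex
        (Subgroup.normalizer ((P : Subgroup G) : Set G)) = 2 := by
  classical
  have hp := (Fact.out : p.Prime)
  set χ : Cfsg.IrrCharacter G := ⟨ζ, hζ⟩ with hχdef
  have hχζ : ∀ g : G, (χ : G → ℂ) g = ζ g := fun g => rfl
  have hCN : Subgroup.centralizer ((P : Subgroup G) : Set G) ≤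
      Subgroup.normalizer ((P : Subgroup G) : Set G) := by
    intro c hc
    rw [Subgroup.mem_normalizer_iff]
    intro y
    have key : ∀ y : G, y ∈ (P : Subgroup G) → c * y * c⁻¹ = y := by
      intro y hy
      have h3 := (Subgroup.mem_centralizer_iff.mp hc) y hy
      rw [← h3]
      group
    constructor
    · intro hy
      rw [key y hy]
      exact hy
    · intro hy
      have h4 := key _ hy
      have h5 : c * y * c⁻¹ = y := by
        have : c * (c * y * c⁻¹) * c⁻¹ = c * y * c⁻¹ := h4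
        have h6 : c * y * c⁻¹ = c⁻¹ * (c * (c * y * c⁻¹) * c⁻¹) * c := by group
        rw [this] at h6
        have h7 : c⁻¹ * (c * y * c⁻¹) * c = y := by group
        rw [h7] at h6
        exact h6
      rw [← h5]
      exact hy
  have hPC : (P : Subgroup G) ≤ Subgroup.centralizer ((P : Subgroup G) : Set G) :=
    bdchars_le_centralizer (P : Subgroup G) hP
  have ha0' : 0 < a := D.ha0
  have hap := D.hap
  haveI : Fintype ↥(P : Subgroup G) := Fintype.ofFinite _
  have hcP : Nat.card ↥(P : Subgroup G) = p := hP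
  have hcardP : (Finset.univ : Finset ↥(P : Subgroup G)).card = p := by
    rw [Finset.card_univ, ← Nat.card_eq_fintype_card, hcP]
  set L : ↥(P : Subgroup G) →* ℂˣ :=
    (powMonoidHom a).comp (Λ.comp (Subgroup.inclusion hPC)) with hL
  have hLinj : ∀ x : ↥(P : Subgroup G), L x = 1 → x = 1 := by
    intro x hx
    have h1 := bd3facts_pow_ne_one Λ D.hΛ2 D.hΛ3 (Subgroup.inclusion hPC x) x.2 a ha0' hap hx
    apply Subtype.ext
    exact congrArg (fun c : ↥(Subgroup.centralizer ((P : Subgroup G) : Set G)) => (c : G)) h1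
  set Lc : ↥(Subgroup.normalizer ((P : Subgroup G) : Set G)) → (↥(P : Subgroup G) →* ℂˣ) :=
    fun n => L.comp ((P : Subgroup G).normalizerMonoidHom n).toMonoidHom with hLc
  have hLcapp : ∀ (n : ↥(Subgroup.normalizer ((P : Subgroup G) : Set G))) (x : ↥(P : Subgroup G)),
      Lc n x = L ((P : Subgroup G).normalizerMonoidHom n x) := fun n x => rfl
  have hPnt : ∃ x0 : ↥(P : Subgroup G), x0 ≠ 1 := by
    by_contra hc
    push Not at hc
    have h1 : Nat.card ↥(P : Subgroup G) = 1 := by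
      rw [Nat.card_eq_one_iff_unique]
      exact ⟨⟨fun a b => (hc a).trans (hc b).symm⟩, ⟨1⟩⟩
    rw [hcP] at h1
    omega
  obtain ⟨x0, hx01⟩ := hPnt
  have hLcne : ∀ n : ↥(Subgroup.normalizer ((P : Subgroup G) : Set G)), Lc n ≠ 1 := by
    intro n hn
    have h1 : Lc n x0 = 1 := by rw [hn]; rfl
    rw [hLcapp] at h1
    have h2 := hLinj _ h1
    exact hx01 ((MulEquiv.map_eq_one_iff _).mp h2)
  have hsumLc : ∀ n : ↥(Subgroup.normalizer ((P : Subgroup G) : Set G)),
      ∑ x : ↥(P : Subgroup G), ((Lc n x : ℂˣ) : ℂ) = 0 :=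
    fun n => Cfsg.Agent.Lib.Helper11.sum_linChar_eq_zero (Lc n) (hLcne n)
  have hvalY : ∀ x : ↥(P : Subgroup G), x ≠ 1 →
      (Nat.card (Subgroup.centralizer ((P : Subgroup G) : Set G)) : ℂ) * ζ (x : G) =
        ((ε : ℤ) : ℂ) * (θ : ↥(Subgroup.centralizer ((P : Subgroup G) : Set G)) → ℂ) 1 *
          ∑ n : ↥(Subgroup.normalizer ((P : Subgroup G) : Set G)), ((Lc n x : ℂˣ) : ℂ) := by
    intro x hx1
    have hxC : (x : G) ∈ Subgroup.centralizer ((P : Subgroup G) : Set G) := hPC x.2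
    have hxG1 : (x : G) ≠ 1 := fun h1 => hx1 (Subtype.ext h1)
    have hord : p ∣ orderOf (⟨(x : G), hxC⟩ :
        ↥(Subgroup.centralizer ((P : Subgroup G) : Set G))) := by
      rw [← Subgroup.orderOf_coe]
      show p ∣ orderOf (x : G)
      rw [h2_orderOf_of_card_prime p (P : Subgroup G) hP (x : G) x.2 hxG1]
    have hY := D.hval ⟨(x : G), hxC⟩ hord
    have hterm : ∀ n : ↥(Subgroup.normalizer ((P : Subgroup G) : Set G)),
        (cjIrr (Subgroup.centralizer ((P : Subgroup G) : Set G)) (n : G) ξ :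
          ↥(Subgroup.centralizer ((P : Subgroup G) : Set G)) → ℂ) ⟨(x : G), hxC⟩ =
        (θ : ↥(Subgroup.centralizer ((P : Subgroup G) : Set G)) → ℂ) 1 *
          ((Lc n⁻¹ x : ℂˣ) : ℂ) := by
      intro n
      have hnC : (n : G) ∈ Subgroup.normalizer
          ((Subgroup.centralizer ((P : Subgroup G) : Set G) : Subgroup G) : Set G) :=
        Cfsg.Agent.Lib.Helper24.ci_normalizer_le (P : Subgroup G) n.2
      rw [cjIrr_conj _ hnC ξ
        (Subgroup.inclusion hPC ((P : Subgroup G).normalizerMonoidHom n⁻¹ x)) ⟨(x : G), hxC⟩ (by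
          show (x : G) = (n : G) * ((n : G)⁻¹ * (x : G) * ((n : G)⁻¹)⁻¹) * (n : G)⁻¹
          group)]
      rw [D.hξ, D.hθP _ ((P : Subgroup G).normalizerMonoidHom n⁻¹ x).2, hLcapp, mul_comm]
      congr 1
    have hsumeq : ∑ n : ↥(Subgroup.normalizer ((P : Subgroup G) : Set G)),
        ((Lc n⁻¹ x : ℂˣ) : ℂ) =
        ∑ n : ↥(Subgroup.normalizer ((P : Subgroup G) : Set G)), ((Lc n x : ℂˣ) : ℂ) :=
      Equiv.sum_comp (Equiv.inv ↥(Subgroup.normalizer ((P : Subgroup G) : Set G)))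
        (fun n => ((Lc n x : ℂˣ) : ℂ))
    have hY' : (Nat.card (Subgroup.centralizer ((P : Subgroup G) : Set G)) : ℂ) * ζ (x : G) =
        ((ε : ℤ) : ℂ) * ∑ n : ↥(Subgroup.normalizer ((P : Subgroup G) : Set G)),
          (cjIrr (Subgroup.centralizer ((P : Subgroup G) : Set G)) (n : G) ξ :
            ↥(Subgroup.centralizer ((P : Subgroup G) : Set G)) → ℂ) ⟨(x : G), hxC⟩ := hY
    rw [hY', Finset.sum_congr rfl (fun n _ => hterm n), ← Finset.mul_sum, hsumeq]
    ring
  have hφsum : ∀ n : ↥(Subgroup.normalizer ((P : Subgroup G) : Set G)),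
      ∑ x : ↥(P : Subgroup G), (((L⁻¹ * Lc n) x : ℂˣ) : ℂ) =
        if (n : G) ∈ Subgroup.centralizer ((P : Subgroup G) : Set G) then (p : ℂ) else 0 := by
    intro n
    by_cases hnC : (n : G) ∈ Subgroup.centralizer ((P : Subgroup G) : Set G)
    · rw [if_pos hnC]
      have h1 : L⁻¹ * Lc n = 1 := by
        ext x
        have h2 : (P : Subgroup G).normalizerMonoidHom n x = x := by
          apply Subtype.ext
          show (n : G) * (x : G) * (n : G)⁻¹ = (x : G)
          have h3 := (Subgroup.mem_centralizer_iff.mp hnC) (x : G) x.2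
          rw [← h3]
          group
        rw [MonoidHom.mul_apply, MonoidHom.inv_apply, hLcapp, h2, inv_mul_cancel]
        rfl
      rw [h1]
      simp only [MonoidHom.one_apply, Units.val_one, Finset.sum_const, nsmul_eq_mul, mul_one]
      rw [hcardP]
    · rw [if_neg hnC]
      apply Cfsg.Agent.Lib.Helper11.sum_linChar_eq_zero
      intro h1
      apply hnC
      rw [Subgroup.mem_centralizer_iff]
      intro y hy
      have h2 : (L⁻¹ * Lc n) ⟨y, hy⟩ = 1 := by rw [h1]; rfl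
      rw [MonoidHom.mul_apply, MonoidHom.inv_apply, hLcapp, inv_mul_eq_one] at h2
      have h3 : L (((P : Subgroup G).normalizerMonoidHom n ⟨y, hy⟩) * (⟨y, hy⟩ : ↥(P : Subgroup G))⁻¹) = 1 := by
        rw [map_mul, map_inv, ← h2, mul_inv_cancel]
      have h4 := hLinj _ h3
      have h5 : (P : Subgroup G).normalizerMonoidHom n ⟨y, hy⟩ = ⟨y, hy⟩ := by
        rw [mul_inv_eq_one] at h4
        exact h4
      have h6 : (n : G) * y * (n : G)⁻¹ = y := congrArg Subtype.val h5
      calc y * (n : G) = ((n : G) * y * (n : G)⁻¹) * (n : G) := by rw [h6]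
        _ = (n : G) * y := by group
  obtain ⟨k1, hk1⟩ := Cfsg.Agent.Lib.Helper25.sum_subgroup_irr (P : Subgroup G) χ
  obtain ⟨k2, hk2⟩ := bhbt3_twisted_sum (P : Subgroup G) χ L⁻¹
  rw [hcP] at hk1 hk2
  simp only [hχζ] at hk1 hk2
  have h1P : (1 : ↥(P : Subgroup G)) ∈ (Finset.univ : Finset ↥(P : Subgroup G)) := Finset.mem_univ _
  have hYsum : (Nat.card (Subgroup.centralizer ((P : Subgroup G) : Set G)) : ℂ) *
      ∑ x : ↥(P : Subgroup G), ζ (x : G) =
      (Nat.card (Subgroup.centralizer ((P : Subgroup G) : Set G)) : ℂ) * ζ 1 -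
        ((ε : ℤ) : ℂ) * (θ : ↥(Subgroup.centralizer ((P : Subgroup G) : Set G)) → ℂ) 1 *
          (Nat.card (Subgroup.normalizer ((P : Subgroup G) : Set G)) : ℂ) := by
    rw [← Finset.add_sum_erase Finset.univ _ h1P, mul_add, Finset.mul_sum]
    have h2 : ∀ x ∈ (Finset.univ : Finset ↥(P : Subgroup G)).erase 1,
        (Nat.card (Subgroup.centralizer ((P : Subgroup G) : Set G)) : ℂ) * ζ (x : G) =
        ((ε : ℤ) : ℂ) * (θ : ↥(Subgroup.centralizer ((P : Subgroup G) : Set G)) → ℂ) 1 *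
          ∑ n : ↥(Subgroup.normalizer ((P : Subgroup G) : Set G)), ((Lc n x : ℂˣ) : ℂ) :=
      fun x hx => hvalY x (Finset.ne_of_mem_erase hx)
    rw [Finset.sum_congr rfl h2, ← Finset.mul_sum, Finset.sum_comm]
    have h3 : ∀ n : ↥(Subgroup.normalizer ((P : Subgroup G) : Set G)),
        ∑ x ∈ (Finset.univ : Finset ↥(P : Subgroup G)).erase 1, ((Lc n x : ℂˣ) : ℂ) = -1 := by
      intro n
      rw [Finset.sum_erase_eq_sub h1P, hsumLc n, map_one, Units.val_one]
      ring
    rw [Finset.sum_congr rfl (fun n _ => h3 n), Finset.sum_const, Finset.card_univ,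
      ← Nat.card_eq_fintype_card, nsmul_eq_mul]
    have : ((1 : ↥(P : Subgroup G)) : G) = 1 := rfl
    rw [this]
    ring
  have hXsum : (Nat.card (Subgroup.centralizer ((P : Subgroup G) : Set G)) : ℂ) *
      ∑ x : ↥(P : Subgroup G), (((L⁻¹) x : ℂˣ) : ℂ) * ζ (x : G) =
      (Nat.card (Subgroup.centralizer ((P : Subgroup G) : Set G)) : ℂ) * ζ 1 +
        ((ε : ℤ) : ℂ) * (θ : ↥(Subgroup.centralizer ((P : Subgroup G) : Set G)) → ℂ) 1 *
          ((p : ℂ) * (Nat.card (Subgroup.centralizer ((P : Subgroup G) : Set G)) : ℂ) -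
            (Nat.card (Subgroup.normalizer ((P : Subgroup G) : Set G)) : ℂ)) := by
    rw [← Finset.add_sum_erase Finset.univ _ h1P, mul_add, Finset.mul_sum]
    have h2 : ∀ x ∈ (Finset.univ : Finset ↥(P : Subgroup G)).erase 1,
        (Nat.card (Subgroup.centralizer ((P : Subgroup G) : Set G)) : ℂ) *
          ((((L⁻¹) x : ℂˣ) : ℂ) * ζ (x : G)) =
        ((ε : ℤ) : ℂ) * (θ : ↥(Subgroup.centralizer ((P : Subgroup G) : Set G)) → ℂ) 1 *
          ∑ n : ↥(Subgroup.normalizer ((P : Subgroup G) : Set G)),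
            (((L⁻¹ * Lc n) x : ℂˣ) : ℂ) := by
      intro x hx
      have h3 := hvalY x (Finset.ne_of_mem_erase hx)
      have h4 : (Nat.card (Subgroup.centralizer ((P : Subgroup G) : Set G)) : ℂ) *
          ((((L⁻¹) x : ℂˣ) : ℂ) * ζ (x : G)) =
          (((L⁻¹) x : ℂˣ) : ℂ) *
            ((Nat.card (Subgroup.centralizer ((P : Subgroup G) : Set G)) : ℂ) *
              ζ (x : G)) := by ring
      rw [h4, h3, Finset.mul_sum, Finset.mul_sum, Finset.mul_sum]
      refine Finset.sum_congr rfl fun n _ => ?_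
      rw [MonoidHom.mul_apply, Units.val_mul]
      ring
    rw [Finset.sum_congr rfl h2, ← Finset.mul_sum, Finset.sum_comm]
    have h3 : ∀ n : ↥(Subgroup.normalizer ((P : Subgroup G) : Set G)),
        ∑ x ∈ (Finset.univ : Finset ↥(P : Subgroup G)).erase 1, (((L⁻¹ * Lc n) x : ℂˣ) : ℂ) =
        (if (n : G) ∈ Subgroup.centralizer ((P : Subgroup G) : Set G) then (p : ℂ) else 0) - 1 := by
      intro n
      rw [Finset.sum_erase_eq_sub h1P, hφsum n, map_one, Units.val_one]
    rw [Finset.sum_congr rfl (fun n _ => h3 n), Finset.sum_sub_distrib, Finset.sum_const,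
      Finset.card_univ, ← Nat.card_eq_fintype_card, nsmul_eq_mul]
    have h5 : ∑ n : ↥(Subgroup.normalizer ((P : Subgroup G) : Set G)),
        (if (n : G) ∈ Subgroup.centralizer ((P : Subgroup G) : Set G) then (p : ℂ) else 0) =
        (p : ℂ) * (Nat.card (Subgroup.centralizer ((P : Subgroup G) : Set G)) : ℂ) := by
      rw [← bd3gram_count (Subgroup.centralizer ((P : Subgroup G) : Set G))
        (Subgroup.normalizer ((P : Subgroup G) : Set G)) hCN, Finset.mul_sum]
      refine Finset.sum_congr rfl fun n _ => ?_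
      split_ifs <;> simp
    rw [h5, map_one, Units.val_one]
    have : ((1 : ↥(P : Subgroup G)) : G) = 1 := rfl
    rw [this]
    ring
  have hcN : (Nat.card (Subgroup.centralizer ((P : Subgroup G) : Set G)) : ℂ) *
      (((Subgroup.centralizer ((P : Subgroup G) : Set G)).relIndex
        (Subgroup.normalizer ((P : Subgroup G) : Set G)) : ℕ) : ℂ) =
      (Nat.card (Subgroup.normalizer ((P : Subgroup G) : Set G)) : ℂ) := by
    have h1 := Subgroup.relIndex_mul_relIndex ⊥
      (Subgroup.centralizer ((P : Subgroup G) : Set G))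
      (Subgroup.normalizer ((P : Subgroup G) : Set G)) bot_le hCN
    rw [Subgroup.relIndex_bot_left, Subgroup.relIndex_bot_left] at h1
    exact_mod_cast h1
  have hC0 : (Nat.card (Subgroup.centralizer ((P : Subgroup G) : Set G)) : ℂ) ≠ 0 := by
    exact_mod_cast Nat.card_pos.ne'
  set f : ℕ := (Subgroup.centralizer ((P : Subgroup G) : Set G)).relIndex
    (Subgroup.normalizer ((P : Subgroup G) : Set G)) with hf
  have hfdvd : f ∣ p - 1 :=
    Cfsg.Agent.Lib.helper8.h8_relIndex_centralizer_normalizer_dvd_prime p hp (P : Subgroup G) hP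
  obtain ⟨q, hq⟩ := hfdvd
  have hf1 : 1 ≤ f := by
    rcases Nat.eq_zero_or_pos f with h0 | h0
    · rw [h0, zero_mul] at hq
      have := hp.two_le
      omega
    · exact h0
  rw [hk1, ← hcN, leoDeg_spec θ, hdeg] at hYsum
  rw [hk2, ← hcN, leoDeg_spec θ, hdeg] at hXsum
  have hY' : ((p : ℂ) - 2) - ((ε : ℤ) : ℂ) * ((leoDeg θ : ℕ) : ℂ) * (f : ℂ) = (p : ℂ) * (k1 : ℂ) := by
    apply mul_left_cancel₀ hC0
    rw [hYsum]
    ring
  have hX' : ((p : ℂ) - 2) + ((ε : ℤ) : ℂ) * ((leoDeg θ : ℕ) : ℂ) * ((p : ℂ) - (f : ℂ)) =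
      (p : ℂ) * (k2 : ℂ) := by
    apply mul_left_cancel₀ hC0
    rw [hXsum]
    ring
  have hYZ : ((p : ℤ) - 2) - ε * ((leoDeg θ : ℕ) : ℤ) * (f : ℤ) = (p : ℤ) * (k1 : ℤ) := by
    exact_mod_cast hY'
  have hXZ : ((p : ℤ) - 2) + ε * ((leoDeg θ : ℕ) : ℤ) * ((p : ℤ) - (f : ℤ)) =
      (p : ℤ) * (k2 : ℤ) := by
    exact_mod_cast hX'
  have hqZ : (p : ℤ) - 1 = (f : ℤ) * (q : ℤ) := by
    have h1 : ((p - 1 : ℕ) : ℤ) = (p : ℤ) - 1 := by
      rw [Nat.cast_sub hp.one_le]
      simp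
    rw [← h1, hq]
    push_cast
    ring
  have hd1 : (1 : ℤ) ≤ ((leoDeg θ : ℕ) : ℤ) := by exact_mod_cast leoDeg_pos θ
  have hp5Z : (5 : ℤ) < (p : ℤ) := by exact_mod_cast hp5
  have hf1Z : (1 : ℤ) ≤ (f : ℤ) := by exact_mod_cast hf1
  have hnormle : ∀ x : ↥(P : Subgroup G), ‖ζ (x : G)‖ ≤ (p : ℝ) - 2 := by
    intro x
    have h1 := Cfsg.Agent.Lib.Helper25.irr_norm_le χ (x : G)
    rw [hχζ, hχζ, hdeg] at h1
    have h2 : ((p : ℂ) - 2) = (((p : ℝ) - 2 : ℝ) : ℂ) := by push_cast; ring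
    rw [h2, Complex.norm_real, Real.norm_of_nonneg] at h1
    · exact h1
    · have : (5 : ℝ) < (p : ℝ) := by exact_mod_cast hp5
      linarith
  have hpos2 : (0 : ℝ) ≤ (p : ℝ) - 2 := by
    have : (5 : ℝ) < (p : ℝ) := by exact_mod_cast hp5
    linarith
  rcases D.hε with hpos | hneg
  · exfalso
    rw [hpos] at hYZ hXZ
    obtain ⟨hf1', hk2'⟩ := pm2fr2_arith_pos (p : ℤ) (leoDeg θ : ℤ) (f : ℤ) (k1 : ℤ) (k2 : ℤ) (q : ℤ)
      hp5Z hd1 hf1Z hqZ (Int.natCast_nonneg _) (Int.natCast_nonneg _)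
      (by linarith) (by linarith)
    have hk2'' : (k2 : ℂ) = (p : ℂ) - 2 := by
      have : ((k2 : ℤ) : ℂ) = (((p : ℤ) - 2 : ℤ) : ℂ) := by rw [hk2']
      push_cast at this
      exact this
    have hall := bhbt3_all_eq (Finset.univ : Finset ↥(P : Subgroup G))
      (fun x => (((L⁻¹) x : ℂˣ) : ℂ) * ζ (x : G)) ((p : ℝ) - 2)
      (fun x _ => by
        rw [norm_mul, pm2fr2_unit_norm, one_mul]
        exact hnormle x)
      (by
        rw [hk2, hcardP, hk2'']
        push_cast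
        rfl)
    apply hnn
    have hPZ : (P : Subgroup G) ≤ Subgroup.center G := by
      intro y hy
      apply hcen
      have h9 := hall ⟨y, hy⟩ (Finset.mem_univ _)
      have h10 : ‖(((L⁻¹) (⟨y, hy⟩ : ↥(P : Subgroup G)) : ℂˣ) : ℂ) * ζ y‖ = (p : ℝ) - 2 := by
        rw [h9, Complex.norm_real, Real.norm_of_nonneg hpos2]
      rw [norm_mul, pm2fr2_unit_norm, one_mul] at h10
      rw [h10, hdeg]
      have h2 : ((p : ℂ) - 2) = (((p : ℝ) - 2 : ℝ) : ℂ) := by push_cast; ring
      rw [h2, Complex.norm_real, Real.norm_of_nonneg hpos2]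
    constructor
    intro y hy n
    have hyc := hPZ hy
    have : n * y * n⁻¹ = y := by
      have h3 := (Subgroup.mem_center_iff.mp hyc) n
      rw [h3]
      group
    rw [this]
    exact hy
  · rw [hneg] at hYZ hXZ
    rcases pm2fr2_arith_neg (p : ℤ) (leoDeg θ : ℤ) (f : ℤ) (k1 : ℤ) (k2 : ℤ) (q : ℤ)
      hp5Z hd1 hf1Z hqZ (Int.natCast_nonneg _) (Int.natCast_nonneg _)
      (by linarith) (by linarith) with ⟨_, hk1'⟩ | ⟨hd, hf2⟩
    · exfalso
      have hk1'' : (k1 : ℂ) = (p : ℂ) - 2 := by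
        have : ((k1 : ℤ) : ℂ) = (((p : ℤ) - 2 : ℤ) : ℂ) := by rw [hk1']
        push_cast at this
        exact this
      have hall := bhbt3_all_eq (Finset.univ : Finset ↥(P : Subgroup G))
        (fun x => ζ (x : G)) ((p : ℝ) - 2)
        (fun x _ => hnormle x)
        (by
          rw [hk1, hcardP, hk1'']
          push_cast
          rfl)
      apply hx01
      have h9 := hall x0 (Finset.mem_univ _)
      have h10 : ζ (x0 : G) = ζ 1 := by
        rw [hdeg]
        simpa using h9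
      apply Subtype.ext
      exact hfaith _ h10
    · refine ⟨hneg, ?_, ?_⟩
      · rw [leoDeg_spec θ]
        have : (leoDeg θ : ℕ) = 1 := by exact_mod_cast hd
        rw [this]
        simp
      · exact_mod_cast hf2

end adapter

end Cfsg.Agent.Lib.helper7.PM2
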