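import Mathlib
import Cfsg.Prelude.Def_Characters
import Cfsg.Agent.Lib.helper7.BD.D1Defs
import Cfsg.Agent.Lib.helper7.PM2.Defs
import Cfsg.Agent.Lib.helper7.PM2.FrontDefs
import Cfsg.Agent.Lib.helper17.PM2BAS2G
import Cfsg.Agent.Lib.Helper24.PM2FR2core

set_option autoImplicit false
set_option linter.unusedVariables false
set_option linter.unusedSectionVars false

namespace Cfsg.Agent.Lib.helper7.PM2

open Cfsg.Agent.Lib.helper7.BD
open scoped ComplexConjugate

universe u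

section front

variable {G : Type u} [Group G] [Fintype G] {p : ℕ} [Fact p.Prime] {P : Sylow p G}
  [Fintype ↥(Subgroup.centralizer ((P : Subgroup G) : Set G))]
  [Fintype ↥(Subgroup.normalizer ((P : Subgroup G) : Set G))]
  {ζ : G → ℂ} {ε : ℤ} {a : ℕ} {Λ : ↥(Subgroup.centralizer ((P : Subgroup G) : Set G)) →* ℂˣ}
  {θ ξ : Cfsg.IrrCharacter ↥(Subgroup.centralizer ((P : Subgroup G) : Set G))}

theorem front_arith (D : FrontData p P ζ ε a Λ θ ξ) (hP : Nat.card P = p) (hp : 5 < p)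
    (hnn : ¬ (P : Subgroup G).Normal) (hζ : Cfsg.IsIrrCharacter G ζ)
    (hfaith : ∀ g : G, ζ g = ζ 1 → g = 1) (hdeg : ζ 1 = (p : ℂ) - 2) :
    ε = -1 ∧ (θ : ↥(Subgroup.centralizer ((P : Subgroup G) : Set G)) → ℂ) 1 = 1 ∧
      (Subgroup.centralizer ((P : Subgroup G) : Set G)).relIndex
        (Subgroup.normalizer ((P : Subgroup G) : Set G)) = 2 :=
  pm2fr2_core D hP hp hnn hζ hfaith hdeg (fun g h => central_of_norm_eq hζ hfaith g h)

end front

end Cfsg.Agent.Lib.helper7.PM2
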