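import Mathlib
import Cfsg.Prelude.Def_Characters
import Cfsg.Prelude.Def_Blocks
import Cfsg.Agent.Lib.Helper25.CharLinear
import Cfsg.Agent.Lib.Helper29.LeoOrbit
import Cfsg.Agent.Lib.helper7.BR.Defs

set_option autoImplicit false
set_option linter.unusedVariables false
set_option linter.unusedSectionVars false

namespace Cfsg.Agent.Lib.Helper13.BT3

open Classical
open scoped ComplexConjugate
open Cfsg.Agent.Lib.Helper25 Cfsg.Agent.Lib.Helper29
open Cfsg.Agent.Lib.helper7.BR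

universe u

theorem bt3pow_sq_minus (R i : ℕ) (hR : 5 ≤ R) (hodd : Odd R) (h : R * R = 2 ^ i + 1) : False := by
  obtain ⟨t, rfl⟩ := hodd
  have ht : 2 ≤ t := by omega
  have h1 : 4 * (t * (t + 1)) = 2 ^ i := by
    have : (2 * t + 1) * (2 * t + 1) = 4 * (t * (t + 1)) + 1 := by ring
    omega
  have hi : 2 ≤ i := by
    by_contra hcon
    have : i = 0 ∨ i = 1 := by omega
    rcases this with rfl | rfl
    · rw [pow_zero] at h1
      omega
    · rw [pow_one] at h1
      omega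
  have h2 : t * (t + 1) = 2 ^ (i - 2) := by
    have : 2 ^ i = 4 * 2 ^ (i - 2) := by
      rw [show (4 : ℕ) = 2 ^ 2 by norm_num, ← pow_add]
      congr 1
      omega
    rw [this] at h1
    omega
  have hta : t ∣ 2 ^ (i - 2) := ⟨t + 1, h2.symm⟩
  have htb : t + 1 ∣ 2 ^ (i - 2) := ⟨t, by rw [mul_comm]; exact h2.symm⟩
  obtain ⟨a, -, ha⟩ := (Nat.dvd_prime_pow Nat.prime_two).mp hta
  obtain ⟨b, -, hb⟩ := (Nat.dvd_prime_pow Nat.prime_two).mp htb
  rcases Nat.eq_zero_or_pos a with rfl | ha0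
  · rw [pow_zero] at ha
    omega
  rcases Nat.eq_zero_or_pos b with rfl | hb0
  · rw [pow_zero] at hb
    omega
  have e1 : 2 ^ a = 2 * 2 ^ (a - 1) := by
    rw [← pow_succ']
    congr 1
    omega
  have e2 : 2 ^ b = 2 * 2 ^ (b - 1) := by
    rw [← pow_succ']
    congr 1
    omega
  omega

theorem bt3pow_sq_plus (R i : ℕ) (hR : 5 ≤ R) (hodd : Odd R) (h : R * R + 1 = 2 ^ i) : False := by
  obtain ⟨t, rfl⟩ := hodd
  have h1 : 4 * (t * (t + 1)) + 2 = 2 ^ i := by
    have : (2 * t + 1) * (2 * t + 1) = 4 * (t * (t + 1)) + 1 := by ring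
    omega
  have hi : i = 0 ∨ i = 1 ∨ 2 ≤ i := by omega
  rcases hi with rfl | rfl | hi
  · rw [pow_zero] at h1
    omega
  · rw [pow_one] at h1
    have : t = 0 := by
      rcases Nat.eq_zero_or_pos t with h0 | h0
      · exact h0
      · have : 0 < t * (t + 1) := Nat.mul_pos h0 (by omega)
        omega
    omega
  · have : 2 ^ i = 4 * 2 ^ (i - 2) := by
      rw [show (4 : ℕ) = 2 ^ 2 by norm_num, ← pow_add]
      congr 1
      omega
    omega

theorem pow_two_pm (r i j : ℕ) (hr : r.Prime) (hr5 : 5 ≤ r) (hj : 1 ≤ j)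
    (h : r ^ j = 2 ^ i + 1 ∨ r ^ j + 1 = 2 ^ i) : Odd j := by
  by_contra hodd
  rw [Nat.not_odd_iff_even] at hodd
  obtain ⟨k, rfl⟩ := hodd
  have hk : 1 ≤ k := by omega
  have hrodd : Odd r := hr.odd_of_ne_two (by omega)
  have hRodd : Odd (r ^ k) := hrodd.pow
  have hR5 : 5 ≤ r ^ k := by
    calc 5 ≤ r := hr5
      _ = r ^ 1 := (pow_one r).symm
      _ ≤ r ^ k := Nat.pow_le_pow_right (by omega) hk
  have hsq : r ^ (k + k) = r ^ k * r ^ k := pow_add r k k
  rw [hsq] at h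
  rcases h with h | h
  · exact bt3pow_sq_minus _ i hR5 hRodd h
  · exact bt3pow_sq_plus _ i hR5 hRodd h

end Cfsg.Agent.Lib.Helper13.BT3
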