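import Mathlib
import Cfsg.Prelude.Def_Characters
import Cfsg.Prelude.Def_Blocks
import Cfsg.Agent.Lib.Helper25.CharLinear
import Cfsg.Agent.Lib.Helper29.LeoOrbit
import Cfsg.Agent.Lib.helper7.BR.Defs
import Cfsg.Agent.Lib.helper8.SimpleEmbed
import Cfsg.Agent.Lib.helper2.Burnside2

set_option autoImplicit false
set_option linter.unusedVariables false
set_option linter.unusedSectionVars false

namespace Cfsg.Agent.Lib.Helper13.BT3

open Classical
open scoped ComplexConjugate
open Cfsg.Agent.Lib.Helper25 Cfsg.Agent.Lib.Helper29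
open Cfsg.Agent.Lib.helper7.BR

universe u

theorem bt3idx3_two_three (m : ℕ) (hm : m ∣ 12) : ∃ a b : ℕ, m = 2 ^ a * 3 ^ b := by
  have hle : m ≤ 12 := Nat.le_of_dvd (by norm_num) hm
  interval_cases m
  · simp at hm
  · exact ⟨0, 0, by norm_num⟩
  · exact ⟨1, 0, by norm_num⟩
  · exact ⟨0, 1, by norm_num⟩
  · exact ⟨2, 0, by norm_num⟩
  · norm_num at hm
  · exact ⟨1, 1, by norm_num⟩
  · norm_num at hm
  · norm_num at hm
  · norm_num at hm
  · norm_num at hm
  · norm_num at hm
  · exact ⟨2, 1, by norm_num⟩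

variable {G : Type u} [Group G] [Fintype G]

theorem no_small_index [IsSimpleGroup G] (hnc : ¬ ∀ x y : G, x * y = y * x) (H : Subgroup G)
    (hH : H ≠ ⊤) : 5 ≤ H.index := by
  by_contra hlt
  push Not at hlt
  have hG : ¬ IsMulCommutative G := fun h => hnc (fun x y => h.is_comm.comm x y)
  have h1 := Cfsg.Agent.Lib.helper8.h8_simple_two_mul_card_dvd_factorial hG H hH
  have h2 : (H.index).factorial ∣ Nat.factorial 4 := Nat.factorial_dvd_factorial (by omega)
  have h3 : 2 * Nat.card G ∣ 2 * 12 := h1.trans h2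
  have h4 : Nat.card G ∣ 12 := Nat.dvd_of_mul_dvd_mul_left (by norm_num) h3
  obtain ⟨a, b, hab⟩ := bt3idx3_two_three _ h4
  have hsolv : Group.IsSolvable G :=
    Cfsg.Agent.Lib.helper2.burnside_pq 2 3 a b Nat.prime_two Nat.prime_three hab
  exact hnc (IsSimpleGroup.comm_iff_isSolvable.mpr hsolv)

end Cfsg.Agent.Lib.Helper13.BT3
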