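import Mathlib
import Cfsg.Prelude.Def_Characters
import Cfsg.Prelude.Def_Blocks
import Cfsg.Prelude.Def_Local
import Cfsg.Agent.Lib.Helper25.CharLinear
import Cfsg.Agent.Lib.Helper24.KleinOrder1
import Cfsg.Agent.Lib.helper17.PM2PROJP
import Cfsg.Agent.Lib.Helper21.BTFAITH
import Cfsg.Agent.Lib.helper7.BlockDefect2

set_option autoImplicit false
set_option linter.unusedVariables false
set_option linter.unusedSectionVars false
set_option linter.style.haveILetI false

namespace Cfsg.Agent.Lib.Helper13.BT3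

open Classical
open scoped ComplexConjugate
open Cfsg.Agent.Lib.Helper25 Cfsg.Agent.Lib.Helper24

universe u

theorem bt3p1core_real_root (z : ℂ) (hz : z.im = 0) (m : ℕ) (hm : Odd m) (h : z ^ m = 1) : z = 1 := by
  have hz' : z = ((z.re : ℝ) : ℂ) := by
    apply Complex.ext
    · simp
    · simp [hz]
  rw [hz'] at h ⊢
  have h1 : (z.re : ℝ) ^ m = 1 := by exact_mod_cast h
  have h2 : z.re = 1 := by
    exact (hm.strictMono_pow (R := ℝ)).injective (by rw [h1, one_pow])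
  rw [h2]
  simp

theorem bt3p1core_linear {K : Type u} [Group K] (φ : K → ℂ) (hφ : Cfsg.IsCharacter K φ) (h1 : φ 1 = 1)
    (g h : K) : φ (g * h) = φ g * φ h := by
  obtain ⟨n, σ, rfl⟩ := hφ
  have hn : n = 1 := by
    have := Representation.char_one σ
    rw [h1] at this
    have h2 : Module.finrank ℂ (Fin n → ℂ) = 1 := by exact_mod_cast this.symm
    simpa using h2
  subst hn
  have hirr : σ.IsIrreducible := isIrreducible_of_finrank_eq_one σ (by simp)
  let χ : Cfsg.IrrCharacter K := ⟨σ.character, 1, σ, hirr, rfl⟩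
  exact irr_linear_mul χ h1 g h

variable {G : Type u} [Group G] [Fintype G]

theorem p1_core [IsSimpleGroup G] (hnc : ¬ ∀ x y : G, x * y = y * x) {J : G} {P O : Subgroup G}
    (h : KFData J P O) (ζ : Cfsg.IrrCharacter G) (hdeg : Cfsg.charDegree (ζ : G → ℂ) = 3)
    (hreal : ∀ g : G, ((ζ : G → ℂ) g).im = 0) (hJ : (ζ : G → ℂ) J = -1)
    (hO : ∀ ρ ∈ O, (ζ : G → ℂ) (J * ρ) = (ζ : G → ℂ) J) : ∀ ρ ∈ O, ρ = 1 := by
  intro ρ hρ
  have hζ1 : (ζ : G → ℂ) 1 = 3 := by
    obtain ⟨-, -, hd1⟩ := Cfsg.Agent.Lib.helper7.h7_charDegree_props ζ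
    rw [← hd1, hdeg]
    norm_num
  set C : Subgroup G := Subgroup.centralizer ({J} : Set G) with hC
  have hmemC : ∀ c : G, c ∈ C ↔ c * J = J * c := by
    intro c
    rw [hC, Subgroup.mem_centralizer_singleton_iff]
  have hJC : J ∈ C := (hmemC J).mpr rfl
  have hρC : ρ ∈ C := (hmemC ρ).mpr (h.hOC ρ hρ)
  let y : C := ⟨J, hJC⟩
  have hy : y ∈ Subgroup.center C := by
    rw [Subgroup.mem_center_iff]
    intro c
    apply Subtype.ext
    exact (hmemC c.1).mp c.2
  have hy2 : y ^ 2 = 1 := by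
    apply Subtype.ext
    change J ^ 2 = 1
    rw [← h.hJ, pow_orderOf_eq_one]
  have hχ : Cfsg.IsCharacter C (fun c : C => (ζ : G → ℂ) c) :=
    Cfsg.Agent.Lib.helper2.isCharacter_restrict (Cfsg.Agent.Lib.helper2.isCharacter_of_irr ζ) C
  have hφ := Cfsg.Agent.Lib.helper7.PM2.proj_central_pow hχ y hy 2 (by norm_num) hy2 1 (one_pow 2)
  set φ : C → ℂ := fun g => ((2 : ℕ) : ℂ)⁻¹ * ∑ m ∈ Finset.range 2, (1 : ℂ)⁻¹ ^ m *
    (ζ : G → ℂ) ((y ^ m * g : C) : G) with hφdef
  have hφval : ∀ c : C, φ c = ((ζ : G → ℂ) c + (ζ : G → ℂ) (J * c)) / 2 := by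
    intro c
    simp only [hφdef, Finset.sum_range_succ, Finset.sum_range_zero]
    simp
    ring
  have hφ1 : φ 1 = 1 := by
    rw [hφval]
    simp only [OneMemClass.coe_one, mul_one, hζ1, hJ]
    norm_num
  have hmul := bt3p1core_linear φ hφ hφ1
  have hpow : ∀ (c : C) (m : ℕ), φ (c ^ m) = φ c ^ m := by
    intro c m
    induction m with
    | zero => rw [pow_zero, pow_zero, hφ1]
    | succ m ih => rw [pow_succ, pow_succ, hmul, ih]
  let r : C := ⟨ρ, hρC⟩
  have hφr : φ r = ((ζ : G → ℂ) ρ - 1) / 2 := by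
    rw [hφval]
    change ((ζ : G → ℂ) ρ + (ζ : G → ℂ) (J * ρ)) / 2 = _
    rw [hO ρ hρ, hJ]
    ring
  have hord : Odd (orderOf ρ) := by
    have h1 : orderOf (⟨ρ, hρ⟩ : O) ∣ Nat.card O := orderOf_dvd_natCard _
    have h2 : orderOf (⟨ρ, hρ⟩ : O) = orderOf ρ := Subgroup.orderOf_mk ρ hρ
    rw [h2] at h1
    exact h.hOodd.of_dvd_nat h1
  have hrpow : r ^ orderOf ρ = 1 := by
    apply Subtype.ext
    change ρ ^ orderOf ρ = 1
    exact pow_orderOf_eq_one ρ
  have hφrm : φ r ^ orderOf ρ = 1 := by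
    rw [← hpow, hrpow, hφ1]
  have hφrim : (φ r).im = 0 := by
    rw [hφr]
    have := hreal ρ
    simp [this]
  have hφr1 : φ r = 1 := bt3p1core_real_root _ hφrim _ hord hφrm
  have hζρ : (ζ : G → ℂ) ρ = (ζ : G → ℂ) 1 := by
    rw [hζ1]
    rw [hφr] at hφr1
    have : (ζ : G → ℂ) ρ - 1 = 2 := by
      field_simp at hφr1
      exact hφr1
    linear_combination this
  have hne : ζ ≠ trivIrr G := by
    intro heq
    have := congrArg (fun χ : Cfsg.IrrCharacter G => (χ : G → ℂ) J) heq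
    simp only [trivIrr_apply] at this
    rw [hJ] at this
    norm_num at this
  exact Cfsg.Agent.Lib.Helper13.BT.faithful_of_simple ζ hne ρ hζρ

end Cfsg.Agent.Lib.Helper13.BT3
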