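import Mathlib
import Cfsg.Prelude.Def_Characters
import Cfsg.Prelude.Def_Blocks
import Cfsg.Prelude.Def_Local
import Cfsg.Agent.Lib.Helper25.CharLinear
import Cfsg.Agent.Lib.Helper24.KleinOrder1
import Cfsg.Agent.Lib.Helper24.KleinOrder2

set_option autoImplicit false
set_option linter.unusedVariables false
set_option linter.unusedSectionVars false

namespace Cfsg.Agent.Lib.Helper13.BT3

open Classical
open scoped ComplexConjugate
open Cfsg.Agent.Lib.Helper25 Cfsg.Agent.Lib.Helper24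

universe u

variable {G : Type u} [Group G] [Fintype G]

theorem p1_order (g₀ : ℕ) (hG : Nat.card G = 4 * g₀) {J : G} {P O : Subgroup G} (h : KFData J P O)
    (hO : ∀ ρ ∈ O, ρ = 1) (cP : ℕ) (hcP : cP = Nat.card ↥(Subgroup.centralizer (P : Set G)))
    (hform : ((4 * g₀ : ℕ) : ℤ) * ((((5 : ℕ) : ℤ) + 1) * (((3 : ℕ) : ℤ) + (-1)) * (((3 : ℕ) : ℤ) - 1)) * (cP : ℤ) ^ 2 =
      8 * (((5 : ℕ) : ℤ) * ((3 : ℕ) : ℤ) * ((3 : ℕ) : ℤ)) *
        (Nat.card ↥(Subgroup.centralizer ({J} : Set G)) : ℤ) ^ 3) :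
    Nat.card G = 60 := by
  have hObot : O = ⊥ := (Subgroup.eq_bot_iff_forall O).mpr hO
  have hOcard : Nat.card O = 1 := by rw [hObot]; exact Subgroup.card_bot
  have hCJ : Nat.card (Subgroup.centralizer ({J} : Set G)) = 4 := by
    rw [h.card_C, hOcard]
  have hle1 : P ≤ Subgroup.centralizer (P : Set G) := by
    intro x hx
    rw [Subgroup.mem_centralizer_iff]
    intro y hy
    exact h.Pcomm hy hx
  have hle2 : Subgroup.centralizer (P : Set G) ≤ Subgroup.centralizer ({J} : Set G) := by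
    apply Subgroup.centralizer_le
    intro x hx
    rw [Set.mem_singleton_iff] at hx
    rw [hx]
    exact h.hJP
  have hd1 : 4 ∣ cP := by
    rw [hcP, ← h.hPcard]
    exact Subgroup.card_dvd_of_le hle1
  have hd2 : cP ∣ 4 := by
    rw [hcP, ← hCJ]
    exact Subgroup.card_dvd_of_le hle2
  have hcP4 : cP = 4 := Nat.dvd_antisymm hd2 hd1
  rw [hCJ, hcP4] at hform
  push_cast at hform
  rw [hG]
  omega

end Cfsg.Agent.Lib.Helper13.BT3
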