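import Cfsg.Agent.Lib.Helper24.BlockDefClass3
import Cfsg.Agent.Lib.helper7.BlockCover2
import Cfsg.Agent.Lib.Helper25.BlockPIndex
import Cfsg.Agent.Lib.Helper25.CharReal

set_option autoImplicit false
open scoped ComplexConjugate

namespace Cfsg.Agent.Lib.Helper24

open Cfsg.Agent.Lib.helper2 Cfsg.Agent.Lib.helper7 Cfsg.Agent.Lib.Helper11 Cfsg.Agent.Lib.Helper25

section rb

variable {G : Type*} [Group G]

theorem rb_real_odd [Finite G] (g : G) (hodd : ¬ 2 ∣ orderOf g)
    (hidx : ¬ 2 ∣ (Subgroup.centralizer ({g} : Set G)).index) (hreal : IsConj g g⁻¹) : g = 1 := by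
  classical
  haveI : Fintype G := Fintype.ofFinite G
  haveI : Fact (Nat.Prime 2) := ⟨Nat.prime_two⟩
  have hmem : ∀ x : G, IsConj g x → IsConj g x⁻¹ := by
    intro x hx
    obtain ⟨c, hc⟩ := isConj_iff.mp hx
    have h1 : IsConj g⁻¹ x⁻¹ := by
      rw [isConj_iff]
      refine ⟨c, ?_⟩
      rw [← hc]
      group
    exact hreal.trans h1
  let σ : Equiv.Perm {x : G // IsConj g x} :=
    { toFun := fun x => ⟨x.1⁻¹, hmem x.1 x.2⟩
      invFun := fun x => ⟨x.1⁻¹, hmem x.1 x.2⟩
      left_inv := by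
        intro x
        apply Subtype.ext
        simp
      right_inv := by
        intro x
        apply Subtype.ext
        simp }
  have hσ : σ ^ 2 ^ 1 = 1 := by
    ext x
    simp [σ, pow_two]
  have hcard : ¬ 2 ∣ Fintype.card {x : G // IsConj g x} := by
    rw [← Nat.card_eq_fintype_card, ← h7_index_centralizer_eq_card_class]
    exact hidx
  obtain ⟨x, hx⟩ := Equiv.Perm.exists_fixed_point_of_prime hcard hσ
  have hx1 : x.1⁻¹ = x.1 := congrArg Subtype.val hx
  have hx2 : x.1 ^ 2 = 1 := by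
    rw [pow_two]
    nth_rewrite 1 [← hx1]
    exact inv_mul_cancel _
  obtain ⟨c, hc⟩ := isConj_iff.mp x.2
  have hord : orderOf x.1 = orderOf g := by
    rw [← hc]
    have := orderOf_injective (MulAut.conj c).toMonoidHom (MulAut.conj c).injective g
    simpa using this
  have h2 : orderOf g ∣ 2 := by
    rw [← hord]
    exact orderOf_dvd_of_pow_eq_one hx2
  have h3 : orderOf g = 1 := by
    rcases (Nat.dvd_prime Nat.prime_two).mp h2 with h | h
    · exact h
    · exfalso
      apply hodd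
      rw [h]
  exact orderOf_eq_one_iff.mp h3

theorem rb_centralizer_inv (g : G) :
    Subgroup.centralizer ({g⁻¹} : Set G) = Subgroup.centralizer ({g} : Set G) := by
  ext x
  rw [Subgroup.mem_centralizer_singleton_iff, Subgroup.mem_centralizer_singleton_iff]
  constructor
  · intro h
    have : g * (g⁻¹ * x) * g = g * (x * g⁻¹) * g := by rw [h]
    simpa [mul_assoc] using this
  · intro h
    have : g⁻¹ * (g * x) * g⁻¹ = g⁻¹ * (x * g) * g⁻¹ := by rw [h]
    simpa [mul_assoc] using this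

theorem rb_centralChar_conj [Finite G] (χ : Cfsg.IrrCharacter G) (g h : G) :
    Cfsg.centralChar (χ : G → ℂ) (h * g * h⁻¹) = Cfsg.centralChar (χ : G → ℂ) g := by
  unfold Cfsg.centralChar
  have h1 := h7_index_centralizer_equiv (MulAut.conj h) g
  rw [MulAut.conj_apply] at h1
  rw [h1, h7_irr_isClassFunction χ.2 g h]

theorem rb_centralChar_inv [Finite G] (χ : Cfsg.IrrCharacter G) (g : G) :
    Cfsg.centralChar (χ : G → ℂ) g⁻¹ = Cfsg.centralChar (irrConj χ : G → ℂ) g := by
  unfold Cfsg.centralChar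
  rw [rb_centralizer_inv, irrConj_apply, irrConj_apply]
  obtain ⟨n, hn, h1⟩ := irr_one_eq_finrank χ
  obtain ⟨k, ρ, hρ, hχ⟩ := χ.2
  have h2 : (χ : G → ℂ) g⁻¹ = conj ((χ : G → ℂ) g) := by
    haveI : Fintype G := Fintype.ofFinite G
    rw [← hχ]
    exact Cfsg.Agent.Lib.Helper25.char_inv ρ g
  rw [h2, h1, Complex.conj_natCast]

end rb

end Cfsg.Agent.Lib.Helper24
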