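import Mathlib
import Cfsg.Agent.S0895
import Cfsg.Agent.Lib.helper7.FullDefect
import Cfsg.Agent.Lib.helper2.CharInt
import Cfsg.Agent.Lib.helper2.CharNat
import Cfsg.Agent.Lib.Helper11.TIFNStar
import Cfsg.Agent.Lib.Helper25.CharAbelian
import Cfsg.Agent.Lib.Helper25.CharReal
import Cfsg.Agent.Lib.Helper24.RealBlock
import Cfsg.Agent.Lib.Helper24.KleinOrder5

set_option autoImplicit false
open scoped ComplexConjugate

namespace Cfsg.Agent.Lib.Helper24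

open Cfsg.Agent.Lib.Helper25 Cfsg.Agent.Lib.helper7 Cfsg.Agent.Lib.helper2

section KF7
variable {G : Type*} [Group G] [Fintype G]

theorem KFData.sq_not_mem {J : G} {P O : Subgroup G} (h : KFData J P O) (y : G) :
    J⁻¹ * (y * y) ∉ O := by
  intro hO
  set ρ := J⁻¹ * (y * y) with hρ
  have hprod : y * y = J * ρ := by rw [hρ]; group
  have hρJ : ρ * J = J * ρ := h.hOC ρ hO
  have hodd : Odd (orderOf ρ) := by
    have h2 : orderOf ρ ∣ Nat.card O := by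
      have := orderOf_dvd_natCard (⟨ρ, hO⟩ : O)
      rwa [Subgroup.orderOf_mk] at this
    exact Odd.of_dvd_nat h.hOodd h2
  set m := orderOf ρ with hm
  have hJpow : J ^ m = J := by
    obtain ⟨k, hk⟩ := hodd
    rw [hk, pow_succ, pow_mul, pow_two, h.JJ, one_pow, one_mul]
  have hpow : (y * y) ^ m = J := by
    have hc : Commute J ρ := hρJ.symm
    rw [hprod, hc.mul_pow, hm, pow_orderOf_eq_one, mul_one, ← hm, hJpow]
  have hyJ : y * J = J * y := by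
    rw [← hpow]
    have hc : Commute y (y * y) := (Commute.refl y).mul_right (Commute.refl y)
    exact (hc.pow_right m).eq
  obtain ⟨o, ho, x, hx, hyx⟩ := h.hdecomp y hyJ
  have hxx := h.hPsq x hx
  have hxJ : x * J = J * x := h.Pcomm hx h.hJP
  have hconj : x * o * x⁻¹ ∈ O := h.hOnorm x hxJ o ho
  have hxinv : x⁻¹ = x := inv_eq_of_mul_eq_one_right hxx
  have hyy : y * y ∈ O := by
    have e : y * y = o * (x * o * x⁻¹) := by
      rw [hyx, hxinv]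
      group
    rw [e]
    exact O.mul_mem ho hconj
  have hJO : J ∈ O := by
    have e : J = (y * y) * ρ⁻¹ := by rw [hprod]; group
    rw [e]
    exact O.mul_mem hyy (O.inv_mem hO)
  have h2 : orderOf J ∣ Nat.card O := by
    have := orderOf_dvd_natCard (⟨J, hJO⟩ : O)
    rwa [Subgroup.orderOf_mk] at this
  rw [h.hJ] at h2
  have := h.hOodd
  rw [← Nat.not_even_iff_odd, even_iff_two_dvd] at this
  exact this h2

open Classical in
theorem kf_nu_sum (M : Ideal Cfsg.AlgInt) (hM : Cfsg.IsPModular 2 M) {J : G} {P O : Subgroup G}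
    (h : KFData J P O) (hOcore : O ≤ Cfsg.centralizerPPrimeCore 2 J)
    (χ₁ χ₂ χ₃ : Cfsg.IrrCharacter G) (ε₁ ε₂ ε₃ : ℤ)
    (hB : Cfsg.principalBlock M G = {χ : Cfsg.IrrCharacter G |
      (χ : G → ℂ) = (fun _ => 1) ∨ χ = χ₁ ∨ χ = χ₂ ∨ χ = χ₃})
    (hdist : (χ₁ : G → ℂ) ≠ (fun _ => 1) ∧ (χ₂ : G → ℂ) ≠ (fun _ => 1) ∧
      (χ₃ : G → ℂ) ≠ (fun _ => 1) ∧ χ₁ ≠ χ₂ ∧ χ₁ ≠ χ₃ ∧ χ₂ ≠ χ₃)
    (hε : (ε₁ = 1 ∨ ε₁ = -1) ∧ (ε₂ = 1 ∨ ε₂ = -1) ∧ (ε₃ = 1 ∨ ε₃ = -1))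
    (hval : (χ₁ : G → ℂ) J = ε₁ ∧ (χ₂ : G → ℂ) J = ε₂ ∧ (χ₃ : G → ℂ) J = ε₃) (g : G) :
    (1 + (ε₁ : ℂ) * (χ₁ : G → ℂ) (g * g) + (ε₂ : ℂ) * (χ₂ : G → ℂ) (g * g) +
      (ε₃ : ℂ) * (χ₃ : G → ℂ) (g * g)) = 0 := by
  have h1 := kf_f_val M hM h hOcore χ₁ χ₂ χ₃ ε₁ ε₂ ε₃ hB hdist hε hval (g * g)
  have hempty : Finset.univ.filter (fun a : G => J⁻¹ * (a⁻¹ * (g * g) * a) ∈ O) = ∅ := by
    rw [Finset.filter_eq_empty_iff]
    intro a _ ha
    have e : a⁻¹ * (g * g) * a = (a⁻¹ * g * a) * (a⁻¹ * g * a) := by group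
    rw [e] at ha
    exact h.sq_not_mem _ ha
  rw [hempty, Finset.card_empty, Nat.cast_zero, mul_zero] at h1
  have hc : (Nat.card (Subgroup.centralizer ({J} : Set G)) : ℂ) ≠ 0 := by
    exact_mod_cast Nat.card_pos.ne'
  exact (mul_eq_zero.mp h1).resolve_right hc

theorem kf_conj_mem_principal (M : Ideal Cfsg.AlgInt) (φ : Cfsg.IrrCharacter G)
    (hφ : φ ∈ Cfsg.principalBlock M G) : irrConj φ ∈ Cfsg.principalBlock M G := by
  intro g
  have h1 := hφ g⁻¹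
  rw [rb_centralChar_inv] at h1
  have e : Cfsg.centralChar (fun _ : G => (1 : ℂ)) g⁻¹ = Cfsg.centralChar (fun _ : G => (1 : ℂ)) g := by
    unfold Cfsg.centralChar
    rw [rb_centralizer_inv]
  rw [e] at h1
  exact h1

def kfTwo (J : G) (hJJ : J * J = 1) : Subgroup G where
  carrier := {1, J}
  mul_mem' := by
    rintro a b (rfl | rfl) (rfl | rfl)
    · left; rw [mul_one]
    · right; rw [one_mul]; rfl
    · right; rw [mul_one]; rfl
    · left; exact hJJ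
  one_mem' := Or.inl rfl
  inv_mem' := by
    rintro a (rfl | rfl)
    · left; exact inv_one
    · right; exact inv_eq_of_mul_eq_one_right hJJ

theorem kfTwo_coe (J : G) (hJJ : J * J = 1) : ((kfTwo J hJJ : Subgroup G) : Set G) = {1, J} := rfl

theorem kf_degree_odd [Finite G] (χ : Cfsg.IrrCharacter G) (J : G) (hJJ : J * J = 1) (hJ1 : J ≠ 1)
    (ε : ℤ) (hval : (χ : G → ℂ) J = ε) (hε : ε = 1 ∨ ε = -1) :
    Odd (Cfsg.charDegree (χ : G → ℂ)) := by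
  classical
  obtain ⟨hd, hp⟩ := charDegree_irr χ
  set f := Cfsg.charDegree (χ : G → ℂ) with hf
  have hint := h7_avg_integral (χ : G → ℂ) (isCharacter_of_irr χ) (kfTwo J hJJ) 1
    (fun u _ => by rw [mul_one, one_mul])
  unfold h7_avg at hint
  have hsum : ∑ᶠ u : (kfTwo J hJJ), (χ : G → ℂ) ((u : G) * 1) = (f : ℂ) + ε := by
    have e1 : ∑ᶠ u : (kfTwo J hJJ), (χ : G → ℂ) ((u : G) * 1) =
        ∑ᶠ u ∈ ((kfTwo J hJJ : Subgroup G) : Set G), (χ : G → ℂ) u := by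
      simp only [mul_one]
      exact finsum_set_coe_eq_finsum_mem (f := (χ : G → ℂ)) ((kfTwo J hJJ : Subgroup G) : Set G)
    rw [e1, kfTwo_coe]
    have e2 : ({1, J} : Set G) = (({1, J} : Finset G) : Set G) := by
      simp
    rw [e2, finsum_mem_coe_finset, Finset.sum_insert (by simpa using hJ1.symm),
      Finset.sum_singleton, hval, ← hd]
  have hcard : Nat.card (kfTwo J hJJ) = 2 := by
    have : Nat.card (kfTwo J hJJ) = Nat.card ((kfTwo J hJJ : Subgroup G) : Set G) := rfl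
    rw [this, kfTwo_coe, Nat.card_coe_set_eq, Set.ncard_pair hJ1.symm]
  rw [hsum, hcard] at hint
  have hq : (((2 : ℕ) : ℂ)⁻¹ * ((f : ℂ) + (ε : ℂ))) = (((f + ε : ℤ) : ℚ) / 2 : ℚ) := by
    push_cast
    ring
  obtain ⟨z, hz⟩ := Cfsg.Agent.Lib.Helper11.int_of_rat_of_isIntegral _ _ hq hint
  have h2 : ((f : ℤ) + ε) = 2 * z := by
    have : (((f : ℤ) + ε : ℤ) : ℂ) = ((2 * z : ℤ) : ℂ) := by
      push_cast
      push_cast at hz
      rw [← hz]
      ring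
    exact_mod_cast this
  rw [← Int.odd_coe_nat]
  rcases hε with h | h
  · exact ⟨z - 1, by rw [h] at h2; linarith⟩
  · exact ⟨z, by rw [h] at h2; linarith⟩


theorem kf_irrConj_eq (M : Ideal Cfsg.AlgInt) (hM : Cfsg.IsPModular 2 M) {J : G}
    {P O : Subgroup G}
    (h : KFData J P O) (hOcore : O ≤ Cfsg.centralizerPPrimeCore 2 J)
    (χ₁ χ₂ χ₃ : Cfsg.IrrCharacter G)
    (hB : Cfsg.principalBlock M G = {χ : Cfsg.IrrCharacter G |
      (χ : G → ℂ) = (fun _ => 1) ∨ χ = χ₁ ∨ χ = χ₂ ∨ χ = χ₃})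
    (hdist : (χ₁ : G → ℂ) ≠ (fun _ => 1) ∧ (χ₂ : G → ℂ) ≠ (fun _ => 1) ∧
      (χ₃ : G → ℂ) ≠ (fun _ => 1) ∧ χ₁ ≠ χ₂ ∧ χ₁ ≠ χ₃ ∧ χ₂ ≠ χ₃)
    (hval : (χ₁ : G → ℂ) J = ((1 : ℤ) : ℂ) ∧ (χ₂ : G → ℂ) J = ((1 : ℤ) : ℂ) ∧
      (χ₃ : G → ℂ) J = ((-1 : ℤ) : ℂ)) :
    irrConj χ₁ = χ₂ := by
  classical
  have hJJ := h.JJ
  have hJ1 : J ≠ 1 := by
    intro hJ
    have := h.hJ
    rw [hJ, orderOf_one] at this
    omega
  have hmemB : ∀ φ : Cfsg.IrrCharacter G, φ ∈ Cfsg.principalBlock M G →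
      (φ : G → ℂ) = (fun _ => 1) ∨ φ = χ₁ ∨ φ = χ₂ ∨ φ = χ₃ := by
    intro φ hφ
    rw [hB] at hφ
    exact hφ
  have hin : ∀ φ : Cfsg.IrrCharacter G, (φ = χ₁ ∨ φ = χ₂ ∨ φ = χ₃) →
      φ ∈ Cfsg.principalBlock M G := by
    intro φ hφ
    rw [hB]
    exact Or.inr hφ
  have hv1 : (χ₁ : G → ℂ) J = 1 := by rw [hval.1]; norm_num
  have hv2 : (χ₂ : G → ℂ) J = 1 := by rw [hval.2.1]; norm_num
  have hv3 : (χ₃ : G → ℂ) J = -1 := by rw [hval.2.2]; norm_num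
  have hcc : ∀ φ : Cfsg.IrrCharacter G, irrConj (irrConj φ) = φ := by
    intro φ
    apply Subtype.ext
    funext g
    rw [irrConj_apply, irrConj_apply, Complex.conj_conj]
  have hnot1 : ∀ φ : Cfsg.IrrCharacter G, (φ : G → ℂ) ≠ (fun _ => 1) →
      (irrConj φ : G → ℂ) ≠ (fun _ => 1) := by
    intro φ hφ hc
    apply hφ
    funext g
    have := congrFun hc g
    rw [irrConj_apply] at this
    have h2 := congrArg conj this
    rw [Complex.conj_conj, map_one] at h2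
    exact h2
  have hc1 := hmemB _ (kf_conj_mem_principal M χ₁ (hin _ (Or.inl rfl)))
  have hc2 := hmemB _ (kf_conj_mem_principal M χ₂ (hin _ (Or.inr (Or.inl rfl))))
  have hc3 := hmemB _ (kf_conj_mem_principal M χ₃ (hin _ (Or.inr (Or.inr rfl))))
  have hcv1 : (irrConj χ₁ : G → ℂ) J = 1 := by rw [irrConj_apply, hv1, map_one]
  have hcv2 : (irrConj χ₂ : G → ℂ) J = 1 := by rw [irrConj_apply, hv2, map_one]
  have hcv3 : (irrConj χ₃ : G → ℂ) J = -1 := by rw [irrConj_apply, hv3, map_neg, map_one]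
  have hne : (1 : ℂ) ≠ -1 := by norm_num
  have h3real : irrConj χ₃ = χ₃ := by
    rcases hc3 with h0 | h0 | h0 | h0
    · exact absurd h0 (hnot1 χ₃ hdist.2.2.1)
    · exfalso; rw [h0, hv1] at hcv3; exact hne hcv3
    · exfalso; rw [h0, hv2] at hcv3; exact hne hcv3
    · exact h0
  by_contra hcon
  have h1real : irrConj χ₁ = χ₁ := by
    rcases hc1 with h0 | h0 | h0 | h0
    · exact absurd h0 (hnot1 χ₁ hdist.1)
    · exact h0
    · exact absurd h0 hcon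
    · exfalso; rw [h0, hv3] at hcv1; exact hne hcv1.symm
  have h2real : irrConj χ₂ = χ₂ := by
    rcases hc2 with h0 | h0 | h0 | h0
    · exact absurd h0 (hnot1 χ₂ hdist.2.1)
    · exfalso
      apply hdist.2.2.2.1
      have := congrArg irrConj h0
      rw [hcc, h1real] at this
      exact this.symm
    · exact h0
    · exfalso; rw [h0, hv3] at hcv2; exact hne hcv2.symm
  have hre : ∀ φ : Cfsg.IrrCharacter G, irrConj φ = φ → ∀ g : G, ((φ : G → ℂ) g).im = 0 := by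
    intro φ hφ g
    have := congrFun (congrArg Subtype.val hφ) g
    rw [irrConj_apply] at this
    exact Complex.conj_eq_iff_im.mp this
  have hnu : ∀ φ : Cfsg.IrrCharacter G, irrConj φ = φ → ∀ ε : ℤ, (φ : G → ℂ) J = ε →
      (ε = 1 ∨ ε = -1) → ∑ s : G, (φ : G → ℂ) (s * s) = (Nat.card G : ℂ) := by
    intro φ hφ ε hε1 hε2
    have hodd := kf_degree_odd φ J hJJ hJ1 ε hε1 hε2
    have := Cfsg.Agent.S0895.result (φ : G → ℂ) φ.2 (hre φ hφ) _ (charDegree_irr φ).1.symm hodd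
    have hG : (Nat.card G : ℂ) ≠ 0 := by exact_mod_cast Nat.card_pos.ne'
    rw [inv_mul_eq_iff_eq_mul₀ hG, mul_one] at this
    exact this
  have hn1 := hnu χ₁ h1real 1 hval.1 (Or.inl rfl)
  have hn2 := hnu χ₂ h2real 1 hval.2.1 (Or.inl rfl)
  have hn3 := hnu χ₃ h3real (-1) hval.2.2 (Or.inr rfl)
  have hsum : ∑ g : G, (1 + ((1 : ℤ) : ℂ) * (χ₁ : G → ℂ) (g * g) +
      ((1 : ℤ) : ℂ) * (χ₂ : G → ℂ) (g * g) + ((-1 : ℤ) : ℂ) * (χ₃ : G → ℂ) (g * g)) = 0 := by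
    apply Finset.sum_eq_zero
    intro g _
    exact kf_nu_sum M hM h hOcore χ₁ χ₂ χ₃ 1 1 (-1) hB hdist
      ⟨Or.inl rfl, Or.inl rfl, Or.inr rfl⟩ hval g
  rw [Finset.sum_add_distrib, Finset.sum_add_distrib, Finset.sum_add_distrib,
    ← Finset.mul_sum, ← Finset.mul_sum, ← Finset.mul_sum, hn1, hn2, hn3] at hsum
  simp only [Finset.sum_const, Finset.card_univ, nsmul_eq_mul, mul_one,
    ← Nat.card_eq_fintype_card] at hsum
  have hG : (Nat.card G : ℂ) ≠ 0 := by exact_mod_cast Nat.card_pos.ne'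
  apply hG
  push_cast at hsum
  linear_combination (1 / 2 : ℂ) * hsum

end KF7

end Cfsg.Agent.Lib.Helper24
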