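import Cfsg.Agent.Lib.helper15.SLM.Defs

set_option autoImplicit false
set_option linter.unusedSectionVars false
set_option linter.unusedVariables false

namespace Cfsg.Agent.Lib.helper15.SLM

open Matrix

section A

variable {F : Type*} [Field F] [Fintype F] [DecidableEq F]
  {κ : Type*} [Fintype κ] [DecidableEq κ]
  {H : Type*} [Group H] {W : Type*} [AddCommGroup W] [Module ℂ W] [FiniteDimensional ℂ W]

theorem h24_trace_proj (U : Submodule ℂ W) (e T : Module.End ℂ W) (heU : ∀ v, e v ∈ U)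
    (hfix : ∀ v ∈ U, e v = v) (hT : ∀ v ∈ U, T v ∈ U) :
    LinearMap.trace ℂ W (T * e) = LinearMap.trace ℂ U (T.restrict hT) := by
  let π : W →ₗ[ℂ] U := e.codRestrict U heU
  have h1 : T * e = (T ∘ₗ U.subtype) ∘ₗ π := by
    ext v
    simp [π]
  have h2 : π ∘ₗ (T ∘ₗ U.subtype) = T.restrict hT := by
    ext v
    simp only [LinearMap.coe_comp, Function.comp_apply, Submodule.coe_subtype, π,
      LinearMap.codRestrict_apply, LinearMap.coe_restrict_apply]
    exact hfix _ (hT _ v.2)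
  rw [h1, LinearMap.trace_comp_comm', h2]

theorem h24_xi_zero (ξ : (κ → F) → H) (hξ : ∀ u u', ξ (u + u') = ξ u * ξ u') : ξ 0 = 1 := by
  have h := hξ 0 0
  rw [add_zero] at h
  exact (mul_eq_left.mp h.symm)

theorem h24_smul_eIdem_zero (χ₀ : AddChar F ℂ) (σ : Representation ℂ H W)
    (ξ : (κ → F) → H) (hξ : ∀ u u', ξ (u + u') = ξ u * ξ u') (u : κ → F) :
    σ (ξ u) * eIdem χ₀ σ ξ 0 = eIdem χ₀ σ ξ 0 := by
  have h := Cfsg.Agent.Lib.helper15.FourierIdem.r_mul_idem χ₀ (fun u => σ (ξ u))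
    (fun v w => by rw [hξ, map_mul]) u 0
  unfold eIdem
  rw [h]
  simp

theorem h24_eIdem_zero_mem (χ₀ : AddChar F ℂ) (σ : Representation ℂ H W)
    (ξ : (κ → F) → H) (hξ : ∀ u u', ξ (u + u') = ξ u * ξ u') (v : W) :
    eIdem χ₀ σ ξ 0 v ∈ fixSp σ ξ := by
  intro u
  have h := h24_smul_eIdem_zero χ₀ σ ξ hξ u
  have := congrArg (fun T : Module.End ℂ W => T v) h
  simpa using this

theorem h24_eIdem_zero_fix (χ₀ : AddChar F ℂ) (σ : Representation ℂ H W)
    (ξ : (κ → F) → H) (v : W) (hv : v ∈ fixSp σ ξ) :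
    eIdem χ₀ σ ξ 0 v = v := by
  unfold eIdem Cfsg.Agent.Lib.helper15.FourierIdem.idem
  have hc : (Fintype.card (κ → F) : ℂ) ≠ 0 := by
    exact_mod_cast Fintype.card_ne_zero
  simp only [zero_dotProduct, neg_zero, AddChar.map_zero_eq_one, one_smul,
    LinearMap.smul_apply, LinearMap.sum_apply]
  have : ∀ u : κ → F, σ (ξ u) v = v := fun u => hv u
  simp only [this, Finset.sum_const, Finset.card_univ]
  rw [← Nat.cast_smul_eq_nsmul ℂ, smul_smul, inv_mul_cancel₀ hc, one_smul]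

theorem resFix_character (χ₀ : AddChar F ℂ) (hχ₀ : χ₀.IsPrimitive)
    (σ : Representation ℂ H W) (ξ : (κ → F) → H) (hξ : ∀ u u', ξ (u + u') = ξ u * ξ u')
    {K : Type*} [Group K] (f : K →* H) (hf : ∀ h u, ∃ u', f h * ξ u = ξ u' * f h) (h : K) :
    (resFix σ ξ f hf).character h = LinearMap.trace ℂ W (σ (f h) * eIdem χ₀ σ ξ 0) := by
  rw [h24_trace_proj (fixSp σ ξ) (eIdem χ₀ σ ξ 0) (σ (f h))
    (h24_eIdem_zero_mem χ₀ σ ξ hξ) (h24_eIdem_zero_fix χ₀ σ ξ)
    (fun _ hv => fixSp_invariant σ ξ f hf h hv)]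
  rfl

end A

end Cfsg.Agent.Lib.helper15.SLM
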