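import Cfsg.Agent.Lib.helper15.SLM.Defs
import Cfsg.Agent.Lib.Helper24.SLMA9

set_option autoImplicit false
set_option linter.unusedSectionVars false
set_option linter.unusedVariables false

namespace Cfsg.Agent.Lib.helper15.SLM

open Matrix

section A

variable {F : Type*} [Field F] [Fintype F] [DecidableEq F]
  {κ : Type*} [Fintype κ] [DecidableEq κ]
  {H : Type*} [Group H] {W : Type*} [AddCommGroup W] [Module ℂ W] [FiniteDimensional ℂ W]

theorem h24_trace_eIdem (χ₀ : AddChar F ℂ) (σ : Representation ℂ H W) (ξ : (κ → F) → H)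
    (w : κ → F) :
    LinearMap.trace ℂ W (eIdem χ₀ σ ξ w) =
      ((Fintype.card (κ → F) : ℂ))⁻¹ * ∑ u : κ → F, χ₀ (-(w ⬝ᵥ u)) * σ.character (ξ u) := by
  unfold eIdem Cfsg.Agent.Lib.helper15.FourierIdem.idem
  rw [map_smul, map_sum, smul_eq_mul]
  congr 1
  refine Finset.sum_congr rfl fun u _ => ?_
  rw [map_smul, smul_eq_mul]
  rfl

theorem h24_eIdem_idem (χ₀ : AddChar F ℂ) (hχ₀ : χ₀.IsPrimitive) (σ : Representation ℂ H W)
    (ξ : (κ → F) → H) (hξ : ∀ u u', ξ (u + u') = ξ u * ξ u') (w : κ → F) :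
    IsIdempotentElem (eIdem χ₀ σ ξ w) := by
  have hc : (Fintype.card (κ → F) : ℂ) ≠ 0 := by exact_mod_cast Fintype.card_ne_zero
  have h := Cfsg.Agent.Lib.helper15.FourierIdem.idem_mul_idem χ₀ hχ₀ (fun u => σ (ξ u)) hc
    (fun v w => by rw [hξ, map_mul]) w w
  rw [if_pos rfl] at h
  exact h

theorem h24_trace_eIdem_eq_finrank (χ₀ : AddChar F ℂ) (hχ₀ : χ₀.IsPrimitive)
    (σ : Representation ℂ H W) (ξ : (κ → F) → H) (hξ : ∀ u u', ξ (u + u') = ξ u * ξ u')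
    (w : κ → F) :
    LinearMap.trace ℂ W (eIdem χ₀ σ ξ w) =
      (Module.finrank ℂ (LinearMap.range (eIdem χ₀ σ ξ w)) : ℂ) :=
  (LinearMap.IsIdempotentElem.isProj_range _ (h24_eIdem_idem χ₀ hχ₀ σ ξ hξ w)).trace

theorem h24_range_eIdem_zero (χ₀ : AddChar F ℂ) (σ : Representation ℂ H W)
    (ξ : (κ → F) → H) (hξ : ∀ u u', ξ (u + u') = ξ u * ξ u') :
    LinearMap.range (eIdem χ₀ σ ξ 0) = fixSp σ ξ := by
  apply le_antisymm
  · rintro _ ⟨v, rfl⟩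
    exact h24_eIdem_zero_mem χ₀ σ ξ hξ v
  · intro v hv
    exact ⟨v, h24_eIdem_zero_fix χ₀ σ ξ v hv⟩

theorem h24_sum_split (χ₀ : AddChar F ℂ) (hχ₀ : χ₀.IsPrimitive) (σ : Representation ℂ H W)
    (ξ : (κ → F) → H) (hξ : ∀ u u', ξ (u + u') = ξ u * ξ u') (c : ℂ)
    (hc : ∀ u, u ≠ 0 → σ.character (ξ u) = c) (w : κ → F) :
    ∑ u : κ → F, χ₀ (-(w ⬝ᵥ u)) * σ.character (ξ u) =
      (Module.finrank ℂ W : ℂ) +
        ((if w = 0 then (Fintype.card (κ → F) : ℂ) else 0) - 1) * c := by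
  classical
  have hs := Cfsg.Agent.Lib.helper15.FourierIdem.sum_char' χ₀ hχ₀ (-w)
  have hs' : ∑ u : κ → F, χ₀ (-(w ⬝ᵥ u)) =
      if w = 0 then (Fintype.card (κ → F) : ℂ) else 0 := by
    simpa only [neg_dotProduct, neg_eq_zero] using hs
  rw [← Finset.add_sum_erase Finset.univ _ (Finset.mem_univ (0 : κ → F))]
  rw [← Finset.add_sum_erase Finset.univ _ (Finset.mem_univ (0 : κ → F))] at hs'
  have h0 : χ₀ (-(w ⬝ᵥ (0 : κ → F))) = 1 := by simp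
  rw [h0] at hs'
  rw [h0, one_mul, h24_xi_zero ξ hξ, Representation.char_one]
  have h1 : ∑ u ∈ Finset.univ.erase (0 : κ → F), χ₀ (-(w ⬝ᵥ u)) * σ.character (ξ u) =
      (∑ u ∈ Finset.univ.erase (0 : κ → F), χ₀ (-(w ⬝ᵥ u))) * c := by
    rw [Finset.sum_mul]
    refine Finset.sum_congr rfl fun u hu => ?_
    rw [hc u (Finset.ne_of_mem_erase hu)]
  rw [h1]
  have h2 : ∑ u ∈ Finset.univ.erase (0 : κ → F), χ₀ (-(w ⬝ᵥ u)) =
      (if w = 0 then (Fintype.card (κ → F) : ℂ) else 0) - 1 := by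
    rw [← hs']; ring
  rw [h2]

theorem mult_of_const (χ₀ : AddChar F ℂ) (hχ₀ : χ₀.IsPrimitive) (σ : Representation ℂ H W)
    (ξ : (κ → F) → H) (hξ : ∀ u u', ξ (u + u') = ξ u * ξ u') (c : ℂ)
    (hc : ∀ u, u ≠ 0 → σ.character (ξ u) = c) :
    (∀ w, w ≠ 0 → (Module.finrank ℂ (LinearMap.range (eIdem χ₀ σ ξ w)) : ℂ) *
        (Fintype.card F : ℂ) ^ Fintype.card κ = (Module.finrank ℂ W : ℂ) - c) ∧
    (Module.finrank ℂ (fixSp σ ξ) : ℂ) * (Fintype.card F : ℂ) ^ Fintype.card κ =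
        (Module.finrank ℂ W : ℂ) + ((Fintype.card F : ℂ) ^ Fintype.card κ - 1) * c := by
  have hcard : (Fintype.card (κ → F) : ℂ) = (Fintype.card F : ℂ) ^ Fintype.card κ := by
    rw [Fintype.card_fun]; push_cast; rfl
  have hne : (Fintype.card (κ → F) : ℂ) ≠ 0 := by exact_mod_cast Fintype.card_ne_zero
  constructor
  · intro w hw
    rw [← h24_trace_eIdem_eq_finrank χ₀ hχ₀ σ ξ hξ w, h24_trace_eIdem,
      h24_sum_split χ₀ hχ₀ σ ξ hξ c hc w, if_neg hw, ← hcard]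
    field_simp
    ring
  · have hr := h24_range_eIdem_zero χ₀ σ ξ hξ
    have h1 := h24_trace_eIdem_eq_finrank χ₀ hχ₀ σ ξ hξ 0
    rw [hr] at h1
    rw [← h1, h24_trace_eIdem, h24_sum_split χ₀ hχ₀ σ ξ hξ c hc 0, if_pos rfl, ← hcard]
    field_simp

end A

end Cfsg.Agent.Lib.helper15.SLM
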