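import Cfsg.Agent.Lib.helper14.SQD.Defs
import Cfsg.Agent.Lib.Helper28.SQDT1

set_option autoImplicit false

namespace Cfsg.Agent.Lib.helper14.SQD

open Cfsg Cfsg.Lie Matrix

universe u v

theorem uutGL_le_range_sl (n : ℕ) (R : Type u) [CommRing R] :
    uutGL n R ≤ (Matrix.SpecialLinearGroup.toGL : Matrix.SpecialLinearGroup (Fin n) R →* GL (Fin n) R).range := by
  intro g hg
  have hU : IsUUT (g : Matrix (Fin n) (Fin n) R) := (mem_uutGL g).mp hg
  refine ⟨⟨(g : Matrix (Fin n) (Fin n) R), uut_det hU⟩, ?_⟩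
  apply Units.ext
  rfl

end Cfsg.Agent.Lib.helper14.SQD
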