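import Cfsg.Agent.Lib.helper14.SQD.Defs
import Cfsg.Agent.Lib.Helper28.SQDT1

set_option autoImplicit false

namespace Cfsg.Agent.Lib.helper14.SQD

open Cfsg Cfsg.Lie Matrix

universe u v

theorem slU_inf_center (n : ℕ) (R : Type u) [CommRing R] :
    slU n R ⊓ Subgroup.center (Matrix.SpecialLinearGroup (Fin n) R) = ⊥ := by
  rw [eq_bot_iff]
  intro x hx
  obtain ⟨hxU, hxC⟩ := Subgroup.mem_inf.mp hx
  rw [Subgroup.mem_bot]
  have hU : IsUUT ((Matrix.SpecialLinearGroup.toGL x : GL (Fin n) R) : Matrix (Fin n) (Fin n) R) :=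
    (mem_uutGL _).mp hxU
  have hU' : IsUUT (x : Matrix (Fin n) (Fin n) R) := hU
  obtain ⟨r, -, hr⟩ := Matrix.SpecialLinearGroup.mem_center_iff.mp hxC
  apply Subtype.ext
  rw [Matrix.SpecialLinearGroup.coe_one]
  ext i j
  have hii : (x : Matrix (Fin n) (Fin n) R) i i = 1 := hU'.2 i
  have hr1 : r = 1 := by
    rw [← hr] at hii
    simpa using hii
  rw [← hr, hr1]
  simp

end Cfsg.Agent.Lib.helper14.SQD
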