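import Cfsg.Agent.Lib.helper6.UTP.Defs
import Cfsg.Agent.S0755

set_option autoImplicit false
set_option linter.unusedVariables false
set_option linter.unusedSectionVars false

namespace Cfsg.Agent.Lib.helper6.UTP

open Matrix
open scoped Kronecker
open Cfsg.Agent.Lib.helper7.TP

variable {F : Type*} [Field F] {a b : ℕ}

theorem utpisosub_norm [Finite F] (σ : F ≃+* F) (hσ : Inv2 σ) (c : F) (hc : σ c = c) :
    ∃ m : F, m * σ m = c := by
  have hne : (σ : F →+* F) ≠ RingHom.id F := by
    intro h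
    obtain ⟨x, hx⟩ := hσ.moved
    apply hx
    exact congrArg (fun φ : F →+* F => φ x) h
  obtain ⟨m, hm⟩ := Cfsg.Agent.S0755.norm_surj (σ : F →+* F) hne hσ.invol c hc
  exact ⟨m, by rw [mul_comm]; exact hm⟩

theorem utpisosub_self_fixed (σ : F ≃+* F) (hσ : Inv2 σ) {k : ℕ} (x : Fin k → F) :
    σ (hf σ x x) = hf σ x x := (hf_herm σ hσ x x).symm

theorem exists_iso_in [Finite F] (σ : F ≃+* F) (hσ : Inv2 σ) {k : ℕ} (S : Submodule F (Fin k → F))
    (hS : 2 ≤ Module.finrank F S) : ∃ w ∈ S, w ≠ 0 ∧ cj σ w ⬝ᵥ w = 0 := by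
  have hSb : S ≠ ⊥ := by
    intro h
    rw [h, finrank_bot] at hS
    omega
  obtain ⟨x, hxS, hx0⟩ := Submodule.exists_mem_ne_zero_of_ne_bot hSb
  by_cases hxx : hf σ x x = 0
  · exact ⟨x, hxS, hx0, (iso_iff σ x).mpr hxx⟩
  · have hnle : ¬ S ≤ Submodule.span F {x} := by
      intro hle
      have h1 := Submodule.finrank_mono hle
      have h2 : Module.finrank F (Submodule.span F ({x} : Set (Fin k → F))) ≤ 1 :=
        finrank_span_singleton hx0 |>.le
      omega
    obtain ⟨y, hyS, hyx⟩ := SetLike.not_le_iff_exists.mp hnle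
    have hα := utpisosub_self_fixed σ hσ x
    have hγ := utpisosub_self_fixed σ hσ y
    have hβ : hf σ x y = σ (hf σ y x) := hf_herm σ hσ x y
    have hcfix : σ ((hf σ y x * σ (hf σ y x) / hf σ x x - hf σ y y) / hf σ x x) =
        (hf σ y x * σ (hf σ y x) / hf σ x x - hf σ y y) / hf σ x x := by
      rw [map_div₀, map_sub, map_div₀, map_mul, hσ.invol, hα, hγ, mul_comm]
    obtain ⟨m, hm⟩ := utpisosub_norm σ hσ _ hcfix
    refine ⟨y + (m - hf σ y x / hf σ x x) • x, S.add_mem hyS (S.smul_mem _ hxS), ?_, ?_⟩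
    · intro h0
      apply hyx
      have : y = (-(m - hf σ y x / hf σ x x)) • x := by
        rw [neg_smul]
        exact eq_neg_of_add_eq_zero_left h0
      rw [this]
      exact Submodule.smul_mem _ _ (Submodule.mem_span_singleton_self x)
    · rw [iso_iff]
      rw [hf_add_left, hf_add_right, hf_add_right, hf_smul_left, hf_smul_left, hf_smul_right,
        hf_smul_right, hβ, map_sub, map_div₀, hα]
      have hm' : m * σ m * hf σ x x = hf σ y x * σ (hf σ y x) / hf σ x x - hf σ y y := by
        rw [hm, div_mul_cancel₀ _ hxx]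
      field_simp
      field_simp at hm'
      linear_combination hm'

end Cfsg.Agent.Lib.helper6.UTP
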