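import Cfsg.Agent.Lib.helper6.UTP.Defs

set_option autoImplicit false
set_option linter.unusedVariables false
set_option linter.unusedSectionVars false

namespace Cfsg.Agent.Lib.helper6.UTP

open Matrix
open scoped Kronecker
open Cfsg.Agent.Lib.helper7.TP

variable {F : Type*} [Field F] {a b : ℕ}

theorem utpswap_coe (g : Matrix.GeneralLinearGroup (Fin a × Fin b) F) (p p' : Fin b × Fin a) :
    ((swp a b F g : Matrix.GeneralLinearGroup (Fin b × Fin a) F) :
      Matrix (Fin b × Fin a) (Fin b × Fin a) F) p p' =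
      (g : Matrix (Fin a × Fin b) (Fin a × Fin b) F) p.swap p'.swap := rfl

theorem utpswap_swp_swp (g : Matrix.GeneralLinearGroup (Fin a × Fin b) F) :
    swp b a F (swp a b F g) = g := by
  apply Units.ext
  ext ⟨i, j⟩ ⟨i', j'⟩
  rfl

theorem utpswap_swv_swv (v : Fin a × Fin b → F) : swv (swv v) = v := by
  funext ⟨i, j⟩
  rfl

theorem utpswap_K0 (g : Matrix.GeneralLinearGroup (Fin a × Fin b) F) (hg : g ∈ K0 a b F) :
    swp a b F g ∈ K0 b a F := by
  obtain ⟨α, β, hαβ⟩ := hg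
  refine ⟨β, α, ?_⟩
  ext ⟨j, i⟩ ⟨j', i'⟩
  rw [utpswap_coe, hαβ]
  simp [Matrix.kroneckerMap_apply, mul_comm]

theorem utpswap_GUm (σ : F ≃+* F) (g : Matrix.GeneralLinearGroup (Fin a × Fin b) F)
    (hg : g ∈ GUm σ (Fin a × Fin b)) : swp a b F g ∈ GUm σ (Fin b × Fin a) := by
  rw [mem_GUm] at hg ⊢
  intro x y
  rw [← utpswap_swv_swv x, ← utpswap_swv_swv y, swp_mulVec, swp_mulVec, hf_swv, hf_swv, hg]

theorem utpswap_det (g : Matrix.GeneralLinearGroup (Fin a × Fin b) F) :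
    ((swp a b F g : Matrix.GeneralLinearGroup (Fin b × Fin a) F) :
      Matrix (Fin b × Fin a) (Fin b × Fin a) F).det =
      (g : Matrix (Fin a × Fin b) (Fin a × Fin b) F).det := by
  have : ((swp a b F g : Matrix.GeneralLinearGroup (Fin b × Fin a) F) :
      Matrix (Fin b × Fin a) (Fin b × Fin a) F) =
      Matrix.reindex (Equiv.prodComm (Fin a) (Fin b)) (Equiv.prodComm (Fin a) (Fin b))
        (g : Matrix (Fin a × Fin b) (Fin a × Fin b) F) := rfl
  rw [this, Matrix.det_reindex_self]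

theorem utpswap_mem_SL {ι : Type} [Fintype ι] [DecidableEq ι]
    (g : Matrix.GeneralLinearGroup ι F) :
    g ∈ Cfsg.Geo.specialLinear ι F ↔ (g : Matrix ι ι F).det = 1 := by
  unfold Cfsg.Geo.specialLinear
  rw [MonoidHom.mem_ker]
  constructor
  · intro h
    have := congrArg Units.val h
    rwa [Matrix.GeneralLinearGroup.val_det_apply] at this
  · intro h
    apply Units.ext
    rw [Matrix.GeneralLinearGroup.val_det_apply, h]
    rfl

theorem utpswap_SUm (σ : F ≃+* F) (g : Matrix.GeneralLinearGroup (Fin a × Fin b) F)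
    (hg : g ∈ SUm σ (Fin a × Fin b)) : swp a b F g ∈ SUm σ (Fin b × Fin a) := by
  obtain ⟨h1, h2⟩ := Subgroup.mem_inf.mp hg
  refine Subgroup.mem_inf.mpr ⟨utpswap_GUm σ g h1, ?_⟩
  rw [utpswap_mem_SL] at h2 ⊢
  rw [utpswap_det, h2]

theorem utpswap_T0u (σ : F ≃+* F) (g : Matrix.GeneralLinearGroup (Fin a × Fin b) F)
    (hg : g ∈ T0u σ a b) : swp a b F g ∈ T0u σ b a := by
  obtain ⟨h1, h2⟩ := Subgroup.mem_inf.mp hg
  exact Subgroup.mem_inf.mpr ⟨utpswap_K0 g h1, utpswap_SUm σ g h2⟩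

theorem swp_facts (σ : F ≃+* F) :
    (∀ g : Matrix.GeneralLinearGroup (Fin a × Fin b) F, swp a b F g ∈ K0 b a F ↔ g ∈ K0 a b F) ∧
    (∀ g : Matrix.GeneralLinearGroup (Fin a × Fin b) F,
      swp a b F g ∈ SUm σ (Fin b × Fin a) ↔ g ∈ SUm σ (Fin a × Fin b)) ∧
    (T0u σ a b).map (swp a b F).toMonoidHom = T0u σ b a ∧
    (∀ (c : F) (u : Fin a → F) (h : cj σ u ⬝ᵥ u = 0) (g : Matrix.GeneralLinearGroup (Fin a × Fin b) F),
      (g : Matrix (Fin a × Fin b) (Fin a × Fin b) F) =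
        (1 + c • Matrix.vecMulVec u (cj σ u)) ⊗ₖ (1 : Matrix (Fin b) (Fin b) F) →
      swp a b F g = EL (c • (1 : Matrix (Fin b) (Fin b) F)) u (cj σ u) h) := by
  refine ⟨fun g => ⟨fun h => ?_, utpswap_K0 g⟩, fun g => ⟨fun h => ?_, utpswap_SUm σ g⟩, ?_, ?_⟩
  · have := utpswap_K0 _ h
    rwa [utpswap_swp_swp] at this
  · have := utpswap_SUm σ _ h
    rwa [utpswap_swp_swp] at this
  · ext x
    constructor
    · rintro ⟨g, hg, rfl⟩
      exact utpswap_T0u σ g hg
    · intro hx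
      exact ⟨swp b a F x, utpswap_T0u σ x hx, utpswap_swp_swp x⟩
  · intro c u h g hg
    apply Units.ext
    ext ⟨j, i⟩ ⟨j', i'⟩
    rw [utpswap_coe, hg, EL_coe, ELm]
    simp only [Prod.swap_prod_mk, Matrix.kroneckerMap_apply, Matrix.add_apply, Matrix.one_apply,
      Matrix.smul_apply, Matrix.vecMulVec_apply, smul_eq_mul, Prod.mk.injEq]
    by_cases hj : j = j'
    · by_cases hi : i = i'
      · simp [hj, hi]
      · simp [hj, hi]
    · simp [hj]

end Cfsg.Agent.Lib.helper6.UTP
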