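import Cfsg.Agent.Lib.Helper24.UTPISOSUB

set_option autoImplicit false
set_option linter.unusedVariables false
set_option linter.unusedSectionVars false

namespace Cfsg.Agent.Lib.helper6.UTP

open Matrix
open scoped Kronecker
open Cfsg.Agent.Lib.helper7.TP

variable {F : Type*} [Field F] {a b : ℕ}

theorem utpnoiso_w2 [Finite F] (σ : F ≃+* F) (hσ : Inv2 σ) (hb : 4 ≤ b) (w : Fin b → F)
    (hw : w ≠ 0) :
    ∃ j : Fin b, w j ≠ 0 ∧ ∃ w₂ : Fin b → F, w₂ ≠ 0 ∧ cj σ w₂ ⬝ᵥ w₂ = 0 ∧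
      cj σ w₂ ⬝ᵥ w = 0 ∧ w₂ j = 0 := by
  classical
  obtain ⟨j, hj⟩ : ∃ j, w j ≠ 0 := by
    by_contra hcon
    push Not at hcon
    exact hw (funext hcon)
  refine ⟨j, hj, ?_⟩
  let A : Matrix (Fin 2) (Fin b) F := Matrix.of ![cj σ w, Pi.single j 1]
  have hA : ∀ y : Fin b → F, A *ᵥ y = ![cj σ w ⬝ᵥ y, y j] := by
    intro y
    funext i
    fin_cases i
    · rfl
    · change (Pi.single j 1 : Fin b → F) ⬝ᵥ y = y j
      rw [single_dotProduct, one_mul]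
  have hrk := LinearMap.finrank_range_add_finrank_ker (Matrix.mulVecLin A)
  have hr2 : Module.finrank F (LinearMap.range (Matrix.mulVecLin A)) ≤ 2 := by
    have := Submodule.finrank_le (LinearMap.range (Matrix.mulVecLin A))
    rw [Module.finrank_fin_fun] at this
    exact this
  rw [Module.finrank_fin_fun] at hrk
  have hS : 2 ≤ Module.finrank F (LinearMap.ker (Matrix.mulVecLin A)) := by omega
  obtain ⟨w₂, hw₂S, hw₂0, hw₂iso⟩ := exists_iso_in σ hσ _ hS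
  have hmem : A *ᵥ w₂ = 0 := by
    have := LinearMap.mem_ker.mp hw₂S
    rwa [Matrix.mulVecLin_apply] at this
  rw [hA] at hmem
  have h1 : cj σ w ⬝ᵥ w₂ = 0 := by
    have := congrFun hmem 0
    simpa using this
  have h2 : w₂ j = 0 := by
    have := congrFun hmem 1
    simpa using this
  refine ⟨w₂, hw₂0, hw₂iso, ?_, h2⟩
  have h3 : hf σ w₂ w = 0 := by rw [hf, dotProduct_comm]; exact h1
  have h4 : hf σ w w₂ = 0 := by rw [hf_herm σ hσ, h3, map_zero]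
  rw [hf, dotProduct_comm] at h4
  exact h4

theorem utpnoiso_gcancel (g : Matrix.GeneralLinearGroup (Fin a × Fin b) F)
    (x : Fin a × Fin b → F) :
    (g : Matrix (Fin a × Fin b) (Fin a × Fin b) F) *ᵥ
      (((g⁻¹ : Matrix.GeneralLinearGroup (Fin a × Fin b) F) :
        Matrix (Fin a × Fin b) (Fin a × Fin b) F) *ᵥ x) = x := by
  rw [Matrix.mulVec_mulVec, ← Units.val_mul, mul_inv_cancel, Units.val_one, Matrix.one_mulVec]

theorem utpnoiso_gcancel' (g : Matrix.GeneralLinearGroup (Fin a × Fin b) F)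
    (x : Fin a × Fin b → F) :
    ((g⁻¹ : Matrix.GeneralLinearGroup (Fin a × Fin b) F) :
        Matrix (Fin a × Fin b) (Fin a × Fin b) F) *ᵥ
      ((g : Matrix (Fin a × Fin b) (Fin a × Fin b) F) *ᵥ x) = x := by
  rw [Matrix.mulVec_mulVec, ← Units.val_mul, inv_mul_cancel, Units.val_one, Matrix.one_mulVec]

theorem utpnoiso_core [Finite F] (σ : F ≃+* F) (hσ : Inv2 σ) (hb : 4 ≤ b)
    (M : Subgroup (Matrix.GeneralLinearGroup (Fin a × Fin b) F))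
    (hmeet : ∀ (g : Matrix.GeneralLinearGroup (Fin a × Fin b) F), g ∈ M → g ∉ K0 a b F →
      ∀ (w₀ : Fin b → F), w₀ ≠ 0 → cj σ w₀ ⬝ᵥ w₀ = 0 →
      ∀ (w : Fin b → F), w ≠ 0 → cj σ w ⬝ᵥ w = 0 → ∀ (u : Fin a → F),
      ctr (cj σ w₀) (((g⁻¹ : Matrix.GeneralLinearGroup (Fin a × Fin b) F) :
        Matrix (Fin a × Fin b) (Fin a × Fin b) F) *ᵥ ten u w) = 0 →
      ∃ u₀ : Fin a → F,
        ten u w = (g : Matrix (Fin a × Fin b) (Fin a × Fin b) F) *ᵥ ten u₀ w₀)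
    (g : Matrix.GeneralLinearGroup (Fin a × Fin b) F) (hg : g ∈ M) (hgK : g ∉ K0 a b F)
    (w₀ : Fin b → F) (hw₀ : w₀ ≠ 0) (h₀ : cj σ w₀ ⬝ᵥ w₀ = 0) (u₀ : Fin a → F) (hu₀ : u₀ ≠ 0)
    (w : Fin b → F) (hw : w ≠ 0) (h : cj σ w ⬝ᵥ w = 0) :
    ctr (cj σ w) ((g : Matrix (Fin a × Fin b) (Fin a × Fin b) F) *ᵥ ten u₀ w₀) ≠ 0 := by
  intro hker
  have hgi : g⁻¹ ∈ M := M.inv_mem hg
  have hgiK : g⁻¹ ∉ K0 a b F := fun hh => hgK (by simpa using (K0 a b F).inv_mem hh)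
  have key : ∀ (w' : Fin b → F), w' ≠ 0 → cj σ w' ⬝ᵥ w' = 0 →
      ctr (cj σ w') ((g : Matrix (Fin a × Fin b) (Fin a × Fin b) F) *ᵥ ten u₀ w₀) = 0 →
      ∃ u' : Fin a → F,
        (g : Matrix (Fin a × Fin b) (Fin a × Fin b) F) *ᵥ ten u₀ w₀ = ten u' w' := by
    intro w' hw' hiso' hk'
    obtain ⟨u', hu'⟩ := hmeet g⁻¹ hgi hgiK w' hw' hiso' w₀ hw₀ h₀ u₀
      (by rw [inv_inv]; exact hk')
    refine ⟨u', ?_⟩
    rw [hu', utpnoiso_gcancel]
  obtain ⟨u', hu'⟩ := key w hw h hker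
  obtain ⟨j, hj, w₂, hw₂0, hw₂iso, hw₂w, hw₂j⟩ := utpnoiso_w2 σ hσ hb w hw
  have hk2 : ctr (cj σ w₂) ((g : Matrix (Fin a × Fin b) (Fin a × Fin b) F) *ᵥ ten u₀ w₀) = 0 := by
    rw [hu', ctr_ten, hw₂w, zero_smul]
  obtain ⟨u'', hu''⟩ := key w₂ hw₂0 hw₂iso hk2
  have hu'0 : u' = 0 := by
    funext i
    have h1 := congrFun (hu'.symm.trans hu'') (i, j)
    simp only [ten, hw₂j, mul_zero] at h1
    rcases mul_eq_zero.mp h1 with h2 | h2
    · exact h2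
    · exact absurd h2 hj
  have hs0 : (g : Matrix (Fin a × Fin b) (Fin a × Fin b) F) *ᵥ ten u₀ w₀ = 0 := by
    rw [hu', hu'0]
    funext p
    simp [ten]
  have ht0 : ten u₀ w₀ = 0 := by
    have := utpnoiso_gcancel' g (ten u₀ w₀)
    rw [hs0, Matrix.mulVec_zero] at this
    exact this.symm
  obtain ⟨i, hi⟩ : ∃ i, u₀ i ≠ 0 := by
    by_contra hcon
    push Not at hcon
    exact hu₀ (funext hcon)
  obtain ⟨j', hj'⟩ : ∃ j, w₀ j ≠ 0 := by
    by_contra hcon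
    push Not at hcon
    exact hw₀ (funext hcon)
  have := congrFun ht0 (i, j')
  simp only [ten, Pi.zero_apply] at this
  rcases mul_eq_zero.mp this with h2 | h2
  · exact hi h2
  · exact hj' h2

end Cfsg.Agent.Lib.helper6.UTP
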