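import Mathlib
import Cfsg.Agent.Lib.helper17.CEM.Defs
import Cfsg.Agent.Lib.Helper24.STCI1
import Cfsg.Agent.Lib.Helper21.STMB1
import Cfsg.Agent.Lib.helper15.STMB5
import Cfsg.Agent.Lib.Lead.STDB1

set_option autoImplicit false

namespace Cfsg.Agent.Lib.helper17.CEM

open Cfsg.Agent.Lib.helper15.St2 Cfsg.Agent.Lib.helper7.Ce Cfsg.Agent.Lib.helper3.STC Cfsg.Agent.Lib.Lead.STD
  Cfsg.Agent.Lib.helper7.CEC Cfsg.Agent.Lib.helper7.CED Cfsg.Agent.Lib.helper17.STM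

section E

variable {F : Type*} [Field F] {A B : F} [Fact (∀ r : F, r ^ 2 ≠ -B + A * r)] {ι : Type*} {Γ G : Type*} [Group Γ] [Group G]
  {S : SysM F A B ι G} {σ : Γ →* G}

theorem ceme3_ne {ι : Type*} {a b : ι ⊕ ι} (h : ab a ≠ ab b) : a ≠ b ∧ a ≠ ng b ∧ b ≠ a ∧ b ≠ ng a := by
  refine ⟨?_, ?_, ?_, ?_⟩
  · intro e; exact h (by rw [e])
  · intro e; exact h (by rw [e, ab_ng])
  · intro e; exact h (by rw [e])
  · intro e; exact h (by rw [e, ab_ng])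

theorem ceme3_ne' {ι : Type*} {a b : ι ⊕ ι} (h : ab a ≠ ab b) : ng a ≠ b ∧ ng b ≠ a ∧ ng a ≠ ng b ∧ ng b ≠ ng a := by
  obtain ⟨h1, h2, h3, h4⟩ := ceme3_ne h
  refine ⟨?_, ?_, ?_, ?_⟩
  · intro e; exact h4 (by rw [← e])
  · intro e; exact h2 (by rw [← e])
  · intro e; exact h1 (ng_inj.1 e)
  · intro e; exact h3 (ng_inj.1 e)

theorem ss_lift (L : LongLift S σ) (h : IsCE σ) (hC : HC S.toSysD σ) (hLS : HLS S σ) (h3 : I3 ι) {e b : ι ⊕ ι} (heb : ab e ≠ ab b) (u v : Kq F A B)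
    {p q : Γ} (hp : σ p = S.xs e u) (hq : σ q = S.xs b v) : cm p q = L.P.x e (ng b) (-(pq u v)) := by
  obtain ⟨a, hae, hab⟩ := h3 e b
  obtain ⟨eb1, eb2, be1, be2⟩ := ceme3_ne heb
  obtain ⟨neb1, neb2, neb3, neb4⟩ := ceme3_ne' heb
  obtain ⟨ae1, ae2, ea1, ea2⟩ := ceme3_ne hae
  obtain ⟨nae1, nae2, nae3, nae4⟩ := ceme3_ne' hae
  obtain ⟨ab1, ab2, ba1, ba2⟩ := ceme3_ne hab
  obtain ⟨nab1, nab2, nab3, nab4⟩ := ceme3_ne' hab
  have hXm : σ (lf h (S.xs a u)) = S.xs a u := map_lf h _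
  have hEm : σ (cm (lf h (S.xs a u)) q) = S.x a (ng b) (-(pq u v)) := by
    rw [map_cm, hXm, hq]
    exact S.ss a b ab1 ab2 u v
  have hg : σ (L.P.x e a 1) = S.x e a 1 := L.map _ _ _
  have hZ : σ (L.P.x e (ng a) (nm u)) = S.x e (ng a) (nm u) := L.map _ _ _
  generalize hXdef : lf h (S.xs a u) = X at hXm hEm
  generalize hgdef : L.P.x e a 1 = g at hg
  generalize hZdef : L.P.x e (ng a) (nm u) = Z at hZ
  have i1 : σ (cj g X) = σ (p * Z * X) := by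
    rw [map_cj, hg, hXm, map_mul, map_mul, hp, hZ, hXm, S.cj_x_xs ea1 ea2 1 u, one_smul, one_mul]
  have i2 : σ (cj g q) = σ q := by
    rw [map_cj, hg, hq]
    exact S.cj_x_xs_comm ab1 eb2 v 1
  have hi : cj g (cm X q) = cm (p * Z * X) q := by
    rw [cj_cm]
    exact h.cm_congr i1 i2
  have hZq : Z * q = q * Z := by
    have := hLS b e (ng a) ea2 (by rw [ng_ng]; exact ea1) nab1 eb2 v (nm u) q Z hq hZ
    exact this.symm
  have hZE : Z * cm X q = cm X q * Z := by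
    refine hC e (ng a) a (ng b) ea2 (by rw [ng_ng]; exact ea1) ab2 (by rw [ng_ng]; exact ab1) (ng_ne a) eb2 ?_ ea2 (nm u) (-(pq u v)) Z (cm X q) hZ hEm
    rw [ng_ng]
    exact nab1
  have hpE : p * cm X q = cm X q * p :=
    hLS e a (ng b) ab2 (by rw [ng_ng]; exact ab1) neb2 ae2 u (-(pq u v)) p (cm X q) hp hEm
  have hii : cm (p * Z * X) q = cm X q * cm p q := by
    rw [cm_mul_left (p * Z) X q, cm_mul_left p Z q]
    have e1 : cm Z q = 1 := cm_eq_one_iff.2 hZq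
    have e2 : p * Z * cm X q * (p * Z)⁻¹ = cm X q := by
      rw [mul_assoc p Z, hZE, ← mul_assoc, hpE, mul_assoc (cm X q) p Z, mul_assoc, mul_inv_cancel, mul_one]
    rw [e1, mul_one, mul_inv_cancel, one_mul, e2]
  have hζ : σ ((L.P.x a (ng b) (-(pq u v)))⁻¹ * cm X q) = 1 := by
    rw [map_mul, map_inv, L.map, hEm, inv_mul_cancel]
  have hc3 := L.P.comm3 e a (ng b) ea1 ea2 ab2 (by rw [ng_ng]; exact ab1) eb2 (by rw [ng_ng]; exact eb1) 1 (-(pq u v))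
  rw [one_mul, hgdef] at hc3
  have hELeb : cm X q * L.P.x e (ng b) (-(pq u v)) = L.P.x e (ng b) (-(pq u v)) * cm X q := by
    refine hC a (ng b) e (ng b) ab2 (by rw [ng_ng]; exact ab1) eb2 (by rw [ng_ng]; exact eb1) neb2 ab2 (ne_ng (ng b)) ae2
      (-(pq u v)) (-(pq u v)) (cm X q) (L.P.x e (ng b) (-(pq u v))) hEm (L.map _ _ _)
  generalize L.P.x a (ng b) (-(pq u v)) = Lab at hζ hc3
  generalize L.P.x e (ng b) (-(pq u v)) = Leb at hc3 hELeb ⊢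
  generalize cm X q = E at hi hii hζ hELeb
  have hiii : cj g E = Leb * E := by
    calc cj g E = cj g (Lab * (Lab⁻¹ * E)) := by rw [mul_inv_cancel_left]
      _ = cj g Lab * (Lab⁻¹ * E) := by rw [cj_mul, h.cj_of_map_one hζ]
      _ = (g * Lab * g⁻¹ * Lab⁻¹) * E := by unfold cj; group
      _ = Leb * E := by rw [hc3]
  have hfin : E * cm p q = E * Leb := by
    rw [← hii, ← hi, hiii, hELeb]
  exact mul_left_cancel hfin

end E

end Cfsg.Agent.Lib.helper17.CEM
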