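import Mathlib
import Cfsg.Agent.Lib.helper17.CEM.Defs
import Cfsg.Agent.Lib.Helper24.STCI1
import Cfsg.Agent.Lib.Helper21.STMB1
import Cfsg.Agent.Lib.Helper21.STMW9
import Cfsg.Agent.Lib.Helper20.STMH2
import Cfsg.Agent.Lib.Lead.STDB1

set_option autoImplicit false

namespace Cfsg.Agent.Lib.helper17.CEM

open Cfsg.Agent.Lib.helper15.St2 Cfsg.Agent.Lib.helper7.Ce Cfsg.Agent.Lib.helper3.STC Cfsg.Agent.Lib.Lead.STD
  Cfsg.Agent.Lib.helper7.CEC Cfsg.Agent.Lib.helper7.CED Cfsg.Agent.Lib.helper17.STM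

section F

variable {F : Type*} [Field F] [Finite F] {A B : F} [Fact (∀ r : F, r ^ 2 ≠ -B + A * r)]

theorem exists_pq_eq (s : F) : ∃ u v : Kq F A B, pq u v = s := by
  by_cases hA : A = 0
  · have h2 : (2 : F) ≠ 0 := by
      intro h2
      have hinj : Function.Injective (fun r : F => r ^ 2) := by
        intro r r' hrr
        have hrr' : r ^ 2 = r' ^ 2 := hrr
        have e : (r - r') ^ 2 = r ^ 2 - r' ^ 2 - 2 * (r * r' - r' ^ 2) := by ring
        have e0 : (r - r') ^ 2 = 0 := by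
          rw [e, h2, zero_mul, sub_zero, hrr', sub_self]
        exact sub_eq_zero.1 ((pow_eq_zero_iff (two_ne_zero)).1 e0)
      obtain ⟨r, hr⟩ := (Finite.injective_iff_surjective.1 hinj) (-B)
      have hr' : r ^ 2 = -B := hr
      exact (Fact.out : ∀ r : F, r ^ 2 ≠ -B + A * r) r (by rw [hr', hA, zero_mul, add_zero])
    refine ⟨⟨s / 2, 0⟩, 1, ?_⟩
    rw [pq_def]
    simp [QuadraticAlgebra.re_one, QuadraticAlgebra.im_one]
    field_simp
  · refine ⟨⟨0, s / A⟩, 1, ?_⟩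
    rw [pq_def]
    simp [QuadraticAlgebra.re_one, QuadraticAlgebra.im_one]
    field_simp

omit [Finite F] in
theorem cemf2_omega : ((⟨0, 1⟩ : Kq F A B) ≠ 0) ∧ (⟨0, 1⟩ : Kq F A B) ^ 2 ≠ 1 := by
  constructor
  · intro h0
    have := congrArg QuadraticAlgebra.im h0
    simp at this
  · intro h1
    have e1 := congrArg QuadraticAlgebra.re h1
    have e2 := congrArg QuadraticAlgebra.im h1
    simp [pow_two, QuadraticAlgebra.re_one, QuadraticAlgebra.im_one] at e1 e2
    refine (Fact.out : ∀ r : F, r ^ 2 ≠ -B + A * r) 1 ?_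
    rw [e2, e1]
    ring

set_option linter.unusedSectionVars false in
theorem exists_kq_sq_ne_one : ∃ v : Kq F A B, v ≠ 0 ∧ v ^ 2 ≠ 1 :=
  ⟨⟨0, 1⟩, cemf2_omega.1, cemf2_omega.2⟩

end F

section T

variable {F : Type*} [Field F] [Finite F] {A B : F} [Fact (∀ r : F, r ^ 2 ≠ -B + A * r)] {ι : Type*} {Γ G : Type*} [Group Γ] [Group G]
  {S : SysM F A B ι G} {σ : Γ →* G}

theorem HC_long (h : IsCE σ) : HC S.toSysD σ := by
  intro a b c d hab hab' hcd hcd' hbc had hbd hac t u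
  obtain ⟨u', v', e⟩ := exists_pq_eq (A := A) (B := B) (-t)
  have hanb : a ≠ ng (ng b) := by rw [ng_ng]; exact hab
  have hss := S.ss a (ng b) hab' hanb u' v'
  rw [ng_ng, e, neg_neg] at hss
  have e1 : S.x a b t = cm (S.xs a u') (S.xs (ng b) v') := hss.symm
  show CL σ (S.x a b t) (S.x c d u)
  rw [e1]
  apply h.milnor
  · exact S.comm_ls a c d hcd hcd' had.symm (fun e' => hac (by rw [e', ng_ng])) u' u
  · refine S.comm_ls (ng b) c d hcd hcd' ?_ ?_ v' u
    · intro e'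
      exact hbd (by rw [e', ng_ng])
    · rw [ng_ng]
      exact hbc.symm

theorem CL_xs_x_disj [DecidableEq ι] (h : IsCE σ) {a c d : ι ⊕ ι} (hcd : c ≠ d) (hcd' : c ≠ ng d) (hca : c ≠ a) (hca' : c ≠ ng a) (hda : d ≠ a) (hda' : d ≠ ng a)
    (t : Kq F A B) (u : F) : CL σ (S.xs a t) (S.x c d u) := by
  obtain ⟨v, hv0, hv2⟩ := exists_kq_sq_ne_one (A := A) (B := B)
  have hg := S.isMon_hs a v hv0
  have hsv : star v ≠ 0 := kq_star_ne_zero hv0
  have key := h.torus (fun t' => S.xs a t') (fun s t' => (S.adds a s t').symm) (S.x c d u) (S.hs a v)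
    (v ^ 2) hv2 (fun t' => S.comm_ls a c d hcd hcd' hda hca' t' u)
    (fun t' => by
      have h1 := hg.2.2.2.2 a t'
      rw [stmw9_dhb_a, tw_false, Equiv.Perm.one_apply, kq_smul_def, kq_algebraMap_nm] at h1
      rw [h1]
      congr 1
      field_simp)
    (by
      have h1 := hg.1.2 c d hcd u
      rw [stmw9_dhb_of_ne hca hca', stmw9_dhb_of_ne hda hda', inv_one, mul_one, one_mul] at h1
      simpa using h1)
  exact key t

omit [Finite F] in
theorem CL_xs_x_row (h : IsCE σ) (h3 : I3 ι) {a d : ι ⊕ ι} (had : ab a ≠ ab d) (t : Kq F A B) (u : F) : CL σ (S.xs a t) (S.x a d u) := by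
  obtain ⟨e, hea, hed⟩ := h3 a d
  have ad1 : a ≠ d := fun e' => had (by rw [e'])
  have ad2 : a ≠ ng d := fun e' => had (by rw [e', ab_ng])
  have ea1 : e ≠ a := fun e' => hea (by rw [e'])
  have ea2 : e ≠ ng a := fun e' => hea (by rw [e', ab_ng])
  have ae2 : a ≠ ng e := fun e' => hea (by rw [e', ab_ng])
  have ed1 : e ≠ d := fun e' => hed (by rw [e'])
  have ed2 : e ≠ ng d := fun e' => hed (by rw [e', ab_ng])
  have h3' := S.comm3 a e d ea1.symm ae2 ed1 ed2 ad1 ad2 u 1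
  rw [mul_one] at h3'
  have e1 : S.x a d u = cm (S.x a e u) (S.x e d 1) := h3'.symm
  rw [e1]
  apply CL.symm
  apply h.milnor
  · exact (S.comm_ls a a e ea1.symm ae2 ea1 (ne_ng a) t u).symm
  · exact (S.comm_ls a e d ed1 ed2 ad1.symm ea2 t 1).symm

theorem HLS_all [DecidableEq ι] (h : IsCE σ) (h3 : I3 ι) : HLS S σ := by
  intro a c d hcd hcd' hda hca t u
  by_cases hc : c = a
  · subst hc
    refine CL_xs_x_row h h3 ?_ t u
    intro e'
    rcases ab_eq_iff.1 e' with e'' | e''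
    · exact hcd e''
    · exact hcd' e''
  · by_cases hd : d = ng a
    · subst hd
      have hs := S.sym c (ng a) hcd hcd' u
      rw [ng_ng] at hs
      rw [hs]
      refine CL_xs_x_row h h3 ?_ t (-u)
      intro e'
      rw [ab_ng] at e'
      rcases ab_eq_iff.1 e' with e'' | e''
      · exact hc e''.symm
      · exact hca (by rw [e'', ng_ng])
    · exact CL_xs_x_disj h hcd hcd' hc hca hda hd t u

end T

end Cfsg.Agent.Lib.helper17.CEM
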