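import Mathlib
import Cfsg.Agent.Lib.helper17.CEM.Defs
import Cfsg.Agent.Lib.Helper24.STCI1
import Cfsg.Agent.Lib.Helper21.STMB1
import Cfsg.Agent.Lib.helper15.STMB5
import Cfsg.Agent.Lib.Lead.STDB1
import Cfsg.Agent.Lib.Helper24.CEME3

set_option autoImplicit false

namespace Cfsg.Agent.Lib.helper17.CEM

open Cfsg.Agent.Lib.helper15.St2 Cfsg.Agent.Lib.helper7.Ce Cfsg.Agent.Lib.helper3.STC Cfsg.Agent.Lib.Lead.STD
  Cfsg.Agent.Lib.helper7.CEC Cfsg.Agent.Lib.helper7.CED Cfsg.Agent.Lib.helper17.STM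

section S

theorem cems4_abs {Γ : Type*} [Group Γ] (Zu Zu' M N N' : Γ) (hM : M * Zu' = Zu' * M) (hN : N * Zu' = Zu' * N) (hNN : N * N' = N' * N) :
    Zu * M * Zu' * (N * N' * M)⁻¹ = Zu * N⁻¹ * (Zu' * N'⁻¹) := by
  have e1 : M * Zu' * M⁻¹ = Zu' := by rw [hM, mul_inv_cancel_right]
  have e2 : N * N'⁻¹ = N'⁻¹ * N := by
    calc N * N'⁻¹ = N'⁻¹ * (N' * N) * N'⁻¹ := by group
      _ = N'⁻¹ * (N * N') * N'⁻¹ := by rw [hNN]
      _ = N'⁻¹ * N := by group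
  have c1 : N * (Zu' * N'⁻¹) = (Zu' * N'⁻¹) * N := by
    rw [← mul_assoc, hN, mul_assoc, e2, mul_assoc]
  have c2 : (Zu' * N'⁻¹) * N⁻¹ = N⁻¹ * (Zu' * N'⁻¹) := by
    calc (Zu' * N'⁻¹) * N⁻¹ = N⁻¹ * (N * (Zu' * N'⁻¹)) * N⁻¹ := by group
      _ = N⁻¹ * ((Zu' * N'⁻¹) * N) * N⁻¹ := by rw [c1]
      _ = N⁻¹ * (Zu' * N'⁻¹) := by group
  calc Zu * M * Zu' * (N * N' * M)⁻¹ = Zu * (M * Zu' * M⁻¹) * N'⁻¹ * N⁻¹ := by group
    _ = Zu * ((Zu' * N'⁻¹) * N⁻¹) := by rw [e1]; group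
    _ = Zu * (N⁻¹ * (Zu' * N'⁻¹)) := by rw [c2]
    _ = Zu * N⁻¹ * (Zu' * N'⁻¹) := by group

variable {F : Type*} [Field F] {A B : F} [Fact (∀ r : F, r ^ 2 ≠ -B + A * r)] {ι : Type*} {Γ G : Type*} [Group Γ] [Group G]
  {S : SysM F A B ι G} {σ : Γ →* G}

theorem Ds_add_right (h : IsCE σ) (L : LongLift S σ) (hC : HC S.toSysD σ) (hLS : HLS S σ) (hSO : HSO S σ) (h3 : I3 ι) {a b : ι ⊕ ι} (hab : ab a ≠ ab b)
    (t : F) (u u' : Kq F A B) : Ds S h L a b t (u + u') = Ds S h L a b t u * Ds S h L a b t u' := by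
  obtain ⟨ab1, ab2, ba1, ba2⟩ := ceme3_ne hab
  obtain ⟨nab1, nab2, nab3, nab4⟩ := ceme3_ne' hab
  have hP0 : σ (lf h (S.x a b t)) = S.x a b t := map_lf h _
  have hQ : σ (lf h (S.xs b u)) = S.xs b u := map_lf h _
  have hQ' : σ (lf h (S.xs b u')) = S.xs b u' := map_lf h _
  have hQQ : σ (lf h (S.xs b (u + u'))) = S.xs b (u + u') := map_lf h _
  have hX : σ (lf h (S.xs a (-(t • u)))) = S.xs a (-(t • u)) := map_lf h _
  unfold Ds Zs
  generalize lf h (S.x a b t) = P0 at hP0 ⊢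
  generalize lf h (S.xs b u) = Q at hQ ⊢
  generalize lf h (S.xs b u') = Q' at hQ' ⊢
  generalize lf h (S.xs b (u + u')) = QQ at hQQ ⊢
  generalize lf h (S.xs a (-(t • u))) = X at hX
  have hLm : ∀ s, σ (L.P.x a (ng b) s) = S.x a (ng b) s := fun s => L.map _ _ _
  have hZm : ∀ (w : Kq F A B) (q : Γ), σ q = S.xs b w → σ (cm P0 q) = S.xs a (t • w) * S.x a (ng b) (t * nm w) := by
    intro w q hq
    rw [map_cm, hP0, hq]
    exact S.ls a b ab1 ab2 t w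
  have hanb : a ≠ ng (ng b) := by rw [ng_ng]; exact ab1
  have hCLx : ∀ (s : F) (w : Kq F A B) (s' : F), CL σ (S.x a (ng b) s) (S.xs a w * S.x a (ng b) s') := by
    intro s w s'
    apply CL.symm
    apply h.CL_mul_left
    · exact hLS a a (ng b) ab2 hanb nab2 (ne_ng a) w s
    · exact hC a (ng b) a (ng b) ab2 hanb ab2 hanb nab2 ab2 (ne_ng (ng b)) (ne_ng a) s' s
  have s1 : cm P0 QQ = cm P0 (Q * Q') := by
    apply h.cm_congr rfl
    rw [hQQ, map_mul, hQ, hQ', S.adds]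
  have s2 : cj Q (cm P0 Q') = cm (P0 * X * L.P.x a (ng b) (-(t * nm u))) Q' := by
    rw [cj_cm]
    apply h.cm_congr
    · rw [map_cj, hQ, hP0, map_mul, map_mul, hP0, hX, hLm, S.cj_xs_x ab1 ab2 t u]
    · rw [map_cj, hQ, hQ']
      unfold cj
      rw [S.xs_comm_same, mul_inv_cancel_right]
  have s3 : cm (L.P.x a (ng b) (-(t * nm u))) Q' = 1 := by
    rw [cm_eq_one_iff]
    exact (hLS b a (ng b) ab2 hanb (ng_ne b) ab2 u' (-(t * nm u)) Q' _ hQ' (hLm _)).symm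
  have s4 : cm X Q' = L.P.x a (ng b) (t * pq u u') := by
    rw [ss_lift L h hC hLS h3 hab (-(t • u)) u' hX hQ', pq_neg_left, pq_smul_left, neg_neg]
  have s5 : P0 * L.P.x a (ng b) (t * pq u u') = L.P.x a (ng b) (t * pq u u') * P0 := by
    have hs := S.sym a (ng b) ab2 hanb (t * pq u u')
    rw [ng_ng] at hs
    refine hSO a b hab t (-(t * pq u u')) P0 _ hP0 ?_
    rw [hLm, hs]
  have s6 : cj Q (cm P0 Q') = L.P.x a (ng b) (t * pq u u') * cm P0 Q' := by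
    rw [s2, cm_mul_left (P0 * X) _ Q', s3, mul_one, mul_inv_cancel, one_mul, cm_mul_left P0 X Q', s4]
    rw [s5, mul_inv_cancel_right]
  have s7 : cm P0 QQ = cm P0 Q * L.P.x a (ng b) (t * pq u u') * cm P0 Q' := by
    rw [s1, cm_mul_right]
    have : Q * cm P0 Q' * Q⁻¹ = cj Q (cm P0 Q') := rfl
    rw [this, s6, mul_assoc]
  have s8 : L.P.x a (ng b) (t * nm (u + u')) = L.P.x a (ng b) (t * nm u) * L.P.x a (ng b) (t * nm u') * L.P.x a (ng b) (t * pq u u') := by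
    rw [L.P.add a (ng b) ab2 hanb, L.P.add a (ng b) ab2 hanb, nm_add]
    congr 1
    ring
  rw [s7, s8]
  apply cems4_abs
  · exact hCLx _ _ _ _ _ (hLm _) (hZm u' Q' hQ')
  · exact hCLx _ _ _ _ _ (hLm _) (hZm u' Q' hQ')
  · rw [L.P.add a (ng b) ab2 hanb, L.P.add a (ng b) ab2 hanb, add_comm]

end S

end Cfsg.Agent.Lib.helper17.CEM
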