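import Mathlib
import Cfsg.Prelude.Def_ChevStructure
import Cfsg.Agent.Lib.Helper12.INVE8.Defs
import Cfsg.Agent.Lib.helper8.ChevReflAll
import Cfsg.Agent.Lib.helper8.ChevBNAll
import Cfsg.Agent.Lib.helper8.ChevBNAll2
import Cfsg.Agent.Lib.helper8.ChevOrdAll

set_option autoImplicit false
set_option linter.unusedVariables false
set_option maxRecDepth 100000

namespace Cfsg.Agent.Lib.Helper12.INVE8

open Cfsg.Lie Cfsg.Lie.ChevalleyDatum Cfsg.Agent.Lib.helper8 Cfsg.Agent.Lib.helper14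
  Cfsg.Agent.Lib.helper14.INV

universe u

variable {F : Type u} [Field F]

theorem e8stda_mem_list :
    chevE8 ∈ [chevG2, chevB2, chevD4, chevF4, chevE6, chevE7, chevE8] := by simp

def e8stdaChk (k : ℕ) : Bool :=
  decide (stdRoots chevE8 (e8StdR.getD k []) = e8Std.getD k []) &&
    (e8StdR.getD k []).all fun e => e.1.all (fun i => decide (i < chevE8.rank)) &&
      decide (e.2 < chevE8.rank)

theorem e8stda_chk : ∀ k < 9, e8stdaChk k = true := by decide +kernel

theorem e8_stdR (k : ℕ) (hk : k < 9) :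
    stdRoots chevE8 (e8StdR.getD k []) = e8Std.getD k [] ∧
    ∀ e ∈ e8StdR.getD k [], ValidW chevE8 e.1 ∧ e.2 < chevE8.rank := by
  have h := e8stda_chk k hk
  unfold e8stdaChk at h
  rw [Bool.and_eq_true, decide_eq_true_eq, List.all_eq_true] at h
  refine ⟨h.1, fun e he => ?_⟩
  have h2 := h.2 e he
  rw [Bool.and_eq_true, List.all_eq_true, decide_eq_true_eq] at h2
  refine ⟨fun i hi => ?_, h2.2⟩
  have := h2.1 i hi
  rwa [decide_eq_true_eq] at this

theorem e8_std_act (hB : H8Base.{u} chevE8) (k : ℕ) (hk : k < 9) (r : ℕ) (hr : r < 240) :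
    H8Act chevE8 hB (n1 chevE8 hB (e8Std.getD k []) : GL chevE8.Idx F) r
      (h8sW chevE8 (stdWord (e8StdR.getD k [])) r) := by
  have hD := e8stda_mem_list
  have hA := h8reflAll chevE8 hD
  have hBN := h8bn_all chevE8 hD
  have hW := h8bn2_all chevE8 hD
  obtain ⟨hO, hO2⟩ := h8ord_all chevE8 hD
  have h := n1_act (F := F) chevE8 hB hA hBN hW hO2 (e8StdR.getD k []) (e8_stdR k hk).2 r hr
  rw [(e8_stdR k hk).1] at h
  exact h

end Cfsg.Agent.Lib.Helper12.INVE8
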