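import Mathlib
import Cfsg.Agent.Lib.Helper24.MNP.Defs
import Cfsg.Agent.Lib.Helper9.SCHA1

set_option autoImplicit false

namespace Cfsg.Agent.Lib.Helper24.MNP

open scoped commutatorElement
open Cfsg.Agent.Lib.Helper24.SCH (SchAct)

universe u

section M

open SemidirectProduct

variable {T : Type u} [Group T] [Finite T] {p q r : ℕ} [Fact p.Prime] {α₀ : MulAut T}

theorem pow_qr (hT : SchAct p q T α₀) (hr : 1 ≤ r) : α₀ ^ (q ^ r) = 1 := by
  obtain ⟨k, rfl⟩ : ∃ k, r = k + 1 := ⟨r - 1, by omega⟩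
  rw [pow_succ, mul_comm, pow_mul, hT.powq, one_pow]

theorem card_G0 (hT : SchAct p q T α₀) (hn : α₀ ^ (q ^ r) = 1) :
    Nat.card (G0 (q ^ r) α₀ hn) = Nat.card T * q ^ r := by
  rw [Nat.card_congr (SemidirectProduct.equivProd (φ := cycHom (q ^ r) α₀ hn)), Nat.card_prod]
  congr 1
  show Nat.card (ZMod (q ^ r)) = q ^ r
  exact Nat.card_zmod (q ^ r)

theorem conj_inl (hn : α₀ ^ (q ^ r) = 1) (t : T) :
    (inr (Multiplicative.ofAdd (1 : ZMod (q ^ r))) * inl t *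
      (inr (Multiplicative.ofAdd (1 : ZMod (q ^ r))))⁻¹ : G0 (q ^ r) α₀ hn) = inl (α₀ t) := by
  rw [← map_inv, ← SemidirectProduct.inl_aut]
  have h1 := cycHom_apply (q ^ r) α₀ hn 1
  rw [Nat.cast_one, pow_one] at h1
  rw [h1]

theorem mnpm4_gen_pow (hn : α₀ ^ (q ^ r) = 1) (k : ℕ) :
    (inr (Multiplicative.ofAdd (1 : ZMod (q ^ r))) : G0 (q ^ r) α₀ hn) ^ k =
      inr (Multiplicative.ofAdd (k : ZMod (q ^ r))) := by
  rw [← map_pow, ← ofAdd_nsmul, nsmul_eq_mul, mul_one]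

theorem elt_form (hT : SchAct p q T α₀) (hn : α₀ ^ (q ^ r) = 1) (g : G0 (q ^ r) α₀ hn) :
    ∃ (t : T) (k : ℕ), g = inl t * (inr (Multiplicative.ofAdd (1 : ZMod (q ^ r)))) ^ k := by
  haveI : NeZero (q ^ r) := ⟨pow_ne_zero _ hT.qprime.ne_zero⟩
  refine ⟨g.left, (Multiplicative.toAdd g.right).val, ?_⟩
  rw [mnpm4_gen_pow, ZMod.natCast_zmod_val]
  exact (SemidirectProduct.inl_left_mul_inr_right g).symm

theorem central_inl (hT : SchAct p q T α₀) (hn : α₀ ^ (q ^ r) = 1) (t : T) (ht : α₀ t = t) :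
    (inl t : G0 (q ^ r) α₀ hn) ∈ Subgroup.center (G0 (q ^ r) α₀ hn) := by
  rw [Subgroup.mem_center_iff]
  intro g
  obtain ⟨s, k, rfl⟩ := elt_form hT hn g
  have hc : s * t = t * s := (Subgroup.mem_center_iff.mp
    (Cfsg.Agent.Lib.Helper24.SCH.fixed_central hT t ht) s)
  have h1 : (inr (Multiplicative.ofAdd (1 : ZMod (q ^ r))) : G0 (q ^ r) α₀ hn) * inl t =
      inl t * inr (Multiplicative.ofAdd (1 : ZMod (q ^ r))) := by
    have := conj_inl hn t
    rw [ht] at this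
    exact mul_inv_eq_iff_eq_mul.mp this
  have h2 : ∀ k : ℕ, (inr (Multiplicative.ofAdd (1 : ZMod (q ^ r))) : G0 (q ^ r) α₀ hn) ^ k * inl t =
      inl t * inr (Multiplicative.ofAdd (1 : ZMod (q ^ r))) ^ k := by
    intro k
    induction k with
    | zero => simp
    | succ n ih => rw [pow_succ, mul_assoc, h1, ← mul_assoc, ih, mul_assoc]
  rw [mul_assoc, h2, ← mul_assoc, ← mul_assoc, ← map_mul, ← map_mul, hc]

end M

end Cfsg.Agent.Lib.Helper24.MNP
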