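import Mathlib
import Cfsg.Agent.Lib.Helper19.ORE.Defs

set_option autoImplicit false

namespace Cfsg.Agent.Lib.Helper19.ORE

open Polynomial Module

universe u v w

section conj
variable {F : Type u} [Field F] {V : Type v} {V' : Type w} [AddCommGroup V] [Module F V]
  [AddCommGroup V'] [Module F V']

def orec1_cj (e : V ≃ₗ[F] V') (T : V ≃ₗ[F] V) : V' ≃ₗ[F] V' := (e.symm.trans T).trans e

theorem orec1_cj_apply (e : V ≃ₗ[F] V') (T : V ≃ₗ[F] V) (x : V') :
    orec1_cj e T x = e (T (e.symm x)) := rfl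

theorem orec1_cj_mul (e : V ≃ₗ[F] V') (S T : V ≃ₗ[F] V) :
    orec1_cj e (S * T) = orec1_cj e S * orec1_cj e T := by
  ext x
  simp [orec1_cj_apply, LinearEquiv.mul_apply]

theorem orec1_cj_inv (e : V ≃ₗ[F] V') (T : V ≃ₗ[F] V) :
    orec1_cj e T⁻¹ = (orec1_cj e T)⁻¹ := by
  have h : orec1_cj e T⁻¹ * orec1_cj e T = 1 := by
    rw [← orec1_cj_mul, inv_mul_cancel]
    ext x
    simp [orec1_cj_apply]
  exact eq_inv_of_mul_eq_one_left h

theorem orec1_cj_coe (e : V ≃ₗ[F] V') (T : V ≃ₗ[F] V) :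
    ((orec1_cj e T : V' ≃ₗ[F] V') : V' →ₗ[F] V') = e.conjAlgEquiv F (T : V →ₗ[F] V) := by
  ext x
  simp [orec1_cj_apply, LinearEquiv.conjAlgEquiv_apply]

theorem orec1_cj_aeval (e : V ≃ₗ[F] V') (T : V ≃ₗ[F] V) (p : F[X]) :
    aeval ((orec1_cj e T : V' ≃ₗ[F] V') : V' →ₗ[F] V') p
      = e.conjAlgEquiv F (aeval (T : V →ₗ[F] V) p) := by
  rw [orec1_cj_coe]
  exact Polynomial.aeval_algHom_apply (e.conjAlgEquiv F) (T : V →ₗ[F] V) p

theorem orec1_cj_isCyc (e : V ≃ₗ[F] V') (T : V ≃ₗ[F] V) (h : IsCyc T) : IsCyc (orec1_cj e T) := by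
  obtain ⟨v, hv⟩ := h
  refine ⟨e v, fun x => ?_⟩
  obtain ⟨p, hp⟩ := hv (e.symm x)
  refine ⟨p, ?_⟩
  rw [orec1_cj_aeval, LinearEquiv.conjAlgEquiv_apply]
  simp only [LinearMap.comp_apply, LinearEquiv.coe_coe, LinearEquiv.symm_apply_apply]
  rw [← hp, LinearEquiv.apply_symm_apply]

theorem orec1_cj_solP (e : V ≃ₗ[F] V') (T : V ≃ₗ[F] V) (D E : Fˣ) (p : F[X])
    (h : SolP T D E p) : SolP (orec1_cj e T) D E p := by
  obtain ⟨A, y, h1, h2, h3, h4⟩ := h
  refine ⟨orec1_cj e A, orec1_cj e y, ?_, ?_, ?_, ?_⟩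
  · rw [← orec1_cj_mul, h1, orec1_cj_mul, orec1_cj_mul, orec1_cj_inv]
  · rw [orec1_cj, LinearEquiv.det_conj, h2]
  · rw [orec1_cj, LinearEquiv.det_conj, h3]
  · rw [orec1_cj_aeval, h4, map_zero]

end conj



section field
variable {F : Type u} [Field F] [Fintype F] {L : Type v} [Field L] [Finite L] [Algebra F L]

noncomputable def orec1_mulE : Lˣ →* (L ≃ₗ[F] L) :=
  (LinearMap.GeneralLinearGroup.generalLinearEquiv F L).toMonoidHom.comp
    (Units.map ((Algebra.lmul F L : L →ₐ[F] Module.End F L) : L →* Module.End F L))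

theorem orec1_mulE_apply (a : Lˣ) (x : L) : orec1_mulE (F := F) a x = a * x := by
  simp [orec1_mulE]

theorem orec1_mulE_coe (a : Lˣ) :
    ((orec1_mulE (F := F) a : L ≃ₗ[F] L) : L →ₗ[F] L) = Algebra.lmul F L (a : L) := by
  ext x
  simp [orec1_mulE_apply]

theorem orec1_det_mulE (a : Lˣ) :
    LinearEquiv.det (orec1_mulE (F := F) a) = Units.map (Algebra.norm F : L →* F) a := by
  apply Units.ext
  rw [LinearEquiv.coe_det, orec1_mulE_coe]
  rfl

noncomputable def orec1_frob : L ≃ₗ[F] L :=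
  (FiniteField.frobeniusAlgEquivOfAlgebraic F L).toLinearEquiv

theorem orec1_frob_apply (x : L) : orec1_frob (F := F) x = x ^ Fintype.card F := rfl

end field



theorem orec1_arith (q d e : ℕ) (hq : 2 ≤ q) (he1 : 1 ≤ e) (hed : e < d)
    (h : (q ^ d - 1) / (q - 1) ∣ q ^ e - 1) : False := by
  obtain ⟨r, rfl⟩ : ∃ r, q = r + 2 := ⟨q - 2, by omega⟩
  have hdvd : (r + 2 - 1) ∣ (r + 2) ^ d - 1 := by
    exact Nat.sub_one_dvd_pow_sub_one _ _
  obtain ⟨M, hM⟩ := hdvd
  have hr1 : r + 2 - 1 = r + 1 := by omega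
  rw [hr1] at hM h
  have hMdiv : ((r + 2) ^ d - 1) / (r + 1) = M := by
    rw [hM]
    exact Nat.mul_div_cancel_left M (by omega)
  rw [hMdiv] at h
  have hpos : 0 < (r + 2) ^ e - 1 := by
    have : 2 ^ 1 ≤ (r + 2) ^ e :=
      le_trans (Nat.pow_le_pow_left (by omega) 1) (Nat.pow_le_pow_right (by omega) he1)
    omega
  have hle : M ≤ (r + 2) ^ e - 1 := Nat.le_of_dvd hpos h
  obtain ⟨b, hb⟩ : ∃ b, (r + 2) ^ e = b + 1 := ⟨(r + 2) ^ e - 1, by omega⟩
  have h1 : (r + 2) ^ (e + 1) ≤ (r + 2) ^ d := Nat.pow_le_pow_right (by omega) hed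
  have h2 : (r + 2) ^ (e + 1) = (b + 1) * (r + 2) := by rw [pow_succ, hb]
  have h3 : (r + 1) * M ≤ (r + 1) * b := by
    apply Nat.mul_le_mul_left
    omega
  have h4 : (b + 1) * (r + 2) = (r + 1) * b + b + r + 2 := by ring
  omega

section field
variable {F : Type u} [Field F] [Fintype F] {L : Type v} [Field L] [Finite L] [Algebra F L]

theorem orec1_adjoin_top (d : ℕ) (hfr : finrank F L = d) (ζ : Lˣ)
    (hordζ : orderOf ζ = Fintype.card F ^ d - 1) :
    Algebra.adjoin F {((ζ ^ (Fintype.card F - 1) : Lˣ) : L)} = ⊤ := by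
  classical
  set q := Fintype.card F with hq
  have hq2 : 2 ≤ q := Fintype.one_lt_card
  set η : Lˣ := ζ ^ (q - 1) with hη
  have hint : IsIntegral F (η : L) := Algebra.IsIntegral.isIntegral _
  set K := IntermediateField.adjoin F {(η : L)} with hK
  have hKsub : K.toSubalgebra = Algebra.adjoin F {(η : L)} :=
    IntermediateField.adjoin_simple_toSubalgebra_of_isAlgebraic hint.isAlgebraic
  rw [← hKsub]
  have : Fintype K := Fintype.ofFinite K
  set e := finrank F K with he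
  have he1 : 1 ≤ e := Module.finrank_pos
  have hed : e ≤ d := by
    rw [← hfr]
    exact Submodule.finrank_le K.toSubalgebra.toSubmodule
  have hcardK : Fintype.card K = q ^ e := Module.card_eq_pow_finrank (K := F) (V := K)
  have hηK : (η : L) ∈ K := IntermediateField.mem_adjoin_simple_self F (η : L)
  have hpow : (η : L) ^ (q ^ e - 1) = 1 := by
    have h0 : (⟨(η : L), hηK⟩ : K) ≠ 0 := by
      intro h
      have := congrArg Subtype.val h
      exact η.ne_zero this
    have h1 := FiniteField.pow_card_sub_one_eq_one (⟨(η : L), hηK⟩ : K) h0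
    rw [hcardK] at h1
    have := congrArg Subtype.val h1
    simpa using this
  have hpow' : η ^ (q ^ e - 1) = 1 := by
    apply Units.ext
    rw [Units.val_pow_eq_pow_val, hpow, Units.val_one]
  have hord : orderOf η ∣ q ^ e - 1 := orderOf_dvd_of_pow_eq_one hpow'
  have hordη : orderOf η = (q ^ d - 1) / (q - 1) := by
    rw [hη, orderOf_pow' ζ (by omega), hordζ]
    congr 1
    apply Nat.gcd_eq_right
    exact Nat.sub_one_dvd_pow_sub_one _ _
  rw [hordη] at hord
  have hed' : e = d := by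
    rcases Nat.lt_or_ge e d with h | h
    · exact (orec1_arith q d e hq2 he1 h hord).elim
    · omega
  have htop : K.toSubalgebra.toSubmodule = ⊤ := by
    apply Submodule.eq_top_of_finrank_eq
    rw [hfr, ← hed']
    rfl
  exact Algebra.toSubmodule_eq_top.mp htop

end field


section main
variable {F : Type u} [Field F] [Fintype F] {L : Type v} [Field L] [Finite L] [Algebra F L]

theorem orec1_main (d : ℕ) (hfr : finrank F L = d) :
    ∃ (m : L ≃ₗ[F] L) (p : F[X]) (D₀ : Fˣ),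
      IsCyc m ∧ LinearEquiv.det m = 1 ∧
      (∀ k : ℕ, ¬ (Fintype.card F ^ d - 1 ∣ k) → IsCoprime p (X ^ k - 1)) ∧
      ∀ E' : Fˣ, SolP m D₀ E' p := by
  classical
  set q := Fintype.card F with hq
  have hq2 : 2 ≤ q := Fintype.one_lt_card
  haveI : Fintype L := Fintype.ofFinite L
  have hcardL : Fintype.card L = q ^ d := by
    rw [Module.card_eq_pow_finrank (K := F) (V := L), hfr]
  obtain ⟨ζ, hζ⟩ := IsCyclic.exists_generator (α := Lˣ)
  have hordζ : orderOf ζ = q ^ d - 1 := by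
    rw [orderOf_eq_card_of_forall_mem_zpowers hζ, Nat.card_eq_fintype_card, Fintype.card_units,
      hcardL]
  have hadj := orec1_adjoin_top (F := F) (L := L) d hfr ζ hordζ
  set η : Lˣ := ζ ^ (q - 1) with hη
  set N : Lˣ →* Fˣ := Units.map (Algebra.norm F : L →* F) with hN
  have hNsurj : Function.Surjective N := FiniteField.unitsMap_norm_surjective F L
  refine ⟨orec1_mulE η, minpoly F (ζ : L), N ζ, ?_, ?_, ?_, ?_⟩
  · refine ⟨1, fun x => ?_⟩
    have hx : x ∈ Algebra.adjoin F {(η : L)} := by rw [hadj]; trivial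
    rw [Algebra.adjoin_singleton_eq_range_aeval] at hx
    obtain ⟨P, hP⟩ := hx
    refine ⟨P, ?_⟩
    rw [orec1_mulE_coe, Polynomial.aeval_algHom_apply]
    change x = (aeval (η : L) P) * 1
    rw [mul_one]
    exact hP.symm
  · rw [orec1_det_mulE, hη, map_pow]
    have h1 : Fintype.card Fˣ = q - 1 := by rw [Fintype.card_units]
    rw [← h1]
    exact pow_card_eq_one
  · intro k hk
    rw [(minpoly.irreducible (Algebra.IsIntegral.isIntegral (ζ : L))).coprime_iff_not_dvd]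
    intro hdvd
    apply hk
    have h1 : aeval (ζ : L) (X ^ k - 1 : F[X]) = 0 := by
      obtain ⟨c, hc⟩ := hdvd
      rw [hc, map_mul, minpoly.aeval, zero_mul]
    have h2 : (ζ : L) ^ k = 1 := by
      simpa [sub_eq_zero] using h1
    have h3 : ζ ^ k = 1 := by
      apply Units.ext
      rw [Units.val_pow_eq_pow_val, h2, Units.val_one]
    rw [← hordζ]
    exact orderOf_dvd_of_pow_eq_one h3
  · intro E'
    obtain ⟨z, hz⟩ := hNsurj (E' * (LinearEquiv.det (orec1_frob (F := F) (L := L)))⁻¹)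
    refine ⟨orec1_mulE ζ, orec1_frob * orec1_mulE z, ?_, orec1_det_mulE ζ, ?_, ?_⟩
    · rw [eq_mul_inv_iff_mul_eq]
      ext x
      simp only [LinearEquiv.mul_apply, orec1_mulE_apply, orec1_frob_apply]
      have h1 : (ζ : L) * ((η : Lˣ) : L) = (ζ : L) ^ q := by
        rw [hη, Units.val_pow_eq_pow_val, ← pow_succ']
        congr 1
        omega
      rw [← mul_assoc, h1, mul_pow, mul_pow, mul_pow]
      ring
    · rw [map_mul, orec1_det_mulE]
      change LinearEquiv.det (orec1_frob (F := F) (L := L)) * N z = E'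
      rw [hz, mul_comm E', ← mul_assoc, mul_inv_cancel, one_mul]
    · rw [orec1_mulE_coe, Polynomial.aeval_algHom_apply, minpoly.aeval, map_zero]

end main

section General
variable {F : Type u} [Field F]

theorem field_piece [Fintype F] (d : ℕ) (hd : 1 ≤ d) :
    ∃ (m : (Fin d → F) ≃ₗ[F] (Fin d → F)) (p : F[X]) (D₀ : Fˣ),
      IsCyc m ∧ LinearEquiv.det m = 1 ∧
      (∀ k : ℕ, ¬ (Fintype.card F ^ d - 1 ∣ k) → IsCoprime p (X ^ k - 1)) ∧
      ∀ E' : Fˣ, SolP m D₀ E' p := by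
  haveI : Fact (ringChar F).Prime := ⟨CharP.char_is_prime F (ringChar F)⟩
  haveI : NeZero d := ⟨by omega⟩
  have hfr : finrank F (FiniteField.Extension F (ringChar F) d) = d :=
    FiniteField.finrank_extension F (ringChar F) d
  obtain ⟨m₀, p, D₀, h1, h2, h3, h4⟩ :=
    orec1_main (F := F) (L := FiniteField.Extension F (ringChar F) d) d hfr
  obtain ⟨e⟩ : Nonempty (FiniteField.Extension F (ringChar F) d ≃ₗ[F] (Fin d → F)) :=
    ⟨(Module.finBasisOfFinrankEq F _ hfr).equivFun⟩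
  refine ⟨orec1_cj e m₀, p, D₀, orec1_cj_isCyc e m₀ h1, ?_, h3, fun E' => orec1_cj_solP e m₀ D₀ E' p (h4 E')⟩
  rw [orec1_cj, LinearEquiv.det_conj, h2]

end General

end Cfsg.Agent.Lib.Helper19.ORE
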