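import Mathlib
import Cfsg.Prelude.Def_AxialAlgebras
import Cfsg.Agent.Lib.Helper24.SAK.Defs
import Cfsg.Agent.Lib.Helper22.SAKA11

set_option autoImplicit false

namespace Cfsg.Agent.Lib.Helper24.SAK

open Cfsg.Axial

variable {V : Type*} [AddCommGroup V] [Module ℝ V]

theorem sakb4_core {mul : V →ₗ[ℝ] V →ₗ[ℝ] V} {B : LinearMap.BilinForm ℝ V} {μ₀ μ₁ : V ≃ₗ[ℝ] V}
    {am2 am1 a0 a1 a2 a3 s1 s2e s2o : V} {l m n k p q r : ℝ}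
    (hact : μ₀ a0 = a0 ∧ μ₀ a1 = am1 ∧ μ₀ am1 = a1 ∧ μ₀ a2 = am2 ∧ μ₀ am2 = a2 ∧
      μ₁ a1 = a1 ∧ μ₁ a0 = a2 ∧ μ₁ a2 = a0 ∧ μ₁ am1 = a3 ∧ μ₁ a3 = am1)
    (h : Dih mul B μ₀ μ₁ am2 am1 a0 a1 a2 a3 s1 s2e s2o l m n k p q r) :
    μ₀ s1 = s1 ∧ μ₁ s1 = s1 ∧ μ₀ s2e = s2e ∧ μ₁ s2e = s2e ∧ μ₀ s2o = s2o ∧ μ₁ s2o = s2o := by
  obtain ⟨⟨hV, h0, h1, n0, n1⟩, ha2, ham1, ham2, ha3, hs1, hs2e, hs2o, hl, hm, hn, hk, hp, hq, hr⟩ := h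
  obtain ⟨f00, f01, f0m1, f02, f0m2, f11, f10, f12, f1m1, f13⟩ := hact
  have hcomm := hV.1
  have hm0 : ∀ u v : V, μ₀ (mul u v) = mul (μ₀ u) (μ₀ v) := h0.1
  have hm1 : ∀ u v : V, μ₁ (mul u v) = mul (μ₁ u) (μ₁ v) := h1.1
  have hs1' : s1 = sg mul a1 a0 := by
    rw [hs1]
    unfold sg
    rw [hcomm a0 a1, add_comm a0 a1]
  refine ⟨?_, ?_, ?_, ?_, ?_, ?_⟩
  · rw [hs1]
    exact sg_fix hV h0 n0 a1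
  · rw [hs1']
    exact sg_fix hV h1 n1 a0
  · rw [hs2e]
    exact sg_fix hV h0 n0 a2
  · rw [hs2e]
    unfold sg
    rw [map_sub, map_smul, map_add, hm1, f10, f12, hcomm a2 a0, add_comm a2 a0]
  · rw [hs2o]
    unfold sg
    rw [map_sub, map_smul, map_add, hm0, f01, f0m1, hcomm am1 a1, add_comm am1 a1]
  · rw [hs2o]
    exact sg_fix hV h1 n1 am1

end Cfsg.Agent.Lib.Helper24.SAK
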