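import Mathlib
import Cfsg.Prelude.Def_AxialAlgebras
import Cfsg.Agent.Lib.Helper24.SAK.Defs
import Cfsg.Agent.Lib.Helper12.SAKB3core
import Cfsg.Agent.Lib.helper2.SAKA1
import Cfsg.Agent.Lib.Helper26.SAKA2

set_option autoImplicit false

namespace Cfsg.Agent.Lib.Helper24.SAK

open Cfsg.Axial

variable {V : Type*} [AddCommGroup V] [Module ℝ V]

theorem sakbr_act {mul : V →ₗ[ℝ] V →ₗ[ℝ] V} {B : LinearMap.BilinForm ℝ V} {μ₀ μ₁ : V ≃ₗ[ℝ] V}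
    {am2 am1 a0 a1 a2 a3 s1 s2e s2o : V} {l m n k p q r : ℝ}
    (h : Dih mul B μ₀ μ₁ am2 am1 a0 a1 a2 a3 s1 s2e s2o l m n k p q r) :
    μ₀ a0 = a0 ∧ μ₀ a1 = am1 ∧ μ₀ am1 = a1 ∧ μ₀ a2 = am2 ∧ μ₀ am2 = a2 ∧
      μ₁ a1 = a1 ∧ μ₁ a0 = a2 ∧ μ₁ a2 = a0 ∧ μ₁ am1 = a3 ∧ μ₁ a3 = am1 :=
  sakb3_core (fun _ _ h v => mu_invol h v) (fun _ _ h => mu_fix h) h

end Cfsg.Agent.Lib.Helper24.SAK
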