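import Mathlib
import Cfsg.Prelude.Def_AxialAlgebras
import Cfsg.Agent.Lib.Helper24.SAK.Defs

set_option autoImplicit false

namespace Cfsg.Agent.Lib.Helper24.SAK

open Cfsg.Axial

variable {V : Type*} [AddCommGroup V] [Module ℝ V]

theorem eq_of_form {mul : V →ₗ[ℝ] V →ₗ[ℝ] V} {B : LinearMap.BilinForm ℝ V}
    (hV : IsMajoranaAmbient mul B) (x y : V) (hx : B x x = 1) (hy : B y y = 1) (hxy : B x y = 1) : x = y := by
  obtain ⟨-, hsym, hpos, -, -⟩ := hV
  by_contra hne
  have hd : x - y ≠ 0 := sub_ne_zero.mpr hne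
  have h1 := hpos (x - y) hd
  have h2 : B (x - y) (x - y) = B x x - B x y - B y x + B y y := by
    simp only [map_sub, LinearMap.sub_apply]
    ring
  rw [h2, hsym y x, hx, hy, hxy] at h1
  norm_num at h1

end Cfsg.Agent.Lib.Helper24.SAK
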