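import Cfsg.Agent.Lib.helper17.SLN.Defs

set_option autoImplicit false

namespace Cfsg.Agent.Lib.helper17.SLN

open Cfsg.Agent.Lib.helper17.SLP

universe w

section A

variable {ι : Type w} [Fintype ι] [DecidableEq ι]

theorem slna1_step (τ : Equiv.Perm ι) (a t : ι) : (Equiv.swap (τ a) t * τ) a = t := by
  simp

theorem slna1_keep (τ : Equiv.Perm ι) (a t b : ι) (h1 : τ b ≠ τ a) (h2 : τ b ≠ t) :
    (Equiv.swap (τ a) t * τ) b = τ b := by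
  simp [Equiv.swap_apply_of_ne_of_ne h1 h2]

theorem slna1_perm2 (a0 a1 b0 b1 : ι) (ha : a0 ≠ a1) (hb : b0 ≠ b1) :
    ∃ τ : Equiv.Perm ι, τ a0 = b0 ∧ τ a1 = b1 := by
  let τ1 : Equiv.Perm ι := Equiv.swap ((1 : Equiv.Perm ι) a0) b0 * 1
  have h10 : τ1 a0 = b0 := slna1_step 1 a0 b0
  let τ2 : Equiv.Perm ι := Equiv.swap (τ1 a1) b1 * τ1
  have h21 : τ2 a1 = b1 := slna1_step τ1 a1 b1
  have h20 : τ2 a0 = b0 := by
    have := slna1_keep τ1 a1 b1 a0 (fun h => ha (τ1.injective h)) (by rw [h10]; exact hb)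
    rw [this, h10]
  exact ⟨τ2, h20, h21⟩

theorem slna1_perm3 (a0 a1 a2 b0 b1 b2 : ι) (ha01 : a0 ≠ a1) (ha02 : a0 ≠ a2) (ha12 : a1 ≠ a2)
    (hb01 : b0 ≠ b1) (hb02 : b0 ≠ b2) (hb12 : b1 ≠ b2) :
    ∃ τ : Equiv.Perm ι, τ a0 = b0 ∧ τ a1 = b1 ∧ τ a2 = b2 := by
  obtain ⟨τ2, h20, h21⟩ := slna1_perm2 a0 a1 b0 b1 ha01 hb01
  let τ3 : Equiv.Perm ι := Equiv.swap (τ2 a2) b2 * τ2
  have h32 : τ3 a2 = b2 := slna1_step τ2 a2 b2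
  have h30 : τ3 a0 = b0 := by
    have := slna1_keep τ2 a2 b2 a0 (fun h => ha02 (τ2.injective h)) (by rw [h20]; exact hb02)
    rw [this, h20]
  have h31 : τ3 a1 = b1 := by
    have := slna1_keep τ2 a2 b2 a1 (fun h => ha12 (τ2.injective h)) (by rw [h21]; exact hb12)
    rw [this, h21]
  exact ⟨τ3, h30, h31, h32⟩

theorem slna1_perm4 (a0 a1 a2 a3 b0 b1 b2 b3 : ι) (ha01 : a0 ≠ a1) (ha02 : a0 ≠ a2) (ha03 : a0 ≠ a3)
    (ha12 : a1 ≠ a2) (ha13 : a1 ≠ a3) (ha23 : a2 ≠ a3)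
    (hb01 : b0 ≠ b1) (hb02 : b0 ≠ b2) (hb03 : b0 ≠ b3) (hb12 : b1 ≠ b2) (hb13 : b1 ≠ b3)
    (hb23 : b2 ≠ b3) :
    ∃ τ : Equiv.Perm ι, τ a0 = b0 ∧ τ a1 = b1 ∧ τ a2 = b2 ∧ τ a3 = b3 := by
  obtain ⟨τ3, h30, h31, h32⟩ := slna1_perm3 a0 a1 a2 b0 b1 b2 ha01 ha02 ha12 hb01 hb02 hb12
  let τ4 : Equiv.Perm ι := Equiv.swap (τ3 a3) b3 * τ3
  have h43 : τ4 a3 = b3 := slna1_step τ3 a3 b3
  have h40 : τ4 a0 = b0 := by
    have := slna1_keep τ3 a3 b3 a0 (fun h => ha03 (τ3.injective h)) (by rw [h30]; exact hb03)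
    rw [this, h30]
  have h41 : τ4 a1 = b1 := by
    have := slna1_keep τ3 a3 b3 a1 (fun h => ha13 (τ3.injective h)) (by rw [h31]; exact hb13)
    rw [this, h31]
  have h42 : τ4 a2 = b2 := by
    have := slna1_keep τ3 a3 b3 a2 (fun h => ha23 (τ3.injective h)) (by rw [h32]; exact hb23)
    rw [this, h32]
  exact ⟨τ4, h40, h41, h42, h43⟩

theorem slna1_sign_mul_swap (τ : Equiv.Perm ι) (x y : ι) (hxy : x ≠ y)
    (hτ : Equiv.Perm.sign τ ≠ 1) : Equiv.Perm.sign (τ * Equiv.swap x y) = 1 := by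
  rcases Int.units_eq_one_or (Equiv.Perm.sign τ) with h | h
  · exact absurd h hτ
  · rw [Equiv.Perm.sign_mul, h, Equiv.Perm.sign_swap hxy]
    decide

theorem exists_move2 (p : Pts ι) (i j : ι) (hij : i ≠ j) :
    ∃ σ : alternatingGroup ι, (σ : Equiv.Perm ι) p.o0 = i ∧ (σ : Equiv.Perm ι) p.o1 = j := by
  obtain ⟨τ, h0, h1⟩ := slna1_perm2 p.o0 p.o1 i j p.h01 hij
  by_cases hs : Equiv.Perm.sign τ = 1
  · exact ⟨⟨τ, Equiv.Perm.mem_alternatingGroup.mpr hs⟩, h0, h1⟩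
  · refine ⟨⟨τ * Equiv.swap p.o2 p.o3,
      Equiv.Perm.mem_alternatingGroup.mpr (slna1_sign_mul_swap τ _ _ p.h23 hs)⟩, ?_, ?_⟩
    · show (τ * Equiv.swap p.o2 p.o3) p.o0 = i
      rw [Equiv.Perm.mul_apply, Equiv.swap_apply_of_ne_of_ne p.h02 p.h03, h0]
    · show (τ * Equiv.swap p.o2 p.o3) p.o1 = j
      rw [Equiv.Perm.mul_apply, Equiv.swap_apply_of_ne_of_ne p.h12 p.h13, h1]

theorem sig_spec (p : Pts ι) (i j : ι) (hij : i ≠ j) :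
    (sig p i j : Equiv.Perm ι) p.o0 = i ∧ (sig p i j : Equiv.Perm ι) p.o1 = j := by
  have h := exists_move2 p i j hij
  unfold sig
  rw [dif_pos h]
  exact h.choose_spec

theorem exists_move3 (p : Pts ι) (i j k : ι) (hij : i ≠ j) (hik : i ≠ k) (hjk : j ≠ k) :
    ∃ σ : alternatingGroup ι, (σ : Equiv.Perm ι) p.o2 = k ∧
      (((σ : Equiv.Perm ι) p.o0 = i ∧ (σ : Equiv.Perm ι) p.o1 = j) ∨
        ((σ : Equiv.Perm ι) p.o1 = i ∧ (σ : Equiv.Perm ι) p.o0 = j)) := by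
  obtain ⟨τ, h0, h1, h2⟩ := slna1_perm3 p.o0 p.o1 p.o2 i j k p.h01 p.h02 p.h12 hij hik hjk
  by_cases hs : Equiv.Perm.sign τ = 1
  · exact ⟨⟨τ, Equiv.Perm.mem_alternatingGroup.mpr hs⟩, h2, Or.inl ⟨h0, h1⟩⟩
  · refine ⟨⟨τ * Equiv.swap p.o0 p.o1,
      Equiv.Perm.mem_alternatingGroup.mpr (slna1_sign_mul_swap τ _ _ p.h01 hs)⟩, ?_, Or.inr ⟨?_, ?_⟩⟩
    · show (τ * Equiv.swap p.o0 p.o1) p.o2 = k
      rw [Equiv.Perm.mul_apply, Equiv.swap_apply_of_ne_of_ne p.h02.symm p.h12.symm, h2]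
    · show (τ * Equiv.swap p.o0 p.o1) p.o1 = i
      rw [Equiv.Perm.mul_apply, Equiv.swap_apply_right, h0]
    · show (τ * Equiv.swap p.o0 p.o1) p.o0 = j
      rw [Equiv.Perm.mul_apply, Equiv.swap_apply_left, h1]

theorem exists_move4 (p : Pts ι) (i j k l : ι) (hij : i ≠ j) (hik : i ≠ k) (hil : i ≠ l) (hjk : j ≠ k)
    (hjl : j ≠ l) (hkl : k ≠ l) :
    ∃ σ : alternatingGroup ι, (σ : Equiv.Perm ι) p.o2 = k ∧ (σ : Equiv.Perm ι) p.o3 = l ∧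
      (((σ : Equiv.Perm ι) p.o0 = i ∧ (σ : Equiv.Perm ι) p.o1 = j) ∨
        ((σ : Equiv.Perm ι) p.o1 = i ∧ (σ : Equiv.Perm ι) p.o0 = j)) := by
  obtain ⟨τ, h0, h1, h2, h3⟩ := slna1_perm4 p.o0 p.o1 p.o2 p.o3 i j k l p.h01 p.h02 p.h03 p.h12 p.h13
    p.h23 hij hik hil hjk hjl hkl
  by_cases hs : Equiv.Perm.sign τ = 1
  · exact ⟨⟨τ, Equiv.Perm.mem_alternatingGroup.mpr hs⟩, h2, h3, Or.inl ⟨h0, h1⟩⟩
  · refine ⟨⟨τ * Equiv.swap p.o0 p.o1,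
      Equiv.Perm.mem_alternatingGroup.mpr (slna1_sign_mul_swap τ _ _ p.h01 hs)⟩, ?_, ?_,
      Or.inr ⟨?_, ?_⟩⟩
    · show (τ * Equiv.swap p.o0 p.o1) p.o2 = k
      rw [Equiv.Perm.mul_apply, Equiv.swap_apply_of_ne_of_ne p.h02.symm p.h12.symm, h2]
    · show (τ * Equiv.swap p.o0 p.o1) p.o3 = l
      rw [Equiv.Perm.mul_apply, Equiv.swap_apply_of_ne_of_ne p.h03.symm p.h13.symm, h3]
    · show (τ * Equiv.swap p.o0 p.o1) p.o1 = i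
      rw [Equiv.Perm.mul_apply, Equiv.swap_apply_right, h0]
    · show (τ * Equiv.swap p.o0 p.o1) p.o0 = j
      rw [Equiv.Perm.mul_apply, Equiv.swap_apply_left, h1]

end A

end Cfsg.Agent.Lib.helper17.SLN
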