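import Mathlib
import Cfsg.Agent.Lib.helper15.St2
import Cfsg.Agent.Lib.helper7.StA
import Cfsg.Agent.Lib.helper7.StC
import Cfsg.Agent.Lib.helper3.STC.Defs
import Cfsg.Agent.Lib.Helper24.STCB1

set_option autoImplicit false

namespace Cfsg.Agent.Lib.helper3.STC

open Cfsg.Agent.Lib.helper15.St2 Cfsg.Agent.Lib.helper7.St

theorem stcw1_ne_ng {ι : Type*} {a b : ι ⊕ ι} (h : a ≠ ng b) : b ≠ ng a :=
  fun e => h (by rw [e, ng_ng])

namespace SysC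

variable {K : Type*} [Field K] {ι : Type*} {G : Type*} [Group G] (S : SysC K ι G)

theorem cj_w_disj {a b k l : ι ⊕ ι} (hab : a ≠ b) (hkl : k ≠ l)
    (hka : k ≠ a) (hkb : k ≠ b) (hka' : k ≠ ng a) (hkb' : k ≠ ng b)
    (hla : l ≠ a) (hlb : l ≠ b) (hla' : l ≠ ng a) (hlb' : l ≠ ng b) (u t : K) :
    cj (S.w a b u) (S.x k l t) = S.x k l t := by
  unfold w
  rw [← cj_cj, ← cj_cj,
    S.cj_comm hab hkl hkb.symm hla.symm (stcw1_ne_ng hlb') (stcw1_ne_ng hka'),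
    S.cj_comm hab.symm hkl hka.symm hlb.symm (stcw1_ne_ng hla') (stcw1_ne_ng hkb'),
    S.cj_comm hab hkl hkb.symm hla.symm (stcw1_ne_ng hlb') (stcw1_ne_ng hka')]

theorem cj_ws_al {a b l : ι ⊕ ι} (hab : a ≠ b) (hab' : a ≠ ng b) (hla : l ≠ a) (hla' : l ≠ ng a)
    (hlb : l ≠ b) (hlb' : l ≠ ng b) (u t : K) (hu : u ≠ 0) :
    cj (S.w a b u) (S.x a l t) = S.x b l (-(u⁻¹ * t)) := by
  have c1 : ∀ s : K, cj (S.x a b u) (S.x a l s) = S.x a l s := fun s =>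
    S.cj_comm hab hla.symm hab.symm hla.symm (stcw1_ne_ng hlb') (ne_ng a) u s
  have c2 : cj (S.x b a (-u⁻¹)) (S.x a l t) = S.x b l (-u⁻¹ * t) * S.x a l t :=
    S.cj3 hab.symm (stcw1_ne_ng hab') hla.symm (stcw1_ne_ng hla') hlb.symm (stcw1_ne_ng hlb') _ _
  have c3 : cj (S.x a b u) (S.x b l (-u⁻¹ * t)) = S.x a l (u * (-u⁻¹ * t)) * S.x b l (-u⁻¹ * t) :=
    S.cj3 hab hab' hlb.symm (stcw1_ne_ng hlb') hla.symm (stcw1_ne_ng hla') _ _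
  unfold w
  rw [← cj_cj, ← cj_cj, c1, c2, cj_mul, c3, c1]
  have e : u * (-u⁻¹ * t) = -t := by
    field_simp
  rw [e, S.comm a l b l hla.symm hlb.symm hlb hla.symm (ne_ng l) hab', mul_assoc, S.add a l hla.symm,
    neg_add_cancel, S.x_zero, mul_one, neg_mul]

theorem cj_ws_ka {a b k : ι ⊕ ι} (hab : a ≠ b) (hab' : a ≠ ng b) (hka : k ≠ a) (hka' : k ≠ ng a)
    (hkb : k ≠ b) (hkb' : k ≠ ng b) (u t : K) (hu : u ≠ 0) :
    cj (S.w a b u) (S.x k a t) = S.x k b (-(u * t)) := by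
  have s1 : cj (S.x a b u) (S.x k a t) = S.x k b (-(t * u)) * S.x k a t :=
    S.cj3' hab hab' hka hka' hkb hkb' u t
  have s2 : cj (S.x b a (-u⁻¹)) (S.x k b (-(t * u)) * S.x k a t) = S.x k b (-(t * u)) := by
    rw [cj_mul, S.cj3' hab.symm (stcw1_ne_ng hab') hkb hkb' hka hka',
      S.cj_comm hab.symm hka hka.symm hab.symm (ne_ng a) (stcw1_ne_ng hkb')]
    have e : -(-(t * u) * -u⁻¹) = -t := by
      field_simp
    rw [e, S.comm k a k b hka hkb hka.symm hkb hab' (ne_ng k), mul_assoc, S.add k a hka,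
      neg_add_cancel, S.x_zero, mul_one]
  have s3 : cj (S.x a b u) (S.x k b (-(t * u))) = S.x k b (-(t * u)) :=
    S.cj_comm hab hkb hkb.symm hab (ne_ng b) (stcw1_ne_ng hka') _ _
  unfold w
  rw [← cj_cj, ← cj_cj, s1, s2, s3, mul_comm t u]

theorem cj_ws_bl {a b l : ι ⊕ ι} (hab : a ≠ b) (hab' : a ≠ ng b) (hla : l ≠ a) (hla' : l ≠ ng a)
    (hlb : l ≠ b) (hlb' : l ≠ ng b) (u t : K) (hu : u ≠ 0) :
    cj (S.w a b u) (S.x b l t) = S.x a l (u * t) := by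
  have h : S.w a b u = S.w b a (-u⁻¹) := by
    rw [S.w_swap hab.symm u hu]
  rw [h, S.cj_ws_al hab.symm (stcw1_ne_ng hab') hlb hlb' hla hla' _ _
    (neg_ne_zero.2 (inv_ne_zero hu))]
  congr 1
  rw [inv_neg, inv_inv]
  ring

theorem cj_ws_kb {a b k : ι ⊕ ι} (hab : a ≠ b) (hab' : a ≠ ng b) (hka : k ≠ a) (hka' : k ≠ ng a)
    (hkb : k ≠ b) (hkb' : k ≠ ng b) (u t : K) (hu : u ≠ 0) :
    cj (S.w a b u) (S.x k b t) = S.x k a (u⁻¹ * t) := by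
  have h : S.w a b u = S.w b a (-u⁻¹) := by
    rw [S.w_swap hab.symm u hu]
  rw [h, S.cj_ws_ka hab.symm (stcw1_ne_ng hab') hkb hkb' hka hka' _ _
    (neg_ne_zero.2 (inv_ne_zero hu))]
  congr 1
  ring

theorem cj_w_ab {a b : ι ⊕ ι} (hab : a ≠ b) (u t : K) (hu : u ≠ 0) :
    cj (S.w a b u) (S.x a b t) = S.x b a (-(u⁻¹ ^ 2 * t)) :=
  S.rel a b hab u t hu

theorem cj_w_ba {a b : ι ⊕ ι} (hab : a ≠ b) (u t : K) (hu : u ≠ 0) :
    cj (S.w a b u) (S.x b a t) = S.x a b (-(u ^ 2 * t)) :=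
  (S.st a b hab).w_y u t hu

end SysC

end Cfsg.Agent.Lib.helper3.STC
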