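import Mathlib
import Cfsg.Agent.Lib.helper15.St2
import Cfsg.Agent.Lib.helper7.StA
import Cfsg.Agent.Lib.helper7.StC
import Cfsg.Agent.Lib.helper3.STC.Defs
import Cfsg.Agent.Lib.Helper24.STCW1

set_option autoImplicit false

namespace Cfsg.Agent.Lib.helper3.STC

open Cfsg.Agent.Lib.helper15.St2 Cfsg.Agent.Lib.helper7.St

namespace SysC

variable {K : Type*} [Field K] {ι : Type*} {G : Type*} [Group G] (S : SysC K ι G)

variable [DecidableEq ι]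

theorem IsMon.congr {g : G} {σ σ' : Equiv.Perm (ι ⊕ ι)} {d d' : ι ⊕ ι → K} (h : S.IsMon g σ d)
    (hσ : σ = σ') (hd : ∀ k, d k = d' k) : S.IsMon g σ' d' := by
  have : d = d' := funext hd
  subst hσ this
  exact h

theorem IsMon.mul {g g' : G} {σ σ' : Equiv.Perm (ι ⊕ ι)} {d d' : ι ⊕ ι → K} (h : S.IsMon g σ d)
    (h' : S.IsMon g' σ' d') : S.IsMon (g * g') (σ * σ') (fun k => d (σ' k) * d' k) := by
  refine ⟨fun k => mul_ne_zero (h.1 _) (h'.1 _), fun k l hkl t => ?_⟩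
  rw [← cj_cj, h'.2 k l hkl, h.2 (σ' k) (σ' l) (σ'.injective.ne hkl)]
  simp only [Equiv.Perm.mul_apply]
  congr 1
  rw [mul_inv]
  ring

theorem IsMon.inv {g : G} {σ : Equiv.Perm (ι ⊕ ι)} {d : ι ⊕ ι → K} (h : S.IsMon g σ d) :
    S.IsMon g⁻¹ σ⁻¹ (fun k => (d (σ⁻¹ k))⁻¹) := by
  refine ⟨fun k => inv_ne_zero (h.1 _), fun k l hkl t => ?_⟩
  apply cj_inv_of
  rw [h.2 _ _ (σ⁻¹.injective.ne hkl)]
  have h1 := h.1 (σ⁻¹ k)
  have h2 := h.1 (σ⁻¹ l)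
  have e1 : σ (σ⁻¹ k) = k := σ.apply_symm_apply k
  have e2 : σ (σ⁻¹ l) = l := σ.apply_symm_apply l
  rw [e1, e2]
  congr 1
  field_simp

theorem IsMon.cj_w {g : G} {σ : Equiv.Perm (ι ⊕ ι)} {d : ι ⊕ ι → K} (hg : S.IsMon g σ d) {a b : ι ⊕ ι}
    (hab : a ≠ b) (u : K) (hu : u ≠ 0) :
    cj g (S.w a b u) = S.w (σ a) (σ b) (d a * (d b)⁻¹ * u) := by
  unfold w
  rw [cj_mul, cj_mul, hg.2 a b hab, hg.2 b a hab.symm]
  have h1 := hg.1 a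
  have h2 := hg.1 b
  have e : d b * (d a)⁻¹ * -u⁻¹ = -(d a * (d b)⁻¹ * u)⁻¹ := by
    field_simp
  rw [e]

theorem IsMon.cj_h {g : G} {σ : Equiv.Perm (ι ⊕ ι)} {d : ι ⊕ ι → K} (hg : S.IsMon g σ d) {a b : ι ⊕ ι}
    (hab : a ≠ b) (u : K) (hu : u ≠ 0) :
    cj g (S.h a b u) = S.w (σ a) (σ b) (d a * (d b)⁻¹ * u) * S.w (σ a) (σ b) (-(d a * (d b)⁻¹)) := by
  unfold h
  rw [cj_mul, IsMon.cj_w S hg hab u hu, IsMon.cj_w S hg hab (-1) (by simp)]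
  congr 2
  ring

end SysC

end Cfsg.Agent.Lib.helper3.STC
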