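import Mathlib
import Cfsg.Agent.Lib.helper15.St2
import Cfsg.Agent.Lib.helper7.StA
import Cfsg.Agent.Lib.helper7.StC
import Cfsg.Agent.Lib.helper3.STC.Defs
import Cfsg.Agent.Lib.Helper24.STCW1

set_option autoImplicit false

namespace Cfsg.Agent.Lib.helper3.STC

open Cfsg.Agent.Lib.helper15.St2 Cfsg.Agent.Lib.helper7.St

section aux

variable {K : Type*} [Field K] {ι : Type*} [DecidableEq ι]

theorem stcw14_sg_cases (a : ι ⊕ ι) : (sg a : K) = 1 ∨ (sg a : K) = -1 := by
  cases a
  · left; rfl
  · right; rfl

theorem stcw14_sws_a {a b : ι ⊕ ι} (hab' : a ≠ ng b) : sws a b a = b := by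
  unfold sws
  rw [Equiv.Perm.mul_apply, Equiv.swap_apply_of_ne_of_ne (ne_ng a) hab', Equiv.swap_apply_left]

theorem stcw14_sws_b {a b : ι ⊕ ι} (hab' : a ≠ ng b) : sws a b b = a := by
  unfold sws
  rw [Equiv.Perm.mul_apply, Equiv.swap_apply_of_ne_of_ne (stcw1_ne_ng hab') (ne_ng b),
    Equiv.swap_apply_right]

theorem stcw14_sws_na {a b : ι ⊕ ι} (hab' : a ≠ ng b) : sws a b (ng a) = ng b := by
  unfold sws
  rw [Equiv.Perm.mul_apply, Equiv.swap_apply_left,
    Equiv.swap_apply_of_ne_of_ne (Ne.symm hab') (ng_ne b)]

theorem stcw14_sws_nb {a b : ι ⊕ ι} (hab' : a ≠ ng b) : sws a b (ng b) = ng a := by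
  unfold sws
  rw [Equiv.Perm.mul_apply, Equiv.swap_apply_right,
    Equiv.swap_apply_of_ne_of_ne (ng_ne a) (Ne.symm (stcw1_ne_ng hab'))]

theorem stcw14_sws_of_ne {a b k : ι ⊕ ι} (hka : k ≠ a) (hkb : k ≠ b) (hka' : k ≠ ng a)
    (hkb' : k ≠ ng b) : sws a b k = k := by
  unfold sws
  rw [Equiv.Perm.mul_apply, Equiv.swap_apply_of_ne_of_ne hka' hkb',
    Equiv.swap_apply_of_ne_of_ne hka hkb]

theorem stcw14_dws_a (a b : ι ⊕ ι) (u : K) : dws a b u a = -u⁻¹ := by
  unfold dws; rw [if_pos rfl]

theorem stcw14_dws_b {a b : ι ⊕ ι} (hab : a ≠ b) (u : K) : dws a b u b = u := by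
  unfold dws; rw [if_neg hab.symm, if_pos rfl]

theorem stcw14_dws_nb {a b : ι ⊕ ι} (hab' : a ≠ ng b) (u : K) :
    dws a b u (ng b) = sg a * sg b * u⁻¹ := by
  unfold dws; rw [if_neg (Ne.symm hab'), if_neg (ng_ne b), if_pos rfl]

theorem stcw14_dws_na {a b : ι ⊕ ι} (hab : a ≠ b) (hab' : a ≠ ng b) (u : K) :
    dws a b u (ng a) = -(sg a * sg b * u) := by
  unfold dws
  rw [if_neg (ng_ne a), if_neg (Ne.symm (stcw1_ne_ng hab')), if_neg (fun h => hab (ng_inj.mp h)),
    if_pos rfl]

theorem stcw14_dws_of_ne {a b k : ι ⊕ ι} (hka : k ≠ a) (hkb : k ≠ b) (hka' : k ≠ ng a)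
    (hkb' : k ≠ ng b) (u : K) : dws a b u k = 1 := by
  unfold dws; rw [if_neg hka, if_neg hkb, if_neg hkb', if_neg hka']

theorem stcw14_ng_ne {x y : ι ⊕ ι} (h : x ≠ ng y) : ng x ≠ y :=
  fun e => h (by rw [← e, ng_ng])

theorem stcw14_ng_ne' {x y : ι ⊕ ι} (h : x ≠ y) : ng x ≠ ng y :=
  fun e => h (ng_inj.mp e)

end aux

namespace SysC

variable {K : Type*} [Field K] {ι : Type*} {G : Type*} [Group G] (S : SysC K ι G)

variable [DecidableEq ι]

theorem stcw14_core
    (h6 : ∀ {a b : ι ⊕ ι}, a ≠ b → a ≠ ng b → ∀ (u t : K), u ≠ 0 →
      cj (S.w a b u) (S.x a (ng b) t) = S.x a (ng b) (-t))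
    (h7 : ∀ {a b : ι ⊕ ι}, a ≠ b → a ≠ ng b → ∀ (u t : K), u ≠ 0 →
      cj (S.w a b u) (S.x (ng a) b t) = S.x (ng a) b (-t))
    (h8 : ∀ {a b : ι ⊕ ι}, a ≠ b → a ≠ ng b → ∀ (u t : K), u ≠ 0 →
      cj (S.w a b u) (S.x a (ng a) t) = S.x b (ng b) (sg a * sg b * (u⁻¹ ^ 2 * t)))
    (h9 : ∀ {a b : ι ⊕ ι}, a ≠ b → a ≠ ng b → ∀ (u t : K), u ≠ 0 →
      cj (S.w a b u) (S.x b (ng b) t) = S.x a (ng a) (sg a * sg b * (u ^ 2 * t)))
    (h10a : ∀ {a b : ι ⊕ ι}, a ≠ b → a ≠ ng b → ∀ (u t : K), u ≠ 0 →
      cj (S.w a b u) (S.x (ng a) a t) = S.x (ng b) b (sg a * sg b * (u ^ 2 * t)))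
    (h10b : ∀ {a b : ι ⊕ ι}, a ≠ b → a ≠ ng b → ∀ (u t : K), u ≠ 0 →
      cj (S.w a b u) (S.x (ng b) b t) = S.x (ng a) a (sg a * sg b * (u⁻¹ ^ 2 * t)))
    {a b : ι ⊕ ι} (hab : a ≠ b) (hab' : a ≠ ng b) (u : K) (hu : u ≠ 0) :
    S.IsMon (S.w a b u) (sws a b) (dws a b u) := by
  have hba' : b ≠ ng a := stcw1_ne_ng hab'
  have hnanb : ng a ≠ ng b := stcw14_ng_ne' hab
  refine ⟨fun k => ?_, fun k l hkl t => ?_⟩
  · unfold dws
    split_ifs
    · exact neg_ne_zero.2 (inv_ne_zero hu)
    · exact hu
    · exact mul_ne_zero (mul_ne_zero (sg_ne_zero a) (sg_ne_zero b)) (inv_ne_zero hu)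
    · exact neg_ne_zero.2 (mul_ne_zero (mul_ne_zero (sg_ne_zero a) (sg_ne_zero b)) hu)
    · exact one_ne_zero
  · by_cases hka : k = a
    · subst hka
      rw [stcw14_sws_a hab', stcw14_dws_a]
      by_cases hlb : l = b
      · subst hlb
        rw [stcw14_sws_b hab', stcw14_dws_b hab, S.cj_w_ab hab u t hu]
        congr 1
        field_simp
      · by_cases hlnb : l = ng b
        · subst hlnb
          rw [stcw14_sws_nb hab', stcw14_dws_nb hab', h6 hab hab' u t hu, S.sym k (ng b) hab' (-t), ng_ng,
            sg_ng]
          congr 1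
          rcases stcw14_sg_cases (K := K) k with ha | ha <;>
            rcases stcw14_sg_cases (K := K) b with hb | hb <;> simp only [ha, hb] <;> field_simp
        · by_cases hlna : l = ng k
          · subst hlna
            rw [stcw14_sws_na hab', stcw14_dws_na hab hab', h8 hab hab' u t hu]
            congr 1
            rcases stcw14_sg_cases (K := K) k with ha | ha <;>
              rcases stcw14_sg_cases (K := K) b with hb | hb <;> simp only [ha, hb] <;> field_simp
          · rw [stcw14_sws_of_ne (Ne.symm hkl) hlb hlna hlnb, stcw14_dws_of_ne (Ne.symm hkl) hlb hlna hlnb,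
              S.cj_ws_al hab hab' (Ne.symm hkl) hlna hlb hlnb u t hu]
            congr 1
            field_simp
    · by_cases hkb : k = b
      · subst hkb
        rw [stcw14_sws_b hab', stcw14_dws_b hab]
        by_cases hla : l = a
        · subst hla
          rw [stcw14_sws_a hab', stcw14_dws_a, S.cj_w_ba hab u t hu]
          congr 1
          field_simp
        · by_cases hlna : l = ng a
          · subst hlna
            rw [stcw14_sws_na hab', stcw14_dws_na hab hab', S.sym k (ng a) hba' t, ng_ng, sg_ng,
              h6 hab hab' u _ hu]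
            congr 1
            rcases stcw14_sg_cases (K := K) a with ha | ha <;>
              rcases stcw14_sg_cases (K := K) k with hb | hb <;> simp only [ha, hb] <;> field_simp
          · by_cases hlnb : l = ng k
            · subst hlnb
              rw [stcw14_sws_nb hab', stcw14_dws_nb hab', h9 hab hab' u t hu]
              congr 1
              rcases stcw14_sg_cases (K := K) a with ha | ha <;>
                rcases stcw14_sg_cases (K := K) k with hb | hb <;> simp only [ha, hb] <;> field_simp
            · rw [stcw14_sws_of_ne hla (Ne.symm hkl) hlna hlnb,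
                stcw14_dws_of_ne hla (Ne.symm hkl) hlna hlnb,
                S.cj_ws_bl hab hab' hla hlna (Ne.symm hkl) hlnb u t hu]
              congr 1
              field_simp
      · by_cases hkna : k = ng a
        · subst hkna
          rw [stcw14_sws_na hab', stcw14_dws_na hab hab']
          by_cases hla : l = a
          · subst hla
            rw [stcw14_sws_a hab', stcw14_dws_a, h10a hab hab' u t hu]
            congr 1
            rcases stcw14_sg_cases (K := K) l with ha | ha <;>
              rcases stcw14_sg_cases (K := K) b with hb | hb <;> simp only [ha, hb] <;> field_simp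
          · by_cases hlb : l = b
            · subst hlb
              rw [stcw14_sws_b hab', stcw14_dws_b hab, h7 hab hab' u t hu, S.sym (ng a) l hkl (-t), ng_ng,
                sg_ng]
              congr 1
              rcases stcw14_sg_cases (K := K) a with ha | ha <;>
                rcases stcw14_sg_cases (K := K) l with hb | hb <;> simp only [ha, hb] <;> field_simp
            · by_cases hlnb : l = ng b
              · subst hlnb
                rw [stcw14_sws_nb hab', stcw14_dws_nb hab', S.sym (ng a) (ng b) hnanb t, ng_ng, ng_ng,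
                  sg_ng, sg_ng, S.cj_w_ba hab u _ hu, S.sym a b hab]
                congr 1
                rcases stcw14_sg_cases (K := K) a with ha | ha <;>
                  rcases stcw14_sg_cases (K := K) b with hb | hb <;> simp only [ha, hb] <;> field_simp
              · have n1 : ng l ≠ a := stcw14_ng_ne (fun h => hkl (by rw [h]))
                have n2 : ng l ≠ ng a := stcw14_ng_ne' hla
                have n3 : ng l ≠ b := stcw14_ng_ne hlnb
                have n4 : ng l ≠ ng b := stcw14_ng_ne' hlb
                rw [stcw14_sws_of_ne hla hlb (Ne.symm hkl) hlnb,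
                  stcw14_dws_of_ne hla hlb (Ne.symm hkl) hlnb,
                  S.sym (ng a) l hkl t, ng_ng, sg_ng, S.cj_ws_ka hab hab' n1 n2 n3 n4 u _ hu,
                  S.sym (ng l) b n3, ng_ng, sg_ng]
                congr 1
                rcases stcw14_sg_cases (K := K) a with ha | ha <;>
                  rcases stcw14_sg_cases (K := K) b with hb | hb <;>
                  rcases stcw14_sg_cases (K := K) l with hl | hl <;> simp only [ha, hb, hl] <;> field_simp
        · by_cases hknb : k = ng b
          · subst hknb
            rw [stcw14_sws_nb hab', stcw14_dws_nb hab']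
            by_cases hlb : l = b
            · subst hlb
              rw [stcw14_sws_b hab', stcw14_dws_b hab, h10b hab hab' u t hu]
              congr 1
              rcases stcw14_sg_cases (K := K) a with ha | ha <;>
                rcases stcw14_sg_cases (K := K) l with hb | hb <;> simp only [ha, hb] <;> field_simp
            · by_cases hla : l = a
              · subst hla
                rw [stcw14_sws_a hab', stcw14_dws_a, S.sym (ng b) l hkl t, ng_ng, sg_ng,
                  h7 hab hab' u _ hu]
                congr 1
                rcases stcw14_sg_cases (K := K) l with ha | ha <;>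
                  rcases stcw14_sg_cases (K := K) b with hb | hb <;> simp only [ha, hb] <;> field_simp
              · by_cases hlna : l = ng a
                · subst hlna
                  rw [stcw14_sws_na hab', stcw14_dws_na hab hab', S.sym (ng b) (ng a) hnanb.symm t,
                    ng_ng, ng_ng, sg_ng, sg_ng, S.cj_w_ab hab u _ hu, S.sym b a hab.symm]
                  congr 1
                  rcases stcw14_sg_cases (K := K) a with ha | ha <;>
                    rcases stcw14_sg_cases (K := K) b with hb | hb <;> simp only [ha, hb] <;> field_simp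
                · have n1 : ng l ≠ a := stcw14_ng_ne hlna
                  have n2 : ng l ≠ ng a := stcw14_ng_ne' hla
                  have n3 : ng l ≠ b := stcw14_ng_ne (fun h => hkl (by rw [h]))
                  have n4 : ng l ≠ ng b := stcw14_ng_ne' hlb
                  rw [stcw14_sws_of_ne hla hlb hlna (Ne.symm hkl),
                    stcw14_dws_of_ne hla hlb hlna (Ne.symm hkl),
                    S.sym (ng b) l hkl t, ng_ng, sg_ng, S.cj_ws_kb hab hab' n1 n2 n3 n4 u _ hu,
                    S.sym (ng l) a n1, ng_ng, sg_ng]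
                  congr 1
                  rcases stcw14_sg_cases (K := K) a with ha | ha <;>
                    rcases stcw14_sg_cases (K := K) b with hb | hb <;>
                    rcases stcw14_sg_cases (K := K) l with hl | hl <;> simp only [ha, hb, hl] <;>
                    field_simp
          · have m1 : ng k ≠ a := stcw14_ng_ne hkna
            have m2 : ng k ≠ ng a := stcw14_ng_ne' hka
            have m3 : ng k ≠ b := stcw14_ng_ne hknb
            have m4 : ng k ≠ ng b := stcw14_ng_ne' hkb
            rw [stcw14_sws_of_ne hka hkb hkna hknb, stcw14_dws_of_ne hka hkb hkna hknb]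
            by_cases hla : l = a
            · subst hla
              rw [stcw14_sws_a hab', stcw14_dws_a, S.cj_ws_ka hab hab' hka hkna hkb hknb u t hu]
              congr 1
              field_simp
            · by_cases hlb : l = b
              · subst hlb
                rw [stcw14_sws_b hab', stcw14_dws_b hab, S.cj_ws_kb hab hab' hka hkna hkb hknb u t hu]
                congr 1
                field_simp
              · by_cases hlna : l = ng a
                · subst hlna
                  rw [stcw14_sws_na hab', stcw14_dws_na hab hab', S.sym k (ng a) hkna t, ng_ng, sg_ng,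
                    S.cj_ws_al hab hab' m1 m2 m3 m4 u _ hu, S.sym b (ng k) (Ne.symm m3), ng_ng, sg_ng]
                  congr 1
                  rcases stcw14_sg_cases (K := K) a with ha | ha <;>
                    rcases stcw14_sg_cases (K := K) b with hb | hb <;>
                    rcases stcw14_sg_cases (K := K) k with hl | hl <;> simp only [ha, hb, hl] <;>
                    field_simp
                · by_cases hlnb : l = ng b
                  · subst hlnb
                    rw [stcw14_sws_nb hab', stcw14_dws_nb hab', S.sym k (ng b) hknb t, ng_ng, sg_ng,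
                      S.cj_ws_bl hab hab' m1 m2 m3 m4 u _ hu, S.sym a (ng k) (Ne.symm m1), ng_ng, sg_ng]
                    congr 1
                    rcases stcw14_sg_cases (K := K) a with ha | ha <;>
                      rcases stcw14_sg_cases (K := K) b with hb | hb <;>
                      rcases stcw14_sg_cases (K := K) k with hl | hl <;> simp only [ha, hb, hl] <;>
                      field_simp
                  · rw [stcw14_sws_of_ne hla hlb hlna hlnb, stcw14_dws_of_ne hla hlb hlna hlnb,
                      S.cj_w_disj hab hkl hka hkb hkna hknb hla hlb hlna hlnb]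
                    congr 1
                    simp

end SysC

end Cfsg.Agent.Lib.helper3.STC
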