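import Mathlib
import Cfsg.Agent.Lib.helper15.St2
import Cfsg.Agent.Lib.helper7.StA
import Cfsg.Agent.Lib.helper7.StC
import Cfsg.Agent.Lib.helper3.STC.Defs
import Cfsg.Agent.Lib.Helper24.STCW1

set_option autoImplicit false

namespace Cfsg.Agent.Lib.helper3.STC

open Cfsg.Agent.Lib.helper15.St2 Cfsg.Agent.Lib.helper7.St

theorem stcw15_dwl_left {K : Type*} [Field K] {ι : Type*} [DecidableEq ι] (a : ι ⊕ ι) (u : K) :
    dwl a u a = -u⁻¹ := by
  unfold dwl; rw [if_pos rfl]

theorem stcw15_dwl_right {K : Type*} [Field K] {ι : Type*} [DecidableEq ι] (a : ι ⊕ ι) (u : K) :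
    dwl a u (ng a) = u := by
  unfold dwl; rw [if_neg (ng_ne a), if_pos rfl]

theorem stcw15_dwl_of_ne {K : Type*} [Field K] {ι : Type*} [DecidableEq ι] {a k : ι ⊕ ι} (hka : k ≠ a)
    (hka' : k ≠ ng a) (u : K) : dwl a u k = 1 := by
  unfold dwl; rw [if_neg hka, if_neg hka']

theorem stcw15_sg4 {K : Type*} [Field K] {ι : Type*} (a k : ι ⊕ ι) (x : K) :
    (sg a : K) * sg k * (sg k * sg a * x) = x := by
  have h1 := sg_mul_self (K := K) a
  have h2 := sg_mul_self (K := K) k
  calc (sg a : K) * sg k * (sg k * sg a * x) = (sg a * sg a) * (sg k * sg k) * x := by ring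
    _ = x := by rw [h1, h2]; ring

namespace SysC

variable {K : Type*} [Field K] {ι : Type*} {G : Type*} [Group G] (S : SysC K ι G)

variable [DecidableEq ι]

theorem stcw15_core
    (h11 : ∀ {a l : ι ⊕ ι}, l ≠ a → l ≠ ng a → ∀ (u t : K), u ≠ 0 →
      cj (S.w a (ng a) u) (S.x a l t) = S.x (ng a) l (-(u⁻¹ * t)))
    (h12 : ∀ {a l : ι ⊕ ι}, l ≠ a → l ≠ ng a → ∀ (u t : K), u ≠ 0 →
      cj (S.w a (ng a) u) (S.x (ng a) l t) = S.x a l (u * t))
    (a : ι ⊕ ι) (u : K) (hu : u ≠ 0) :
    S.IsMon (S.w a (ng a) u) (Equiv.swap a (ng a)) (dwl a u) := by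
  refine ⟨fun k => ?_, fun k l hkl t => ?_⟩
  · unfold dwl
    split_ifs
    · exact neg_ne_zero.2 (inv_ne_zero hu)
    · exact hu
    · exact one_ne_zero
  · by_cases hka : k = a
    · subst hka
      by_cases hl : l = ng k
      · subst hl
        rw [Equiv.swap_apply_left, Equiv.swap_apply_right, stcw15_dwl_left, stcw15_dwl_right,
          S.cj_w_ab (ne_ng k) u t hu]
        congr 1
        field_simp
      · rw [Equiv.swap_apply_left, Equiv.swap_apply_of_ne_of_ne (Ne.symm hkl) hl, stcw15_dwl_left,
          stcw15_dwl_of_ne (Ne.symm hkl) hl, h11 (Ne.symm hkl) hl u t hu]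
        congr 1
        field_simp
    · by_cases hka' : k = ng a
      · subst hka'
        by_cases hl : l = a
        · subst hl
          rw [Equiv.swap_apply_right, Equiv.swap_apply_left, stcw15_dwl_left, stcw15_dwl_right,
            S.cj_w_ba (ne_ng l) u t hu]
          congr 1
          field_simp
        · rw [Equiv.swap_apply_right, Equiv.swap_apply_of_ne_of_ne hl (Ne.symm hkl), stcw15_dwl_right,
            stcw15_dwl_of_ne hl (Ne.symm hkl), h12 hl (Ne.symm hkl) u t hu]
          congr 1
          field_simp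
      · have hnk : ng k ≠ a := fun h => hka' (by rw [← h, ng_ng])
        have hnk' : ng k ≠ ng a := fun h => hka (ng_inj.mp h)
        by_cases hla : l = a
        · subst hla
          rw [Equiv.swap_apply_of_ne_of_ne hka hka', Equiv.swap_apply_left, stcw15_dwl_left,
            stcw15_dwl_of_ne hka hka', S.sym k l hkl t, h12 hnk hnk' u _ hu,
            S.sym l (ng k) (Ne.symm hnk), ng_ng, sg_ng]
          congr 1
          have := stcw15_sg4 (K := K) l k (u * t)
          rw [inv_neg, inv_inv]
          linear_combination (-1 : K) * this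
        · by_cases hla' : l = ng a
          · subst hla'
            rw [Equiv.swap_apply_of_ne_of_ne hka hka', Equiv.swap_apply_right, stcw15_dwl_right,
              stcw15_dwl_of_ne hka hka', S.sym k (ng a) hka' t, ng_ng, h11 hnk hnk' u _ hu,
              S.sym (ng a) (ng k) (Ne.symm hnk'), ng_ng, ng_ng, sg_ng, sg_ng]
            congr 1
            have := stcw15_sg4 (K := K) a k (u⁻¹ * t)
            linear_combination this
          · rw [Equiv.swap_apply_of_ne_of_ne hka hka', Equiv.swap_apply_of_ne_of_ne hla hla',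
              stcw15_dwl_of_ne hka hka', stcw15_dwl_of_ne hla hla',
              S.cj_w_disj (ne_ng a) hkl hka hka' hka' (by rw [ng_ng]; exact hka) hla hla' hla'
                (by rw [ng_ng]; exact hla)]
            congr 1
            simp

end SysC

end Cfsg.Agent.Lib.helper3.STC
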