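import Mathlib
import Cfsg.Agent.Lib.helper15.St2
import Cfsg.Agent.Lib.helper7.StA
import Cfsg.Agent.Lib.helper7.StC
import Cfsg.Agent.Lib.helper3.STC.Defs
import Cfsg.Agent.Lib.Helper24.STCW14core
import Cfsg.Agent.Lib.Helper24.STCW15core
import Cfsg.Agent.Lib.Lead.STCW6
import Cfsg.Agent.Lib.Helper16.STCW9core

set_option autoImplicit false

namespace Cfsg.Agent.Lib.helper3.STC

open Cfsg.Agent.Lib.helper15.St2 Cfsg.Agent.Lib.helper7.St

namespace SysC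

variable {K : Type*} [Field K] {ι : Type*} {G : Type*} [Group G] (S : SysC K ι G)

theorem stcw14_h9 {a b : ι ⊕ ι} (hab : a ≠ b) (hab' : a ≠ ng b) (u t : K) (hu : u ≠ 0) :
    cj (S.w a b u) (S.x b (ng b) t) = S.x a (ng a) (sg a * sg b * (u ^ 2 * t)) :=
  S.stcw9_core (fun h t ht => S.w_swap h t ht) (fun h h' u t hu => S.cj_ws_ana h h' u t hu) hab hab' u t hu

theorem stcw14_h7 {a b : ι ⊕ ι} (hab : a ≠ b) (hab' : a ≠ ng b) (u t : K) (hu : u ≠ 0) :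
    cj (S.w a b u) (S.x (ng a) b t) = S.x (ng a) b (-t) :=
  S.stcw7_core (fun h t => S.w_sym h t) (fun h h' u t hu => S.cj_ws_anb h h' u t hu) hab hab' u t hu

theorem stcw14_h10 {a b : ι ⊕ ι} (hab : a ≠ b) (hab' : a ≠ ng b) (u t : K) (hu : u ≠ 0) :
    cj (S.w a b u) (S.x (ng a) a t) = S.x (ng b) b (sg a * sg b * (u ^ 2 * t)) ∧
      cj (S.w a b u) (S.x (ng b) b t) = S.x (ng a) a (sg a * sg b * (u⁻¹ ^ 2 * t)) :=
  S.stcw10_core (fun h t => S.w_sym h t) (fun h h' u t hu => S.cj_ws_ana h h' u t hu)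
    (fun h h' u t hu => S.stcw14_h9 h h' u t hu) hab hab' u t hu

theorem stcw15_h12 {a l : ι ⊕ ι} (hla : l ≠ a) (hla' : l ≠ ng a) (u t : K) (hu : u ≠ 0) :
    cj (S.w a (ng a) u) (S.x (ng a) l t) = S.x a l (u * t) :=
  S.stcw12_core (fun h t ht => S.w_swap h t ht) (fun h h' u t hu => S.cj_wl_al h h' u t hu) hla hla' u t hu

variable [DecidableEq ι]

theorem isMon_ws {a b : ι ⊕ ι} (hab : a ≠ b) (hab' : a ≠ ng b) (u : K) (hu : u ≠ 0) :
    S.IsMon (S.w a b u) (sws a b) (dws a b u) :=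
  S.stcw14_core (fun h h' u t hu => S.cj_ws_anb h h' u t hu) (fun h h' u t hu => S.stcw14_h7 h h' u t hu)
    (fun h h' u t hu => S.cj_ws_ana h h' u t hu) (fun h h' u t hu => S.stcw14_h9 h h' u t hu)
    (fun h h' u t hu => (S.stcw14_h10 h h' u t hu).1) (fun h h' u t hu => (S.stcw14_h10 h h' u t hu).2)
    hab hab' u hu

theorem isMon_wl (a : ι ⊕ ι) (u : K) (hu : u ≠ 0) :
    S.IsMon (S.w a (ng a) u) (Equiv.swap a (ng a)) (dwl a u) :=
  S.stcw15_core (fun h h' u t hu => S.cj_wl_al h h' u t hu) (fun h h' u t hu => S.stcw15_h12 h h' u t hu)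
    a u hu

end SysC

end Cfsg.Agent.Lib.helper3.STC
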