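import Mathlib

set_option autoImplicit false
open scoped Pointwise

namespace Cfsg.Agent.Lib.Helper24

section SelfCent

variable {G : Type*} [Group G] {p : ℕ} {x : G}

theorem sc_card_zpowers (hx : orderOf x = p) : Nat.card (Subgroup.zpowers x) = p := by
  rw [Nat.card_zpowers, hx]

theorem sc_zpowers_le_centralizer (x : G) :
    Subgroup.zpowers x ≤ Subgroup.centralizer ({x} : Set G) := by
  rw [Subgroup.zpowers_le]
  intro y hy
  rw [Set.mem_singleton_iff] at hy
  rw [hy]

theorem sc_mem_zpowers_of_commute (hC : Subgroup.centralizer ({x} : Set G) = Subgroup.zpowers x)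
    {g : G} (hg : g * x = x * g) : g ∈ Subgroup.zpowers x := by
  rw [← hC, Subgroup.mem_centralizer_iff]
  intro y hy
  rw [Set.mem_singleton_iff] at hy
  rw [hy, hg]

variable [Finite G]

theorem sc_sylow [Fact p.Prime] (hx : orderOf x = p)
    (hC : Subgroup.centralizer ({x} : Set G) = Subgroup.zpowers x) :
    ∃ P : Sylow p G, (P : Subgroup G) = Subgroup.zpowers x := by
  have hp : p.Prime := Fact.out
  have hXp : IsPGroup p (Subgroup.zpowers x) := IsPGroup.of_card (n := 1) (by rw [sc_card_zpowers hx, pow_one])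
  obtain ⟨P, hXP⟩ := hXp.exists_le_sylow
  refine ⟨P, ?_⟩
  have hxP : x ∈ (P : Subgroup G) := hXP (Subgroup.mem_zpowers x)
  have : Nontrivial (P : Subgroup G) := by
    refine ⟨⟨⟨x, hxP⟩, 1, ?_⟩⟩
    intro h
    have : x = 1 := congrArg Subtype.val h
    rw [this, orderOf_one] at hx
    exact hp.ne_one hx.symm
  have hcn : Nontrivial (Subgroup.center (P : Subgroup G)) :=
    IsPGroup.center_nontrivial P.isPGroup'
  obtain ⟨⟨z', hz'⟩, hz1⟩ := exists_ne (1 : Subgroup.center (P : Subgroup G))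
  obtain ⟨z, hzP⟩ := z'
  have hz1' : z ≠ 1 := by
    intro h
    apply hz1
    apply Subtype.ext
    apply Subtype.ext
    exact h
  have hzx : z * x = x * z := by
    have := Subgroup.mem_center_iff.mp hz' ⟨x, hxP⟩
    have h2 := congrArg Subtype.val this
    simpa using h2.symm
  have hzX : z ∈ Subgroup.zpowers x := sc_mem_zpowers_of_commute hC hzx
  have hzgen : Subgroup.zpowers z = Subgroup.zpowers x := by
    apply Subgroup.eq_of_le_of_card_ge (by rwa [Subgroup.zpowers_le])
    rw [sc_card_zpowers hx, Nat.card_zpowers]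
    have hdvd : orderOf z ∣ p := by
      have := orderOf_dvd_natCard (⟨z, hzX⟩ : Subgroup.zpowers x)
      rw [sc_card_zpowers hx] at this
      rwa [Subgroup.orderOf_mk] at this
    rcases (Nat.dvd_prime hp).mp hdvd with h | h
    · exact absurd (orderOf_eq_one_iff.mp h) hz1'
    · exact h.ge
  apply le_antisymm _ hXP
  intro y hyP
  have hyz : y * z = z * y := by
    have := Subgroup.mem_center_iff.mp hz' ⟨y, hyP⟩
    have h2 := congrArg Subtype.val this
    simpa using h2
  have hxz : x ∈ Subgroup.zpowers z := by rw [hzgen]; exact Subgroup.mem_zpowers x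
  obtain ⟨k, hk⟩ := Subgroup.mem_zpowers_iff.mp hxz
  apply sc_mem_zpowers_of_commute hC
  rw [← hk]
  exact (Commute.zpow_right (show Commute y z from hyz) k).eq

end SelfCent

section SelfCent2

variable {G : Type*} [Group G] [Finite G] {p : ℕ} {x : G}

theorem sc_factorization [Fact p.Prime] (hx : orderOf x = p)
    (hC : Subgroup.centralizer ({x} : Set G) = Subgroup.zpowers x) :
    (Nat.card G).factorization p = 1 := by
  have hp : p.Prime := Fact.out
  obtain ⟨P, hP⟩ := sc_sylow hx hC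
  have h1 := P.card_eq_multiplicity
  have h2 : Nat.card (P : Subgroup G) = p := by rw [hP, sc_card_zpowers hx]
  rw [h2] at h1
  have h3 : p ^ 1 = p ^ (Nat.card G).factorization p := by rw [pow_one]; exact h1
  exact (Nat.pow_right_injective hp.two_le h3).symm

theorem sc_normalizer_comm (hx : orderOf x = p)
    (hC : Subgroup.centralizer ({x} : Set G) = Subgroup.zpowers x) {n m : G}
    (hn : n ∈ Subgroup.normalizer ((Subgroup.zpowers x : Subgroup G) : Set G))
    (hm : m ∈ Subgroup.normalizer ((Subgroup.zpowers x : Subgroup G) : Set G)) :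
    (m * n)⁻¹ * (n * m) ∈ Subgroup.zpowers x := by
  have hxX : x ∈ Subgroup.zpowers x := Subgroup.mem_zpowers x
  obtain ⟨a, ha⟩ := Subgroup.mem_zpowers_iff.mp ((Subgroup.mem_normalizer_iff.mp hn x).mp hxX)
  obtain ⟨b, hb⟩ := Subgroup.mem_zpowers_iff.mp ((Subgroup.mem_normalizer_iff.mp hm x).mp hxX)
  have h1 : (n * m) * x * (n * m)⁻¹ = x ^ (a * b) := by
    have : (n * m) * x * (n * m)⁻¹ = n * (m * x * m⁻¹) * n⁻¹ := by group
    rw [this, ← hb, ← conj_zpow, ← ha, ← zpow_mul]
  have h2 : (m * n) * x * (m * n)⁻¹ = x ^ (a * b) := by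
    have : (m * n) * x * (m * n)⁻¹ = m * (n * x * n⁻¹) * m⁻¹ := by group
    rw [this, ← ha, ← conj_zpow, ← hb, ← zpow_mul, mul_comm]
  apply sc_mem_zpowers_of_commute hC
  have h3 : (n * m) * x * (n * m)⁻¹ = (m * n) * x * (m * n)⁻¹ := by rw [h1, h2]
  calc (m * n)⁻¹ * (n * m) * x = (m * n)⁻¹ * ((n * m) * x * (n * m)⁻¹) * (n * m) := by group
    _ = (m * n)⁻¹ * ((m * n) * x * (m * n)⁻¹) * (n * m) := by rw [h3]
    _ = x * ((m * n)⁻¹ * (n * m)) := by group

theorem sc_le_of_dvd_card [Fact p.Prime] (hx : orderOf x = p)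
    (hC : Subgroup.centralizer ({x} : Set G) = Subgroup.zpowers x)
    (S : Subgroup G) [S.Normal] (hS : p ∣ Nat.card S) : Subgroup.zpowers x ≤ S := by
  have hp : p.Prime := Fact.out
  obtain ⟨P, hP⟩ := sc_sylow hx hC
  obtain ⟨y, hy⟩ := exists_prime_orderOf_dvd_card' p hS
  have hyo : orderOf (y : G) = p := by rw [Subgroup.orderOf_coe]; exact hy
  have hYp : IsPGroup p (Subgroup.zpowers (y : G)) :=
    IsPGroup.of_card (n := 1) (by rw [sc_card_zpowers hyo, pow_one])
  obtain ⟨Q, hYQ⟩ := hYp.exists_le_sylow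
  have hQcard : Nat.card (Q : Subgroup G) = p := by
    rw [Q.card_eq_multiplicity, sc_factorization hx hC, pow_one]
  have hYQ' : Subgroup.zpowers (y : G) = (Q : Subgroup G) := by
    apply Subgroup.eq_of_le_of_card_ge hYQ
    rw [hQcard, sc_card_zpowers hyo]
  have hQS : (Q : Subgroup G) ≤ S := by
    rw [← hYQ', Subgroup.zpowers_le]; exact y.2
  obtain ⟨g, hg⟩ := MulAction.exists_smul_eq G P Q
  rw [Subgroup.zpowers_le]
  have hxP : x ∈ (P : Subgroup G) := by rw [hP]; exact Subgroup.mem_zpowers x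
  have h1 : g * x * g⁻¹ ∈ (Q : Subgroup G) := by
    rw [← hg]
    have : (g • P : Sylow p G).toSubgroup = MulAut.conj g • (P : Subgroup G) := Sylow.coe_subgroup_smul
    show g * x * g⁻¹ ∈ (g • P : Sylow p G).toSubgroup
    rw [this]
    exact ⟨x, hxP, by simp [MulAut.conj_apply]⟩
  have h2 := ‹S.Normal›.conj_mem _ (hQS h1) g⁻¹
  simpa [mul_assoc] using h2

theorem sc_normalizer_sup [Fact p.Prime] (hx : orderOf x = p)
    (hC : Subgroup.centralizer ({x} : Set G) = Subgroup.zpowers x)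
    (S : Subgroup G) [S.Normal] (hS : Subgroup.zpowers x ≤ S) :
    Subgroup.normalizer ((Subgroup.zpowers x : Subgroup G) : Set G) ⊔ S = ⊤ := by
  obtain ⟨P, hP⟩ := sc_sylow hx hC
  have := Sylow.normalizer_sup_eq_top' P (N := S) (by rw [hP]; exact hS)
  have h2 : (P : Set G) = ((Subgroup.zpowers x : Subgroup G) : Set G) := by rw [← hP]; rfl
  rw [h2] at this
  exact this

theorem sc_commutator_le [Fact p.Prime] (hx : orderOf x = p)
    (hC : Subgroup.centralizer ({x} : Set G) = Subgroup.zpowers x)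
    (S : Subgroup G) [S.Normal] (hS : p ∣ Nat.card S) : commutator G ≤ S := by
  have hXS := sc_le_of_dvd_card hx hC S hS
  have hsup := sc_normalizer_sup hx hC S hXS
  have hdecomp : ∀ g : G, ∃ n ∈ Subgroup.normalizer ((Subgroup.zpowers x : Subgroup G) : Set G),
      (QuotientGroup.mk g : G ⧸ S) = QuotientGroup.mk n := by
    intro g
    have hg : g ∈ Subgroup.normalizer ((Subgroup.zpowers x : Subgroup G) : Set G) ⊔ S := by
      rw [hsup]; exact Subgroup.mem_top g
    rw [← SetLike.mem_coe, Subgroup.mul_normal] at hg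
    obtain ⟨n, hn, s, hs, rfl⟩ := hg
    refine ⟨n, hn, ?_⟩
    rw [QuotientGroup.eq]
    have : (n * s)⁻¹ * n = s⁻¹ := by group
    rw [this]
    exact inv_mem hs
  rw [commutator_def, Subgroup.commutator_le]
  intro g _ h _
  obtain ⟨n, hn, hgn⟩ := hdecomp g
  obtain ⟨m, hm, hhm⟩ := hdecomp h
  rw [← QuotientGroup.eq_one_iff, commutatorElement_def]
  simp only [QuotientGroup.mk_mul, QuotientGroup.mk_inv, hgn, hhm]
  have h1 := hXS (sc_normalizer_comm hx hC hn hm)
  rw [← QuotientGroup.eq_one_iff] at h1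
  simp only [QuotientGroup.mk_mul, QuotientGroup.mk_inv] at h1
  have h2 : (QuotientGroup.mk n : G ⧸ S) * QuotientGroup.mk m = QuotientGroup.mk m * QuotientGroup.mk n := by
    have := congrArg (fun z => (QuotientGroup.mk m * QuotientGroup.mk n : G ⧸ S) * z) h1
    simpa [mul_assoc] using this
  rw [h2]
  group

end SelfCent2

section ConjPerm

variable {G : Type*} [Group G]

noncomputable def conjPerm (x : G) (T : Set G) [Finite T] (hT : ∀ t, t ∈ T → x * t * x⁻¹ ∈ T) :
    Equiv.Perm T :=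
  Equiv.Perm.subtypePermOfFintype (MulAut.conj x).toEquiv (p := fun t => t ∈ T) hT

theorem conjPerm_apply (x : G) (T : Set G) [Finite T] (hT : ∀ t, t ∈ T → x * t * x⁻¹ ∈ T) (t : T) :
    ((conjPerm x T hT t : T) : G) = x * t * x⁻¹ := rfl

theorem conjPerm_pow_apply (x : G) (T : Set G) [Finite T] (hT : ∀ t, t ∈ T → x * t * x⁻¹ ∈ T)
    (k : ℕ) (t : T) : (((conjPerm x T hT) ^ k) t : G) = x ^ k * t * (x ^ k)⁻¹ := by
  induction k generalizing t with
  | zero => simp
  | succ k ih =>
    rw [pow_succ, Equiv.Perm.mul_apply, ih, conjPerm_apply, pow_succ]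
    group

theorem conjPerm_pow_orderOf (x : G) (T : Set G) [Finite T] (hT : ∀ t, t ∈ T → x * t * x⁻¹ ∈ T) :
    (conjPerm x T hT) ^ (orderOf x) = 1 := by
  ext t
  rw [conjPerm_pow_apply, pow_orderOf_eq_one]
  simp

theorem exists_fixed_of_not_dvd {p : ℕ} [Fact p.Prime] {x : G} (hx : orderOf x = p) (T : Set G)
    [Finite T] (hT : ∀ t, t ∈ T → x * t * x⁻¹ ∈ T) (hcard : ¬ p ∣ Nat.card T) :
    ∃ t ∈ T, x * t * x⁻¹ = t := by
  classical
  have : Fintype T := Fintype.ofFinite T
  rw [Nat.card_eq_fintype_card] at hcard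
  have hσ : (conjPerm x T hT) ^ p ^ 1 = 1 := by rw [pow_one, ← hx]; exact conjPerm_pow_orderOf x T hT
  obtain ⟨t, ht⟩ := Equiv.Perm.exists_fixed_point_of_prime hcard hσ
  exact ⟨t, t.2, by rw [← conjPerm_apply x T hT t, ht]⟩

theorem card_modEq_one_of_fixed {p : ℕ} [Fact p.Prime] {x : G} (hx : orderOf x = p) (T : Set G)
    [Finite T] (hT : ∀ t, t ∈ T → x * t * x⁻¹ ∈ T) (h1 : (1 : G) ∈ T)
    (hfix : ∀ t ∈ T, x * t * x⁻¹ = t → t = 1) : Nat.card T ≡ 1 [MOD p] := by
  classical
  have : Fintype T := Fintype.ofFinite T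
  rw [Nat.card_eq_fintype_card]
  have hσ : (conjPerm x T hT) ^ p ^ 1 = 1 := by rw [pow_one, ← hx]; exact conjPerm_pow_orderOf x T hT
  have h := Equiv.Perm.card_compl_support_modEq hσ
  have hs : (conjPerm x T hT).supportᶜ = {⟨1, h1⟩} := by
    ext t
    simp only [Finset.mem_compl, Equiv.Perm.mem_support, not_not, Finset.mem_singleton]
    constructor
    · intro ht
      apply Subtype.ext
      apply hfix t t.2
      rw [← conjPerm_apply x T hT t, ht]
    · rintro rfl
      apply Subtype.ext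
      rw [conjPerm_apply]
      simp
  rw [hs, Finset.card_singleton] at h
  exact h.symm

end ConjPerm

section SelfCent3

variable {G : Type*} [Group G] [Finite G] {p : ℕ} {x : G}

theorem sc_inf_eq_bot [Fact p.Prime] (hx : orderOf x = p) (S : Subgroup G)
    (hS : ¬ p ∣ Nat.card S) : S ⊓ Subgroup.zpowers x = ⊥ := by
  have hp : p.Prime := Fact.out
  rw [← Subgroup.card_eq_one]
  have h1 : Nat.card (S ⊓ Subgroup.zpowers x : Subgroup G) ∣ Nat.card S :=
    Subgroup.card_dvd_of_le inf_le_left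
  have h2 : Nat.card (S ⊓ Subgroup.zpowers x : Subgroup G) ∣ p := by
    have := Subgroup.card_dvd_of_le (inf_le_right : S ⊓ Subgroup.zpowers x ≤ Subgroup.zpowers x)
    rwa [sc_card_zpowers hx] at this
  rcases (Nat.dvd_prime hp).mp h2 with h | h
  · exact h
  · rw [h] at h1; exact absurd h1 hS

theorem sc_card_mod [Fact p.Prime] (hx : orderOf x = p)
    (hC : Subgroup.centralizer ({x} : Set G) = Subgroup.zpowers x)
    (S : Subgroup G) [hSn : S.Normal] (hS : ¬ p ∣ Nat.card S) : Nat.card S % p = 1 := by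
  have hp : p.Prime := Fact.out
  have hinf := sc_inf_eq_bot hx S hS
  have hT : ∀ t, t ∈ (S : Set G) → x * t * x⁻¹ ∈ (S : Set G) := fun t ht => hSn.conj_mem t ht x
  have h := card_modEq_one_of_fixed hx (S : Set G) hT S.one_mem (by
    intro t ht hfix
    have hcomm : t * x = x * t := by
      have := congrArg (fun z => z * x) hfix
      simpa [mul_assoc] using this.symm
    have htX : t ∈ Subgroup.zpowers x := sc_mem_zpowers_of_commute hC hcomm
    have : t ∈ S ⊓ Subgroup.zpowers x := ⟨ht, htX⟩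
    rw [hinf] at this
    exact Subgroup.mem_bot.mp this)
  have h' : Nat.card S % p = 1 % p := h
  rw [h', Nat.mod_eq_of_lt hp.one_lt]

theorem sc_orderOf_mk [Fact p.Prime] (hx : orderOf x = p)
    (S : Subgroup G) [hSn : S.Normal] (hS : ¬ p ∣ Nat.card S) :
    orderOf (QuotientGroup.mk x : G ⧸ S) = p := by
  have hp : p.Prime := Fact.out
  apply orderOf_eq_prime
  · rw [← QuotientGroup.mk_pow, ← hx, pow_orderOf_eq_one]; rfl
  · intro h
    rw [QuotientGroup.eq_one_iff] at h
    apply hS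
    have := orderOf_dvd_natCard (⟨x, h⟩ : S)
    rwa [Subgroup.orderOf_mk, hx] at this

theorem sc_centralizer_mk [Fact p.Prime] (hx : orderOf x = p)
    (hC : Subgroup.centralizer ({x} : Set G) = Subgroup.zpowers x)
    (S : Subgroup G) [hSn : S.Normal] (hS : ¬ p ∣ Nat.card S) :
    Subgroup.centralizer ({(QuotientGroup.mk x : G ⧸ S)} : Set (G ⧸ S)) =
      Subgroup.zpowers (QuotientGroup.mk x : G ⧸ S) := by
  apply le_antisymm _ (sc_zpowers_le_centralizer _)
  intro gbar hg
  obtain ⟨g, rfl⟩ := QuotientGroup.mk_surjective gbar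
  have hcomm : (QuotientGroup.mk x : G ⧸ S) * QuotientGroup.mk g = QuotientGroup.mk g * QuotientGroup.mk x :=
    Subgroup.mem_centralizer_iff.mp hg _ (Set.mem_singleton _)
  have h1 : (g * x)⁻¹ * (x * g) ∈ S := by
    rw [← QuotientGroup.eq, QuotientGroup.mk_mul, QuotientGroup.mk_mul, hcomm]
  have h2 : g⁻¹ * x * g * x⁻¹ ∈ S := by
    have := hSn.conj_mem _ h1 x
    have e : x * ((g * x)⁻¹ * (x * g)) * x⁻¹ = g⁻¹ * x * g * x⁻¹ := by group
    rwa [e] at this
  let T : Set G := (fun s => g * s) '' (S : Set G)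
  have hTfin : Finite T := Set.Finite.image _ (Set.toFinite _)
  have hTcard : Nat.card T = Nat.card S := by
    have : Set.InjOn (fun s => g * s) (S : Set G) := fun a _ b _ h => mul_left_cancel h
    exact Nat.card_image_of_injOn this
  have hT : ∀ t, t ∈ T → x * t * x⁻¹ ∈ T := by
    rintro _ ⟨s, hs, rfl⟩
    refine ⟨(g⁻¹ * x * g * x⁻¹) * (x * s * x⁻¹), mul_mem h2 (hSn.conj_mem s hs x), ?_⟩
    simp only
    group
  obtain ⟨t, ⟨s, hs, rfl⟩, hfix⟩ := exists_fixed_of_not_dvd hx T hT (by rw [hTcard]; exact hS)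
  have hcomm2 : (g * s) * x = x * (g * s) := by
    have := congrArg (fun z => z * x) hfix
    simpa [mul_assoc] using this.symm
  have htX : g * s ∈ Subgroup.zpowers x := sc_mem_zpowers_of_commute hC hcomm2
  obtain ⟨k, hk⟩ := Subgroup.mem_zpowers_iff.mp htX
  rw [Subgroup.mem_zpowers_iff]
  refine ⟨k, ?_⟩
  rw [← QuotientGroup.mk_zpow, hk, QuotientGroup.eq]
  have e : (g * s)⁻¹ * g = s⁻¹ := by group
  rw [e]; exact inv_mem hs

end SelfCent3

section SelfCent4

variable {G : Type*} [Group G] [Finite G] {p : ℕ} {x : G}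

theorem sc_card_subgroups [Fact p.Prime] (hx : orderOf x = p)
    (hC : Subgroup.centralizer ({x} : Set G) = Subgroup.zpowers x) :
    Nat.card {H : Subgroup G // Nat.card H = p} =
      (Subgroup.normalizer ((Subgroup.zpowers x : Subgroup G) : Set G)).index := by
  obtain ⟨P, hP⟩ := sc_sylow hx hC
  have hfac := sc_factorization hx hC
  have h1 : Nat.card (Sylow p G) = Nat.card {H : Subgroup G // Nat.card H = p} := by
    apply Nat.card_eq_of_bijective
      (fun Q : Sylow p G => (⟨(Q : Subgroup G), by rw [Q.card_eq_multiplicity, hfac, pow_one]⟩ :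
        {H : Subgroup G // Nat.card H = p}))
    constructor
    · intro Q₁ Q₂ h
      exact Sylow.ext (congrArg Subtype.val h)
    · rintro ⟨H, hH⟩
      exact ⟨Sylow.ofCard H (by rw [hH, hfac, pow_one]), rfl⟩
  rw [← h1, Sylow.card_eq_index_normalizer P]
  have h2 : (P : Set G) = ((Subgroup.zpowers x : Subgroup G) : Set G) := by rw [← hP]; rfl
  rw [h2]

theorem sc_inf_normalizer_eq_bot [Fact p.Prime] (hx : orderOf x = p)
    (hC : Subgroup.centralizer ({x} : Set G) = Subgroup.zpowers x)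
    (S : Subgroup G) [hSn : S.Normal] (hS : ¬ p ∣ Nat.card S) :
    S ⊓ Subgroup.normalizer ((Subgroup.zpowers x : Subgroup G) : Set G) = ⊥ := by
  have hinf := sc_inf_eq_bot hx S hS
  rw [eq_bot_iff]
  rintro s ⟨hsS, hsN⟩
  have hxX : x ∈ Subgroup.zpowers x := Subgroup.mem_zpowers x
  have h1 : s * x * s⁻¹ ∈ Subgroup.zpowers x := (Subgroup.mem_normalizer_iff.mp hsN x).mp hxX
  have h2 : s * x * s⁻¹ * x⁻¹ ∈ S ⊓ Subgroup.zpowers x := by
    rw [Subgroup.mem_inf]
    refine ⟨?_, mul_mem h1 (inv_mem hxX)⟩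
    have : s * x * s⁻¹ * x⁻¹ = s * (x * s⁻¹ * x⁻¹) := by group
    rw [this]
    exact mul_mem hsS (hSn.conj_mem _ (inv_mem hsS) x)
  rw [hinf, Subgroup.mem_bot] at h2
  have hcomm : s * x = x * s := by
    have := congrArg (fun z => z * x * s) h2
    simpa [mul_assoc] using this
  have hsX : s ∈ Subgroup.zpowers x := sc_mem_zpowers_of_commute hC hcomm
  have : s ∈ S ⊓ Subgroup.zpowers x := Subgroup.mem_inf.mpr ⟨hsS, hsX⟩
  rw [hinf] at this
  exact this

theorem sc_card_dvd [Fact p.Prime] (hx : orderOf x = p)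
    (hC : Subgroup.centralizer ({x} : Set G) = Subgroup.zpowers x)
    (S : Subgroup G) [hSn : S.Normal] (hS : ¬ p ∣ Nat.card S) :
    Nat.card S ∣ Nat.card {H : Subgroup G // Nat.card H = p} := by
  rw [sc_card_subgroups hx hC]
  set N := Subgroup.normalizer ((Subgroup.zpowers x : Subgroup G) : Set G) with hN
  have hinf := sc_inf_normalizer_eq_bot hx hC S hS
  have hrel : S.relIndex N = Nat.card N := by
    rw [← Subgroup.inf_relIndex_right, hinf, Subgroup.relIndex_bot_left]
  have hdvd : Nat.card N ∣ S.index := hrel ▸ Subgroup.relIndex_dvd_index_of_normal S N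
  obtain ⟨m, hm⟩ := hdvd
  have e1 := Subgroup.card_mul_index S
  have e2 := Subgroup.card_mul_index N
  refine ⟨m, ?_⟩
  have hNpos : 0 < Nat.card N := Nat.card_pos
  apply Nat.eq_of_mul_eq_mul_left hNpos
  rw [e2, ← e1, hm]
  ring

end SelfCent4

end Cfsg.Agent.Lib.Helper24
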