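import Mathlib
import Cfsg.Agent.Lib.Helper28.BP2.Defs
import Cfsg.Agent.Lib.helper6.PSL2Index

set_option autoImplicit false

namespace Cfsg.Agent.Lib.Helper28.BP2

open Cfsg.Agent.Lib.helper14

universe u v w

section Util

variable {F : Type u} [Field F]

variable [Fintype F]

theorem card_PSL2 :
    Nat.card (PSL2 F) * Nat.gcd 2 (Fintype.card F - 1) =
      Fintype.card F * (Fintype.card F ^ 2 - 1) :=
  Cfsg.Agent.Lib.helper6.PSL2Index.card_PSL2_mul

end Util

end Cfsg.Agent.Lib.Helper28.BP2
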