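import Mathlib
import Cfsg.Agent.Lib.helper15.St2
import Cfsg.Agent.Lib.helper7.StA
import Cfsg.Agent.Lib.helper7.StC
import Cfsg.Agent.Lib.helper7.StE
import Cfsg.Agent.Lib.Helper24.STCI1
import Cfsg.Agent.Lib.helper23.STCX2
import Cfsg.Agent.Lib.Helper27.STU.Defs
import Cfsg.Agent.Lib.Helper27.STU.Defs2
import Cfsg.Agent.Lib.Helper24.STUB1

set_option autoImplicit false

namespace Cfsg.Agent.Lib.Helper27.STU

open Cfsg.Agent.Lib.helper15.St2 Cfsg.Agent.Lib.helper7.St Cfsg.Agent.Lib.helper3.STC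

theorem stum0_act_one {F : Type*} [Field F] [StarRing F] {od : Prop} (ξ : Lam F od) : Lam.act 1 ξ = ξ := by
  ext
  · simp
  · simp

theorem stum0_act_act {F : Type*} [Field F] [StarRing F] {od : Prop} (s t : F) (ξ : Lam F od) :
    Lam.act s (Lam.act t ξ) = Lam.act (s * t) ξ := by
  ext
  · simp only [Lam.act_v]; ring
  · simp only [Lam.act_c, star_mul']; ring

theorem stum0_mu_act {F : Type*} [Field F] [StarRing F] {od : Prop} (s : F) (hs : s ≠ 0) (ξ : Lam F od) :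
    Lam.mu (Lam.act s ξ) = Lam.act (star s)⁻¹ (Lam.mu ξ) := by
  have hs' : star s ≠ 0 := fun h => hs (by simpa using congrArg star h)
  ext
  · simp only [Lam.mu_v, Lam.act_v, Lam.act_c]
    by_cases hc : ξ.c = 0
    · simp [hc]
    · field_simp
  · simp only [Lam.mu_c, Lam.act_c, star_mul', star_star, star_inv₀, mul_inv]

theorem stum0_nu_act {F : Type*} [Field F] [StarRing F] {od : Prop} (s : F) (hs : s ≠ 0) (ξ : Lam F od) :
    Lam.nu (Lam.act s ξ) = Lam.act s (Lam.nu ξ) := by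
  have hs' : star s ≠ 0 := fun h => hs (by simpa using congrArg star h)
  ext
  · simp only [Lam.nu_v, Lam.act_v, Lam.act_c, star_mul', star_star]
    by_cases hc : ξ.c = 0
    · simp [hc]
    · field_simp
  · simp only [Lam.nu_c, Lam.act_c]

namespace SysU

variable {F : Type*} [Field F] [StarRing F] {od : Prop} {ι : Type*} {G : Type*} [Group G] (S : SysU F od ι G)

theorem MonData.d_ne {π : Equiv.Perm (ι ⊕ ι)} {d : ι ⊕ ι → F} {d0 : F} (h : MonData π d d0) (k : ι ⊕ ι) : d k ≠ 0 := by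
  intro hk
  have := h.d_ng k
  rw [hk, star_zero, mul_zero] at this
  exact zero_ne_one this

theorem MonData.d0_ne {π : Equiv.Perm (ι ⊕ ι)} {d : ι ⊕ ι → F} {d0 : F} (h : MonData π d d0) : d0 ≠ 0 := by
  intro hk
  have := h.d0_norm
  rw [hk, zero_mul] at this
  exact zero_ne_one this

theorem MonData.d0_inv {π : Equiv.Perm (ι ⊕ ι)} {d : ι ⊕ ι → F} {d0 : F} (h : MonData π d d0) : d0⁻¹ = star d0 :=
  inv_eq_of_mul_eq_one_right h.d0_norm

theorem MonData.d_ng_eq {π : Equiv.Perm (ι ⊕ ι)} {d : ι ⊕ ι → F} {d0 : F} (h : MonData π d d0) (k : ι ⊕ ι) :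
    d (ng k) = (star (d k))⁻¹ :=
  eq_inv_of_mul_eq_one_left (h.d_ng k)

theorem MonData.mul {π π' : Equiv.Perm (ι ⊕ ι)} {d d' : ι ⊕ ι → F} {d0 d0' : F} (h : MonData π d d0) (h' : MonData π' d' d0') :
    MonData (π * π') (fun k => d (π' k) * d' k) (d0 * d0') := by
  refine ⟨fun k => ?_, fun k => ?_, ?_⟩
  · rw [Equiv.Perm.mul_apply, Equiv.Perm.mul_apply, h'.pi_ng, h.pi_ng]
  · have h1 := h.d_ng (π' k)
    have h2 := h'.d_ng k
    show d (π' (ng k)) * d' (ng k) * star (d (π' k) * d' k) = 1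
    rw [h'.pi_ng, star_mul']
    calc d (ng (π' k)) * d' (ng k) * (star (d (π' k)) * star (d' k))
        = (d (ng (π' k)) * star (d (π' k))) * (d' (ng k) * star (d' k)) := by ring
      _ = 1 := by rw [h1, h2, mul_one]
  · have h1 := h.d0_norm
    have h2 := h'.d0_norm
    rw [star_mul']
    calc d0 * d0' * (star d0 * star d0') = (d0 * star d0) * (d0' * star d0') := by ring
      _ = 1 := by rw [h1, h2, mul_one]

theorem stum0_inv_ng {π : Equiv.Perm (ι ⊕ ι)} (h : ∀ k, π (ng k) = ng (π k)) (k : ι ⊕ ι) : π⁻¹ (ng k) = ng (π⁻¹ k) := by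
  apply π.injective
  have e1 : π (π⁻¹ (ng k)) = ng k := π.apply_symm_apply (ng k)
  have e2 : π (π⁻¹ k) = k := π.apply_symm_apply k
  rw [h, e1, e2]

theorem MonData.inv {π : Equiv.Perm (ι ⊕ ι)} {d : ι ⊕ ι → F} {d0 : F} (h : MonData π d d0) :
    MonData π⁻¹ (fun k => (d (π⁻¹ k))⁻¹) d0⁻¹ := by
  refine ⟨stum0_inv_ng h.pi_ng, fun k => ?_, ?_⟩
  · have h1 := h.d_ng (π⁻¹ k)
    show (d (π⁻¹ (ng k)))⁻¹ * star ((d (π⁻¹ k))⁻¹) = 1
    rw [stum0_inv_ng h.pi_ng, star_inv₀, ← mul_inv, h1, inv_one]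
  · have h1 := h.d0_norm
    rw [star_inv₀, ← mul_inv, h1, inv_one]

end SysU

end Cfsg.Agent.Lib.Helper27.STU
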