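import Mathlib
import Cfsg.Agent.Lib.helper15.St2
import Cfsg.Agent.Lib.helper7.StA
import Cfsg.Agent.Lib.helper7.StC
import Cfsg.Agent.Lib.helper7.StE
import Cfsg.Agent.Lib.Helper24.STCI1
import Cfsg.Agent.Lib.Helper24.STCW14core
import Cfsg.Agent.Lib.helper23.STCX2
import Cfsg.Agent.Lib.Helper27.STU.Defs
import Cfsg.Agent.Lib.Helper27.STU.Defs2
import Cfsg.Agent.Lib.Helper24.STUB1
import Cfsg.Agent.Lib.Helper24.STUM0
import Cfsg.Agent.Lib.Helper24.STUM1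

set_option autoImplicit false

namespace Cfsg.Agent.Lib.Helper27.STU

open Cfsg.Agent.Lib.helper15.St2 Cfsg.Agent.Lib.helper7.St Cfsg.Agent.Lib.helper3.STC

section aux

variable {F : Type*} [Field F] [StarRing F] {ι : Type*} [DecidableEq ι]

theorem stuh6_dhs_a (a b : ι ⊕ ι) (u : F) : dhs a b u a = u := by
  unfold dhs; rw [if_pos rfl]

theorem stuh6_dhs_b {a b : ι ⊕ ι} (hab : a ≠ b) (u : F) : dhs a b u b = u⁻¹ := by
  unfold dhs; rw [if_neg hab.symm, if_pos rfl]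

theorem stuh6_dhs_of_ne {a b k : ι ⊕ ι} (hka : k ≠ a) (hkb : k ≠ b) (hka' : k ≠ ng a) (hkb' : k ≠ ng b) (u : F) :
    dhs a b u k = 1 := by
  unfold dhs; rw [if_neg hka, if_neg hkb, if_neg hka', if_neg hkb']

theorem stuh6_dhl_a (a : ι ⊕ ι) (r : F) : dhl a r a = r := by
  unfold dhl; rw [if_pos rfl]

theorem stuh6_dhl_of_ne {a k : ι ⊕ ι} (hka : k ≠ a) (hka' : k ≠ ng a) (r : F) : dhl a r k = 1 := by
  unfold dhl; rw [if_neg hka, if_neg hka']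

theorem stuh6_dws_a (a b : ι ⊕ ι) (u : F) : dws a b u a = -u⁻¹ := by
  unfold dws; rw [if_pos rfl]

theorem stuh6_dws_of_ne {a b k : ι ⊕ ι} (hka : k ≠ a) (hkb : k ≠ b) (hka' : k ≠ ng a) (hkb' : k ≠ ng b) (u : F) :
    dws a b u k = 1 := by
  unfold dws; rw [if_neg hka, if_neg hkb, if_neg hkb', if_neg hka']

theorem stuh6_dwl_a {od : Prop} (a : ι ⊕ ι) (ξ : Lam F od) : dwl a ξ a = (star ξ.c)⁻¹ := by
  unfold dwl; rw [if_pos rfl]

theorem stuh6_dwl_of_ne {od : Prop} {a k : ι ⊕ ι} (hka : k ≠ a) (hka' : k ≠ ng a) (ξ : Lam F od) : dwl a ξ k = 1 := by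
  unfold dwl; rw [if_neg hka, if_neg hka']

end aux

namespace SysU

variable {F : Type*} [Field F] [StarRing F] {od : Prop} {ι : Type*} {G : Type*} [Group G] (S : SysU F od ι G)

theorem stuh6_hl_inv (a : ι ⊕ ι) (ξ η : Lam F od) : (S.hl a ξ η)⁻¹ = S.hl a η ξ := by
  unfold hl
  rw [mul_inv_rev, inv_inv]

theorem stuh6_cj_split (w h : G) : cj w h = h * cj h⁻¹ w * w⁻¹ := by
  unfold cj
  group

theorem stuh6_cj_split' (w h : G) : cj w h = w * (cj h w)⁻¹ * h := by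
  unfold cj
  group

section H
variable [Finite F]

theorem stuh6_hs_inv {a b : ι ⊕ ι} (hab : a ≠ b) (hab' : a ≠ ng b) (t : F) (ht : t ≠ 0) : (S.hs a b t)⁻¹ = S.hs a b t⁻¹ :=
  h_inv' (S.st a b hab hab') t ht

theorem stuh6_ws_mul_ws {a b : ι ⊕ ι} (hab : a ≠ b) (hab' : a ≠ ng b) (c d : F) (hc : c ≠ 0) (hd : d ≠ 0) :
    S.ws a b c * S.ws a b d = S.hs a b (-(c * d⁻¹)) :=
  w_mul_w'' (S.st a b hab hab') c d hc hd

variable [DecidableEq ι]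

theorem stuh5_core
    (hcongr : ∀ {a : ι ⊕ ι} {ξ ξ' : Lam F od}, ξ.c ≠ 0 → ξ'.c = ξ.c → S.wl a ξ' = S.wl a ξ)
    (hW : S.HW) (hH : S.HH) {a b : ι ⊕ ι} (hab : a ≠ b) (hab' : a ≠ ng b) {ξ η : Lam F od} (hξ : ξ.c ≠ 0) (hη : η.c ≠ 0) :
    S.hs a b (ξ.c / η.c) = S.hl a ξ η * S.hl b η ξ := by
  have hba' : b ≠ ng a := stub1_ng_ne hab'
  have hr : ξ.c / η.c ≠ 0 := div_ne_zero hξ hη
  have e1 : cj (S.ws a b 1) (S.hl a ξ η) = S.hl b ξ η := by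
    rw [IsMon.cj_hl S (hW.1 a b hab hab' 1 one_ne_zero), stcw14_sws_a hab', stuh6_dws_a]
    unfold hl
    have c1 : (Lam.act (-(1 : F)⁻¹ * (1 : F)⁻¹) ξ).c = ξ.c := by simp
    have c2 : (Lam.act (-(1 : F)⁻¹ * (1 : F)⁻¹) η).c = η.c := by simp
    rw [hcongr hξ c1, hcongr hη c2]
  have e2 : cj (S.ws a b 1) (S.hl a ξ η) = S.hs a b (ξ.c / η.c)⁻¹ * S.hl a ξ η := by
    have e3 : cj (S.hl a ξ η) (S.ws a b 1) = S.ws a b (ξ.c / η.c) := by
      rw [IsMon.cj_ws S (hH.2 a ξ η hξ hη) hab hab' 1 one_ne_zero]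
      simp only [Equiv.Perm.coe_one, id_eq]
      rw [stuh6_dhl_a, stuh6_dhl_of_ne hab.symm hba']
      congr 1
      simp
    rw [stuh6_cj_split', e3, ← S.ws_neg hab hab', S.stuh6_ws_mul_ws hab hab' 1 _ one_ne_zero (neg_ne_zero.2 hr)]
    congr 2
    rw [one_mul, inv_neg, neg_neg]
  have e4 : S.hs a b (ξ.c / η.c)⁻¹ = S.hl b ξ η * (S.hl a ξ η)⁻¹ := by
    rw [← e1, e2, mul_inv_cancel_right]
  have e5 : S.hs a b (ξ.c / η.c) = (S.hs a b (ξ.c / η.c)⁻¹)⁻¹ := by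
    rw [S.stuh6_hs_inv hab hab' _ (inv_ne_zero hr), inv_inv]
  rw [e5, e4, mul_inv_rev, inv_inv, S.stuh6_hl_inv]

theorem hs_chain (hW : S.HW) (hH : S.HH) {a b c : ι ⊕ ι} (hab : a ≠ b) (hab' : a ≠ ng b) (hbc : b ≠ c) (hbc' : b ≠ ng c) (hac : a ≠ c)
    (hac' : a ≠ ng c) (t : F) (ht : t ≠ 0) : S.hs a c t = S.hs a b t * S.hs b c t := by
  have hba' : b ≠ ng a := stub1_ng_ne hab'
  have hcb' : c ≠ ng b := stub1_ng_ne hbc'
  have hca' : c ≠ ng a := stub1_ng_ne hac'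
  have e1 : cj (S.ws b c 1) (S.hs a b t) = S.hs a c t := by
    rw [IsMon.cj_hs S (hW.1 b c hbc hbc' 1 one_ne_zero) hab hab' t ht, stcw14_sws_a hbc',
      stcw14_sws_of_ne hab hac hab' hac', stuh6_dws_a, stuh6_dws_of_ne hab hac hab' hac',
      S.stuh6_ws_mul_ws hac hac' _ _ (by simpa using ht) (by simp)]
    congr 1
    simp
  have e2 : cj (S.ws b c 1) (S.hs a b t) = S.hs a b t * S.hs b c t := by
    have e3 : cj (S.hs a b t)⁻¹ (S.ws b c 1) = S.ws b c t := by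
      rw [IsMon.cj_ws S (hH.1 a b hab hab' t ht).inv hbc hbc' 1 one_ne_zero]
      simp only [inv_one, Equiv.Perm.coe_one, id_eq]
      rw [stuh6_dhs_b hab, stuh6_dhs_of_ne hac.symm hbc.symm hca' hcb']
      congr 1
      simp
    rw [stuh6_cj_split, e3, ← S.ws_neg hbc hbc', mul_assoc]
    rfl
  rw [← e1, e2]

theorem hs_ng (hW : S.HW) (hH : S.HH) {a b : ι ⊕ ι} (hab : a ≠ b) (hab' : a ≠ ng b) (t : F) (ht : t ≠ 0) {ζ : Lam F od} (hζ : ζ.c ≠ 0) :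
    S.hs a (ng b) t = S.hs a b t * S.hl b (Lam.act t ζ) ζ := by
  have hba' : b ≠ ng a := stub1_ng_ne hab'
  have hsc : star ζ.c ≠ 0 := fun h => hζ (by simpa using congrArg star h)
  have hanb' : a ≠ ng (ng b) := by rw [ng_ng]; exact hab
  have e1 : cj (S.wl b ζ) (S.hs a b t) = S.hs a (ng b) t := by
    rw [IsMon.cj_hs S (hW.2 b ζ hζ) hab hab' t ht, Equiv.swap_apply_left,
      Equiv.swap_apply_of_ne_of_ne hab hab', stuh6_dwl_a, stuh6_dwl_of_ne hab hab',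
      S.stuh6_ws_mul_ws hab' hanb' _ _
        (mul_ne_zero (mul_ne_zero one_ne_zero (inv_ne_zero (inv_ne_zero hsc))) ht)
        (neg_ne_zero.2 (mul_ne_zero one_ne_zero (inv_ne_zero (inv_ne_zero hsc))))]
    congr 1
    field_simp
  have e2 : cj (S.wl b ζ) (S.hs a b t) = S.hs a b t * S.hl b (Lam.act t ζ) ζ := by
    have e3 : cj (S.hs a b t)⁻¹ (S.wl b ζ) = S.wl b (Lam.act t ζ) := by
      rw [IsMon.cj_wl S (hH.1 a b hab hab' t ht).inv b ζ]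
      simp only [inv_one, Equiv.Perm.coe_one, id_eq]
      rw [stuh6_dhs_b hab]
      congr 2
      simp
    rw [stuh6_cj_split, e3, mul_assoc]
    rfl
  rw [← e1, e2]

end H

end SysU

end Cfsg.Agent.Lib.Helper27.STU
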