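import Mathlib
import Cfsg.Agent.Lib.helper15.St2
import Cfsg.Agent.Lib.helper7.StA
import Cfsg.Agent.Lib.helper7.StC
import Cfsg.Agent.Lib.helper7.StE
import Cfsg.Agent.Lib.Helper24.STCI1
import Cfsg.Agent.Lib.Helper24.STCW14core
import Cfsg.Agent.Lib.helper23.STCX2
import Cfsg.Agent.Lib.Helper27.STU.Defs
import Cfsg.Agent.Lib.Helper27.STU.Defs2
import Cfsg.Agent.Lib.Helper24.STUB1
import Cfsg.Agent.Lib.Helper24.STUM0

set_option autoImplicit false
set_option linter.unusedSimpArgs false

namespace Cfsg.Agent.Lib.Helper27.STU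

open Cfsg.Agent.Lib.helper15.St2 Cfsg.Agent.Lib.helper7.St Cfsg.Agent.Lib.helper3.STC

section aux

variable {F : Type*} [Field F] [StarRing F] {ι : Type*} [DecidableEq ι]

theorem stum2_dws_a (a b : ι ⊕ ι) (u : F) : dws a b u a = -u⁻¹ := by
  unfold dws; rw [if_pos rfl]

theorem stum2_dws_b {a b : ι ⊕ ι} (hab : a ≠ b) (u : F) : dws a b u b = u := by
  unfold dws; rw [if_neg hab.symm, if_pos rfl]

theorem stum2_dws_nb {a b : ι ⊕ ι} (hab' : a ≠ ng b) (u : F) : dws a b u (ng b) = (star u)⁻¹ := by
  unfold dws; rw [if_neg (Ne.symm hab'), if_neg (ng_ne b), if_pos rfl]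

theorem stum2_dws_na {a b : ι ⊕ ι} (hab : a ≠ b) (hab' : a ≠ ng b) (u : F) : dws a b u (ng a) = -star u := by
  unfold dws
  rw [if_neg (ng_ne a), if_neg (Ne.symm (stcw1_ne_ng hab')), if_neg (fun h => hab (ng_inj.mp h)), if_pos rfl]

theorem stum2_dws_of_ne {a b k : ι ⊕ ι} (hka : k ≠ a) (hkb : k ≠ b) (hka' : k ≠ ng a) (hkb' : k ≠ ng b) (u : F) :
    dws a b u k = 1 := by
  unfold dws; rw [if_neg hka, if_neg hkb, if_neg hkb', if_neg hka']

theorem stum2_monData {a b : ι ⊕ ι} (hab : a ≠ b) (hab' : a ≠ ng b) (u : F) (hu : u ≠ 0) :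
    SysU.MonData (sws a b) (dws a b u) (1 : F) := by
  have hsu : star u ≠ 0 := fun h => hu (by simpa using congrArg star h)
  refine ⟨fun k => SysC.stcx2_sws_ng a b k, fun k => ?_, by simp⟩
  by_cases hka : k = a
  · subst hka
    rw [stum2_dws_na hab hab', stum2_dws_a, star_neg, star_inv₀]
    field_simp
  · by_cases hkb : k = b
    · subst hkb
      rw [stum2_dws_nb hab', stum2_dws_b hab]
      field_simp
    · by_cases hkna : k = ng a
      · subst hkna
        rw [ng_ng, stum2_dws_a, stum2_dws_na hab hab', star_neg, star_star]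
        field_simp
      · by_cases hknb : k = ng b
        · subst hknb
          rw [ng_ng, stum2_dws_b hab, stum2_dws_nb hab', star_inv₀, star_star]
          field_simp
        · rw [stum2_dws_of_ne hka hkb hkna hknb,
            stum2_dws_of_ne (stcw14_ng_ne hkna) (stcw14_ng_ne hknb) (stcw14_ng_ne' hka) (stcw14_ng_ne' hkb)]
          simp

end aux

namespace SysU

variable {F : Type*} [Field F] [StarRing F] {od : Prop} {ι : Type*} {G : Type*} [Group G] (S : SysU F od ι G)

variable [DecidableEq ι]

theorem stum2_core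
    (h1 : ∀ {a b k l : ι ⊕ ι}, a ≠ b → a ≠ ng b → k ≠ l → k ≠ ng l → k ≠ a → k ≠ b → k ≠ ng a → k ≠ ng b →
      l ≠ a → l ≠ b → l ≠ ng a → l ≠ ng b → ∀ (u t : F), cj (S.ws a b u) (S.xs k l t) = S.xs k l t)
    (h1l : ∀ {a b k : ι ⊕ ι}, a ≠ b → a ≠ ng b → k ≠ a → k ≠ b → k ≠ ng a → k ≠ ng b → ∀ (u : F) (ξ : Lam F od),
      cj (S.ws a b u) (S.xl k ξ) = S.xl k ξ)
    (h2 : ∀ {a b l : ι ⊕ ι}, a ≠ b → a ≠ ng b → l ≠ a → l ≠ ng a → l ≠ b → l ≠ ng b → ∀ (u t : F), u ≠ 0 →
      cj (S.ws a b u) (S.xs a l t) = S.xs b l (-(u⁻¹ * t)))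
    (h3 : ∀ {a b k : ι ⊕ ι}, a ≠ b → a ≠ ng b → k ≠ a → k ≠ ng a → k ≠ b → k ≠ ng b → ∀ (u t : F), u ≠ 0 →
      cj (S.ws a b u) (S.xs k a t) = S.xs k b (-(u * t)))
    (h4a : ∀ {a b l : ι ⊕ ι}, a ≠ b → a ≠ ng b → l ≠ a → l ≠ ng a → l ≠ b → l ≠ ng b → ∀ (u t : F), u ≠ 0 →
      cj (S.ws a b u) (S.xs b l t) = S.xs a l (u * t))
    (h4b : ∀ {a b k : ι ⊕ ι}, a ≠ b → a ≠ ng b → k ≠ a → k ≠ ng a → k ≠ b → k ≠ ng b → ∀ (u t : F), u ≠ 0 →
      cj (S.ws a b u) (S.xs k b t) = S.xs k a (u⁻¹ * t))
    (h5a : ∀ {a b : ι ⊕ ι}, a ≠ b → a ≠ ng b → ∀ (u t : F), u ≠ 0 →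
      cj (S.ws a b u) (S.xs a b t) = S.xs b a (-(u⁻¹ ^ 2 * t)))
    (h5b : ∀ {a b : ι ⊕ ι}, a ≠ b → a ≠ ng b → ∀ (u t : F), u ≠ 0 →
      cj (S.ws a b u) (S.xs b a t) = S.xs a b (-(u ^ 2 * t)))
    (h6 : ∀ {a b : ι ⊕ ι}, a ≠ b → a ≠ ng b → ∀ (u t : F), u ≠ 0 →
      cj (S.ws a b u) (S.xs a (ng b) t) = S.xs b (ng a) (-(star u * u⁻¹ * t)))
    (h7 : ∀ {a b : ι ⊕ ι}, a ≠ b → a ≠ ng b → ∀ (u t : F), u ≠ 0 →
      cj (S.ws a b u) (S.xs (ng a) b t) = S.xs (ng b) a (-(star u * u⁻¹ * t)))
    (h8 : ∀ {a b : ι ⊕ ι}, a ≠ b → a ≠ ng b → ∀ (u : F), u ≠ 0 → ∀ (ξ : Lam F od),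
      cj (S.ws a b u) (S.xl a ξ) = S.xl b (Lam.act (-u⁻¹) ξ))
    (h9 : ∀ {a b : ι ⊕ ι}, a ≠ b → a ≠ ng b → ∀ (u : F), u ≠ 0 → ∀ (ξ : Lam F od),
      cj (S.ws a b u) (S.xl b ξ) = S.xl a (Lam.act u ξ))
    (h10a : ∀ {a b : ι ⊕ ι}, a ≠ b → a ≠ ng b → ∀ (u : F), u ≠ 0 → ∀ (ξ : Lam F od),
      cj (S.ws a b u) (S.xl (ng a) ξ) = S.xl (ng b) (Lam.act (-(star u)) ξ))
    (h10b : ∀ {a b : ι ⊕ ι}, a ≠ b → a ≠ ng b → ∀ (u : F), u ≠ 0 → ∀ (ξ : Lam F od),
      cj (S.ws a b u) (S.xl (ng b) ξ) = S.xl (ng a) (Lam.act (star u)⁻¹ ξ))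
    {a b : ι ⊕ ι} (hab : a ≠ b) (hab' : a ≠ ng b) (u : F) (hu : u ≠ 0) :
    S.IsMon (S.ws a b u) (sws a b) (dws a b u) 1 := by
  have hba' : b ≠ ng a := stcw1_ne_ng hab'
  have hnanb : ng a ≠ ng b := stcw14_ng_ne' hab
  have hsu : star u ≠ 0 := fun h => hu (by simpa using congrArg star h)
  refine ⟨stum2_monData hab hab' u hu, fun k l hkl hkl' t => ?_, fun k ξ => ?_⟩
  · by_cases hka : k = a
    · subst hka
      rw [stcw14_sws_a hab', stum2_dws_a]
      by_cases hlb : l = b
      · subst hlb
        rw [stcw14_sws_b hab', stum2_dws_b hab, h5a hab hab' u t hu]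
        congr 1
        field_simp
      · by_cases hlnb : l = ng b
        · subst hlnb
          rw [stcw14_sws_nb hab', stum2_dws_nb hab', h6 hab hab' u t hu]
          congr 1
          field_simp
        · rw [stcw14_sws_of_ne (Ne.symm hkl) hlb (stcw1_ne_ng hkl') hlnb,
            stum2_dws_of_ne (Ne.symm hkl) hlb (stcw1_ne_ng hkl') hlnb,
            h2 hab hab' (Ne.symm hkl) (stcw1_ne_ng hkl') hlb hlnb u t hu]
          congr 1
          field_simp
    · by_cases hkb : k = b
      · subst hkb
        rw [stcw14_sws_b hab', stum2_dws_b hab]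
        by_cases hla : l = a
        · subst hla
          rw [stcw14_sws_a hab', stum2_dws_a, h5b hab hab' u t hu]
          congr 1
          field_simp
        · by_cases hlna : l = ng a
          · subst hlna
            have hka' : k ≠ ng (ng a) := by rw [ng_ng]; exact hka
            rw [stcw14_sws_na hab', stum2_dws_na hab hab', S.sym k (ng a) hkl hka' t, ng_ng,
              h6 hab hab' u _ hu, S.sym a (ng k) hab' (by rw [ng_ng]; exact hab), ng_ng]
            congr 1
            simp only [star_neg, star_mul', star_inv₀, star_star, star_one]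
            field_simp
          · rw [stcw14_sws_of_ne hla (Ne.symm hkl) hlna (stcw1_ne_ng hkl'),
              stum2_dws_of_ne hla (Ne.symm hkl) hlna (stcw1_ne_ng hkl'),
              h4a hab hab' hla hlna (Ne.symm hkl) (stcw1_ne_ng hkl') u t hu]
            congr 1
            field_simp
      · by_cases hkna : k = ng a
        · subst hkna
          rw [stcw14_sws_na hab', stum2_dws_na hab hab']
          by_cases hlb : l = b
          · subst hlb
            rw [stcw14_sws_b hab', stum2_dws_b hab, h7 hab hab' u t hu]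
            congr 1
            field_simp
          · by_cases hlnb : l = ng b
            · subst hlnb
              rw [stcw14_sws_nb hab', stum2_dws_nb hab', S.sym (ng a) (ng b) hnanb hkl' t, ng_ng, ng_ng,
                h5b hab hab' u _ hu,
                S.sym (ng b) (ng a) hnanb.symm (by rw [ng_ng]; exact fun h => hab' h.symm), ng_ng, ng_ng]
              congr 1
              simp only [star_neg, star_mul', star_inv₀, star_star, star_one]
              field_simp
            · have hla : l ≠ a := fun h => hkl' (by rw [h])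
              have hlna : l ≠ ng a := Ne.symm hkl
              have n1 : ng l ≠ a := stcw14_ng_ne hlna
              have n2 : ng l ≠ ng a := stcw14_ng_ne' hla
              have n3 : ng l ≠ b := stcw14_ng_ne hlnb
              have n4 : ng l ≠ ng b := stcw14_ng_ne' hlb
              rw [stcw14_sws_of_ne hla hlb hlna hlnb, stum2_dws_of_ne hla hlb hlna hlnb,
                S.sym (ng a) l hkl hkl' t, ng_ng, h3 hab hab' n1 n2 n3 n4 u _ hu,
                S.sym (ng b) l (Ne.symm hlnb) (Ne.symm n4), ng_ng]
              congr 1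
              simp only [star_neg, star_mul', star_inv₀, star_star, star_one]
              field_simp
        · by_cases hknb : k = ng b
          · subst hknb
            rw [stcw14_sws_nb hab', stum2_dws_nb hab']
            by_cases hla : l = a
            · subst hla
              rw [stcw14_sws_a hab', stum2_dws_a, S.sym (ng b) l hkl hkl' t, ng_ng,
                h7 hab hab' u _ hu, S.sym (ng l) b (Ne.symm hba') (stcw14_ng_ne' hab), ng_ng]
              congr 1
              simp only [star_neg, star_mul', star_inv₀, star_star, star_one]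
              field_simp
            · by_cases hlna : l = ng a
              · subst hlna
                rw [stcw14_sws_na hab', stum2_dws_na hab hab', S.sym (ng b) (ng a) hkl hkl' t, ng_ng, ng_ng,
                  h5a hab hab' u _ hu,
                  S.sym (ng a) (ng b) hnanb (by rw [ng_ng]; exact fun h => hba' h.symm), ng_ng, ng_ng]
                congr 1
                simp only [star_neg, star_mul', star_inv₀, star_star, star_one]
                field_simp
              · have hlb : l ≠ b := fun h => hkl' (by rw [h])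
                have hlnb : l ≠ ng b := Ne.symm hkl
                have n1 : ng l ≠ a := stcw14_ng_ne hlna
                have n2 : ng l ≠ ng a := stcw14_ng_ne' hla
                have n3 : ng l ≠ b := stcw14_ng_ne hlnb
                have n4 : ng l ≠ ng b := stcw14_ng_ne' hlb
                rw [stcw14_sws_of_ne hla hlb hlna hlnb, stum2_dws_of_ne hla hlb hlna hlnb,
                  S.sym (ng b) l hkl hkl' t, ng_ng, h4b hab hab' n1 n2 n3 n4 u _ hu,
                  S.sym (ng a) l (Ne.symm hlna) (Ne.symm n2), ng_ng]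
                congr 1
                simp only [star_neg, star_mul', star_inv₀, star_star, star_one]
                field_simp
          · have m1 : ng k ≠ a := stcw14_ng_ne hkna
            have m2 : ng k ≠ ng a := stcw14_ng_ne' hka
            have m3 : ng k ≠ b := stcw14_ng_ne hknb
            have m4 : ng k ≠ ng b := stcw14_ng_ne' hkb
            rw [stcw14_sws_of_ne hka hkb hkna hknb, stum2_dws_of_ne hka hkb hkna hknb]
            by_cases hla : l = a
            · subst hla
              rw [stcw14_sws_a hab', stum2_dws_a, h3 hab hab' hka hkna hkb hknb u t hu]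
              congr 1
              field_simp
            · by_cases hlb : l = b
              · subst hlb
                rw [stcw14_sws_b hab', stum2_dws_b hab, h4b hab hab' hka hkna hkb hknb u t hu]
                congr 1
                field_simp
              · by_cases hlna : l = ng a
                · subst hlna
                  rw [stcw14_sws_na hab', stum2_dws_na hab hab', S.sym k (ng a) hkna (by rw [ng_ng]; exact hka) t,
                    ng_ng, h2 hab hab' m1 m2 m3 m4 u _ hu,
                    S.sym k (ng b) hknb (by rw [ng_ng]; exact hkb), ng_ng]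
                  congr 1
                  simp only [star_neg, star_mul', star_inv₀, star_star, star_one]
                  field_simp
                · by_cases hlnb : l = ng b
                  · subst hlnb
                    rw [stcw14_sws_nb hab', stum2_dws_nb hab', S.sym k (ng b) hknb (by rw [ng_ng]; exact hkb) t,
                      ng_ng, h4a hab hab' m1 m2 m3 m4 u _ hu,
                      S.sym k (ng a) hkna (by rw [ng_ng]; exact hka), ng_ng]
                    congr 1
                    simp only [star_neg, star_mul', star_inv₀, star_star, star_one]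
                    field_simp
                  · rw [stcw14_sws_of_ne hla hlb hlna hlnb, stum2_dws_of_ne hla hlb hlna hlnb,
                      h1 hab hab' hkl hkl' hka hkb hkna hknb hla hlb hlna hlnb]
                    congr 1
                    simp
  · by_cases hka : k = a
    · subst hka
      rw [stcw14_sws_a hab', stum2_dws_a, h8 hab hab' u hu, inv_one, mul_one]
    · by_cases hkb : k = b
      · subst hkb
        rw [stcw14_sws_b hab', stum2_dws_b hab, h9 hab hab' u hu, inv_one, mul_one]
      · by_cases hkna : k = ng a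
        · subst hkna
          rw [stcw14_sws_na hab', stum2_dws_na hab hab', h10a hab hab' u hu, inv_one, mul_one]
        · by_cases hknb : k = ng b
          · subst hknb
            rw [stcw14_sws_nb hab', stum2_dws_nb hab', h10b hab hab' u hu, inv_one, mul_one]
          · rw [stcw14_sws_of_ne hka hkb hkna hknb, stum2_dws_of_ne hka hkb hkna hknb,
              h1l hab hab' hka hkb hkna hknb, inv_one, mul_one, stum0_act_one]

end SysU

end Cfsg.Agent.Lib.Helper27.STU
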