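import Mathlib
import Cfsg.Agent.Lib.Helper24.STUM2core
import Cfsg.Agent.Lib.helper15.STUW1
import Cfsg.Agent.Lib.helper8.STUW2
import Cfsg.Agent.Lib.Helper18.STUW3
import Cfsg.Agent.Lib.Helper18.STUW6
import Cfsg.Agent.Lib.Helper18.STUW8

set_option autoImplicit false

namespace Cfsg.Agent.Lib.Helper27.STU

open Cfsg.Agent.Lib.helper15.St2 Cfsg.Agent.Lib.helper7.St Cfsg.Agent.Lib.helper3.STC

namespace SysU

variable {F : Type*} [Field F] [StarRing F] {od : Prop} {ι : Type*} {G : Type*} [Group G] (S : SysU F od ι G)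

variable [DecidableEq ι]

theorem isMon_ws {a b : ι ⊕ ι} (hab : a ≠ b) (hab' : a ≠ ng b) (u : F) (hu : u ≠ 0) :
    S.IsMon (S.ws a b u) (sws a b) (dws a b u) 1 :=
  S.stum2_core
    (fun hab hab' hkl hkl' hka hkb hka' hkb' hla hlb hla' hlb' u t =>
      S.cj_ws_disj hab hab' hkl hkl' hka hkb hka' hkb' hla hlb hla' hlb' u t)
    (fun hab hab' hka hkb hka' hkb' u ξ => S.cj_ws_disj_l hab hab' hka hkb hka' hkb' u ξ)
    (fun hab hab' hla hla' hlb hlb' u t hu => S.cj_ws_al hab hab' hla hla' hlb hlb' u t hu)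
    (fun hab hab' hka hka' hkb hkb' u t hu => S.cj_ws_ka hab hab' hka hka' hkb hkb' u t hu)
    (fun hab hab' hla hla' hlb hlb' u t hu => S.cj_ws_bl hab hab' hla hla' hlb hlb' u t hu)
    (fun hab hab' hka hka' hkb hkb' u t hu => S.cj_ws_kb hab hab' hka hka' hkb hkb' u t hu)
    (fun hab hab' u t hu => S.cj_ws_ab hab hab' u t hu)
    (fun hab hab' u t hu => S.cj_ws_ba hab hab' u t hu)
    (fun hab hab' u t hu => S.cj_ws_anb hab hab' u t hu)
    (fun hab hab' u t hu => S.cj_ws_nab hab hab' u t hu)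
    (fun hab hab' u hu ξ => S.cj_ws_la hab hab' u hu ξ)
    (fun hab hab' u hu ξ => S.cj_ws_lb hab hab' u hu ξ)
    (fun hab hab' u hu ξ => S.cj_ws_lna hab hab' u hu ξ)
    (fun hab hab' u hu ξ => S.cj_ws_lnb hab hab' u hu ξ)
    hab hab' u hu

end SysU

end Cfsg.Agent.Lib.Helper27.STU
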