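import Mathlib
import Cfsg.Agent.Lib.helper15.St2
import Cfsg.Agent.Lib.helper7.StA
import Cfsg.Agent.Lib.helper7.StC
import Cfsg.Agent.Lib.Helper24.STCI1
import Cfsg.Agent.Lib.helper23.STCX2
import Cfsg.Agent.Lib.Helper27.STU.Defs
import Cfsg.Agent.Lib.Helper27.STU.Defs2
import Cfsg.Agent.Lib.Helper11.STUB3

set_option autoImplicit false

namespace Cfsg.Agent.Lib.Helper27.STU

open Cfsg.Agent.Lib.helper15.St2 Cfsg.Agent.Lib.helper7.St Cfsg.Agent.Lib.helper3.STC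

namespace SysU

variable {F : Type*} [Field F] [StarRing F] {od : Prop} {ι : Type*} {G : Type*} [Group G] (S : SysU F od ι G)

theorem cj_wl_disj {a k l : ι ⊕ ι} (hkl : k ≠ l) (hkl' : k ≠ ng l) (hka : k ≠ a) (hka' : k ≠ ng a) (hla : l ≠ a) (hla' : l ≠ ng a)
    (ξ : Lam F od) (t : F) : cj (S.wl a ξ) (S.xs k l t) = S.xs k l t := by
  unfold wl
  have hka'' : k ≠ ng (ng a) := by rw [ng_ng]; exact hka
  rw [← cj_cj, ← cj_cj, S.cj_comm_ls hkl hkl' hka' hla, S.cj_comm_ls hkl hkl' hka'' hla', S.cj_comm_ls hkl hkl' hka' hla]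

end SysU

end Cfsg.Agent.Lib.Helper27.STU
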