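import Mathlib
import Cfsg.Agent.Lib.helper15.St2
import Cfsg.Agent.Lib.helper7.StA
import Cfsg.Agent.Lib.helper7.StC
import Cfsg.Agent.Lib.helper7.StE
import Cfsg.Agent.Lib.Helper24.STCI1
import Cfsg.Agent.Lib.Helper24.STCW14core
import Cfsg.Agent.Lib.helper23.STCX2
import Cfsg.Agent.Lib.Helper27.STU.Defs
import Cfsg.Agent.Lib.Helper27.STU.Defs2
import Cfsg.Agent.Lib.Helper24.STUB1
import Cfsg.Agent.Lib.Helper24.STUM0
import Cfsg.Agent.Lib.Helper24.STUV4
import Cfsg.Agent.Lib.Helper12.STUV5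
import Cfsg.Agent.Lib.Helper12.STUV7

set_option autoImplicit false
set_option linter.unusedSimpArgs false

namespace Cfsg.Agent.Lib.Helper27.STU

open Cfsg.Agent.Lib.helper15.St2 Cfsg.Agent.Lib.helper7.St Cfsg.Agent.Lib.helper3.STC

section aux

variable {F : Type*} [Field F] [StarRing F] {od : Prop} {ι : Type*} [DecidableEq ι]

theorem stum3_dwl_a (a : ι ⊕ ι) (ξ : Lam F od) : dwl a ξ a = (star ξ.c)⁻¹ := by
  unfold dwl; rw [if_pos rfl]

theorem stum3_dwl_na (a : ι ⊕ ι) (ξ : Lam F od) : dwl a ξ (ng a) = ξ.c := by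
  unfold dwl; rw [if_neg (ng_ne a), if_pos rfl]

theorem stum3_dwl_of_ne {a k : ι ⊕ ι} (hka : k ≠ a) (hka' : k ≠ ng a) (ξ : Lam F od) : dwl a ξ k = 1 := by
  unfold dwl; rw [if_neg hka, if_neg hka']

theorem stum3_monData (a : ι ⊕ ι) {ξ : Lam F od} (hc : ξ.c ≠ 0) :
    SysU.MonData (Equiv.swap a (ng a)) (dwl a ξ) (d0l ξ) := by
  have hsc : star ξ.c ≠ 0 := fun h => hc (by simpa using congrArg star h)
  refine ⟨fun k => ?_, fun k => ?_, ?_⟩
  · by_cases hka : k = a
    · subst hka
      rw [Equiv.swap_apply_right, Equiv.swap_apply_left, ng_ng]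
    · by_cases hkna : k = ng a
      · subst hkna
        rw [ng_ng, Equiv.swap_apply_left, Equiv.swap_apply_right]
      · rw [Equiv.swap_apply_of_ne_of_ne (stcw14_ng_ne hkna) (stcw14_ng_ne' hka),
          Equiv.swap_apply_of_ne_of_ne hka hkna]
  · by_cases hka : k = a
    · subst hka
      rw [stum3_dwl_na, stum3_dwl_a, star_inv₀, star_star]
      field_simp
    · by_cases hkna : k = ng a
      · subst hkna
        rw [ng_ng, stum3_dwl_a, stum3_dwl_na]
        field_simp
      · rw [stum3_dwl_of_ne hka hkna, stum3_dwl_of_ne (stcw14_ng_ne hkna) (stcw14_ng_ne' hka)]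
        simp
  · unfold d0l
    rw [star_neg, star_div₀, star_star]
    field_simp

end aux

namespace SysU

variable {F : Type*} [Field F] [StarRing F] {od : Prop} {ι : Type*} {G : Type*} [Group G] (S : SysU F od ι G)

variable [DecidableEq ι]

theorem stum3_core
    (h2a : ∀ {a : ι ⊕ ι} {ξ : Lam F od}, ξ.c ≠ 0 → ∀ (η : Lam F od),
      cj (S.wl a ξ) (S.xl a η) = S.xl (ng a) (Lam.act (-(ξ.c / (star ξ.c) ^ 2)) η))
    (h2b : ∀ {a : ι ⊕ ι} {ξ : Lam F od}, ξ.c ≠ 0 → ∀ (η : Lam F od),
      cj (S.wl a ξ) (S.xl (ng a) η) = S.xl a (Lam.act (-(ξ.c ^ 2 / star ξ.c)) η))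
    (h6 : ∀ {a l : ι ⊕ ι}, l ≠ a → l ≠ ng a → ∀ {ξ : Lam F od}, ξ.c ≠ 0 → ∀ (t : F),
      cj (S.wl a ξ) (S.xs a l t) = S.xs (ng a) l ((star ξ.c)⁻¹ * t))
    (a : ι ⊕ ι) {ξ : Lam F od} (hc : ξ.c ≠ 0) :
    S.IsMon (S.wl a ξ) (Equiv.swap a (ng a)) (dwl a ξ) (d0l ξ) := by
  have hsc : star ξ.c ≠ 0 := fun h => hc (by simpa using congrArg star h)
  refine ⟨stum3_monData a hc, fun k l hkl hkl' t => ?_, fun k η => ?_⟩
  · by_cases hka : k = a
    · subst hka
      have hla : l ≠ k := Ne.symm hkl
      have hla' : l ≠ ng k := stcw1_ne_ng hkl'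
      rw [Equiv.swap_apply_left, Equiv.swap_apply_of_ne_of_ne hla hla', stum3_dwl_a, stum3_dwl_of_ne hla hla',
        h6 hla hla' hc t]
      congr 1
      field_simp
    · by_cases hkna : k = ng a
      · subst hkna
        have hla : l ≠ a := fun h => hkl' (by rw [h])
        have hla' : l ≠ ng a := Ne.symm hkl
        rw [Equiv.swap_apply_right, Equiv.swap_apply_of_ne_of_ne hla hla', stum3_dwl_na, stum3_dwl_of_ne hla hla',
          S.cj_wl_nal hla hla' hc t]
        congr 1
        field_simp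
      · have m1 : ng k ≠ a := stcw14_ng_ne hkna
        have m2 : ng k ≠ ng a := stcw14_ng_ne' hka
        rw [Equiv.swap_apply_of_ne_of_ne hka hkna, stum3_dwl_of_ne hka hkna]
        by_cases hla : l = a
        · subst hla
          rw [Equiv.swap_apply_left, stum3_dwl_a, S.sym k l hkl hkl' t, S.cj_wl_nal m1 m2 hc,
            S.sym k (ng l) hkna (by rw [ng_ng]; exact hka), ng_ng]
          congr 1
          simp only [star_neg, star_mul', star_inv₀, star_star, star_one]
          field_simp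
        · by_cases hlna : l = ng a
          · subst hlna
            rw [Equiv.swap_apply_right, stum3_dwl_na, S.sym k (ng a) hkl hkl' t, ng_ng, h6 m1 m2 hc,
              S.sym k a hka hkna]
            congr 1
            simp only [star_neg, star_mul', star_inv₀, star_star, star_one]
            field_simp
          · rw [Equiv.swap_apply_of_ne_of_ne hla hlna, stum3_dwl_of_ne hla hlna,
              S.cj_wl_disj hkl hkl' hka hkna hla hlna]
            congr 1
            simp
  · by_cases hka : k = a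
    · subst hka
      rw [Equiv.swap_apply_left, stum3_dwl_a, h2a hc]
      congr 2
      unfold d0l
      field_simp
    · by_cases hkna : k = ng a
      · subst hkna
        rw [Equiv.swap_apply_right, stum3_dwl_na, h2b hc]
        congr 2
        unfold d0l
        field_simp
      · rw [Equiv.swap_apply_of_ne_of_ne hka hkna, stum3_dwl_of_ne hka hkna,
          S.cj_wl_lb (Ne.symm hka) (stcw1_ne_ng hkna) hc]
        congr 2
        unfold d0l
        field_simp

end SysU

end Cfsg.Agent.Lib.Helper27.STU
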