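import Mathlib
import Cfsg.Agent.Lib.Helper24.STUM2
import Cfsg.Agent.Lib.Helper24.STUM3core
import Cfsg.Agent.Lib.Helper24.STUH6
import Cfsg.Agent.Lib.helper2.STUV3
import Cfsg.Agent.Lib.helper2.STUV6core

set_option autoImplicit false

namespace Cfsg.Agent.Lib.Helper27.STU

open Cfsg.Agent.Lib.helper15.St2 Cfsg.Agent.Lib.helper7.St Cfsg.Agent.Lib.helper3.STC

namespace SysU

variable {F : Type*} [Field F] [StarRing F] {od : Prop} {ι : Type*} {G : Type*} [Group G] (S : SysU F od ι G)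

section M

variable [DecidableEq ι]

theorem isMon_wl (a : ι ⊕ ι) {ξ : Lam F od} (hc : ξ.c ≠ 0) :
    S.IsMon (S.wl a ξ) (Equiv.swap a (ng a)) (dwl a ξ) (d0l ξ) :=
  S.stum3_core (fun hc η => S.cj_wl_a hc η) (fun hc η => S.cj_wl_na hc η)
    (fun hla hla' _ hc t => S.stuv6_core (fun hla hla' _ hc t => S.cj_wl_nal hla hla' hc t) hla hla' hc t) a hc

theorem hW_all : S.HW :=
  ⟨fun _ _ hab hab' u hu => S.isMon_ws hab hab' u hu, fun a _ hc => S.isMon_wl a hc⟩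

end M

section H
variable [Finite F]
variable [DecidableEq ι]

theorem hl_chain (hW : S.HW) (hH : S.HH) {a b : ι ⊕ ι} (hab : a ≠ b) (hab' : a ≠ ng b) {ξ η : Lam F od} (hξ : ξ.c ≠ 0) (hη : η.c ≠ 0) :
    S.hs a b (ξ.c / η.c) = S.hl a ξ η * S.hl b η ξ :=
  S.stuh5_core (fun hc h => S.wl_congr hc h) hW hH hab hab' hξ hη

end H

end SysU

end Cfsg.Agent.Lib.Helper27.STU
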