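import Mathlib
import Cfsg.Agent.Lib.helper15.St2
import Cfsg.Agent.Lib.helper7.StA
import Cfsg.Agent.Lib.helper7.StC
import Cfsg.Agent.Lib.helper7.StE
import Cfsg.Agent.Lib.Helper24.STCI1
import Cfsg.Agent.Lib.helper23.STCX2
import Cfsg.Agent.Lib.Helper27.STU.Defs
import Cfsg.Agent.Lib.Helper27.STU.Defs2
import Cfsg.Agent.Lib.Helper24.STUB1
import Cfsg.Agent.Lib.Helper24.STUM0

set_option autoImplicit false

namespace Cfsg.Agent.Lib.Helper27.STU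

open Cfsg.Agent.Lib.helper15.St2 Cfsg.Agent.Lib.helper7.St Cfsg.Agent.Lib.helper3.STC

namespace SysU

variable {F : Type*} [Field F] [StarRing F] {od : Prop} {ι : Type*} {G : Type*} [Group G] (S : SysU F od ι G)

theorem IsMon.congr {g : G} {π π' : Equiv.Perm (ι ⊕ ι)} {d d' : ι ⊕ ι → F} {d0 d0' : F} (h : S.IsMon g π d d0)
    (hπ : π = π') (hd : ∀ k, d k = d' k) (hd0 : d0 = d0') : S.IsMon g π' d' d0' := by
  have : d = d' := funext hd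
  subst hπ this hd0
  exact h

theorem IsMon.mul {g g' : G} {π π' : Equiv.Perm (ι ⊕ ι)} {d d' : ι ⊕ ι → F} {d0 d0' : F} (h : S.IsMon g π d d0)
    (h' : S.IsMon g' π' d' d0') : S.IsMon (g * g') (π * π') (fun k => d (π' k) * d' k) (d0 * d0') := by
  refine ⟨h.1.mul h'.1, fun k l hkl hkl' t => ?_, fun k ξ => ?_⟩
  · have hn : π' k ≠ ng (π' l) := by
      rw [← h'.1.pi_ng]
      exact π'.injective.ne hkl'
    rw [← cj_cj, h'.2.1 k l hkl hkl', h.2.1 (π' k) (π' l) (π'.injective.ne hkl) hn]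
    simp only [Equiv.Perm.mul_apply]
    congr 1
    rw [mul_inv]
    ring
  · rw [← cj_cj, h'.2.2 k ξ, h.2.2 (π' k), stum0_act_act]
    simp only [Equiv.Perm.mul_apply]
    congr 2
    rw [mul_inv]
    ring

theorem IsMon.inv {g : G} {π : Equiv.Perm (ι ⊕ ι)} {d : ι ⊕ ι → F} {d0 : F} (h : S.IsMon g π d d0) :
    S.IsMon g⁻¹ π⁻¹ (fun k => (d (π⁻¹ k))⁻¹) d0⁻¹ := by
  refine ⟨h.1.inv, fun k l hkl hkl' t => ?_, fun k ξ => ?_⟩
  · apply cj_inv_of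
    have hn : π⁻¹ k ≠ ng (π⁻¹ l) := by
      rw [← stum0_inv_ng h.1.pi_ng]
      exact π⁻¹.injective.ne hkl'
    rw [h.2.1 _ _ (π⁻¹.injective.ne hkl) hn]
    have h1 := h.1.d_ne (π⁻¹ k)
    have h2 := h.1.d_ne (π⁻¹ l)
    have e1 : π (π⁻¹ k) = k := π.apply_symm_apply k
    have e2 : π (π⁻¹ l) = l := π.apply_symm_apply l
    rw [e1, e2]
    congr 1
    field_simp
  · apply cj_inv_of
    rw [h.2.2, stum0_act_act]
    have h1 := h.1.d_ne (π⁻¹ k)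
    have h2 := h.1.d0_ne
    have e1 : π (π⁻¹ k) = k := π.apply_symm_apply k
    rw [e1]
    have e : d (π⁻¹ k) * d0⁻¹ * ((d (π⁻¹ k))⁻¹ * d0⁻¹⁻¹) = 1 := by
      field_simp
    rw [e, stum0_act_one]

theorem IsMon.cj_ws {g : G} {π : Equiv.Perm (ι ⊕ ι)} {d : ι ⊕ ι → F} {d0 : F} (hg : S.IsMon g π d d0) {a b : ι ⊕ ι}
    (hab : a ≠ b) (hab' : a ≠ ng b) (u : F) (hu : u ≠ 0) :
    cj g (S.ws a b u) = S.ws (π a) (π b) (d a * (d b)⁻¹ * u) := by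
  unfold ws
  rw [cj_mul, cj_mul, hg.2.1 a b hab hab', hg.2.1 b a hab.symm (stub1_ng_ne hab')]
  have h1 := hg.1.d_ne a
  have h2 := hg.1.d_ne b
  have e : d b * (d a)⁻¹ * -u⁻¹ = -(d a * (d b)⁻¹ * u)⁻¹ := by
    field_simp
  rw [e]

theorem IsMon.cj_hs {g : G} {π : Equiv.Perm (ι ⊕ ι)} {d : ι ⊕ ι → F} {d0 : F} (hg : S.IsMon g π d d0) {a b : ι ⊕ ι}
    (hab : a ≠ b) (hab' : a ≠ ng b) (u : F) (hu : u ≠ 0) :
    cj g (S.hs a b u) = S.ws (π a) (π b) (d a * (d b)⁻¹ * u) * S.ws (π a) (π b) (-(d a * (d b)⁻¹)) := by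
  unfold hs
  rw [cj_mul, IsMon.cj_ws S hg hab hab' u hu, IsMon.cj_ws S hg hab hab' (-1) (by simp)]
  congr 2
  ring

theorem IsMon.cj_wl {g : G} {π : Equiv.Perm (ι ⊕ ι)} {d : ι ⊕ ι → F} {d0 : F} (hg : S.IsMon g π d d0) (a : ι ⊕ ι)
    (ξ : Lam F od) : cj g (S.wl a ξ) = S.wl (π a) (Lam.act (d a * d0⁻¹) ξ) := by
  unfold wl
  have h1 := hg.1.d_ne a
  have h2 := hg.1.d0_ne
  have hs : d a * d0⁻¹ ≠ 0 := mul_ne_zero h1 (inv_ne_zero h2)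
  rw [cj_mul, cj_mul, hg.2.2, hg.2.2, hg.2.2, hg.1.pi_ng, stum0_mu_act _ hs, stum0_nu_act _ hs]
  have e : d (ng a) * d0⁻¹ = (star (d a * d0⁻¹))⁻¹ := by
    rw [hg.1.d_ng_eq, star_mul', mul_inv, hg.1.d0_inv, star_star, ← hg.1.d0_inv]
  rw [e]

theorem IsMon.cj_hl {g : G} {π : Equiv.Perm (ι ⊕ ι)} {d : ι ⊕ ι → F} {d0 : F} (hg : S.IsMon g π d d0) (a : ι ⊕ ι)
    (ξ η : Lam F od) : cj g (S.hl a ξ η) = S.hl (π a) (Lam.act (d a * d0⁻¹) ξ) (Lam.act (d a * d0⁻¹) η) := by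
  unfold hl
  rw [cj_mul, cj_inv, IsMon.cj_wl S hg, IsMon.cj_wl S hg]

end SysU

end Cfsg.Agent.Lib.Helper27.STU
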