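import Cfsg.Agent.Lib.helper7.CEC.Defs

set_option autoImplicit false

namespace Cfsg.Agent.Lib.helper7.CEC

open Cfsg.Agent.Lib.helper15.St2 Cfsg.Agent.Lib.helper7.Ce Cfsg.Agent.Lib.helper3.STC

section M

theorem cecm3_exists {m : ℕ} (s : Finset (Fin m)) (hs : s.card < m) : ∃ i, i ∉ s := by
  by_contra hcon
  push Not at hcon
  have : s = Finset.univ := Finset.eq_univ_iff_forall.2 hcon
  rw [this, Finset.card_univ, Fintype.card_fin] at hs
  omega

theorem cecm3_ab_inl {ι : Type*} (i : ι) : ab (Sum.inl i : ι ⊕ ι) = i := rfl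

theorem I2_fin {m : ℕ} (hm : 2 ≤ m) : I2 (Fin m) := by
  intro b
  obtain ⟨i, hi⟩ := cecm3_exists ({ab b} : Finset (Fin m))
    (lt_of_le_of_lt (Finset.card_singleton _).le (by omega))
  refine ⟨Sum.inl i, ?_⟩
  rw [cecm3_ab_inl]
  simpa using hi

theorem I3_fin {m : ℕ} (hm : 3 ≤ m) : I3 (Fin m) := by
  intro a b
  obtain ⟨i, hi⟩ := cecm3_exists ({ab a, ab b} : Finset (Fin m))
    (lt_of_le_of_lt Finset.card_le_two (by omega))
  refine ⟨Sum.inl i, ?_⟩
  rw [cecm3_ab_inl]
  simpa using hi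

theorem I4_fin {m : ℕ} (hm : 4 ≤ m) : I4 (Fin m) := by
  intro a b c
  obtain ⟨i, hi⟩ := cecm3_exists ({ab a, ab b, ab c} : Finset (Fin m))
    (lt_of_le_of_lt Finset.card_le_three (by omega))
  refine ⟨Sum.inl i, ?_⟩
  rw [cecm3_ab_inl]
  simpa using hi

theorem U2_fin : U2 (Fin 2) := by
  intro a b e
  generalize ab a = x
  generalize ab b = y
  generalize ab e = z
  revert x y z
  decide

theorem U3_fin : U3 (Fin 3) := by
  intro a b e e'
  generalize ab a = x
  generalize ab b = y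
  generalize ab e = z
  generalize ab e' = w
  revert x y z w
  decide

end M

end Cfsg.Agent.Lib.helper7.CEC
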