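import Mathlib
import Cfsg.Agent.Lib.Helper24.SU3M.Defs
import Cfsg.Agent.Lib.helper7.CeA
import Cfsg.Agent.Lib.helper3.StemTools
import Cfsg.Agent.Lib.Helper21.SU3ME1
import Cfsg.Agent.Lib.Helper25.SLNS5
import Cfsg.Agent.S0261
import Cfsg.Agent.Lib.helper2.SLPM1
import Cfsg.Agent.Lib.helper15.SLNS3

set_option autoImplicit false
set_option linter.unusedSectionVars false
set_option linter.unusedVariables false

namespace Cfsg.Agent.Lib.Helper24.SU3M

open Cfsg.Agent.Lib.Helper19.U3P Cfsg.Agent.Lib.Helper25.SU3P Cfsg.Agent.Lib.helper14.SU3J Cfsg.Agent.Lib.helper7.Ce Matrix Polynomial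

universe u

section G

open scoped commutatorElement

theorem su3me7_conj_comm {Γ : Type*} [Group Γ] (N : Subgroup Γ) (g : Γ) (hg : ∀ n ∈ N, g * n * g⁻¹ ∈ N) :
    ∀ c ∈ ⁅N, N⁆, g * c * g⁻¹ ∈ ⁅N, N⁆ := by
  intro c hc
  have h1 : (⁅N, N⁆).map (MulAut.conj g).toMonoidHom ≤ ⁅N, N⁆ := by
    rw [Subgroup.map_commutator]
    apply Subgroup.commutator_mono <;>
    · rintro _ ⟨n, hn, rfl⟩
      exact hg n hn
  exact h1 ⟨c, hc, rfl⟩

theorem su3me7_mem_normalizer {Γ : Type*} [Group Γ] (H : Subgroup Γ) (g : Γ) (h1 : ∀ x ∈ H, g * x * g⁻¹ ∈ H)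
    (h2 : ∀ x ∈ H, g⁻¹ * x * g ∈ H) : g ∈ Subgroup.normalizer (H : Set Γ) := by
  rw [Subgroup.mem_normalizer_iff]
  intro x
  constructor
  · exact h1 x
  · intro hx
    have := h2 _ hx
    have e : g⁻¹ * (g * x * g⁻¹) * g = x := by group
    rwa [e] at this

def su3me7_Q {Γ : Type*} [Group Γ] (N : Subgroup Γ) (w : Γ) (hw : ∀ n ∈ N, w * n * w⁻¹ ∈ N) : Subgroup Γ where
  carrier := {u | ∃ n ∈ N, ∃ c ∈ ⁅N, N⁆, u = cm w n * c}
  one_mem' := ⟨1, N.one_mem, 1, Subgroup.one_mem _, by unfold cm; group⟩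
  mul_mem' := by
    have hcmN : ∀ n ∈ N, cm w n ∈ N := fun n hn => N.mul_mem (hw n hn) (N.inv_mem hn)
    rintro _ _ ⟨n, hn, c, hc, rfl⟩ ⟨n', hn', c', hc', rfl⟩
    have hy : cm w n' ∈ N := hcmN n' hn'
    have hx : cm n (cm w n') ∈ ⁅N, N⁆ := Subgroup.commutator_mem_commutator hn hy
    have hconj := su3me7_conj_comm N (cm w n')⁻¹ (fun m hm => N.mul_mem (N.mul_mem (N.inv_mem hy) hm) (N.inv_mem (N.inv_mem hy)))
      ((cm n (cm w n'))⁻¹ * c) (Subgroup.mul_mem _ (Subgroup.inv_mem _ hx) hc)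
    refine ⟨n * n', N.mul_mem hn hn', (cm w n')⁻¹ * ((cm n (cm w n'))⁻¹ * c) * (cm w n')⁻¹⁻¹ * c', Subgroup.mul_mem _ hconj hc', ?_⟩
    have key : cm w (n * n') = cm w n * (cm n (cm w n') * cm w n') := by
      unfold cm; group
    rw [key]
    group
  inv_mem' := by
    have hcmN : ∀ n ∈ N, cm w n ∈ N := fun n hn => N.mul_mem (hw n hn) (N.inv_mem hn)
    rintro _ ⟨n, hn, c, hc, rfl⟩
    have hn' : n⁻¹ ∈ N := N.inv_mem hn
    have hy : cm w n⁻¹ ∈ N := hcmN _ hn'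
    have hx : cm n (cm w n⁻¹) ∈ ⁅N, N⁆ := Subgroup.commutator_mem_commutator hn hy
    have hconj := su3me7_conj_comm N (cm w n⁻¹)⁻¹ (fun m hm => N.mul_mem (N.mul_mem (N.inv_mem hy) hm) (N.inv_mem (N.inv_mem hy)))
      (c⁻¹ * cm n (cm w n⁻¹)) (Subgroup.mul_mem _ (Subgroup.inv_mem _ hc) hx)
    refine ⟨n⁻¹, hn', (cm w n⁻¹)⁻¹ * (c⁻¹ * cm n (cm w n⁻¹)) * (cm w n⁻¹)⁻¹⁻¹, hconj, ?_⟩
    have key : cm w (n * n⁻¹) = cm w n * (cm n (cm w n⁻¹) * cm w n⁻¹) := by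
      unfold cm; group
    have h1 : cm w (n * n⁻¹) = 1 := by unfold cm; group
    have key2 : (cm w n)⁻¹ = cm n (cm w n⁻¹) * cm w n⁻¹ := by
      rw [h1] at key
      exact inv_eq_of_mul_eq_one_right key.symm
    calc (cm w n * c)⁻¹ = c⁻¹ * (cm w n)⁻¹ := by group
      _ = c⁻¹ * (cm n (cm w n⁻¹) * cm w n⁻¹) := by rw [key2]
      _ = cm w n⁻¹ * ((cm w n⁻¹)⁻¹ * (c⁻¹ * cm n (cm w n⁻¹)) * (cm w n⁻¹)⁻¹⁻¹) := by group

theorem su3me7_comm_form {Γ : Type*} [Group Γ] (N : Subgroup Γ) (w : Γ) (hw : ∀ n ∈ N, w * n * w⁻¹ ∈ N) (hw' : ∀ n ∈ N, w⁻¹ * n * w ∈ N) :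
    ∀ u ∈ ⁅N ⊔ Subgroup.zpowers w, N ⊔ Subgroup.zpowers w⁆, ∃ n ∈ N, ∃ c ∈ ⁅N, N⁆, u = cm w n * c := by
  have hDN : ⁅N, N⁆ ≤ N := Subgroup.commutator_le_self N
  have hcmN : ∀ n ∈ N, cm w n ∈ N := fun n hn => N.mul_mem (hw n hn) (N.inv_mem hn)
  set Q := su3me7_Q N w hw with hQ
  have hQN : Q ≤ N := by
    rintro _ ⟨n, hn, c, hc, rfl⟩
    exact N.mul_mem (hcmN n hn) (hDN hc)
  have hDQ : ⁅N, N⁆ ≤ Q := by
    intro c hc
    exact ⟨1, N.one_mem, c, hc, by unfold cm; group⟩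
  have hcmQ : ∀ n ∈ N, cm w n ∈ Q := fun n hn => ⟨n, hn, 1, Subgroup.one_mem _, by rw [mul_one]⟩
  have hnormN : N ≤ Subgroup.normalizer (Q : Set Γ) := by
    have hconj : ∀ n ∈ N, ∀ x ∈ Q, n * x * n⁻¹ ∈ Q := by
      intro n hn x hx
      have e : n * x * n⁻¹ = cm n x * x := by unfold cm; group
      rw [e]
      exact Q.mul_mem (hDQ (Subgroup.commutator_mem_commutator hn (hQN hx))) hx
    intro n hn
    refine su3me7_mem_normalizer Q n (hconj n hn) ?_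
    intro x hx
    have := hconj n⁻¹ (N.inv_mem hn) x hx
    rwa [inv_inv] at this
  have hnormw : w ∈ Subgroup.normalizer (Q : Set Γ) := by
    refine su3me7_mem_normalizer Q w ?_ ?_
    · rintro _ ⟨n, hn, c, hc, rfl⟩
      refine ⟨w * n * w⁻¹, hw n hn, w * c * w⁻¹, su3me7_conj_comm N w hw c hc, ?_⟩
      unfold cm; group
    · rintro _ ⟨n, hn, c, hc, rfl⟩
      refine ⟨w⁻¹ * n * w, hw' n hn, w⁻¹ * c * w⁻¹⁻¹, su3me7_conj_comm N w⁻¹ (fun m hm => by simpa using hw' m hm) c hc, ?_⟩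
      unfold cm; group
  have hE : N ⊔ Subgroup.zpowers w ≤ Subgroup.normalizer (Q : Set Γ) :=
    sup_le hnormN ((Subgroup.zpowers_le).2 hnormw)
  have hconjE : ∀ g ∈ N ⊔ Subgroup.zpowers w, ∀ x ∈ Q, g * x * g⁻¹ ∈ Q := fun g hg x hx =>
    (Subgroup.mem_normalizer_iff.1 (hE hg) x).1 hx
  have hconjE' : ∀ g ∈ N ⊔ Subgroup.zpowers w, ∀ x ∈ Q, g⁻¹ * x * g ∈ Q := fun g hg x hx => by
    have := hconjE g⁻¹ (Subgroup.inv_mem _ hg) x hx
    rwa [inv_inv] at this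
  have hEcl : N ⊔ Subgroup.zpowers w = Subgroup.closure ((N : Set Γ) ∪ {w}) := by
    rw [Subgroup.closure_union, Subgroup.closure_eq, Subgroup.zpowers_eq_closure]
  have hgenE : ∀ g ∈ ((N : Set Γ) ∪ {w}), g ∈ N ⊔ Subgroup.zpowers w := by
    intro g hg
    rw [hEcl]
    exact Subgroup.subset_closure hg
  have hbase : ∀ g ∈ ((N : Set Γ) ∪ {w}), ∀ k ∈ ((N : Set Γ) ∪ {w}), ⁅g, k⁆ ∈ Q := by
    rintro g (hg | hg) k (hk | hk)
    · exact hDQ (Subgroup.commutator_mem_commutator hg hk)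
    · rw [Set.mem_singleton_iff] at hk
      subst hk
      have : ⁅g, k⁆ = (cm k g)⁻¹ := by rw [cm_inv_swap]; rfl
      rw [this]
      exact Q.inv_mem (hcmQ g hg)
    · rw [Set.mem_singleton_iff] at hg
      subst hg
      exact hcmQ k hk
    · rw [Set.mem_singleton_iff] at hg hk
      subst hg; subst hk
      rw [commutatorElement_self]
      exact Q.one_mem
  have hstep1 : ∀ g ∈ ((N : Set Γ) ∪ {w}), ∀ k ∈ N ⊔ Subgroup.zpowers w, ⁅g, k⁆ ∈ Q := by
    intro g hg k hk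
    have : k ∈ N ⊔ Subgroup.zpowers w ∧ ⁅g, k⁆ ∈ Q := by
      rw [hEcl] at hk
      induction hk using Subgroup.closure_induction with
      | mem x hx => exact ⟨hgenE x hx, hbase g hg x hx⟩
      | one => exact ⟨Subgroup.one_mem _, by rw [commutatorElement_one_right]; exact Q.one_mem⟩
      | mul x y _ _ ihx ihy =>
        refine ⟨Subgroup.mul_mem _ ihx.1 ihy.1, ?_⟩
        rw [commutatorElement_mul_right_eq_mul_conj]
        have e : ⁅g, x⁆ * x * ⁅g, y⁆ * x⁻¹ = ⁅g, x⁆ * (x * ⁅g, y⁆ * x⁻¹) := by group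
        rw [e]
        exact Q.mul_mem ihx.2 (hconjE x ihx.1 _ ihy.2)
      | inv x _ ihx =>
        refine ⟨Subgroup.inv_mem _ ihx.1, ?_⟩
        rw [commutatorElement_inv_right, ← commutatorElement_inv]
        exact hconjE' x ihx.1 _ (Q.inv_mem ihx.2)
    exact this.2
  have hstep2 : ∀ g ∈ N ⊔ Subgroup.zpowers w, ∀ k ∈ N ⊔ Subgroup.zpowers w, ⁅g, k⁆ ∈ Q := by
    intro g hg k hk
    have : g ∈ N ⊔ Subgroup.zpowers w ∧ ⁅g, k⁆ ∈ Q := by
      rw [hEcl] at hg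
      induction hg using Subgroup.closure_induction with
      | mem x hx => exact ⟨hgenE x hx, hstep1 x hx k hk⟩
      | one => exact ⟨Subgroup.one_mem _, by rw [commutatorElement_one_left]; exact Q.one_mem⟩
      | mul x y _ _ ihx ihy =>
        refine ⟨Subgroup.mul_mem _ ihx.1 ihy.1, ?_⟩
        rw [commutatorElement_mul_left_eq_conj_mul]
        exact Q.mul_mem (hconjE x ihx.1 _ ihy.2) ihx.2
      | inv x _ ihx =>
        refine ⟨Subgroup.inv_mem _ ihx.1, ?_⟩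
        rw [commutatorElement_inv_left, ← commutatorElement_inv]
        exact hconjE' x ihx.1 _ (Q.inv_mem ihx.2)
    exact this.2
  intro u hu
  exact (Subgroup.commutator_le.2 hstep2) hu


theorem su3me7_step1 {Γ G : Type*} [Group Γ] [Group G] {π : Γ →* G} (h : IsCE π) (L : Subgroup G) (d : G)
    (hd : ∀ g ∈ L, d * g * d⁻¹ ∈ L) (hd' : ∀ g ∈ L, d⁻¹ * g * d ∈ L)
    (hH : ∀ X ∈ L, d * X * d⁻¹ * X⁻¹ ∈ ⁅L, L⁆ → X ∈ ⁅L, L⁆) :
    ∀ w ∈ ⁅(L ⊔ Subgroup.zpowers d).comap π, (L ⊔ Subgroup.zpowers d).comap π⁆, π w = 1 → w ∈ ⁅L.comap π, L.comap π⁆ := by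
  obtain ⟨d', hd'e⟩ := h.surj d
  have hdN : d ∈ Subgroup.normalizer (L : Set G) := su3me7_mem_normalizer L d hd hd'
  have hzN : Subgroup.zpowers d ≤ Subgroup.normalizer (L : Set G) := by
    rw [Subgroup.zpowers_le]
    exact hdN
  have hsplit : (L ⊔ Subgroup.zpowers d).comap π ≤ L.comap π ⊔ Subgroup.zpowers d' := by
    intro e he
    have h1 : π e ∈ (↑(L ⊔ Subgroup.zpowers d) : Set G) := he
    rw [Subgroup.coe_mul_of_right_le_normalizer_left L (Subgroup.zpowers d) hzN] at h1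
    obtain ⟨l, hl, z, hz, hlz⟩ := h1
    obtain ⟨n, rfl⟩ := Subgroup.mem_zpowers_iff.1 hz
    have e1 : e = (e * (d' ^ n)⁻¹) * d' ^ n := by group
    rw [e1]
    refine Subgroup.mul_mem _ (Subgroup.mem_sup_left ?_) (Subgroup.mem_sup_right (Subgroup.zpow_mem_zpowers d' n))
    rw [Subgroup.mem_comap, map_mul, map_inv, map_zpow, hd'e]
    have : π e = l * d ^ n := hlz.symm
    rw [this, mul_inv_cancel_right]
    exact hl
  have hw1 : ∀ n ∈ L.comap π, d' * n * d'⁻¹ ∈ L.comap π := by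
    intro n hn
    rw [Subgroup.mem_comap, map_mul, map_mul, map_inv, hd'e]
    exact hd _ hn
  have hw2 : ∀ n ∈ L.comap π, d'⁻¹ * n * d' ∈ L.comap π := by
    intro n hn
    rw [Subgroup.mem_comap, map_mul, map_mul, map_inv, hd'e]
    exact hd' _ hn
  have hmapR : (⁅L.comap π, L.comap π⁆).map π = ⁅L, L⁆ := by
    rw [Subgroup.map_commutator, Subgroup.map_comap_eq_self_of_surjective h.surj]
  intro w hw hπw
  obtain ⟨n, hn, c, hc, rfl⟩ := su3me7_comm_form (L.comap π) d' hw1 hw2 w (Subgroup.commutator_mono hsplit hsplit hw)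
  have hπc : π c ∈ ⁅L, L⁆ := by
    rw [← hmapR]
    exact ⟨c, hc, rfl⟩
  have h2 : d * π n * d⁻¹ * (π n)⁻¹ ∈ ⁅L, L⁆ := by
    have e1 : π (cm d' n * c) = (d * π n * d⁻¹ * (π n)⁻¹) * π c := by
      rw [map_mul, map_cm, hd'e]
      rfl
    rw [hπw] at e1
    have e2 : d * π n * d⁻¹ * (π n)⁻¹ = (π c)⁻¹ := eq_inv_of_mul_eq_one_left e1.symm
    rw [e2]
    exact Subgroup.inv_mem _ hπc
  have h3 : π n ∈ ⁅L, L⁆ := hH _ hn h2
  rw [← hmapR] at h3
  obtain ⟨r, hr, hre⟩ := h3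
  have hk : π (r⁻¹ * n) = 1 := by rw [map_mul, map_inv, hre, inv_mul_cancel]
  have e3 : n = r * (r⁻¹ * n) := by group
  have e4 : cm d' n = cm d' r := by
    rw [e3, h.cm_mul_central_right hk]
  rw [e4]
  refine Subgroup.mul_mem _ ?_ hc
  have e5 : cm d' r = (d' * r * d'⁻¹) * r⁻¹ := rfl
  rw [e5]
  exact Subgroup.mul_mem _ (su3me7_conj_comm (L.comap π) d' hw1 r hr) (Subgroup.inv_mem _ hr)

theorem su3me7_transfer {Γ G : Type*} [Group Γ] [Group G] [Finite Γ] (σ : Γ →* G) (hsurj : Function.Surjective σ)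
    (hcen : σ.ker ≤ Subgroup.center Γ) (S : Subgroup G) (hind : ¬ 2 ∣ S.index)
    (hS : ∀ w ∈ ⁅S.comap σ, S.comap σ⁆, σ w = 1 → w = 1) {z : Γ} (hz : σ z = 1) (hz' : z ∈ commutator Γ)
    (hz2 : z ^ 2 = 1) : z = 1 := by
  have h1 := Cfsg.Agent.Lib.helper3.pow_index_mem_commutator (S.comap σ) (hcen (MonoidHom.mem_ker.2 hz)) hz'
  have h2 : σ (z ^ (S.comap σ).index) = 1 := by rw [map_pow, hz, one_pow]
  have h3 := hS _ h1 h2
  rw [Subgroup.index_comap_of_surjective S hsurj] at h3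
  have hodd : Odd S.index := Nat.odd_iff.2 (by omega)
  obtain ⟨k, hk⟩ := hodd
  rw [hk, pow_succ, pow_mul, hz2, one_pow, one_mul] at h3
  exact h3

theorem su3me7_step2 {K : Type*} [Field K] [Fintype K] (hK : Odd (Fintype.card K)) {Γ G : Type*} [Group Γ] [Finite Γ] [Group G]
    {π : Γ →* G} (h : IsCE π) (ρ : Matrix.SpecialLinearGroup (Fin 2) K →* G) (hρ : Function.Injective ρ) :
    ∀ z ∈ ⁅ρ.range.comap π, ρ.range.comap π⁆, π z = 1 → z ^ 2 = 1 → z = 1 := by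
  intro z hz hπz hz2
  let e := MonoidHom.ofInjective hρ
  let τ : ↥(ρ.range.comap π) →* Matrix.SpecialLinearGroup (Fin 2) K := e.symm.toMonoidHom.comp (π.subgroupComap ρ.range)
  have hτs : Function.Surjective τ := e.symm.surjective.comp (π.subgroupComap_surjective_of_surjective ρ.range h.surj)
  have hτ1 : ∀ x : ↥(ρ.range.comap π), τ x = 1 ↔ π (x : Γ) = 1 := by
    intro x
    constructor
    · intro hx
      have hx0 : (π.subgroupComap ρ.range) x = 1 := (MulEquiv.map_eq_one_iff e.symm).mp hx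
      exact congrArg Subtype.val hx0
    · intro hx
      have hx0 : (π.subgroupComap ρ.range) x = 1 := Subtype.ext hx
      show e.symm ((π.subgroupComap ρ.range) x) = 1
      rw [hx0, map_one]
  have hτc : τ.ker ≤ Subgroup.center ↥(ρ.range.comap π) := by
    intro x hx
    rw [MonoidHom.mem_ker, hτ1] at hx
    have hc : (x : Γ) ∈ Subgroup.center Γ := h.cen (MonoidHom.mem_ker.2 hx)
    rw [Subgroup.mem_center_iff]
    intro g
    apply Subtype.ext
    exact Subgroup.mem_center_iff.1 hc g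
  obtain ⟨S⟩ : Nonempty (Sylow 2 (Matrix.SpecialLinearGroup (Fin 2) K)) := inferInstance
  obtain ⟨k, -, ⟨e'⟩⟩ := Cfsg.Agent.S0261.result hK S
  have hind : ¬ 2 ∣ (S : Subgroup (Matrix.SpecialLinearGroup (Fin 2) K)).index := Sylow.not_dvd_index S
  have : NeZero (2 ^ k) := ⟨pow_ne_zero k (by norm_num)⟩
  have hq := Cfsg.Agent.Lib.helper3.comm_comap_trivial_of_quat τ hτs hτc (S : Subgroup (Matrix.SpecialLinearGroup (Fin 2) K)) (2 ^ k) e'
  rw [← Subgroup.map_subtype_commutator] at hz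
  obtain ⟨z₁, hz₁, rfl⟩ := hz
  have hz₁' : z₁ ∈ commutator ↥(ρ.range.comap π) := hz₁
  have h1 : z₁ = 1 := by
    apply su3me7_transfer τ hτs hτc (S : Subgroup (Matrix.SpecialLinearGroup (Fin 2) K)) hind hq ((hτ1 z₁).2 hπz) hz₁'
    apply Subtype.ext
    exact hz2
  rw [h1]
  rfl

end G


section E

open Cfsg.Agent.Lib.helper17.SLP Cfsg.Agent.Lib.helper17.SLN

variable {F : Type u} [Field F] [Fintype F] {K : Type u} [Field K] [Fintype K] {q : ℕ} {Γ : Type*} [Group Γ] {π : Γ →* ↥(Cfsg.SU 3 F q)}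

theorem su3me7_three (hK : Fintype.card K = 3) : (3 : K) = 0 := by
  have : Fact (Nat.Prime 3) := ⟨by norm_num⟩
  have : CharP K 3 := charP_of_card_eq_prime hK
  exact_mod_cast CharP.cast_eq_zero K 3

theorem su3me7_bK (D : Par F K q) (hK : Fintype.card K = 3) : (D.bK : K) = -1 := by
  classical
  have h3 : (3 : K) = 0 := su3me7_three hK
  have h2 : (2 : K) ≠ 0 := by
    intro h2
    have : (1 : K) = 0 := by linear_combination h3 - h2
    exact one_ne_zero this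
  have hcard : Fintype.card Kˣ = 2 := by rw [Fintype.card_units, hK]
  have hsq : (D.bK : Kˣ) ^ 2 = 1 := by
    rw [← hcard]
    exact pow_card_eq_one
  have hsq' : (D.bK : K) ^ 2 = 1 := by
    have := congrArg (fun u : Kˣ => (u : K)) hsq
    simpa using this
  have h4 : ((D.bK : K) - 1) * ((D.bK : K) + 1) = 0 := by linear_combination hsq'
  rcases mul_eq_zero.1 h4 with h5 | h5
  · exfalso
    have hb1 : D.bK = 1 := Units.ext (by simpa using sub_eq_zero.1 h5)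
    have hm := D.hbKgen (-1)
    rw [hb1, Subgroup.zpowers_one_eq_bot, Subgroup.mem_bot] at hm
    have : ((-1 : Kˣ) : K) = 1 := by rw [hm]; rfl
    rw [Units.val_neg, Units.val_one] at this
    apply h2
    linear_combination -this
  · linear_combination h5

theorem su3me7_zeta (D : Par F K q) (hK : Fintype.card K = 3) : (D.ζ : F) * D.σ (D.ζ : F) = -1 := by
  rw [← D.hbK, su3me7_bK D hK, map_neg, map_one]

theorem su3me7_conj_x (D : Par F K q) (hK : Fintype.card K = 3) {ε : F} {hz : ↥(Cfsg.SU 3 F q)} {ρ : SL2 K →* ↥(Cfsg.SU 3 F q)}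
    (hD : Dat D ε hz ρ) (t : K) : hz * ρ (xM t) * hz⁻¹ = ρ (xM (-t)) := by
  have hζ := su3me7_zeta D hK
  have hζ0 : (D.ζ : F) ≠ 0 := D.ζ.ne_zero
  have hσ0 : D.σ (D.ζ : F) ≠ 0 := by
    intro h0
    rw [h0, mul_zero] at hζ
    exact one_ne_zero (neg_eq_zero.1 hζ.symm)
  have key : hz * ρ (xM t) = ρ (xM (-t)) * hz := by
    apply D.c.cj_inj
    rw [D.c.cj_mul, D.c.cj_mul, hD.hhz, hD.hρ, hD.hρ]
    ext i j
    fin_cases i <;> fin_cases j <;> simp [dd, Cfsg.Agent.Lib.Helper19.U3P.rhoM, xM, Matrix.mul_apply, Fin.sum_univ_three]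
    field_simp
    linear_combination (ε * D.ι t) * hζ
  rw [key, mul_inv_cancel_right]

theorem su3me7_conj_y (D : Par F K q) (hK : Fintype.card K = 3) {ε : F} {hz : ↥(Cfsg.SU 3 F q)} {ρ : SL2 K →* ↥(Cfsg.SU 3 F q)}
    (hD : Dat D ε hz ρ) (t : K) : hz * ρ (yM t) * hz⁻¹ = ρ (yM (-t)) := by
  have hζ := su3me7_zeta D hK
  have hζ0 : (D.ζ : F) ≠ 0 := D.ζ.ne_zero
  have hσ0 : D.σ (D.ζ : F) ≠ 0 := by
    intro h0
    rw [h0, mul_zero] at hζ
    exact one_ne_zero (neg_eq_zero.1 hζ.symm)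
  have hε := hD.hε
  have key : hz * ρ (yM t) = ρ (yM (-t)) * hz := by
    apply D.c.cj_inj
    rw [D.c.cj_mul, D.c.cj_mul, hD.hhz, hD.hρ, hD.hρ]
    ext i j
    fin_cases i <;> fin_cases j <;> simp [dd, Cfsg.Agent.Lib.Helper19.U3P.rhoM, yM, Matrix.mul_apply, Fin.sum_univ_three]
    field_simp
    linear_combination (D.ι t) * hζ
  rw [key, mul_inv_cancel_right]


theorem su3me7_yM_zero : yM (0 : K) = 1 := by
  apply Subtype.ext
  ext i j
  fin_cases i <;> fin_cases j <;> simp [yM]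

theorem su3me7_ab (D : Par F K q) (hK : Fintype.card K = 3) {ε : F} {hz : ↥(Cfsg.SU 3 F q)} {ρ : SL2 K →* ↥(Cfsg.SU 3 F q)}
    (hD : Dat D ε hz ρ) (g : SL2 K) :
    (Abelianization.of g) ^ 3 = 1 ∧ (∃ g' : SL2 K, ρ g' = hz * ρ g * hz⁻¹ ∧ Abelianization.of g' = (Abelianization.of g)⁻¹) ∧
      ∃ g'' : SL2 K, ρ g'' = hz⁻¹ * ρ g * hz := by
  have h3 : (3 : K) = 0 := su3me7_three hK
  have hg : g ∈ Subgroup.closure (Set.range (xM : K → SL2 K) ∪ Set.range yM) := by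
    rw [closure_xy]; exact Subgroup.mem_top _
  induction hg using Subgroup.closure_induction with
  | mem y hy =>
    rcases hy with ⟨t, rfl⟩ | ⟨t, rfl⟩
    · refine ⟨?_, ⟨xM (-t), (su3me7_conj_x D hK hD t).symm, ?_⟩, xM (-t), ?_⟩
      · rw [← map_pow, xM_pow]
        have : ((3 : ℕ) : K) * t = 0 := by push_cast; rw [h3, zero_mul]
        rw [this, xM_zero, map_one]
      · have : xM (-t) = (xM t)⁻¹ := eq_inv_of_mul_eq_one_left (by rw [xM_mul, neg_add_cancel, xM_zero])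
        rw [this, map_inv]
      · have := su3me7_conj_x D hK hD (-t)
        rw [neg_neg] at this
        rw [← this]
        group
    · refine ⟨?_, ⟨yM (-t), (su3me7_conj_y D hK hD t).symm, ?_⟩, yM (-t), ?_⟩
      · rw [← map_pow]
        have : yM t ^ 3 = 1 := by
          rw [pow_succ, pow_succ, pow_one, yM_mul, yM_mul]
          have : t + t + t = 0 := by linear_combination t * h3
          rw [this, su3me7_yM_zero]
        rw [this, map_one]
      · have : yM (-t) = (yM t)⁻¹ := eq_inv_of_mul_eq_one_left (by rw [yM_mul, neg_add_cancel, su3me7_yM_zero])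
        rw [this, map_inv]
      · have := su3me7_conj_y D hK hD (-t)
        rw [neg_neg] at this
        rw [← this]
        group
  | one =>
    refine ⟨by rw [map_one, one_pow], ⟨1, ?_, by rw [map_one, inv_one]⟩, 1, ?_⟩
    · rw [map_one]; group
    · rw [map_one]; group
  | mul a b _ _ iha ihb =>
    obtain ⟨ha3, ⟨a', haρ, haab⟩, a'', ha''⟩ := iha
    obtain ⟨hb3, ⟨b', hbρ, hbab⟩, b'', hb''⟩ := ihb
    refine ⟨by rw [map_mul, mul_pow, ha3, hb3, one_mul], ⟨a' * b', ?_, ?_⟩, a'' * b'', ?_⟩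
    · rw [map_mul, map_mul, haρ, hbρ]; group
    · rw [map_mul, map_mul, haab, hbab, mul_inv]
    · rw [map_mul, map_mul, ha'', hb'']; group
  | inv a _ iha =>
    obtain ⟨ha3, ⟨a', haρ, haab⟩, a'', ha''⟩ := iha
    refine ⟨by rw [map_inv, inv_pow, ha3, inv_one], ⟨a'⁻¹, ?_, ?_⟩, a''⁻¹, ?_⟩
    · rw [map_inv, map_inv, haρ]; group
    · rw [map_inv, map_inv, haab]
    · rw [map_inv, map_inv, ha'']; group

theorem Mg_hS_three (D : Par F K q) (hF : Fintype.card F = q ^ 2) (hK : Fintype.card K = q) (hq3 : q = 3) [Finite Γ] (h : IsCE π)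
    {ε : F} {hz : ↥(Cfsg.SU 3 F q)} {ρ : SL2 K →* ↥(Cfsg.SU 3 F q)} (hD : Dat D ε hz ρ) :
    ∀ w ∈ ⁅(Mg hz ρ).comap π, (Mg hz ρ).comap π⁆, π w = 1 → w ^ 2 = 1 → w = 1 := by
  have hK3 : Fintype.card K = 3 := hK.trans hq3
  have hρi : Function.Injective ρ := rho_inj D hD
  have hd : ∀ X ∈ ρ.range, hz * X * hz⁻¹ ∈ ρ.range := by
    rintro _ ⟨g, rfl⟩
    obtain ⟨-, ⟨g', hg', -⟩, -⟩ := su3me7_ab D hK3 hD g
    exact ⟨g', hg'⟩
  have hd' : ∀ X ∈ ρ.range, hz⁻¹ * X * hz ∈ ρ.range := by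
    rintro _ ⟨g, rfl⟩
    obtain ⟨-, -, g'', hg''⟩ := su3me7_ab D hK3 hD g
    exact ⟨g'', hg''⟩
  have hmapc : ⁅ρ.range, ρ.range⁆ = (commutator (SL2 K)).map ρ := by
    rw [commutator_def, Subgroup.map_commutator, ← MonoidHom.range_eq_map]
  have hH : ∀ X ∈ ρ.range, hz * X * hz⁻¹ * X⁻¹ ∈ ⁅ρ.range, ρ.range⁆ → X ∈ ⁅ρ.range, ρ.range⁆ := by
    rintro _ ⟨g, rfl⟩ hX
    obtain ⟨h3, ⟨g', hg', hab⟩, -⟩ := su3me7_ab D hK3 hD g
    rw [hmapc] at hX ⊢
    obtain ⟨c, hc, hce⟩ := hX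
    have hc' : c = g' * g⁻¹ := by
      apply hρi
      rw [hce, map_mul, map_inv, hg']
    have h1 : Abelianization.of (g' * g⁻¹) = 1 := by
      rw [← hc', ← MonoidHom.mem_ker, Abelianization.ker_of]
      exact hc
    rw [map_mul, map_inv, hab] at h1
    have h2 : (Abelianization.of g) ^ 2 = 1 := by
      have : ((Abelianization.of g) ^ 2)⁻¹ = 1 := by rw [← h1, pow_two, mul_inv]
      exact inv_eq_one.1 this
    have h4 : Abelianization.of g = 1 := by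
      have : (Abelianization.of g) ^ 3 = (Abelianization.of g) ^ 2 * Abelianization.of g := pow_succ _ 2
      rw [h3, h2, one_mul] at this
      exact this.symm
    have h5 : g ∈ commutator (SL2 K) := by
      rw [← Abelianization.ker_of, MonoidHom.mem_ker]
      exact h4
    exact ⟨g, h5, rfl⟩
  have hodd : Odd (Fintype.card K) := by rw [hK3]; decide
  intro w hw hπw hw2
  have h1 := su3me7_step1 h ρ.range hz hd hd' hH w hw hπw
  exact su3me7_step2 hodd h ρ hρi w h1 hπw hw2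

end E

end Cfsg.Agent.Lib.Helper24.SU3M
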