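import Mathlib
import Cfsg.Agent.Lib.Helper24.SU3M.Defs
import Cfsg.Agent.Lib.helper7.CeA
import Cfsg.Agent.Lib.helper7.U3PF5
import Cfsg.Agent.Lib.helper3.StemTools
import Cfsg.Agent.Lib.Helper26.SU3MG1
import Cfsg.Agent.Lib.helper15.SU3MG2
import Cfsg.Agent.Lib.helper15.SU3MU9
import Cfsg.Agent.Lib.helper14.SU3MP8
import Cfsg.Agent.Lib.Helper20.SU3MM1
import Cfsg.Agent.Lib.Helper20.SU3MNT1
import Cfsg.Agent.Lib.Helper16.SU3MT7
import Cfsg.Agent.Lib.Helper21.SU3MT1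
import Cfsg.Agent.Lib.Helper22.SU3MA1
import Cfsg.Agent.Lib.Helper24.SU3ME7

set_option autoImplicit false

namespace Cfsg.Agent.Lib.Helper24.SU3M

open Cfsg.Agent.Lib.Helper19.U3P Cfsg.Agent.Lib.Helper25.SU3P Cfsg.Agent.Lib.helper14.SU3J Cfsg.Agent.Lib.helper7.Ce Matrix Polynomial

universe u

section A

variable {F : Type u} [Field F] [Fintype F] {q : ℕ}

theorem su3_no_prime_core (hF : Fintype.card F = q ^ 2) (hq : 3 ≤ q) {Γ : Type*} [Group Γ] [Finite Γ] (π : Γ →* ↥(Cfsg.SU 3 F q))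
    (hsurj : Function.Surjective π) (hcen : π.ker ≤ Subgroup.center Γ) (hder : π.ker ≤ commutator Γ)
    (hP7 : ∀ (K : Type u) [Field K] [Fintype K] (D : Par F K q) {hz : ↥(Cfsg.SU 3 F q)} (_ : D.c.cj hz = dd D.σ (D.ζ : F)),
      ∀ w ∈ ⁅(Bg D hz).comap π, (Bg D hz).comap π⁆, π w = 1 → w = 1)
    (hE4 : ∀ (K : Type u) [Field K] [Fintype K] (D : Par F K q) (_ : Fintype.card K = q) (_ : Odd q) {ε : F} {hz : ↥(Cfsg.SU 3 F q)}
      {ρ : SL2 K →* ↥(Cfsg.SU 3 F q)} (_ : Dat D ε hz ρ), ¬ 2 ∣ (Mg hz ρ).index)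
    (hE6 : ∀ (K : Type u) [Field K] [Fintype K] (D : Par F K q) (_ : Fintype.card K = q) (_ : Odd q) (_ : 5 ≤ q) {ε : F} {hz : ↥(Cfsg.SU 3 F q)}
      {ρ : SL2 K →* ↥(Cfsg.SU 3 F q)} (_ : Dat D ε hz ρ), ∀ w ∈ ⁅(Mg hz ρ).comap π, (Mg hz ρ).comap π⁆, π w = 1 → w ^ 2 = 1 → w = 1)
    (hT5 : ∀ {dg : (↥(rootsOfUnity (q + 1) F) × ↥(rootsOfUnity (q + 1) F)) →* ↥(Cfsg.SU 3 F q)} {w s : ↥(Cfsg.SU 3 F q)} (_ : Tor q dg w s)
      (r : ℕ) (_ : Odd r), ∀ u ∈ ⁅(Ng dg w).comap π, (Ng dg w).comap π⁆, π u = 1 → u ^ r = 1 → u = 1)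
    (r : ℕ) [Fact r.Prime] (z : Γ) (hz : z ∈ π.ker) (hzr : z ^ r = 1) : z = 1 := by
  have hr : r.Prime := Fact.out
  have h : IsCE π := ⟨hsurj, hcen⟩
  obtain ⟨K, iK, iKf, hK, ⟨D⟩⟩ := exists_par hF
  obtain ⟨ε, hzz, ρ, hD⟩ := exists_dat D hF
  obtain ⟨dg, w, s, hT⟩ := exists_tor hF
  obtain ⟨g, hg⟩ := exists_singer hF
  have hpP : (ringChar F).Prime := CharP.char_is_prime F (ringChar F)
  have : Fact (ringChar F).Prime := ⟨hpP⟩
  obtain ⟨f, hf1, hqf⟩ := su3mp8_q_pow hF (ringChar F)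
  by_cases hrp : r = ringChar F
  · have hind : ¬ r ∣ (Bg D hzz).index := by
      rw [hrp]
      exact Bg_index D hF hzz (ringChar F)
    exact transfer_tors hsurj hcen hder (Bg D hzz) hind (fun w hw hw1 _ => hP7 K D hD.hhz w hw hw1) hz hzr
  by_cases hr2 : r = 2
  · have hp2 : ringChar F ≠ 2 := fun h2 => hrp (hr2.trans h2.symm)
    have hodd : Odd q := by
      rw [hqf]
      exact (hpP.odd_of_ne_two hp2).pow
    have hind : ¬ r ∣ (Mg hzz ρ).index := by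
      rw [hr2]
      exact hE4 K D hK hodd hD
    subst hr2
    by_cases hq5 : 5 ≤ q
    · exact transfer_tors hsurj hcen hder (Mg hzz ρ) hind (hE6 K D hK hodd hq5 hD) hz hzr
    · have hq3 : q = 3 := by
        obtain ⟨k, hk⟩ := hodd
        omega
      exact transfer_tors hsurj hcen hder (Mg hzz ρ) hind (Mg_hS_three D hF hK hq3 h hD) hz hzr
  have hrodd : Odd r := hr.odd_of_ne_two hr2
  by_cases hdvd : r ∣ Nat.card ↥(Cfsg.SU 3 F q)
  · rw [card_SU3 hF, hqf] at hdvd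
    rcases nt_cases (ringChar F) f r hpP hf1 hr hdvd with h1 | h1 | h1 | h1
    · exact absurd h1 hrp
    · rw [← hqf] at h1
      have hind := minus_index D hF hD.hhz r hr hr2 h1
      refine transfer_tors hsurj hcen hder (Subgroup.zpowers hzz) hind ?_ hz hzr
      intro w hw _ _
      exact Cfsg.Agent.Lib.helper3.comm_comap_trivial_of_cyclic π hcen (Subgroup.zpowers hzz) w hw
    · rw [← hqf] at h1
      have hind := Ng_index hT hF r hr hr2 h1
      exact transfer_tors hsurj hcen hder (Ng dg w) hind (hT5 hT r hrodd) hz hzr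
    · rw [← hqf] at h1
      by_cases h2 : r ∣ q + 1
      · have hind := Ng_index hT hF r hr hr2 h2
        exact transfer_tors hsurj hcen hder (Ng dg w) hind (hT5 hT r hrodd) hz hzr
      · have hind := singer_index hF g hg r hr h1 h2
        refine transfer_tors hsurj hcen hder (Subgroup.zpowers g) hind ?_ hz hzr
        intro w hw _ _
        exact Cfsg.Agent.Lib.helper3.comm_comap_trivial_of_cyclic π hcen (Subgroup.zpowers g) w hw
  · have hind : ¬ r ∣ (⊥ : Subgroup ↥(Cfsg.SU 3 F q)).index := by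
      rw [Subgroup.index_bot]
      exact hdvd
    refine transfer_tors hsurj hcen hder ⊥ hind ?_ hz hzr
    intro w hw _ _
    exact Cfsg.Agent.Lib.helper3.comm_comap_trivial_of_cyclic π hcen ⊥ w hw

end A

end Cfsg.Agent.Lib.Helper24.SU3M
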