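import Mathlib
import Cfsg.Agent.Lib.Helper24.SU3M.Defs
import Cfsg.Agent.Lib.helper7.CeA
import Cfsg.Agent.Lib.Helper25.SU3P.Basic

set_option autoImplicit false

namespace Cfsg.Agent.Lib.Helper24.SU3M

open Cfsg.Agent.Lib.Helper19.U3P Cfsg.Agent.Lib.Helper25.SU3P Cfsg.Agent.Lib.helper14.SU3J Cfsg.Agent.Lib.helper7.Ce Matrix Polynomial

universe u

theorem su3mp3_generic {Γ G : Type*} [Group Γ] [Group G] {π : Γ →* G} {F : Type*} [Field F] (h : IsCE π) (U A : Subgroup G)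
    (hAU : ∀ X ∈ A, ∀ Y ∈ U, X * Y = Y * X)
    (hNA : ∀ y ∈ A.comap π, ∀ y' ∈ A.comap π, y * y' = y' * y)
    (a : G → F) (ha_add : ∀ X ∈ U, ∀ Y ∈ U, a (X * Y) = a X + a Y) (ha0 : ∀ X ∈ U, a X = 0 → X ∈ A)
    (ha_surj : ∀ α, ∃ X ∈ U, a X = α)
    (g : G) (c : F) (hc : c ≠ 1) (hgU : ∀ X ∈ U, g * X * g⁻¹ ∈ U) (hga : ∀ X ∈ U, a (g * X * g⁻¹) = c * a X)
    (hgA : ∀ X ∈ A, g * X * g⁻¹ = X) :
    ∀ y ∈ A.comap π, ∀ x ∈ U.comap π, x * y = y * x := by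
  intro y hy x' hx'
  have ha1 : a 1 = 0 := by
    have h1 := ha_add 1 U.one_mem 1 U.one_mem
    rw [one_mul] at h1
    exact add_eq_left.mp h1.symm
  have ha_inv : ∀ X ∈ U, a X⁻¹ = - a X := by
    intro X hX
    have h1 := ha_add X hX X⁻¹ (U.inv_mem hX)
    rw [mul_inv_cancel, ha1] at h1
    exact (neg_eq_of_add_eq_zero_right h1.symm).symm
  have hc1 : c - 1 ≠ 0 := sub_ne_zero.mpr hc
  obtain ⟨X, hXU, hXa⟩ := ha_surj ((c - 1)⁻¹ * a (π x'))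
  obtain ⟨x, rfl⟩ := h.surj X
  obtain ⟨s, hs⟩ := h.surj g
  have hπy : π y ∈ A := hy
  have hπx' : π x' ∈ U := hx'
  have hzc : cm x y ∈ Subgroup.center Γ := by
    apply h.cen
    rw [MonoidHom.mem_ker, map_cm, cm_eq_one_iff]
    exact (hAU _ hπy _ hXU).symm
  have e1 : cm (s * x * s⁻¹) (s * y * s⁻¹) = cm x y := by
    have h1 := cj_cm s x y
    unfold Cfsg.Agent.Lib.helper15.St2.cj at h1
    rw [← h1]
    have h2 := (Subgroup.mem_center_iff.mp hzc) s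
    rw [h2, mul_inv_cancel_right]
  have e2 : cm (s * x * s⁻¹) (s * y * s⁻¹) = cm (s * x * s⁻¹) y := by
    apply h.cm_congr rfl
    rw [map_mul, map_mul, map_inv, hs]
    exact hgA _ hπy
  have h1 : cm (s * x * s⁻¹) y = cm x y := by rw [← e2, e1]
  have h2 : (x⁻¹ * (s * x * s⁻¹)) * y = y * (x⁻¹ * (s * x * s⁻¹)) := by
    unfold cm at h1
    have h3 : s * x * s⁻¹ * y * (s * x * s⁻¹)⁻¹ = x * y * x⁻¹ := by
      have := congrArg (· * y) h1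
      simpa using this
    have h4 : x⁻¹ * (s * x * s⁻¹ * y * (s * x * s⁻¹)⁻¹) * x = y := by
      rw [h3]; group
    calc (x⁻¹ * (s * x * s⁻¹)) * y = (x⁻¹ * (s * x * s⁻¹ * y * (s * x * s⁻¹)⁻¹) * x) * (x⁻¹ * (s * x * s⁻¹)) := by group
      _ = y * (x⁻¹ * (s * x * s⁻¹)) := by rw [h4]
  have hx''U : π (x⁻¹ * (s * x * s⁻¹)) ∈ U := by
    rw [map_mul, map_inv, map_mul, map_mul, map_inv, hs]
    exact U.mul_mem (U.inv_mem hXU) (hgU _ hXU)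
  have hx''a : a (π (x⁻¹ * (s * x * s⁻¹))) = a (π x') := by
    rw [map_mul, map_inv, map_mul, map_mul, map_inv, hs, ha_add _ (U.inv_mem hXU) _ (hgU _ hXU), ha_inv _ hXU, hga _ hXU, hXa]
    field_simp
    ring
  have hn : (x⁻¹ * (s * x * s⁻¹))⁻¹ * x' ∈ A.comap π := by
    show π _ ∈ A
    rw [map_mul, map_inv]
    apply ha0 _ (U.mul_mem (U.inv_mem hx''U) hπx')
    rw [ha_add _ (U.inv_mem hx''U) _ hπx', ha_inv _ hx''U, hx''a, neg_add_cancel]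
  have h5 := hNA _ hn y hy
  have e : x' = (x⁻¹ * (s * x * s⁻¹)) * ((x⁻¹ * (s * x * s⁻¹))⁻¹ * x') := by group
  rw [e, mul_assoc, h5, ← mul_assoc, h2, mul_assoc]


variable {F : Type u} [Field F] {K : Type u} [Field K] {q : ℕ} {Γ : Type*} [Group Γ] {π : Γ →* ↥(Cfsg.SU 3 F q)}

theorem su3mp3_uu_inj (σ : F →+* F) {α β α' β' : F} (h : uu σ α β = uu σ α' β') : α = α' ∧ β = β' := by
  constructor
  · have := congrFun (congrFun h 0) 1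
    simpa [uu] using this
  · have := congrFun (congrFun h 0) 2
    simpa [uu] using this

theorem su3mp3_isUT_uu (σ : F →+* F) (b e : F) : IsUT (uu σ b e) := by
  refine ⟨⟨?_, ?_, ?_⟩, ?_, ?_, ?_⟩ <;> simp [uu]

theorem su3mp3_pow_conj (D : Par F K q) {hz : ↥(Cfsg.SU 3 F q)}
    (hU5 : ∀ (X : ↥(Cfsg.SU 3 F q)) (α β : F), D.c.cj X = uu D.σ α β → D.c.cj (hz * X * hz⁻¹) = uu D.σ (D.al * α) (D.bl * β))
    (n : ℕ) (X : ↥(Cfsg.SU 3 F q)) (α β : F) (hX : D.c.cj X = uu D.σ α β) :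
    D.c.cj (hz ^ n * X * (hz ^ n)⁻¹) = uu D.σ (D.al ^ n * α) (D.bl ^ n * β) := by
  induction n with
  | zero => simpa using hX
  | succ n ih =>
    have e : hz ^ (n + 1) * X * (hz ^ (n + 1))⁻¹ = hz * (hz ^ n * X * (hz ^ n)⁻¹) * hz⁻¹ := by
      rw [pow_succ']; group
    rw [e, hU5 _ _ _ ih, pow_succ', pow_succ', mul_assoc, mul_assoc]

theorem NA_central_core (D : Par F K q) (h : IsCE π) {hz : ↥(Cfsg.SU 3 F q)}
    (hU1 : ∀ X : ↥(Cfsg.SU 3 F q), X ∈ Ug D ↔ IsUT (D.c.cj X))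
    (hU2 : ∀ X : ↥(Cfsg.SU 3 F q), X ∈ Ag D ↔ ∃ e : F, D.c.cj X = uu D.σ 0 e)
    (hU3 : Ag D ≤ Ug D ∧ ∀ X ∈ Ag D, ∀ Y ∈ Ug D, X * Y = Y * X)
    (hU5 : ∀ (X : ↥(Cfsg.SU 3 F q)) (α β : F), D.c.cj X = uu D.σ α β → D.c.cj (hz * X * hz⁻¹) = uu D.σ (D.al * α) (D.bl * β))
    (hU6 : ∀ α : F, ∃ X ∈ Ug D, ∃ β : F, D.c.cj X = uu D.σ α β)
    (hU8 : ∃ a : ↥(Cfsg.SU 3 F q) → F, (∀ X ∈ Ug D, ∃ β, D.c.cj X = uu D.σ (a X) β) ∧ (∀ X ∈ Ug D, ∀ Y ∈ Ug D, a (X * Y) = a X + a Y) ∧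
      (∀ X ∈ Ug D, a X = 0 → X ∈ Ag D))
    (hP1 : ∀ y ∈ (Ag D).comap π, ∀ y' ∈ (Ag D).comap π, y * y' = y' * y)
    (hFL3 : D.al ≠ 0 ∧ D.al ≠ 1 ∧ D.al ^ (q - 1) ≠ 1 ∧ D.bl ≠ 0 ∧ D.bl ≠ 1 ∧ D.bl ^ (q - 1) = 1 ∧ D.σ D.bl = D.bl) :
    ∀ y ∈ (Ag D).comap π, ∀ x ∈ (Ug D).comap π, x * y = y * x := by
  obtain ⟨a, ha1, ha2, ha3⟩ := hU8
  obtain ⟨-, -, hal, -, -, hbl, -⟩ := hFL3
  have key : ∀ (n : ℕ), ∀ X ∈ Ug D, hz ^ n * X * (hz ^ n)⁻¹ ∈ Ug D ∧ a (hz ^ n * X * (hz ^ n)⁻¹) = D.al ^ n * a X := by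
    intro n X hX
    obtain ⟨β, hβ⟩ := ha1 X hX
    have h1 := su3mp3_pow_conj D hU5 n X _ _ hβ
    have h2 : hz ^ n * X * (hz ^ n)⁻¹ ∈ Ug D := by
      rw [hU1, h1]
      exact su3mp3_isUT_uu _ _ _
    refine ⟨h2, ?_⟩
    obtain ⟨β', hβ'⟩ := ha1 _ h2
    rw [h1] at hβ'
    exact (su3mp3_uu_inj D.σ hβ').1.symm
  refine su3mp3_generic h (Ug D) (Ag D) hU3.2 hP1 a ha2 ha3 ?_ (hz ^ (q - 1)) (D.al ^ (q - 1)) hal
    (fun X hX => (key _ X hX).1) (fun X hX => (key _ X hX).2) ?_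
  · intro α
    obtain ⟨X, hX, β, hβ⟩ := hU6 α
    refine ⟨X, hX, ?_⟩
    obtain ⟨β', hβ'⟩ := ha1 X hX
    rw [hβ] at hβ'
    exact (su3mp3_uu_inj D.σ hβ').1.symm
  · intro X hX
    obtain ⟨e, he⟩ := (hU2 X).mp hX
    have h1 := su3mp3_pow_conj D hU5 (q - 1) X _ _ he
    rw [hbl, one_mul, mul_zero] at h1
    exact D.c.cj_inj (h1.trans he.symm)

end Cfsg.Agent.Lib.Helper24.SU3M
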