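import Mathlib
import Cfsg.Agent.Lib.Helper24.SU3M.Defs
import Cfsg.Agent.Lib.helper7.CeA

set_option autoImplicit false

namespace Cfsg.Agent.Lib.Helper24.SU3M

open Cfsg.Agent.Lib.Helper19.U3P Cfsg.Agent.Lib.Helper25.SU3P Cfsg.Agent.Lib.helper14.SU3J Cfsg.Agent.Lib.helper7.Ce Matrix Polynomial

universe u

variable {F : Type u} [Field F]

theorem su3mfl2_zero_left {C : Type*} [CommGroup C] (g : F → F → C)
    (hl : ∀ a a' b, g (a + a') b = g a b * g a' b) (b : F) : g 0 b = 1 := by
  have h := hl 0 0 b
  rw [add_zero] at h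
  exact (mul_eq_left.mp h.symm)

theorem su3mfl2_zero_right {C : Type*} [CommGroup C] (g : F → F → C)
    (hr : ∀ a b b', g a (b + b') = g a b * g a b') (a : F) : g a 0 = 1 := by
  have h := hr a 0 0
  rw [add_zero] at h
  exact (mul_eq_left.mp h.symm)

theorem su3mfl2_neg_right {C : Type*} [CommGroup C] (g : F → F → C)
    (hr : ∀ a b b', g a (b + b') = g a b * g a b') (a b : F) : g a (-b) = (g a b)⁻¹ := by
  have h := hr a b (-b)
  rw [add_neg_cancel, su3mfl2_zero_right g hr] at h
  exact eq_inv_of_mul_eq_one_right h.symm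

theorem su3mfl2_natCast {C : Type*} [CommGroup C] (g : F → F → C)
    (hl : ∀ a a' b, g (a + a') b = g a b * g a' b) (hr : ∀ a b b', g a (b + b') = g a b * g a b')
    (n : ℕ) (a b : F) : g ((n : F) * a) b = g a ((n : F) * b) := by
  induction n with
  | zero => simp [su3mfl2_zero_left g hl, su3mfl2_zero_right g hr]
  | succ n ih =>
    rw [Nat.cast_succ, add_mul, add_mul, one_mul, one_mul, hl, hr, ih]

theorem ff_lemma [Finite F] (p : ℕ) [Fact p.Prime] [Algebra (ZMod p) F] {C : Type*} [CommGroup C] (g : F → F → C)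
    (hl : ∀ a a' b, g (a + a') b = g a b * g a' b) (hr : ∀ a b b', g a (b + b') = g a b * g a b')
    (lam : F) (hlam0 : lam ≠ 0) (hinv : ∀ a b, g (lam * a) (lam * b) = g a b)
    (hsurj : Function.Surjective (fun f : (ZMod p)[X] => aeval lam f))
    (hne : ∀ k : ℕ, k < Module.finrank (ZMod p) F → lam ^ (p ^ k + 1) ≠ 1) : ∀ a b, g a b = 1 := by
  classical
  by_contra hcon
  push Not at hcon
  obtain ⟨a₀, b₀, hab⟩ := hcon
  let T : F → F → Prop := fun x y => ∀ a b, g (x * a) b = g a (y * b)
  have hT_lam : T lam lam⁻¹ := by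
    intro a b
    have h := hinv a (lam⁻¹ * b)
    rw [← mul_assoc, mul_inv_cancel₀ hlam0, one_mul] at h
    exact h
  have hT_add : ∀ x y x' y', T x y → T x' y' → T (x + x') (y + y') := by
    intro x y x' y' h h' a b
    rw [add_mul, add_mul, hl, hr, h a b, h' a b]
  have hT_mul : ∀ x y x' y', T x y → T x' y' → T (x * x') (y * y') := by
    intro x y x' y' h h' a b
    rw [mul_assoc, h, h', ← mul_assoc, mul_comm y' y]
  have hT_const : ∀ c : ZMod p, T (algebraMap (ZMod p) F c) (algebraMap (ZMod p) F c) := by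
    intro c a b
    obtain ⟨n, rfl⟩ := ZMod.natCast_zmod_surjective c
    rw [map_natCast]
    exact su3mfl2_natCast g hl hr n a b
  have hT_poly : ∀ f : (ZMod p)[X], T (aeval lam f) (aeval lam⁻¹ f) := by
    intro f
    induction f using Polynomial.induction_on with
    | C c =>
      rw [aeval_C, aeval_C]
      exact hT_const c
    | add f f' hf hf' =>
      rw [map_add, map_add]
      exact hT_add _ _ _ _ hf hf'
    | monomial n c ih =>
      have e1 : aeval lam (Polynomial.C c * X ^ (n + 1)) = aeval lam (Polynomial.C c * X ^ n) * lam := by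
        rw [pow_succ, ← mul_assoc, map_mul, aeval_X]
      have e2 : aeval lam⁻¹ (Polynomial.C c * X ^ (n + 1)) = aeval lam⁻¹ (Polynomial.C c * X ^ n) * lam⁻¹ := by
        rw [pow_succ, ← mul_assoc, map_mul, aeval_X]
      rw [e1, e2]
      exact hT_mul _ _ _ _ ih hT_lam
  have hT_uniq : ∀ x y y', T x y → T x y' → y = y' := by
    intro x y y' h h'
    by_contra hyy
    have hd : y - y' ≠ 0 := sub_ne_zero.mpr hyy
    apply hab
    have h1 : ∀ a b, g a ((y - y') * b) = 1 := by
      intro a b
      rw [sub_mul, sub_eq_add_neg, hr, su3mfl2_neg_right g hr, ← h a b, ← h' a b, mul_inv_cancel]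
    have h2 := h1 a₀ ((y - y')⁻¹ * b₀)
    rw [← mul_assoc, mul_inv_cancel₀ hd, one_mul] at h2
    exact h2
  have hker : ∀ f f' : (ZMod p)[X], aeval lam f = aeval lam f' → aeval lam⁻¹ f = aeval lam⁻¹ f' := by
    intro f f' hff
    have h1 := hT_poly f
    have h2 := hT_poly f'
    rw [← hff] at h2
    exact hT_uniq _ _ _ h1 h2
  let sec : F → (ZMod p)[X] := fun x => (hsurj x).choose
  have hsec : ∀ x, aeval lam (sec x) = x := fun x => (hsurj x).choose_spec
  let τf : F → F := fun x => aeval lam⁻¹ (sec x)
  have hτf : ∀ f : (ZMod p)[X], τf (aeval lam f) = aeval lam⁻¹ f := by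
    intro f
    exact hker _ _ (hsec _)
  let τ : F →ₐ[ZMod p] F :=
    { toFun := τf
      map_one' := by
        have h := hτf 1
        rw [map_one, map_one] at h
        exact h
      map_mul' := by
        intro x y
        have h := hτf (sec x * sec y)
        rw [map_mul, map_mul, hsec, hsec] at h
        exact h
      map_zero' := by
        have h := hτf 0
        rw [map_zero, map_zero] at h
        exact h
      map_add' := by
        intro x y
        have h := hτf (sec x + sec y)
        rw [map_add, map_add, hsec, hsec] at h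
        exact h
      commutes' := by
        intro c
        have h := hτf (Polynomial.C c)
        rw [aeval_C, aeval_C] at h
        exact h }
  have hτlam : τ lam = lam⁻¹ := by
    have h := hτf X
    rw [aeval_X, aeval_X] at h
    exact h
  have : Fintype F := Fintype.ofFinite F
  obtain ⟨k, hk⟩ := (FiniteField.bijective_frobeniusAlgHom_pow (ZMod p) F).2 τ
  have hk' : (FiniteField.frobeniusAlgHom (ZMod p) F ^ (k : ℕ)) lam = lam⁻¹ := by
    have := congrArg (fun φ : F →ₐ[ZMod p] F => φ lam) hk
    simp only at this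
    rw [this, hτlam]
  have hpow : ∀ (n : ℕ) (x : F), (FiniteField.frobeniusAlgHom (ZMod p) F ^ n) x = x ^ (p ^ n) := by
    intro n
    induction n with
    | zero => intro x; simp
    | succ n ih =>
      intro x
      rw [pow_succ, AlgHom.mul_apply, FiniteField.frobeniusAlgHom_apply, ih, ZMod.card, ← pow_mul, pow_succ, mul_comm]
  rw [hpow] at hk'
  apply hne k k.2
  rw [pow_succ, hk', inv_mul_cancel₀ hlam0]

end Cfsg.Agent.Lib.Helper24.SU3M
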