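import Mathlib
import Cfsg.Agent.Lib.Helper24.SU3M.Defs
import Cfsg.Agent.Lib.helper7.CeA
import Cfsg.Agent.Lib.Helper25.SU3P.Basic
import Cfsg.Agent.Lib.Helper24.SU3MFL2
import Cfsg.Agent.Lib.Helper24.SU3MP3core

set_option autoImplicit false

namespace Cfsg.Agent.Lib.Helper24.SU3M

open Cfsg.Agent.Lib.Helper19.U3P Cfsg.Agent.Lib.Helper25.SU3P Cfsg.Agent.Lib.helper14.SU3J Cfsg.Agent.Lib.helper7.Ce Matrix Polynomial

universe u

theorem su3mp4_generic {Γ G : Type*} [Group Γ] [Group G] {π : Γ →* G} {F : Type u} [Field F] [Finite F] (h : IsCE π) (U A : Subgroup G)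
    (a : G → F) (ha_add : ∀ X ∈ U, ∀ Y ∈ U, a (X * Y) = a X + a Y) (ha0 : ∀ X ∈ U, a X = 0 → X ∈ A)
    (ha_surj : ∀ α, ∃ X ∈ U, a X = α)
    (hAU : A ≤ U)
    (hNAc : ∀ y ∈ A.comap π, ∀ x ∈ U.comap π, x * y = y * x)
    (t : Γ) (lam : F) (htU : ∀ X ∈ U, π t * X * (π t)⁻¹ ∈ U) (hta : ∀ X ∈ U, a (π t * X * (π t)⁻¹) = lam * a X)
    (htA : ∀ X ∈ A, π t * X * (π t)⁻¹ ∈ A)
    (A0 : Subgroup Γ) (hA0NA : A0 ≤ A.comap π) (hA0t : ∀ g ∈ A0, t * g * t⁻¹ ∈ A0) (hA0i : ∀ g ∈ A0, π g = 1 → g = 1)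
    (hA0m : ∀ X ∈ A, ∃ g ∈ A0, π g = X)
    (p : ℕ) [Fact p.Prime] [Algebra (ZMod p) F] (hlam0 : lam ≠ 0)
    (hsurj : Function.Surjective (fun f : (ZMod p)[X] => aeval lam f))
    (hne : ∀ k : ℕ, k < Module.finrank (ZMod p) F → lam ^ (p ^ k + 1) ≠ 1) :
    ∀ x ∈ U.comap π, ∀ x' ∈ U.comap π, cm x x' ∈ A0 := by
  classical
  have ha1 : a 1 = 0 := by
    have h1 := ha_add 1 U.one_mem 1 U.one_mem
    rw [one_mul] at h1
    exact add_eq_left.mp h1.symm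
  have ha_inv : ∀ X ∈ U, a X⁻¹ = - a X := by
    intro X hX
    have h1 := ha_add X hX X⁻¹ (U.inv_mem hX)
    rw [mul_inv_cancel, ha1] at h1
    exact (neg_eq_of_add_eq_zero_right h1.symm).symm
  have hNAU : A.comap π ≤ U.comap π := Subgroup.comap_mono hAU
  have hNAcomm : ∀ y ∈ A.comap π, ∀ y' ∈ A.comap π, y * y' = y' * y := fun y hy y' hy' => (hNAc y hy y' (hNAU hy')).symm
  have hcmNA : ∀ x ∈ U.comap π, ∀ x' ∈ U.comap π, cm x x' ∈ A.comap π := by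
    intro x hx x' hx'
    have hx1 : π x ∈ U := hx
    have hx1' : π x' ∈ U := hx'
    show π (cm x x') ∈ A
    rw [map_cm]
    unfold cm
    have m1 : π x * π x' ∈ U := U.mul_mem hx1 hx1'
    have m2 : π x * π x' * (π x)⁻¹ ∈ U := U.mul_mem m1 (U.inv_mem hx1)
    apply ha0 _ (U.mul_mem m2 (U.inv_mem hx1'))
    rw [ha_add _ m2 _ (U.inv_mem hx1'), ha_add _ m1 _ (U.inv_mem hx1), ha_add _ hx1 _ hx1', ha_inv _ hx1, ha_inv _ hx1']
    ring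
  have hcmL : ∀ x ∈ U.comap π, ∀ n ∈ A.comap π, ∀ x' ∈ U.comap π, cm (x * n) x' = cm x x' := by
    intro x hx n hn x' hx'
    have e : cm (x * n) x' = x * (n * x' * n⁻¹) * x⁻¹ * x'⁻¹ := by unfold cm; group
    rw [e, ← hNAc n hn x' hx', mul_inv_cancel_right]
    rfl
  have hcmR : ∀ x ∈ U.comap π, ∀ n ∈ A.comap π, ∀ x' ∈ U.comap π, cm x (x' * n) = cm x x' := by
    intro x hx n hn x' hx'
    have e : cm x (x' * n) = x * x' * (n * x⁻¹ * n⁻¹) * x'⁻¹ := by unfold cm; group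
    rw [e, ← hNAc n hn x⁻¹ ((U.comap π).inv_mem hx), mul_inv_cancel_right]
    rfl
  have hmod : ∀ x₁ ∈ U.comap π, ∀ x₂ ∈ U.comap π, a (π x₁) = a (π x₂) → x₂⁻¹ * x₁ ∈ A.comap π := by
    intro x₁ h1 x₂ h2 he
    have h1' : π x₁ ∈ U := h1
    have h2' : π x₂ ∈ U := h2
    show π _ ∈ A
    rw [map_mul, map_inv]
    apply ha0 _ (U.mul_mem (U.inv_mem h2') h1')
    rw [ha_add _ (U.inv_mem h2') _ h1', ha_inv _ h2', he, neg_add_cancel]
  have hcongr : ∀ x₁ ∈ U.comap π, ∀ x₂ ∈ U.comap π, ∀ x₁' ∈ U.comap π, ∀ x₂' ∈ U.comap π,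
      a (π x₁) = a (π x₂) → a (π x₁') = a (π x₂') → cm x₁ x₁' = cm x₂ x₂' := by
    intro x₁ h1 x₂ h2 x₁' h1' x₂' h2' he he'
    have e1 : x₁ = x₂ * (x₂⁻¹ * x₁) := by group
    have e2 : x₁' = x₂' * (x₂'⁻¹ * x₁') := by group
    rw [e1, e2, hcmL x₂ h2 _ (hmod x₁ h1 x₂ h2 he) _ ((U.comap π).mul_mem h2' (hNAU (hmod x₁' h1' x₂' h2' he'))),
      hcmR x₂ h2 _ (hmod x₁' h1' x₂' h2' he') _ h2']
  have hbiL : ∀ x₁ ∈ U.comap π, ∀ x₂ ∈ U.comap π, ∀ x' ∈ U.comap π, cm (x₁ * x₂) x' = cm x₁ x' * cm x₂ x' := by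
    intro x₁ h1 x₂ h2 x' hx'
    rw [cm_mul_left, hNAc _ (hcmNA x₂ h2 x' hx') x₁ h1, mul_inv_cancel_right]
    exact hNAcomm _ (hcmNA x₂ h2 x' hx') _ (hcmNA x₁ h1 x' hx')
  have hbiR : ∀ x ∈ U.comap π, ∀ x₁' ∈ U.comap π, ∀ x₂' ∈ U.comap π, cm x (x₁' * x₂') = cm x x₁' * cm x x₂' := by
    intro x hx x₁' h1 x₂' h2
    rw [cm_mul_right, hNAc _ (hcmNA x hx x₂' h2) x₁' h1, mul_inv_cancel_right]
  have hA0inj : ∀ u ∈ A0, ∀ v ∈ A0, π u = π v → u = v := by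
    intro u hu v hv huv
    have h1 := hA0i (u * v⁻¹) (A0.mul_mem hu (A0.inv_mem hv)) (by rw [map_mul, map_inv, huv, mul_inv_cancel])
    exact mul_inv_eq_one.mp h1
  let a0 : Γ → Γ := fun y => if hy : π y ∈ A then (hA0m _ hy).choose else 1
  have ha0mem : ∀ y ∈ A.comap π, a0 y ∈ A0 := by
    intro y hy
    have hy' : π y ∈ A := hy
    simp only [a0, dif_pos hy']
    exact (hA0m _ hy').choose_spec.1
  have ha0π : ∀ y ∈ A.comap π, π (a0 y) = π y := by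
    intro y hy
    have hy' : π y ∈ A := hy
    simp only [a0, dif_pos hy']
    exact (hA0m _ hy').choose_spec.2
  have ha0mul : ∀ y ∈ A.comap π, ∀ y' ∈ A.comap π, a0 (y * y') = a0 y * a0 y' := by
    intro y hy y' hy'
    apply hA0inj _ (ha0mem _ ((A.comap π).mul_mem hy hy')) _ (A0.mul_mem (ha0mem y hy) (ha0mem y' hy'))
    rw [ha0π _ ((A.comap π).mul_mem hy hy'), map_mul, map_mul, ha0π y hy, ha0π y' hy']
  have htNA : ∀ y ∈ A.comap π, t * y * t⁻¹ ∈ A.comap π := by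
    intro y hy
    show π _ ∈ A
    rw [map_mul, map_mul, map_inv]
    exact htA _ hy
  have ha0t : ∀ y ∈ A.comap π, a0 (t * y * t⁻¹) = t * a0 y * t⁻¹ := by
    intro y hy
    apply hA0inj _ (ha0mem _ (htNA y hy)) _ (hA0t _ (ha0mem y hy))
    rw [ha0π _ (htNA y hy), map_mul, map_mul, map_mul, map_mul, ha0π y hy]
  let pr : Γ → Γ := fun y => y * (a0 y)⁻¹
  have hprker : ∀ y ∈ A.comap π, π (pr y) = 1 := by
    intro y hy
    simp only [pr]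
    rw [map_mul, map_inv, ha0π y hy, mul_inv_cancel]
  have hprcen : ∀ y ∈ A.comap π, pr y ∈ Subgroup.center Γ := fun y hy => h.cen (MonoidHom.mem_ker.mpr (hprker y hy))
  have hprmul : ∀ y ∈ A.comap π, ∀ y' ∈ A.comap π, pr (y * y') = pr y * pr y' := by
    intro y hy y' hy'
    simp only [pr]
    rw [ha0mul y hy y' hy', _root_.mul_inv_rev]
    have c1 := hNAcomm _ ((A.comap π).inv_mem (hA0NA (ha0mem y hy))) _ ((A.comap π).mul_mem hy' ((A.comap π).inv_mem (hA0NA (ha0mem y' hy'))))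
    calc y * y' * ((a0 y')⁻¹ * (a0 y)⁻¹) = y * ((y' * (a0 y')⁻¹) * (a0 y)⁻¹) := by group
      _ = y * ((a0 y)⁻¹ * (y' * (a0 y')⁻¹)) := by rw [c1]
      _ = y * (a0 y)⁻¹ * (y' * (a0 y')⁻¹) := by group
  have hprt : ∀ y ∈ A.comap π, pr (t * y * t⁻¹) = pr y := by
    intro y hy
    simp only [pr]
    rw [ha0t y hy]
    have e : t * y * t⁻¹ * (t * a0 y * t⁻¹)⁻¹ = t * (y * (a0 y)⁻¹) * t⁻¹ := by group
    rw [e]
    have c1 := Subgroup.mem_center_iff.mp (hprcen y hy) t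
    simp only [pr] at c1
    rw [c1, mul_inv_cancel_right]
  have hpr1 : ∀ y ∈ A.comap π, pr y = 1 → y ∈ A0 := by
    intro y hy h1
    simp only [pr] at h1
    have : y = a0 y := mul_inv_eq_one.mp h1
    rw [this]
    exact ha0mem y hy
  let xl : F → Γ := fun α => (h.surj (ha_surj α).choose).choose
  have hxlU : ∀ α, xl α ∈ U.comap π := by
    intro α
    show π (xl α) ∈ U
    simp only [xl]
    rw [(h.surj (ha_surj α).choose).choose_spec]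
    exact (ha_surj α).choose_spec.1
  have hxla : ∀ α, a (π (xl α)) = α := by
    intro α
    simp only [xl]
    rw [(h.surj (ha_surj α).choose).choose_spec]
    exact (ha_surj α).choose_spec.2
  let _ : CommGroup (Subgroup.center Γ) :=
    { (inferInstance : Group (Subgroup.center Γ)) with
      mul_comm := fun a b => Subtype.ext (Subgroup.mem_center_iff.mp b.2 a) }
  let g : F → F → Subgroup.center Γ := fun α α' => ⟨pr (cm (xl α) (xl α')), hprcen _ (hcmNA _ (hxlU α) _ (hxlU α'))⟩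
  have hg1 : ∀ α α', g α α' = 1 := by
    apply ff_lemma p g ?_ ?_ lam hlam0 ?_ hsurj hne
    · intro α β α'
      apply Subtype.ext
      show pr (cm (xl (α + β)) (xl α')) = pr (cm (xl α) (xl α')) * pr (cm (xl β) (xl α'))
      rw [← hprmul _ (hcmNA _ (hxlU α) _ (hxlU α')) _ (hcmNA _ (hxlU β) _ (hxlU α')), ← hbiL _ (hxlU α) _ (hxlU β) _ (hxlU α')]
      congr 1
      apply hcongr _ (hxlU _) _ ((U.comap π).mul_mem (hxlU α) (hxlU β)) _ (hxlU _) _ (hxlU _) _ rfl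
      rw [map_mul, ha_add _ (hxlU α) _ (hxlU β), hxla, hxla, hxla]
    · intro α α' β'
      apply Subtype.ext
      show pr (cm (xl α) (xl (α' + β'))) = pr (cm (xl α) (xl α')) * pr (cm (xl α) (xl β'))
      rw [← hprmul _ (hcmNA _ (hxlU α) _ (hxlU α')) _ (hcmNA _ (hxlU α) _ (hxlU β')), ← hbiR _ (hxlU α) _ (hxlU α') _ (hxlU β')]
      congr 1
      apply hcongr _ (hxlU _) _ (hxlU _) _ (hxlU _) _ ((U.comap π).mul_mem (hxlU α') (hxlU β')) rfl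
      rw [map_mul, ha_add _ (hxlU α') _ (hxlU β'), hxla, hxla, hxla]
    · intro α α'
      apply Subtype.ext
      show pr (cm (xl (lam * α)) (xl (lam * α'))) = pr (cm (xl α) (xl α'))
      have htx : ∀ β, t * xl β * t⁻¹ ∈ U.comap π ∧ a (π (t * xl β * t⁻¹)) = lam * β := by
        intro β
        have e : π (t * xl β * t⁻¹) = π t * π (xl β) * (π t)⁻¹ := by rw [map_mul, map_mul, map_inv]
        constructor
        · show π _ ∈ U
          rw [e]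
          exact htU _ (hxlU β)
        · rw [e, hta _ (hxlU β), hxla]
      have e1 : cm (xl (lam * α)) (xl (lam * α')) = t * cm (xl α) (xl α') * t⁻¹ := by
        have h1 := cj_cm t (xl α) (xl α')
        unfold Cfsg.Agent.Lib.helper15.St2.cj at h1
        rw [h1]
        apply hcongr _ (hxlU _) _ (htx α).1 _ (hxlU _) _ (htx α').1
        · rw [hxla, (htx α).2]
        · rw [hxla, (htx α').2]
      rw [e1, hprt _ (hcmNA _ (hxlU α) _ (hxlU α'))]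
  intro x hx x' hx'
  have e : cm x x' = cm (xl (a (π x))) (xl (a (π x'))) := by
    apply hcongr _ hx _ (hxlU _) _ hx' _ (hxlU _)
    · rw [hxla]
    · rw [hxla]
  rw [e]
  apply hpr1 _ (hcmNA _ (hxlU _) _ (hxlU _))
  have := congrArg Subtype.val (hg1 (a (π x)) (a (π x')))
  exact this


variable {F : Type u} [Field F] {K : Type u} [Field K] {q : ℕ} {Γ : Type*} [Group Γ] {π : Γ →* ↥(Cfsg.SU 3 F q)}

theorem NU_comm_core [Finite F] (D : Par F K q) (h : IsCE π) {hz : ↥(Cfsg.SU 3 F q)} {t : Γ} (ht : π t = hz)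
    (p : ℕ) [Fact p.Prime] [Algebra (ZMod p) F]
    (hU1 : ∀ X : ↥(Cfsg.SU 3 F q), X ∈ Ug D ↔ IsUT (D.c.cj X))
    (hU2 : ∀ X : ↥(Cfsg.SU 3 F q), X ∈ Ag D ↔ ∃ e : F, D.c.cj X = uu D.σ 0 e)
    (hU3 : Ag D ≤ Ug D ∧ ∀ X ∈ Ag D, ∀ Y ∈ Ug D, X * Y = Y * X)
    (hU5 : ∀ (X : ↥(Cfsg.SU 3 F q)) (α β : F), D.c.cj X = uu D.σ α β → D.c.cj (hz * X * hz⁻¹) = uu D.σ (D.al * α) (D.bl * β))
    (hU6 : ∀ α : F, ∃ X ∈ Ug D, ∃ β : F, D.c.cj X = uu D.σ α β)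
    (hU8 : ∃ a : ↥(Cfsg.SU 3 F q) → F, (∀ X ∈ Ug D, ∃ β, D.c.cj X = uu D.σ (a X) β) ∧ (∀ X ∈ Ug D, ∀ Y ∈ Ug D, a (X * Y) = a X + a Y) ∧
      (∀ X ∈ Ug D, a X = 0 → X ∈ Ag D))
    (hP2a : ∀ g ∈ A0 D π t, ∃ y ∈ (Ag D).comap π, g = cm t y)
    (hP2b : ∀ g ∈ A0 D π t, π g = 1 → g = 1)
    (hP2c : ∀ X ∈ Ag D, ∃ g ∈ A0 D π t, π g = X)
    (hP3 : ∀ y ∈ (Ag D).comap π, ∀ x ∈ (Ug D).comap π, x * y = y * x)
    (hFL3 : D.al ≠ 0 ∧ D.al ≠ 1 ∧ D.al ^ (q - 1) ≠ 1 ∧ D.bl ≠ 0 ∧ D.bl ≠ 1 ∧ D.bl ^ (q - 1) = 1 ∧ D.σ D.bl = D.bl)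
    (hFL4 : Function.Surjective (fun f : (ZMod p)[X] => aeval D.al f))
    (hFL5 : ∀ k : ℕ, k < Module.finrank (ZMod p) F → D.al ^ (p ^ k + 1) ≠ 1) :
    ∀ x ∈ (Ug D).comap π, ∀ x' ∈ (Ug D).comap π, cm x x' ∈ A0 D π t := by
  obtain ⟨a, ha1, ha2, ha3⟩ := hU8
  have key : ∀ X ∈ Ug D, hz * X * hz⁻¹ ∈ Ug D ∧ a (hz * X * hz⁻¹) = D.al * a X := by
    intro X hX
    obtain ⟨β, hβ⟩ := ha1 X hX
    have h1 := hU5 X _ _ hβ
    have h2 : hz * X * hz⁻¹ ∈ Ug D := by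
      rw [hU1, h1]
      exact su3mp3_isUT_uu _ _ _
    refine ⟨h2, ?_⟩
    obtain ⟨β', hβ'⟩ := ha1 _ h2
    rw [h1] at hβ'
    exact (su3mp3_uu_inj D.σ hβ').1.symm
  have keyA : ∀ X ∈ Ag D, hz * X * hz⁻¹ ∈ Ag D := by
    intro X hX
    obtain ⟨e, he⟩ := (hU2 X).mp hX
    have h1 := hU5 X _ _ he
    rw [mul_zero] at h1
    exact (hU2 _).mpr ⟨_, h1⟩
  have htNA : ∀ y ∈ (Ag D).comap π, t * y * t⁻¹ ∈ (Ag D).comap π := by
    intro y hy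
    show π _ ∈ Ag D
    rw [map_mul, map_mul, map_inv, ht]
    exact keyA _ hy
  refine su3mp4_generic h (Ug D) (Ag D) a ha2 ha3 ?_ hU3.1 hP3 t D.al ?_ ?_ ?_ (A0 D π t) ?_ ?_ hP2b hP2c p hFL3.1 hFL4 hFL5
  · intro α
    obtain ⟨X, hX, β, hβ⟩ := hU6 α
    refine ⟨X, hX, ?_⟩
    obtain ⟨β', hβ'⟩ := ha1 X hX
    rw [hβ] at hβ'
    exact (su3mp3_uu_inj D.σ hβ').1.symm
  · intro X hX
    rw [ht]
    exact (key X hX).1
  · intro X hX
    rw [ht]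
    exact (key X hX).2
  · intro X hX
    rw [ht]
    exact keyA X hX
  · intro g hg
    obtain ⟨y, hy, rfl⟩ := hP2a g hg
    have e : cm t y = (t * y * t⁻¹) * y⁻¹ := rfl
    rw [e]
    exact ((Ag D).comap π).mul_mem (htNA y hy) (((Ag D).comap π).inv_mem hy)
  · intro g hg
    obtain ⟨y, hy, rfl⟩ := hP2a g hg
    have e : t * cm t y * t⁻¹ = t * (t * y * t⁻¹) * t⁻¹ * (t * y * t⁻¹)⁻¹ := by unfold cm; group
    rw [e]
    exact Subgroup.subset_closure ⟨_, htNA y hy, rfl⟩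

end Cfsg.Agent.Lib.Helper24.SU3M
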