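import Mathlib
import Cfsg.Agent.Lib.Helper24.SU3MP3core
import Cfsg.Agent.Lib.Helper24.SU3MP4core
import Cfsg.Agent.Lib.helper14.SU3MU1
import Cfsg.Agent.Lib.helper14.SU3MU4
import Cfsg.Agent.Lib.helper14.SU3MP1
import Cfsg.Agent.Lib.helper14.SU3MP2
import Cfsg.Agent.Lib.Helper20.SU3MFL3

set_option autoImplicit false

namespace Cfsg.Agent.Lib.Helper24.SU3M

open Cfsg.Agent.Lib.Helper19.U3P Cfsg.Agent.Lib.Helper25.SU3P Cfsg.Agent.Lib.helper14.SU3J Cfsg.Agent.Lib.helper7.Ce Matrix Polynomial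

universe u

section P

variable {F : Type u} [Field F] [Fintype F] {K : Type u} [Field K] [Fintype K] {q : ℕ} {Γ : Type*} [Group Γ] {π : Γ →* ↥(Cfsg.SU 3 F q)}

theorem NA_central (D : Par F K q) (hF : Fintype.card F = q ^ 2) (hq : 3 ≤ q) (h : IsCE π) {hz : ↥(Cfsg.SU 3 F q)} (hhz : D.c.cj hz = dd D.σ (D.ζ : F)) :
    ∀ y ∈ (Ag D).comap π, ∀ x ∈ (Ug D).comap π, x * y = y * x :=
  NA_central_core D h (mem_Ug D) (mem_Ag D) (Ag_central D hF) (fun X α β hX => hz_conj D hF hhz X α β hX) (ex_uu D hF) (ex_alpha D hF)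
    (NA_comm D hF h) (al_facts D hF hq)

theorem NU_comm (D : Par F K q) (hF : Fintype.card F = q ^ 2) (hq : 3 ≤ q) (h : IsCE π) {hz : ↥(Cfsg.SU 3 F q)} (hhz : D.c.cj hz = dd D.σ (D.ζ : F))
    {t : Γ} (ht : π t = hz) : ∀ x ∈ (Ug D).comap π, ∀ x' ∈ (Ug D).comap π, cm x x' ∈ A0 D π t := by
  have : Fact (ringChar F).Prime := ⟨CharP.char_is_prime F (ringChar F)⟩
  let _ : Algebra (ZMod (ringChar F)) F := ZMod.algebra F (ringChar F)
  exact NU_comm_core D h ht (ringChar F) (mem_Ug D) (mem_Ag D) (Ag_central D hF) (fun X α β hX => hz_conj D hF hhz X α β hX) (ex_uu D hF) (ex_alpha D hF)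
    (A0_eq D hF h hhz ht) (A0_inter D hF hq h hhz ht) (A0_map D hF hq h hhz ht) (NA_central D hF hq h hhz)
    (al_facts D hF hq) (al_aeval_surj (ringChar F) D hF hq) (al_pow_ne (ringChar F) D hF hq)

end P

end Cfsg.Agent.Lib.Helper24.SU3M
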