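import Mathlib
import Cfsg.Agent.Lib.Helper24.SU3MA4core
import Cfsg.Agent.Lib.Helper9.SU3MP7
import Cfsg.Agent.Lib.helper23.SU3ME6
import Cfsg.Agent.Lib.Helper20.SU3MT5

set_option autoImplicit false

namespace Cfsg.Agent.Lib.Helper24.SU3M

open Cfsg.Agent.Lib.Helper19.U3P Cfsg.Agent.Lib.Helper25.SU3P Cfsg.Agent.Lib.helper14.SU3J Cfsg.Agent.Lib.helper7.Ce Matrix Polynomial

universe u

section A

variable {F : Type u} [Field F] [Fintype F] {q : ℕ}

theorem su3_no_prime (hF : Fintype.card F = q ^ 2) (hq : 3 ≤ q) {Γ : Type*} [Group Γ] [Finite Γ] (π : Γ →* ↥(Cfsg.SU 3 F q))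
    (hsurj : Function.Surjective π) (hcen : π.ker ≤ Subgroup.center Γ) (hder : π.ker ≤ commutator Γ)
    (r : ℕ) [Fact r.Prime] (z : Γ) (hz : z ∈ π.ker) (hzr : z ^ r = 1) : z = 1 := by
  have h : IsCE π := ⟨hsurj, hcen⟩
  have hΓ : commutator Γ = ⊤ := perfect_of_stem hsurj hder (su_perfect hF 3 le_rfl (by omega))
  exact su3_no_prime_core hF hq π hsurj hcen hder
    (fun K _ _ D _ hhz => Bg_hS D hF hq h hhz)
    (fun K _ _ D hK hodd _ _ _ hD => Mg_index D hF hK hodd hD)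
    (fun K _ _ D hK hodd hq5 _ _ _ hD => Mg_hS D hF hK hodd hq5 h hD)
    (fun hT r hr => Ng_hS hT h hΓ r hr) r z hz hzr

end A

end Cfsg.Agent.Lib.Helper24.SU3M
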