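import Mathlib
import Cfsg.Agent.Lib.Helper24.SU3MA4
import Cfsg.Agent.Lib.helper3.StemTools

set_option autoImplicit false

namespace Cfsg.Agent.Lib.Helper24.SU3M

open Cfsg.Agent.Lib.helper7.Ce
open scoped commutatorElement

universe u

theorem su3msplit_generic {Γ G : Type*} [Group Γ] [Group G] (π : Γ →* G) (hsurj : Function.Surjective π)
    (hcen : π.ker ≤ Subgroup.center Γ) (hG : commutator G = ⊤)
    (hstem : ∀ (π' : ↥(commutator Γ) →* G), Function.Surjective π' → π'.ker ≤ Subgroup.center ↥(commutator Γ) →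
      π'.ker ≤ commutator ↥(commutator Γ) → ∀ z ∈ π'.ker, z = 1) :
    ∃ s : G →* Γ, ∀ g, π (s g) = g := by
  have h1 : (commutator Γ).map π = ⊤ := by
    rw [commutator_def, Subgroup.map_commutator, ← MonoidHom.range_eq_map, MonoidHom.range_eq_top.mpr hsurj,
      ← commutator_def, hG]
  have hdec : ∀ g : Γ, ∃ c ∈ commutator Γ, π (c⁻¹ * g) = 1 := by
    intro g
    have : π g ∈ (commutator Γ).map π := by rw [h1]; exact Subgroup.mem_top _
    obtain ⟨c, hc, hce⟩ := this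
    exact ⟨c, hc, by rw [map_mul, map_inv, hce, inv_mul_cancel]⟩
  have hperf : ⁅commutator Γ, commutator Γ⁆ = commutator Γ := by
    apply le_antisymm (Subgroup.commutator_le_self _)
    rw [commutator_def, Subgroup.commutator_le]
    intro g₁ _ g₂ _
    obtain ⟨c₁, hc₁, hk₁⟩ := hdec g₁
    obtain ⟨c₂, hc₂, hk₂⟩ := hdec g₂
    have hz₁ : ∀ x : Γ, x * (c₁⁻¹ * g₁) = (c₁⁻¹ * g₁) * x := fun x =>
      Subgroup.mem_center_iff.mp (hcen (MonoidHom.mem_ker.mpr hk₁)) x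
    have hz₂ : ∀ x : Γ, x * (c₂⁻¹ * g₂) = (c₂⁻¹ * g₂) * x := fun x =>
      Subgroup.mem_center_iff.mp (hcen (MonoidHom.mem_ker.mpr hk₂)) x
    have e : ⁅g₁, g₂⁆ = ⁅c₁, c₂⁆ := by
      have e1 : g₁ = c₁ * (c₁⁻¹ * g₁) := by group
      have e2 : g₂ = c₂ * (c₂⁻¹ * g₂) := by group
      set z₁ := c₁⁻¹ * g₁ with hz₁d
      set z₂ := c₂⁻¹ * g₂ with hz₂d
      rw [e1, e2, commutatorElement_def, commutatorElement_def]
      have i1 : (c₁ * z₁)⁻¹ = c₁⁻¹ * z₁⁻¹ := by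
        rw [mul_inv_rev]
        have := hz₁ c₁⁻¹
        have h' : z₁⁻¹ * c₁⁻¹ = c₁⁻¹ * z₁⁻¹ := by
          have : c₁⁻¹ = z₁ * c₁⁻¹ * z₁⁻¹ := by rw [← this, mul_inv_cancel_right]
          calc z₁⁻¹ * c₁⁻¹ = z₁⁻¹ * (z₁ * c₁⁻¹ * z₁⁻¹) := by rw [← this]
            _ = c₁⁻¹ * z₁⁻¹ := by group
        exact h'
      have i2 : (c₂ * z₂)⁻¹ = c₂⁻¹ * z₂⁻¹ := by
        rw [mul_inv_rev]
        have := hz₂ c₂⁻¹
        have h' : z₂⁻¹ * c₂⁻¹ = c₂⁻¹ * z₂⁻¹ := by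
          have : c₂⁻¹ = z₂ * c₂⁻¹ * z₂⁻¹ := by rw [← this, mul_inv_cancel_right]
          calc z₂⁻¹ * c₂⁻¹ = z₂⁻¹ * (z₂ * c₂⁻¹ * z₂⁻¹) := by rw [← this]
            _ = c₂⁻¹ * z₂⁻¹ := by group
        exact h'
      rw [i1, i2]
      calc c₁ * z₁ * (c₂ * z₂) * (c₁⁻¹ * z₁⁻¹) * (c₂⁻¹ * z₂⁻¹)
          = c₁ * (z₁ * (c₂ * z₂ * c₁⁻¹)) * z₁⁻¹ * (c₂⁻¹ * z₂⁻¹) := by group
        _ = c₁ * ((c₂ * z₂ * c₁⁻¹) * z₁) * z₁⁻¹ * (c₂⁻¹ * z₂⁻¹) := by rw [← hz₁ (c₂ * z₂ * c₁⁻¹)]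
        _ = c₁ * c₂ * (z₂ * (c₁⁻¹ * c₂⁻¹)) * z₂⁻¹ := by group
        _ = c₁ * c₂ * ((c₁⁻¹ * c₂⁻¹) * z₂) * z₂⁻¹ := by rw [← hz₂ (c₁⁻¹ * c₂⁻¹)]
        _ = c₁ * c₂ * c₁⁻¹ * c₂⁻¹ := by group
    rw [e]
    exact Subgroup.commutator_mem_commutator hc₁ hc₂
  have hperf' : commutator ↥(commutator Γ) = ⊤ := by
    apply Subgroup.map_injective (Subgroup.subtype_injective (commutator Γ))
    rw [Subgroup.map_subtype_commutator, hperf, ← MonoidHom.range_eq_map, Subgroup.range_subtype]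
  let π' : ↥(commutator Γ) →* G := π.comp (commutator Γ).subtype
  have hs' : Function.Surjective π' := by
    intro g
    have : g ∈ (commutator Γ).map π := by rw [h1]; exact Subgroup.mem_top _
    obtain ⟨c, hc, hce⟩ := this
    exact ⟨⟨c, hc⟩, hce⟩
  have hc' : π'.ker ≤ Subgroup.center ↥(commutator Γ) := by
    intro x hx
    have hx' : π (x : Γ) = 1 := hx
    have hc : (x : Γ) ∈ Subgroup.center Γ := hcen (MonoidHom.mem_ker.2 hx')
    rw [Subgroup.mem_center_iff]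
    intro g
    apply Subtype.ext
    exact Subgroup.mem_center_iff.1 hc g
  have hd' : π'.ker ≤ commutator ↥(commutator Γ) := by
    rw [hperf']
    exact le_top
  have hinj : Function.Injective π' := by
    rw [injective_iff_map_eq_one]
    intro x hx
    exact hstem π' hs' hc' hd' x (MonoidHom.mem_ker.2 hx)
  let e : ↥(commutator Γ) ≃* G := MulEquiv.ofBijective π' ⟨hinj, hs'⟩
  refine ⟨(commutator Γ).subtype.comp e.symm.toMonoidHom, ?_⟩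
  intro g
  have : π' (e.symm g) = g := e.apply_symm_apply g
  exact this

theorem su3msplit_lift_generic {H Γ G : Type*} [Group H] [Group Γ] [Group G] (σ : Γ →* G) (hsurj : Function.Surjective σ)
    (hcen : σ.ker ≤ Subgroup.center Γ) (ρ : H →* G)
    (hsplit : ∀ (π : ↥(MonoidHom.eqLocus (ρ.comp (MonoidHom.fst H Γ)) (σ.comp (MonoidHom.snd H Γ))) →* H),
      Function.Surjective π → π.ker ≤ Subgroup.center _ → ∃ s : H →* ↥(MonoidHom.eqLocus (ρ.comp (MonoidHom.fst H Γ)) (σ.comp (MonoidHom.snd H Γ))), ∀ x, π (s x) = x) :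
    ∃ ρ' : H →* Γ, ∀ x, σ (ρ' x) = ρ x := by
  set P := MonoidHom.eqLocus (ρ.comp (MonoidHom.fst H Γ)) (σ.comp (MonoidHom.snd H Γ)) with hP
  let π : ↥P →* H := (MonoidHom.fst H Γ).comp P.subtype
  have hπs : Function.Surjective π := by
    intro x
    obtain ⟨γ, hγ⟩ := hsurj (ρ x)
    exact ⟨⟨(x, γ), hγ.symm⟩, rfl⟩
  have hπc : π.ker ≤ Subgroup.center ↥P := by
    intro p hp
    have hp1 : (p : H × Γ).1 = 1 := hp
    have hp2 : ρ (p : H × Γ).1 = σ (p : H × Γ).2 := p.2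
    rw [hp1, map_one] at hp2
    have hc : (p : H × Γ).2 ∈ Subgroup.center Γ := hcen (MonoidHom.mem_ker.2 hp2.symm)
    rw [Subgroup.mem_center_iff]
    intro g
    apply Subtype.ext
    apply Prod.ext
    · show (g : H × Γ).1 * (p : H × Γ).1 = (p : H × Γ).1 * (g : H × Γ).1
      rw [hp1, mul_one, one_mul]
    · exact Subgroup.mem_center_iff.1 hc _
  obtain ⟨s, hs⟩ := hsplit π hπs hπc
  refine ⟨((MonoidHom.snd H Γ).comp P.subtype).comp s, ?_⟩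
  intro x
  have h1 : ρ ((s x : ↥P) : H × Γ).1 = σ ((s x : ↥P) : H × Γ).2 := (s x).2
  have h2 : ((s x : ↥P) : H × Γ).1 = x := hs x
  rw [h2] at h1
  exact h1.symm

section A

variable {F : Type u} [Field F] [Fintype F] {q : ℕ}

theorem su3_split (hF : Fintype.card F = q ^ 2) (hq : 3 ≤ q) {Γ : Type*} [Group Γ] [Finite Γ] (π : Γ →* ↥(Cfsg.SU 3 F q))
    (hsurj : Function.Surjective π) (hcen : π.ker ≤ Subgroup.center Γ) :
    ∃ s : ↥(Cfsg.SU 3 F q) →* Γ, ∀ g, π (s g) = g := by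
  refine su3msplit_generic π hsurj hcen (su_perfect hF 3 le_rfl (by omega)) ?_
  intro π' hs' hc' hd'
  exact Cfsg.Agent.Lib.helper3.stem_ker_trivial_of_primes (σ := π')
    (fun r _ z hz hzr => su3_no_prime hF hq π' hs' hc' hd' r z hz hzr)

theorem su3_lift (hF : Fintype.card F = q ^ 2) (hq : 3 ≤ q) {Γ G : Type*} [Group Γ] [Finite Γ] [Group G] (σ : Γ →* G)
    (hsurj : Function.Surjective σ) (hcen : σ.ker ≤ Subgroup.center Γ) (ρ : ↥(Cfsg.SU 3 F q) →* G) :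
    ∃ ρ' : ↥(Cfsg.SU 3 F q) →* Γ, ∀ x, σ (ρ' x) = ρ x := by
  refine su3msplit_lift_generic σ hsurj hcen ρ ?_
  intro π hπs hπc
  exact su3_split hF hq π hπs hπc

theorem su3_lift_equiv (hF : Fintype.card F = q ^ 2) (hq : 3 ≤ q) {H Γ G : Type*} [Group H] [Group Γ] [Finite Γ] [Group G]
    (e : H ≃* ↥(Cfsg.SU 3 F q)) (σ : Γ →* G)
    (hsurj : Function.Surjective σ) (hcen : σ.ker ≤ Subgroup.center Γ) (ρ : H →* G) :
    ∃ ρ' : H →* Γ, ∀ x, σ (ρ' x) = ρ x := by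
  obtain ⟨ρ₁, hρ₁⟩ := su3_lift hF hq σ hsurj hcen (ρ.comp e.symm.toMonoidHom)
  refine ⟨ρ₁.comp e.toMonoidHom, ?_⟩
  intro x
  have := hρ₁ (e x)
  simpa using this

end A

end Cfsg.Agent.Lib.Helper24.SU3M
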