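import Mathlib
import Cfsg.Prelude.Def_Characters
import Cfsg.Prelude.Def_Blocks
import Cfsg.Agent.Lib.Helper24.FSCount
import Cfsg.Agent.S0165

set_option autoImplicit false
open scoped ComplexConjugate

namespace Cfsg.Agent.Lib.Helper24

open Cfsg.Agent.Lib.helper2 Cfsg.Agent.Lib.helper7 Cfsg.Agent.Lib.Helper11 Cfsg.Agent.Lib.Helper25

section fz

variable {G : Type*} [Group G] [Fintype G]

theorem fz_vanish (χ : Cfsg.IrrCharacter G) (p : ℕ) (hp : p.Prime)
    (hdiv : p ^ (Nat.card G).factorization p ∣ Cfsg.charDegree (χ : G → ℂ)) (g : G)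
    (hg : p ∣ orderOf g) : (χ : G → ℂ) g = 0 := by
  obtain ⟨n, ρ, hρ, hχρ⟩ := χ.2
  haveI := hρ
  have hfr : Module.finrank ℂ (Fin n → ℂ) = n := by simp
  have hχ1 : (χ : G → ℂ) 1 = (n : ℂ) := by
    rw [← hχρ, Representation.char_one, hfr]
  have hdeg : Cfsg.charDegree (χ : G → ℂ) = n := by
    unfold Cfsg.charDegree
    rw [hχ1]
    simp
  rw [← hχρ]
  exact Cfsg.Agent.S0165.result ρ p _ hp (Nat.ordProj_dvd _ _)
    (Nat.pow_succ_factorization_not_dvd Nat.card_pos.ne' hp) (by rw [hfr, ← hdeg]; exact hdiv) g hg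

theorem fz_sum_eq_zero (χ : Cfsg.IrrCharacter G) (hne : χ ≠ trivIrr G) :
    ∑ g : G, (χ : G → ℂ) g = 0 := by
  have h1 := irr_classInner χ (trivIrr G)
  rw [if_neg hne] at h1
  unfold Cfsg.classInner at h1
  simp only [trivIrr_apply, map_one, mul_one] at h1
  have hne' : ((Nat.card G : ℂ))⁻¹ ≠ 0 := by
    apply inv_ne_zero
    exact_mod_cast Nat.card_pos.ne'
  rcases mul_eq_zero.mp h1 with h | h
  · exact absurd h hne'
  · exact h

theorem fz_odd_sq_sum [DecidableEq G] (f : G → ℂ) :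
    ∑ g ∈ Finset.univ.filter (fun g : G => Odd (orderOf g)), f (g * g) =
      ∑ g ∈ Finset.univ.filter (fun g : G => Odd (orderOf g)), f g := by
  have hord : ∀ g : G, Odd (orderOf g) → orderOf (g * g) = orderOf g := by
    intro g hg
    rw [← pow_two, orderOf_pow' g two_ne_zero]
    have : Nat.gcd (orderOf g) 2 = 1 := by
      rw [Nat.coprime_comm.mp]
      exact (Nat.coprime_two_left.mpr hg)
    rw [this, Nat.div_one]
  apply Finset.sum_nbij' (fun g => g * g) (fun h => h ^ ((orderOf h + 1) / 2))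
  · intro g hg
    rw [Finset.mem_filter] at hg ⊢
    exact ⟨Finset.mem_univ _, by rw [hord g hg.2]; exact hg.2⟩
  · intro h hh
    rw [Finset.mem_filter] at hh ⊢
    refine ⟨Finset.mem_univ _, ?_⟩
    have h1 : orderOf (h ^ ((orderOf h + 1) / 2)) ∣ orderOf h := orderOf_pow_dvd _
    exact hh.2.of_dvd_nat h1
  · intro g hg
    rw [Finset.mem_filter] at hg
    rw [hord g hg.2]
    obtain ⟨k, hk⟩ := hg.2
    have h2 : (orderOf g + 1) / 2 = k + 1 := by omega
    rw [h2, ← pow_two, ← pow_mul]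
    have h3 : 2 * (k + 1) = orderOf g + 1 := by omega
    rw [h3, pow_succ, pow_orderOf_eq_one, one_mul]
  · intro h hh
    rw [Finset.mem_filter] at hh
    obtain ⟨k, hk⟩ := hh.2
    have h2 : (orderOf h + 1) / 2 = k + 1 := by omega
    rw [h2, ← pow_add]
    have h3 : k + 1 + (k + 1) = orderOf h + 1 := by omega
    rw [h3, pow_succ, pow_orderOf_eq_one, one_mul]
  · intro g _
    rfl

theorem fz_term_zero (χ : Cfsg.IrrCharacter G)
    (h2 : 2 ^ (Nat.card G).factorization 2 ∣ Cfsg.charDegree (χ : G → ℂ))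
    (hp : ∀ p : ℕ, p.Prime → p ≠ 2 → (∃ g : G, orderOf g = 2 * p) →
      p ^ (Nat.card G).factorization p ∣ Cfsg.charDegree (χ : G → ℂ))
    (g : G) (hodd : ¬ Odd (orderOf g)) (hne : orderOf g ≠ 2) : (χ : G → ℂ) (g * g) = 0 := by
  have hpos : 0 < orderOf g := orderOf_pos g
  rw [Nat.not_odd_iff_even] at hodd
  obtain ⟨m, hm⟩ := hodd
  have hm' : orderOf g = 2 * m := by omega
  have hm2 : 2 ≤ m := by omega
  have hsq : orderOf (g * g) = m := by
    rw [← pow_two, orderOf_pow_of_dvd two_ne_zero ⟨m, hm'⟩, hm']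
    simp
  rcases Nat.even_or_odd m with he | ho
  · apply fz_vanish χ 2 Nat.prime_two h2
    rw [hsq]
    exact he.two_dvd
  · have hm1 : m ≠ 1 := by omega
    obtain ⟨q, hpr, hdvd⟩ : ∃ q : ℕ, q.Prime ∧ q ∣ m :=
      ⟨_, Nat.minFac_prime hm1, Nat.minFac_dvd m⟩
    have hp2 : q ≠ 2 := by
      intro h
      rw [h] at hdvd
      exact (Nat.not_even_iff_odd.mpr ho) (even_iff_two_dvd.mpr hdvd)
    have hqm := hdvd
    obtain ⟨c, hc⟩ := hdvd
    have hc0 : c ≠ 0 := by
      intro h0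
      rw [h0, mul_zero] at hc
      omega
    have hex : ∃ y : G, orderOf y = 2 * q := by
      refine ⟨g ^ c, ?_⟩
      have hcd : c ∣ orderOf g := by
        rw [hm', hc]
        exact ⟨2 * q, by ring⟩
      rw [orderOf_pow_of_dvd hc0 hcd, hm', hc]
      have : 2 * (q * c) = (2 * q) * c := by ring
      rw [this, Nat.mul_div_cancel _ (Nat.pos_of_ne_zero hc0)]
    apply fz_vanish χ q hpr (hp _ hpr hp2 hex)
    rw [hsq]
    exact hqm

end fz

end Cfsg.Agent.Lib.Helper24
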