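import Mathlib
import Cfsg.Agent.Lib.helper14.OBNd
import Cfsg.Agent.Lib.helper14.DBN.Defs
import Cfsg.Agent.Lib.Helper25.DBNQBASIC

set_option autoImplicit false
set_option linter.unusedVariables false

namespace Cfsg.Agent.Lib.helper14.DBN

open Matrix DoubleCoset
open Cfsg.Agent.Lib.helper3 Cfsg.Agent.Lib.helper14
open Cfsg.Agent.Lib.helper14.UBN Cfsg.Agent.Lib.helper14.OBN

universe u
variable {F : Type u} [Field F] {n : ℕ}

theorem dbnnuoq_col (g : GS n F) {π : Equiv.Perm (Fin n)} (hg : IsMono (mt g) π) (x : Fin n) :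
    mt g *ᵥ (bV x : Fin n → F) = mt g (π x) x • (bV (π x) : Fin n → F) := by
  funext z
  rw [mulVec_bV, Pi.smul_apply, bV_apply, smul_eq_mul]
  by_cases hz : z = π x
  · rw [if_pos hz, mul_one, hz]
  · rw [if_neg hz, mul_zero]
    by_contra h
    exact hz (hg z x h)

theorem NU_le_OQ (hn : n % 2 = 0) : NU n (Sid F) ≤ OQ n F := by
  rintro g ⟨π, hπ, hg⟩
  rw [mem_OQ_iff hn]
  intro x
  rw [dbnnuoq_col g hg x, Qh_smul, Qh_bV, mul_zero]

theorem NE_le_NU : NE n F ≤ NU n (Sid F) := by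
  rintro g ⟨π, hπ, hg, _⟩
  exact ⟨π, hπ, hg⟩

theorem TO_le_BO (hn : n % 2 = 0) : TO n F ≤ BO n F := by
  intro g hg
  exact ⟨hg.1, NU_le_OQ hn hg.2⟩

theorem BO_inf_NE (hn : n % 2 = 0) : BO n F ⊓ NE n F = TO n F := by
  apply le_antisymm
  · intro g hg
    exact ⟨hg.1.1, NE_le_NU hg.2⟩
  · intro g hg
    refine ⟨TO_le_BO hn hg, ?_⟩
    have h1 : IsMono (mt g) 1 := (mem_TU_iff g).mp hg
    exact ⟨1, RvC_one, h1, Equiv.Perm.sign_one⟩

theorem BO_inf_NU (hn : n % 2 = 0) : BO n F ⊓ NU n (Sid F) = TO n F := by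
  apply le_antisymm
  · intro g hg
    exact ⟨hg.1.1, hg.2⟩
  · intro g hg
    exact ⟨TO_le_BO hn hg, hg.2⟩

theorem isMono_unique (g : GS n F) {π ρ : Equiv.Perm (Fin n)} (h1 : IsMono (mt g) π)
    (h2 : IsMono (mt g) ρ) : π = ρ := by
  ext y
  exact congrArg Fin.val (h2 (π y) y (mono_pivot_ne_zero g h1 y))

end Cfsg.Agent.Lib.helper14.DBN
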