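import Mathlib
import Cfsg.Agent.Lib.Helper13.O459.Defs
import Cfsg.Agent.Lib.Helper25.CharLinear
import Cfsg.Agent.Lib.helper23.BRSUMH

set_option autoImplicit false
set_option linter.unusedVariables false
set_option linter.unusedSectionVars false

namespace Cfsg.Agent.Lib.Helper13.O459

open Classical
open Cfsg.Agent.Lib.helper7.BR Cfsg.Agent.Lib.Helper25

universe u

variable {G : Type u} [Group G] [Fintype G]

theorem o459sum38_ord (k : ℕ) (hk : k < 38) (h0 : k ≠ 0) (h19 : k ≠ 19) :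
    19 ∣ 38 / Nat.gcd 38 k := by
  interval_cases k <;> first | omega | norm_num

theorem o459sum38_cyc (g y : G) (hg : orderOf g = 38) (hg19 : g ^ 19 = y) (χ : G → ℂ)
    (hχ : Cfsg.IsCharacter G χ) (a : ℤ)
    (hval : ∀ g : G, 19 ∣ orderOf g → χ g = (a : ℂ)) :
    ∃ m : ℕ, χ 1 + χ y + 36 * (a : ℂ) = 38 * (m : ℂ) := by
  obtain ⟨m, hm⟩ := sum_subgroup_nat (Subgroup.zpowers g) χ hχ
  refine ⟨m, ?_⟩
  rw [Nat.card_zpowers, hg] at hm
  have hfo : IsOfFinOrder g := isOfFinOrder_of_finite g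
  have e1 : ∑ x : ↥(Subgroup.zpowers g), χ (x : G) = ∑ n : Fin (orderOf g), χ (g ^ (n : ℕ)) := by
    symm
    apply Fintype.sum_equiv (finEquivZPowers hfo)
    intro n
    rw [finEquivZPowers_apply]
  rw [e1, Fin.sum_univ_eq_sum_range (fun k => χ (g ^ k)) (orderOf g), hg] at hm
  have e2 : ∀ k ∈ Finset.range 38, χ (g ^ k) =
      if k = 0 then χ 1 else if k = 19 then χ y else (a : ℂ) := by
    intro k hk
    rw [Finset.mem_range] at hk
    by_cases h0 : k = 0
    · rw [if_pos h0, h0, pow_zero]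
    rw [if_neg h0]
    by_cases h19 : k = 19
    · rw [if_pos h19, h19, hg19]
    rw [if_neg h19]
    apply hval
    rw [orderOf_pow' g h0, hg]
    exact o459sum38_ord k hk h0 h19
  rw [Finset.sum_congr rfl e2] at hm
  have hm' : (∑ x ∈ Finset.range 38, if x = 0 then χ 1 else if x = 19 then χ y else (a : ℂ)) =
      38 * (m : ℂ) := by
    rw [hm]
    norm_num
  rw [← hm']
  simp [Finset.sum_range_succ]
  ring


theorem sum38 (P : Sylow 19 G) (hP : Nat.card ↥(P : Subgroup G) = 19) (y : G) (hy : orderOf y = 2)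
    (hyc : y ∈ cen P) (χ : G → ℂ) (hχ : Cfsg.IsCharacter G χ) (a : ℤ)
    (hval : ∀ g : G, 19 ∣ orderOf g → χ g = (a : ℂ)) :
    ∃ m : ℕ, χ 1 + χ y + 36 * (a : ℂ) = 38 * (m : ℂ) := by
  obtain ⟨x, hx⟩ : ∃ x : ↥(P : Subgroup G), orderOf x = 19 :=
    exists_prime_orderOf_dvd_card' 19 (by rw [hP])
  have hx' : orderOf (x : G) = 19 := by rw [Subgroup.orderOf_coe, hx]
  have hcomm : Commute (x : G) y := by
    have := (Subgroup.mem_centralizer_iff.mp hyc) (x : G) x.2
    exact this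
  have hord : orderOf ((x : G) * y) = 38 := by
    rw [hcomm.orderOf_mul_eq_mul_orderOf_of_coprime (by rw [hx', hy]; norm_num), hx', hy]
  have hy2 : y ^ 2 = 1 := by rw [← hy, pow_orderOf_eq_one]
  have hx19 : (x : G) ^ 19 = 1 := by
    have := pow_orderOf_eq_one (x : G)
    rwa [hx'] at this
  have hy19 : y ^ 19 = y := by
    rw [show (19 : ℕ) = 2 * 9 + 1 from rfl, pow_succ, pow_mul, hy2, one_pow, one_mul]
  have h19 : ((x : G) * y) ^ 19 = y := by
    rw [hcomm.mul_pow, hx19, one_mul, hy19]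
  exact o459sum38_cyc ((x : G) * y) y hord h19 χ hχ a hval

end Cfsg.Agent.Lib.Helper13.O459
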