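import Mathlib
import Cfsg.Agent.Lib.helper15.S5972.Defs
import Cfsg.Agent.Lib.Helper24.S5972RESTRICT
import Cfsg.Agent.Lib.Helper28.S5955T9
import Cfsg.Agent.Lib.Helper18.S5955T11
import Cfsg.Agent.Lib.Helper5.S5955T7

set_option autoImplicit false

namespace Cfsg.Agent.Lib.helper15.S5972

open Polynomial Module Cfsg.Agent.Lib.Helper13.S5955

theorem o_lag {F : Type*} [Field F] [Fintype F] {p : ℕ} [Fact p.Prime] [CharP F p]
    {V : Type*} [AddCommGroup V] [Module F V] [FiniteDimensional F V]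
    {r : ℕ} [Fact r.Prime] (hrp : r ≠ p) (hr2 : r ≠ 2) {B : LinearMap.BilinForm F V}
    {x : Module.End F V} (h : OCtx r B x) :
    Even (finrank F (cycS r x)) ∧ ∃ T : Submodule F V, T ≤ cycS r x ∧ SInv x T ∧ STI B T ∧
      ((Odd (orderOf ((Fintype.card F : ℕ) : ZMod r)) ∧ 2 * finrank F T = finrank F (cycS r x)) ∨
       (Even (orderOf ((Fintype.card F : ℕ) : ZMod r)) ∧
         finrank F (cycS r x) ≤ 2 * finrank F T + (r - 1))) := by
  classical
  obtain ⟨x', A', hctx, hx', htop, hback⟩ := o_restrict hrp hr2 h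
  have hndtop : SND A' (⊤ : Submodule F ↥(cycS r x)) :=
    fun u _ hu => hctx.nd u (fun v => hu v trivial)
  have hinvtop : SInv x' (⊤ : Submodule F ↥(cycS r x)) := fun _ _ => trivial
  have heven : Even (finrank F ↥(cycS r x)) := by
    have := nd_even A' hctx.alt ⊤ hndtop
    rwa [finrank_top] at this
  have hinv : ∀ T' : Submodule F ↥(cycS r x), SInv x' T' → SInv x (T'.map (cycS r x).subtype) := by
    intro T' hT'
    rintro v ⟨u, hu, rfl⟩
    refine ⟨x' u, hT' u hu, ?_⟩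
    exact hx' u
  refine ⟨heven, ?_⟩
  rcases Nat.even_or_odd (orderOf ((Fintype.card F : ℕ) : ZMod r)) with hie | hio
  · obtain ⟨T', -, hT'inv, hT'ti, hT'dim⟩ :=
      lag_even hrp hctx hie ⊤ hinvtop (by rw [htop]) hndtop
    refine ⟨T'.map (cycS r x).subtype, Submodule.map_subtype_le _ T', hinv T' hT'inv,
      hback T' hT'inv hT'ti, Or.inr ⟨hie, ?_⟩⟩
    rw [Submodule.finrank_map_subtype_eq]
    rwa [finrank_top] at hT'dim
  · obtain ⟨T', -, hT'inv, hT'ti, hT'dim⟩ :=
      lag_odd hrp hctx hio ⊤ hinvtop (by rw [htop]) hndtop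
    refine ⟨T'.map (cycS r x).subtype, Submodule.map_subtype_le _ T', hinv T' hT'inv,
      hback T' hT'inv hT'ti, Or.inl ⟨hio, ?_⟩⟩
    rw [Submodule.finrank_map_subtype_eq]
    rwa [finrank_top] at hT'dim

end Cfsg.Agent.Lib.helper15.S5972
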