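import Cfsg.Agent.Lib.helper15.SLM.Defs

set_option autoImplicit false
set_option linter.unusedSectionVars false
set_option linter.unusedVariables false

namespace Cfsg.Agent.Lib.helper15.SLM

open Matrix

section A

variable {F : Type*} [Field F] [Fintype F] [DecidableEq F]
  {κ : Type*} [Fintype κ] [DecidableEq κ]
  {H : Type*} [Group H] {W : Type*} [AddCommGroup W] [Module ℂ W] [FiniteDimensional ℂ W]

theorem h24_lbl_avg (σ : Representation ℂ H W) (ζ : F → H) (hζ : ∀ a b, ζ (a + b) = ζ a * ζ b) :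
    (∑ a : F, σ (ζ a)) * (∑ b : F, σ (ζ b)) = (Fintype.card F : ℂ) • ∑ a : F, σ (ζ a) := by
  rw [Finset.sum_mul]
  have h1 : ∀ a : F, σ (ζ a) * ∑ b : F, σ (ζ b) = ∑ b : F, σ (ζ b) := by
    intro a
    rw [Finset.mul_sum]
    rw [← Equiv.sum_comp (Equiv.addLeft a) (fun b => σ (ζ b))]
    refine Finset.sum_congr rfl fun b _ => ?_
    rw [← map_mul, ← hζ]
    rfl
  simp only [h1, Finset.sum_const, Finset.card_univ]
  rw [Nat.cast_smul_eq_nsmul]

theorem lbl (σ : Representation ℂ H W) (ζ : F → H) (hζ : ∀ a b, ζ (a + b) = ζ a * ζ b)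
    (e : Module.End ℂ W) (he : e * e = e) (hcomm : ∀ a, σ (ζ a) * e = e * σ (ζ a))
    (d j : ℕ) (hd : LinearMap.trace ℂ W e = (d : ℂ))
    (hval : ∀ a, a ≠ 0 →
      LinearMap.trace ℂ W (σ (ζ a) * e) = (d : ℂ) - (Fintype.card F : ℂ) ^ (j + 1)) :
    (Fintype.card F - 1) * Fintype.card F ^ j ≤ d := by
  classical
  have hq : (Fintype.card F : ℂ) ≠ 0 := by exact_mod_cast Fintype.card_ne_zero
  have hq1 : 1 ≤ Fintype.card F := Fintype.card_pos
  set S : Module.End ℂ W := ∑ a : F, σ (ζ a) with hS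
  have hSe : S * e = e * S := by
    rw [hS, Finset.sum_mul, Finset.mul_sum]
    exact Finset.sum_congr rfl fun a _ => hcomm a
  have hSS : S * S = (Fintype.card F : ℂ) • S := h24_lbl_avg σ ζ hζ
  set P : Module.End ℂ W := ((Fintype.card F : ℂ)⁻¹ • S) * e with hP
  have hPP : IsIdempotentElem P := by
    show P * P = P
    rw [hP]
    calc ((Fintype.card F : ℂ)⁻¹ • S) * e * (((Fintype.card F : ℂ)⁻¹ • S) * e)
        = ((Fintype.card F : ℂ)⁻¹ * (Fintype.card F : ℂ)⁻¹) • (S * (e * S) * e) := by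
          simp only [smul_mul_assoc, mul_smul_comm, smul_smul, mul_assoc]
      _ = ((Fintype.card F : ℂ)⁻¹ * (Fintype.card F : ℂ)⁻¹) • (S * S * (e * e)) := by
          rw [← hSe]; simp only [mul_assoc]
      _ = ((Fintype.card F : ℂ)⁻¹ • S) * e := by
          rw [hSS, he, smul_mul_assoc, smul_smul, mul_assoc, inv_mul_cancel₀ hq, mul_one,
            smul_mul_assoc]
  have hz0 : ζ 0 = 1 := by
    have h := hζ 0 0
    rw [add_zero] at h
    exact mul_eq_left.mp h.symm
  have htr : LinearMap.trace ℂ W P =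
      (d : ℂ) - ((Fintype.card F : ℂ) - 1) * (Fintype.card F : ℂ) ^ j := by
    rw [hP, smul_mul_assoc, map_smul, hS, Finset.sum_mul, map_sum]
    rw [← Finset.add_sum_erase Finset.univ _ (Finset.mem_univ (0 : F))]
    have h0 : LinearMap.trace ℂ W (σ (ζ 0) * e) = (d : ℂ) := by
      rw [hz0, map_one, one_mul, hd]
    have h1 : ∑ a ∈ Finset.univ.erase (0 : F), LinearMap.trace ℂ W (σ (ζ a) * e) =
        ((Fintype.card F : ℂ) - 1) * ((d : ℂ) - (Fintype.card F : ℂ) ^ (j + 1)) := by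
      rw [Finset.sum_congr rfl (fun a ha => hval a (Finset.ne_of_mem_erase ha))]
      rw [Finset.sum_const, Finset.card_erase_of_mem (Finset.mem_univ _), Finset.card_univ]
      rw [nsmul_eq_mul, Nat.cast_sub hq1, Nat.cast_one]
    rw [h0, h1, smul_eq_mul]
    field_simp
    ring
  have hrk := (LinearMap.IsIdempotentElem.isProj_range P hPP).trace
  rw [htr] at hrk
  have hnat : (d : ℂ) = ((Fintype.card F - 1) * Fintype.card F ^ j +
      Module.finrank ℂ (LinearMap.range P) : ℕ) := by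
    push_cast [Nat.cast_sub hq1]
    rw [← hrk]
    ring
  have := Nat.cast_injective hnat
  omega

end A

end Cfsg.Agent.Lib.helper15.SLM
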