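import Cfsg.Agent.Lib.Helper24.SQDG2core
import Cfsg.Agent.Lib.Lead.SQDG1

set_option autoImplicit false

namespace Cfsg.Agent.Lib.helper14.SQD

open Cfsg Cfsg.Lie Matrix

universe u v

variable {k : ℕ} {F : Type u} [Field F]

theorem lev_le_normalizer (τ : F →+* F) (𝒮 : AddSubgroup (Matrix (Fin k) (Fin k) F))
    (h𝒮 : ∀ A : Matrix (Fin k) (Fin k) F, IsUUT A → ∀ S ∈ 𝒮, A * S * tadj τ A ∈ 𝒮) :
    levGrp τ ≤ Subgroup.normalizer ((siegGrp 𝒮 : Subgroup (GL (Fin k ⊕ Fin k) F)) : Set (GL (Fin k ⊕ Fin k) F)) :=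
  sqdg2_core τ 𝒮 h𝒮 (fun g S => lev_conj_sieg τ g S)

end Cfsg.Agent.Lib.helper14.SQD
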