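import Mathlib
import Cfsg.Prelude.Def_GeometricClasses
import Cfsg.Agent.Lib.Helper27.ASC.Defs
import Cfsg.Agent.Lib.Helper19.ASG.Defs
import Cfsg.Agent.Lib.helper8.ASCSCHURN
import Cfsg.Agent.Lib.Helper18.ASCSYMP
import Cfsg.Agent.Lib.Helper1.ASGCNORM
import Cfsg.Agent.Lib.Helper10.ASGCSWAP
import Cfsg.Agent.Lib.Helper10.ASGCWR
import Cfsg.Agent.Lib.Helper11.ASGCSTD2
import Cfsg.Agent.Lib.Helper20.ASGCSTD1
import Cfsg.Agent.Lib.Helper25.ASGCDET

set_option autoImplicit false
set_option linter.unusedVariables false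

namespace Cfsg.Agent.Lib.Helper19.ASG

open Cfsg Cfsg.Geo Cfsg.Agent.Lib.Helper27.ASC
open scoped MatrixGroups Matrix Kronecker

variable {n : ℕ} {F : Type*} [Field F]

theorem std_embedding {k : ℕ} (hk : 0 < k) (ψ : Matrix (Fin k) (Fin k) F →ₐ[F] Matrix (Fin n) (Fin n) F) :
    ∃ (d : ℕ) (e : Fin n ≃ Fin k × Fin d) (P : GL (Fin n) F), ∀ a : Matrix (Fin k) (Fin k) F,
      ψ a = (P : Matrix (Fin n) (Fin n) F) *
        Matrix.reindexAlgEquiv F F e.symm (a ⊗ₖ (1 : Matrix (Fin d) (Fin d) F)) *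
        ((P⁻¹ : GL (Fin n) F) : Matrix (Fin n) (Fin n) F) := by
  obtain ⟨d, T, hT⟩ := std_basis hk ψ
  obtain ⟨e, P, h⟩ := std_of_basis ψ T hT
  exact ⟨d, e, P, h⟩

theorem asgc_quad_le_polar (Q : (Fin n → F) → F) :
    quadSimilarityGroup Q ≤ similarityGroup (QuadraticMap.polar Q) := by
  rintro g ⟨c, hc⟩
  refine ⟨c, fun u v => ?_⟩
  unfold QuadraticMap.polar
  rw [← Matrix.mulVec_add, hc, hc, hc]
  ring

theorem asgc_two_eq_zero [Fintype F] (h2 : ¬ Odd (Fintype.card F)) : (2 : F) = 0 := by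
  have heven : Even (Fintype.card F) := Nat.not_odd_iff_even.mp h2
  obtain ⟨p, hp⟩ := CharP.exists F
  have := hp
  have : Fact p.Prime := ⟨CharP.char_is_prime F p⟩
  obtain ⟨m, hpm, hcard⟩ := FiniteField.card F p
  have h2p : 2 ∣ p ^ (m : ℕ) := by rw [← hcard]; exact heven.two_dvd
  have h2p' : 2 ∣ p := Nat.Prime.dvd_of_dvd_pow Nat.prime_two h2p
  have : p = 2 := ((Nat.prime_dvd_prime_iff_eq Nat.prime_two hpm).mp h2p').symm
  subst this
  exact_mod_cast CharP.cast_eq_zero F 2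

variable [Fintype F]

theorem tensor_case (hn : 3 ≤ n) {H N : Subgroup (GL (Fin n) F)} (hH : Irr H) (hN : NormalIn N H) {k : ℕ}
    (φ : centAlg N ≃ₐ[F] Matrix (Fin k) (Fin k) F) (hk1 : 1 < k) (hkn : k < n) : InClass H := by
  classical
  obtain ⟨d, e, P, hstd⟩ := std_embedding (n := n) (by omega : 0 < k)
    ((centAlg N).val.comp (φ.symm : Matrix (Fin k) (Fin k) F →ₐ[F] centAlg N))
  have hnkd : n = k * d := by
    have := Fintype.card_congr e
    simpa using this
  have hHle : H ≤ tensorProductSubgroup k d e P :=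
    (normalizes_cent hN).trans
      (normalizer_le_tensor (by omega) (centAlg N) φ e P (fun a => hstd a))
  have hd : 2 ≤ d := by
    by_contra hcon
    have : d ≤ 1 := by omega
    have : k * d ≤ k * 1 := Nat.mul_le_mul_left k this
    omega
  rcases lt_trichotomy k d with hlt | heq | hgt
  · exact inClass_of_tensor e P hk1 hlt hHle
  · subst heq
    by_cases hk3 : 3 ≤ k
    · exact inClass_of_wreath _ P hk3 le_rfl (hHle.trans (tensor_le_wreath e P))
    · have hk2 : k = 2 := by omega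
      subst hk2
      obtain ⟨Q, hQ, hle⟩ := tensor_two_two_le_quad e P
      by_cases hodd : Odd (Fintype.card F)
      · exact inClass_of_quad Q hQ hodd hn (hHle.trans hle)
      · exact inClass_of_symp (QuadraticMap.polar Q)
          (ascsymp_polar_symplectic (asgc_two_eq_zero hodd) Q hQ) ⟨2, by omega⟩ (by omega)
          ((hHle.trans hle).trans (asgc_quad_le_polar Q))
  · rw [tensor_swap] at hHle
    exact inClass_of_tensor _ P hd hgt hHle

end Cfsg.Agent.Lib.Helper19.ASG
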