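import Mathlib
import Cfsg.Prelude.Def_GeometricClasses
import Cfsg.Agent.Lib.Helper27.ASC.Defs
import Cfsg.Agent.Lib.Helper19.ASG.Defs
import Cfsg.Agent.Lib.Helper26.ASGD1.Defs
import Cfsg.Agent.Lib.Helper11.ASGD1UNIQ
import Cfsg.Agent.Lib.Helper29.ASGD1SYMALT

set_option autoImplicit false
set_option linter.unusedVariables false
set_option linter.unusedSectionVars false
set_option linter.style.haveILetI false

namespace Cfsg.Agent.Lib.Helper19.ASG

open Cfsg Cfsg.Geo Cfsg.Agent.Lib.Helper27.ASC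
open scoped MatrixGroups Matrix

variable {n : ℕ} {F : Type*} [Field F] [Fintype F]

def asgd1bilgInvT (g : GL (Fin n) F) : GL (Fin n) F :=
  ⟨((g⁻¹ : GL (Fin n) F) : Matrix (Fin n) (Fin n) F)ᵀ, (g : Matrix (Fin n) (Fin n) F)ᵀ,
    by rw [← Matrix.transpose_mul, ← Units.val_mul, mul_inv_cancel, Units.val_one, Matrix.transpose_one],
    by rw [← Matrix.transpose_mul, ← Units.val_mul, inv_mul_cancel, Units.val_one, Matrix.transpose_one]⟩

theorem asgd1bilgInvT_coe (g : GL (Fin n) F) :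
    ((asgd1bilgInvT g : GL (Fin n) F) : Matrix (Fin n) (Fin n) F) =
      ((g⁻¹ : GL (Fin n) F) : Matrix (Fin n) (Fin n) F)ᵀ := rfl

theorem asgd1bilgInvT_mul (g h : GL (Fin n) F) :
    asgd1bilgInvT (g * h) = asgd1bilgInvT g * asgd1bilgInvT h := by
  apply Units.ext
  rw [Units.val_mul, asgd1bilgInvT_coe, asgd1bilgInvT_coe, asgd1bilgInvT_coe, mul_inv_rev, Units.val_mul,
    Matrix.transpose_mul]

theorem d1_bilin {r k : ℕ} {R : Subgroup (GL (Fin n) F)} (hR : D1Core r k R) (hodd : Odd (Fintype.card F))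
    (h : ∀ c : Fˣ, c ^ k = 1 → c ^ 2 = 1) :
    (∃ Q : (Fin n → F) → F, IsNondegenerateQuadraticForm Q ∧ FixesQuadForm (matrixSet R) Q) ∨
    (∃ f : (Fin n → F) → (Fin n → F) → F, IsSymplecticForm f ∧ FixesForm (matrixSet R) f) := by
  classical
  let ρ : R →* GL (Fin n) F := MonoidHom.mk' (fun x => asgd1bilgInvT (x : GL (Fin n) F))
    (fun a b => by
      change asgd1bilgInvT ((a : GL (Fin n) F) * (b : GL (Fin n) F)) = _
      exact asgd1bilgInvT_mul _ _)
  have hρapp : ∀ x : R, ρ x = asgd1bilgInvT (x : GL (Fin n) F) := fun x => rfl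
  have hρ : ∀ x : R, (x : GL (Fin n) F) ∈ scalars (Fin n) F → ρ x = x := by
    intro x hx
    rw [hρapp]
    rcases Nat.eq_zero_or_pos n with h0 | h0
    · subst h0
      apply Units.ext
      exact Subsingleton.elim _ _
    · obtain ⟨c, hc⟩ := (mem_scalars_iff_d1scal _).mp hx
      have hck : c ^ k = 1 := by
        apply d1scal_injective h0
        rw [d1scal_pow, ← hc, d1scal_one]
        exact hR.pow _ x.2
      have hc2 : c ^ 2 = 1 := h c hck
      have hcinv : c⁻¹ = c := by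
        rw [inv_eq_iff_mul_eq_one, ← pow_two, hc2]
      apply Units.ext
      rw [asgd1bilgInvT_coe, hc, ← d1scal_inv, hcinv, d1scal_coe, Matrix.transpose_smul, Matrix.transpose_one]
  obtain ⟨T, hT⟩ := d1_uniq hR.absIrr hR.comm ρ hρ
  apply d1_symalt hR.absIrr hodd (T : Matrix (Fin n) (Fin n) F)
  · exact (Matrix.isUnit_iff_isUnit_det _).mp ⟨T, rfl⟩
  · intro x hx
    have h1 := hT ⟨x, hx⟩
    rw [hρapp] at h1
    have h2 := congrArg (fun g : GL (Fin n) F => (g : Matrix (Fin n) (Fin n) F)) h1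
    simp only [Units.val_mul, asgd1bilgInvT_coe] at h2
    have h3 : (x : Matrix (Fin n) (Fin n) F)ᵀ * ((x⁻¹ : GL (Fin n) F) : Matrix (Fin n) (Fin n) F)ᵀ = 1 := by
      rw [← Matrix.transpose_mul, ← Units.val_mul, inv_mul_cancel, Units.val_one, Matrix.transpose_one]
    calc (x : Matrix (Fin n) (Fin n) F)ᵀ * (T : Matrix (Fin n) (Fin n) F) * (x : Matrix (Fin n) (Fin n) F)
        = (x : Matrix (Fin n) (Fin n) F)ᵀ * ((T : Matrix (Fin n) (Fin n) F) * (x : Matrix (Fin n) (Fin n) F)) := by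
          rw [Matrix.mul_assoc]
      _ = (x : Matrix (Fin n) (Fin n) F)ᵀ * (((x⁻¹ : GL (Fin n) F) : Matrix (Fin n) (Fin n) F)ᵀ *
            (T : Matrix (Fin n) (Fin n) F)) := by rw [← h2]
      _ = (T : Matrix (Fin n) (Fin n) F) := by rw [← Matrix.mul_assoc, h3, Matrix.one_mul]

end Cfsg.Agent.Lib.Helper19.ASG
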