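import Mathlib
import Cfsg.Prelude.Def_GeometricClasses
import Cfsg.Agent.Lib.Helper27.ASC.Defs
import Cfsg.Agent.Lib.Helper19.ASG.Defs
import Cfsg.Agent.Lib.Helper26.ASGD1.Defs

set_option autoImplicit false
set_option linter.unusedVariables false
set_option linter.unusedSectionVars false
set_option linter.style.haveILetI false

namespace Cfsg.Agent.Lib.Helper19.ASG

open Cfsg Cfsg.Geo Cfsg.Agent.Lib.Helper27.ASC
open scoped MatrixGroups Matrix

variable {n : ℕ} {F : Type*} [Field F] [Fintype F]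

theorem asgd1field4_sub (p e j : ℕ) [hp : Fact p.Prime] [CharP F p] (hcard : Fintype.card F = p ^ e)
    (hj : 0 < j) (hje : j < e) (h4j : 4 ∣ p ^ j - 1) :
    ∃ F₀ : Subfield F, F₀ ≠ ⊤ ∧ ∀ c : Fˣ, c ^ 4 = 1 → (c : F) ∈ F₀ := by
  classical
  have hp1 : 1 < p := hp.out.one_lt
  have hpj1 : 1 ≤ p ^ j := Nat.one_le_pow _ _ (by omega)
  refine ⟨(iterateFrobenius F p j).eqLocusField (RingHom.id F), ?_, ?_⟩
  · intro htop
    obtain ⟨g, hg⟩ := IsCyclic.exists_ofOrder_eq_natCard (α := Fˣ)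
    have hgmem : (g : F) ∈ (iterateFrobenius F p j).eqLocusField (RingHom.id F) := by
      rw [htop]
      trivial
    rw [RingHom.mem_eqLocusField, iterateFrobenius_def, RingHom.id_apply] at hgmem
    have h1 : g ^ (p ^ j - 1) = 1 := by
      apply Units.ext
      rw [Units.val_pow_eq_pow_val, Units.val_one]
      have h2 : (g : F) ^ (p ^ j - 1) * (g : F) = (g : F) := by
        rw [← pow_succ, Nat.sub_add_cancel hpj1, hgmem]
      exact mul_right_cancel₀ g.ne_zero (by rw [h2, one_mul])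
    have h3 : orderOf g ∣ p ^ j - 1 := orderOf_dvd_of_pow_eq_one h1
    rw [hg, Nat.card_eq_fintype_card, Fintype.card_units, hcard] at h3
    have h4 : p ^ j < p ^ e := Nat.pow_lt_pow_right hp1 hje
    have h5 : 1 < p ^ j := Nat.one_lt_pow (by omega) hp1
    have h6 : p ^ e - 1 ≤ p ^ j - 1 := Nat.le_of_dvd (by omega) h3
    omega
  · intro c hc
    rw [RingHom.mem_eqLocusField, iterateFrobenius_def, RingHom.id_apply]
    obtain ⟨t, ht⟩ := h4j
    have h1 : c ^ (p ^ j - 1) = 1 := by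
      rw [ht, pow_mul, hc, one_pow]
    have h2 : (c : F) ^ (p ^ j - 1) = 1 := by
      rw [← Units.val_pow_eq_pow_val, h1, Units.val_one]
    calc (c : F) ^ p ^ j = (c : F) ^ (p ^ j - 1) * (c : F) := by
          rw [← pow_succ, Nat.sub_add_cancel hpj1]
      _ = (c : F) := by rw [h2, one_mul]

theorem asgd1field4_ord (i : Fˣ) (hi4 : i ^ 4 = 1) (hi2 : i ^ 2 ≠ 1) : orderOf i = 4 := by
  have h1 : orderOf i ∣ 4 := orderOf_dvd_of_pow_eq_one hi4
  have h2 : ¬ orderOf i ∣ 2 := fun h => hi2 (orderOf_dvd_iff_pow_eq_one.mp h)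
  have h3 : orderOf i ≤ 4 := Nat.le_of_dvd (by norm_num) h1
  have h4 : 0 < orderOf i := Nat.pos_of_dvd_of_pos h1 (by norm_num)
  generalize orderOf i = m at h1 h2 h3 h4
  interval_cases m
  · exact absurd (one_dvd 2) h2
  · exact absurd (dvd_refl 2) h2
  · norm_num at h1
  · rfl

theorem d1_field4 (i : Fˣ) (hi4 : i ^ 4 = 1) (hi2 : i ^ 2 ≠ 1) :
    (∃ p : ℕ, 2 ≠ p ∧ IsMinimalFieldFor 4 p 1 F) ∨
    (∃ F₀ : Subfield F, F₀ ≠ ⊤ ∧ ∀ c : Fˣ, c ^ 4 = 1 → (c : F) ∈ F₀) ∨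
    (∃ q₀ : ℕ, Fintype.card F = q₀ ^ 2 ∧ ∀ c : Fˣ, c ^ 4 = 1 → c ^ (q₀ + 1) = 1) := by
  classical
  obtain ⟨p, hp⟩ := CharP.exists F
  haveI := hp
  haveI : Fact p.Prime := ⟨CharP.char_is_prime F p⟩
  obtain ⟨e, hpp, hcard⟩ := FiniteField.card F p
  have he : 0 < (e : ℕ) := e.pos
  have hord := asgd1field4_ord i hi4 hi2
  have h4 : 4 ∣ p ^ (e : ℕ) - 1 := by
    rw [← hcard, ← Fintype.card_units, ← hord]
    exact orderOf_dvd_card
  have hp1 : 1 < p := hpp.one_lt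
  have hp2 : p ≠ 2 := by
    rintro rfl
    have h5 : 1 ≤ 2 ^ (e : ℕ) := Nat.one_le_pow _ _ (by norm_num)
    have h6 : 2 ∣ 2 ^ (e : ℕ) := dvd_pow_self 2 he.ne'
    omega
  have hpodd : p % 2 = 1 := by
    rcases hpp.eq_two_or_odd with h | h
    · exact absurd h hp2
    · exact h
  have hp4 : p % 4 = 1 ∨ p % 4 = 3 := by omega
  rcases hp4 with hp4 | hp4
  · have h4p : 4 ∣ p ^ 1 - 1 := by
      rw [pow_one]
      omega
    rcases Nat.lt_or_ge 1 (e : ℕ) with he1 | he1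
    · exact Or.inr (Or.inl (asgd1field4_sub p e 1 hcard (by norm_num) he1 h4p))
    · have he1' : (e : ℕ) = 1 := by omega
      refine Or.inl ⟨p, fun h => hp2 h.symm, hpp, hp, by rw [hcard, he1'], h4p, ?_⟩
      intro d hd0 hd1
      omega
  · have heven : Even (e : ℕ) := by
      by_contra hodd
      rw [Nat.not_even_iff_odd] at hodd
      have h7 : p ^ (e : ℕ) % 4 = 3 := by
        obtain ⟨t, ht⟩ := hodd
        rw [ht, pow_succ, pow_mul, Nat.mul_mod, Nat.pow_mod]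
        have : p ^ 2 % 4 = 1 := by
          rw [pow_two, Nat.mul_mod, hp4]
        rw [this, one_pow, hp4]
        norm_num
      have h8 : 1 ≤ p ^ (e : ℕ) := Nat.one_le_pow _ _ (by omega)
      omega
    have h4p2 : 4 ∣ p ^ 2 - 1 := by
      have : p ^ 2 % 4 = 1 := by
        rw [pow_two, Nat.mul_mod, hp4]
      have h8 : 1 ≤ p ^ 2 := Nat.one_le_pow _ _ (by omega)
      omega
    obtain ⟨t, ht⟩ := heven
    rcases Nat.lt_or_ge 2 (e : ℕ) with he2 | he2
    · exact Or.inr (Or.inl (asgd1field4_sub p e 2 hcard (by norm_num) he2 h4p2))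
    · have he2' : (e : ℕ) = 2 := by omega
      refine Or.inr (Or.inr ⟨p, by rw [hcard, he2'], fun c hc => ?_⟩)
      have h4p1 : 4 ∣ p + 1 := by omega
      obtain ⟨s, hs⟩ := h4p1
      rw [hs, pow_mul, hc, one_pow]

end Cfsg.Agent.Lib.Helper19.ASG
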