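import Mathlib
import Cfsg.Prelude.Def_GeometricClasses
import Cfsg.Agent.Lib.Helper27.ASC.Defs
import Cfsg.Agent.Lib.Helper19.ASG.Defs
import Cfsg.Agent.Lib.Helper9.ASGD2T.Defs
import Cfsg.Agent.Lib.Helper9.ASGD2TF.Defs

set_option autoImplicit false
set_option linter.unusedVariables false
set_option linter.unusedSectionVars false

namespace Cfsg.Agent.Lib.Helper19.ASG

open Cfsg Cfsg.Geo Cfsg.Agent.Lib.Helper27.ASC
open scoped MatrixGroups Matrix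

variable {n : ℕ} {F : Type*} [Field F]

theorem asgd2tfall_cj_injective {k : ℕ} (h : GL (Fin n) F)
    (θ : Matrix (Fin k) (Fin k) F →ₐ[F] Matrix (Fin n) (Fin n) F) (hinj : Function.Injective θ) :
    Function.Injective (cjHom h θ) := by
  intro a b hab
  rw [cjHom_apply, cjHom_apply] at hab
  apply hinj
  have e1 : ((h⁻¹ : GL (Fin n) F) : Matrix (Fin n) (Fin n) F) * (h : Matrix (Fin n) (Fin n) F) = 1 := by
    rw [← Units.val_mul, inv_mul_cancel, Units.val_one]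
  have e2 : (h : Matrix (Fin n) (Fin n) F) * ((h⁻¹ : GL (Fin n) F) : Matrix (Fin n) (Fin n) F) = 1 := by
    rw [← Units.val_mul, mul_inv_cancel, Units.val_one]
  have h1 := congrArg (fun M => ((h⁻¹ : GL (Fin n) F) : Matrix (Fin n) (Fin n) F) * M *
    (h : Matrix (Fin n) (Fin n) F)) hab
  have e3 : ∀ M : Matrix (Fin n) (Fin n) F,
      ((h⁻¹ : GL (Fin n) F) : Matrix (Fin n) (Fin n) F) * ((h : Matrix (Fin n) (Fin n) F) * M *
        ((h⁻¹ : GL (Fin n) F) : Matrix (Fin n) (Fin n) F)) * (h : Matrix (Fin n) (Fin n) F) = M := by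
    intro M
    calc ((h⁻¹ : GL (Fin n) F) : Matrix (Fin n) (Fin n) F) * ((h : Matrix (Fin n) (Fin n) F) * M *
        ((h⁻¹ : GL (Fin n) F) : Matrix (Fin n) (Fin n) F)) * (h : Matrix (Fin n) (Fin n) F)
        = (((h⁻¹ : GL (Fin n) F) : Matrix (Fin n) (Fin n) F) * (h : Matrix (Fin n) (Fin n) F)) * M *
          (((h⁻¹ : GL (Fin n) F) : Matrix (Fin n) (Fin n) F) * (h : Matrix (Fin n) (Fin n) F)) := by
          simp only [mul_assoc]
      _ = M := by rw [e1, one_mul, mul_one]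
  rw [e3, e3] at h1
  exact h1

theorem asgd2tfall_cj_conj {k : ℕ} (g g0 : GL (Fin n) F)
    (θ : Matrix (Fin k) (Fin k) F →ₐ[F] Matrix (Fin n) (Fin n) F) (a : Matrix (Fin k) (Fin k) F) :
    cjHom g θ a = ((g * g0⁻¹ : GL (Fin n) F) : Matrix (Fin n) (Fin n) F) * cjHom g0 θ a *
      (((g * g0⁻¹)⁻¹ : GL (Fin n) F) : Matrix (Fin n) (Fin n) F) := by
  rw [cjHom_apply, cjHom_apply]
  have e1 : ((g0⁻¹ : GL (Fin n) F) : Matrix (Fin n) (Fin n) F) * (g0 : Matrix (Fin n) (Fin n) F) = 1 := by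
    rw [← Units.val_mul, inv_mul_cancel, Units.val_one]
  rw [mul_inv_rev, inv_inv, Units.val_mul, Units.val_mul]
  calc (g : Matrix (Fin n) (Fin n) F) * θ a * ((g⁻¹ : GL (Fin n) F) : Matrix (Fin n) (Fin n) F)
      = (g : Matrix (Fin n) (Fin n) F) * ((((g0⁻¹ : GL (Fin n) F) : Matrix (Fin n) (Fin n) F) *
          (g0 : Matrix (Fin n) (Fin n) F)) * θ a * (((g0⁻¹ : GL (Fin n) F) : Matrix (Fin n) (Fin n) F) *
          (g0 : Matrix (Fin n) (Fin n) F))) * ((g⁻¹ : GL (Fin n) F) : Matrix (Fin n) (Fin n) F) := by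
        rw [e1, one_mul, mul_one, mul_assoc]
    _ = _ := by simp only [mul_assoc]

theorem asgd2tfall_core {σ : F →+* F} (hσ : ∀ a, σ (σ a) = a)
    {star : Matrix (Fin n) (Fin n) F → Matrix (Fin n) (Fin n) F} (hs : IsStarOp σ star)
    (H_stard : ∀ {K : Subgroup (GL (Fin n) F)},
      (∀ x ∈ K, star (x : Matrix (Fin n) (Fin n) F) * (x : Matrix (Fin n) (Fin n) F) = 1) →
      ∀ {Y : Matrix (Fin n) (Fin n) F}, Y ∈ dcomm K → star Y ∈ dcomm K)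
    (H_conj : ∀ (h : GL (Fin n) F),
      star (h : Matrix (Fin n) (Fin n) F) * (h : Matrix (Fin n) (Fin n) F) = 1 →
      ∀ x : Matrix (Fin n) (Fin n) F,
      star ((h : Matrix (Fin n) (Fin n) F) * x * ((h⁻¹ : GL (Fin n) F) : Matrix (Fin n) (Fin n) F)) =
        (h : Matrix (Fin n) (Fin n) F) * star x * ((h⁻¹ : GL (Fin n) F) : Matrix (Fin n) (Fin n) F))
    {k : ℕ}
    (H_inner : ∀ (θ : Matrix (Fin k) (Fin k) F →ₐ[F] Matrix (Fin n) (Fin n) F), Function.Injective θ →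
      (∀ a, ∃ a', star (θ a) = θ a') →
      ∃ A : GL (Fin k) F, ∀ a, star (θ a) = θ (((A⁻¹ : GL (Fin k) F) : Matrix (Fin k) (Fin k) F) * (a.map σ)ᵀ *
        (A : Matrix (Fin k) (Fin k) F)))
    {H : Subgroup (GL (Fin n) F)}
    (hI : ∀ h ∈ H, star (h : Matrix (Fin n) (Fin n) F) * (h : Matrix (Fin n) (Fin n) F) = 1)
    {t : ℕ} (ht : 0 < t) (X : Fin t → Subgroup (GL (Fin n) F)) (hXH : ∀ i, X i ≤ H)
    (θ₀ : Matrix (Fin k) (Fin k) F →ₐ[F] Matrix (Fin n) (Fin n) F) (hinj : Function.Injective θ₀)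
    (g : Fin t → GL (Fin n) F) (hg : ∀ i, g i ∈ H)
    (hrange : ∀ i Y, Y ∈ (cjHom (g i) θ₀).range ↔ Y ∈ dcomm (X i)) :
    ∃ A : GL (Fin k) F, ∀ i a, star (cjHom (g i) θ₀ a) =
      cjHom (g i) θ₀ (((A⁻¹ : GL (Fin k) F) : Matrix (Fin k) (Fin k) F) * (a.map σ)ᵀ *
        (A : Matrix (Fin k) (Fin k) F)) := by
  set i₀ : Fin t := ⟨0, ht⟩ with hi₀
  have hst : ∀ a, ∃ a', star (cjHom (g i₀) θ₀ a) = cjHom (g i₀) θ₀ a' := by
    intro a
    have h1 : cjHom (g i₀) θ₀ a ∈ dcomm (X i₀) := (hrange i₀ _).mp ⟨a, rfl⟩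
    have h2 : star (cjHom (g i₀) θ₀ a) ∈ dcomm (X i₀) :=
      H_stard (fun x hx => hI x (hXH i₀ hx)) h1
    obtain ⟨a', ha'⟩ := (hrange i₀ _).mpr h2
    exact ⟨a', ha'.symm⟩
  obtain ⟨A, hA⟩ := H_inner (cjHom (g i₀) θ₀) (asgd2tfall_cj_injective (g i₀) θ₀ hinj) hst
  refine ⟨A, fun i a => ?_⟩
  have hu : g i * (g i₀)⁻¹ ∈ H := H.mul_mem (hg i) (H.inv_mem (hg i₀))
  rw [asgd2tfall_cj_conj (g i) (g i₀) θ₀ a, H_conj _ (hI _ hu), hA a,
    ← asgd2tfall_cj_conj (g i) (g i₀) θ₀]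

end Cfsg.Agent.Lib.Helper19.ASG
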