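import Mathlib
import Cfsg.Prelude.Def_GeometricClasses
import Cfsg.Agent.Lib.Helper27.ASC.Defs
import Cfsg.Agent.Lib.Helper19.ASG.Defs
import Cfsg.Agent.Lib.Helper9.ASGD2T.Defs
import Cfsg.Agent.Lib.Helper9.ASGD2TF.Defs
import Cfsg.Agent.Lib.Helper20.ASGD2TFSTARD
import Cfsg.Agent.Lib.Helper20.ASGD2TFCONJ
import Cfsg.Agent.Lib.Helper26.ASGD2TFINNER
import Cfsg.Agent.Lib.Helper24.ASGD2TFALLcore

set_option autoImplicit false
set_option linter.unusedVariables false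
set_option linter.unusedSectionVars false

namespace Cfsg.Agent.Lib.Helper19.ASG

open Cfsg Cfsg.Geo Cfsg.Agent.Lib.Helper27.ASC
open scoped MatrixGroups Matrix

variable {n : ℕ} {F : Type*} [Field F]

theorem star_tensor {σ : F →+* F} (hσ : ∀ a, σ (σ a) = a)
    {star : Matrix (Fin n) (Fin n) F → Matrix (Fin n) (Fin n) F} (hs : IsStarOp σ star)
    {H : Subgroup (GL (Fin n) F)}
    (hI : ∀ h ∈ H, star (h : Matrix (Fin n) (Fin n) F) * (h : Matrix (Fin n) (Fin n) F) = 1)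
    {k t : ℕ} (ht : 0 < t) (X : Fin t → Subgroup (GL (Fin n) F)) (hXH : ∀ i, X i ≤ H)
    (θ₀ : Matrix (Fin k) (Fin k) F →ₐ[F] Matrix (Fin n) (Fin n) F) (hinj : Function.Injective θ₀)
    (g : Fin t → GL (Fin n) F) (hg : ∀ i, g i ∈ H)
    (hrange : ∀ i Y, Y ∈ (cjHom (g i) θ₀).range ↔ Y ∈ dcomm (X i)) :
    ∃ A : GL (Fin k) F, ∀ i a, star (cjHom (g i) θ₀ a) =
      cjHom (g i) θ₀ (((A⁻¹ : GL (Fin k) F) : Matrix (Fin k) (Fin k) F) * (a.map σ)ᵀ *
        (A : Matrix (Fin k) (Fin k) F)) :=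
  asgd2tfall_core hσ hs (fun hK _ hY => star_dcomm hs hK hY) (fun h hh x => star_conj hs h hh x)
    (fun θ hθ hst => star_inner hσ hs θ hθ hst) hI ht X hXH θ₀ hinj g hg hrange

end Cfsg.Agent.Lib.Helper19.ASG
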