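import Mathlib
import Cfsg.Prelude.Def_GeometricClasses
import Cfsg.Agent.Lib.Helper27.ASC.Defs
import Cfsg.Agent.Lib.Helper19.ASG.Defs
import Cfsg.Agent.Lib.Helper9.ASGD2T.Defs
import Cfsg.Agent.Lib.Helper9.ASGD2TF.Defs
import Cfsg.Agent.Lib.Helper11.ASGD2TPTMUL
import Cfsg.Agent.Lib.Helper1.ASGD2TCENTSTD

set_option autoImplicit false
set_option linter.unusedVariables false
set_option linter.unusedSectionVars false

namespace Cfsg.Agent.Lib.Helper19.ASG

open Cfsg Cfsg.Geo Cfsg.Agent.Lib.Helper27.ASC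
open scoped MatrixGroups Matrix

variable {n : ℕ} {F : Type*} [Field F]

theorem asgd2tfgram_map_transpose {σ : F →+* F} {k t : ℕ} (e : Fin n ≃ (Fin t → Fin k)) (i : Fin t)
    (a : Matrix (Fin k) (Fin k) F) :
    ((Matrix.reindex e.symm e.symm (ptMat (Pi.mulSingle i a))).map σ)ᵀ =
      Matrix.reindex e.symm e.symm (ptMat (Pi.mulSingle i (a.map σ)ᵀ)) := by
  classical
  ext x y
  simp only [Matrix.transpose_apply, Matrix.map_apply, Matrix.reindex_apply, Matrix.submatrix_apply,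
    ptMat_apply, map_prod, Equiv.symm_symm]
  apply Finset.prod_congr rfl
  intro j _
  by_cases hj : j = i
  · subst hj
    simp
  · rw [Pi.mulSingle_eq_of_ne hj, Pi.mulSingle_eq_of_ne hj, Matrix.one_apply, Matrix.one_apply]
    by_cases h1 : e y j = e x j
    · rw [if_pos h1, if_pos h1.symm, map_one]
    · rw [if_neg h1, if_neg (fun h => h1 h.symm), map_zero]

theorem asgd2tfgram_unreindex {k t : ℕ} (e : Fin n ≃ (Fin t → Fin k))
    (M : Matrix (Fin t → Fin k) (Fin t → Fin k) F) (N : Matrix (Fin n) (Fin n) F) :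
    (Matrix.reindex e.symm e.symm M * N).submatrix e.symm e.symm = M * N.submatrix e.symm e.symm := by
  ext x y
  simp only [Matrix.submatrix_apply, Matrix.mul_apply, Matrix.reindex_apply, Equiv.symm_symm,
    Equiv.apply_symm_apply]
  exact Fintype.sum_equiv e _ _ (fun j => by simp)

theorem asgd2tfgram_unreindex' {k t : ℕ} (e : Fin n ≃ (Fin t → Fin k))
    (M : Matrix (Fin t → Fin k) (Fin t → Fin k) F) (N : Matrix (Fin n) (Fin n) F) :
    (N * Matrix.reindex e.symm e.symm M).submatrix e.symm e.symm = N.submatrix e.symm e.symm * M := by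
  ext x y
  simp only [Matrix.submatrix_apply, Matrix.mul_apply, Matrix.reindex_apply, Equiv.symm_symm,
    Equiv.apply_symm_apply]
  exact Fintype.sum_equiv e _ _ (fun j => by simp)

theorem asgd2tfgram_const_mul {k t : ℕ} (A A' : Matrix (Fin k) (Fin k) F) (hAA' : A * A' = 1) :
    ptMat (fun _ : Fin t => A) * ptMat (fun _ : Fin t => A') = 1 := by
  rw [← ptMat_mul, ← ptMat_one]
  congr 1
  funext j
  exact hAA'

theorem asgd2tfgram_rel {k t : ℕ} (A A' : Matrix (Fin k) (Fin k) F) (hAA' : A * A' = 1) (i : Fin t)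
    (b : Matrix (Fin k) (Fin k) F) :
    ptMat (Pi.mulSingle i b) * ptMat (fun _ : Fin t => A) =
      ptMat (fun _ : Fin t => A) * ptMat (Pi.mulSingle i (A' * b * A)) := by
  classical
  rw [← ptMat_mul, ← ptMat_mul]
  congr 1
  funext j
  by_cases hj : j = i
  · subst hj
    rw [Pi.mul_apply, Pi.mul_apply, Pi.mulSingle_eq_same, Pi.mulSingle_eq_same, ← mul_assoc, ← mul_assoc,
      hAA', one_mul]
  · rw [Pi.mul_apply, Pi.mul_apply, Pi.mulSingle_eq_of_ne hj, Pi.mulSingle_eq_of_ne hj, one_mul, mul_one]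

theorem gram_tensor {σ : F →+* F} (hσ : ∀ a, σ (σ a) = a) (G₁ : Matrix (Fin n) (Fin n) F) (hG : IsUnit G₁.det)
    {k t : ℕ} (e : Fin n ≃ (Fin t → Fin k)) (B : GL (Fin n) F) (A : GL (Fin k) F)
    (h : ∀ (i : Fin t) (a : Matrix (Fin k) (Fin k) F),
      G₁⁻¹ * ((tensorFac e B i a).map σ)ᵀ * G₁ =
        tensorFac e B i (((A⁻¹ : GL (Fin k) F) : Matrix (Fin k) (Fin k) F) * (a.map σ)ᵀ *
          (A : Matrix (Fin k) (Fin k) F))) :
    ∃ c : F, c ≠ 0 ∧ ((B : Matrix (Fin n) (Fin n) F).map σ)ᵀ * G₁ * (B : Matrix (Fin n) (Fin n) F) =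
      c • Matrix.reindex e.symm e.symm (ptMat (fun _ : Fin t => (A : Matrix (Fin k) (Fin k) F))) := by
  classical
  rcases Nat.eq_zero_or_pos n with hn | hn
  · subst hn
    exact ⟨1, one_ne_zero, Subsingleton.elim _ _⟩
  have : Nonempty (Fin n) := ⟨⟨0, hn⟩⟩
  set Bm : Matrix (Fin n) (Fin n) F := (B : Matrix (Fin n) (Fin n) F) with hBm
  set Bi : Matrix (Fin n) (Fin n) F := ((B⁻¹ : GL (Fin n) F) : Matrix (Fin n) (Fin n) F) with hBi
  set Am : Matrix (Fin k) (Fin k) F := (A : Matrix (Fin k) (Fin k) F) with hAm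
  set Ai : Matrix (Fin k) (Fin k) F := ((A⁻¹ : GL (Fin k) F) : Matrix (Fin k) (Fin k) F) with hAi
  have hBBi : Bm * Bi = 1 := by rw [hBm, hBi, ← Units.val_mul, mul_inv_cancel, Units.val_one]
  have hBiB : Bi * Bm = 1 := by rw [hBm, hBi, ← Units.val_mul, inv_mul_cancel, Units.val_one]
  have hAAi : Am * Ai = 1 := by rw [hAm, hAi, ← Units.val_mul, mul_inv_cancel, Units.val_one]
  have hAiA : Ai * Am = 1 := by rw [hAm, hAi, ← Units.val_mul, inv_mul_cancel, Units.val_one]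
  have hσB : (Bm.map σ)ᵀ * (Bi.map σ)ᵀ = 1 := by
    rw [← Matrix.transpose_mul, ← Matrix.map_mul, hBiB, Matrix.map_one _ (map_zero σ) (map_one σ),
      Matrix.transpose_one]
  have hGG : G₁ * G₁⁻¹ = 1 := Matrix.mul_nonsing_inv _ hG
  set Gh : Matrix (Fin n) (Fin n) F := (Bm.map σ)ᵀ * G₁ * Bm with hGh
  have key : ∀ (i : Fin t) (b : Matrix (Fin k) (Fin k) F),
      Matrix.reindex e.symm e.symm (ptMat (Pi.mulSingle i b)) * Gh =
        Gh * Matrix.reindex e.symm e.symm (ptMat (Pi.mulSingle i (Ai * b * Am))) := by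
    intro i b
    set a : Matrix (Fin k) (Fin k) F := (bᵀ).map σ with ha
    have hab : (a.map σ)ᵀ = b := by
      ext x y
      simp [ha, hσ]
    have h1 := h i a
    rw [hab] at h1
    rw [tensorFac_def, tensorFac_def, Matrix.map_mul, Matrix.map_mul, Matrix.transpose_mul,
      Matrix.transpose_mul, asgd2tfgram_map_transpose, hab] at h1
    set R1 := Matrix.reindex e.symm e.symm (ptMat (Pi.mulSingle i b)) with hR1
    set R2 := Matrix.reindex e.symm e.symm (ptMat (Pi.mulSingle i (Ai * b * Am))) with hR2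
    have h2 : (Bm.map σ)ᵀ * G₁ * (G₁⁻¹ * ((Bi.map σ)ᵀ * (R1 * (Bm.map σ)ᵀ)) * G₁) * Bm =
        (Bm.map σ)ᵀ * G₁ * (Bm * R2 * Bi) * Bm := by
      rw [h1]
    calc R1 * Gh = ((Bm.map σ)ᵀ * (Bi.map σ)ᵀ) * R1 * ((Bm.map σ)ᵀ * G₁ * Bm) := by
          rw [hσB, one_mul]
      _ = (Bm.map σ)ᵀ * (G₁ * G₁⁻¹) * ((Bi.map σ)ᵀ * (R1 * (Bm.map σ)ᵀ)) * G₁ * Bm := by
          rw [hGG, mul_one]
          simp only [mul_assoc]
      _ = (Bm.map σ)ᵀ * G₁ * (G₁⁻¹ * ((Bi.map σ)ᵀ * (R1 * (Bm.map σ)ᵀ)) * G₁) * Bm := by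
          simp only [mul_assoc]
      _ = (Bm.map σ)ᵀ * G₁ * (Bm * R2 * Bi) * Bm := h2
      _ = (Bm.map σ)ᵀ * G₁ * Bm * R2 * (Bi * Bm) := by simp only [mul_assoc]
      _ = Gh * R2 := by rw [hBiB, mul_one]
  set Gp : Matrix (Fin t → Fin k) (Fin t → Fin k) F := Gh.submatrix e.symm e.symm with hGp
  have key' : ∀ (i : Fin t) (b : Matrix (Fin k) (Fin k) F),
      ptMat (Pi.mulSingle i b) * Gp = Gp * ptMat (Pi.mulSingle i (Ai * b * Am)) := by
    intro i b
    rw [hGp, ← asgd2tfgram_unreindex, ← asgd2tfgram_unreindex', key i b]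
  set PA : Matrix (Fin t → Fin k) (Fin t → Fin k) F := ptMat (fun _ : Fin t => Am) with hPA
  set PAi : Matrix (Fin t → Fin k) (Fin t → Fin k) F := ptMat (fun _ : Fin t => Ai) with hPAi
  have hPP : PA * PAi = 1 := asgd2tfgram_const_mul Am Ai hAAi
  have hPP' : PAi * PA = 1 := asgd2tfgram_const_mul Ai Am hAiA
  have rel : ∀ (i : Fin t) (b : Matrix (Fin k) (Fin k) F),
      ptMat (Pi.mulSingle i (Ai * b * Am)) * PAi = PAi * ptMat (Pi.mulSingle i b) := by
    intro i b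
    have h1 := asgd2tfgram_rel (t := t) Am Ai hAAi i b
    calc ptMat (Pi.mulSingle i (Ai * b * Am)) * PAi
        = (PAi * PA) * ptMat (Pi.mulSingle i (Ai * b * Am)) * PAi := by rw [hPP', one_mul]
      _ = PAi * (PA * ptMat (Pi.mulSingle i (Ai * b * Am))) * PAi := by simp only [mul_assoc]
      _ = PAi * (ptMat (Pi.mulSingle i b) * PA) * PAi := by rw [← h1]
      _ = PAi * ptMat (Pi.mulSingle i b) * (PA * PAi) := by simp only [mul_assoc]
      _ = PAi * ptMat (Pi.mulSingle i b) := by rw [hPP, mul_one]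
  have hcent : ∀ (i : Fin t) (b : Matrix (Fin k) (Fin k) F),
      (Gp * PAi) * ptMat (Pi.mulSingle i b) = ptMat (Pi.mulSingle i b) * (Gp * PAi) := by
    intro i b
    rw [← mul_assoc, key' i b, mul_assoc, mul_assoc, rel i b]
  obtain ⟨c, hc⟩ := ptMat_cent (Gp * PAi) hcent
  have hGpc : Gp = c • PA := by
    calc Gp = Gp * (PAi * PA) := by rw [hPP', mul_one]
      _ = (Gp * PAi) * PA := by rw [mul_assoc]
      _ = c • PA := by rw [hc, Matrix.smul_mul, one_mul]
  have hGhc : Gh = c • Matrix.reindex e.symm e.symm PA := by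
    have h1 : Gh = Matrix.reindex e.symm e.symm Gp := by
      ext x y
      simp [hGp]
    rw [h1, hGpc]
    ext x y
    simp
  refine ⟨c, ?_, hGhc⟩
  intro hc0
  rw [hc0, zero_smul] at hGhc
  have hdet : IsUnit Gh.det := by
    rw [hGh, Matrix.det_mul, Matrix.det_mul, Matrix.det_transpose]
    have h1 : IsUnit Bm.det := by
      have := (Matrix.isUnit_iff_isUnit_det Bm).mp ⟨B, rfl⟩
      exact this
    have h2 : IsUnit (Bm.map σ).det := by
      have : (Bm.map σ).det = σ Bm.det := by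
        rw [RingHom.map_det]
        rfl
      rw [this]
      exact h1.map σ
    exact (h2.mul hG).mul h1
  rw [hGhc, Matrix.det_zero] at hdet
  exact not_isUnit_zero hdet

end Cfsg.Agent.Lib.Helper19.ASG
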