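import Mathlib
import Cfsg.Agent.Lib.Helper28.BP2.Defs

set_option autoImplicit false

namespace Cfsg.Agent.Lib.Helper28.BP2

open Cfsg.Agent.Lib.helper14

universe u v w

section Easy

variable {F : Type u} [Field F] [Fintype F]

theorem bp2e5_cube {R : Type u} [CommRing R] (a b c d : R) (hdet : a * d - b * c = 1) :
    (!![a, b; c, d] : Matrix (Fin 2) (Fin 2) R) ^ 3 =
      !![((a + d) ^ 2 - 1) * a - (a + d), ((a + d) ^ 2 - 1) * b;
         ((a + d) ^ 2 - 1) * c, ((a + d) ^ 2 - 1) * d - (a + d)] := by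
  rw [pow_succ, pow_two]
  ext i j
  fin_cases i <;> fin_cases j <;>
    simp [Matrix.mul_apply, Fin.sum_univ_two]
  · linear_combination (-(2 * a + d)) * hdet
  · linear_combination (-b) * hdet
  · linear_combination (-c) * hdet
  · linear_combination (-(a + 2 * d)) * hdet

theorem trace_of_orderOf_three [CharP F 2] (g : SL2 F) (hg : orderOf g = 3) :
    Matrix.trace (g : Matrix (Fin 2) (Fin 2) F) = 1 := by
  have h2 : (2 : F) = 0 := by
    have := CharP.cast_eq_zero F 2
    exact_mod_cast this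
  have hg3 : g ^ 3 = 1 := by rw [← hg]; exact pow_orderOf_eq_one g
  have hg1 : g ≠ 1 := by
    rintro rfl
    simp at hg
  set A : Matrix (Fin 2) (Fin 2) F := (g : Matrix (Fin 2) (Fin 2) F) with hA
  have hA3 : A ^ 3 = 1 := by
    have := congrArg (fun x : SL2 F => (x : Matrix (Fin 2) (Fin 2) F)) hg3
    simpa using this
  have hdet : A 0 0 * A 1 1 - A 0 1 * A 1 0 = 1 := by
    have := g.det_coe
    rwa [Matrix.det_fin_two] at this
  have hAeta : A = !![A 0 0, A 0 1; A 1 0, A 1 1] := Matrix.eta_fin_two A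
  rw [Matrix.trace_fin_two]
  by_contra hne
  apply hg1
  have hcube := bp2e5_cube (A 0 0) (A 0 1) (A 1 0) (A 1 1) hdet
  rw [← hAeta, hA3] at hcube
  set τ := A 0 0 + A 1 1 with hτ
  have e00 := congrFun (congrFun hcube 0) 0
  have e01 := congrFun (congrFun hcube 0) 1
  have e10 := congrFun (congrFun hcube 1) 0
  have e11 := congrFun (congrFun hcube 1) 1
  simp at e00 e01 e10 e11
  have hτ1 : τ - 1 ≠ 0 := sub_ne_zero.mpr hne
  have hsq : τ ^ 2 - 1 = (τ - 1) ^ 2 := by linear_combination (τ - 1) * h2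
  have hsqne : τ ^ 2 - 1 ≠ 0 := by rw [hsq]; exact pow_ne_zero 2 hτ1
  have hb : A 0 1 = 0 := by
    rcases e01 with h | h
    · exact absurd h hsqne
    · exact h
  have hc : A 1 0 = 0 := by
    rcases e10 with h | h
    · exact absurd h hsqne
    · exact h
  have had : A 0 0 = A 1 1 := by
    have : (τ ^ 2 - 1) * (A 0 0 - A 1 1) = 0 := by linear_combination e00.symm - e11.symm
    rcases mul_eq_zero.1 this with h | h
    · exact absurd h hsqne
    · exact sub_eq_zero.1 h
  have hτ0 : τ = 0 := by rw [hτ, had]; linear_combination (A 1 1) * h2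
  have ha1 : A 0 0 = 1 := by
    rw [hτ0] at e00
    linear_combination e00 - h2
  have hd1 : A 1 1 = 1 := by rw [← had, ha1]
  apply Subtype.ext
  change A = 1
  rw [hAeta, hb, hc, ha1, hd1]
  exact Matrix.one_fin_two.symm

end Easy

end Cfsg.Agent.Lib.Helper28.BP2
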