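import Mathlib
import Cfsg.Agent.Lib.Helper18.BRF.Defs

set_option autoImplicit false
set_option linter.unusedVariables false
set_option linter.unusedSectionVars false

namespace Cfsg.Agent.Lib.Helper18.BRF

open Classical

def brfcoref_A1 : Prop :=
  ∀ (p q t n d : ℕ), p.Prime → q * t = p - 1 → 1 ≤ q → 1 ≤ n → ¬ FF p n →
    d ∣ q * (1 + n * p) → d % p = 1 → 2 ≤ d → d = 1 + n * p

def brfcoref_A2 : Prop :=
  ∀ (p q t n d : ℕ), p.Prime → q * t = p - 1 → 1 ≤ q → 2 ≤ t → 1 ≤ n → ¬ FF p n →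
    d ∣ q * (1 + n * p) → (d + 1) % p = 0 → d + 1 = p

set_option maxHeartbeats 1000000 in
theorem brfcoref_core (hA1 : brfcoref_A1) (hA2 : brfcoref_A2)
    {ι : Type*} (X : Finset ι) (triv : ι) (htriv : triv ∈ X) (a : ι → ℤ) (d : ι → ℕ)
    (p q n t z : ℕ) (ε : ℤ) (hp : p.Prime) (hqt : q * t = p - 1) (hq : 2 ≤ q) (ht : 2 ≤ t)
    (hn : 1 ≤ n) (hF : ¬ FF p n)
    (hcard : X.card = q)
    (ha : ∀ i ∈ X, a i = 1 ∨ a i = -1) (hatriv : a triv = 1) (hdtriv : d triv = 1)
    (hdvd : ∀ i ∈ X, d i ∣ q * (1 + n * p))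
    (hcong : ∀ i ∈ X, (p : ℤ) ∣ (d i : ℤ) - a i)
    (hge : ∀ i ∈ X, i ≠ triv → 2 ≤ d i)
    (hε : ε = 1 ∨ ε = -1) (hz1 : 1 ≤ z) (hzdvd : z ∣ q * (1 + n * p))
    (hzcong : (p : ℤ) ∣ (z : ℤ) - ε * (q : ℤ))
    (hdeg : ε * (z : ℤ) = ∑ i ∈ X, a i * (d i : ℤ)) :
    (∀ i ∈ X, i ≠ triv → (a i = 1 ∧ d i = 1 + n * p) ∨ (a i = -1 ∧ d i + 1 = p)) ∧
    ((ε = 1 ∧ z = q ∧ (X.filter (fun i => i ≠ triv ∧ a i = 1)).card * (n + 1) + 1 = q) ∨
     (ε = -1 ∧ ∃ v : ℕ, 1 ≤ v ∧ z + q = v * p ∧ n + 1 = v * t ∧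
        v * (1 + (X.filter (fun i => i ≠ triv ∧ a i = 1)).card * t) + 1 = q)) := by
  have hp2 : 2 ≤ p := hp.two_le
  have hpeq : p = q * t + 1 := by omega
  have hqp : q < p := by nlinarith
  have hq1 : 1 ≤ q := by omega
  have hpZ : (p : ℤ) = (q : ℤ) * (t : ℤ) + 1 := by exact_mod_cast hpeq
  have hp0 : (p : ℤ) ≠ 0 := by exact_mod_cast (by omega : p ≠ 0)
  have hprimeZ : Prime (p : ℤ) := Nat.prime_iff_prime_int.mp hp
  have hpq : ¬ (p : ℤ) ∣ (q : ℤ) := by
    intro h
    have h' : p ∣ q := by exact_mod_cast h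
    have := Nat.le_of_dvd (by omega) h'
    omega
  have hcls : ∀ i ∈ X, i ≠ triv → (a i = 1 ∧ d i = 1 + n * p) ∨ (a i = -1 ∧ d i + 1 = p) := by
    intro i hi hit
    have hd2 := hge i hi hit
    rcases ha i hi with h | h
    · left
      refine ⟨h, ?_⟩
      have hc := hcong i hi
      rw [h] at hc
      have hmod : d i % p = 1 := by
        have h1' : ((d i - 1 : ℕ) : ℤ) = (d i : ℤ) - 1 := by
          rw [Nat.cast_sub (by omega)]; simp
        have h2' : (p : ℤ) ∣ ((d i - 1 : ℕ) : ℤ) := by rw [h1']; exact hc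
        have h3' : p ∣ d i - 1 := by exact_mod_cast h2'
        obtain ⟨k, hk⟩ := h3'
        have : d i = p * k + 1 := by omega
        rw [this, Nat.mul_add_mod]
        exact Nat.mod_eq_of_lt (by omega)
      exact hA1 p q t n (d i) hp hqt hq1 hn hF (hdvd i hi) hmod hd2
    · right
      refine ⟨h, ?_⟩
      have hc := hcong i hi
      rw [h] at hc
      have hmod : (d i + 1) % p = 0 := by
        have h2' : (p : ℤ) ∣ ((d i + 1 : ℕ) : ℤ) := by
          have : ((d i + 1 : ℕ) : ℤ) = (d i : ℤ) - -1 := by push_cast; ring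
          rw [this]; exact hc
        have h3' : p ∣ d i + 1 := by exact_mod_cast h2'
        exact Nat.mod_eq_zero_of_dvd h3'
      exact hA2 p q t n (d i) hp hqt hq1 ht hn hF (hdvd i hi) hmod
  refine ⟨hcls, ?_⟩
  set XA := X.filter (fun i => i ≠ triv ∧ a i = 1) with hXA
  set XB := X.filter (fun i => a i = -1) with hXB
  have hsplit : ∀ f : ι → ℤ, ∑ i ∈ X, f i = f triv + ∑ i ∈ XA, f i + ∑ i ∈ XB, f i := by
    intro f
    have e1 : ∑ i ∈ X, f i = ∑ i ∈ X, ((if i = triv then f i else 0) +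
        (if i ≠ triv ∧ a i = 1 then f i else 0) + (if a i = -1 then f i else 0)) := by
      refine Finset.sum_congr rfl fun i hi => ?_
      by_cases hit : i = triv
      · subst hit
        have : ¬ a i = -1 := by rw [hatriv]; norm_num
        simp [this]
      · rcases ha i hi with h | h
        · have : ¬ a i = -1 := by rw [h]; norm_num
          simp [hit, h]
        · have : ¬ a i = 1 := by rw [h]; norm_num
          simp [hit, h]
    rw [e1, Finset.sum_add_distrib, Finset.sum_add_distrib, ← Finset.sum_filter, ← Finset.sum_filter,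
      ← Finset.sum_filter, Finset.filter_eq' X triv, if_pos htriv, Finset.sum_singleton]
  have hcount : (1 : ℤ) + (XA.card : ℤ) + (XB.card : ℤ) = (q : ℤ) := by
    have := hsplit (fun _ => 1)
    simp only [Finset.sum_const, nsmul_eq_mul, mul_one] at this
    rw [hcard] at this
    linarith
  have hdegA : ∑ i ∈ XA, a i * (d i : ℤ) = (XA.card : ℤ) * (1 + n * p : ℤ) := by
    rw [Finset.sum_congr rfl (g := fun _ => (1 + n * p : ℤ))]
    · rw [Finset.sum_const, nsmul_eq_mul]
    · intro i hi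
      rw [hXA, Finset.mem_filter] at hi
      rcases hcls i hi.1 hi.2.1 with h | h
      · rw [h.1, h.2]; push_cast; ring
      · rw [h.1] at hi; norm_num at hi
  have hdegB : ∑ i ∈ XB, a i * (d i : ℤ) = -((XB.card : ℤ) * ((p : ℤ) - 1)) := by
    rw [Finset.sum_congr rfl (g := fun _ => -((p : ℤ) - 1))]
    · rw [Finset.sum_const, nsmul_eq_mul]; ring
    · intro i hi
      rw [hXB, Finset.mem_filter] at hi
      have hit : i ≠ triv := by
        intro h; rw [h, hatriv] at hi; norm_num at hi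
      rcases hcls i hi.1 hit with h | h
      · rw [h.1] at hi; norm_num at hi
      · rw [h.1]
        have : (d i : ℤ) = (p : ℤ) - 1 := by
          have := h.2
          have h' : ((d i + 1 : ℕ) : ℤ) = (p : ℤ) := by exact_mod_cast this
          push_cast at h'; linarith
        rw [this]; ring
  have hdeg' : ε * (z : ℤ) = 1 + (XA.card : ℤ) * (1 + n * p : ℤ) - (XB.card : ℤ) * ((p : ℤ) - 1) := by
    rw [hdeg, hsplit, hdegA, hdegB, hatriv, hdtriv]; push_cast; ring
  obtain ⟨c', hc'⟩ := hzdvd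
  have hpos : 0 < q * (1 + n * p) := Nat.mul_pos (by omega) (by omega)
  have hc'1 : 1 ≤ c' := by
    rcases Nat.eq_zero_or_pos c' with h | h
    · rw [h, mul_zero] at hc'; omega
    · exact h
  have hc'dvd : c' ∣ q * (1 + n * p) := ⟨z, by rw [hc']; ring⟩
  have hc'Z : (z : ℤ) * (c' : ℤ) = (q : ℤ) * (1 + n * p) := by exact_mod_cast hc'.symm
  rcases hε with hε1 | hε1
  · -- `ε = 1`
    left
    rw [hε1] at hzcong hdeg'
    have hdv : (p : ℤ) ∣ (q : ℤ) * ((c' : ℤ) - 1) := by
      obtain ⟨k, hk⟩ := hzcong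
      refine ⟨(n : ℤ) * q - k * c', ?_⟩
      have : (z : ℤ) = 1 * (q : ℤ) + p * k := by linarith
      rw [this] at hc'Z
      linear_combination hc'Z
    have hdv2 : (p : ℤ) ∣ (c' : ℤ) - 1 := (hprimeZ.dvd_or_dvd hdv).resolve_left hpq
    have hmod : c' % p = 1 := by
      have h1' : ((c' - 1 : ℕ) : ℤ) = (c' : ℤ) - 1 := by
        rw [Nat.cast_sub hc'1]; simp
      have h2' : (p : ℤ) ∣ ((c' - 1 : ℕ) : ℤ) := by rw [h1']; exact hdv2
      have h3' : p ∣ c' - 1 := by exact_mod_cast h2'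
      obtain ⟨k, hk⟩ := h3'
      have : c' = p * k + 1 := by omega
      rw [this, Nat.mul_add_mod]
      exact Nat.mod_eq_of_lt (by omega)
    have hc'2 : 2 ≤ c' := by
      by_contra hcon
      have hc1 : c' = 1 := by omega
      rw [hc1, mul_one] at hc'
      have hzZ : (z : ℤ) = (q : ℤ) * (1 + n * p) := by exact_mod_cast hc'.symm
      rw [hzZ] at hdeg'
      have hA0 : (0 : ℤ) ≤ (XA.card : ℤ) := Int.natCast_nonneg _
      have hB0 : (0 : ℤ) ≤ (XB.card : ℤ) := Int.natCast_nonneg _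
      have hn0 : (1 : ℤ) ≤ (n : ℤ) := by exact_mod_cast hn
      have hp2Z : (2 : ℤ) ≤ (p : ℤ) := by exact_mod_cast hp2
      have hqe : (q : ℤ) = 1 + (XA.card : ℤ) + (XB.card : ℤ) := hcount.symm
      rw [hqe] at hdeg'
      have h1' : (0 : ℤ) ≤ (XB.card : ℤ) * ((n : ℤ) * p) :=
        mul_nonneg hB0 (mul_nonneg (by linarith) (by linarith))
      have h2' : (0 : ℤ) ≤ (XB.card : ℤ) * ((p : ℤ) - 1) := mul_nonneg hB0 (by linarith)
      have h3' : (2 : ℤ) ≤ (n : ℤ) * p := by nlinarith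
      nlinarith
    have hc'eq : c' = 1 + n * p := hA1 p q t n c' hp hqt hq1 hn hF hc'dvd hmod hc'2
    have hzq : z = q := by
      rw [hc'eq] at hc'
      have : (1 + n * p) * q = (1 + n * p) * z := by rw [mul_comm, hc']; ring
      exact (Nat.eq_of_mul_eq_mul_left (by omega) this).symm
    refine ⟨hε1, hzq, ?_⟩
    have e1 : (XA.card : ℤ) * ((n : ℤ) * p) = (XB.card : ℤ) * p := by
      rw [hzq] at hdeg'
      linear_combination -hdeg' - hcount
    have e2 : (XA.card : ℤ) * (n : ℤ) = (XB.card : ℤ) := by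
      have : ((XA.card : ℤ) * (n : ℤ) - (XB.card : ℤ)) * p = 0 := by linear_combination e1
      rcases mul_eq_zero.mp this with h | h
      · linarith
      · exact absurd h hp0
    have e3 : ((XA.card * (n + 1) + 1 : ℕ) : ℤ) = (q : ℤ) := by
      push_cast
      linarith
    exact_mod_cast e3
  · -- `ε = -1`
    right
    rw [hε1] at hzcong hdeg'
    have hzq : (p : ℤ) ∣ (z : ℤ) + q := by
      have : (z : ℤ) + q = (z : ℤ) - -1 * (q : ℤ) := by ring
      rw [this]; exact hzcong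
    have hdv : (p : ℤ) ∣ (q : ℤ) * ((c' : ℤ) + 1) := by
      obtain ⟨k, hk⟩ := hzq
      refine ⟨k * c' - (n : ℤ) * q, ?_⟩
      have : (z : ℤ) = p * k - q := by linarith
      rw [this] at hc'Z
      linear_combination -hc'Z
    have hdv2 : (p : ℤ) ∣ (c' : ℤ) + 1 := (hprimeZ.dvd_or_dvd hdv).resolve_left hpq
    have hmod : (c' + 1) % p = 0 := by
      have h2' : (p : ℤ) ∣ ((c' + 1 : ℕ) : ℤ) := by push_cast; exact hdv2
      have h3' : p ∣ c' + 1 := by exact_mod_cast h2'
      exact Nat.mod_eq_zero_of_dvd h3'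
    have hc'eq : c' + 1 = p := hA2 p q t n c' hp hqt hq1 ht hn hF hc'dvd hmod
    have hzt : z * t = 1 + n * p := by
      have hc'' : c' = q * t := by omega
      rw [hc''] at hc'
      have : q * (1 + n * p) = q * (z * t) := by rw [hc']; ring
      exact (Nat.eq_of_mul_eq_mul_left (by omega) this).symm
    have hztZ : (z : ℤ) * t = 1 + n * p := by exact_mod_cast hzt
    obtain ⟨v, hv⟩ : p ∣ z + q := by exact_mod_cast hzq
    have hv1 : 1 ≤ v := by
      rcases Nat.eq_zero_or_pos v with h | h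
      · rw [h, mul_zero] at hv; omega
      · exact h
    have hvZ : (z : ℤ) + q = p * v := by exact_mod_cast hv
    refine ⟨hε1, v, hv1, by rw [hv]; ring, ?_, ?_⟩
    · -- `n + 1 = v t`
      have e : ((n : ℤ) + 1 - v * t) * p = 0 := by
        have hz' : (z : ℤ) = p * v - q := by linarith
        rw [hz'] at hztZ
        rw [hpZ] at hztZ ⊢
        linear_combination -hztZ
      rcases mul_eq_zero.mp e with h5 | h5
      · have : ((n + 1 : ℕ) : ℤ) = ((v * t : ℕ) : ℤ) := by push_cast; linarith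
        exact_mod_cast this
      · exact absurd h5 hp0
    · -- `v (1 + c t) + 1 = q`
      have hnv : (n : ℤ) + 1 = v * t := by
        have e : ((n : ℤ) + 1 - v * t) * p = 0 := by
          have hz' : (z : ℤ) = p * v - q := by linarith
          rw [hz'] at hztZ
          rw [hpZ] at hztZ ⊢
          linear_combination -hztZ
        rcases mul_eq_zero.mp e with h5 | h5
        · linarith
        · exact absurd h5 hp0
      have e2 : ((v : ℤ) - ((XB.card : ℤ) - (XA.card : ℤ) * n)) * p = 0 := by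
        have hz' : (z : ℤ) = p * v - q := by linarith
        rw [hz'] at hdeg'
        linear_combination -hdeg' - hcount
      have e3 : (v : ℤ) = (XB.card : ℤ) - (XA.card : ℤ) * n := by
        rcases mul_eq_zero.mp e2 with h5 | h5
        · linarith
        · exact absurd h5 hp0
      have e4 : ((v * (1 + XA.card * t) + 1 : ℕ) : ℤ) = (q : ℤ) := by
        push_cast
        have hn' : (n : ℤ) = v * t - 1 := by linarith
        rw [hn'] at e3
        have hB : (XB.card : ℤ) = (q : ℤ) - 1 - (XA.card : ℤ) := by linarith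
        rw [hB] at e3
        linear_combination e3
      exact_mod_cast e4

end Cfsg.Agent.Lib.Helper18.BRF
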