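import Mathlib
import Cfsg.Prelude.Def_CaseTheorems
import Cfsg.Agent.Lib.helper7.BR.Defs
import Cfsg.Agent.Lib.Helper18.BRF.Defs
import Cfsg.Agent.Lib.Helper19.BRFA1F
import Cfsg.Agent.Lib.Helper24.BRFCOREFcore

set_option autoImplicit false
set_option linter.unusedVariables false
set_option linter.unusedSectionVars false

namespace Cfsg.Agent.Lib.Helper18.BRF

open Classical
open Cfsg.Agent.Lib.Helper25
open Cfsg.Agent.Lib.helper7.BR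

universe u

theorem brfcoref_A1_of : brfcoref_A1 :=
  fun p q t n d hp hqt hq hn hF hd h1 h2 => af_plus p q t n d hp hqt hq hn hF hd h1 h2

theorem brfcoref_A2_of : brfcoref_A2 := fun p q t n d hp hqt hq ht hn hF hd h1 => by
  rcases af_minus p q t n d hp hqt hq hn hF hd h1 with h | ⟨h, _⟩
  · exact h
  · omega

theorem arith_coreF {ι : Type*} (X : Finset ι) (triv : ι) (htriv : triv ∈ X) (a : ι → ℤ) (d : ι → ℕ)
    (p q n t z : ℕ) (ε : ℤ) (hp : p.Prime) (hqt : q * t = p - 1) (hq : 2 ≤ q) (ht : 2 ≤ t)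
    (hn : 1 ≤ n) (hF : ¬ FF p n)
    (hcard : X.card = q)
    (ha : ∀ i ∈ X, a i = 1 ∨ a i = -1) (hatriv : a triv = 1) (hdtriv : d triv = 1)
    (hdvd : ∀ i ∈ X, d i ∣ q * (1 + n * p))
    (hcong : ∀ i ∈ X, (p : ℤ) ∣ (d i : ℤ) - a i)
    (hge : ∀ i ∈ X, i ≠ triv → 2 ≤ d i)
    (hε : ε = 1 ∨ ε = -1) (hz1 : 1 ≤ z) (hzdvd : z ∣ q * (1 + n * p))
    (hzcong : (p : ℤ) ∣ (z : ℤ) - ε * (q : ℤ))
    (hdeg : ε * (z : ℤ) = ∑ i ∈ X, a i * (d i : ℤ)) :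
    (∀ i ∈ X, i ≠ triv → (a i = 1 ∧ d i = 1 + n * p) ∨ (a i = -1 ∧ d i + 1 = p)) ∧
    ((ε = 1 ∧ z = q ∧ (X.filter (fun i => i ≠ triv ∧ a i = 1)).card * (n + 1) + 1 = q) ∨
     (ε = -1 ∧ ∃ v : ℕ, 1 ≤ v ∧ z + q = v * p ∧ n + 1 = v * t ∧
        v * (1 + (X.filter (fun i => i ≠ triv ∧ a i = 1)).card * t) + 1 = q)) :=
  brfcoref_core brfcoref_A1_of brfcoref_A2_of X triv htriv a d p q n t z ε hp hqt hq ht hn hF hcard ha
    hatriv hdtriv hdvd hcong hge hε hz1 hzdvd hzcong hdeg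

end Cfsg.Agent.Lib.Helper18.BRF
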