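import Mathlib
import Cfsg.Agent.Lib.helper7.BR.Defs
import Cfsg.Agent.Lib.helper7.BR.FRONT
import Cfsg.Agent.Lib.helper15.BRBRM
import Cfsg.Agent.Lib.Helper13.B43.Defs
import Cfsg.Agent.Lib.Helper13.B43.FINAL
import Cfsg.Agent.Lib.Helper22.B43CASEA
import Cfsg.Agent.Lib.Helper18.BRF.Defs
import Cfsg.Agent.Lib.Helper24.BRFCOREFcore

set_option autoImplicit false
set_option linter.unusedVariables false
set_option linter.unusedSectionVars false
set_option linter.style.haveILetI false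

namespace Cfsg.Agent.Lib.Helper18.BRF

open Classical
open Cfsg.Agent.Lib.Helper25 Cfsg.Agent.Lib.helper2 Cfsg.Agent.Lib.helper15.BH
open Cfsg.Agent.Lib.helper7.BR Cfsg.Agent.Lib.Helper13.B43

universe u

variable {G : Type u} [Group G] [Fintype G] {p : ℕ} [Fact p.Prime]

theorem brfmidf_core (hA1 : brfcoref_A1) (hA2 : brfcoref_A2) (hperf : commutator G = ⊤) (P : Sylow p G)
    (hP : Nat.card ↥(P : Subgroup G) = p) (hcen : cen P = (P : Subgroup G)) (q n : ℕ)
    (hrel : (cen P).relIndex (nrm P) = q) (hq2 : 2 ≤ q) (hqlt : q + 1 < p) (hqdvd : q ∣ p - 1)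
    (hcN : Nat.card ↥(nrm P) = p * q) (hidx : (nrm P).index = 1 + n * p)
    (hcidx : (cen P).index = q * (1 + n * p)) (hcG : Nat.card G = p * q * (1 + n * p))
    (hn : 1 ≤ n) (hF : ¬ FF p n) : n = 1 ∨ q * (n + 1) = p - 1 := by
  have hpp := (Fact.out : p.Prime)
  have hp2 := hpp.two_le
  haveI : Fintype (Cfsg.IrrCharacter G) := Fintype.ofFinite _
  obtain ⟨X, Y, a, ε, hXcard, hYne, htrivX, hXa, hε, hYsum, hYval, hYdeg⟩ :=
    pb_values P hP q hrel (by omega) hqlt
  obtain ⟨t, ht⟩ := hqdvd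
  have hqt : q * t = p - 1 := ht.symm
  have ht2 : 2 ≤ t := by
    by_contra hcon
    have : t ≤ 1 := by omega
    have : q * t ≤ q * 1 := Nat.mul_le_mul_left q this
    omega
  obtain ⟨x₀, hx₀, hx₀1⟩ := brfront_exists P hP
  have hsing : ∀ x ∈ (P : Subgroup G), x ≠ 1 → p ∣ orderOf x := fun x hx hx1 =>
    dvd_orderOf_of_mem P x hx hx1
  have hXval : ∀ χ ∈ X, ∀ x ∈ (P : Subgroup G), x ≠ 1 → (χ : G → ℂ) x = (a χ : ℂ) :=
    fun χ hχ x hx hx1 => (hXa χ hχ).2 x (hsing x hx hx1)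
  have hYval' : ∀ x ∈ (P : Subgroup G), x ≠ 1 → ∑ η ∈ Y, (η : G → ℂ) x = -(ε : ℂ) :=
    fun x hx hx1 => hYval x (hsing x hx hx1)
  have hatriv : a (trivIrr G) = 1 := by
    have := hXval (trivIrr G) htrivX x₀ hx₀ hx₀1
    rw [trivIrr_apply] at this
    have h' : ((1 : ℤ) : ℂ) = ((a (trivIrr G) : ℤ) : ℂ) := by rw [← this]; simp
    exact_mod_cast h'.symm
  have hdtriv : brfrontDeg (trivIrr G) = 1 := by
    have := (brfrontDeg_spec (trivIrr G)).2
    rw [trivIrr_apply] at this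
    exact_mod_cast this.symm
  obtain ⟨η₀, hη₀⟩ := hYne
  set z := brfrontDeg η₀ with hz
  have hz1 : 1 ≤ z := (brfrontDeg_spec η₀).1
  have hzall : ∀ η ∈ Y, (η : G → ℂ) 1 = (z : ℂ) := by
    intro η hη
    have h1 := hYdeg η hη
    have h2 := hYdeg η₀ hη₀
    rw [← h2] at h1
    have hε0 : (ε : ℂ) ≠ 0 := by
      rcases hε with h | h <;> rw [h] <;> norm_num
    have := mul_left_cancel₀ hε0 h1
    rw [this, (brfrontDeg_spec η₀).2]
  have hdisjXY : ∀ χ ∈ X, χ ∉ Y := by
    intro χ hχ hχY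
    exact not_const_of_sum P hP (χ : G → ℂ) (a χ) (hXa χ hχ).1 (hXval χ hχ) ε hε q hqlt
      (hYsum χ hχY)
  have hcardY : Y.card = t := by
    have := card_Y_mul P hP Y ε hε q hYsum hYval'
    rw [← hqt, mul_comm] at this
    exact Nat.eq_of_mul_eq_mul_left (by omega) this
  have hdvdX : ∀ χ ∈ X, brfrontDeg χ ∣ q * (1 + n * p) := by
    intro χ hχ
    rw [← hcidx]
    exact deg_dvd_of_pm_one P hP χ (a χ) (hXa χ hχ).1 x₀ hx₀ hx₀1 (hXval χ hχ x₀ hx₀ hx₀1) _
      (brfrontDeg_spec χ).2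
  have hcongX : ∀ χ ∈ X, (p : ℤ) ∣ (brfrontDeg χ : ℤ) - a χ := by
    intro χ hχ
    exact deg_congr_of_const P hP (χ : G → ℂ) (isCharacter_of_irr χ) (a χ) (hXval χ hχ) _
      (brfrontDeg_spec χ).2
  have hgeX : ∀ χ ∈ X, χ ≠ trivIrr G → 2 ≤ brfrontDeg χ := by
    intro χ hχ hne
    obtain ⟨d, hd2, hd⟩ := deg_ge_two hperf χ hne
    have := (brfrontDeg_spec χ).2
    rw [hd] at this
    have : d = brfrontDeg χ := by exact_mod_cast this
    omega
  have hzdvd : z ∣ q * (1 + n * p) := by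
    rw [← hcidx]
    exact exc_deg_dvd P hP Y z hzall ε hε x₀ hx₀ hx₀1 (hYval' x₀ hx₀ hx₀1)
  have hzcong : (p : ℤ) ∣ (z : ℤ) - ε * (q : ℤ) :=
    deg_congr_of_sum P hP (η₀ : G → ℂ) (isCharacter_of_irr η₀) ε q z (hzall η₀ hη₀) (hYsum η₀ hη₀)
  have hdeg : ε * (z : ℤ) = ∑ χ ∈ X, a χ * (brfrontDeg χ : ℤ) := by
    have h1 := hYdeg η₀ hη₀
    rw [hzall η₀ hη₀] at h1
    have h2 : ∑ χ ∈ X, (a χ : ℂ) * (χ : G → ℂ) 1 =
        ((∑ χ ∈ X, a χ * (brfrontDeg χ : ℤ) : ℤ) : ℂ) := by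
      push_cast
      refine Finset.sum_congr rfl fun χ _ => ?_
      rw [(brfrontDeg_spec χ).2]
    rw [h2] at h1
    exact_mod_cast h1
  obtain ⟨hcls, hcase⟩ := brfcoref_core hA1 hA2 X (trivIrr G) htrivX a brfrontDeg p q n t z ε hpp hqt hq2 ht2 hn
    hF hXcard (fun χ hχ => (hXa χ hχ).1) hatriv hdtriv hdvdX hcongX hgeX hε hz1 hzdvd hzcong hdeg
  set Xp := X.filter (fun χ => χ ≠ trivIrr G ∧ a χ = 1) with hXp
  set Xm := X.filter (fun χ => a χ = -1) with hXm
  have hdegc : ∀ χ : Cfsg.IrrCharacter G, ∀ m : ℕ, brfrontDeg χ = m → (χ : G → ℂ) 1 = (m : ℂ) := by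
    intro χ m hm
    rw [← hm]; exact (brfrontDeg_spec χ).2
  have htn : trivIrr G ∉ Xp ∧ trivIrr G ∉ Xm ∧ trivIrr G ∉ Y := by
    refine ⟨?_, ?_, hdisjXY _ htrivX⟩
    · rw [hXp, Finset.mem_filter]; tauto
    · rw [hXm, Finset.mem_filter, hatriv]; norm_num
  have hdisj3 : Disjoint Xp Xm ∧ Disjoint Xp Y ∧ Disjoint Xm Y := by
    refine ⟨?_, ?_, ?_⟩
    · rw [Finset.disjoint_left]
      intro χ h1 h2
      rw [hXp, Finset.mem_filter] at h1
      rw [hXm, Finset.mem_filter] at h2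
      rw [h1.2.2] at h2
      norm_num at h2
    · rw [Finset.disjoint_left]
      intro χ h1
      rw [hXp, Finset.mem_filter] at h1
      exact hdisjXY χ h1.1
    · rw [Finset.disjoint_left]
      intro χ h1
      rw [hXm, Finset.mem_filter] at h1
      exact hdisjXY χ h1.1
  have hcardX : Xp.card + Xm.card + 1 = q := by
    have h1 : X = insert (trivIrr G) (Xp ∪ Xm) := by
      ext χ
      rw [Finset.mem_insert, Finset.mem_union, hXp, hXm, Finset.mem_filter, Finset.mem_filter]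
      constructor
      · intro hχ
        by_cases h : χ = trivIrr G
        · exact Or.inl h
        · rcases (hXa χ hχ).1 with h' | h'
          · exact Or.inr (Or.inl ⟨hχ, h, h'⟩)
          · exact Or.inr (Or.inr ⟨hχ, h'⟩)
      · rintro (h | h | h)
        · rw [h]; exact htrivX
        · exact h.1
        · exact h.1
    have h2 : trivIrr G ∉ Xp ∪ Xm := by
      rw [Finset.mem_union]
      rintro (h | h)
      · exact htn.1 h
      · exact htn.2.1 h
    rw [← hXcard, h1, Finset.card_insert_of_notMem h2, Finset.card_union_of_disjoint hdisj3.1]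
  have hdegXp : ∀ χ ∈ Xp, (χ : G → ℂ) 1 = ((1 + n * p : ℕ) : ℂ) := by
    intro χ hχ
    rw [hXp, Finset.mem_filter] at hχ
    rcases hcls χ hχ.1 hχ.2.1 with h | h
    · exact hdegc χ _ h.2
    · rw [hχ.2.2] at h; norm_num at h
  have hvalXp : ∀ χ ∈ Xp, ∀ x ∈ (P : Subgroup G), x ≠ 1 → (χ : G → ℂ) x = 1 := by
    intro χ hχ x hx hx1
    rw [hXp, Finset.mem_filter] at hχ
    rw [hXval χ hχ.1 x hx hx1, hχ.2.2]; simp
  have hdegXm : ∀ χ ∈ Xm, (χ : G → ℂ) 1 = ((p - 1 : ℕ) : ℂ) := by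
    intro χ hχ
    rw [hXm, Finset.mem_filter] at hχ
    have hne : χ ≠ trivIrr G := by
      intro h; rw [h, hatriv] at hχ; norm_num at hχ
    rcases hcls χ hχ.1 hne with h | h
    · rw [hχ.2] at h; norm_num at h
    · exact hdegc χ (p - 1) (Nat.eq_sub_of_add_eq h.2)
  have hvalXm : ∀ χ ∈ Xm, ∀ x ∈ (P : Subgroup G), x ≠ 1 → (χ : G → ℂ) x = -1 := by
    intro χ hχ x hx hx1
    rw [hXm, Finset.mem_filter] at hχ
    rw [hXval χ hχ.1 x hx hx1, hχ.2]; simp
  rcases hcase with ⟨hε1, hzq, hcount⟩ | ⟨hε1, v, hv1, hzv, hnv, hcount⟩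
  · -- the branch `ε = 1`
    left
    by_cases ht3 : 3 ≤ t
    · -- the small-degree contradiction
      exfalso
      have hsmall : 2 * z + 1 < p := by
        rw [hzq]
        have : q * 3 ≤ q * t := Nat.mul_le_mul_left q ht3
        omega
      have hex : ∃ x ∈ (P : Subgroup G), (η₀ : G → ℂ) x ≠ (η₀ : G → ℂ) 1 := by
        by_contra hcon
        push Not at hcon
        have h1 := hYsum η₀ hη₀
        rw [hε1, hzall η₀ hη₀, hzq] at h1
        have h2 : ∑ x : ↥(P : Subgroup G), (η₀ : G → ℂ) (x : G) =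
            ∑ x : ↥(P : Subgroup G), (q : ℂ) := by
          refine Finset.sum_congr rfl fun x _ => ?_
          rw [hcon x x.2, hzall η₀ hη₀, hzq]
        rw [h2, Finset.sum_const, Finset.card_univ, ← Nat.card_eq_fintype_card, hP] at h1
        have h3 : ((p * q : ℕ) : ℂ) = 0 := by
          push_cast
          rw [nsmul_eq_mul] at h1
          rw [h1]; push_cast; ring
        have h4 : p * q = 0 := by exact_mod_cast h3
        have : 0 < p * q := Nat.mul_pos (by omega) (by omega)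
        omega
      obtain ⟨x, hx, hne⟩ := hex
      exact small_degree_false hperf P hP η₀ z (hzall η₀ hη₀) hsmall x hx hne
    · have ht2' : t = 2 := by omega
      have hqp : 2 * q + 1 = p := by rw [ht2'] at hqt; omega
      refine case_plus P hP hcen q n hq2 hqp hn Xp Xm Y ?_
      exact
        { triv_notMem := htn
          disj := hdisj3
          card_X := hcardX
          card_Y := by rw [hcardY, ht2']
          deg_Xp := hdegXp
          val_Xp := hvalXp
          deg_Xm := hdegXm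
          val_Xm := hvalXm
          deg_Y := by
            intro θ hθ
            rw [hzall θ hθ, hzq]
          sum_Y := by
            intro θ hθ
            rw [hYsum θ hθ, hzall θ hθ, hε1, hzq]
            push_cast; ring
          sum_over_Y := by
            intro x hx hx1
            rw [hYval' x hx hx1, hε1]; simp }
  · -- the branch `ε = -1`
    right
    have hS : Setting2 p P q t n :=
      { prime := hpp
        cardP := hP
        cent := hcen
        cardN := hcN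
        index := hidx
        qt := hqt
        ht := ht2
        hq := hq2
        hn := hn }
    have hzeq : z = v * p - q := by omega
    have hD : CharData2 p P q t n v Xp Xm Y :=
      { triv_notMem := htn
        disj := hdisj3
        card_X := hcardX
        card_Y := hcardY
        hv := hv1
        nv := hnv
        count := by rw [hXp]; convert hcount
        deg_Xp := hdegXp
        val_Xp := hvalXp
        deg_Xm := hdegXm
        val_Xm := hvalXm
        deg_Y := by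
          intro θ hθ
          rw [hzall θ hθ, hzeq]
        sum_Y := by
          intro θ hθ
          rw [hYsum θ hθ, hzall θ hθ, hε1]
          have : ((v * p : ℕ) : ℂ) = (z : ℂ) + (q : ℂ) := by
            rw [← hzv]; push_cast; ring
          rw [this]; push_cast; ring
        sum_over_Y := by
          intro x hx hx1
          rw [hYval' x hx hx1, hε1]; simp }
    have hv : v = 1 := v_eq_one hS hD
    rw [hnv, hv, one_mul, hqt]


theorem brfmidneg_core (hA1 : brfcoref_A1) (hA2 : brfcoref_A2) (hperf : commutator G = ⊤) (P : Sylow p G)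
    (hP : Nat.card ↥(P : Subgroup G) = p)
    (q n : ℕ) (hrel : (cen P).relIndex (nrm P) = q) (hq2 : 2 ≤ q) (hqlt : q + 1 < p)
    (hqdvd : q ∣ p - 1) (hcidx : (cen P).index = q * (1 + n * p)) (hn : 1 ≤ n) (hF : ¬ FF p n) :
    ∃ χ : Cfsg.IrrCharacter G, (χ : G → ℂ) 1 = (p : ℂ) - 1 ∧
      ∀ g : G, p ∣ orderOf g → (χ : G → ℂ) g = -1 := by
  have hpp := (Fact.out : p.Prime)
  have hp2 := hpp.two_le
  haveI : Fintype (Cfsg.IrrCharacter G) := Fintype.ofFinite _
  obtain ⟨X, Y, a, ε, hXcard, hYne, htrivX, hXa, hε, hYsum, hYval, hYdeg⟩ :=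
    pb_values P hP q hrel (by omega) hqlt
  obtain ⟨t, ht⟩ := hqdvd
  have hqt : q * t = p - 1 := ht.symm
  have ht2 : 2 ≤ t := by
    by_contra hcon
    have : t ≤ 1 := by omega
    have : q * t ≤ q * 1 := Nat.mul_le_mul_left q this
    omega
  obtain ⟨x₀, hx₀, hx₀1⟩ := brfront_exists P hP
  have hsing : ∀ x ∈ (P : Subgroup G), x ≠ 1 → p ∣ orderOf x := fun x hx hx1 =>
    dvd_orderOf_of_mem P x hx hx1
  have hXval : ∀ χ ∈ X, ∀ x ∈ (P : Subgroup G), x ≠ 1 → (χ : G → ℂ) x = (a χ : ℂ) :=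
    fun χ hχ x hx hx1 => (hXa χ hχ).2 x (hsing x hx hx1)
  have hYval' : ∀ x ∈ (P : Subgroup G), x ≠ 1 → ∑ η ∈ Y, (η : G → ℂ) x = -(ε : ℂ) :=
    fun x hx hx1 => hYval x (hsing x hx hx1)
  have hatriv : a (trivIrr G) = 1 := by
    have := hXval (trivIrr G) htrivX x₀ hx₀ hx₀1
    rw [trivIrr_apply] at this
    have h' : ((1 : ℤ) : ℂ) = ((a (trivIrr G) : ℤ) : ℂ) := by rw [← this]; simp
    exact_mod_cast h'.symm
  have hdtriv : brfrontDeg (trivIrr G) = 1 := by
    have := (brfrontDeg_spec (trivIrr G)).2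
    rw [trivIrr_apply] at this
    exact_mod_cast this.symm
  obtain ⟨η₀, hη₀⟩ := hYne
  set z := brfrontDeg η₀ with hz
  have hz1 : 1 ≤ z := (brfrontDeg_spec η₀).1
  have hzall : ∀ η ∈ Y, (η : G → ℂ) 1 = (z : ℂ) := by
    intro η hη
    have h1 := hYdeg η hη
    have h2 := hYdeg η₀ hη₀
    rw [← h2] at h1
    have hε0 : (ε : ℂ) ≠ 0 := by
      rcases hε with h | h <;> rw [h] <;> norm_num
    have := mul_left_cancel₀ hε0 h1
    rw [this, (brfrontDeg_spec η₀).2]
  have hdisjXY : ∀ χ ∈ X, χ ∉ Y := by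
    intro χ hχ hχY
    exact not_const_of_sum P hP (χ : G → ℂ) (a χ) (hXa χ hχ).1 (hXval χ hχ) ε hε q hqlt
      (hYsum χ hχY)
  have hcardY : Y.card = t := by
    have := card_Y_mul P hP Y ε hε q hYsum hYval'
    rw [← hqt, mul_comm] at this
    exact Nat.eq_of_mul_eq_mul_left (by omega) this
  have hdvdX : ∀ χ ∈ X, brfrontDeg χ ∣ q * (1 + n * p) := by
    intro χ hχ
    rw [← hcidx]
    exact deg_dvd_of_pm_one P hP χ (a χ) (hXa χ hχ).1 x₀ hx₀ hx₀1 (hXval χ hχ x₀ hx₀ hx₀1) _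
      (brfrontDeg_spec χ).2
  have hcongX : ∀ χ ∈ X, (p : ℤ) ∣ (brfrontDeg χ : ℤ) - a χ := by
    intro χ hχ
    exact deg_congr_of_const P hP (χ : G → ℂ) (isCharacter_of_irr χ) (a χ) (hXval χ hχ) _
      (brfrontDeg_spec χ).2
  have hgeX : ∀ χ ∈ X, χ ≠ trivIrr G → 2 ≤ brfrontDeg χ := by
    intro χ hχ hne
    obtain ⟨d, hd2, hd⟩ := deg_ge_two hperf χ hne
    have := (brfrontDeg_spec χ).2
    rw [hd] at this
    have : d = brfrontDeg χ := by exact_mod_cast this
    omega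
  have hzdvd : z ∣ q * (1 + n * p) := by
    rw [← hcidx]
    exact exc_deg_dvd P hP Y z hzall ε hε x₀ hx₀ hx₀1 (hYval' x₀ hx₀ hx₀1)
  have hzcong : (p : ℤ) ∣ (z : ℤ) - ε * (q : ℤ) :=
    deg_congr_of_sum P hP (η₀ : G → ℂ) (isCharacter_of_irr η₀) ε q z (hzall η₀ hη₀) (hYsum η₀ hη₀)
  have hdeg : ε * (z : ℤ) = ∑ χ ∈ X, a χ * (brfrontDeg χ : ℤ) := by
    have h1 := hYdeg η₀ hη₀
    rw [hzall η₀ hη₀] at h1
    have h2 : ∑ χ ∈ X, (a χ : ℂ) * (χ : G → ℂ) 1 =
        ((∑ χ ∈ X, a χ * (brfrontDeg χ : ℤ) : ℤ) : ℂ) := by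
      push_cast
      refine Finset.sum_congr rfl fun χ _ => ?_
      rw [(brfrontDeg_spec χ).2]
    rw [h2] at h1
    exact_mod_cast h1
  obtain ⟨hcls, hcase⟩ := brfcoref_core hA1 hA2 X (trivIrr G) htrivX a brfrontDeg p q n t z ε hpp hqt hq2 ht2 hn
    hF hXcard (fun χ hχ => (hXa χ hχ).1) hatriv hdtriv hdvdX hcongX hgeX hε hz1 hzdvd hzcong hdeg
  set Xp := X.filter (fun χ => χ ≠ trivIrr G ∧ a χ = 1) with hXp
  set Xm := X.filter (fun χ => a χ = -1) with hXm
  have hdegc : ∀ χ : Cfsg.IrrCharacter G, ∀ m : ℕ, brfrontDeg χ = m → (χ : G → ℂ) 1 = (m : ℂ) := by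
    intro χ m hm
    rw [← hm]; exact (brfrontDeg_spec χ).2
  have htn : trivIrr G ∉ Xp ∧ trivIrr G ∉ Xm ∧ trivIrr G ∉ Y := by
    refine ⟨?_, ?_, hdisjXY _ htrivX⟩
    · rw [hXp, Finset.mem_filter]; tauto
    · rw [hXm, Finset.mem_filter, hatriv]; norm_num
  have hdisj3 : Disjoint Xp Xm ∧ Disjoint Xp Y ∧ Disjoint Xm Y := by
    refine ⟨?_, ?_, ?_⟩
    · rw [Finset.disjoint_left]
      intro χ h1 h2
      rw [hXp, Finset.mem_filter] at h1
      rw [hXm, Finset.mem_filter] at h2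
      rw [h1.2.2] at h2
      norm_num at h2
    · rw [Finset.disjoint_left]
      intro χ h1
      rw [hXp, Finset.mem_filter] at h1
      exact hdisjXY χ h1.1
    · rw [Finset.disjoint_left]
      intro χ h1
      rw [hXm, Finset.mem_filter] at h1
      exact hdisjXY χ h1.1
  have hcardX : Xp.card + Xm.card + 1 = q := by
    have h1 : X = insert (trivIrr G) (Xp ∪ Xm) := by
      ext χ
      rw [Finset.mem_insert, Finset.mem_union, hXp, hXm, Finset.mem_filter, Finset.mem_filter]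
      constructor
      · intro hχ
        by_cases h : χ = trivIrr G
        · exact Or.inl h
        · rcases (hXa χ hχ).1 with h' | h'
          · exact Or.inr (Or.inl ⟨hχ, h, h'⟩)
          · exact Or.inr (Or.inr ⟨hχ, h'⟩)
      · rintro (h | h | h)
        · rw [h]; exact htrivX
        · exact h.1
        · exact h.1
    have h2 : trivIrr G ∉ Xp ∪ Xm := by
      rw [Finset.mem_union]
      rintro (h | h)
      · exact htn.1 h
      · exact htn.2.1 h
    rw [← hXcard, h1, Finset.card_insert_of_notMem h2, Finset.card_union_of_disjoint hdisj3.1]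
  have hXm1 : 1 ≤ Xm.card := by
    rcases hcase with ⟨_, _, hcount⟩ | ⟨_, v, hv1, _, _, hcount⟩
    · have hcc : Xp.card * (n + 1) + 1 = q := by rw [hXp]; convert hcount
      have h2 : Xp.card * 2 ≤ Xp.card * (n + 1) := Nat.mul_le_mul_left _ (by omega)
      omega
    · have hcc : v * (1 + Xp.card * t) + 1 = q := by rw [hXp]; convert hcount
      have h2 : 1 * (1 + Xp.card * t) ≤ v * (1 + Xp.card * t) := Nat.mul_le_mul_right _ hv1
      have h3 : Xp.card * 2 ≤ Xp.card * t := Nat.mul_le_mul_left _ ht2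
      omega
  obtain ⟨χ, hχm⟩ := Finset.card_pos.mp hXm1
  rw [hXm, Finset.mem_filter] at hχm
  have hne : χ ≠ trivIrr G := by
    intro h; rw [h, hatriv] at hχm; norm_num at hχm
  refine ⟨χ, ?_, ?_⟩
  · rcases hcls χ hχm.1 hne with h | h
    · rw [hχm.2] at h; norm_num at h
    · have h1 := hdegc χ (p - 1) (Nat.eq_sub_of_add_eq h.2)
      rw [h1, Nat.cast_sub (by omega)]
      simp
  · intro g hg
    rw [(hXa χ hχm.1).2 g hg, hχm.2]
    simp

end Cfsg.Agent.Lib.Helper18.BRF
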