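import Mathlib
import Cfsg.Prelude.Def_CaseTheorems
import Cfsg.Agent.Lib.helper7.BR.Defs
import Cfsg.Agent.Lib.Helper18.BRF.Defs
import Cfsg.Agent.Lib.Helper24.BRFCOREF
import Cfsg.Agent.Lib.Helper24.BRFMIDcore

set_option autoImplicit false
set_option linter.unusedVariables false
set_option linter.unusedSectionVars false

namespace Cfsg.Agent.Lib.Helper18.BRF

open Classical
open Cfsg.Agent.Lib.Helper25
open Cfsg.Agent.Lib.helper7.BR

universe u

section main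

variable {G : Type u} [Group G] [Fintype G] {p : ℕ} [Fact p.Prime]

theorem mid_neg (hperf : commutator G = ⊤) (P : Sylow p G) (hP : Nat.card ↥(P : Subgroup G) = p)
    (q n : ℕ) (hrel : (cen P).relIndex (nrm P) = q) (hq2 : 2 ≤ q) (hqlt : q + 1 < p)
    (hqdvd : q ∣ p - 1) (hcidx : (cen P).index = q * (1 + n * p)) (hn : 1 ≤ n) (hF : ¬ FF p n) :
    ∃ χ : Cfsg.IrrCharacter G, (χ : G → ℂ) 1 = (p : ℂ) - 1 ∧
      ∀ g : G, p ∣ orderOf g → (χ : G → ℂ) g = -1 :=
  brfmidneg_core brfcoref_A1_of brfcoref_A2_of hperf P hP q n hrel hq2 hqlt hqdvd hcidx hn hF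

theorem mid_caseF (hperf : commutator G = ⊤) (P : Sylow p G)
    (hP : Nat.card ↥(P : Subgroup G) = p) (hcen : cen P = (P : Subgroup G)) (q n : ℕ)
    (hrel : (cen P).relIndex (nrm P) = q) (hq2 : 2 ≤ q) (hqlt : q + 1 < p) (hqdvd : q ∣ p - 1)
    (hcN : Nat.card ↥(nrm P) = p * q) (hidx : (nrm P).index = 1 + n * p)
    (hcidx : (cen P).index = q * (1 + n * p)) (hcG : Nat.card G = p * q * (1 + n * p))
    (hn : 1 ≤ n) (hF : ¬ FF p n) : n = 1 ∨ q * (n + 1) = p - 1 :=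
  brfmidf_core brfcoref_A1_of brfcoref_A2_of hperf P hP hcen q n hrel hq2 hqlt hqdvd hcN hidx hcidx hcG
    hn hF

end main

end Cfsg.Agent.Lib.Helper18.BRF
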