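import Mathlib
import Cfsg.Agent.Lib.Helper16.O5F.Defs

set_option autoImplicit false

namespace Cfsg.Agent.Lib.Helper24.O5F

open Equiv Matrix Cfsg.Agent.Lib.Helper5.OSyl
open Cfsg.Agent.Lib.Helper16.O5F

set_option maxRecDepth 1000000 in
theorem DL_mul : ∀ a ∈ DL, ∀ b ∈ DL, a * b ∈ DL := by decide +kernel

set_option maxRecDepth 1000000 in
theorem DL_inv : ∀ a ∈ DL, a⁻¹ ∈ DL := by decide +kernel

set_option maxRecDepth 1000000 in
theorem DL_sign : ∀ a ∈ DL, Perm.sign a = 1 := by decide +kernel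

set_option maxRecDepth 1000000 in
theorem DL_nodup : DL.Nodup := by decide +kernel

theorem pa_mem_V4 : pa ∈ V4 := Subgroup.subset_closure (by simp)

theorem pb_mem_V4 : pb ∈ V4 := Subgroup.subset_closure (by simp)

theorem mem_V4_iff (σ : Perm (Fin 5)) : σ ∈ V4 ↔ σ ∈ DL := by
  constructor
  · intro h
    unfold V4 at h
    induction h using Subgroup.closure_induction with
    | mem x hx =>
      rcases hx with rfl | rfl
      · simp [DL]
      · simp [DL]
    | one => simp [DL]
    | mul x y _ _ hx hy => exact DL_mul x hx y hy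
    | inv x _ hx => exact DL_inv x hx
  · intro h
    have ha := pa_mem_V4
    have hb := pb_mem_V4
    simp only [DL, List.mem_cons, List.not_mem_nil, or_false] at h
    rcases h with rfl | rfl | rfl | rfl
    · exact V4.one_mem
    · exact ha
    · exact hb
    · exact V4.mul_mem ha hb

theorem V4_le_alt : ∀ σ ∈ V4, Perm.sign σ = 1 := by
  intro σ hσ
  exact DL_sign σ ((mem_V4_iff σ).1 hσ)

theorem card_V4 : Nat.card V4 = 4 := by
  have h : (V4 : Set (Perm (Fin 5))) = (DL.toFinset : Set (Perm (Fin 5))) := by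
    ext σ
    rw [SetLike.mem_coe, mem_V4_iff, Finset.mem_coe, List.mem_toFinset]
  have h2 : Nat.card V4 = (V4 : Set (Perm (Fin 5))).ncard := rfl
  rw [h2, h, Set.ncard_coe_finset, List.toFinset_card_of_nodup DL_nodup]
  rfl

set_option maxRecDepth 1000000 in
theorem conj_pa : ∃ τ : Perm (Fin 5), Perm.sign τ = 1 ∧ τ * pa * τ⁻¹ = pb := by
  refine ⟨⟨![0, 2, 3, 1, 4], ![0, 3, 1, 2, 4], by decide, by decide⟩, ?_, ?_⟩
  · decide +kernel
  · decide +kernel

theorem exists_two_outside : ∀ a b : Fin 5, ∃ c d : Fin 5, c ≠ d ∧ c ≠ a ∧ c ≠ b ∧ d ≠ a ∧ d ≠ b := by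
  decide

theorem exists_even_map (a b i j : Fin 5) (hab : a ≠ b) (hij : i ≠ j) :
    ∃ τ : Perm (Fin 5), Perm.sign τ = 1 ∧ τ a = i ∧ τ b = j := by
  set b' := swap a i b with hb'
  have hb'i : b' ≠ i := by
    intro h
    have : swap a i b = swap a i a := by rw [← hb', h, swap_apply_left]
    exact hab ((swap a i).injective this).symm
  let τ₀ : Perm (Fin 5) := swap b' j * swap a i
  have h1 : τ₀ a = i := by
    change swap b' j (swap a i a) = i
    rw [swap_apply_left, swap_apply_of_ne_of_ne hb'i.symm hij]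
  have h2 : τ₀ b = j := by
    change swap b' j (swap a i b) = j
    rw [← hb', swap_apply_left]
  rcases Int.units_eq_one_or (Perm.sign τ₀) with hs | hs
  · exact ⟨τ₀, hs, h1, h2⟩
  · obtain ⟨c, d, hcd, hca, hcb, hda, hdb⟩ := exists_two_outside a b
    refine ⟨τ₀ * swap c d, ?_, ?_, ?_⟩
    · rw [Perm.sign_mul, hs, Perm.sign_swap hcd]; rfl
    · rw [Perm.mul_apply, swap_apply_of_ne_of_ne hca.symm hda.symm, h1]
    · rw [Perm.mul_apply, swap_apply_of_ne_of_ne hcb.symm hdb.symm, h2]

end Cfsg.Agent.Lib.Helper24.O5F
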