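import Mathlib
import Cfsg.Agent.Lib.Helper16.O5F.Defs

set_option autoImplicit false

namespace Cfsg.Agent.Lib.Helper24.O5F

open Cfsg.Agent.Lib.Helper16.O5F Equiv Matrix Cfsg.Agent.Lib.Helper5.OSyl

theorem dg_eq_inl (ε : Fin 5 → ℤˣ) : dg ε = (SemidirectProduct.inl ε : SP) := rfl

theorem pm_eq_inr (σ : Perm (Fin 5)) : pm σ = (SemidirectProduct.inr σ : SP) := rfl

theorem intUnit_mul_self' (u : ℤˣ) : u * u = 1 := by
  rcases Int.units_eq_one_or u with h | h <;> rw [h] <;> rfl

theorem eps2_mul_self (i j : Fin 5) : eps2 i j * eps2 i j = 1 := by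
  funext k
  exact intUnit_mul_self' _

theorem swap_swap_sq (i j k l : Fin 5) (hik : i ≠ k) (hil : i ≠ l) (hjk : j ≠ k) (hjl : j ≠ l) :
    (swap i j * swap k l) * (swap i j * swap k l) = 1 := by
  have hd : Perm.Disjoint (swap i j) (swap k l) := by
    intro x
    by_cases hx : x = i
    · right; subst hx; exact swap_apply_of_ne_of_ne hik hil
    · by_cases hx' : x = j
      · right; subst hx'; exact swap_apply_of_ne_of_ne hjk hjl
      · left; exact swap_apply_of_ne_of_ne hx hx'
  have hc : swap i j * swap k l = swap k l * swap i j := hd.commute.eq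
  calc (swap i j * swap k l) * (swap i j * swap k l)
      = swap i j * (swap k l * swap i j) * swap k l := by group
    _ = swap i j * (swap i j * swap k l) * swap k l := by rw [hc]
    _ = (swap i j * swap i j) * (swap k l * swap k l) := by group
    _ = 1 := by rw [Equiv.swap_mul_self, Equiv.swap_mul_self, one_mul]

theorem Gen_sq : ∀ y ∈ Gen, y * y = 1 := by
  intro y hy
  rcases hy with ⟨i, j, _, rfl⟩ | ⟨i, j, k, l, _, _, hik, hil, hjk, hjl, rfl⟩
  · rw [dg_eq_inl, ← map_mul, eps2_mul_self, map_one]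
  · rw [pm_eq_inr, ← map_mul, swap_swap_sq i j k l hik hil hjk hjl, map_one]

theorem prod_eps2' (i j : Fin 5) (hij : i ≠ j) : ∏ k, eps2 i j k = 1 := by
  unfold eps2
  have h1 : ∀ k : Fin 5, (if k = i ∨ k = j then (-1 : ℤˣ) else 1) =
      (if k = i then (-1 : ℤˣ) else 1) * (if k = j then (-1 : ℤˣ) else 1) := by
    intro k
    by_cases hki : k = i
    · have hkj : k ≠ j := fun h => hij (hki.symm.trans h)
      simp [hki, hij]
    · by_cases hkj : k = j
      · have hji : ¬ j = i := fun h => hij h.symm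
        simp [hkj, hji]
      · simp [hki, hkj]
  simp only [h1]
  rw [Finset.prod_mul_distrib, Finset.prod_ite_eq' Finset.univ i, Finset.prod_ite_eq' Finset.univ j]
  simp

theorem Gen_le_N0' : Gen ⊆ (N0' : Set SP) := by
  intro y hy
  rw [SetLike.mem_coe, mem_N0']
  rcases hy with ⟨i, j, hij, rfl⟩ | ⟨i, j, k, l, hij, hkl, _, _, _, _, rfl⟩
  · refine ⟨?_, ?_⟩
    · show Perm.sign (1 : Perm (Fin 5)) = 1
      exact map_one _
    · exact prod_eps2' i j hij
  · refine ⟨?_, ?_⟩
    · show Perm.sign (swap i j * swap k l) = 1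
      rw [map_mul, Perm.sign_swap hij, Perm.sign_swap hkl]
      rfl
    · show ∏ m : Fin 5, (1 : Fin 5 → ℤˣ) m = 1
      simp

def sgn1 (u : ℤˣ) (v : Fin 5 → ℤˣ) : Fin 5 → ℤˣ := if u = -1 then v else 1

theorem eps_decomp (ε : Fin 5 → ℤˣ) (h : ∏ i, ε i = 1) :
    ε = ∏ k ∈ Finset.univ.erase (6 : Fin 5), sgn1 (ε k) (eps2 k 6) := by
  funext i
  rw [Finset.prod_apply]
  by_cases hi : i = 6
  · subst hi
    have h1 : ∀ k ∈ Finset.univ.erase (6 : Fin 5), sgn1 (ε k) (eps2 k 6) 6 = ε k := by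
      intro k _
      unfold sgn1 eps2
      rcases Int.units_eq_one_or (ε k) with h' | h'
      · rw [h']; simp
      · rw [h']; simp
    rw [Finset.prod_congr rfl h1]
    have h2 : ε 6 * ∏ k ∈ Finset.univ.erase (6 : Fin 5), ε k = 1 := by
      rw [Finset.mul_prod_erase Finset.univ ε (Finset.mem_univ 6)]
      exact h
    have h3 : ε 6 * ε 6 = 1 := intUnit_mul_self' _
    calc ε 6 = ε 6 * (ε 6 * ∏ k ∈ Finset.univ.erase (6 : Fin 5), ε k) := by rw [h2, mul_one]
      _ = (ε 6 * ε 6) * ∏ k ∈ Finset.univ.erase (6 : Fin 5), ε k := by rw [mul_assoc]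
      _ = ∏ k ∈ Finset.univ.erase (6 : Fin 5), ε k := by rw [h3, one_mul]
  · rw [Finset.prod_eq_single i]
    · unfold sgn1 eps2
      rcases Int.units_eq_one_or (ε i) with h' | h'
      · rw [h']; simp
      · rw [h']; simp
    · intro k _ hki
      unfold sgn1 eps2
      have h1 : ¬ (i = k ∨ i = 6) := by
        rintro (h1 | h1)
        · exact hki h1.symm
        · exact hi h1
      by_cases h2 : ε k = -1
      · rw [if_pos h2, if_neg h1]
      · rw [if_neg h2]; rfl
    · intro h1
      exact absurd (Finset.mem_erase.2 ⟨hi, Finset.mem_univ i⟩) h1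

theorem dg_mem_closure (ε : Fin 5 → ℤˣ) (h : ∏ i, ε i = 1) :
    dg ε ∈ Subgroup.closure {x : SP | ∃ i j : Fin 5, i ≠ j ∧ x = dg (eps2 i j)} := by
  have key : ∏ k ∈ Finset.univ.erase (6 : Fin 5), sgn1 (ε k) (eps2 k 6) ∈
      (Subgroup.closure {x : SP | ∃ i j : Fin 5, i ≠ j ∧ x = dg (eps2 i j)}).comap
        (SemidirectProduct.inl : (Fin 5 → ℤˣ) →* SP) := by
    apply Subgroup.prod_mem
    intro k hk
    rw [Subgroup.mem_comap]
    unfold sgn1
    by_cases h2 : ε k = -1
    · rw [if_pos h2]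
      apply Subgroup.subset_closure
      exact ⟨k, 6, (Finset.mem_erase.1 hk).1, rfl⟩
    · rw [if_neg h2, map_one]
      exact Subgroup.one_mem _
  rw [← eps_decomp ε h, Subgroup.mem_comap] at key
  exact key

theorem E0'_le_closure :
    E0' ≤ Subgroup.closure {x : SP | ∃ i j : Fin 5, i ≠ j ∧ x = dg (eps2 i j)} := by
  intro x hx
  rw [mem_E0'] at hx
  have hx' : x = dg x.left := by
    apply SemidirectProduct.ext
    · rfl
    · exact hx.1
  rw [hx']
  exact dg_mem_closure x.left hx.2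

def DT : Set (Perm (Fin 5)) :=
  {σ | ∃ i j k l : Fin 5, i ≠ j ∧ k ≠ l ∧ i ≠ k ∧ i ≠ l ∧ j ≠ k ∧ j ≠ l ∧
    σ = swap i j * swap k l}

theorem exists_two_other : ∀ a b c : Fin 5, ∃ d e : Fin 5,
    d ≠ e ∧ d ≠ a ∧ d ≠ b ∧ d ≠ c ∧ e ≠ a ∧ e ≠ b ∧ e ≠ c := by decide

theorem swap_same_mem_DT {a b c : Fin 5} (ab : a ≠ b) (ac : a ≠ c) :
    swap a b * swap a c ∈ Subgroup.closure DT := by
  by_cases bc : b = c
  · subst bc
    rw [Equiv.swap_mul_self]
    exact Subgroup.one_mem _
  obtain ⟨d, e, hde, hda, hdb, hdc, hea, heb, hec⟩ := exists_two_other a b c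
  have h : swap a b * swap a c = (swap a b * swap d e) * (swap d e * swap a c) := by
    calc swap a b * swap a c = swap a b * (swap d e * swap d e) * swap a c := by
          rw [Equiv.swap_mul_self, mul_one]
      _ = (swap a b * swap d e) * (swap d e * swap a c) := by group
  rw [h]
  apply Subgroup.mul_mem
  · apply Subgroup.subset_closure
    exact ⟨a, b, d, e, ab, hde, hda.symm, hea.symm, hdb.symm, heb.symm, rfl⟩
  · apply Subgroup.subset_closure
    exact ⟨d, e, a, c, hde, ac, hda, hdc, hea, hec, rfl⟩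

theorem swap_mul_mem_DT {σ τ : Perm (Fin 5)} (hσ : σ.IsSwap) (hτ : τ.IsSwap) :
    σ * τ ∈ Subgroup.closure DT := by
  obtain ⟨a, b, hab, rfl⟩ := hσ
  obtain ⟨c, d, hcd, rfl⟩ := hτ
  by_cases hac : a = c
  · subst hac
    exact swap_same_mem_DT hab hcd
  have h' : swap a b * swap c d = swap a b * swap a c * (swap c a * swap c d) := by
    simp [swap_comm c a, mul_assoc]
  rw [h']
  exact Subgroup.mul_mem _ (swap_same_mem_DT hab hac) (swap_same_mem_DT (Ne.symm hac) hcd)

theorem even_mem_closure_DT (σ : Perm (Fin 5)) (hσ : Perm.sign σ = 1) :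
    σ ∈ Subgroup.closure DT := by
  suffices hind : ∀ (n : ℕ) (l : List (Perm (Fin 5))) (_ : ∀ g, g ∈ l → g.IsSwap)
      (_ : l.length = 2 * n), l.prod ∈ Subgroup.closure DT by
    obtain ⟨l, rfl, hl⟩ := (Perm.truncSwapFactors σ).out
    have hmem : l.prod ∈ alternatingGroup (Fin 5) := Perm.mem_alternatingGroup.2 hσ
    obtain ⟨n, hn⟩ := (Perm.prod_list_swap_mem_alternatingGroup_iff_even_length hl).1 hmem
    rw [← two_mul] at hn
    exact hind n l hl hn
  intro n
  induction n with
  | zero =>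
    intro l _ hn
    have : l = [] := List.length_eq_zero_iff.1 (by simpa using hn)
    rw [this, List.prod_nil]
    exact Subgroup.one_mem _
  | succ n ih =>
    intro l hl hn
    rw [Nat.mul_succ] at hn
    obtain ⟨a, l, rfl⟩ := l.exists_of_length_succ hn
    rw [List.length_cons, Nat.succ_inj] at hn
    obtain ⟨b, l, rfl⟩ := l.exists_of_length_succ hn
    rw [List.prod_cons, List.prod_cons, ← mul_assoc]
    rw [List.length_cons, Nat.succ_inj] at hn
    exact Subgroup.mul_mem _
      (swap_mul_mem_DT (hl a List.mem_cons_self)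
        (hl b (List.mem_cons_of_mem a List.mem_cons_self)))
      (ih _ (fun g hg => hl g (List.mem_cons_of_mem _ (List.mem_cons_of_mem _ hg))) hn)

theorem pm_mem_closure_Gen (σ : Perm (Fin 5)) (hσ : Perm.sign σ = 1) :
    pm σ ∈ Subgroup.closure Gen := by
  have h1 : σ ∈ Subgroup.closure DT := even_mem_closure_DT σ hσ
  have h2 : (Subgroup.closure DT).map (SemidirectProduct.inr : Perm (Fin 5) →* SP) ≤
      Subgroup.closure Gen := by
    rw [MonoidHom.map_closure]
    apply Subgroup.closure_mono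
    rintro _ ⟨τ, ⟨i, j, k, l, hij, hkl, hik, hil, hjk, hjl, rfl⟩, rfl⟩
    right
    exact ⟨i, j, k, l, hij, hkl, hik, hil, hjk, hjl, rfl⟩
  exact h2 (Subgroup.mem_map_of_mem _ h1)

theorem N0'_le_closure : N0' ≤ Subgroup.closure Gen := by
  intro x hx
  rw [mem_N0'] at hx
  have hx' : x = dg x.left * pm x.right := by
    rw [dg_eq_inl, pm_eq_inr, SemidirectProduct.inl_left_mul_inr_right]
  rw [hx']
  apply Subgroup.mul_mem
  · have h1 := dg_mem_closure x.left hx.2
    have h2 : Subgroup.closure {x : SP | ∃ i j : Fin 5, i ≠ j ∧ x = dg (eps2 i j)} ≤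
        Subgroup.closure Gen := by
      apply Subgroup.closure_mono
      rintro _ ⟨i, j, hij, rfl⟩
      left
      exact ⟨i, j, hij, rfl⟩
    exact h2 h1
  · exact pm_mem_closure_Gen x.right hx.1

theorem P0'_le_closure :
    P0' ≤ Subgroup.closure ((E0' : Set SP) ∪ {pm pa, pm pb}) := by
  intro x hx
  rw [mem_P0'] at hx
  have hx' : x = dg x.left * pm x.right := by
    rw [dg_eq_inl, pm_eq_inr, SemidirectProduct.inl_left_mul_inr_right]
  rw [hx']
  apply Subgroup.mul_mem
  · apply Subgroup.subset_closure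
    left
    rw [SetLike.mem_coe, mem_E0']
    exact ⟨rfl, hx.2⟩
  · have h1 : x.right ∈ Subgroup.closure ({pa, pb} : Set (Perm (Fin 5))) := hx.1
    have h2 : (Subgroup.closure ({pa, pb} : Set (Perm (Fin 5)))).map
        (SemidirectProduct.inr : Perm (Fin 5) →* SP) ≤
        Subgroup.closure ((E0' : Set SP) ∪ {pm pa, pm pb}) := by
      rw [MonoidHom.map_closure]
      apply Subgroup.closure_mono
      rintro _ ⟨τ, hτ, rfl⟩
      right
      rcases hτ with rfl | hτ
      · left; rfl
      · rw [Set.mem_singleton_iff] at hτ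
        rw [hτ]
        right
        rfl
    exact h2 (Subgroup.mem_map_of_mem _ h1)

end Cfsg.Agent.Lib.Helper24.O5F
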