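import Mathlib
import Cfsg.Agent.Lib.Helper16.O5F.Defs
import Cfsg.Agent.Lib.Helper24.O5FF1

set_option autoImplicit false

namespace Cfsg.Agent.Lib.Helper24.O5F

open Equiv Matrix Cfsg.Agent.Lib.Helper5.OSyl
open Cfsg.Agent.Lib.Helper16.O5F

theorem card_ker_mul_two {G : Type*} [Group G] (f : G →* ℤˣ) (h : ∃ g, f g = -1) :
    Nat.card f.ker * 2 = Nat.card G := by
  have hs : Function.Surjective f := by
    intro u
    rcases Int.units_eq_one_or u with rfl | rfl
    · exact ⟨1, map_one f⟩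
    · exact h
  have h1 := Subgroup.card_mul_index f.ker
  rw [Subgroup.index_ker, MonoidHom.range_eq_top.2 hs] at h1
  have h2 : Nat.card (⊤ : Subgroup ℤˣ) = 2 := by
    rw [Subgroup.card_top, Nat.card_eq_fintype_card, Fintype.card_units_int]
  rw [← h1, h2]

theorem card_signs : Nat.card (Fin 5 → ℤˣ) = 32 := by
  rw [Nat.card_eq_fintype_card, Fintype.card_pi]
  simp

def prodSigns : (Fin 5 → ℤˣ) →* ℤˣ where
  toFun ε := ∏ i, ε i
  map_one' := by simp
  map_mul' ε δ := by simp [Finset.prod_mul_distrib]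

theorem card_even_signs : Nat.card {ε : Fin 5 → ℤˣ // ∏ i, ε i = 1} = 16 := by
  have h := card_ker_mul_two prodSigns ⟨Function.update 1 0 (-1), by
    change ∏ i, (Function.update (1 : Fin 5 → ℤˣ) 0 (-1)) i = -1
    rw [Fin.prod_univ_succ]
    simp [Function.update]⟩
  rw [card_signs] at h
  have h2 : Nat.card prodSigns.ker = Nat.card {ε : Fin 5 → ℤˣ // ∏ i, ε i = 1} := by
    apply Nat.card_congr
    exact Equiv.subtypeEquivRight (fun ε => MonoidHom.mem_ker)
  omega

def P0'Equiv : ↥P0' ≃ {ε : Fin 5 → ℤˣ // ∏ i, ε i = 1} × ↥V4 where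
  toFun x := (⟨x.1.left, ((mem_P0' x.1).1 x.2).2⟩, ⟨x.1.right, ((mem_P0' x.1).1 x.2).1⟩)
  invFun p := ⟨⟨p.1.1, p.2.1⟩, (mem_P0' _).2 ⟨p.2.2, p.1.2⟩⟩
  left_inv _ := rfl
  right_inv _ := rfl

theorem card_P0' : Nat.card P0' = 2 ^ 6 := by
  rw [Nat.card_congr P0'Equiv, Nat.card_prod, card_even_signs, card_V4]
  norm_num

theorem card_SP : Nat.card SP = 32 * 120 := by
  rw [SemidirectProduct.card, card_signs, Nat.card_eq_fintype_card, Fintype.card_perm]
  rfl

theorem card_SO' : Nat.card SO' = 2 ^ 7 * 15 := by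
  have h := card_ker_mul_two (signHom * prodHom) ⟨dg (Function.update 1 0 (-1)), by
    rw [MonoidHom.mul_apply, signHom_apply, prodHom_apply]
    change Perm.sign (1 : Perm (Fin 5)) * ∏ i, (Function.update (1 : Fin 5 → ℤˣ) 0 (-1)) i = -1
    rw [Perm.sign_one, one_mul, Fin.prod_univ_succ]
    simp [Function.update]⟩
  rw [card_SP] at h
  change Nat.card SO' * 2 = 32 * 120 at h
  omega

end Cfsg.Agent.Lib.Helper24.O5F
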