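import Mathlib
import Cfsg.Agent.Lib.Helper16.O5F.Defs
import Cfsg.Agent.Lib.Helper28.OdR
import Cfsg.Agent.Lib.Helper24.O5FM

set_option autoImplicit false

namespace Cfsg.Agent.Lib.Helper24.O5F

open Cfsg.Agent.Lib.Helper16.O5F Equiv Matrix Cfsg.Agent.Lib.Helper5.OSyl

section
variable (F : Type*) [Field F]

theorem monMat_mulVec (x : SP) (v : Fin 5 → F) (i : Fin 5) :
    (monMat F x *ᵥ v) i = (((x.left i : ℤˣ) : ℤ) : F) * v (x.right.symm i) := by
  unfold Matrix.mulVec dotProduct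
  rw [Finset.sum_eq_single (x.right.symm i)]
  · show monMat F x i (x.right.symm i) * _ = _
    rw [monMat_apply, if_pos (by simp)]
  · intro j _ hj
    have : ¬ i = x.right j := by
      intro h; apply hj; rw [h]; simp
    show monMat F x i j * _ = _
    rw [monMat_apply, if_neg this, zero_mul]
  · intro h
    exact absurd (Finset.mem_univ _) h

theorem Rf_sq (v x : Fin 5 → F) :
    Cfsg.Agent.Lib.Helper28.Od.Rf (⇑(sqQF (Fin 5) F)) (Cfsg.Agent.S0795.pf (sqQF (Fin 5) F)) v x =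
      x - ((2 * (x ⬝ᵥ v)) / (v ⬝ᵥ v)) • v := by
  unfold Cfsg.Agent.Lib.Helper28.Od.Rf Cfsg.Agent.S0795.pf
  rw [sqQF_coe, polar_sqForm, sqForm_eq_dot]

theorem Rf_single (i : Fin 5) (x : Fin 5 → F) (k : Fin 5) :
    Cfsg.Agent.Lib.Helper28.Od.Rf (⇑(sqQF (Fin 5) F)) (Cfsg.Agent.S0795.pf (sqQF (Fin 5) F))
      (Pi.single i 1) x k = if k = i then - x k else x k := by
  rw [Rf_sq]
  rw [dotProduct_single, single_dotProduct, mul_one, one_mul, Pi.single_eq_same, div_one]
  rw [Pi.sub_apply, Pi.smul_apply, smul_eq_mul]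
  by_cases h : k = i
  · subst h; rw [if_pos rfl, Pi.single_eq_same]; ring
  · rw [if_neg h, Pi.single_eq_of_ne h]; ring

theorem Rf_diff (h2 : (2 : F) ≠ 0) (i j : Fin 5) (hij : i ≠ j) (x : Fin 5 → F) (k : Fin 5) :
    Cfsg.Agent.Lib.Helper28.Od.Rf (⇑(sqQF (Fin 5) F)) (Cfsg.Agent.S0795.pf (sqQF (Fin 5) F))
      (Pi.single i 1 - Pi.single j 1) x k = x (swap i j k) := by
  rw [Rf_sq]
  have hji : j ≠ i := fun h => hij h.symm
  have hn : ((Pi.single i 1 - Pi.single j 1 : Fin 5 → F) ⬝ᵥ (Pi.single i 1 - Pi.single j 1)) = 2 := by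
    rw [sub_dotProduct, dotProduct_sub, dotProduct_sub]
    rw [dotProduct_single, dotProduct_single, dotProduct_single, dotProduct_single]
    rw [Pi.single_eq_same, Pi.single_eq_same, Pi.single_eq_of_ne hij, Pi.single_eq_of_ne hji]
    ring
  rw [hn, dotProduct_sub, dotProduct_single, dotProduct_single, mul_one, mul_one]
  rw [Pi.sub_apply, Pi.smul_apply, smul_eq_mul, Pi.sub_apply]
  by_cases hki : k = i
  · subst hki
    rw [swap_apply_left, Pi.single_eq_same, Pi.single_eq_of_ne hij]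
    field_simp
    ring
  · by_cases hkj : k = j
    · subst hkj
      rw [swap_apply_right, Pi.single_eq_same, Pi.single_eq_of_ne hki]
      field_simp
      ring
    · rw [swap_apply_of_ne_of_ne hki hkj, Pi.single_eq_of_ne hki, Pi.single_eq_of_ne hkj]
      ring

theorem sq_single (i : Fin 5) : sqQF (Fin 5) F (Pi.single i 1) = 1 := by
  have : (⇑(sqQF (Fin 5) F)) (Pi.single i 1) = 1 := by
    rw [sqQF_coe, sqForm_eq_dot, dotProduct_single, mul_one, Pi.single_eq_same]
  exact this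

theorem sq_diff (i j : Fin 5) (hij : i ≠ j) :
    sqQF (Fin 5) F (Pi.single i 1 - Pi.single j 1) = 2 := by
  have hji : j ≠ i := fun h => hij h.symm
  have : (⇑(sqQF (Fin 5) F)) (Pi.single i 1 - Pi.single j 1) = 2 := by
    rw [sqQF_coe, sqForm_eq_dot]
    rw [sub_dotProduct, dotProduct_sub, dotProduct_sub]
    rw [dotProduct_single, dotProduct_single, dotProduct_single, dotProduct_single]
    rw [Pi.single_eq_same, Pi.single_eq_same, Pi.single_eq_of_ne hij, Pi.single_eq_of_ne hji]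
    ring
  exact this

theorem A5_eq : A5 F = Cfsg.Geo.omegaGL (⇑(sqQF (Fin 5) F)) := by
  rw [sqQF_coe]

theorem Gen_mem_A5 (h2 : (2 : F) ≠ 0) : ∀ y ∈ Gen, rho F y ∈ A5 F := by
  intro y hy
  rcases hy with ⟨i, j, hij, rfl⟩ | ⟨i, j, k, l, hij, hkl, hik, hil, hjk, hjl, rfl⟩
  · obtain ⟨h, hh, hx⟩ := Cfsg.Agent.Lib.Helper28.Od.r_rot h2 (sqQF (Fin 5) F)
      (Pi.single i 1) (Pi.single j 1) (by rw [sq_single]; exact one_ne_zero)
      (by rw [sq_single, sq_single])
    rw [A5_eq]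
    have : rho F (dg (eps2 i j)) = h := by
      apply Units.ext
      rw [rho_coe, Matrix.ext_iff_mulVec]
      intro v
      rw [hx]
      funext m
      rw [monMat_mulVec, Rf_single, Rf_single]
      have hr : (dg (eps2 i j)).right.symm m = m := rfl
      have hl : (dg (eps2 i j)).left m = eps2 i j m := rfl
      rw [hr, hl]
      unfold eps2
      by_cases hmi : m = i
      · subst hmi
        rw [if_pos rfl, if_pos (Or.inl rfl), if_neg hij]
        simp
      · by_cases hmj : m = j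
        · subst hmj
          rw [if_neg hmi, if_pos rfl, if_pos (Or.inr rfl)]
          simp
        · rw [if_neg hmi, if_neg hmj, if_neg (by tauto)]
          simp
    rw [this]
    exact hh
  · obtain ⟨h, hh, hx⟩ := Cfsg.Agent.Lib.Helper28.Od.r_rot h2 (sqQF (Fin 5) F)
      (Pi.single i 1 - Pi.single j 1) (Pi.single k 1 - Pi.single l 1)
      (by rw [sq_diff F i j hij]; exact h2)
      (by rw [sq_diff F i j hij, sq_diff F k l hkl])
    rw [A5_eq]
    have : rho F (pm (swap i j * swap k l)) = h := by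
      apply Units.ext
      rw [rho_coe, Matrix.ext_iff_mulVec]
      intro v
      rw [hx]
      funext m
      rw [monMat_mulVec, Rf_diff F h2 i j hij, Rf_diff F h2 k l hkl]
      have hr : (pm (swap i j * swap k l)).right.symm m = swap k l (swap i j m) := by
        show (swap i j * swap k l).symm m = _
        rw [← Perm.inv_def, _root_.mul_inv_rev, swap_inv, swap_inv, Perm.mul_apply]
      have hl : (pm (swap i j * swap k l)).left m = 1 := rfl
      rw [hr, hl]
      simp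
    rw [this]
    exact hh

def fusU : Fin 5 → F := fun k => (2 : F)⁻¹ * ![-1, 1, 1, 1, 0] k

theorem fusU_dot (h2 : (2 : F) ≠ 0) : fusU F ⬝ᵥ fusU F = 1 := by
  unfold fusU dotProduct
  rw [Fin.sum_univ_five]
  simp
  field_simp
  ring

theorem dot_fusU (z : Fin 5 → F) :
    z ⬝ᵥ fusU F = (2 : F)⁻¹ * (- z 0 + z 1 + z 2 + z 3) := by
  unfold fusU dotProduct
  rw [Fin.sum_univ_five]
  simp
  ring

theorem Rf_fusU (h2 : (2 : F) ≠ 0) (z : Fin 5 → F) (m : Fin 5) :
    Cfsg.Agent.Lib.Helper28.Od.Rf (⇑(sqQF (Fin 5) F)) (Cfsg.Agent.S0795.pf (sqQF (Fin 5) F))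
      (fusU F) z m = z m - (- z 0 + z 1 + z 2 + z 3) * fusU F m := by
  rw [Rf_sq, fusU_dot F h2, dot_fusU, Pi.sub_apply, Pi.smul_apply, smul_eq_mul, div_one,
    ← mul_assoc, mul_inv_cancel₀ h2, one_mul]

theorem sq_fusU (h2 : (2 : F) ≠ 0) : sqQF (Fin 5) F (fusU F) = 1 := by
  have : (⇑(sqQF (Fin 5) F)) (fusU F) = 1 := by
    rw [sqQF_coe, sqForm_eq_dot, fusU_dot F h2]
  exact this

theorem fusion_elt (h2 : (2 : F) ≠ 0) :
    ∃ h ∈ A5 F, h * rho F (dg (eps2 2 3)) * h⁻¹ = rho F (pm pa) := by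
  obtain ⟨h, hh, hx⟩ := Cfsg.Agent.Lib.Helper28.Od.r_rot h2 (sqQF (Fin 5) F)
    (fusU F) (Pi.single 4 1) (by rw [sq_fusU F h2]; exact one_ne_zero)
    (by rw [sq_single, sq_fusU F h2])
  refine ⟨h, by rw [A5_eq]; exact hh, ?_⟩
  rw [mul_inv_eq_iff_eq_mul]
  apply Units.ext
  rw [Units.val_mul, Units.val_mul, rho_coe, rho_coe, Matrix.ext_iff_mulVec]
  intro v
  rw [← Matrix.mulVec_mulVec, ← Matrix.mulVec_mulVec, hx, hx]
  funext m
  rw [monMat_mulVec, Rf_fusU F h2, Rf_fusU F h2]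
  simp only [Rf_single, monMat_mulVec]
  have hl : ∀ k, (dg (eps2 2 3)).left k = eps2 2 3 k := fun k => rfl
  have hr : ∀ k, (dg (eps2 2 3)).right.symm k = k := fun k => rfl
  have hl' : ∀ k, (pm pa).left k = 1 := fun k => rfl
  have hr' : ∀ k, (pm pa).right.symm k = pa.symm k := fun k => rfl
  simp only [hl, hr, hl', hr']
  unfold eps2 fusU
  fin_cases m <;> simp [pa] <;> field_simp <;> ring

end

end Cfsg.Agent.Lib.Helper24.O5F
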