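import Mathlib
import Cfsg.Agent.Lib.Helper16.O9H.Defs

set_option autoImplicit false

namespace Cfsg.Agent.Lib.Helper16.O9H

open Matrix Polynomial Module

variable {ι : Type} [Fintype ι] [DecidableEq ι] {F : Type*} [Field F]

theorem o9hkinv_apply (g : GL ι F) (n : ℕ) (x : ι → F) :
    ((g ^ n : GL ι F) : Matrix ι ι F) *ᵥ x = (aeval (linOf g) (X ^ n : F[X])) x := by
  rw [map_pow, aeval_X, Units.val_pow_eq_pow_val, ← Matrix.toLin'_apply, Matrix.toLin'_pow]

theorem ker_inv (g : GL ι F) (P : F[X]) (n : ℕ) (x : ι → F) (hx : x ∈ kerP g P) :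
    ((g ^ n : GL ι F) : Matrix ι ι F) *ᵥ x ∈ kerP g P := by
  have h0 : aeval (linOf g) P x = 0 := LinearMap.mem_ker.mp hx
  apply LinearMap.mem_ker.mpr
  rw [o9hkinv_apply, ← Module.End.mul_apply, ← map_mul, mul_comm, map_mul, Module.End.mul_apply,
    h0, map_zero]

end Cfsg.Agent.Lib.Helper16.O9H
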