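import Mathlib
import Cfsg.Agent.Lib.helper8.OME.Defs
import Cfsg.Agent.Lib.Helper18.OPESUFFABS

set_option autoImplicit false

namespace Cfsg.Agent.Lib.helper8.OME

open Polynomial Module Cfsg.Agent.Lib.Helper13.S5955 Cfsg.Agent.Lib.helper15.S5972
  Cfsg.Agent.Lib.Helper18.OPE
open scoped Matrix

theorem omeoddnec_scal {F : Type*} [Field F] (d : ℕ) (a b : F) (r : ℕ) (hr : Odd r)
    (y : Module.End F (MI d → F)) (hy : QCtx r (Qm d F a b) y)
    (z : F) (hyz : ∀ v, y v = z • v) : y = 1 := by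
  classical
  let v0 : MI d → F := Pi.single (Sum.inr 0) 1
  have hQ : Qm d F a b v0 = 1 := by
    show Cfsg.quadFormMinus (d - 1) F a b v0 = 1
    unfold Cfsg.quadFormMinus
    simp [v0]
  have hzz : z * z = 1 := by
    have h1 := hy.pres v0
    rw [hyz, QuadraticMap.map_smul, hQ, smul_eq_mul, mul_one] at h1
    exact h1
  have hpow : ∀ n : ℕ, ∀ v, (y ^ n) v = z ^ n • v := by
    intro n
    induction n with
    | zero => intro v; simp
    | succ n ih =>
      intro v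
      rw [pow_succ, Module.End.mul_apply, hyz, map_smul, ih, smul_smul, pow_succ, mul_comm]
  have hzr : z ^ r = 1 := by
    have h1 := hpow r v0
    rw [hy.pow] at h1
    have h2 := congrFun h1 (Sum.inr 0)
    simp [v0] at h2
    exact h2.symm
  have hz1 : z = 1 := by
    obtain ⟨k, hk⟩ := hr
    rw [hk, pow_succ, pow_mul, pow_two, hzz, one_pow, one_mul] at hzr
    exact hzr
  apply LinearMap.ext
  intro v
  rw [hyz, hz1, one_smul]
  rfl

theorem omeoddnec_core {F : Type*} [Field F] [Fintype F] {p : ℕ} [Fact p.Prime] [CharP F p]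
    (d m : ℕ) (hme : Even m) (a b : F) (r : ℕ) [Fact r.Prime]
    (hrp : r ≠ p) (hr2 : r ≠ 2) (i c : ℕ)
    (hi : i = orderOf ((Fintype.card F : ℕ) : ZMod r)) (hc : c = if Even i then i else 2 * i)
    (hall : AllFixM F d m (-1) r a b)
    (hARITH : (1 ≤ AmaxM i c d → Fits c i (-1) d m (-1) (AmaxM i c d)) → RM i c d m)
    (hMAXEL : 1 ≤ AmaxM i c d → ∃ y : Module.End F (MI d → F),
      QCtx r (Qm d F a b) y ∧ y ≠ 1 ∧ finrank F (cycS r y) = c * AmaxM i c d)
    (hREAL : ∀ y : Module.End F (MI d → F), QCtx r (Qm d F a b) y →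
      ∃ x : GL (MI d) F, x ∈ Cfsg.isometryGroup F (Cfsg.quadFormMinus (d - 1) F a b) ∧
        Matrix.toLin' (x : Matrix (MI d) (MI d) F) = y ∧ x ^ r = 1)
    (hOMEGA : ∀ x : GL (MI d) F, x ∈ Cfsg.isometryGroup F (Cfsg.quadFormMinus (d - 1) F a b) →
      x ^ r = 1 → x ∈ Cfsg.Geo.omegaGL (Cfsg.quadFormMinus (d - 1) F a b))
    (hFACTS : finrank F (MI d → F) = 2 * d ∧
      QTy (Qm d F a b) (⊤ : Submodule F (MI d → F)) (-1)) :
    RM i c d m := by
  apply hARITH
  intro hA1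
  obtain ⟨y, hy, hy1, hcyc⟩ := hMAXEL hA1
  obtain ⟨x, hxiso, hxy, hxr⟩ := hREAL y hy
  have hxΩ := hOMEGA x hxiso hxr
  have hrodd : Odd r := (Fact.out : r.Prime).odd_of_ne_two hr2
  have hns : ∀ z : F, (x : Matrix (MI d) (MI d) F) ≠
      z • (1 : Matrix (MI d) (MI d) F) := by
    intro z hz
    apply hy1
    apply omeoddnec_scal d a b r hrodd y hy z
    intro v
    rw [← hxy, hz, Matrix.toLin'_apply, Matrix.smul_mulVec, Matrix.one_mulVec]
  obtain ⟨W, hWm, hWnd, hWty, hWinv⟩ := hall x hxΩ ⟨1, by rw [hxr, Units.val_one, one_smul]⟩ hns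
  apply q_nec_abs (p := p) hrp hr2 hy d m hFACTS.1 (-1) hFACTS.2 hme i c hi hc _ hcyc (-1)
    (Or.inr rfl)
  refine ⟨W, ?_, hWnd, hWm, hWty⟩
  intro v hv
  apply hWinv
  rw [hxy]
  exact ⟨v, hv, rfl⟩

end Cfsg.Agent.Lib.helper8.OME
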