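import Mathlib
import Cfsg.Agent.Lib.helper8.RSM.Defs

set_option autoImplicit false

namespace Cfsg.Agent.Lib.helper8.RSM

universe u v w

variable {G : Type u} [Group G] {K : Type v} [Field K] [Fintype K] {m : ℕ}

theorem geom_sum_zero (hK : Fintype.card K = 3 ^ (2 * m + 1)) (c : K) (hc : c ≠ 0) (hc1 : c ≠ 1) :
    ∑ i ∈ Finset.range (3 ^ (2 * m + 1) - 1), c ^ i = 0 := by
  have h1 : c ^ (3 ^ (2 * m + 1) - 1) = 1 := by
    rw [← hK]
    exact FiniteField.pow_card_sub_one_eq_one c hc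
  rw [geom_sum_eq hc1, h1, sub_self, zero_div]

theorem rsma8_order (hm : 1 ≤ m) (hK : Fintype.card K = 3 ^ (2 * m + 1)) (a0 : K)
    (hgen : ∀ c : K, c ≠ 0 → ∃ i : ℕ, c = a0 ^ i) :
    a0 ≠ 0 ∧ orderOf a0 = 3 ^ (2 * m + 1) - 1 := by
  have hchar3 : (3 : K) = 0 := by
    have h3 : ((3 ^ (2 * m + 1) : ℕ) : K) = 0 := by
      rw [← hK]
      exact Nat.cast_card_eq_zero K
    rw [Nat.cast_pow] at h3
    have := pow_eq_zero_iff (n := 2 * m + 1) (by omega) |>.mp h3
    exact_mod_cast this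
  have hneg1 : (-1 : K) ≠ 1 := by
    intro h
    have h2 : (2 : K) = 0 := by
      have : (1 : K) + 1 = 0 := by
        nth_rewrite 1 [← h]
        ring
      rw [← this]
      norm_num
    have h1 : (1 : K) = 0 := by
      have : (1 : K) = 3 - 2 := by norm_num
      rw [this, hchar3, h2, sub_zero]
    exact one_ne_zero h1
  have ha0 : a0 ≠ 0 := by
    intro h0
    obtain ⟨i, hi⟩ := hgen (-1) (by simp)
    rw [h0] at hi
    rcases Nat.eq_zero_or_pos i with h | h
    · rw [h, pow_zero] at hi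
      exact hneg1 hi
    · rw [zero_pow (by omega)] at hi
      simp at hi
  refine ⟨ha0, ?_⟩
  set w : Kˣ := Units.mk0 a0 ha0 with hw
  have hall : ∀ x : Kˣ, x ∈ Subgroup.zpowers w := by
    intro x
    obtain ⟨i, hi⟩ := hgen (x : K) x.ne_zero
    refine ⟨(i : ℤ), ?_⟩
    apply Units.ext
    simp only [zpow_natCast, Units.val_pow_eq_pow_val]
    rw [hi]
    rfl
  have h1 := orderOf_eq_card_of_forall_mem_zpowers hall
  have h2 : orderOf (w : K) = orderOf w := orderOf_units
  have h3 : (w : K) = a0 := rfl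
  rw [← h3, h2, h1, Nat.card_units, Nat.card_eq_fintype_card, hK]

end Cfsg.Agent.Lib.helper8.RSM
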