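import Mathlib
import Cfsg.Agent.Lib.helper8.RSM.Defs
import Cfsg.Agent.Lib.Helper24.RSMA8

set_option autoImplicit false

namespace Cfsg.Agent.Lib.helper8.RSM

universe u v w

variable {G : Type u} [Group G] {K : Type v} [Field K] [Fintype K] {m : ℕ}

omit [Fintype K] in
theorem rsma9_nrm_pow (a : K) : nrm m a = a ^ (1 + 3 ^ (m + 1)) := by
  unfold nrm
  rw [← pow_mul, pow_add, pow_one, pow_succ]

omit [Fintype K] in
theorem rsma9_pow_ne_one {a : K} {n k : ℕ} (ho : orderOf a = n) (hk0 : 0 < k) (hkn : k < n) :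
    a ^ k ≠ 1 := by
  intro h
  have hd : orderOf a ∣ k := orderOf_dvd_of_pow_eq_one h
  rw [ho] at hd
  have := Nat.le_of_dvd hk0 hd
  omega

theorem gen_weights (hm : 1 ≤ m) (hK : Fintype.card K = 3 ^ (2 * m + 1)) (a0 : K)
    (hgen : ∀ c : K, c ≠ 0 → ∃ i : ℕ, c = a0 ^ i) :
    a0 ≠ 0 ∧ a0 ^ 2 ≠ 1 ∧ nrm m a0 ≠ 1 ∧ a0 * nrm m a0 ≠ 1 ∧
    a0 ^ ((3 ^ (2 * m + 1) - 1) / 2) = -1 ∧ a0 ^ (3 ^ (2 * m + 1) - 1) = 1 := by
  obtain ⟨ha0, ho⟩ := rsma8_order hm hK a0 hgen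
  have ht : 3 ≤ 3 ^ m := by
    calc 3 = 3 ^ 1 := by norm_num
      _ ≤ 3 ^ m := Nat.pow_le_pow_right (by norm_num) hm
  have hq : 3 ^ (2 * m + 1) = 3 * (3 ^ m) ^ 2 := by
    rw [pow_succ, mul_comm 2 m, pow_mul]
    ring
  have hq3 : 3 ^ (m + 1) = 3 * 3 ^ m := by
    rw [pow_succ]
    ring
  have hodd : Odd (3 ^ (2 * m + 1)) := Odd.pow (by decide)
  obtain ⟨r, hr⟩ := hodd
  have hhalf : (3 ^ (2 * m + 1) - 1) / 2 = r := by omega
  have hfull : 3 ^ (2 * m + 1) - 1 = 2 * r := by omega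
  have hone : a0 ^ (3 ^ (2 * m + 1) - 1) = 1 := by
    rw [← hK]
    exact FiniteField.pow_card_sub_one_eq_one a0 ha0
  have hbig : 27 ≤ 3 ^ (2 * m + 1) := by
    rw [hq]
    nlinarith
  refine ⟨ha0, ?_, ?_, ?_, ?_, hone⟩
  · exact rsma9_pow_ne_one ho (by norm_num) (by omega)
  · rw [rsma9_nrm_pow]
    apply rsma9_pow_ne_one ho (by omega)
    rw [hq, hq3]
    have : 1 + 3 * 3 ^ m + 1 < 3 * (3 ^ m) ^ 2 := by nlinarith
    omega
  · rw [rsma9_nrm_pow, ← pow_succ']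
    apply rsma9_pow_ne_one ho (by omega)
    rw [hq, hq3]
    have : 1 + 3 * 3 ^ m + 1 + 1 < 3 * (3 ^ m) ^ 2 := by nlinarith
    omega
  · rw [hhalf]
    have hsq : a0 ^ r * a0 ^ r = 1 := by
      rw [← pow_add, ← two_mul, ← hfull]
      exact hone
    rcases mul_self_eq_one_iff.mp hsq with h | h
    · exfalso
      exact rsma9_pow_ne_one ho (k := r) (by omega) (by omega) h
    · exact h

end Cfsg.Agent.Lib.helper8.RSM
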