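import Cfsg.Agent.Lib.Helper24.ElZc

set_option autoImplicit false

namespace Cfsg.Agent.Lib.Helper24

open Polynomial Module

variable {F : Type*} [Field F] {V : Type*} [AddCommGroup V] [Module F V]

theorem el_rank_bound [FiniteDimensional F V] {ι : Type*} (D : ι → Submodule F V)
    (hind : iSupIndep D) (hsup : ⨆ i, D i = ⊤) (x : Module.End F V) (σ : Equiv.Perm ι)
    (hσ : ∀ j, (D j).map x = D (σ j)) (r : ℕ) (hr : r.Prime) (hσr : σ ^ r = 1)
    (a : ℕ) (hDa : ∀ i, finrank F (D i) = a) (j : ι) (hj : σ j ≠ j) :
    finrank F (LinearMap.ker (aeval x (X - 1 : F[X]))) + a * (r - 1) ≤ finrank F V := by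
  classical
  obtain ⟨π, hπ1, hπ2⟩ := el_proj D hind hsup
  let τ : Fin (r - 1) → ι := fun i => (σ ^ (i : ℕ)) j
  have hτ : Function.Injective τ := by
    intro i i' h
    apply Fin.ext
    exact el_tau_inj σ r hr hσr j hj i i' (by have := i.isLt; omega) (by have := i'.isLt; omega) h
  have hE : iSupIndep (D ∘ τ) := hind.comp hτ
  have hU : finrank F ↥(⨆ i, (D ∘ τ) i) = a * (r - 1) := by
    have h1 : ∀ i ∈ (Finset.univ : Finset (Fin (r - 1))), finrank F ↥((D ∘ τ) i) = a :=
      fun i _ => hDa (τ i)
    rw [el_finrank_iSup _ hE, Finset.sum_congr rfl h1, Finset.sum_const,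
      Finset.card_univ, Fintype.card_fin, smul_eq_mul, mul_comm]
  have hdisj : Disjoint (LinearMap.ker (aeval x (X - 1 : F[X]))) (⨆ i, (D ∘ τ) i) := by
    rw [Submodule.disjoint_def]
    intro v hvC hvU
    have hxv : x v = v := by
      rw [LinearMap.mem_ker, map_sub, aeval_X, map_one, LinearMap.sub_apply,
        Module.End.one_apply, sub_eq_zero] at hvC
      exact hvC
    rw [← elSumMap_range] at hvU
    obtain ⟨f, rfl⟩ := hvU
    rw [elSumMap_apply] at hxv ⊢
    let fe : ℕ → V := fun i => if h : i < r - 1 then (f ⟨i, h⟩ : V) else 0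
    have hfe : ∀ i, fe i ∈ D ((σ ^ i) j) := by
      intro i
      by_cases h : i < r - 1
      · simp only [fe, dif_pos h]
        exact (f ⟨i, h⟩).2
      · simp only [fe, dif_neg h]
        exact Submodule.zero_mem _
    have hsum : ∑ i : Fin (r - 1), (f i : V) = ∑ i ∈ Finset.range (r - 1), fe i := by
      rw [Finset.sum_range]
      apply Finset.sum_congr rfl
      intro i _
      simp only [fe, dif_pos i.isLt]
    rw [hsum] at hxv ⊢
    rw [map_sum] at hxv
    have hxfe : ∀ i, x (fe i) ∈ D ((σ ^ (i + 1)) j) := by
      intro i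
      rw [pow_succ', Equiv.Perm.mul_apply, ← hσ]
      exact ⟨fe i, hfe i, rfl⟩
    have hzero : ∀ m, m < r - 1 → fe m = 0 := by
      intro m
      induction m with
      | zero =>
        intro hm
        have h1 := congrArg (π ((σ ^ 0) j)) hxv
        rw [map_sum, map_sum, Finset.sum_eq_zero, Finset.sum_eq_single 0] at h1
        · rw [hπ1 _ _ (hfe 0)] at h1
          exact h1.symm
        · intro i hi hi0
          apply hπ2 _ _ _ _ (hfe i)
          intro h
          exact hi0 (el_tau_inj σ r hr hσr j hj i 0 (by have := Finset.mem_range.mp hi; omega)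
            hr.pos h)
        · intro h
          exact absurd (Finset.mem_range.mpr hm) h
        · intro i hi
          apply hπ2 _ _ _ _ (hxfe i)
          intro h
          have := el_tau_inj σ r hr hσr j hj (i + 1) 0
            (by have := Finset.mem_range.mp hi; omega) hr.pos h
          omega
      | succ m ih =>
        intro hm
        have h1 := congrArg (π ((σ ^ (m + 1)) j)) hxv
        rw [map_sum, map_sum, Finset.sum_eq_single m, Finset.sum_eq_single (m + 1)] at h1
        · rw [hπ1 _ _ (hfe (m + 1)), ih (by omega), map_zero, map_zero] at h1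
          exact h1.symm
        · intro i hi him
          apply hπ2 _ _ _ _ (hfe i)
          intro h
          exact him (el_tau_inj σ r hr hσr j hj i (m + 1)
            (by have := Finset.mem_range.mp hi; omega) (by omega) h)
        · intro h
          exact absurd (Finset.mem_range.mpr hm) h
        · intro i hi him
          apply hπ2 _ _ _ _ (hxfe i)
          intro h
          have := el_tau_inj σ r hr hσr j hj (i + 1) (m + 1)
            (by have := Finset.mem_range.mp hi; omega) (by omega) h
          omega
        · intro h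
          exact absurd (Finset.mem_range.mpr (by omega : m < r - 1)) h
    apply Finset.sum_eq_zero
    intro i hi
    exact hzero i (Finset.mem_range.mp hi)
  have := Submodule.finrank_add_finrank_le_of_disjoint hdisj
  rwa [hU] at this

theorem el_fix_sum [FiniteDimensional F V] {ι : Type*} [Fintype ι] (D : ι → Submodule F V)
    (hind : iSupIndep D) (C : Submodule F V) :
    ∑ i, finrank F ↥(D i ⊓ C) ≤ finrank F C := by
  have h1 : iSupIndep (fun i => D i ⊓ C) := hind.mono (fun i => inf_le_left)
  rw [← el_finrank_iSup _ h1]
  apply Submodule.finrank_mono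
  apply iSup_le
  intro i
  exact inf_le_right

end Cfsg.Agent.Lib.Helper24
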