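import Cfsg.Agent.Lib.Helper27.ASC.Defs
import Cfsg.Agent.Lib.Helper28.Ld.Trans
import Cfsg.Agent.Lib.Helper28.Ld.Calc

set_option autoImplicit false

namespace Cfsg.Agent.Lib.Helper27.ASC

open Cfsg Cfsg.Geo
open scoped MatrixGroups Matrix

variable {n : ℕ} {F : Type*} [Field F] [Fintype F]

theorem ascdec4_two (hq : Fintype.card F = 4) : (2 : F) = 0 := by
  have h4 : ((4 : ℕ) : F) = 0 := by
    rw [← hq]
    exact Nat.cast_card_eq_zero F
  have h22 : (2 : F) * 2 = 0 := by
    have h : ((4 : ℕ) : F) = 2 * 2 := by norm_num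
    rw [← h]
    exact h4
  exact mul_self_eq_zero.mp h22

theorem ascdec4_pow4 (hq : Fintype.card F = 4) (a : F) : a ^ 4 = a := by
  have h := FiniteField.pow_card a
  rwa [hq] at h

theorem ascdec4_cube (hq : Fintype.card F = 4) (a : F) (ha : a ≠ 0) : a ^ 3 = 1 := by
  have h := ascdec4_pow4 hq a
  have h1 : a * a ^ 3 = a * 1 := by
    rw [mul_one, ← pow_succ']
    exact h
  exact mul_left_cancel₀ ha h1

noncomputable def ascdec4_sigma (hq : Fintype.card F = 4) : F ≃+* F where
  toFun a := a ^ 2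
  invFun a := a ^ 2
  left_inv a := by
    show (a ^ 2) ^ 2 = a
    rw [← pow_mul]
    exact ascdec4_pow4 hq a
  right_inv a := by
    show (a ^ 2) ^ 2 = a
    rw [← pow_mul]
    exact ascdec4_pow4 hq a
  map_mul' a b := mul_pow a b 2
  map_add' a b := by
    show (a + b) ^ 2 = a ^ 2 + b ^ 2
    have h2 := ascdec4_two hq
    have h : (a + b) ^ 2 = a ^ 2 + b ^ 2 + 2 * (a * b) := by ring
    rw [h, h2, zero_mul, add_zero]

theorem ascdec4_sigma_apply (hq : Fintype.card F = 4) (a : F) : ascdec4_sigma hq a = a ^ 2 := rfl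

theorem ascdec4_exists_other (hq : Fintype.card F = 4) : ∃ a : F, a ≠ 0 ∧ a ≠ 1 := by
  classical
  by_contra hall
  push Not at hall
  have hcard : Fintype.card F ≤ 2 := by
    calc Fintype.card F = (Finset.univ : Finset F).card := Finset.card_univ.symm
      _ ≤ ({0, 1} : Finset F).card := Finset.card_le_card (fun a _ => by
          by_cases ha : a = 0
          · simp [ha]
          · simp [hall a ha])
      _ ≤ 2 := Finset.card_le_two
  omega

noncomputable def ascdec4_form {t : ℕ} (b : Module.Basis (Fin t × Fin 1) F (Fin n → F))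
    (v w : Fin n → F) : F :=
  ∑ p, b.repr v p * (b.repr w p) ^ 2

theorem ascdec4_unitary {t : ℕ} (b : Module.Basis (Fin t × Fin 1) F (Fin n → F))
    (hq : Fintype.card F = 4) : IsUnitaryForm (ascdec4_sigma hq) (ascdec4_form b) := by
  classical
  refine ⟨?_, ?_, ?_, ?_, ?_, ?_⟩
  · intro h
    obtain ⟨a, ha0, ha1⟩ := ascdec4_exists_other hq
    have h1 : ascdec4_sigma hq a = RingEquiv.refl F a := by rw [h]
    rw [ascdec4_sigma_apply, RingEquiv.refl_apply] at h1
    have h2 : a * (a - 1) = 0 := by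
      have : a * (a - 1) = a ^ 2 - a := by ring
      rw [this, h1, sub_self]
    rcases mul_eq_zero.mp h2 with h3 | h3
    · exact ha0 h3
    · exact ha1 (sub_eq_zero.mp h3)
  · intro a
    rw [ascdec4_sigma_apply, ascdec4_sigma_apply, ← pow_mul]
    exact ascdec4_pow4 hq a
  · intro x y v
    unfold ascdec4_form
    rw [← Finset.sum_add_distrib]
    refine Finset.sum_congr rfl (fun p _ => ?_)
    rw [map_add, Finsupp.add_apply, add_mul]
  · intro c x v
    unfold ascdec4_form
    rw [Finset.mul_sum]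
    refine Finset.sum_congr rfl (fun p _ => ?_)
    rw [map_smul, Finsupp.smul_apply, smul_eq_mul, mul_assoc]
  · intro v w
    unfold ascdec4_form
    rw [map_sum]
    refine Finset.sum_congr rfl (fun p _ => ?_)
    rw [ascdec4_sigma_apply, mul_pow, ← pow_mul, ascdec4_pow4 hq, mul_comm]
  · intro v hv
    have hne : b.repr v ≠ 0 := by
      intro h
      exact hv (b.repr.map_eq_zero_iff.mp h)
    obtain ⟨p, hp⟩ : ∃ p, b.repr v p ≠ 0 := by
      by_contra hall
      push Not at hall
      exact hne (Finsupp.ext hall)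
    have hsingle : ∀ q, b.repr (b p) q = if q = p then 1 else 0 := by
      intro q
      rw [Module.Basis.repr_self, Finsupp.single_apply]
      by_cases h : p = q
      · simp [h]
      · have h' : q ≠ p := fun e => h e.symm
        simp [h, h']
    constructor
    · refine ⟨b p, ?_⟩
      unfold ascdec4_form
      rw [Finset.sum_eq_single p]
      · rw [hsingle p, if_pos rfl, one_mul]
        exact pow_ne_zero 2 hp
      · intro q _ hq'
        rw [hsingle q, if_neg hq', zero_mul]
      · intro h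
        exact absurd (Finset.mem_univ p) h
    · refine ⟨b p, ?_⟩
      unfold ascdec4_form
      rw [Finset.sum_eq_single p]
      · rw [hsingle p, if_pos rfl, one_pow, mul_one]
        exact hp
      · intro q _ hq'
        rw [hsingle q, if_neg hq']
        simp
      · intro h
        exact absurd (Finset.mem_univ p) h

theorem dec_q4 {t : ℕ} (D : Fin t → Submodule F (Fin n → F)) (hD : IsMDecomposition 1 D) (hq : Fintype.card F = 4) :
    ∃ (σ : F ≃+* F) (f : (Fin n → F) → (Fin n → F) → F), IsUnitaryForm σ f ∧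
      decompositionStabilizer D ≤ similarityGroup f := by
  classical
  obtain ⟨b, hb⟩ : ∃ b : Module.Basis (Fin t × Fin 1) F (Fin n → F),
      b = Cfsg.Agent.Lib.Helper28.Ld.adaptedBasis D hD := ⟨_, rfl⟩
  have hbmem : ∀ p : Fin t × Fin 1, b p ∈ D p.1 := by
    intro p
    rw [hb]
    exact Cfsg.Agent.Lib.Helper28.Ld.adaptedBasis_mem D hD p
  have hbrepr : ∀ (i : Fin t) (y : Fin n → F), y ∈ D i → ∀ p : Fin t × Fin 1, p.1 ≠ i →
      b.repr y p = 0 := by
    intro i y hy p hp
    rw [hb]
    exact Cfsg.Agent.Lib.Helper28.Ld.adaptedBasis_repr D hD i y hy p hp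
  refine ⟨ascdec4_sigma hq, ascdec4_form b, ascdec4_unitary b hq, ?_⟩
  intro g hg
  obtain ⟨π, hπ⟩ := hg
  have hmap : ∀ (i : Fin t) (y : Fin n → F), y ∈ D i →
      (g : Matrix (Fin n) (Fin n) F) *ᵥ y ∈ D (π i) := by
    intro i y hy
    rw [← hπ i]
    exact ⟨y, hy, by simp [Matrix.toLin'_apply]⟩
  have hcoord : ∀ (i : Fin t) (j : Fin 1) (v : Fin n → F),
      b.repr ((g : Matrix (Fin n) (Fin n) F) *ᵥ v) (π i, j) =
        b.repr ((g : Matrix (Fin n) (Fin n) F) *ᵥ b (i, j)) (π i, j) * b.repr v (i, j) := by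
    intro i j v
    have hlin : (b.coord (π i, j)).comp (Matrix.toLin' (g : Matrix (Fin n) (Fin n) F)) =
        (b.repr ((g : Matrix (Fin n) (Fin n) F) *ᵥ b (i, j)) (π i, j)) • b.coord (i, j) := by
      apply b.ext
      intro q
      rw [LinearMap.comp_apply, Matrix.toLin'_apply, Module.Basis.coord_apply, LinearMap.smul_apply,
        Module.Basis.coord_apply, Module.Basis.repr_self, Finsupp.single_apply, smul_eq_mul]
      by_cases hqi : q = (i, j)
      · rw [if_pos hqi, mul_one, hqi]
      · rw [if_neg hqi, mul_zero]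
        have hq1 : q.1 ≠ i := by
          intro h
          apply hqi
          exact Prod.ext h (Subsingleton.elim _ _)
        apply hbrepr (π q.1) _ (hmap q.1 _ (hbmem q))
        show π i ≠ π q.1
        intro h
        exact hq1 (π.injective h).symm
    have h1 := congrArg (fun L => L v) hlin
    simpa [Matrix.toLin'_apply, Module.Basis.coord_apply] using h1
  have hcne : ∀ (i : Fin t) (j : Fin 1),
      b.repr ((g : Matrix (Fin n) (Fin n) F) *ᵥ b (i, j)) (π i, j) ≠ 0 := by
    intro i j hc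
    have hzero : b.repr ((g : Matrix (Fin n) (Fin n) F) *ᵥ b (i, j)) = 0 := by
      apply Finsupp.ext
      intro q
      by_cases hq1 : q.1 = π i
      · have hq' : q = (π i, j) := Prod.ext hq1 (Subsingleton.elim _ _)
        rw [hq', hc]
        rfl
      · rw [hbrepr (π i) _ (hmap i _ (hbmem (i, j))) q hq1]
        rfl
    have h0 : (g : Matrix (Fin n) (Fin n) F) *ᵥ b (i, j) = 0 := b.repr.map_eq_zero_iff.mp hzero
    have h1 := Cfsg.Agent.Lib.Helper28.Ld.gl_inv_mulVec g (b (i, j))
    rw [h0, Matrix.mulVec_zero] at h1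
    exact b.ne_zero (i, j) h1.symm
  refine ⟨1, fun u v => ?_⟩
  rw [Units.val_one, one_mul]
  unfold ascdec4_form
  let e : Fin t × Fin 1 ≃ Fin t × Fin 1 := Equiv.prodCongr π (Equiv.refl (Fin 1))
  rw [← Equiv.sum_comp e]
  refine Finset.sum_congr rfl (fun p _ => ?_)
  obtain ⟨i, j⟩ := p
  show b.repr ((g : Matrix (Fin n) (Fin n) F) *ᵥ u) (π i, j) *
      b.repr ((g : Matrix (Fin n) (Fin n) F) *ᵥ v) (π i, j) ^ 2 = b.repr u (i, j) * b.repr v (i, j) ^ 2
  rw [hcoord i j u, hcoord i j v]
  have h3 := ascdec4_cube hq _ (hcne i j)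
  calc b.repr ((g : Matrix (Fin n) (Fin n) F) *ᵥ b (i, j)) (π i, j) * b.repr u (i, j) *
        (b.repr ((g : Matrix (Fin n) (Fin n) F) *ᵥ b (i, j)) (π i, j) * b.repr v (i, j)) ^ 2
      = b.repr ((g : Matrix (Fin n) (Fin n) F) *ᵥ b (i, j)) (π i, j) ^ 3 *
          (b.repr u (i, j) * b.repr v (i, j) ^ 2) := by ring
    _ = b.repr u (i, j) * b.repr v (i, j) ^ 2 := by rw [h3, one_mul]

end Cfsg.Agent.Lib.Helper27.ASC
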