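import Cfsg.Agent.Lib.Helper27.ASC.Defs
import Cfsg.Agent.Lib.Helper28.Ld.Calc

set_option autoImplicit false

namespace Cfsg.Agent.Lib.Helper27.ASC

open Cfsg Cfsg.Geo
open scoped MatrixGroups Matrix

variable {n : ℕ} {F : Type*} [Field F] [Fintype F]

theorem ascpr2_exists_covec (P : Submodule F (Fin n → F)) (u : Fin n → F) (hu : u ∉ P) :
    ∃ r : Fin n → F, r ⬝ᵥ u = 1 ∧ ∀ w ∈ P, r ⬝ᵥ w = 0 := by
  obtain ⟨f, hfu, hPf⟩ := Submodule.exists_le_ker_of_notMem hu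
  have key : ∀ x : Fin n → F, f x = (fun i => f (fun j => if i = j then 1 else 0)) ⬝ᵥ x := by
    intro x
    rw [LinearMap.pi_apply_eq_sum_univ f x]
    unfold dotProduct
    refine Finset.sum_congr rfl (fun i _ => ?_)
    rw [smul_eq_mul, mul_comm]
  refine ⟨(f u)⁻¹ • (fun i => f (fun j => if i = j then 1 else 0)), ?_, ?_⟩
  · rw [smul_dotProduct, ← key u, smul_eq_mul, inv_mul_cancel₀ hfu]
  · intro w hw
    have h1 : f w = 0 := LinearMap.mem_ker.mp (hPf hw)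
    rw [smul_dotProduct, ← key w, h1, smul_zero]

theorem ascpr2_exists_ne_zero {m : ℕ} (W : Submodule F (Fin n → F)) (hm : 0 < m)
    (hW : Module.finrank F W = m) : ∃ u ∈ W, u ≠ 0 := by
  have h1 : W ≠ ⊥ := by
    intro h
    rw [h, finrank_bot] at hW
    omega
  obtain ⟨u, hu, hu0⟩ := Submodule.exists_mem_ne_zero_of_ne_bot h1
  exact ⟨u, hu, hu0⟩

theorem pr_dec {t m : ℕ} (D : Fin t → Submodule F (Fin n → F)) (hD : IsMDecomposition m D) :
    ¬ specialLinear (Fin n) F ≤ decompositionStabilizer D := by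
  intro hle
  have ht := hD.two_le
  obtain ⟨u, huD, hu0⟩ := ascpr2_exists_ne_zero (D ⟨0, by omega⟩) hD.pos (hD.finrank_eq _)
  obtain ⟨w, hwD, hw0⟩ := ascpr2_exists_ne_zero (D ⟨1, by omega⟩) hD.pos (hD.finrank_eq _)
  have hdisj : Disjoint (D ⟨0, by omega⟩) (⨆ (k : Fin t) (_ : k ≠ ⟨0, by omega⟩), D k) :=
    hD.indep ⟨0, by omega⟩
  have hPle : ∀ k : Fin t, k ≠ ⟨0, by omega⟩ →
      D k ≤ ⨆ (k : Fin t) (_ : k ≠ ⟨0, by omega⟩), D k := by
    intro k hk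
    exact le_iSup₂ (f := fun (k : Fin t) (_ : k ≠ ⟨0, by omega⟩) => D k) k hk
  have huP : u ∉ ⨆ (k : Fin t) (_ : k ≠ ⟨0, by omega⟩), D k := by
    intro h
    exact hu0 ((Submodule.disjoint_def.mp hdisj) u huD h)
  have h01 : (⟨1, by omega⟩ : Fin t) ≠ ⟨0, by omega⟩ := by
    intro h
    have := congrArg Fin.val h
    simp at this
  have hwP : w ∈ ⨆ (k : Fin t) (_ : k ≠ ⟨0, by omega⟩), D k := hPle _ h01 hwD
  obtain ⟨r, hru, hrP⟩ := ascpr2_exists_covec _ u huP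
  obtain ⟨g, hg, hdet⟩ := Cfsg.Agent.Lib.Helper28.Ld.exists_tv w r (hrP w hwP)
  have hgSL : g ∈ specialLinear (Fin n) F := by
    unfold specialLinear
    rw [MonoidHom.mem_ker]
    ext
    simpa using hdet
  obtain ⟨σ, hσ⟩ := hle hgSL
  have hgu : (g : Matrix (Fin n) (Fin n) F) *ᵥ u = u + w := by
    rw [hg u, hru, one_smul]
  have hmem : u + w ∈ D (σ ⟨0, by omega⟩) := by
    rw [← hσ ⟨0, by omega⟩, ← hgu]
    exact ⟨u, huD, by simp [Matrix.toLin'_apply]⟩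
  by_cases hj : σ ⟨0, by omega⟩ = ⟨0, by omega⟩
  · rw [hj] at hmem
    have hw' : w ∈ D ⟨0, by omega⟩ := by
      have := Submodule.sub_mem _ hmem huD
      simpa using this
    exact hw0 ((Submodule.disjoint_def.mp hdisj) w hw' hwP)
  · have h1 : u + w ∈ ⨆ (k : Fin t) (_ : k ≠ ⟨0, by omega⟩), D k := hPle _ hj hmem
    have h2 : u ∈ ⨆ (k : Fin t) (_ : k ≠ ⟨0, by omega⟩), D k := by
      have := Submodule.sub_mem _ h1 hwP
      simpa using this
    exact huP h2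

end Cfsg.Agent.Lib.Helper27.ASC
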