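import Mathlib
import Cfsg.Agent.Lib.Helper16.U82.Defs
import Cfsg.Agent.Lib.Lead.Unitary

set_option autoImplicit false

namespace Cfsg.Agent.Lib.Helper16.U82

open Matrix Cfsg.Agent.Lib.Helper16
open scoped MatrixGroups

theorem u82e1_rank_map_le {R K F : Type*} [CommRing R] [Field K] [Field F]
    (i : R →+* K) (hi : Function.Injective i) (π : R →+* F) (hπ : Function.Surjective π)
    {m : Type*} [Fintype m] [DecidableEq m] (X : Matrix m m R) :
    (X.map π).rank ≤ (X.map i).rank := by
  obtain ⟨V, U, e, -, -, h⟩ := Matrix.exists_rank_normal_form (X.map π)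
  let V' : Matrix m m R := fun a b => Classical.choose (hπ (V a b))
  let U' : Matrix m m R := fun a b => Classical.choose (hπ (U a b))
  have hV' : V'.map π = V := by
    ext a b
    exact Classical.choose_spec (hπ (V a b))
  have hU' : U'.map π = U := by
    ext a b
    exact Classical.choose_spec (hπ (U a b))
  set Y : Matrix m m R := V' * X * U' with hY
  have hYπ : Y.map π = (Matrix.fromBlocks 1 0 0 0).submatrix e e := by
    rw [hY, Matrix.map_mul, Matrix.map_mul, hV', hU', h]
  let f : Fin (X.map π).rank → m := fun a => e.symm (Sum.inl a)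
  have h1 : (Y.submatrix f f).map π = 1 := by
    ext a b
    have := congrFun (congrFun hYπ (f a)) (f b)
    simp only [Matrix.map_apply, Matrix.submatrix_apply] at this ⊢
    rw [this]
    simp only [f, Equiv.apply_symm_apply, Matrix.fromBlocks_apply₁₁]
  have hdet : π (Y.submatrix f f).det = 1 := by
    rw [RingHom.map_det, RingHom.mapMatrix_apply, h1, Matrix.det_one]
  have hdet0 : (Y.submatrix f f).det ≠ 0 := by
    intro h0
    rw [h0, map_zero] at hdet
    exact zero_ne_one hdet
  have hdeti : ((Y.map i).submatrix f f).det ≠ 0 := by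
    have : (Y.map i).submatrix f f = i.mapMatrix (Y.submatrix f f) := by
      ext a b
      simp
    rw [this, ← RingHom.map_det]
    intro h0
    exact hdet0 (hi (by rw [h0, map_zero]))
  have h2 : ((Y.map i).submatrix f f).rank = (X.map π).rank := by
    rw [Matrix.rank_of_det_ne_zero hdeti, Fintype.card_fin]
  calc (X.map π).rank = ((Y.map i).submatrix f f).rank := h2.symm
    _ ≤ (Y.map i).rank := Matrix.rank_submatrix_le _ _ _
    _ ≤ (X.map i).rank := by
      rw [hY, Matrix.map_mul, Matrix.map_mul]
      exact (Matrix.rank_mul_le_left _ _).trans (Matrix.rank_mul_le_right _ _)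

theorem u82e1_rank_map {F : Type*} [Field F] (σ : F →+* F) (hσ : Function.Bijective σ)
    {m : Type*} [Fintype m] [DecidableEq m] (X : Matrix m m F) :
    (X.map σ).rank = X.rank := by
  have hid : X.map (RingHom.id F) = X := by
    ext a b
    rfl
  apply le_antisymm
  · have := u82e1_rank_map_le (RingHom.id F) Function.injective_id σ hσ.2 X
    rwa [hid] at this
  · have := u82e1_rank_map_le σ hσ.1 (RingHom.id F) Function.surjective_id X
    rwa [hid] at this

theorem u82e1_gu_mat {F : Type*} [Field F] (q₀ n : ℕ) (σ : F →+* F) (hσ : ∀ a, σ a = a ^ q₀)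
    (B : GL (Fin n) F) (hB : B ∈ Cfsg.GU n F q₀) :
    (B : Matrix (Fin n) (Fin n) F)ᵀ * (B : Matrix (Fin n) (Fin n) F).map σ = 1 := by
  ext i j
  have h := hB (Pi.single i 1) (Pi.single j 1)
  simp only [Cfsg.hermForm, Units.coeHom_apply, Matrix.mulVec_single_one] at h
  rw [Matrix.mul_apply]
  simp only [Matrix.transpose_apply, Matrix.map_apply, hσ]
  simp only [Matrix.col_apply] at h
  rw [h]
  rw [Matrix.one_apply]
  by_cases hij : i = j
  · subst hij
    rw [if_pos rfl, Finset.sum_eq_single i]
    · simp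
    · intro b _ hb
      simp [Pi.single_eq_of_ne hb]
    · intro hi
      exact absurd (Finset.mem_univ i) hi
  · rw [if_neg hij]
    apply Finset.sum_eq_zero
    intro k _
    by_cases hk : k = i
    · subst hk
      rw [Pi.single_eq_of_ne hij]
      by_cases hq : q₀ = 0
      · exfalso
        have h1 := hσ 0
        rw [hq, pow_zero, map_zero] at h1
        exact zero_ne_one h1
      · rw [zero_pow hq, mul_zero]
    · rw [Pi.single_eq_of_ne hk, zero_mul]

theorem u82_mult_gu {F : Type*} [Field F] [Fintype F] (q₀ n : ℕ) (hF : Fintype.card F = q₀ ^ 2)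
    (B : GL (Fin n) F) (hB : B ∈ Cfsg.GU n F q₀) (μ : F) (hμ : μ ≠ 0) :
    PGLR.mult (B : Matrix (Fin n) (Fin n) F) μ =
      PGLR.mult (B : Matrix (Fin n) (Fin n) F) ((μ ^ q₀)⁻¹) := by
  obtain ⟨σ, hσ⟩ := Cfsg.Agent.Lib.Lead.exists_frob hF
  have hbij : Function.Bijective σ := by
    have hinj : Function.Injective σ := σ.injective
    exact ⟨hinj, Finite.surjective_of_injective hinj⟩
  have hmat := u82e1_gu_mat q₀ n σ hσ B hB
  have hdetT : IsUnit ((B : Matrix (Fin n) (Fin n) F)ᵀ).det := by
    rw [Matrix.det_transpose]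
    exact Matrix.isUnits_det_units B
  generalize (B : Matrix (Fin n) (Fin n) F) = M at hmat hdetT ⊢
  have hσμ : σ μ ≠ 0 := by rwa [map_ne_zero]
  unfold PGLR.mult
  congr 1
  calc (M - μ • (1 : Matrix (Fin n) (Fin n) F)).rank
      = ((M - μ • (1 : Matrix (Fin n) (Fin n) F)).map σ).rank := (u82e1_rank_map σ hbij _).symm
    _ = (M.map σ - σ μ • (1 : Matrix (Fin n) (Fin n) F)).rank := by
        congr 1
        ext i j
        simp only [Matrix.map_apply, Matrix.sub_apply, Matrix.smul_apply, Matrix.one_apply,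
          smul_eq_mul, map_sub, map_mul]
        congr 2
        split_ifs <;> simp
    _ = (Mᵀ * (M.map σ - σ μ • (1 : Matrix (Fin n) (Fin n) F))).rank :=
        (Matrix.rank_mul_eq_right_of_isUnit_det _ _ hdetT).symm
    _ = ((-(σ μ)) • (M - (σ μ)⁻¹ • (1 : Matrix (Fin n) (Fin n) F)))ᵀ.rank := by
        congr 1
        rw [Matrix.mul_sub, hmat, Matrix.mul_smul, Matrix.mul_one]
        ext i j
        simp only [Matrix.transpose_apply, Matrix.sub_apply, Matrix.smul_apply, Matrix.one_apply,
          smul_eq_mul]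
        by_cases hij : i = j
        · subst hij
          rw [if_pos rfl]
          field_simp
          ring
        · rw [if_neg hij, if_neg (Ne.symm hij)]
          ring
    _ = (M - (σ μ)⁻¹ • (1 : Matrix (Fin n) (Fin n) F)).rank := by
        rw [Matrix.rank_transpose, Matrix.rank_smul_of_mem_nonZeroDivisors _
          (mem_nonZeroDivisors_of_ne_zero (neg_ne_zero.mpr hσμ))]
    _ = (M - (μ ^ q₀)⁻¹ • (1 : Matrix (Fin n) (Fin n) F)).rank := by rw [hσ]

end Cfsg.Agent.Lib.Helper16.U82
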