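import Mathlib
import Cfsg.Agent.Lib.Helper16.U82.Defs
import Cfsg.Agent.Lib.Helper16.U82A45
import Cfsg.Agent.Lib.Helper24.U82E1

set_option autoImplicit false

namespace Cfsg.Agent.Lib.Helper16.U82

open Matrix Cfsg.Agent.Lib.Helper16
open scoped MatrixGroups

theorem u82e2_mult_Dg_pos {F : Type*} [Field F] {n r : ℕ} [NeZero r] (ζ : F)
    (a : Fin n → ZMod r) (μ : F) (h : PGLR.mult (PGLR.Dg ζ a) μ ≠ 0) :
    ∃ i, PGLR.ev ζ (a i) = μ := by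
  unfold PGLR.Dg at h
  rw [PGLR.mult_diag] at h
  by_contra hne
  apply h
  have : IsEmpty {i : Fin n // PGLR.ev ζ (a i) = μ} := ⟨fun i => hne ⟨i.1, i.2⟩⟩
  exact Nat.card_of_isEmpty

theorem u82e2_cnt_pos {n r : ℕ} (a : Fin n → ZMod r) (i : Fin n) : PGLR.cnt a (a i) ≠ 0 := by
  unfold PGLR.cnt
  rw [Nat.card_eq_fintype_card]
  have : Nonempty {k : Fin n // a k = a i} := ⟨⟨i, rfl⟩⟩
  exact Fintype.card_ne_zero

theorem u82_refl_of_conj {F : Type*} [Field F] [Fintype F] (q₀ n r : ℕ) [NeZero r]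
    (hF : Fintype.card F = q₀ ^ 2) (hn : 1 ≤ n)
    (f : (Fin n → F) → (Fin n → F) → F) (hf : Cfsg.Geo.IsUnitaryFormPow q₀ f)
    (ζ : F) (hζ : IsPrimitiveRoot ζ r) (hζq : ζ ^ q₀ = ζ) (a : Fin n → ZMod r) (c : Fˣ)
    (x : GL (Fin n) F) (hx : (x : Matrix (Fin n) (Fin n) F) = (c : F) • PGLR.Dg ζ a)
    (h : ConjInGL f x) : ∃ t : ZMod r, ∀ j, PGLR.cnt a j = PGLR.cnt a (t - j) := by
  obtain ⟨e, B, k, hB, hxe⟩ := u82_crit_out q₀ n hF hn f hf x h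
  have hζ1 : ζ ^ r = 1 := hζ.pow_eq_one
  have he0 : (e : F) ≠ 0 := e.ne_zero
  have hc0 : (c : F) ≠ 0 := c.ne_zero
  obtain ⟨d, hd⟩ : ∃ d : F, d = (e : F)⁻¹ * (c : F) := ⟨_, rfl⟩
  have hd0 : d ≠ 0 := by
    rw [hd]
    exact mul_ne_zero (inv_ne_zero he0) hc0
  have hkB : ((k * B * k⁻¹ : GL (Fin n) F) : Matrix (Fin n) (Fin n) F) = d • PGLR.Dg ζ a := by
    rw [hx] at hxe
    rw [hd, mul_smul, hxe, smul_smul, inv_mul_cancel₀ he0, one_smul]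
  have hint : (d • PGLR.Dg ζ a) * (k : Matrix (Fin n) (Fin n) F) =
      (k : Matrix (Fin n) (Fin n) F) * (B : Matrix (Fin n) (Fin n) F) := by
    rw [← hkB, ← Matrix.GeneralLinearGroup.coe_mul, ← Matrix.GeneralLinearGroup.coe_mul]
    congr 1
    group
  have hstar : ∀ μ : F, PGLR.mult (B : Matrix (Fin n) (Fin n) F) μ =
      PGLR.mult (PGLR.Dg ζ a) (d⁻¹ * μ) := by
    intro μ
    rw [← PGLR.mult_smul _ d hd0]
    exact (PGLR.mult_of_intertwine _ _ _ (Matrix.isUnits_det_units k) hint μ).symm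
  have hevq : ∀ j : ZMod r, (PGLR.ev ζ j) ^ q₀ = PGLR.ev ζ j := by
    intro j
    unfold PGLR.ev
    rw [← pow_mul, mul_comm, pow_mul, hζq]
  obtain ⟨N, hN⟩ : ∃ N : F, N = (d * d ^ q₀)⁻¹ := ⟨_, rfl⟩
  have hkey : ∀ j : ZMod r, PGLR.cnt a j = PGLR.mult (PGLR.Dg ζ a) (N * PGLR.ev ζ (-j)) := by
    intro j
    have hne : d * PGLR.ev ζ j ≠ 0 := mul_ne_zero hd0 (PGLR.ev_ne_zero ζ hζ1 j)
    rw [← PGLR.mult_Dg ζ hζ a j]
    have h1 : PGLR.ev ζ j = d⁻¹ * (d * PGLR.ev ζ j) := by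
      rw [← mul_assoc, inv_mul_cancel₀ hd0, one_mul]
    conv_lhs => rw [h1]
    rw [← hstar, u82_mult_gu q₀ n hF B hB _ hne, hstar]
    congr 1
    rw [hN, PGLR.ev_neg ζ hζ1, mul_pow, hevq]
    have hdq : d ^ q₀ ≠ 0 := pow_ne_zero _ hd0
    have hev0 := PGLR.ev_ne_zero ζ hζ1 j
    field_simp
  have hi0 : ∃ i : Fin n, True := ⟨⟨0, hn⟩, trivial⟩
  obtain ⟨i0, -⟩ := hi0
  have hpos : PGLR.mult (PGLR.Dg ζ a) (N * PGLR.ev ζ (-(a i0))) ≠ 0 := by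
    rw [← hkey]
    exact u82e2_cnt_pos a i0
  obtain ⟨i1, hi1⟩ := u82e2_mult_Dg_pos ζ a _ hpos
  refine ⟨a i1 + a i0, ?_⟩
  intro j
  have hNt : N = PGLR.ev ζ (a i1 + a i0) := by
    rw [PGLR.ev_add ζ hζ1, hi1, PGLR.ev_neg ζ hζ1, mul_assoc,
      inv_mul_cancel₀ (PGLR.ev_ne_zero ζ hζ1 _), mul_one]
  rw [hkey j, hNt, ← PGLR.ev_add ζ hζ1, ← sub_eq_add_neg, PGLR.mult_Dg ζ hζ]

end Cfsg.Agent.Lib.Helper16.U82
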