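import Mathlib
import Cfsg.Agent.Lib.Helper16.U82.Defs

set_option autoImplicit false

namespace Cfsg.Agent.Lib.Helper16.U82

open Matrix Cfsg.Agent.Lib.Helper16
open scoped MatrixGroups

theorem u82e3_cnt_eq {n r : ℕ} (a : Fin n → ZMod r) (j : ZMod r) [DecidableEq (ZMod r)] :
    PGLR.cnt a j = (Finset.univ.filter (fun i => a i = j)).card := by
  unfold PGLR.cnt
  rw [Nat.card_eq_fintype_card, Fintype.card_subtype]

theorem u82e3_sum_cnt {n r : ℕ} [NeZero r] (a : Fin n → ZMod r) :
    ∑ i, a i = ∑ j : ZMod r, (PGLR.cnt a j) • j := by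
  classical
  rw [← Finset.sum_fiberwise Finset.univ a (fun i => a i)]
  apply Finset.sum_congr rfl
  intro j _
  rw [u82e3_cnt_eq, ← Finset.sum_const]
  apply Finset.sum_congr rfl
  intro i hi
  exact (Finset.mem_filter.mp hi).2

theorem u82e3_of_counts {n r : ℕ} [NeZero r] (m : ZMod r → ℕ) (hm : ∑ j, m j = n)
    (hns : ∀ j, m j ≠ n) (hasym : ∀ t : ZMod r, ∃ j, m j ≠ m (t - j)) :
    ∃ a : Fin n → ZMod r, ∑ i, a i = ∑ j : ZMod r, m j • j ∧ (∀ j, PGLR.cnt a j ≠ n) ∧
      ∀ t : ZMod r, ∃ j, PGLR.cnt a j ≠ PGLR.cnt a (t - j) := by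
  obtain ⟨a, ha⟩ := PGLR.exists_labelling m hm
  refine ⟨a, ?_, ?_, ?_⟩
  · rw [u82e3_sum_cnt]
    apply Finset.sum_congr rfl
    intro j _
    rw [ha]
  · intro j
    rw [ha]
    exact hns j
  · intro t
    obtain ⟨j, hj⟩ := hasym t
    exact ⟨j, by rw [ha, ha]; exact hj⟩

theorem u82e3_natCast_ne_zero {r : ℕ} (k : ℕ) (hk : 0 < k) (hkr : k < r) : (k : ZMod r) ≠ 0 := by
  intro h
  rw [ZMod.natCast_eq_zero_iff] at h
  exact absurd (Nat.le_of_dvd hk h) (by omega)

theorem u82e3_three (n : ℕ) (hn : 3 ≤ n) (h3 : n ≠ 3) (h6 : n ≠ 6) :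
    ∃ a : Fin n → ZMod 3, ∑ i, a i = 0 ∧ (∀ j, PGLR.cnt a j ≠ n) ∧
      ∀ t : ZMod 3, ∃ j, PGLR.cnt a j ≠ PGLR.cnt a (t - j) := by
  let m : ZMod 3 → ℕ := fun j => if j = 0 then n - 3 else if j = 2 then 3 else 0
  have hm0 : m 0 = n - 3 := rfl
  have hm1 : m 1 = 0 := rfl
  have hm2 : m 2 = 3 := rfl
  have hsum : ∀ g : ZMod 3 → ZMod 3, ∑ j : ZMod 3, g j = g 0 + g 1 + g 2 := by
    intro g
    exact Fin.sum_univ_three g
  have hsumN : ∑ j : ZMod 3, m j = m 0 + m 1 + m 2 := Fin.sum_univ_three m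
  obtain ⟨a, ha, h1, h2⟩ := u82e3_of_counts (n := n) (r := 3) m
    (by rw [hsumN, hm0, hm1, hm2]; omega)
    (by
      intro j
      fin_cases j
      · show m 0 ≠ n
        rw [hm0]; omega
      · show m 1 ≠ n
        rw [hm1]; omega
      · show m 2 ≠ n
        rw [hm2]; omega)
    (by
      intro t
      fin_cases t
      · refine ⟨2, ?_⟩
        show m 2 ≠ m 1
        rw [hm2, hm1]; omega
      · refine ⟨0, ?_⟩
        show m 0 ≠ m 1
        rw [hm0, hm1]; omega
      · refine ⟨0, ?_⟩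
        show m 0 ≠ m 2
        rw [hm0, hm2]; omega)
  refine ⟨a, ?_, h1, h2⟩
  rw [ha, hsum, hm0, hm1, hm2]
  have h33 : (3 : ℕ) • (2 : ZMod 3) = 0 := by decide
  rw [smul_zero, zero_smul, h33, add_zero, add_zero]

theorem u82e3_big (n r : ℕ) [NeZero r] (hr : r.Prime) (hr5 : 5 ≤ r) (hn : 3 ≤ n)
    (hexc : ¬ (n = 5 ∧ r = 5)) :
    ∃ a : Fin n → ZMod r, ∑ i, a i = 0 ∧ (∀ j, PGLR.cnt a j ≠ n) ∧
      ∀ t : ZMod r, ∃ j, PGLR.cnt a j ≠ PGLR.cnt a (t - j) := by
  classical
  have : Fact r.Prime := ⟨hr⟩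
  have h2 : (2 : ZMod r) ≠ 0 := by
    have := u82e3_natCast_ne_zero (r := r) 2 (by norm_num) (by omega)
    exact_mod_cast this
  have h3 : (3 : ZMod r) ≠ 0 := by
    have := u82e3_natCast_ne_zero (r := r) 3 (by norm_num) (by omega)
    exact_mod_cast this
  have h4 : (4 : ZMod r) ≠ 0 := by
    have : (4 : ZMod r) = 2 * 2 := by norm_num
    rw [this]
    exact mul_ne_zero h2 h2
  have h6 : (6 : ZMod r) ≠ 0 := by
    have : (6 : ZMod r) = 2 * 3 := by norm_num
    rw [this]
    exact mul_ne_zero h2 h3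
  have h10 : (1 : ZMod r) ≠ 0 := one_ne_zero
  have h1m2 : (1 : ZMod r) ≠ -2 := by
    intro h
    apply h3
    linear_combination h
  have hm20 : (-2 : ZMod r) ≠ 0 := by
    intro h
    apply h2
    linear_combination -h
  let m : ZMod r → ℕ := fun j => if j = 1 then 2 else if j = -2 then 1 else if j = 0 then n - 3 else 0
  have hmdef : ∀ j, m j = if j = 1 then 2 else if j = -2 then 1 else if j = 0 then n - 3 else 0 :=
    fun j => rfl
  have hm1 : m 1 = 2 := by rw [hmdef, if_pos rfl]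
  have hmm2 : m (-2) = 1 := by rw [hmdef, if_neg (Ne.symm h1m2), if_pos rfl]
  have hm_eq : ∀ j, m j = (if j = 1 then 2 else 0) + (if j = -2 then 1 else 0)
      + (if j = 0 then n - 3 else 0) := by
    intro j
    rw [hmdef]
    by_cases hj1 : j = 1
    · rw [if_pos hj1, if_pos hj1, if_neg (by rw [hj1]; exact h1m2), if_neg (by rw [hj1]; exact h10)]
    · rw [if_neg hj1, if_neg hj1]
      by_cases hj2 : j = -2
      · rw [if_pos hj2, if_pos hj2, if_neg (by rw [hj2]; exact hm20)]
      · rw [if_neg hj2, if_neg hj2, zero_add, zero_add]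
  obtain ⟨a, ha, hns, hasym⟩ := u82e3_of_counts (n := n) (r := r) m
    (by
      simp only [hm_eq]
      rw [Finset.sum_add_distrib, Finset.sum_add_distrib, Finset.sum_ite_eq', Finset.sum_ite_eq',
        Finset.sum_ite_eq']
      simp only [Finset.mem_univ, if_true]
      omega)
    (by
      intro j
      rw [hmdef]
      split_ifs <;> omega)
    (by
      intro t
      by_cases hA : t = 2
      · refine ⟨-2, ?_⟩
        have h4' : t - -2 = 4 := by rw [hA]; norm_num
        rw [h4', hmm2, hmdef, if_neg (fun h => h3 (by linear_combination h)),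
          if_neg (fun h => h6 (by linear_combination h)), if_neg h4]
        omega
      · by_cases hB : t = 1 ∧ n = 5
        · refine ⟨-2, ?_⟩
          have h3' : t - -2 = 3 := by rw [hB.1]; norm_num
          have hr7 : 7 ≤ r := by
            have h5 : r ≠ 5 := fun h => hexc ⟨hB.2, h⟩
            have h6' : r ≠ 6 := by
              rintro rfl
              exact absurd hr (by norm_num)
            omega
          have h5 : (5 : ZMod r) ≠ 0 := by
            have := u82e3_natCast_ne_zero (r := r) 5 (by norm_num) (by omega)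
            exact_mod_cast this
          rw [h3', hmm2, hmdef, if_neg (fun h => h2 (by linear_combination h)),
            if_neg (fun h => h5 (by linear_combination h)), if_neg h3]
          omega
        · refine ⟨1, ?_⟩
          rw [hm1, hmdef]
          have hne1 : ¬ (t - 1 = 1) := fun h => hA (by linear_combination h)
          rw [if_neg hne1]
          by_cases hC : t - 1 = -2
          · rw [if_pos hC]
            omega
          · rw [if_neg hC]
            by_cases hD : t - 1 = 0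
            · rw [if_pos hD]
              have ht1 : t = 1 := by linear_combination hD
              have hn5 : n ≠ 5 := fun h => hB ⟨ht1, h⟩
              omega
            · rw [if_neg hD]
              omega)
  refine ⟨a, ?_, hns, hasym⟩
  rw [ha]
  simp only [hm_eq, add_smul, ite_smul, zero_smul]
  rw [Finset.sum_add_distrib, Finset.sum_add_distrib, Finset.sum_ite_eq', Finset.sum_ite_eq',
    Finset.sum_ite_eq']
  simp only [Finset.mem_univ, if_true, smul_zero, add_zero, one_smul, two_smul]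
  ring

theorem u82_comb_der (n r : ℕ) [NeZero r] (hr : r.Prime) (hr2 : r ≠ 2) (hn : 3 ≤ n)
    (hgap : ¬ (n = 6 ∧ r = 3)) (hexc : ¬ (n = r ∧ (r = 3 ∨ r = 5))) :
    ∃ a : Fin n → ZMod r, ∑ i, a i = 0 ∧ (∀ j, PGLR.cnt a j ≠ n) ∧
      ∀ t : ZMod r, ∃ j, PGLR.cnt a j ≠ PGLR.cnt a (t - j) := by
  by_cases h3 : r = 3
  · subst h3
    exact u82e3_three n hn (fun h => hexc ⟨h, Or.inl rfl⟩) (fun h => hgap ⟨h, rfl⟩)
  · have hr5 : 5 ≤ r := by
      have h2 := hr.two_le
      have h4 : r ≠ 4 := by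
        rintro rfl
        exact absurd hr (by norm_num)
      omega
    exact u82e3_big n r hr hr5 hn (fun h => hexc ⟨h.1.trans h.2.symm, Or.inr h.2⟩)

end Cfsg.Agent.Lib.Helper16.U82
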