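import Mathlib
import Cfsg.Agent.Lib.Helper16.U82.Defs
import Cfsg.Agent.Lib.Helper24.U82E3

set_option autoImplicit false

namespace Cfsg.Agent.Lib.Helper16.U82

open Matrix Cfsg.Agent.Lib.Helper16
open scoped MatrixGroups

theorem u82e4_three : ∃ a : Fin 3 → ZMod 3, (∀ j, PGLR.cnt a j ≠ 3) ∧
    ∀ t : ZMod 3, ∃ j, PGLR.cnt a j ≠ PGLR.cnt a (t - j) := by
  obtain ⟨a, -, h1, h2⟩ := u82e3_of_counts (n := 3) (r := 3) (fun j : ZMod 3 => j.val)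
    (by decide) (by decide) (by decide)
  exact ⟨a, h1, h2⟩

theorem u82e4_five : ∃ a : Fin 5 → ZMod 5, (∀ j, PGLR.cnt a j ≠ 5) ∧
    ∀ t : ZMod 5, ∃ j, PGLR.cnt a j ≠ PGLR.cnt a (t - j) := by
  obtain ⟨a, -, h1, h2⟩ := u82e3_of_counts (n := 5) (r := 5)
    (fun j : ZMod 5 => if j = 0 then 2 else if j = 4 then 0 else 1)
    (by decide) (by decide) (by decide)
  exact ⟨a, h1, h2⟩

theorem u82_comb_der_exc (r : ℕ) [NeZero r] (hr : r = 3 ∨ r = 5) :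
    ∃ a : Fin r → ZMod r, (∀ j, PGLR.cnt a j ≠ r) ∧
      ∀ t : ZMod r, ∃ j, PGLR.cnt a j ≠ PGLR.cnt a (t - j) := by
  rcases hr with rfl | rfl
  · exact u82e4_three
  · exact u82e4_five

end Cfsg.Agent.Lib.Helper16.U82
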