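import Mathlib
import Cfsg.Agent.Lib.Helper16.U82.Defs
import Cfsg.Agent.Lib.Helper16.U82Misc
import Cfsg.Agent.Lib.Helper24.U82E2
import Cfsg.Agent.Lib.Helper24.U82E3
import Cfsg.Agent.Lib.Helper24.U82E4

set_option autoImplicit false

namespace Cfsg.Agent.Lib.Helper16.U82

open Matrix Cfsg.Agent.Lib.Helper16
open scoped MatrixGroups

theorem u82e6_rth_power {F : Type*} [Field F] [Fintype F] (r : ℕ) (hr : 0 < r)
    (h : r ^ 2 ∣ Fintype.card F - 1) (w : F) (hw : w ^ r = 1) : ∃ c : F, c ^ r = w := by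
  classical
  have hw0 : w ≠ 0 := by
    rintro rfl
    rw [zero_pow hr.ne'] at hw
    exact zero_ne_one hw
  obtain ⟨g, hg⟩ := IsCyclic.exists_monoid_generator (α := Fˣ)
  obtain ⟨k, hk⟩ := (Submonoid.mem_powers_iff _ _).mp (hg (Units.mk0 w hw0))
  have hord : orderOf g = Fintype.card F - 1 := by
    rw [← Fintype.card_units, ← Nat.card_eq_fintype_card]
    apply orderOf_eq_card_of_forall_mem_zpowers
    intro x
    exact Submonoid.powers_le_zpowers g (hg x)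
  obtain ⟨m, hm⟩ := h
  have h1 : g ^ (k * r) = 1 := by
    rw [pow_mul, hk]
    apply Units.ext
    rw [Units.val_pow_eq_pow_val, Units.val_mk0, hw, Units.val_one]
  have h2 : orderOf g ∣ k * r := orderOf_dvd_of_pow_eq_one h1
  rw [hord, hm] at h2
  have h3 : r * m ∣ k := by
    have h4 : r * (r * m) ∣ r * k := by
      have e1 : r * (r * m) = r ^ 2 * m := by ring
      have e2 : r * k = k * r := by ring
      rw [e1, e2]
      exact h2
    exact (Nat.mul_dvd_mul_iff_left hr).mp h4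
  obtain ⟨l, hl⟩ := h3
  refine ⟨((g ^ (m * l) : Fˣ) : F), ?_⟩
  rw [← Units.val_pow_eq_pow_val, ← pow_mul]
  have e3 : m * l * r = k := by
    rw [hl]
    ring
  rw [e3, hk, Units.val_mk0]

theorem u82_der_c {F : Type*} [Field F] [Fintype F] (q₀ n : ℕ) (hF : Fintype.card F = q₀ ^ 2)
    (hn : 3 ≤ n) (f : (Fin n → F) → (Fin n → F) → F) (hf : Cfsg.Geo.IsUnitaryFormPow q₀ f)
    (r : ℕ) (hr : r.Prime) (hr2 : r ≠ 2) (hrq : r ∣ q₀ - 1) (hgap : ¬ (n = 6 ∧ r = 3))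
    (hexc : ¬ ((r = 3 ∨ r = 5) ∧ n = r ∧ padicValNat r (q₀ - 1) = 1)) :
    ∃ x : GL (Fin n) F, x ∈ Cfsg.Geo.specialLinear (Fin n) F ∧
      (∃ z : F, ((x ^ r : GL (Fin n) F) : Matrix (Fin n) (Fin n) F) =
        z • (1 : Matrix (Fin n) (Fin n) F)) ∧
      (∀ z : F, (x : Matrix (Fin n) (Fin n) F) ≠ z • (1 : Matrix (Fin n) (Fin n) F)) ∧
      ¬ ConjInGL f x := by
  classical
  obtain ⟨ζ, hζ, hζq⟩ := u82_zeta q₀ r hF hr hrq
  have hne : NeZero r := ⟨hr.ne_zero⟩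
  have hfact : Fact r.Prime := ⟨hr⟩
  have hζ1 : ζ ^ r = 1 := hζ.pow_eq_one
  obtain ⟨a, c, hc0, hdet, hns, hasym⟩ : ∃ (a : Fin n → ZMod r) (c : F), c ≠ 0 ∧
      c ^ n * PGLR.ev ζ (∑ i, a i) = 1 ∧ (∀ j, PGLR.cnt a j ≠ n) ∧
      ∀ t : ZMod r, ∃ j, PGLR.cnt a j ≠ PGLR.cnt a (t - j) := by
    by_cases hcase : n = r ∧ (r = 3 ∨ r = 5)
    · obtain ⟨hnr, hr35⟩ := hcase
      subst hnr
      obtain ⟨a, hns, hasym⟩ := u82_comb_der_exc n hr35
      have hv : padicValNat n (q₀ - 1) ≠ 1 := fun hv => hexc ⟨hr35, rfl, hv⟩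
      have hq1 : q₀ - 1 ≠ 0 := by
        have h1 : 1 < Fintype.card F := Fintype.one_lt_card
        rw [hF] at h1
        have h2 : 1 < q₀ := by
          by_contra hcon
          have h3 : q₀ ≤ 1 := by omega
          have h4 : q₀ ^ 2 ≤ 1 ^ 2 := Nat.pow_le_pow_left h3 2
          omega
        omega
      have hv1 : 1 ≤ padicValNat n (q₀ - 1) := one_le_padicValNat_of_dvd hq1 hrq
      have hsq : n ^ 2 ∣ q₀ - 1 := (padicValNat_dvd_iff_le hq1).mpr (by omega)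
      have hsq' : n ^ 2 ∣ Fintype.card F - 1 := by
        rw [hF]
        exact hsq.trans (Nat.sub_one_dvd_pow_sub_one q₀ 2)
      have hev0 := PGLR.ev_ne_zero ζ hζ1 (∑ i, a i)
      obtain ⟨c, hc⟩ := u82e6_rth_power n hr.pos hsq' (PGLR.ev ζ (∑ i, a i))⁻¹
        (by rw [inv_pow, PGLR.ev_pow ζ hζ1, inv_one])
      refine ⟨a, c, ?_, ?_, hns, hasym⟩
      · rintro rfl
        rw [zero_pow hr.ne_zero] at hc
        exact inv_ne_zero hev0 hc.symm
      · rw [hc, inv_mul_cancel₀ hev0]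
    · obtain ⟨a, hsum, hns, hasym⟩ := u82_comb_der n r hr hr2 hn hgap hcase
      exact ⟨a, 1, one_ne_zero, by rw [hsum, PGLR.ev_zero, one_pow, one_mul], hns, hasym⟩
  have hdetM : (c • PGLR.Dg ζ a).det = 1 := by
    rw [Matrix.det_smul, Fintype.card_fin, u82_det_Dg n r ζ hζ1 a, hdet]
  obtain ⟨x, hxval⟩ : ∃ x : GL (Fin n) F, (x : Matrix (Fin n) (Fin n) F) = c • PGLR.Dg ζ a :=
    ⟨Matrix.GeneralLinearGroup.mkOfDetNeZero (c • PGLR.Dg ζ a) (by rw [hdetM]; exact one_ne_zero),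
      rfl⟩
  refine ⟨x, ?_, ⟨c ^ r, ?_⟩, ?_, ?_⟩
  · show x ∈ (Matrix.GeneralLinearGroup.det : GL (Fin n) F →* Fˣ).ker
    rw [MonoidHom.mem_ker]
    apply Units.ext
    rw [Matrix.GeneralLinearGroup.val_det_apply, hxval, hdetM, Units.val_one]
  · rw [Units.val_pow_eq_pow_val, hxval, smul_pow, PGLR.Dg_pow ζ hζ1]
  · intro z hz
    rw [hxval] at hz
    have hsc : ∃ c' : F, PGLR.Dg ζ a = c' • 1 :=
      ⟨c⁻¹ * z, by rw [mul_smul, ← hz, smul_smul, inv_mul_cancel₀ hc0, one_smul]⟩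
    obtain ⟨j, hj⟩ := (PGLR.Dg_scalar_iff ζ hζ (by omega) a).mp hsc
    exact hns j hj
  · intro hconj
    obtain ⟨t, ht⟩ := u82_refl_of_conj q₀ n r hF (by omega) f hf ζ hζ hζq a (Units.mk0 c hc0) x
      hxval hconj
    obtain ⟨j, hj⟩ := hasym t
    exact hj (ht j)

end Cfsg.Agent.Lib.Helper16.U82
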