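import Mathlib
import Cfsg.Prelude.Def_GeometricClasses
import Cfsg.Agent.Lib.Helper27.ASC.Defs
import Cfsg.Agent.Lib.Helper19.ASG.Defs
import Cfsg.Agent.Lib.Helper18.ASP.Defs
import Cfsg.Agent.Lib.Helper18.ASPADJ
import Cfsg.Agent.Lib.Helper18.ASPABGEN

set_option autoImplicit false
set_option linter.unusedVariables false
set_option linter.unusedSectionVars false

namespace Cfsg.Agent.Lib.Helper18.ASP

open Cfsg Cfsg.Geo Cfsg.Agent.Lib.Helper27.ASC Cfsg.Agent.Lib.Helper19.ASG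
open scoped MatrixGroups Matrix

variable {n : ℕ} {F : Type*} [Field F] [Fintype F]

theorem aspabsq_two_eq_zero (hF : ¬ Odd (Fintype.card F)) : (2 : F) = 0 := by
  have h1 : ringChar F = 2 := by
    apply FiniteField.even_card_iff_char_two.mpr
    exact Nat.even_iff.mp (Nat.not_odd_iff_even.mp hF)
  haveI : CharP F 2 := ringChar.of_eq h1
  exact CharTwo.two_eq_zero

theorem aspabsq_two_ne_zero (hF : Odd (Fintype.card F)) : (2 : F) ≠ 0 := by
  intro h2
  haveI : CharP F 2 := CharTwo.of_one_ne_zero_of_two_eq_zero one_ne_zero h2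
  have h1 : ringChar F = 2 := ringChar.eq F 2
  have h3 := FiniteField.even_card_iff_char_two.mp h1
  rcases hF with ⟨k, hk⟩
  omega

theorem ab_square (hF : ¬ Odd (Fintype.card F)) {r : ℕ} (K : Subalgebra F (Matrix (Fin n) (Fin n) F))
    (hK : IsFieldSubalgebra r K) (k : Matrix (Fin n) (Fin n) F) (hk : k ∈ K) : ∃ s ∈ K, s * s = k := by
  have h2 : (2 : F) = 0 := aspabsq_two_eq_zero hF
  have hadd : ∀ x : Matrix (Fin n) (Fin n) F, x + x = 0 := fun x => by
    rw [← two_smul F x, h2, zero_smul]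
  let φ : K → K := fun x => ⟨x.1 * x.1, K.mul_mem x.2 x.2⟩
  have hinj : Function.Injective φ := by
    intro x y hxy
    have h1 : x.1 * x.1 = y.1 * y.1 := congrArg Subtype.val hxy
    have hc := hK.comm x.1 x.2 y.1 y.2
    have hd : (x.1 - y.1) * (x.1 - y.1) = 0 := by
      have e1 : (x.1 - y.1) * (x.1 - y.1) = x.1 * x.1 + y.1 * y.1 - (x.1 * y.1 + y.1 * x.1) := by
        noncomm_ring
      rw [e1, ← hc, hadd, h1, hadd, sub_zero]
    by_contra hne
    have hne' : x.1 - y.1 ≠ 0 := fun h0 => hne (Subtype.ext (sub_eq_zero.mp h0))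
    obtain ⟨z, hz, hz1⟩ := hK.inv (x.1 - y.1) (K.sub_mem x.2 y.2) hne'
    apply hne'
    calc x.1 - y.1 = (x.1 - y.1) * ((x.1 - y.1) * z) := by rw [hz1, mul_one]
      _ = ((x.1 - y.1) * (x.1 - y.1)) * z := by rw [mul_assoc]
      _ = 0 := by rw [hd, zero_mul]
  have hsurj := Finite.surjective_of_injective hinj
  obtain ⟨s, hs⟩ := hsurj ⟨k, hk⟩
  exact ⟨s.1, s.2, congrArg Subtype.val hs⟩

end Cfsg.Agent.Lib.Helper18.ASP
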