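import Mathlib
import Cfsg.Prelude.Def_GeometricClasses
import Cfsg.Agent.Lib.Helper27.ASC.Defs
import Cfsg.Agent.Lib.Helper19.ASG.Defs
import Cfsg.Agent.Lib.Helper18.ASP.Defs
import Cfsg.Agent.Lib.Helper18.ASPADJ
import Cfsg.Agent.Lib.Helper18.ASPABGEN
import Cfsg.Agent.Lib.Helper1.ASGCLIF4
import Cfsg.Agent.Lib.Helper24.ASPABSQ

set_option autoImplicit false
set_option linter.unusedVariables false
set_option linter.unusedSectionVars false

namespace Cfsg.Agent.Lib.Helper18.ASP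

open Cfsg Cfsg.Geo Cfsg.Agent.Lib.Helper27.ASC Cfsg.Agent.Lib.Helper19.ASG
open scoped MatrixGroups Matrix

variable {n : ℕ} {F : Type*} [Field F] [Fintype F]

theorem aspabsa_normalizes (f : (Fin n → F) → (Fin n → F) → F) (hf : IsSymplecticForm f)
    {H N : Subgroup (GL (Fin n) F)} (hI : H ≤ isoGL f) (hN : NormalIn N H) :
    H ≤ subalgebraNormalizer (aspZ0 hf N) := by
  intro h hh k
  constructor
  · intro hk
    exact aspZ0_conj hf hI hN h hh k hk
  · intro hk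
    have h1 := aspZ0_conj hf hI hN h⁻¹ (H.inv_mem hh) _ hk
    have h2 : ((h⁻¹ : GL (Fin n) F) : Matrix (Fin n) (Fin n) F) *
        ((h : Matrix (Fin n) (Fin n) F) * k * ((h⁻¹ : GL (Fin n) F) : Matrix (Fin n) (Fin n) F)) *
        (((h⁻¹)⁻¹ : GL (Fin n) F) : Matrix (Fin n) (Fin n) F) = k := by
      have := asgclif_conj_inv_conj h k
      unfold asgConj at this
      exact this
    rw [h2] at h1
    exact h1

theorem ab_field_sa {m : ℕ} (f : (Fin n → F) → (Fin n → F) → F) (hf : IsSymplecticForm f)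
    {H N : Subgroup (GL (Fin n) F)} (hI : H ≤ isoGL f) (hN : NormalIn N H) {b₀ : ℕ}
    (hZ0 : IsFieldSubalgebra b₀ (aspZ0 hf N)) (hb₀ : 2 ≤ b₀) : InSp m f H := by
  obtain ⟨r, K, hr, hrb, hK, hKle, hnorm⟩ := asgclif_primesub (aspZ0 hf N) hZ0 hb₀
  have hsa : IsSelfAdjointFor f K := fun k hk => aspZ0_selfAdjoint hf N k (hKle hk)
  refine inSp_of_field_sa hI hr K hK hsa ?_ ((aspabsa_normalizes f hf hI hN).trans hnorm)
  intro k hk v
  by_cases hF : Odd (Fintype.card F)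
  · have h2 : (2 : F) ≠ 0 := aspabsq_two_ne_zero hF
    have h1 : f (k *ᵥ v) v = f v (k *ᵥ v) := hsa k hk v v
    have h3 : f v (k *ᵥ v) = - f (k *ᵥ v) v := hf.skew _ _
    have h4 : (2 : F) * f (k *ᵥ v) v = 0 := by
      rw [two_mul]
      nth_rewrite 1 [h1]
      rw [h3, neg_add_cancel]
    rcases mul_eq_zero.mp h4 with h5 | h5
    · exact absurd h5 h2
    · exact h5
  · obtain ⟨s, hs, hss⟩ := ab_square hF K hK k hk
    have h1 : f (s *ᵥ (s *ᵥ v)) v = f (s *ᵥ v) (s *ᵥ v) := hsa s hs (s *ᵥ v) v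
    rw [← hss, ← Matrix.mulVec_mulVec, h1]
    exact hf.alternating _

end Cfsg.Agent.Lib.Helper18.ASP
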