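import Cfsg.Agent.S0256
import Cfsg.Agent.S0249
import Cfsg.Agent.S0495

set_option autoImplicit false

namespace Cfsg.Agent.Lib.Helper24

open Matrix

theorem g42_unit_eq_one (u : (ZMod 2)ˣ) : u = 1 := by
  revert u; decide

theorem g42_det_eq_one {n : Type*} [Fintype n] [DecidableEq n] (g : GL n (ZMod 2)) :
    (g : Matrix n n (ZMod 2)).det = 1 := by
  have h := g42_unit_eq_one (Matrix.GeneralLinearGroup.det g)
  have h2 : ((Matrix.GeneralLinearGroup.det g : (ZMod 2)ˣ) : ZMod 2) =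
      (g : Matrix n n (ZMod 2)).det := rfl
  rw [← h2, h]; rfl

def g42_glSl (n : Type*) [Fintype n] [DecidableEq n] :
    GL n (ZMod 2) ≃* Matrix.SpecialLinearGroup n (ZMod 2) where
  toFun g := ⟨(g : Matrix n n (ZMod 2)), g42_det_eq_one g⟩
  invFun s := Matrix.SpecialLinearGroup.toGL s
  left_inv g := by
    apply Units.ext
    rfl
  right_inv s := by
    apply Subtype.ext
    rfl
  map_mul' g h := by
    apply Subtype.ext
    rfl

theorem g42_center_bot (n : Type*) [Fintype n] [DecidableEq n] :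
    Subgroup.center (Matrix.SpecialLinearGroup n (ZMod 2)) = ⊥ := by
  rw [eq_bot_iff]
  intro A hA
  rw [Matrix.SpecialLinearGroup.mem_center_iff] at hA
  obtain ⟨r, hr, hA⟩ := hA
  rw [Subgroup.mem_bot]
  apply Subtype.ext
  rw [← hA]
  rcases (by decide : ∀ r : ZMod 2, r = 0 ∨ r = 1) r with h | h
  · subst h
    rcases Nat.eq_zero_or_pos (Fintype.card n) with h0 | h0
    · have : IsEmpty n := Fintype.card_eq_zero_iff.1 h0
      exact Subsingleton.elim _ _
    · rw [zero_pow (by omega)] at hr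
      exact absurd hr zero_ne_one
  · subst h; simp

noncomputable def g42_slPsl (n : Type*) [Fintype n] [DecidableEq n] :
    Matrix.SpecialLinearGroup n (ZMod 2) ≃* Matrix.ProjectiveSpecialLinearGroup n (ZMod 2) :=
  (QuotientGroup.quotientBot.symm).trans
    (QuotientGroup.quotientMulEquivOfEq (g42_center_bot n).symm)

noncomputable def g42_glPsl (n : Type*) [Fintype n] [DecidableEq n] :
    GL n (ZMod 2) ≃* Matrix.ProjectiveSpecialLinearGroup n (ZMod 2) :=
  (g42_glSl n).trans (g42_slPsl n)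

theorem g42_gl4_embed : ∃ f : GL (Fin 4) (ZMod 2) →* Equiv.Perm (Fin 8),
    Function.Injective f ∧ ∀ g, Equiv.Perm.sign (f g) = 1 := by
  obtain ⟨e⟩ := Cfsg.Agent.S0256.result (F := ZMod 2) (by simp)
  refine ⟨(alternatingGroup (Fin 8)).subtype.comp
    (e.toMonoidHom.comp (g42_glPsl (Fin 4)).toMonoidHom), ?_, ?_⟩
  · intro a b hab
    have h1 : e (g42_glPsl (Fin 4) a) = e (g42_glPsl (Fin 4) b) := Subtype.ext hab
    exact (g42_glPsl (Fin 4)).injective (e.injective h1)
  · intro g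
    exact Equiv.Perm.mem_alternatingGroup.1 (e (g42_glPsl (Fin 4) g)).2

theorem g42_gl3_simple : IsSimpleGroup (GL (Fin 3) (ZMod 2)) := by
  have : IsSimpleGroup (Matrix.ProjectiveSpecialLinearGroup (Fin 3) (ZMod 2)) :=
    Cfsg.Agent.S0249.result 3 (le_refl 3)
  exact (g42_glPsl (Fin 3)).isSimpleGroup

theorem g42_gl3_card : Nat.card (GL (Fin 3) (ZMod 2)) = 168 := by
  rw [Matrix.card_GL_field (𝔽 := ZMod 2) 3, ZMod.card, Fin.prod_univ_three]
  rfl

theorem g42_gl4_card : Nat.card (GL (Fin 4) (ZMod 2)) = 20160 := by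
  rw [Matrix.card_GL_field (𝔽 := ZMod 2) 4, ZMod.card, Fin.prod_univ_four]
  rfl

theorem g42_iso_gl3 {H : Type*} [Group H] [Finite H] [IsSimpleGroup H]
    (h : Nat.card H = 168) : Nonempty (H ≃* GL (Fin 3) (ZMod 2)) := by
  have : Fact (Nat.Prime 7) := ⟨by norm_num⟩
  have := g42_gl3_simple
  obtain ⟨e1⟩ := Cfsg.Agent.S0495.result (G := H) h (F := ZMod 7) (by simp)
  obtain ⟨e2⟩ := Cfsg.Agent.S0495.result (G := GL (Fin 3) (ZMod 2)) g42_gl3_card
    (F := ZMod 7) (by simp)
  exact ⟨e1.trans e2.symm⟩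

end Cfsg.Agent.Lib.Helper24
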