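import Mathlib
import Cfsg.Agent.Lib.Helper24.TwoInvol

set_option autoImplicit false

namespace Cfsg.Agent.Lib.Helper24

variable {G : Type*} [Group G]

theorem ti_odd_conj {x y : G} (hx : orderOf x = 2) (hy : orderOf y = 2)
    (hodd : Odd (orderOf (x * y))) :
    ∃ d ∈ Subgroup.closure ({x, y} : Set G), d * x * d⁻¹ = y := by
  have hx2 := ti_sq_of_order hx
  have hy2 := ti_sq_of_order hy
  obtain ⟨c, hc⟩ := hodd
  refine ⟨(x * y) ^ (c : ℤ), ti_zpow_mem _, ?_⟩
  rw [ti_conj_by_zpow hx2 hy2]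
  have h1 : (-(2 * (c : ℤ))) = 1 - (orderOf (x * y) : ℤ) := by
    rw [hc]; push_cast; ring
  rw [h1, zpow_sub, zpow_one, zpow_natCast, pow_orderOf_eq_one, inv_one, mul_one, ← mul_assoc, hx2,
    one_mul]

theorem ti_even_central {x y : G} (hx : orderOf x = 2) (hy : orderOf y = 2)
    (heven : Even (orderOf (x * y))) (hfin : orderOf (x * y) ≠ 0) :
    orderOf ((x * y) ^ (orderOf (x * y) / 2)) = 2 ∧
      Commute ((x * y) ^ (orderOf (x * y) / 2)) x ∧ Commute ((x * y) ^ (orderOf (x * y) / 2)) y := by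
  have hx2 := ti_sq_of_order hx
  have hy2 := ti_sq_of_order hy
  have h2dvd : 2 ∣ orderOf (x * y) := heven.two_dvd
  have hord : orderOf ((x * y) ^ (orderOf (x * y) / 2)) = 2 :=
    orderOf_pow_orderOf_div hfin h2dvd
  set z := (x * y) ^ (orderOf (x * y) / 2) with hz
  have hzz : z * z = 1 := ti_sq_of_order hord
  have hzinv : z⁻¹ = z := ti_inv_of_sq hzz
  have hxz : Commute z x := by
    have h := ti_conj_zpow hx2 hy2 ((orderOf (x * y) / 2 : ℕ) : ℤ)
    rw [zpow_natCast, ← hz, hzinv] at h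
    have : x * z = z * x := by
      calc x * z = x * z * x⁻¹ * x := by rw [inv_mul_cancel_right]
        _ = z * x := by rw [h]
    exact this.symm
  refine ⟨hord, hxz, ?_⟩
  have hy' : y = x * (x * y) := by rw [← mul_assoc, hx2, one_mul]
  have hza : Commute z (x * y) := by
    rw [hz]; exact (Commute.refl _).pow_left _
  rw [hy']
  exact hxz.mul_right hza

theorem ti_even_not_conj {x y : G} (hx : orderOf x = 2) (hy : orderOf y = 2)
    (heven : Even (orderOf (x * y))) (d : G) (hd : d ∈ Subgroup.closure ({x, y} : Set G)) :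
    d * x * d⁻¹ ≠ y := by
  have hx2 := ti_sq_of_order hx
  have hy2 := ti_sq_of_order hy
  obtain ⟨m, hm⟩ := ti_conj_form hx2 hy2 d hd
  rw [hm]
  intro h
  have h1 : (x * y) ^ (2 * m) = (x * y) ^ (1 : ℤ) := by
    have hy' : y = x * (x * y) ^ (1 : ℤ) := ti_y_eq hx2
    rw [hy'] at h
    have := mul_left_cancel h
    rw [← hy'] at this
    exact this
  have h2 : (x * y) ^ (2 * m - 1) = 1 := by
    rw [zpow_sub, h1, mul_inv_cancel]
  have h3 : (orderOf (x * y) : ℤ) ∣ 2 * m - 1 := orderOf_dvd_iff_zpow_eq_one.mpr h2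
  have h4 : (2 : ℤ) ∣ (orderOf (x * y) : ℤ) := by exact_mod_cast heven.two_dvd
  have h5 : (2 : ℤ) ∣ 2 * m - 1 := dvd_trans h4 h3
  omega

theorem ti_even_conj_iff {x y : G} (hx : orderOf x = 2) (hy : orderOf y = 2)
    (heven : Even (orderOf (x * y))) :
    (∃ d ∈ Subgroup.closure ({x, y} : Set G),
      d * x * d⁻¹ = x * (x * y) ^ (orderOf (x * y) / 2)) ↔ 4 ∣ orderOf (x * y) := by
  have hx2 := ti_sq_of_order hx
  have hy2 := ti_sq_of_order hy
  obtain ⟨h, hh⟩ := heven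
  have hn2 : orderOf (x * y) / 2 = h := by omega
  constructor
  · rintro ⟨d, hd, hconj⟩
    obtain ⟨m, hm⟩ := ti_conj_form hx2 hy2 d hd
    rw [hm] at hconj
    have h1 := mul_left_cancel hconj
    rw [hn2, ← zpow_natCast] at h1
    have h2 : (x * y) ^ (2 * m - (h : ℤ)) = 1 := by
      rw [zpow_sub, h1, mul_inv_cancel]
    have h3 : (orderOf (x * y) : ℤ) ∣ 2 * m - h := orderOf_dvd_iff_zpow_eq_one.mpr h2
    have h4 : (2 : ℤ) ∣ (orderOf (x * y) : ℤ) := by
      rw [hh]; push_cast; omega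
    have h5 : (2 : ℤ) ∣ 2 * m - h := dvd_trans h4 h3
    have h6 : (2 : ℤ) ∣ (h : ℤ) := by omega
    have h7 : 2 ∣ h := by exact_mod_cast h6
    omega
  · intro h4
    obtain ⟨c, hc⟩ := h4
    have hh2 : h = 2 * c := by omega
    refine ⟨(x * y) ^ (-(c : ℤ)), ti_zpow_mem _, ?_⟩
    rw [ti_conj_by_zpow hx2 hy2, hn2, hh2, ← zpow_natCast]
    congr 2
    push_cast
    ring

end Cfsg.Agent.Lib.Helper24
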