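import Mathlib
import Cfsg.Agent.Lib.Helper24.KleinOrder7

set_option autoImplicit false
open scoped ComplexConjugate

namespace Cfsg.Agent.Lib.Helper24

open Cfsg.Agent.Lib.Helper25 Cfsg.Agent.Lib.helper7 Cfsg.Agent.Lib.helper2

theorem kf_arith (N c cP a f q : ℕ) (hc : 0 < c) (hcP : 0 < cP) (hf : 0 < f) (hq : q = 2 * f + 1)
    (hN : N = c * a) (hqa : q ∣ a) (hfa : f ∣ a)
    (hfull : N * ((f + 1) * (f + 1) * (2 * f)) * cP ^ 2 = 8 * c ^ 3 * (f * f * q)) :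
    ∃ m : ℕ, 4 * c = m * cP * (q + 1) ∧ 8 * N = m ^ 3 * cP * (q ^ 3 - q) := by
  have hcop : Nat.Coprime f q := by
    rw [hq]
    have : Nat.Coprime f (2 * f + 1) := by
      rw [Nat.coprime_mul_right_add_right]
      exact Nat.coprime_one_right f
    exact this
  obtain ⟨t, ht⟩ := hcop.mul_dvd_of_dvd_of_dvd hfa hqa
  have hqpos : 0 < q := by omega
  have h1 : t * ((q + 1) * cP) ^ 2 = (4 * c) ^ 2 := by
    have h2 : (2 * c * f * f * q) * (t * ((q + 1) * cP) ^ 2) = (2 * c * f * f * q) * (4 * c) ^ 2 := by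
      rw [hN, ht] at hfull
      have e : q + 1 = 2 * (f + 1) := by omega
      rw [e]
      have := congrArg (fun z => 4 * z) hfull
      calc 2 * c * f * f * q * (t * (2 * (f + 1) * cP) ^ 2)
          = 4 * (c * (f * q * t) * ((f + 1) * (f + 1) * (2 * f)) * cP ^ 2) := by ring
        _ = 4 * (8 * c ^ 3 * (f * f * q)) := this
        _ = 2 * c * f * f * q * (4 * c) ^ 2 := by ring
    have hpos : 0 < 2 * c * f * f * q := by positivity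
    exact Nat.eq_of_mul_eq_mul_left hpos h2
  have hdvd : ((q + 1) * cP) ^ 2 ∣ (4 * c) ^ 2 := ⟨t, by rw [← h1]; ring⟩
  rw [Nat.pow_dvd_pow_iff (by norm_num)] at hdvd
  obtain ⟨m, hm⟩ := hdvd
  have hX : 0 < (q + 1) * cP := by positivity
  have htm : t = m ^ 2 := by
    have h3 : ((q + 1) * cP) ^ 2 * t = ((q + 1) * cP) ^ 2 * m ^ 2 := by
      rw [mul_comm, h1, hm]
      ring
    exact Nat.eq_of_mul_eq_mul_left (by positivity) h3
  refine ⟨m, ?_, ?_⟩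
  · rw [hm]; ring
  · have hq3 : q ^ 3 - q = q * (2 * f) * (q + 1) := by
      have : q ^ 3 = q * (2 * f) * (q + 1) + q := by
        rw [hq]; ring
      rw [this, Nat.add_sub_cancel]
    rw [hq3, hN, ht, htm]
    calc 8 * (c * (f * q * m ^ 2)) = (4 * c) * (2 * f * q * m ^ 2) := by ring
      _ = ((q + 1) * cP * m) * (2 * f * q * m ^ 2) := by rw [hm]
      _ = m ^ 3 * cP * (q * (2 * f) * (q + 1)) := by ring

section KF8
variable {G : Type*} [Group G] [Fintype G]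

theorem kf_hrel (M : Ideal Cfsg.AlgInt) (hM : Cfsg.IsPModular 2 M) (J : G) (hJ2 : orderOf J = 2)
    (χ₁ χ₂ χ₃ : Cfsg.IrrCharacter G) (ε₁ ε₂ ε₃ : ℤ)
    (hB : Cfsg.principalBlock M G = {χ : Cfsg.IrrCharacter G |
      (χ : G → ℂ) = (fun _ => 1) ∨ χ = χ₁ ∨ χ = χ₂ ∨ χ = χ₃})
    (hdist : (χ₁ : G → ℂ) ≠ (fun _ => 1) ∧ (χ₂ : G → ℂ) ≠ (fun _ => 1) ∧
      (χ₃ : G → ℂ) ≠ (fun _ => 1) ∧ χ₁ ≠ χ₂ ∧ χ₁ ≠ χ₃ ∧ χ₂ ≠ χ₃)
    (hval : (χ₁ : G → ℂ) J = ε₁ ∧ (χ₂ : G → ℂ) J = ε₂ ∧ (χ₃ : G → ℂ) J = ε₃) :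
    (1 : ℤ) + ε₁ * Cfsg.charDegree (χ₁ : G → ℂ) + ε₂ * Cfsg.charDegree (χ₂ : G → ℂ) +
      ε₃ * Cfsg.charDegree (χ₃ : G → ℂ) = 0 := by
  classical
  haveI : Fact (Nat.Prime 2) := ⟨Nat.prime_two⟩
  have hJ1 : J ≠ 1 := by
    intro hJ
    rw [hJ, orderOf_one] at hJ2
    omega
  obtain ⟨hd1, hp1⟩ := charDegree_irr χ₁
  obtain ⟨hd2, hp2⟩ := charDegree_irr χ₂
  obtain ⟨hd3, hp3⟩ := charDegree_irr χ₃
  have hJpart : Cfsg.IsPPart 2 J J :=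
    ⟨1, mul_one J, Commute.one_right J, ⟨1, by rw [hJ2, pow_one]⟩, by simp⟩
  have h1part : Cfsg.IsPPart 2 (1 : G) 1 :=
    ⟨1, mul_one 1, Commute.one_right 1, ⟨0, by simp⟩, by simp⟩
  have hnc : ¬ IsConj J 1 := by
    intro hc
    exact hJ1 (isConj_one_right.mp hc.symm)
  have h925 := (Cfsg.Agent.S0925.result 2 M hM).2 J 1 J 1 hJpart h1part hnc
    (Cfsg.principalBlock M G) ⟨trivIrr G, rfl⟩
  rw [kf_finsum_four M χ₁ χ₂ χ₃ hB hdist, inv_one, hval.1, hval.2.1, hval.2.2, ← hd1, ← hd2,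
    ← hd3] at h925
  simp only [trivIrr_apply, mul_one] at h925
  have : ((1 + ε₁ * Cfsg.charDegree (χ₁ : G → ℂ) + ε₂ * Cfsg.charDegree (χ₂ : G → ℂ) +
      ε₃ * Cfsg.charDegree (χ₃ : G → ℂ) : ℤ) : ℂ) = 0 := by
    push_cast
    linear_combination h925
  exact_mod_cast this

end KF8

end Cfsg.Agent.Lib.Helper24
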