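import Mathlib
import Cfsg.Agent.Lib.Helper18.SNA.Defs

set_option autoImplicit false
set_option linter.style.haveILetI false
set_option linter.unusedVariables false

namespace Cfsg.Agent.Lib.Helper24.SNA

open Cfsg.Agent.Lib.Helper18.SNA Equiv

theorem f3_inv_apply {α : Type*} (g : Perm α) (x : α) : g⁻¹ (g x) = x := by
  rw [← Perm.mul_apply, inv_mul_cancel, Perm.one_apply]

theorem f3_apply_inv {α : Type*} (g : Perm α) (x : α) : g (g⁻¹ x) = x := by
  rw [← Perm.mul_apply, mul_inv_cancel, Perm.one_apply]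

theorem f3_key {β : Type*} [DecidableEq β] [Fintype β] (hβ : 3 ≤ Fintype.card β)
    (K : Subgroup (Perm β)) (g : Perm (β × Bool))
    (h1 : ∀ b b' : β, b ≠ b' → g * (fswap b * fswap b') * g⁻¹ ∈ lift K) (b : β) :
    (g (b, false)).1 = (g (b, true)).1 := by
  by_contra hne
  obtain ⟨b', hb', b'', hb'', hb'b''⟩ : ∃ b' : β, b' ≠ b ∧ ∃ b'' : β, b'' ≠ b ∧ b' ≠ b'' := by
    obtain ⟨x, y, z, hxy, hxz, hyz⟩ := Fintype.two_lt_card_iff.mp (show 2 < Fintype.card β by omega)
    by_cases hx : x = b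
    · exact ⟨y, fun h => hxy (hx.trans h.symm), z, fun h => hxz (hx.trans h.symm), hyz⟩
    · by_cases hy : y = b
      · exact ⟨x, hx, z, fun h => hyz (hy.trans h.symm), hxz⟩
      · exact ⟨x, hx, y, hy, hxy⟩
  set p := g (b, false) with hp
  set q := g (b, true) with hq
  set w : β × Bool := (p.1, !p.2) with hw
  have hwp : w ≠ p := by
    intro h
    have := congrArg Prod.snd h
    simp [hw] at this
  have hwq : w ≠ q := by
    intro h
    have := congrArg Prod.fst h
    exact hne this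
  have hmain : ∀ c : β, c ≠ b → (g⁻¹ w).1 = c := by
    intro c hc
    obtain ⟨τ, -, hτ⟩ := h1 b c (Ne.symm hc)
    have hup : (g * (fswap b * fswap c) * g⁻¹) p = q := by
      have hfix : fswap c (b, false) = (b, false) := by
        unfold fswap
        apply swap_apply_of_ne_of_ne
        · intro h
          exact hc (congrArg Prod.fst h).symm
        · intro h
          exact hc (congrArg Prod.fst h).symm
      rw [Perm.mul_apply, Perm.mul_apply, Perm.mul_apply, hp, f3_inv_apply, hfix]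
      unfold fswap
      rw [swap_apply_left]
    have hτp : τ p.1 = q.1 := by rw [← hτ p, hup]
    have hτw : ((g * (fswap b * fswap c) * g⁻¹) w).1 = q.1 := by
      rw [hτ w]
      exact hτp
    have hmoved : (fswap b * fswap c) (g⁻¹ w) ≠ g⁻¹ w := by
      intro h
      have h3 : (g * (fswap b * fswap c) * g⁻¹) w = w := by
        rw [Perm.mul_apply, Perm.mul_apply, h, f3_apply_inv]
      rw [h3] at hτw
      exact hne hτw
    by_contra hcon
    apply hmoved
    have hv1 : g⁻¹ w ≠ (b, false) := by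
      intro h
      apply hwp
      rw [hp, ← h, f3_apply_inv]
    have hv2 : g⁻¹ w ≠ (b, true) := by
      intro h
      apply hwq
      rw [hq, ← h, f3_apply_inv]
    have hv3 : g⁻¹ w ≠ (c, false) := fun h => hcon (by rw [h])
    have hv4 : g⁻¹ w ≠ (c, true) := fun h => hcon (by rw [h])
    rw [Perm.mul_apply]
    unfold fswap
    rw [swap_apply_of_ne_of_ne hv3 hv4, swap_apply_of_ne_of_ne hv1 hv2]
  exact hb'b'' ((hmain b' hb').symm.trans (hmain b'' hb''))

theorem f3_build {β : Type*} (g : Perm (β × Bool))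
    (hg : ∀ b : β, (g (b, false)).1 = (g (b, true)).1)
    (hg' : ∀ b : β, (g⁻¹ (b, false)).1 = (g⁻¹ (b, true)).1) :
    g ∈ lift (⊤ : Subgroup (Perm β)) := by
  have hfst : ∀ x : β × Bool, (g x).1 = (g (x.1, false)).1 := by
    rintro ⟨b, c⟩
    cases c
    · rfl
    · exact (hg b).symm
  have hfst' : ∀ x : β × Bool, (g⁻¹ x).1 = (g⁻¹ (x.1, false)).1 := by
    rintro ⟨b, c⟩
    cases c
    · rfl
    · exact (hg' b).symm
  refine ⟨⟨fun b => (g (b, false)).1, fun b => (g⁻¹ (b, false)).1, ?_, ?_⟩, Subgroup.mem_top _, ?_⟩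
  · intro b
    show (g⁻¹ ((g (b, false)).1, false)).1 = b
    rw [← hfst' (g (b, false)), f3_inv_apply]
  · intro b
    show (g ((g⁻¹ (b, false)).1, false)).1 = b
    rw [← hfst (g⁻¹ (b, false)), f3_apply_inv]
  · intro x
    exact hfst x

theorem fiber_of_fswap_fswap {β : Type*} [DecidableEq β] [Fintype β] (hβ : 3 ≤ Fintype.card β)
    (K : Subgroup (Perm β)) (g : Perm (β × Bool))
    (h1 : ∀ b b' : β, b ≠ b' → g * (fswap b * fswap b') * g⁻¹ ∈ lift K)
    (h2 : ∀ b b' : β, b ≠ b' → g⁻¹ * (fswap b * fswap b') * g ∈ lift K) :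
    g ∈ lift (⊤ : Subgroup (Perm β)) := by
  apply f3_build g (f3_key hβ K g h1)
  apply f3_key hβ K g⁻¹
  intro b b' hbb'
  rw [inv_inv]
  exact h2 b b' hbb'

end Cfsg.Agent.Lib.Helper24.SNA
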