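import Mathlib
import Cfsg.Agent.Lib.Helper18.SNA.Defs
import Cfsg.Agent.Lib.Helper24.SNAF3

set_option autoImplicit false
set_option linter.style.haveILetI false
set_option linter.unusedVariables false

namespace Cfsg.Agent.Lib.Helper24.SNA

open Cfsg.Agent.Lib.Helper18.SNA Equiv

theorem f2_key {β : Type*} [DecidableEq β]
    (K : Subgroup (Perm β)) (g : Perm (β × Bool))
    (h1 : ∀ b : β, g * fswap b * g⁻¹ ∈ lift K) (b : β) :
    (g (b, false)).1 = (g (b, true)).1 := by
  by_contra hne
  set p := g (b, false) with hp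
  set q := g (b, true) with hq
  set w : β × Bool := (p.1, !p.2) with hw
  have hwp : w ≠ p := by
    intro h
    have := congrArg Prod.snd h
    simp [hw] at this
  have hwq : w ≠ q := by
    intro h
    have := congrArg Prod.fst h
    exact hne this
  obtain ⟨τ, -, hτ⟩ := h1 b
  have hup : (g * fswap b * g⁻¹) p = q := by
    rw [Perm.mul_apply, Perm.mul_apply, hp, f3_inv_apply]
    unfold fswap
    rw [swap_apply_left]
  have hτp : τ p.1 = q.1 := by rw [← hτ p, hup]
  have hτw : ((g * fswap b * g⁻¹) w).1 = q.1 := by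
    rw [hτ w]
    exact hτp
  have hmoved : fswap b (g⁻¹ w) ≠ g⁻¹ w := by
    intro h
    have h3 : (g * fswap b * g⁻¹) w = w := by
      rw [Perm.mul_apply, Perm.mul_apply, h, f3_apply_inv]
    rw [h3] at hτw
    exact hne hτw
  apply hmoved
  have hv1 : g⁻¹ w ≠ (b, false) := by
    intro h
    apply hwp
    rw [hp, ← h, f3_apply_inv]
  have hv2 : g⁻¹ w ≠ (b, true) := by
    intro h
    apply hwq
    rw [hq, ← h, f3_apply_inv]
  unfold fswap
  rw [swap_apply_of_ne_of_ne hv1 hv2]

theorem fiber_of_fswap {β : Type*} [DecidableEq β] (K : Subgroup (Perm β)) (g : Perm (β × Bool))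
    (h1 : ∀ b : β, g * fswap b * g⁻¹ ∈ lift K)
    (h2 : ∀ b : β, g⁻¹ * fswap b * g ∈ lift K) : g ∈ lift (⊤ : Subgroup (Perm β)) := by
  apply f3_build g (f2_key K g h1)
  apply f2_key K g⁻¹
  intro b
  rw [inv_inv]
  exact h2 b

end Cfsg.Agent.Lib.Helper24.SNA
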