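import Mathlib
import Cfsg.Agent.Lib.helper15.St2
import Cfsg.Agent.Lib.helper7.StA
import Cfsg.Agent.Lib.helper7.StC
import Cfsg.Agent.Lib.helper7.StE
import Cfsg.Agent.Lib.Helper24.STCI1
import Cfsg.Agent.Lib.Helper24.STCW14core
import Cfsg.Agent.Lib.helper23.STCX2
import Cfsg.Agent.Lib.Helper27.STU.Defs
import Cfsg.Agent.Lib.Helper27.STU.Defs2
import Cfsg.Agent.Lib.Helper24.STUB1
import Cfsg.Agent.Lib.Helper24.STUF11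
import Cfsg.Agent.Lib.Helper11.STUX1
import Cfsg.Agent.Lib.Helper12.STUN2
import Cfsg.Agent.Lib.Helper16.STUF1
import Cfsg.Agent.Lib.Helper16.STUF4

set_option autoImplicit false

namespace Cfsg.Agent.Lib.Helper27.STU

open Cfsg.Agent.Lib.helper15.St2 Cfsg.Agent.Lib.helper7.St Cfsg.Agent.Lib.helper3.STC

section aux

variable {ι : Type*} [DecidableEq ι]

theorem stuf9_sws_inv (o : ι ⊕ ι) {j : ι ⊕ ι} (hj' : j ≠ ng o) : (sws o j)⁻¹ o = j := by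
  have h1 : ng j ≠ j := ng_ne j
  unfold sws
  rw [mul_inv_rev, Equiv.swap_inv, Equiv.swap_inv, Equiv.Perm.mul_apply, Equiv.swap_apply_left,
    Equiv.swap_apply_of_ne_of_ne hj' h1.symm]

end aux

namespace SysU

variable {F : Type*} [Field F] [StarRing F] {od : Prop} {ι : Type*} {G : Type*} [Group G] (S : SysU F od ι G)

section F
variable [DecidableEq ι] (ξ₀ : Lam F od) (o : ι ⊕ ι)

theorem stuf9_core [Finite F] (hW : S.HW) (hH : S.HH)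
    (hF6 : ∀ y ∈ S.Yg o, y ∈ S.Zg o ∨
      ∃ j, j ≠ o ∧ j ≠ ng o ∧ ∃ u : F, u ≠ 0 ∧ ∃ y' ∈ S.Yj o j, y = S.xs j o u * y')
    (hF7a : ∀ y ∈ S.Zg o, ∃ ξ : Lam F od, y = S.xl (ng o) ξ)
    (hF7b : ∀ (ξ η : Lam F od) {p : G}, p ∈ S.Phat o →
      S.xl o ξ * (S.xl (ng o) η * p) ∈ S.cell0 o ∨ S.xl o ξ * (S.xl (ng o) η * p) ∈ S.cell ξ₀ o (ng o))
    (ξ : Lam F od) {y p : G} (hy : y ∈ S.Yg o) (hp : p ∈ S.Phat o) :
    S.InD ξ₀ o (S.xl o ξ * (y * p)) := by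
  rcases hF6 y hy with hZ | ⟨j, hj, hj', u, hu, y', hy', rfl⟩
  · obtain ⟨η, rfl⟩ := hF7a y hZ
    rcases hF7b ξ η hp with h | h
    · exact Or.inl h
    · exact Or.inr ⟨ng o, ng_ne o, h⟩
  · right
    refine ⟨j, hj, ?_⟩
    have hoj : o ≠ j := hj.symm
    have hoj' : o ≠ ng j := stub1_ng_ne hj'
    obtain ⟨y₂, hy₂, p₂, hp₂, h2⟩ := S.cell0_sub_cell ξ₀ o hH hj hj' hu hy' hp
    obtain ⟨ξ', hξ'⟩ := S.IsMon_move_l (hW.1 o j hoj hoj' 1 one_ne_zero) o ξ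
    rw [stuf9_sws_inv o hj'] at hξ'
    rw [S.w1_short ξ₀ o hj'] at h2
    refine ⟨cj (S.xl j ξ') y₂, S.xl_cj_mem_Yg o hj hj' ξ' y₂ hy₂, S.xl j ξ' * p₂,
      (S.Phat o).mul_mem (S.Pg_le_Phat o (S.xl_mem_Pg o hj' ξ')) hp₂, ?_⟩
    rw [S.w1_short ξ₀ o hj']
    calc S.xl o ξ * (S.xs j o u * y' * p)
        = (S.xl o ξ * S.ws o j 1) * y₂ * p₂ := by rw [h2]; group
      _ = S.ws o j 1 * S.xl j ξ' * y₂ * p₂ := by rw [hξ']
      _ = S.ws o j 1 * cj (S.xl j ξ') y₂ * (S.xl j ξ' * p₂) := by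
          unfold cj; group

theorem lemA_all_s [Finite F] (hH : S.HH) {a b : ι ⊕ ι} (hab : a ≠ b) (hab' : a ≠ ng b) (t : F) {y p : G} (hy : y ∈ S.Yg o)
    (hp : p ∈ S.Phat o) : S.InD ξ₀ o (S.xs a b t * (y * p)) := by
  by_cases hbo : b = o
  · subst hbo
    exact Or.inl (S.lemA_Y b hab hab' t hy hp)
  · by_cases hano : a = ng o
    · subst hano
      have hb' : b ≠ ng o := Ne.symm hab
      exact Or.inl (S.lemA_Y' o hbo hb' t hy hp)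
    · by_cases hao : a = o
      · subst hao
        have hb' : b ≠ ng a := stub1_ng_ne hab'
        rcases S.lemA_short ξ₀ a hH hbo hb' t hy hp with h | h
        · exact Or.inl h
        · exact Or.inr ⟨b, hbo, h⟩
      · by_cases hbno : b = ng o
        · subst hbno
          have hna : ng a ≠ o := fun h => hano (by rw [← h, ng_ng])
          have hna' : ng a ≠ ng o := fun h => hao (ng_inj.mp h)
          rw [S.sym a (ng o) hab hab' t, ng_ng]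
          rcases S.lemA_short ξ₀ o hH hna hna' (-(star t)) hy hp with h | h
          · exact Or.inl h
          · exact Or.inr ⟨ng a, hna, h⟩
        · exact Or.inl (S.lemA_L o hab hab' hao hano hbo hbno t hy hp)

theorem stuf10_l_core
    (hlong : ∀ (ξ : Lam F od) {y p : G}, y ∈ S.Yg o → p ∈ S.Phat o → S.InD ξ₀ o (S.xl o ξ * (y * p)))
    (a : ι ⊕ ι) (ξ : Lam F od) {y p : G}
    (hy : y ∈ S.Yg o) (hp : p ∈ S.Phat o) : S.InD ξ₀ o (S.xl a ξ * (y * p)) := by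
  by_cases hano : a = ng o
  · subst hano
    exact Or.inl (S.lemA_Yl o ξ hy hp)
  · by_cases hao : a = o
    · subst hao
      exact hlong ξ hy hp
    · exact Or.inl (S.lemA_Ll o hao hano ξ hy hp)

theorem stuf17_mul_w1 [Finite F] (hW : S.HW) (hH : S.HH) (hξ₀ : ξ₀.c ≠ 0) {k : ι ⊕ ι} (hk : k ≠ o) {g : G} (hg : S.InD ξ₀ o g) :
    S.InD ξ₀ o (S.w1 ξ₀ o k * g) := by
  rcases hg with ⟨y, hy, p, hp, rfl⟩ | ⟨j, hj, y, hy, p, hp, rfl⟩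
  · exact Or.inr ⟨k, hk, y, hy, p, hp, by group⟩
  · obtain ⟨n, hn, h | ⟨k', hk', h⟩⟩ := S.ww_cell ξ₀ o hW hH hξ₀ hk hj
    · refine Or.inl ⟨cj n y, hn.2 y hy, n * p, (S.Phat o).mul_mem hn.1 hp, ?_⟩
      calc S.w1 ξ₀ o k * (S.w1 ξ₀ o j * y * p) = (S.w1 ξ₀ o k * S.w1 ξ₀ o j) * y * p := by group
        _ = n * y * p := by rw [h]
        _ = cj n y * (n * p) := by unfold cj; group
    · refine Or.inr ⟨k', hk', cj n y, hn.2 y hy, n * p, (S.Phat o).mul_mem hn.1 hp, ?_⟩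
      calc S.w1 ξ₀ o k * (S.w1 ξ₀ o j * y * p) = (S.w1 ξ₀ o k * S.w1 ξ₀ o j) * y * p := by group
        _ = S.w1 ξ₀ o k' * n * y * p := by rw [h]
        _ = S.w1 ξ₀ o k' * cj n y * (n * p) := by unfold cj; group

theorem stuf17_s_core [Finite F] (hW : S.HW) (hH : S.HH) (hξ₀ : ξ₀.c ≠ 0) {k : ι ⊕ ι} (hk : k ≠ o) {a b : ι ⊕ ι} (hab : a ≠ b)
    (hab' : a ≠ ng b) (t : F) {y p : G} (hy : y ∈ S.Yg o) (hp : p ∈ S.Phat o) : S.InD ξ₀ o (S.xs a b t * (S.w1 ξ₀ o k * y * p)) := by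
  obtain ⟨d, d0, hmon⟩ := S.isMon_w1 ξ₀ o hW hξ₀ hk
  obtain ⟨h1, h2, s, hs⟩ := S.IsMon_move_s hmon hab hab' t
  have e : S.xs a b t * (S.w1 ξ₀ o k * y * p) =
      S.w1 ξ₀ o k * (S.xs ((wpm o k)⁻¹ a) ((wpm o k)⁻¹ b) s * (y * p)) := by
    calc S.xs a b t * (S.w1 ξ₀ o k * y * p) = (S.xs a b t * S.w1 ξ₀ o k) * y * p := by group
      _ = S.w1 ξ₀ o k * S.xs ((wpm o k)⁻¹ a) ((wpm o k)⁻¹ b) s * y * p := by rw [hs]
      _ = _ := by group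
  rw [e]
  exact S.stuf17_mul_w1 ξ₀ o hW hH hξ₀ hk (S.lemA_all_s ξ₀ o hH h1 h2 s hy hp)

theorem stuf17_l_core [Finite F] (hW : S.HW) (hH : S.HH) (hξ₀ : ξ₀.c ≠ 0)
    (hlong : ∀ (ξ : Lam F od) {y p : G}, y ∈ S.Yg o → p ∈ S.Phat o → S.InD ξ₀ o (S.xl o ξ * (y * p)))
    {k : ι ⊕ ι} (hk : k ≠ o) (a : ι ⊕ ι) (ξ : Lam F od)
    {y p : G} (hy : y ∈ S.Yg o) (hp : p ∈ S.Phat o) : S.InD ξ₀ o (S.xl a ξ * (S.w1 ξ₀ o k * y * p)) := by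
  obtain ⟨d, d0, hmon⟩ := S.isMon_w1 ξ₀ o hW hξ₀ hk
  obtain ⟨ξ', hs⟩ := S.IsMon_move_l hmon a ξ
  have e : S.xl a ξ * (S.w1 ξ₀ o k * y * p) = S.w1 ξ₀ o k * (S.xl ((wpm o k)⁻¹ a) ξ' * (y * p)) := by
    calc S.xl a ξ * (S.w1 ξ₀ o k * y * p) = (S.xl a ξ * S.w1 ξ₀ o k) * y * p := by group
      _ = S.w1 ξ₀ o k * S.xl ((wpm o k)⁻¹ a) ξ' * y * p := by rw [hs]
      _ = _ := by group
  rw [e]
  exact S.stuf17_mul_w1 ξ₀ o hW hH hξ₀ hk (S.stuf10_l_core ξ₀ o hlong _ ξ' hy hp)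

theorem InD_one : S.InD ξ₀ o 1 :=
  Or.inl ⟨1, one_mem _, 1, one_mem _, by group⟩

theorem stuf18_s_core [Finite F] (hW : S.HW) (hH : S.HH) (hξ₀ : ξ₀.c ≠ 0) {a b : ι ⊕ ι} (hab : a ≠ b) (hab' : a ≠ ng b)
    (t : F) {g : G} (hg : S.InD ξ₀ o g) : S.InD ξ₀ o (S.xs a b t * g) := by
  rcases hg with ⟨y, hy, p, hp, rfl⟩ | ⟨k, hk, y, hy, p, hp, rfl⟩
  · exact S.lemA_all_s ξ₀ o hH hab hab' t hy hp
  · exact S.stuf17_s_core ξ₀ o hW hH hξ₀ hk hab hab' t hy hp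

theorem stuf18_l_core [Finite F] (hW : S.HW) (hH : S.HH) (hξ₀ : ξ₀.c ≠ 0)
    (hlong : ∀ (ξ : Lam F od) {y p : G}, y ∈ S.Yg o → p ∈ S.Phat o → S.InD ξ₀ o (S.xl o ξ * (y * p)))
    (a : ι ⊕ ι) (ξ : Lam F od) {g : G}
    (hg : S.InD ξ₀ o g) : S.InD ξ₀ o (S.xl a ξ * g) := by
  rcases hg with ⟨y, hy, p, hp, rfl⟩ | ⟨k, hk, y, hy, p, hp, rfl⟩
  · exact S.stuf10_l_core ξ₀ o hlong a ξ hy hp
  · exact S.stuf17_l_core ξ₀ o hW hH hξ₀ hlong hk a ξ hy hp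

theorem stuf18_all_core [Finite F] (hW : S.HW) (hH : S.HH) (hξ₀ : ξ₀.c ≠ 0)
    (hlong : ∀ (ξ : Lam F od) {y p : G}, y ∈ S.Yg o → p ∈ S.Phat o → S.InD ξ₀ o (S.xl o ξ * (y * p)))
    (hgen : S.XQ (fun _ _ => True) = ⊤) (g : G) :
    S.InD ξ₀ o g := by
  have hg : g ∈ S.XQ (fun _ _ => True) := by rw [hgen]; exact Subgroup.mem_top g
  revert g
  refine closure_left_induction' (p := fun g => S.InD ξ₀ o g) (S.XQ_gens_inv _) (S.InD_one ξ₀ o) ?_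
  rintro _ (⟨a, b, t, hab, hab', -, rfl⟩ | ⟨a, ξ, -, rfl⟩) g hg
  · exact S.stuf18_s_core ξ₀ o hW hH hξ₀ hab hab' t hg
  · exact S.stuf18_l_core ξ₀ o hW hH hξ₀ hlong a ξ hg

end F

end SysU

end Cfsg.Agent.Lib.Helper27.STU
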