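import Mathlib
import Cfsg.Agent.Lib.Helper24.STUF9core
import Cfsg.Agent.Lib.Helper16.STUF6
import Cfsg.Agent.Lib.Helper16.STUF7

set_option autoImplicit false
set_option linter.unusedVariables false

namespace Cfsg.Agent.Lib.Helper27.STU

open Cfsg.Agent.Lib.helper15.St2 Cfsg.Agent.Lib.helper7.St Cfsg.Agent.Lib.helper3.STC

namespace SysU

variable {F : Type*} [Field F] [StarRing F] {od : Prop} {ι : Type*} {G : Type*} [Group G] (S : SysU F od ι G)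

section F
variable [DecidableEq ι] (ξ₀ : Lam F od) (o : ι ⊕ ι)

theorem lemA_long [Finite F] [Finite ι] (hF : Hyp F) (hW : S.HW) (hH : S.HH) (hξ₀ : ξ₀.c ≠ 0) (ξ : Lam F od) {y p : G} (hy : y ∈ S.Yg o)
    (hp : p ∈ S.Phat o) : S.InD ξ₀ o (S.xl o ξ * (y * p)) :=
  S.stuf9_core ξ₀ o hW hH (S.Yg_split o) (S.Zg_eq o) (fun ξ η _ hp => S.lemA_Z ξ₀ o hF hξ₀ ξ η hp) ξ hy hp

theorem lemA_all_l [Finite F] [Finite ι] (hF : Hyp F) (hW : S.HW) (hH : S.HH) (hξ₀ : ξ₀.c ≠ 0) (a : ι ⊕ ι) (ξ : Lam F od) {y p : G}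
    (hy : y ∈ S.Yg o) (hp : p ∈ S.Phat o) : S.InD ξ₀ o (S.xl a ξ * (y * p)) :=
  S.stuf10_l_core ξ₀ o (fun ξ _ _ hy hp => S.lemA_long ξ₀ o hF hW hH hξ₀ ξ hy hp) a ξ hy hp

theorem lemB_s [Finite F] [Finite ι] (hF : Hyp F) (hW : S.HW) (hH : S.HH) (hξ₀ : ξ₀.c ≠ 0) {k : ι ⊕ ι} (hk : k ≠ o) {a b : ι ⊕ ι} (hab : a ≠ b)
    (hab' : a ≠ ng b) (t : F) {y p : G} (hy : y ∈ S.Yg o) (hp : p ∈ S.Phat o) : S.InD ξ₀ o (S.xs a b t * (S.w1 ξ₀ o k * y * p)) :=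
  S.stuf17_s_core ξ₀ o hW hH hξ₀ hk hab hab' t hy hp

theorem lemB_l [Finite F] [Finite ι] (hF : Hyp F) (hW : S.HW) (hH : S.HH) (hξ₀ : ξ₀.c ≠ 0) {k : ι ⊕ ι} (hk : k ≠ o) (a : ι ⊕ ι) (ξ : Lam F od)
    {y p : G} (hy : y ∈ S.Yg o) (hp : p ∈ S.Phat o) : S.InD ξ₀ o (S.xl a ξ * (S.w1 ξ₀ o k * y * p)) :=
  S.stuf17_l_core ξ₀ o hW hH hξ₀ (fun ξ _ _ hy hp => S.lemA_long ξ₀ o hF hW hH hξ₀ ξ hy hp) hk a ξ hy hp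

theorem InD_mul_s [Finite F] [Finite ι] (hF : Hyp F) (hW : S.HW) (hH : S.HH) (hξ₀ : ξ₀.c ≠ 0) {a b : ι ⊕ ι} (hab : a ≠ b) (hab' : a ≠ ng b)
    (t : F) {g : G} (hg : S.InD ξ₀ o g) : S.InD ξ₀ o (S.xs a b t * g) :=
  S.stuf18_s_core ξ₀ o hW hH hξ₀ hab hab' t hg

theorem InD_mul_l [Finite F] [Finite ι] (hF : Hyp F) (hW : S.HW) (hH : S.HH) (hξ₀ : ξ₀.c ≠ 0) (a : ι ⊕ ι) (ξ : Lam F od) {g : G}
    (hg : S.InD ξ₀ o g) : S.InD ξ₀ o (S.xl a ξ * g) :=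
  S.stuf18_l_core ξ₀ o hW hH hξ₀ (fun ξ _ _ hy hp => S.lemA_long ξ₀ o hF hW hH hξ₀ ξ hy hp) a ξ hg

theorem InD_all [Finite F] [Finite ι] (hF : Hyp F) (hW : S.HW) (hH : S.HH) (hξ₀ : ξ₀.c ≠ 0) (hgen : S.XQ (fun _ _ => True) = ⊤) (g : G) :
    S.InD ξ₀ o g :=
  S.stuf18_all_core ξ₀ o hW hH hξ₀ (fun ξ _ _ hy hp => S.lemA_long ξ₀ o hF hW hH hξ₀ ξ hy hp) hgen g

end F

end SysU

end Cfsg.Agent.Lib.Helper27.STU
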