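import Cfsg.Agent.Lib.helper6.UTP.Defs

set_option autoImplicit false
set_option linter.unusedVariables false
set_option linter.unusedSectionVars false

namespace Cfsg.Agent.Lib.helper6.UTP

open Matrix
open scoped Kronecker
open Cfsg.Agent.Lib.helper7.TP

variable {F : Type*} [Field F] {a b : ℕ}

theorem utpelu_det (ζ : Matrix (Fin a) (Fin a) F) (w ψ : Fin b → F) (h : ψ ⬝ᵥ w = 0) :
    (ELm ζ w ψ).det = 1 := by
  have h1 : ζ ⊗ₖ Matrix.vecMulVec w ψ =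
      (ζ ⊗ₖ Matrix.replicateCol Unit w) *
        ((1 : Matrix (Fin a) (Fin a) F) ⊗ₖ Matrix.replicateRow Unit ψ) := by
    rw [← Matrix.mul_kronecker_mul, Matrix.mul_one, ← Matrix.vecMulVec_eq]
  have h2 : Matrix.replicateRow Unit ψ * Matrix.replicateCol Unit w = 0 := by
    ext i j
    rw [Matrix.mul_apply]
    simpa [dotProduct] using h
  rw [ELm, h1, Matrix.det_one_add_mul_comm, ← Matrix.mul_kronecker_mul, h2,
    Matrix.kronecker_zero, add_zero, Matrix.det_one]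

theorem utpelu_expand (σ : F ≃+* F) (hσ : Inv2 σ) (ζ : Matrix (Fin a) (Fin a) F) (w : Fin b → F)
    (h : cj σ w ⬝ᵥ w = 0) (x y : Fin a × Fin b → F) :
    hf σ (ELm ζ w (cj σ w) *ᵥ x) (ELm ζ w (cj σ w) *ᵥ y) =
      hf σ x y + (hf σ (ζ *ᵥ ctr (cj σ w) x) (ctr (cj σ w) y) +
        hf σ (ctr (cj σ w) x) (ζ *ᵥ ctr (cj σ w) y)) := by
  rw [ELm_mulVec, ELm_mulVec, hf_add_left, hf_add_right, hf_add_right, hf_ten_right,
    hf_ten_left σ hσ, hf_ten, (iso_iff σ w).mp h, mul_zero]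
  ring

theorem elu_mem (σ : F ≃+* F) (hσ : Inv2 σ) (ζ : Matrix (Fin a) (Fin a) F)
    (hζ : ∀ u u' : Fin a → F, hf σ (ζ *ᵥ u) u' + hf σ u (ζ *ᵥ u') = 0) (w : Fin b → F)
    (h : cj σ w ⬝ᵥ w = 0) : EL ζ w (cj σ w) h ∈ SUm σ (Fin a × Fin b) := by
  refine Subgroup.mem_inf.mpr ⟨?_, ?_⟩
  · rw [mem_GUm]
    intro x y
    rw [EL_coe, utpelu_expand σ hσ ζ w h, hζ, add_zero]
  · unfold Cfsg.Geo.specialLinear
    rw [MonoidHom.mem_ker]
    apply Units.ext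
    rw [Matrix.GeneralLinearGroup.val_det_apply, EL_coe, utpelu_det ζ w (cj σ w) h]
    rfl

theorem utpelu_ctr_onto (ψ : Fin b → F) (hψ : ψ ≠ 0) :
    ∃ w' : Fin b → F, ∀ u : Fin a → F, ctr ψ (ten u w') = u := by
  classical
  obtain ⟨j, hj⟩ : ∃ j, ψ j ≠ 0 := by
    by_contra hcon
    push Not at hcon
    exact hψ (funext hcon)
  refine ⟨Pi.single j (ψ j)⁻¹, fun u => ?_⟩
  rw [ctr_ten, dotProduct_single, mul_inv_cancel₀ hj, one_smul]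

theorem elu_skew (σ : F ≃+* F) (hσ : Inv2 σ) (ζ : Matrix (Fin a) (Fin a) F) (w : Fin b → F) (hw : w ≠ 0)
    (h : cj σ w ⬝ᵥ w = 0) (hg : EL ζ w (cj σ w) h ∈ GUm σ (Fin a × Fin b)) :
    ∀ u u' : Fin a → F, hf σ (ζ *ᵥ u) u' + hf σ u (ζ *ᵥ u') = 0 := by
  intro u u'
  have hψ : cj σ w ≠ 0 := fun h0 => hw ((cj_eq_zero σ).mp h0)
  obtain ⟨w', hw'⟩ := utpelu_ctr_onto (a := a) (cj σ w) hψ
  have h1 := (mem_GUm σ _).mp hg (ten u w') (ten u' w')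
  rw [EL_coe, utpelu_expand σ hσ ζ w h, hw', hw'] at h1
  exact left_eq_add.mp h1.symm

end Cfsg.Agent.Lib.helper6.UTP
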