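import Cfsg.Agent.Lib.Helper24.UTPISOSUB
import Cfsg.Agent.Lib.Helper24.UTPELU

set_option autoImplicit false
set_option linter.unusedVariables false
set_option linter.unusedSectionVars false

namespace Cfsg.Agent.Lib.helper6.UTP

open Matrix
open scoped Kronecker
open Cfsg.Agent.Lib.helper7.TP

variable {F : Type*} [Field F] {a b : ℕ}

theorem utpproper_skew (σ : F ≃+* F) (hσ : Inv2 σ) : ∃ c : F, c ≠ 0 ∧ σ c = -c := by
  obtain ⟨x, hx⟩ := hσ.moved
  refine ⟨x - σ x, fun h => hx (sub_eq_zero.mp h).symm, ?_⟩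
  rw [map_sub, hσ.invol]
  ring

theorem utpproper_hf_single (σ : F ≃+* F) {n : ℕ} (x : Fin n → F) (i : Fin n) (c : F) :
    hf σ x (Pi.single i c) = x i * σ c := by
  have : cj σ (Pi.single i c : Fin n → F) = Pi.single i (σ c) := by
    funext j
    by_cases hj : j = i
    · subst hj
      simp [cj]
    · simp [cj, Pi.single_eq_of_ne hj]
  rw [hf, this, dotProduct_single]

theorem utpproper_vec_iso (σ : F ≃+* F) {n : ℕ} {i0 i1 : Fin n} (h01 : i0 ≠ i1) {μ : F}
    (hμ : μ * σ μ = -1) :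
    cj σ (Pi.single i0 1 + Pi.single i1 μ : Fin n → F) ⬝ᵥ (Pi.single i0 1 + Pi.single i1 μ) = 0 := by
  rw [iso_iff, hf_add_right, utpproper_hf_single, utpproper_hf_single, Pi.add_apply, Pi.add_apply,
    Pi.single_eq_same, Pi.single_eq_same, Pi.single_eq_of_ne h01, Pi.single_eq_of_ne h01.symm,
    map_one, add_zero, zero_add, mul_one, hμ]
  ring

theorem utpproper_zeta_skew (σ : F ≃+* F) (hσ : Inv2 σ) {c : F} (hc : σ c = -c) (u : Fin a → F)
    (x y : Fin a → F) :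
    hf σ ((c • Matrix.vecMulVec u (cj σ u)) *ᵥ x) y +
      hf σ x ((c • Matrix.vecMulVec u (cj σ u)) *ᵥ y) = 0 := by
  rw [Matrix.smul_mulVec, Matrix.smul_mulVec, Matrix.vecMulVec_mulVec, Matrix.vecMulVec_mulVec,
    hf_smul_left, hf_smul_right, op_smul_eq_smul, op_smul_eq_smul,
    hf_smul_left, hf_smul_right, hc]
  have h1 : cj σ u ⬝ᵥ x = hf σ x u := by rw [hf, dotProduct_comm]
  have h2 : σ (cj σ u ⬝ᵥ y) = hf σ u y := by
    rw [hf_herm σ hσ u y, hf, dotProduct_comm]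
  rw [h1, h2]
  ring

theorem utpproper_pure (p : Fin a → F) (r : Fin b → F) (i i' : Fin a) (j j' : Fin b) :
    ten p r (i, j) * ten p r (i', j') = ten p r (i, j') * ten p r (i', j) := by
  simp only [ten]
  ring

theorem T0u_lt_SUm [Finite F] (σ : F ≃+* F) (hσ : Inv2 σ) (ha : 2 ≤ a) (hb : 2 ≤ b) :
    T0u σ a b < SUm σ (Fin a × Fin b) := by
  rw [SetLike.lt_iff_le_and_exists]
  refine ⟨inf_le_right, ?_⟩
  obtain ⟨c, hc0, hc⟩ := utpproper_skew σ hσ
  obtain ⟨μ, hμ⟩ := utpisosub_norm σ hσ (-1) (by rw [map_neg, map_one])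
  have hμ0 : μ ≠ 0 := by
    rintro rfl
    rw [zero_mul] at hμ
    exact one_ne_zero (neg_eq_zero.mp hμ.symm)
  set i0 : Fin a := ⟨0, by omega⟩ with hi0
  set i1 : Fin a := ⟨1, by omega⟩ with hi1
  set j0 : Fin b := ⟨0, by omega⟩ with hj0
  set j1 : Fin b := ⟨1, by omega⟩ with hj1
  have hi01 : i0 ≠ i1 := by
    intro h
    have := congrArg Fin.val h
    simp [hi0, hi1] at this
  have hj01 : j0 ≠ j1 := by
    intro h
    have := congrArg Fin.val h
    simp [hj0, hj1] at this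
  set u : Fin a → F := Pi.single i0 1 + Pi.single i1 μ with hu
  set w : Fin b → F := Pi.single j0 1 + Pi.single j1 μ with hw
  have hu0 : u i0 = 1 := by
    rw [hu, Pi.add_apply, Pi.single_eq_same, Pi.single_eq_of_ne hi01, add_zero]
  have hu1 : u i1 = μ := by
    rw [hu, Pi.add_apply, Pi.single_eq_same, Pi.single_eq_of_ne hi01.symm, zero_add]
  have hw0 : w j0 = 1 := by
    rw [hw, Pi.add_apply, Pi.single_eq_same, Pi.single_eq_of_ne hj01, add_zero]
  have hw1 : w j1 = μ := by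
    rw [hw, Pi.add_apply, Pi.single_eq_same, Pi.single_eq_of_ne hj01.symm, zero_add]
  have hwiso : cj σ w ⬝ᵥ w = 0 := utpproper_vec_iso σ hj01 hμ
  refine ⟨EL (c • Matrix.vecMulVec u (cj σ u)) w (cj σ w) hwiso,
    elu_mem σ hσ _ (utpproper_zeta_skew σ hσ hc u) w hwiso, ?_⟩
  intro hT
  obtain ⟨α, β, hαβ⟩ := (Subgroup.mem_inf.mp hT).1
  have hv := congrArg (fun M => M *ᵥ ten (Pi.single i0 (1 : F)) (Pi.single j0 (1 : F))) hαβ
  simp only [EL_coe] at hv
  rw [kron_mulVec_ten, ELm_mulVec, ctr_ten, Matrix.smul_mulVec, Matrix.vecMulVec_mulVec,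
    op_smul_eq_smul] at hv
  have hψ : cj σ w ⬝ᵥ (Pi.single j0 (1 : F)) = 1 := by
    rw [dotProduct_single, cj_apply, hw0, map_one, mul_one]
  have hφ : cj σ u ⬝ᵥ (Pi.single i0 (1 : F)) = 1 := by
    rw [dotProduct_single, cj_apply, hu0, map_one, mul_one]
  rw [hψ, one_smul, hφ, one_smul] at hv
  have hpure := utpproper_pure ((α : Matrix (Fin a) (Fin a) F) *ᵥ Pi.single i0 1)
    ((β : Matrix (Fin b) (Fin b) F) *ᵥ Pi.single j0 1) i0 i1 j0 j1
  rw [← hv] at hpure
  simp only [Pi.add_apply, ten, Pi.smul_apply, smul_eq_mul, Pi.single_eq_same,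
    Pi.single_eq_of_ne hi01.symm, Pi.single_eq_of_ne hj01.symm, hu0, hu1, hw0, hw1, mul_one,
    mul_zero, zero_add] at hpure
  have hfin : c * μ * μ = 0 := by linear_combination hpure
  rcases mul_eq_zero.mp hfin with h | h
  · rcases mul_eq_zero.mp h with h' | h'
    · exact hc0 h'
    · exact hμ0 h'
  · exact hμ0 h

end Cfsg.Agent.Lib.helper6.UTP
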