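import Cfsg.Agent.Lib.Helper18.UTPXSAPI
import Cfsg.Agent.Lib.Helper18.UTPTRANSN
import Cfsg.Agent.Lib.Helper19.UTPKRON
import Cfsg.Agent.Lib.Helper24.UTPPROPER

set_option autoImplicit false
set_option linter.unusedVariables false
set_option linter.unusedSectionVars false
set_option linter.unusedSimpArgs false

namespace Cfsg.Agent.Lib.helper6.UTP

open Matrix
open scoped Kronecker
open Cfsg.Agent.Lib.helper7.TP

variable {F : Type*} [Field F] {a b : ℕ}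

theorem utpisoany_trace (σ : F ≃+* F) (hσ : Inv2 σ) (c : F) (hc : σ c = c) :
    ∃ x : F, x + σ x = c :=
  Cfsg.Agent.Lib.Helper28.UForm.trace_surj
    (utptransn_unitary σ hσ (ι := Fin 1)) c hc

theorem utpisoany_hf_e (σ : F ≃+* F) {k : ℕ} (i j : Fin k) :
    hf σ (Pi.single i (1 : F)) (Pi.single j (1 : F)) = if i = j then 1 else 0 := by
  rw [utpproper_hf_single, map_one, mul_one, Pi.single_apply]
  by_cases h : i = j
  · rw [if_pos h, if_pos h.symm]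
  · rw [if_neg h, if_neg (fun h' => h h'.symm)]

theorem utpisoany_frame [Finite F] (σ : F ≃+* F) (hσ : Inv2 σ) (hb : 3 ≤ b) :
    ∃ w₁ w₄ n : Fin b → F, hf σ w₁ w₁ = 0 ∧ hf σ w₄ w₄ = 0 ∧ hf σ w₁ w₄ = 1 ∧ hf σ n n = 1 ∧
      hf σ n w₁ = 0 ∧ hf σ n w₄ = 0 := by
  obtain ⟨μ, hμ⟩ := utpisosub_norm σ hσ (-1) (by rw [map_neg, map_one])
  obtain ⟨κ, hκ⟩ := utpisoany_trace σ hσ (-1) (by rw [map_neg, map_one])
  set j0 : Fin b := ⟨0, by omega⟩ with hj0
  set j1 : Fin b := ⟨1, by omega⟩ with hj1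
  set j2 : Fin b := ⟨2, by omega⟩ with hj2
  have h01 : j0 ≠ j1 := by
    intro h
    have := congrArg Fin.val h
    simp [hj0, hj1] at this
  have h02 : j0 ≠ j2 := by
    intro h
    have := congrArg Fin.val h
    simp [hj0, hj2] at this
  have h12 : j1 ≠ j2 := by
    intro h
    have := congrArg Fin.val h
    simp [hj1, hj2] at this
  have e00 := utpisoany_hf_e σ j0 j0
  have e11 := utpisoany_hf_e σ j1 j1
  have e22 := utpisoany_hf_e σ j2 j2
  have e01 := utpisoany_hf_e σ j0 j1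
  have e10 := utpisoany_hf_e σ j1 j0
  have e02 := utpisoany_hf_e σ j0 j2
  have e20 := utpisoany_hf_e σ j2 j0
  have e12 := utpisoany_hf_e σ j1 j2
  have e21 := utpisoany_hf_e σ j2 j1
  rw [if_pos rfl] at e00 e11 e22
  rw [if_neg h01] at e01
  rw [if_neg h01.symm] at e10
  rw [if_neg h02] at e02
  rw [if_neg h02.symm] at e20
  rw [if_neg h12] at e12
  rw [if_neg h12.symm] at e21
  refine ⟨Pi.single j0 1 + μ • Pi.single j1 1,
    Pi.single j0 1 + κ • (Pi.single j0 1 + μ • Pi.single j1 1), Pi.single j2 1, ?_, ?_, ?_, ?_, ?_, ?_⟩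
  · simp only [hf_add_left, hf_add_right, hf_smul_left, hf_smul_right, e00, e11, e22, e01, e10, e02,
      e20, e12, e21]
    linear_combination hμ
  · simp only [hf_add_left, hf_add_right, hf_smul_left, hf_smul_right, e00, e11, e22, e01, e10, e02,
      e20, e12, e21]
    linear_combination hκ + κ * σ κ * hμ
  · simp only [hf_add_left, hf_add_right, hf_smul_left, hf_smul_right, e00, e11, e22, e01, e10, e02,
      e20, e12, e21]
    linear_combination σ κ * hμ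
  · exact e22
  · simp only [hf_add_left, hf_add_right, hf_smul_left, hf_smul_right, e00, e11, e22, e01, e10, e02,
      e20, e12, e21]
    ring
  · simp only [hf_add_left, hf_add_right, hf_smul_left, hf_smul_right, e00, e11, e22, e01, e10, e02,
      e20, e12, e21]
    ring

theorem utpisoany_partner (σ : F ≃+* F) (hσ : Inv2 σ) {k : ℕ} (u : Fin k → F) (hu0 : u ≠ 0)
    (hu : hf σ u u = 0) : ∃ u' : Fin k → F, hf σ u' u' = 0 ∧ hf σ u u' = 1 := by
  classical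
  obtain ⟨x, hx⟩ : ∃ x, hf σ u x ≠ 0 := by
    by_contra hcon
    push Not at hcon
    exact hu0 (hf_nondeg' σ hσ u hcon)
  set x₁ : Fin k → F := (σ (hf σ u x))⁻¹ • x with hx₁
  have h1 : hf σ u x₁ = 1 := by
    rw [hx₁, hf_smul_right, map_inv₀, hσ.invol, inv_mul_cancel₀ hx]
  have h1' : hf σ x₁ u = 1 := by
    rw [hf_herm σ hσ, h1, map_one]
  obtain ⟨μ, hμ⟩ := utpisoany_trace σ hσ (-(hf σ x₁ x₁))
    (by rw [map_neg, ← hf_herm σ hσ])
  refine ⟨x₁ + μ • u, ?_, ?_⟩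
  · simp only [hf_add_left, hf_add_right, hf_smul_left, hf_smul_right, h1, h1', hu]
    linear_combination hμ
  · simp only [hf_add_right, hf_smul_right, h1, hu]
    ring

theorem utpisoany_pair_u (σ : F ≃+* F) {u u' : Fin a → F} (hu : hf σ u u = 0)
    (hu'u : hf σ u' u = 1) (m₁ m₂ w : Fin b → F) :
    hf σ (ten u m₁ + ten u' m₂) (ten u w) = hf σ m₂ w := by
  rw [hf_add_left, hf_ten, hf_ten, hu, hu'u, zero_mul, one_mul, zero_add]

theorem utpisoany_pair_u' (σ : F ≃+* F) {u u' : Fin a → F} (hu' : hf σ u' u' = 0)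
    (huu' : hf σ u u' = 1) (m₁ m₂ w : Fin b → F) :
    hf σ (ten u m₁ + ten u' m₂) (ten u' w) = hf σ m₁ w := by
  rw [hf_add_left, hf_ten, hf_ten, hu', huu', zero_mul, one_mul, add_zero]

theorem utpisoany_move1 (σ : F ≃+* F) (hσ : Inv2 σ)
    (M : Subgroup (Matrix.GeneralLinearGroup (Fin a × Fin b) F))
    (hpure : ∀ (u : Fin a → F) (w : Fin b → F), cj σ u ⬝ᵥ u = 0 → cj σ w ⬝ᵥ w = 0 →
      ten u w ∈ XSu σ M)
    {u u' : Fin a → F} (hu : hf σ u u = 0) (hu'u : hf σ u' u = 1) {m₁ m₂ : Fin b → F}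
    (hP : ten u m₁ + ten u' m₂ ∈ XSu σ M) {w : Fin b → F} (hw : hf σ w w = 0) {c : F}
    (hc : σ c = -c) :
    ten u (m₁ + (σ c * hf σ m₂ w) • w) + ten u' m₂ ∈ XSu σ M := by
  have hz := hpure u w ((iso_iff σ u).mpr hu) ((iso_iff σ w).mpr hw)
  have := utpxsapi_tv σ hσ M hP hz hc
  rw [hf_smul_right, utpisoany_pair_u σ hu hu'u] at this
  rw [ten_add_right, ten_smul_right]
  convert this using 1
  abel

theorem utpisoany_move2 (σ : F ≃+* F) (hσ : Inv2 σ)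
    (M : Subgroup (Matrix.GeneralLinearGroup (Fin a × Fin b) F))
    (hpure : ∀ (u : Fin a → F) (w : Fin b → F), cj σ u ⬝ᵥ u = 0 → cj σ w ⬝ᵥ w = 0 →
      ten u w ∈ XSu σ M)
    {u u' : Fin a → F} (hu' : hf σ u' u' = 0) (huu' : hf σ u u' = 1) {m₁ m₂ : Fin b → F}
    (hP : ten u m₁ + ten u' m₂ ∈ XSu σ M) {w : Fin b → F} (hw : hf σ w w = 0) {c : F}
    (hc : σ c = -c) :
    ten u m₁ + ten u' (m₂ + (σ c * hf σ m₁ w) • w) ∈ XSu σ M := by
  have hz := hpure u' w ((iso_iff σ u').mpr hu') ((iso_iff σ w).mpr hw)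
  have := utpxsapi_tv σ hσ M hP hz hc
  rw [hf_smul_right, utpisoany_pair_u' σ hu' huu'] at this
  rw [ten_add_right, ten_smul_right]
  convert this using 1
  abel

theorem utpisoany_chain (σ : F ≃+* F) (hσ : Inv2 σ)
    (M : Subgroup (Matrix.GeneralLinearGroup (Fin a × Fin b) F))
    (hpure : ∀ (u : Fin a → F) (w : Fin b → F), cj σ u ⬝ᵥ u = 0 → cj σ w ⬝ᵥ w = 0 →
      ten u w ∈ XSu σ M)
    {u u' : Fin a → F} (hu : hf σ u u = 0) (hu' : hf σ u' u' = 0) (huu' : hf σ u u' = 1)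
    {w₁ w₄ n : Fin b → F} (h11 : hf σ w₁ w₁ = 0) (h44 : hf σ w₄ w₄ = 0) (h14 : hf σ w₁ w₄ = 1)
    (hnn : hf σ n n = 1) (hn1 : hf σ n w₁ = 0) (hn4 : hf σ n w₄ = 0)
    {l β ξ : F} (hl0 : l ≠ 0) (hl : σ l = -l) (hβ : β + σ β = -1)
    (hξ : ξ + σ ξ = -((-(σ β) - l) * σ (-(σ β) - l))) :
    ten u (-(β • w₄) - n) ∈ XSu σ M := by
  have hu'u : hf σ u' u = 1 := by rw [hf_herm σ hσ, huu', map_one]
  have h41 : hf σ w₄ w₁ = 1 := by rw [hf_herm σ hσ, h14, map_one]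
  have h1n : hf σ w₁ n = 0 := by rw [hf_herm σ hσ, hn1, map_zero]
  have h4n : hf σ w₄ n = 0 := by rw [hf_herm σ hσ, hn4, map_zero]
  have hli : σ l⁻¹ = -l⁻¹ := by rw [map_inv₀, hl, inv_neg]
  have hli' : σ (-l⁻¹) = -(-l⁻¹) := by rw [map_neg, hli]
  have hσσβ : σ (σ β) = β := hσ.invol β
  have hσβ : σ β = -1 - β := by linear_combination hβ
  have hP0 : ten u w₁ + ten u' (l • w₄) ∈ XSu σ M := by
    have hy := hpure u w₁ ((iso_iff σ u).mpr hu) ((iso_iff σ w₁).mpr h11)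
    have hz := hpure u' (l • w₄) ((iso_iff σ u').mpr hu')
      ((iso_iff σ _).mpr (by rw [hf_smul_left, hf_smul_right, h44, mul_zero, mul_zero]))
    have hyz : hf σ (ten u w₁) (ten u' (l • w₄)) = -l := by
      rw [hf_ten, huu', hf_smul_right, h14, hl]
      ring
    exact xsu_pair σ hσ M hy hz (by rw [hyz]; exact neg_ne_zero.mpr hl0)
      (by rw [hyz, map_neg, hl])
  have hw : hf σ (w₁ + β • w₄ + n) (w₁ + β • w₄ + n) = 0 := by
    simp only [hf_add_left, hf_add_right, hf_smul_left, hf_smul_right, h11, h44, h14, h41, hnn, hn1,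
      hn4, h1n, h4n]
    linear_combination hβ
  have hP1 := utpisoany_move1 σ hσ M hpure hu hu'u hP0 hw hli
  have hm1 : w₁ + (σ l⁻¹ * hf σ (l • w₄) (w₁ + β • w₄ + n)) • (w₁ + β • w₄ + n) =
      -(β • w₄) - n := by
    have : σ l⁻¹ * hf σ (l • w₄) (w₁ + β • w₄ + n) = -1 := by
      simp only [hf_add_right, hf_smul_left, hf_smul_right, h44, h41, h4n, hli, mul_zero, add_zero]
      field_simp
    rw [this]
    simp only [neg_smul, one_smul]
    abel
  rw [hm1] at hP1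
  set η : F := -(σ β) - l with hη
  have hση : σ η = -β + l := by
    rw [hη, map_sub, map_neg, hσσβ, hl]
    ring
  have hw2 : hf σ (w₁ + ξ • w₄ + η • n) (w₁ + ξ • w₄ + η • n) = 0 := by
    simp only [hf_add_left, hf_add_right, hf_smul_left, hf_smul_right, h11, h44, h14, h41, hnn, hn1,
      hn4, h1n, h4n]
    linear_combination hξ
  have hτ2 : hf σ (-(β • w₄) - n) (w₁ + ξ • w₄ + η • n) = -l := by
    simp only [hf_add_right, hf_sub_left, hf_neg_left, hf_smul_left, hf_smul_right, h11, h44, h14,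
      h41, hnn, hn1, hn4, h1n, h4n, hση]
    ring
  have h24 : hf σ (w₁ + ξ • w₄ + η • n) w₄ = 1 := by
    simp only [hf_add_left, hf_smul_left, h14, h44, hn4]
    ring
  have h42 : hf σ w₄ (w₁ + ξ • w₄ + η • n) = 1 := by
    rw [hf_herm σ hσ, h24, map_one]
  have hm4 : hf σ (-(β • w₄) - n) w₄ = 0 := by
    simp only [hf_sub_left, hf_neg_left, hf_smul_left, h44, hn4]
    ring
  generalize w₁ + ξ • w₄ + η • n = W2 at hw2 hτ2 h24 h42
  have hP2 := utpisoany_move2 σ hσ M hpure hu' huu' hP1 hw2 hli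
  rw [hτ2] at hP2
  have hw3 : hf σ (W2 + l • w₄) (W2 + l • w₄) = 0 := by
    simp only [hf_add_left, hf_add_right, hf_smul_left, hf_smul_right, hw2, h24, h42, h44, hl]
    ring
  have hτ3 : hf σ (-(β • w₄) - n) (W2 + l • w₄) = -l := by
    rw [hf_add_right, hτ2, hf_smul_right, hm4]
    ring
  have hP3 := utpisoany_move2 σ hσ M hpure hu' huu' hP2 hw3 hli'
  rw [hτ3] at hP3
  have hm3 : l • w₄ + (σ l⁻¹ * -l) • W2 + (σ (-l⁻¹) * -l) • (W2 + l • w₄) = 0 := by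
    have e1 : σ l⁻¹ * -l = 1 := by
      rw [hli]
      field_simp
    have e2 : σ (-l⁻¹) * -l = -1 := by
      rw [hli', neg_neg]
      field_simp
    rw [e1, e2]
    simp only [neg_smul, one_smul]
    abel
  rw [hm3] at hP3
  have hz0 : ten u' (0 : Fin b → F) = 0 := by
    funext p
    simp [ten]
  rw [hz0, add_zero] at hP3
  exact hP3

theorem utpisoany_one_kron_mem (σ : F ≃+* F) (hσ : Inv2 σ)
    (β : Matrix.GeneralLinearGroup (Fin b) F) (hβ : β ∈ GUm σ (Fin b))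
    (hdet : (β : Matrix (Fin b) (Fin b) F).det = 1) :
    ∃ A : Matrix.GeneralLinearGroup (Fin a × Fin b) F, A ∈ T0u σ a b ∧
      (A : Matrix (Fin a × Fin b) (Fin a × Fin b) F) =
        (1 : Matrix (Fin a) (Fin a) F) ⊗ₖ (β : Matrix (Fin b) (Fin b) F) := by
  have hd : ((1 : Matrix (Fin a) (Fin a) F) ⊗ₖ (β : Matrix (Fin b) (Fin b) F)).det = 1 := by
    rw [Matrix.det_kronecker, hdet, Matrix.det_one, one_pow, one_pow, one_mul]
  have hd0 : ((1 : Matrix (Fin a) (Fin a) F) ⊗ₖ (β : Matrix (Fin b) (Fin b) F)).det ≠ 0 := by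
    rw [hd]; exact one_ne_zero
  refine ⟨Matrix.GeneralLinearGroup.mkOfDetNeZero _ hd0, ?_, rfl⟩
  refine kron_mem σ hσ 1 β (Subgroup.one_mem _) hβ ?_ _ rfl
  rw [hdet, one_pow, mul_one]
  change (1 : Matrix (Fin a) (Fin a) F).det ^ b = 1
  rw [Matrix.det_one, one_pow]

theorem utpisoany_core [Fintype F] (σ : F ≃+* F) (hσ : Inv2 σ) (hb : 3 ≤ b)
    (hex' : ¬ (b = 3 ∧ Fintype.card F = 4))
    (M : Subgroup (Matrix.GeneralLinearGroup (Fin a × Fin b) F)) (hTM : T0u σ a b ≤ M)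
    (hpure : ∀ (u : Fin a → F) (w : Fin b → F), cj σ u ⬝ᵥ u = 0 → cj σ w ⬝ᵥ w = 0 →
      ten u w ∈ XSu σ M) :
    ∀ (u : Fin a → F) (m : Fin b → F), cj σ u ⬝ᵥ u = 0 → ten u m ∈ XSu σ M := by
  intro u m hu
  obtain ⟨w₁, w₄, n, h11, h44, h14, hnn, hn1, hn4⟩ := utpisoany_frame (b := b) σ hσ hb
  by_cases hu0 : u = 0
  · have h1 := hpure u w₁ hu ((iso_iff σ w₁).mpr h11)
    have h2 : ten u m = ten u w₁ := by
      funext p
      simp [ten, hu0]
    rw [h2]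
    exact h1
  by_cases hmm : hf σ m m = 0
  · exact hpure u m hu ((iso_iff σ m).mpr hmm)
  have huu : hf σ u u = 0 := (iso_iff σ u).mp hu
  obtain ⟨u', hu'u', huu'⟩ := utpisoany_partner σ hσ u hu0 huu
  obtain ⟨l, hl0, hl⟩ := utpproper_skew σ hσ
  obtain ⟨β, hβ⟩ := utpisoany_trace σ hσ (-1) (by rw [map_neg, map_one])
  obtain ⟨ξ, hξ⟩ := utpisoany_trace σ hσ (-((-(σ β) - l) * σ (-(σ β) - l)))
    (by rw [map_neg, map_mul, hσ.invol, mul_comm])
  have hm₀ := utpisoany_chain σ hσ M hpure huu hu'u' huu' h11 h44 h14 hnn hn1 hn4 hl0 hl hβ hξ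
  have h4n : hf σ w₄ n = 0 := by rw [hf_herm σ hσ, hn4, map_zero]
  have hn₀ : hf σ (-(β • w₄) - n) (-(β • w₄) - n) = 1 := by
    simp only [hf_sub_left, hf_sub_right, hf_neg_left, hf_neg_right, hf_smul_left, hf_smul_right,
      h44, hn4, h4n, hnn]
    ring
  obtain ⟨μ, hμ⟩ := utpisosub_norm σ hσ (hf σ m m) (utpisosub_self_fixed σ hσ m)
  have hμ0 : μ ≠ 0 := by
    rintro rfl
    rw [zero_mul] at hμ
    exact hmm hμ.symm
  have hσμ0 : σ μ ≠ 0 := by
    intro h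
    rw [h, mul_zero] at hμ
    exact hmm hμ.symm
  have hm'' : hf σ (μ⁻¹ • m) (μ⁻¹ • m) = 1 := by
    rw [hf_smul_left, hf_smul_right, map_inv₀, ← hμ]
    field_simp
  obtain ⟨β', hβ'U, hβ'det, hβ'm⟩ := su_trans_norm σ hσ hb hex' (-(β • w₄) - n) (μ⁻¹ • m)
    (by rw [hn₀]; exact one_ne_zero) (by rw [hn₀, hm''])
  obtain ⟨A, hAT, hAv⟩ := utpisoany_one_kron_mem (a := a) σ hσ β' hβ'U hβ'det
  have hAM : A ∈ M := hTM hAT
  have hAU : A ∈ GUm σ (Fin a × Fin b) := (Subgroup.mem_inf.mp (Subgroup.mem_inf.mp hAT).2).1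
  have h3 := xsu_conj σ hσ M hAM hAU hm₀
  rw [hAv, kron_mulVec_ten, Matrix.one_mulVec, hβ'm] at h3
  have h4 := xsu_smul σ hσ M μ h3
  rw [← ten_smul_right, smul_smul, mul_inv_cancel₀ hμ0, one_smul] at h4
  exact h4

end Cfsg.Agent.Lib.helper6.UTP
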