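import Mathlib
import Cfsg.Prelude.Def_GeometricClasses
import Cfsg.Agent.Lib.Helper27.ASC.Defs
import Cfsg.Agent.Lib.Helper19.ASG.Defs
import Cfsg.Agent.Lib.Helper9.ASGD2T.Defs
import Cfsg.Agent.Lib.Helper9.ASGD2TF.Defs
import Cfsg.Agent.Lib.Helper19.ASU.Defs
import Cfsg.Agent.Lib.Helper19.ASUADJ

set_option autoImplicit false
set_option linter.unusedVariables false
set_option linter.unusedSectionVars false

namespace Cfsg.Agent.Lib.Helper19.ASU

open Cfsg Cfsg.Geo Cfsg.Agent.Lib.Helper27.ASC Cfsg.Agent.Lib.Helper19.ASG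
open scoped MatrixGroups Matrix

variable {n : ℕ} {F : Type*} [Field F]

def asud2tq2m3Psi {k : ℕ} (θ : Matrix (Fin k) (Fin k) F →ₐ[F] Matrix (Fin n) (Fin n) F) :
    GL (Fin k) F →* GL (Fin n) F :=
  Units.map (θ.toRingHom.toMonoidHom)

theorem asud2tq2m3_psi_coe {k : ℕ} (θ : Matrix (Fin k) (Fin k) F →ₐ[F] Matrix (Fin n) (Fin n) F)
    (a : GL (Fin k) F) :
    ((asud2tq2m3Psi θ a : GL (Fin n) F) : Matrix (Fin n) (Fin n) F) = θ (a : Matrix (Fin k) (Fin k) F) := rfl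

theorem asud2tq2m3_psi_injective {k : ℕ} (θ : Matrix (Fin k) (Fin k) F →ₐ[F] Matrix (Fin n) (Fin n) F)
    (hinj : Function.Injective θ) : Function.Injective (asud2tq2m3Psi θ) := by
  intro a b hab
  apply Units.ext
  apply hinj
  rw [← asud2tq2m3_psi_coe, ← asud2tq2m3_psi_coe, hab]

theorem asud2tq2m3_le_range {k : ℕ} (θ : Matrix (Fin k) (Fin k) F →ₐ[F] Matrix (Fin n) (Fin n) F)
    (hinj : Function.Injective θ) {K : Subgroup (GL (Fin n) F)}
    (hK : ∀ x ∈ K, ∃ a, (x : Matrix (Fin n) (Fin n) F) = θ a) : K ≤ (asud2tq2m3Psi θ).range := by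
  intro x hx
  obtain ⟨a, ha⟩ := hK x hx
  obtain ⟨a', ha'⟩ := hK x⁻¹ (K.inv_mem hx)
  have h1 : a * a' = 1 := by
    apply hinj
    rw [map_mul, map_one, ← ha, ← ha', ← Units.val_mul, mul_inv_cancel, Units.val_one]
  have h2 : a' * a = 1 := by
    apply hinj
    rw [map_mul, map_one, ← ha, ← ha', ← Units.val_mul, inv_mul_cancel, Units.val_one]
  refine ⟨⟨a, a', h1, h2⟩, ?_⟩
  apply Units.ext
  rw [asud2tq2m3_psi_coe]
  exact ha.symm

theorem asud2tq2m3_perfect_comap {G G' : Type*} [Group G] [Group G'] (ψ : G →* G')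
    (hψ : Function.Injective ψ) (K : Subgroup G') (hK : K ≤ ψ.range) (hperf : ⁅K, K⁆ = K) :
    ⁅K.comap ψ, K.comap ψ⁆ = K.comap ψ := by
  apply Subgroup.map_injective hψ
  rw [Subgroup.map_commutator, Subgroup.map_comap_eq_self hK, hperf]

variable [Fintype F]

theorem asud2tq2m3_core (hF : Fintype.card F = 2 ^ 2)
    (H_hstd : ∀ A : Matrix (Fin 3) (Fin 3) F, IsUnit A.det → (A.map (ufrob hF))ᵀ = A →
      ∃ S : GL (Fin 3) F, ((S : Matrix (Fin 3) (Fin 3) F).map (ufrob hF))ᵀ * A *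
        (S : Matrix (Fin 3) (Fin 3) F) = 1)
    (H_gu32 : ∀ K : Subgroup (GL (Fin 3) F), K ≤ GU 3 F 2 → ⁅K, K⁆ = K → K = ⊥)
    {K : Subgroup (GL (Fin n) F)} (hKU : K ≤ GU n F 2)
    (θ : Matrix (Fin 3) (Fin 3) F →ₐ[F] Matrix (Fin n) (Fin n) F) (hinj : Function.Injective θ)
    (A : Matrix (Fin 3) (Fin 3) F) (hA : IsUnit A.det) (hherm : (A.map (ufrob hF))ᵀ = A)
    (hstar : ∀ a, uadj 2 (θ a) = θ (A⁻¹ * (a.map (ufrob hF))ᵀ * A))
    (hK : ∀ x ∈ K, ∃ a, (x : Matrix (Fin n) (Fin n) F) = θ a) (hperf : ⁅K, K⁆ = K) : K = ⊥ := by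
  classical
  set ψ := asud2tq2m3Psi θ with hψdef
  have hψinj : Function.Injective ψ := asud2tq2m3_psi_injective θ hinj
  have hKr : K ≤ ψ.range := asud2tq2m3_le_range θ hinj hK
  set K' : Subgroup (GL (Fin 3) F) := K.comap ψ with hK'
  have hK'perf : ⁅K', K'⁆ = K' := asud2tq2m3_perfect_comap ψ hψinj K hKr hperf
  have hAA : A * A⁻¹ = 1 := Matrix.mul_nonsing_inv _ hA
  have hiso : ∀ a ∈ K', ((a : Matrix (Fin 3) (Fin 3) F).map (ufrob hF))ᵀ * A * (a : Matrix (Fin 3) (Fin 3) F) = A := by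
    intro a ha
    have hx : ψ a ∈ K := ha
    have h1 := (uadj_iso hF (ψ a)).mp (hKU hx)
    rw [hψdef, asud2tq2m3_psi_coe, hstar, ← map_mul] at h1
    have h2 : A⁻¹ * ((a : Matrix (Fin 3) (Fin 3) F).map (ufrob hF))ᵀ * A * (a : Matrix (Fin 3) (Fin 3) F) = 1 := by
      apply hinj
      rw [h1, map_one]
    calc ((a : Matrix (Fin 3) (Fin 3) F).map (ufrob hF))ᵀ * A * (a : Matrix (Fin 3) (Fin 3) F)
        = (A * A⁻¹) * ((a : Matrix (Fin 3) (Fin 3) F).map (ufrob hF))ᵀ * A * (a : Matrix (Fin 3) (Fin 3) F) := by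
          rw [hAA, one_mul]
      _ = A * (A⁻¹ * ((a : Matrix (Fin 3) (Fin 3) F).map (ufrob hF))ᵀ * A * (a : Matrix (Fin 3) (Fin 3) F)) := by
          simp only [mul_assoc]
      _ = A := by rw [h2, mul_one]
  obtain ⟨S, hS⟩ := H_hstd A hA hherm
  set Sm : Matrix (Fin 3) (Fin 3) F := (S : Matrix (Fin 3) (Fin 3) F) with hSm
  set Si : Matrix (Fin 3) (Fin 3) F := ((S⁻¹ : GL (Fin 3) F) : Matrix (Fin 3) (Fin 3) F) with hSi
  have hSSi : Sm * Si = 1 := by rw [hSm, hSi, ← Units.val_mul, mul_inv_cancel, Units.val_one]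
  have hSiS : Si * Sm = 1 := by rw [hSm, hSi, ← Units.val_mul, inv_mul_cancel, Units.val_one]
  have hσS : (Sm.map (ufrob hF))ᵀ * (Si.map (ufrob hF))ᵀ = 1 := by
    rw [← Matrix.transpose_mul, ← Matrix.map_mul, hSiS, Matrix.map_one _ (map_zero _) (map_one _),
      Matrix.transpose_one]
  have hAS : A = (Si.map (ufrob hF))ᵀ * Si := by
    have hσS' : (Si.map (ufrob hF))ᵀ * (Sm.map (ufrob hF))ᵀ = 1 := by
      rw [← Matrix.transpose_mul, ← Matrix.map_mul, hSSi, Matrix.map_one _ (map_zero _) (map_one _),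
        Matrix.transpose_one]
    calc A = ((Si.map (ufrob hF))ᵀ * (Sm.map (ufrob hF))ᵀ) * A * (Sm * Si) := by
          rw [hσS', hSSi, one_mul, mul_one]
      _ = (Si.map (ufrob hF))ᵀ * ((Sm.map (ufrob hF))ᵀ * A * Sm) * Si := by simp only [mul_assoc]
      _ = (Si.map (ufrob hF))ᵀ * Si := by rw [hS, mul_one]
  set K'' : Subgroup (GL (Fin 3) F) := K'.map (MulAut.conj S⁻¹).toMonoidHom with hK''
  have hK''U : K'' ≤ GU 3 F 2 := by
    rintro _ ⟨a, ha, rfl⟩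
    rw [uadj_iso hF, uadj_eq hF, Matrix.transpose_map]
    have hb : (((MulAut.conj S⁻¹).toMonoidHom a : GL (Fin 3) F) : Matrix (Fin 3) (Fin 3) F) =
        Si * (a : Matrix (Fin 3) (Fin 3) F) * Sm := by
      show ((S⁻¹ * a * S⁻¹⁻¹ : GL (Fin 3) F) : Matrix (Fin 3) (Fin 3) F) = _
      rw [inv_inv, Units.val_mul, Units.val_mul]
    rw [hb, Matrix.map_mul, Matrix.map_mul, Matrix.transpose_mul, Matrix.transpose_mul]
    have h3 := hiso a ha
    rw [hAS] at h3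
    set am : Matrix (Fin 3) (Fin 3) F := (a : Matrix (Fin 3) (Fin 3) F) with ham
    calc (Sm.map (ufrob hF))ᵀ * ((am.map (ufrob hF))ᵀ * (Si.map (ufrob hF))ᵀ) * (Si * am * Sm)
        = (Sm.map (ufrob hF))ᵀ * ((am.map (ufrob hF))ᵀ * ((Si.map (ufrob hF))ᵀ * Si) * am) * Sm := by
          simp only [mul_assoc]
      _ = (Sm.map (ufrob hF))ᵀ * ((Si.map (ufrob hF))ᵀ * Si) * Sm := by rw [h3]
      _ = ((Sm.map (ufrob hF))ᵀ * (Si.map (ufrob hF))ᵀ) * (Si * Sm) := by simp only [mul_assoc]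
      _ = 1 := by rw [hσS, hSiS, one_mul]
  have hK''perf : ⁅K'', K''⁆ = K'' := by
    rw [hK'', ← Subgroup.map_commutator, hK'perf]
  have hbot := H_gu32 K'' hK''U hK''perf
  have hK'bot : K' = ⊥ := by
    rw [hK''] at hbot
    exact (Subgroup.map_eq_bot_iff_of_injective K' (MulAut.conj S⁻¹).injective).mp hbot
  rw [← Subgroup.map_comap_eq_self hKr, ← hK', hK'bot, Subgroup.map_bot]

end Cfsg.Agent.Lib.Helper19.ASU
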