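import Mathlib
import Cfsg.Prelude.Def_GeometricClasses
import Cfsg.Agent.Lib.Helper27.ASC.Defs
import Cfsg.Agent.Lib.Helper19.ASG.Defs
import Cfsg.Agent.Lib.Helper9.ASGD2T.Defs
import Cfsg.Agent.Lib.Helper9.ASGD2TF.Defs
import Cfsg.Agent.Lib.Helper19.ASU.Defs
import Cfsg.Agent.Lib.Helper19.ASUADJ
import Cfsg.Agent.Lib.Helper24.ASUD2TQ2M3core
import Cfsg.Agent.Lib.Helper18.ASUD2THSTD
import Cfsg.Agent.Lib.helper2.Burnside2
import Cfsg.Agent.S0277

set_option autoImplicit false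
set_option linter.unusedVariables false
set_option linter.unusedSectionVars false

namespace Cfsg.Agent.Lib.Helper19.ASU

open Cfsg Cfsg.Geo Cfsg.Agent.Lib.Helper27.ASC Cfsg.Agent.Lib.Helper19.ASG
open scoped MatrixGroups Matrix

variable {n : ℕ} {F : Type*} [Field F]

theorem asud2tq2m3_perfect_solvable {G : Type*} [Group G] (hs : Group.IsSolvable G) (K : Subgroup G)
    (hperf : ⁅K, K⁆ = K) : K = ⊥ := by
  obtain ⟨m, hm⟩ := hs.solvable
  have h1 : ∀ j : ℕ, K ≤ derivedSeries G j := by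
    intro j
    induction j with
    | zero => exact le_top
    | succ j ih =>
      rw [derivedSeries_succ]
      calc K = ⁅K, K⁆ := hperf.symm
        _ ≤ ⁅derivedSeries G j, derivedSeries G j⁆ := Subgroup.commutator_mono ih ih
  have := h1 m
  rw [hm] at this
  exact le_bot_iff.1 this

variable [Fintype F]

theorem asud2tq2m3_gu32_solvable (hF : Fintype.card F = 2 ^ 2) : Group.IsSolvable (GU 3 F 2) := by
  classical
  have hc := Cfsg.Agent.S0277.result (F := F) (q := 2) hF 3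
  have hfin : Finite (GU 3 F 2) := inferInstance
  apply Cfsg.Agent.Lib.helper2.burnside_pq 2 3 3 4 Nat.prime_two Nat.prime_three
  rw [hc]
  simp [Finset.prod_range_succ]

theorem asud2tq2m3_gu32 (hF : Fintype.card F = 2 ^ 2) (K : Subgroup (GL (Fin 3) F)) (hK : K ≤ GU 3 F 2)
    (hperf : ⁅K, K⁆ = K) : K = ⊥ := by
  classical
  have hs : Group.IsSolvable (GU 3 F 2) := asud2tq2m3_gu32_solvable hF
  have h1 : ⁅K.subgroupOf (GU 3 F 2), K.subgroupOf (GU 3 F 2)⁆ = K.subgroupOf (GU 3 F 2) := by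
    apply Subgroup.map_injective (Subgroup.subtype_injective (GU 3 F 2))
    rw [Subgroup.map_commutator, Subgroup.subgroupOf_map_subtype, inf_eq_left.2 hK, hperf]
  have h2 := asud2tq2m3_perfect_solvable hs _ h1
  rw [Subgroup.subgroupOf_eq_bot] at h2
  rw [← inf_eq_left.2 hK]
  exact disjoint_iff.1 h2

theorem u_q2m3_false (hF : Fintype.card F = 2 ^ 2) {K : Subgroup (GL (Fin n) F)} (hKU : K ≤ GU n F 2)
    (θ : Matrix (Fin 3) (Fin 3) F →ₐ[F] Matrix (Fin n) (Fin n) F) (hinj : Function.Injective θ)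
    (A : Matrix (Fin 3) (Fin 3) F) (hA : IsUnit A.det) (hherm : (A.map (ufrob hF))ᵀ = A)
    (hstar : ∀ a, uadj 2 (θ a) = θ (A⁻¹ * (a.map (ufrob hF))ᵀ * A))
    (hK : ∀ x ∈ K, ∃ a, (x : Matrix (Fin n) (Fin n) F) = θ a) (hperf : ⁅K, K⁆ = K) : K = ⊥ :=
  asud2tq2m3_core hF (fun A hA hh => herm_std 2 hF A hA hh) (fun K hK hp => asud2tq2m3_gu32 hF K hK hp)
    hKU θ hinj A hA hherm hstar hK hperf

end Cfsg.Agent.Lib.Helper19.ASU
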