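import Mathlib
import Cfsg.Prelude.Def_GeometricClasses
import Cfsg.Agent.Lib.Helper27.ASC.Defs
import Cfsg.Agent.Lib.Helper19.ASG.Defs
import Cfsg.Agent.Lib.Helper9.ASGD2T.Defs
import Cfsg.Agent.Lib.Helper9.ASGD2TF.Defs
import Cfsg.Agent.Lib.Helper19.ASU.Defs
import Cfsg.Agent.Lib.Helper19.ASUADJ

set_option autoImplicit false
set_option linter.unusedVariables false
set_option linter.unusedSectionVars false

namespace Cfsg.Agent.Lib.Helper19.ASU

open Cfsg Cfsg.Geo Cfsg.Agent.Lib.Helper27.ASC Cfsg.Agent.Lib.Helper19.ASG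
open scoped MatrixGroups Matrix

variable {n : ℕ} {F : Type*} [Field F]

variable [Fintype F]

theorem ustar_op (q : ℕ) (hF : Fintype.card F = q ^ 2) :
    IsStarOp (ufrob hF) (uadj q : Matrix (Fin n) (Fin n) F → Matrix (Fin n) (Fin n) F) where
  mul := fun x y => uadj_mul hF x y
  add := fun x y => uadj_add hF x y
  smul := fun c x => by rw [uadj_smul hF, ufrob_apply]
  one := uadj_one hF
  invol := fun x => uadj_uadj hF x

end Cfsg.Agent.Lib.Helper19.ASU
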