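import Mathlib
import Cfsg.Prelude.Def_GeometricClasses
import Cfsg.Agent.Lib.Helper27.ASC.Defs
import Cfsg.Agent.Lib.Helper19.ASG.Defs
import Cfsg.Agent.Lib.Helper9.ASGD2T.Defs
import Cfsg.Agent.Lib.Helper9.ASGD2TF.Defs
import Cfsg.Agent.Lib.Helper19.ASU.Defs
import Cfsg.Agent.Lib.Helper19.ASUADJ
import Cfsg.Agent.Lib.Helper9.ASGD2TSTRUCT
import Cfsg.Agent.Lib.Helper9.ASGD2TASM1
import Cfsg.Agent.Lib.Helper9.ASGD2TASM2
import Cfsg.Agent.Lib.Helper11.ASGD2TTWO
import Cfsg.Agent.Lib.Helper11.ASGD2TPTMUL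
import Cfsg.Agent.Lib.Helper24.ASGD2TFALL
import Cfsg.Agent.Lib.Helper24.ASGD2TFGRAM
import Cfsg.Agent.Lib.Helper10.ASUD2S
import Cfsg.Agent.Lib.Helper24.ASUD2TSTAR
import Cfsg.Agent.Lib.Helper11.ASUD2THERM
import Cfsg.Agent.Lib.helper4.ASUD2TUFORM
import Cfsg.Agent.Lib.Helper24.ASUD2TQ2M3
import Cfsg.Agent.Lib.Helper22.ASUCFG

set_option autoImplicit false
set_option linter.unusedVariables false
set_option linter.unusedSectionVars false

namespace Cfsg.Agent.Lib.Helper19.ASU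

open Cfsg Cfsg.Geo Cfsg.Agent.Lib.Helper27.ASC Cfsg.Agent.Lib.Helper19.ASG
open scoped MatrixGroups Matrix

variable {n : ℕ} {F : Type*} [Field F]

variable [Fintype F]

theorem asud2tasm_gram_unitary (q : ℕ) (hF : Fintype.card F = q ^ 2) {k : ℕ} (M : Matrix (Fin k) (Fin k) F)
    (hM : IsUnit M.det) (hherm : ∀ i j, (M j i) ^ q = M i j) :
    IsUnitaryFormPow q (formOfGram (fun x : F => x ^ q) M) := by
  apply uc_formOfGram_unitary q hF M hM.ne_zero
  ext i j
  rw [uadj, Matrix.map_apply, Matrix.transpose_apply]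
  exact hherm i j

theorem asud2tasm_cj_injective {k t : ℕ} (e : Fin n ≃ (Fin t → Fin k)) (B : GL (Fin n) F) (i : Fin t)
    (θ : Matrix (Fin k) (Fin k) F →ₐ[F] Matrix (Fin n) (Fin n) F)
    (hθB : ∀ a, θ a = (B : Matrix (Fin n) (Fin n) F) *
      Matrix.reindex e.symm e.symm (ptMat (Pi.mulSingle i a)) *
      ((B⁻¹ : GL (Fin n) F) : Matrix (Fin n) (Fin n) F)) : Function.Injective θ := by
  intro a b hab
  rw [hθB, hθB] at hab
  have h1 : Matrix.reindex e.symm e.symm (ptMat (Pi.mulSingle i a) : Matrix (Fin t → Fin k) (Fin t → Fin k) F) =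
      Matrix.reindex e.symm e.symm (ptMat (Pi.mulSingle i b)) := by
    have h2 := congrArg (fun T => ((B⁻¹ : GL (Fin n) F) : Matrix (Fin n) (Fin n) F) * T *
      (B : Matrix (Fin n) (Fin n) F)) hab
    simpa only [mul_assoc, Units.inv_mul_cancel_left, Units.inv_mul, mul_one] using h2
  exact ptMat_single_injective i a b ((Matrix.reindex e.symm e.symm).injective h1)

theorem u_perfect_case (q : ℕ) (hF : Fintype.card F = q ^ 2) (hn : 3 ≤ n) {H N : Subgroup (GL (Fin n) F)}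
    (hI : H ≤ GU n F q) (hH : Irr H) (hD : AllNormalAbsIrr H) (hN : MinNonscalar N H) (hperf : ⁅N, N⁆ = N) :
    InU n q H ∨ (IsSimpleGroup (N ⧸ (scalars (Fin n) F).subgroupOf N) ∧
      ¬ IsMulCommutative (N ⧸ (scalars (Fin n) F).subgroupOf N)) := by
  classical
  rcases perfect_structure_conj hn hH hD hN hperf with hs | ⟨m, t, X, θ₀, g, e, B, ht2, hm2, hg, hXinj, hXmin, hXsup,
    hXperf, hXcomm, hrange, hθB, hXperm, hle⟩
  · exact Or.inr hs
  left
  have ht0 : 0 < t := by omega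
  have hNA : AbsIrr N := by
    rcases hD N hN.1 with h | h
    · exact absurd h hN.2.1
    · exact h
  have hNU : N ≤ GU n F q := hN.1.1.trans hI
  have hXN : ∀ i, X i ≤ N := fun i => (hXmin i).1.1
  have hXH : ∀ i, X i ≤ H := fun i => (hXN i).trans hN.1.1
  have hθinj : ∀ i, Function.Injective (cjHom (g i) θ₀) := fun i =>
    asud2tasm_cj_injective e B i (cjHom (g i) θ₀) (hθB i)
  have hXθ : ∀ i, ∀ x ∈ X i, ∃ a, (x : Matrix (Fin n) (Fin n) F) = cjHom (g i) θ₀ a := by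
    intro i x hx
    obtain ⟨a, ha⟩ := (hrange i _).mpr (asgd2tasm_le_dcomm (X i) x hx)
    exact ⟨a, ha.symm⟩
  rcases Nat.lt_or_ge m 3 with hm3 | hm3
  ·
    have hm : m = 2 := by omega
    subst hm
    have hXSL : ∀ i, X i ≤ asgd2tasmSL (cjHom (g i) θ₀) := fun i =>
      asgd2tasm_perfect_le_SL (cjHom (g i) θ₀) (hθinj i) (X i) (hXperf i) (hXθ i)
    have hreal : ∃ F₀ : Subfield F, F₀ ≠ ⊤ ∧ RealisableOver F₀ (matrixSet N) := by
      rcases two_forms ht0 e B with ⟨f, hf, hfix⟩ | ⟨Q, hQ, hfix⟩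
      · have hle' : N ≤ asgd2tasmIso f := by
          rw [← hXsup]
          refine iSup_le fun i x hx => ?_
          obtain ⟨a, ha, hxa⟩ := hXSL i hx
          intro u v
          rw [hxa, hθB]
          exact hfix i a ha u v
        refine asud2s_realisable_of_bilinear q hF hNU hNA f hf.bilinear hf.nondegenerate ?_
        rintro _ ⟨x, hx, rfl⟩ u v
        exact hle' hx u v
      · have hle' : N ≤ asgd2tasmQIso Q := by
          rw [← hXsup]
          refine iSup_le fun i x hx => ?_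
          obtain ⟨a, ha, hxa⟩ := hXSL i hx
          intro v
          rw [hxa, hθB]
          exact hfix i a ha v
        refine asud2s_realisable_of_bilinear q hF hNU hNA (QuadraticMap.polar Q) hQ.polar_bilinear
          hQ.nondegenerate ?_
        rintro _ ⟨x, hx, rfl⟩ u v
        have h1 := hle' hx
        unfold QuadraticMap.polar
        rw [← Matrix.mulVec_add, h1 (u + v), h1 u, h1 v]
    obtain ⟨F₀, h0, hR⟩ := hreal
    exact asud2s_class_of_realisable q hF (by omega) hI hN.1 hNA F₀ h0 hR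
  have hσ : ∀ a, ufrob hF (ufrob hF a) = a := ufrob_ufrob hF
  have hs : IsStarOp (ufrob hF) (uadj q : Matrix (Fin n) (Fin n) F → Matrix (Fin n) (Fin n) F) := ustar_op q hF
  have hIstar : ∀ h ∈ H, uadj q (h : Matrix (Fin n) (Fin n) F) * (h : Matrix (Fin n) (Fin n) F) = 1 :=
    fun h hh => (uadj_iso hF h).mp (hI hh)
  have hθ₀inj : Function.Injective θ₀ := by
    intro a b hab
    apply hθinj ⟨0, ht0⟩
    rw [cjHom_apply, cjHom_apply, hab]
  obtain ⟨A₀, hA₀⟩ := star_tensor hσ hs hIstar ht0 X hXH θ₀ hθ₀inj g hg hrange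
  have hfac : ∀ (i : Fin t) (a : Matrix (Fin m) (Fin m) F),
      (1 : Matrix (Fin n) (Fin n) F)⁻¹ * ((tensorFac e B i a).map (ufrob hF))ᵀ * 1 =
        tensorFac e B i (((A₀⁻¹ : GL (Fin m) F) : Matrix (Fin m) (Fin m) F) * (a.map (ufrob hF))ᵀ *
          (A₀ : Matrix (Fin m) (Fin m) F)) := by
    intro i a
    rw [inv_one, one_mul, mul_one, tensorFac_def, tensorFac_def, ← hθB, ← hθB, ← hA₀ i a, uadj_eq hF,
      Matrix.transpose_map]
  obtain ⟨c, hc, hgram0⟩ := gram_tensor hσ (1 : Matrix (Fin n) (Fin n) F)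
    (by rw [Matrix.det_one]; exact isUnit_one) e B A₀ hfac
  rw [mul_one] at hgram0
  have hA₀u : IsUnit (A₀ : Matrix (Fin m) (Fin m) F).det :=
    (Matrix.isUnit_iff_isUnit_det _).mp ⟨A₀, rfl⟩
  obtain ⟨μ, c', hμ, hc', hherm, hgram⟩ := uherm_normalise q hF (by omega) ht0 e B _ hA₀u c hc hgram0
  set A' : Matrix (Fin m) (Fin m) F := μ • (A₀ : Matrix (Fin m) (Fin m) F) with hA'
  have hA'u : IsUnit A'.det := by
    rw [hA', Matrix.det_smul]
    exact (IsUnit.mk0 _ (pow_ne_zero _ hμ)).mul hA₀u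
  by_cases hex : q = 2 ∧ m = 3
  ·
    exfalso
    obtain ⟨hq, hm⟩ := hex
    subst hq
    subst hm
    have hstar' : ∀ a, uadj 2 (cjHom (g ⟨0, ht0⟩) θ₀ a) =
        cjHom (g ⟨0, ht0⟩) θ₀ (A'⁻¹ * (a.map (ufrob hF))ᵀ * A') := by
      intro a
      rw [hA₀ ⟨0, ht0⟩ a]
      congr 1
      have hinv : A'⁻¹ = μ⁻¹ • ((A₀⁻¹ : GL (Fin 3) F) : Matrix (Fin 3) (Fin 3) F) := by
        apply Matrix.inv_eq_right_inv
        rw [hA', Matrix.smul_mul, Matrix.mul_smul, smul_smul, mul_inv_cancel₀ hμ, one_smul, ← Units.val_mul,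
          mul_inv_cancel, Units.val_one]
      rw [hinv, hA', Matrix.smul_mul, Matrix.smul_mul, Matrix.mul_smul, smul_smul, inv_mul_cancel₀ hμ, one_smul]
    have hbot := u_q2m3_false hF ((hXH ⟨0, ht0⟩).trans hI) (cjHom (g ⟨0, ht0⟩) θ₀) (hθinj ⟨0, ht0⟩) A' hA'u hherm
      hstar' (hXθ ⟨0, ht0⟩) (hXperf ⟨0, ht0⟩)
    apply (hXmin ⟨0, ht0⟩).2.1
    rw [hbot]
    exact bot_le
  · have hM : IsUnit (A'ᵀ).det := by rw [Matrix.det_transpose]; exact hA'u
    have hMh : ∀ i j, (A'ᵀ j i) ^ q = A'ᵀ i j := by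
      intro i j
      have h1 := congrFun (congrFun hherm j) i
      rw [Matrix.transpose_apply, Matrix.map_apply, ufrob_apply] at h1
      rw [Matrix.transpose_apply, Matrix.transpose_apply]
      exact h1
    exact inU_of_tpower hI e B (formOfGram (fun x : F => x ^ q) A'ᵀ) hm3 ht2 hex (asud2tasm_gram_unitary q hF A'ᵀ hM hMh)
      (u_tpower_structure q hF e B A' c' hc' hgram) hle

end Cfsg.Agent.Lib.Helper19.ASU
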