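import Mathlib

set_option autoImplicit false
set_option linter.style.haveILetI false

namespace Cfsg.Agent.Lib.Helper24

theorem o12_sylow_cards {G : Type*} [Group G] [Finite G] (hG : Nat.card G = 12) :
    (∀ P : Sylow 3 G, Nat.card P = 3) ∧ (∀ T : Sylow 2 G, Nat.card T = 4) := by
  haveI : Fact (Nat.Prime 2) := ⟨Nat.prime_two⟩
  haveI : Fact (Nat.Prime 3) := ⟨Nat.prime_three⟩
  have e : (12 : ℕ) = 2 ^ 2 * 3 := by norm_num
  have h3 : (12 : ℕ).factorization 3 = 1 := by
    rw [e, Nat.factorization_mul (by norm_num) (by norm_num), Nat.factorization_pow]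
    simp [Nat.Prime.factorization_self Nat.prime_three,
      Nat.factorization_eq_zero_of_not_dvd (show ¬ 3 ∣ 2 by norm_num)]
  have h2 : (12 : ℕ).factorization 2 = 2 := by
    rw [e, Nat.factorization_mul (by norm_num) (by norm_num), Nat.factorization_pow]
    simp [Nat.Prime.factorization_self Nat.prime_two,
      Nat.factorization_eq_zero_of_not_dvd (show ¬ 2 ∣ 3 by norm_num)]
  constructor
  · intro P
    rw [Sylow.card_eq_multiplicity, hG, h3, pow_one]
  · intro T
    rw [Sylow.card_eq_multiplicity, hG, h2]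
    norm_num

theorem o12_num_sylow {G : Type*} [Group G] [Finite G] (hG : Nat.card G = 12) :
    Nat.card (Sylow 3 G) = 1 ∨ Nat.card (Sylow 3 G) = 4 := by
  haveI : Fact (Nat.Prime 3) := ⟨Nat.prime_three⟩
  obtain ⟨P⟩ := (inferInstance : Nonempty (Sylow 3 G))
  have h1 := card_sylow_modEq_one 3 G
  have h2 := Sylow.card_dvd_index P
  have h3 : (P : Subgroup G).index = 4 := by
    have := Subgroup.card_mul_index (P : Subgroup G)
    rw [hG, (o12_sylow_cards hG).1 P] at this
    omega
  rw [h3] at h2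
  have h4 : Nat.card (Sylow 3 G) ≤ 4 := Nat.le_of_dvd (by norm_num) h2
  unfold Nat.ModEq at h1
  interval_cases h : Nat.card (Sylow 3 G)
  · simp at h2
  · left; rfl
  · simp at h1
  · simp at h1
  · right; rfl

theorem o12_central_of_normal {G : Type*} [Group G] [Finite G] (hG : Nat.card G = 12)
    (P : Sylow 3 G) (hP3 : Nat.card P = 3) (T : Sylow 2 G) (hT4 : Nat.card T = 4)
    (hn : (P : Subgroup G).Normal) :
    ∃ z : G, orderOf z = 2 ∧ z ∈ Subgroup.center G := by
  haveI : Fact (Nat.Prime 2) := ⟨Nat.prime_two⟩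
  haveI : Fact (Nat.Prime 3) := ⟨Nat.prime_three⟩
  haveI : IsCyclic (P : Subgroup G) := isCyclic_of_prime_card hP3
  have hA : Nat.card (MulAut (P : Subgroup G)) = 2 := by
    rw [IsCyclic.card_mulAut, hP3]
    rfl
  let ψ : (T : Subgroup G) →* MulAut (P : Subgroup G) :=
    (MulAut.conjNormal).comp (T : Subgroup G).subtype
  have h1 : Nat.card ψ.ker * Nat.card ψ.range = 4 := by
    rw [← Subgroup.index_ker, Subgroup.card_mul_index, hT4]
  have h2 : Nat.card ψ.range ∣ 2 := by
    have := Subgroup.card_subgroup_dvd_card ψ.range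
    rwa [hA] at this
  have h3 : 2 ∣ Nat.card ψ.ker := by
    have h4 : Nat.card ψ.range ≤ 2 := Nat.le_of_dvd (by norm_num) h2
    have h5 : 0 < Nat.card ψ.range := Nat.card_pos
    interval_cases h : Nat.card ψ.range
    · exact ⟨2, by omega⟩
    · exact ⟨1, by omega⟩
  obtain ⟨z, hz⟩ := exists_prime_orderOf_dvd_card' (G := ψ.ker) 2 h3
  have hzo : orderOf ((z : (T : Subgroup G)) : G) = 2 := by
    rw [Subgroup.orderOf_coe, Subgroup.orderOf_coe]
    exact hz
  refine ⟨((z : (T : Subgroup G)) : G), hzo, ?_⟩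
  have hzP : ∀ a ∈ (P : Subgroup G), ((z : (T : Subgroup G)) : G) * a = a * ((z : (T : Subgroup G)) : G) := by
    intro a ha
    have hk : ψ (z : (T : Subgroup G)) = 1 := z.2
    have h6 : (ψ (z : (T : Subgroup G))) ⟨a, ha⟩ = ⟨a, ha⟩ := by rw [hk]; rfl
    have h7 := congrArg Subtype.val h6
    simp only [ψ, MonoidHom.comp_apply, Subgroup.coe_subtype, MulAut.conjNormal_apply] at h7
    calc ((z : (T : Subgroup G)) : G) * a
        = ((z : (T : Subgroup G)) : G) * a * ((z : (T : Subgroup G)) : G)⁻¹ * ((z : (T : Subgroup G)) : G) := by group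
      _ = a * ((z : (T : Subgroup G)) : G) := by rw [h7]
  have hzT : ∀ a ∈ (T : Subgroup G), ((z : (T : Subgroup G)) : G) * a = a * ((z : (T : Subgroup G)) : G) := by
    intro a ha
    have hc := (IsPGroup.isMulCommutative_of_card_eq_prime_sq (p := 2) (G := (T : Subgroup G))
      (by rw [hT4]; norm_num)).is_comm.comm (z : (T : Subgroup G)) ⟨a, ha⟩
    exact congrArg Subtype.val hc
  set C := Subgroup.centralizer ({((z : (T : Subgroup G)) : G)} : Set G) with hC
  have hPC : (P : Subgroup G) ≤ C := by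
    intro a ha
    rw [hC, Subgroup.mem_centralizer_iff]
    intro y hy
    rw [Set.mem_singleton_iff] at hy
    rw [hy]
    exact hzP a ha
  have hTC : (T : Subgroup G) ≤ C := by
    intro a ha
    rw [hC, Subgroup.mem_centralizer_iff]
    intro y hy
    rw [Set.mem_singleton_iff] at hy
    rw [hy]
    exact hzT a ha
  have hd3 : 3 ∣ Nat.card C := hP3 ▸ Subgroup.card_dvd_of_le hPC
  have hd4 : 4 ∣ Nat.card C := hT4 ▸ Subgroup.card_dvd_of_le hTC
  have hd12 : Nat.card C ∣ 12 := hG ▸ Subgroup.card_subgroup_dvd_card C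
  have hC12 : Nat.card C = Nat.card G := by
    rw [hG]
    have : 12 ∣ Nat.card C := Nat.Coprime.mul_dvd_of_dvd_of_dvd (by norm_num) hd3 hd4
    exact Nat.dvd_antisymm hd12 this
  have hCtop : C = ⊤ := (Subgroup.card_eq_iff_eq_top C).mp hC12
  rw [Subgroup.mem_center_iff]
  intro g
  have hg : g ∈ C := by rw [hCtop]; exact Subgroup.mem_top g
  rw [hC, Subgroup.mem_centralizer_iff] at hg
  exact (hg _ rfl).symm

theorem o12_alt_of_four {G : Type*} [Group G] [Finite G] (hG : Nat.card G = 12)
    (hP3 : ∀ P : Sylow 3 G, Nat.card P = 3)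
    (h4 : Nat.card (Sylow 3 G) = 4) : Nonempty (G ≃* alternatingGroup (Fin 4)) := by
  classical
  haveI : Fact (Nat.Prime 3) := ⟨Nat.prime_three⟩
  haveI : Fintype (Sylow 3 G) := Fintype.ofFinite _
  have hnorm : ∀ P : Sylow 3 G, Subgroup.normalizer (P : Set G) = (P : Subgroup G) := by
    intro P
    have h1 := Sylow.card_eq_index_normalizer P
    rw [h4] at h1
    have h2 := Subgroup.card_mul_index (Subgroup.normalizer (P : Set G))
    rw [← h1, hG] at h2
    have h3 : Nat.card (Subgroup.normalizer (P : Set G)) = 3 := by omega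
    symm
    apply Subgroup.eq_of_le_of_card_ge (Subgroup.le_normalizer (H := (P : Subgroup G)))
    change Nat.card (Subgroup.normalizer (P : Set G)) ≤ _
    rw [h3, hP3 P]
  let φ : G →* Equiv.Perm (Sylow 3 G) := MulAction.toPermHom G (Sylow 3 G)
  have hinj : Function.Injective φ := by
    rw [injective_iff_map_eq_one]
    intro g hg
    have hfix : ∀ P : Sylow 3 G, g ∈ (P : Subgroup G) := by
      intro P
      have h1 : g • P = P := by
        have := congrArg (fun σ : Equiv.Perm (Sylow 3 G) => σ P) hg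
        simpa [φ] using this
      rw [Sylow.smul_eq_iff_mem_normalizer, hnorm P] at h1
      exact h1
    have hnt : Nontrivial (Sylow 3 G) := by
      rw [← Finite.one_lt_card_iff_nontrivial, h4]
      norm_num
    obtain ⟨P, Q, hPQ⟩ := hnt
    have hg : g ∈ (P : Subgroup G) ⊓ (Q : Subgroup G) := ⟨hfix P, hfix Q⟩
    have hd : Nat.card ↥((P : Subgroup G) ⊓ (Q : Subgroup G)) ∣ 3 := by
      have := Subgroup.card_dvd_of_le (inf_le_left : (P : Subgroup G) ⊓ (Q : Subgroup G) ≤ P)
      rwa [hP3 P] at this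
    rcases (Nat.dvd_prime Nat.prime_three).mp hd with h | h
    · rw [Subgroup.card_eq_one] at h
      rw [h, Subgroup.mem_bot] at hg
      exact hg
    · exfalso
      apply hPQ
      have e1 : (P : Subgroup G) ⊓ (Q : Subgroup G) = (P : Subgroup G) :=
        Subgroup.eq_of_le_of_card_ge inf_le_left (by rw [h, hP3 P])
      have e2 : (P : Subgroup G) ≤ (Q : Subgroup G) := by
        rw [← e1]; exact inf_le_right
      have e3 : (P : Subgroup G) = (Q : Subgroup G) :=
        Subgroup.eq_of_le_of_card_ge e2 (by rw [hP3 P, hP3 Q])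
      exact Sylow.ext e3
  have hrange : φ.range = alternatingGroup (Sylow 3 G) := by
    apply Equiv.Perm.eq_alternatingGroup_of_index_eq_two
    have h1 : Nat.card φ.range = 12 := by
      rw [← hG]
      exact (Nat.card_congr (MonoidHom.ofInjective hinj).toEquiv).symm
    have h2 : Nat.card (Equiv.Perm (Sylow 3 G)) = 24 := by
      rw [Nat.card_perm, h4]
      rfl
    have h3 := Subgroup.card_mul_index φ.range
    rw [h1, h2] at h3
    omega
  have e : Sylow 3 G ≃ Fin 4 := by
    have : Fintype.card (Sylow 3 G) = 4 := by rw [← Nat.card_eq_fintype_card, h4]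
    exact Fintype.equivFinOfCardEq this
  exact ⟨((MonoidHom.ofInjective hinj).trans (MulEquiv.subgroupCongr hrange)).trans
    (Equiv.altCongrHom e)⟩

theorem o12_main {G : Type*} [Group G] [Finite G] (hG : Nat.card G = 12)
    (hz : ∀ z : G, orderOf z = 2 → z ∉ Subgroup.center G) :
    Nonempty (G ≃* alternatingGroup (Fin 4)) := by
  haveI : Fact (Nat.Prime 2) := ⟨Nat.prime_two⟩
  haveI : Fact (Nat.Prime 3) := ⟨Nat.prime_three⟩
  obtain ⟨hc3, hc4⟩ := o12_sylow_cards hG
  rcases o12_num_sylow hG with h1 | h4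
  · exfalso
    obtain ⟨P⟩ := (inferInstance : Nonempty (Sylow 3 G))
    obtain ⟨T⟩ := (inferInstance : Nonempty (Sylow 2 G))
    haveI : Subsingleton (Sylow 3 G) := (Nat.card_eq_one_iff_unique.mp h1).1
    have hn : (P : Subgroup G).Normal := Sylow.normal_of_subsingleton P
    obtain ⟨z, hzo, hzc⟩ := o12_central_of_normal hG P (hc3 P) T (hc4 T) hn
    exact hz z hzo hzc
  · exact o12_alt_of_four hG hc3 h4

end Cfsg.Agent.Lib.Helper24
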