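import Cfsg.Agent.Lib.helper7.TO.Basic

set_option autoImplicit false

namespace Cfsg.Agent.Lib.helper7.TO

open Matrix Cfsg.Agent.Lib.helper7.TP Cfsg.Agent.Lib.Helper28.SympAbs
open scoped Kronecker

variable {a b : ℕ} {F : Type*} [Field F]

theorem tond_ctr_eq (C : Ctx a b F) (X : Fin a × Fin b → F) (w : Fin b → F) (i : Fin a) :
    ctr (C.fl₂ w) X i = C.f₂ (fun j => X (i, j)) w := by
  rw [← C.fl₂_dot]
  simp only [ctr, dotProduct]
  apply Finset.sum_congr rfl
  intro j _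
  ring

theorem f_nondeg (C : Ctx a b F) (X : Fin a × Fin b → F) (hX : X ≠ 0) :
    ∃ Y : Fin a × Fin b → F, C.f X Y ≠ 0 := by
  by_contra hcon
  push Not at hcon
  apply hX
  have hrow : ∀ i : Fin a, (fun j => X (i, j)) = (0 : Fin b → F) := by
    intro i
    by_contra h0
    obtain ⟨w, hw⟩ := (C.hf₂.nondegenerate _ h0).2
    apply hw
    rw [← tond_ctr_eq]
    have h1 : ctr (C.fl₂ w) X = 0 := (C.perp_Bline_iff X w).mp (fun x => hcon _)
    rw [h1]
    rfl
  funext p
  obtain ⟨i, j⟩ := p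
  exact congrFun (hrow i) j

end Cfsg.Agent.Lib.helper7.TO
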