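import Cfsg.Agent.Lib.Lead.UDK1Q2.Defs

set_option autoImplicit false
set_option linter.unusedSectionVars false

namespace Cfsg.Agent.Lib.Lead.UDK1Q2

open Matrix Cfsg.Agent.Lib.Helper29.ExtrL Cfsg.Agent.Lib.Helper28.UMax

variable {n : ℕ} {F : Type*} [Field F] [Fintype F] [DecidableEq F]

theorem q2trans_perm {y y' : Fin n → F} (hw : wt y' = wt y) :
    ∃ π : Equiv.Perm (Fin n), ∀ i, y' i ≠ 0 ↔ y (π i) ≠ 0 := by
  classical
  have hc : (Finset.univ.filter fun i => y' i ≠ 0).card = (Finset.univ.filter fun i => y i ≠ 0).card := hw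
  let e0 := Finset.equivOfCardEq hc
  let e1 : {x // y' x ≠ 0} ≃ {x // x ∈ Finset.univ.filter fun i => y' i ≠ 0} :=
    Equiv.subtypeEquivRight (fun x => by simp)
  let e2 : {x // x ∈ Finset.univ.filter fun i => y i ≠ 0} ≃ {x // y x ≠ 0} :=
    Equiv.subtypeEquivRight (fun x => by simp)
  let e : {x // y' x ≠ 0} ≃ {x // y x ≠ 0} := (e1.trans e0).trans e2
  refine ⟨e.extendSubtype, fun i => ⟨fun h => e.extendSubtype_mem i h, fun h => ?_⟩⟩
  by_contra hcon
  exact e.extendSubtype_not_mem i (not_not.mpr hcon) h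

theorem q2trans_core (C : Ctx n F)
    (hmono : ∀ (π : Equiv.Perm (Fin n)) (d : Fin n → F), (∀ i, d i ≠ 0) → ∏ i, d i = 1 →
      ∀ {y : Fin n → F}, y ∈ C.X → (fun i => d (π i) * y (π i)) ∈ C.X)
    {y y' : Fin n → F} (hy : y ∈ C.X) (hw : wt y' = wt y) (hlt : wt y < n) : y' ∈ C.X := by
  classical
  obtain ⟨π, hπ⟩ := q2trans_perm hw
  obtain ⟨j₀, hj₀⟩ : ∃ j₀, y j₀ = 0 := by
    by_contra hcon
    push Not at hcon
    have : wt y = n := by
      unfold wt
      rw [Finset.filter_true_of_mem (fun i _ => hcon i)]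
      simp
    omega
  let d₀ : Fin n → F := fun j => if y j = 0 then 1 else y' (π.symm j) / y j
  have hd₀ : ∀ j, d₀ j ≠ 0 := by
    intro j
    simp only [d₀]
    split_ifs with h
    · exact one_ne_zero
    · apply div_ne_zero _ h
      rw [hπ]
      simpa using h
  have hd₀j : d₀ j₀ = 1 := by simp [d₀, hj₀]
  let P : F := ∏ j, d₀ j
  have hP : P ≠ 0 := Finset.prod_ne_zero_iff.mpr (fun j _ => hd₀ j)
  let d : Fin n → F := Function.update d₀ j₀ P⁻¹
  have hd : ∀ j, d j ≠ 0 := by
    intro j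
    by_cases h : j = j₀
    · subst h
      simp only [d, Function.update_self]
      exact inv_ne_zero hP
    · simp only [d, Function.update_of_ne h]
      exact hd₀ j
  have hdet : ∏ j, d j = 1 := by
    simp only [d]
    rw [Finset.prod_update_of_mem (Finset.mem_univ j₀), Finset.sdiff_singleton_eq_erase,
      Finset.prod_erase _ hd₀j]
    exact inv_mul_cancel₀ hP
  have key := hmono π d hd hdet hy
  have : (fun i => d (π i) * y (π i)) = y' := by
    funext i
    by_cases h : y (π i) = 0
    · rw [h, mul_zero]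
      by_contra hcon
      exact (hπ i).mp (Ne.symm hcon) h
    · have hne : π i ≠ j₀ := by
        intro hc
        rw [hc] at h
        exact h hj₀
      simp only [d, Function.update_of_ne hne, d₀, if_neg h, Equiv.symm_apply_apply]
      field_simp
  rw [this] at key
  exact key

end Cfsg.Agent.Lib.Lead.UDK1Q2
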