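import Cfsg.Agent.Lib.Lead.UDK1Q2.Defs
import Cfsg.Agent.Lib.Lead.UDK1Q2MONO
import Cfsg.Agent.Lib.Helper24.UDK1Q2TRANScore

set_option autoImplicit false
set_option linter.unusedSectionVars false

namespace Cfsg.Agent.Lib.Lead.UDK1Q2

open Matrix Cfsg.Agent.Lib.Helper29.ExtrL Cfsg.Agent.Lib.Helper28.UMax

variable {n : ℕ} {F : Type*} [Field F] [Fintype F] [DecidableEq F]

theorem q2_trans (C : Ctx n F) {y y' : Fin n → F} (hy : y ∈ C.X) (hw : wt y' = wt y)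
    (hlt : wt y < n) : y' ∈ C.X :=
  q2trans_core C (fun π d hd hdet _ hy => q2_mono_conj C π d hd hdet hy) hy hw hlt

end Cfsg.Agent.Lib.Lead.UDK1Q2
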