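import Cfsg.Agent.Lib.helper17.SLN.Defs

set_option autoImplicit false

namespace Cfsg.Agent.Lib.helper17.SLN

universe w

theorem slna5_fin (n : ℕ) : ∃ a b : Equiv.Perm (Fin n), Subgroup.closure {a, b} = ⊤ := by
  rcases n with _ | _ | n
  · refine ⟨1, 1, ?_⟩
    rw [Subgroup.eq_top_iff']
    intro x
    rw [Subsingleton.elim x 1]
    exact Subgroup.one_mem _
  · refine ⟨1, 1, ?_⟩
    rw [Subgroup.eq_top_iff']
    intro x
    have : x = 1 := by
      apply Equiv.ext
      intro i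
      apply Fin.ext
      have h1 := (x i).isLt
      have h2 := i.isLt
      rw [Equiv.Perm.one_apply]
      omega
    rw [this]
    exact Subgroup.one_mem _
  · exact ⟨finRotate (n + 2), Equiv.swap 0 (finRotate (n + 2) 0),
      Equiv.Perm.closure_cycle_adjacent_swap isCycle_finRotate (by rw [support_finRotate]) 0⟩

theorem perm_two_gen (β : Type w) [Fintype β] [DecidableEq β] :
    ∃ a b : Equiv.Perm β, Subgroup.closure {a, b} = ⊤ := by
  obtain ⟨a, b, hab⟩ := slna5_fin (Fintype.card β)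
  let f : Equiv.Perm (Fin (Fintype.card β)) ≃* Equiv.Perm β := (Fintype.equivFin β).symm.permCongrHom
  refine ⟨f a, f b, ?_⟩
  have h := congrArg (Subgroup.map f.toMonoidHom) hab
  rw [MonoidHom.map_closure, Subgroup.map_top_of_surjective _ f.surjective] at h
  rw [← h]
  congr 1
  ext x
  simp [Set.image_insert_eq]

section A

variable {ι : Type w} [Fintype ι] [DecidableEq ι]

def slna6_eps (a b : ι) : ℤˣ →* Equiv.Perm ι where
  toFun u := if u = 1 then 1 else Equiv.swap a b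
  map_one' := by simp
  map_mul' u v := by
    rcases Int.units_eq_one_or u with rfl | rfl <;> rcases Int.units_eq_one_or v with rfl | rfl
    · simp
    · simp
    · simp
    · have h : ((-1 : ℤˣ) * -1) = 1 := by decide
      have h' : ¬ ((-1 : ℤˣ) = 1) := by decide
      rw [h, if_pos rfl, if_neg h', Equiv.swap_mul_self]

theorem slna6_eps_neg (a b : ι) : slna6_eps a b (-1) = Equiv.swap a b := by
  have h' : ¬ ((-1 : ℤˣ) = 1) := by decide
  show (if (-1 : ℤˣ) = 1 then 1 else Equiv.swap a b) = _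
  rw [if_neg h']

theorem slna6_eps_one (a b : ι) : slna6_eps a b 1 = 1 := map_one _

theorem slna6_comm (a b : ι) (f : Equiv.Perm ι) (ha : f a = a) (hb : f b = b) (u : ℤˣ) :
    f * slna6_eps a b u = slna6_eps a b u * f := by
  rcases Int.units_eq_one_or u with rfl | rfl
  · rw [slna6_eps_one, mul_one, one_mul]
  · rw [slna6_eps_neg, Equiv.mul_swap_eq_swap_mul, ha, hb]

theorem slna6_sign_eps (a b : ι) (hab : a ≠ b) (u : ℤˣ) :
    Equiv.Perm.sign (slna6_eps a b u) = u := by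
  rcases Int.units_eq_one_or u with rfl | rfl
  · rw [slna6_eps_one, Equiv.Perm.sign_one]
  · rw [slna6_eps_neg, Equiv.Perm.sign_swap hab]

def slna6_kap (a b : ι) : Equiv.Perm {i : ι // i ≠ a ∧ i ≠ b} →* Equiv.Perm ι :=
  MonoidHom.mk' (fun g => Equiv.Perm.ofSubtype g * slna6_eps a b (Equiv.Perm.sign g)) (by
    intro g h
    rw [map_mul, map_mul, map_mul]
    have hc := slna6_comm a b (Equiv.Perm.ofSubtype h)
      (Equiv.Perm.ofSubtype_apply_of_not_mem h (fun hh => hh.1 rfl))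
      (Equiv.Perm.ofSubtype_apply_of_not_mem h (fun hh => hh.2 rfl)) (Equiv.Perm.sign g)
    calc Equiv.Perm.ofSubtype g * Equiv.Perm.ofSubtype h *
          (slna6_eps a b (Equiv.Perm.sign g) * slna6_eps a b (Equiv.Perm.sign h))
        = Equiv.Perm.ofSubtype g * (Equiv.Perm.ofSubtype h * slna6_eps a b (Equiv.Perm.sign g)) *
            slna6_eps a b (Equiv.Perm.sign h) := by simp only [mul_assoc]
      _ = Equiv.Perm.ofSubtype g * (slna6_eps a b (Equiv.Perm.sign g) * Equiv.Perm.ofSubtype h) *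
            slna6_eps a b (Equiv.Perm.sign h) := by rw [hc]
      _ = _ := by simp only [mul_assoc])

theorem slna6_kap_apply (a b : ι) (g : Equiv.Perm {i : ι // i ≠ a ∧ i ≠ b}) :
    slna6_kap a b g = Equiv.Perm.ofSubtype g * slna6_eps a b (Equiv.Perm.sign g) := rfl

theorem slna6_kap_sign (a b : ι) (hab : a ≠ b) (g : Equiv.Perm {i : ι // i ≠ a ∧ i ≠ b}) :
    Equiv.Perm.sign (slna6_kap a b g) = 1 := by
  rw [slna6_kap_apply, Equiv.Perm.sign_mul, Equiv.Perm.sign_ofSubtype, slna6_sign_eps a b hab]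
  exact Int.units_mul_self _

theorem slna6_kap_pres (a b : ι) (g : Equiv.Perm {i : ι // i ≠ a ∧ i ≠ b}) :
    (slna6_kap a b g a = a ∧ slna6_kap a b g b = b) ∨ (slna6_kap a b g a = b ∧ slna6_kap a b g b = a) := by
  have ha : Equiv.Perm.ofSubtype g a = a := Equiv.Perm.ofSubtype_apply_of_not_mem g (fun hh => hh.1 rfl)
  have hb : Equiv.Perm.ofSubtype g b = b := Equiv.Perm.ofSubtype_apply_of_not_mem g (fun hh => hh.2 rfl)
  rw [slna6_kap_apply]
  rcases Int.units_eq_one_or (Equiv.Perm.sign g) with h | h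
  · left
    rw [h, slna6_eps_one, mul_one]
    exact ⟨ha, hb⟩
  · right
    rw [h, slna6_eps_neg, Equiv.Perm.mul_apply, Equiv.Perm.mul_apply, Equiv.swap_apply_left,
      Equiv.swap_apply_right]
    exact ⟨hb, ha⟩

theorem slna6_eq_kap (a b : ι) (hab : a ≠ b) (σ : Equiv.Perm ι) (hs : Equiv.Perm.sign σ = 1)
    (h : (σ a = a ∧ σ b = b) ∨ (σ a = b ∧ σ b = a)) :
    ∃ g : Equiv.Perm {i : ι // i ≠ a ∧ i ≠ b}, σ = slna6_kap a b g := by
  have hP : ∀ x, (σ x ≠ a ∧ σ x ≠ b) ↔ (x ≠ a ∧ x ≠ b) := by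
    intro x
    rcases h with ⟨h1, h2⟩ | ⟨h1, h2⟩
    · constructor
      · rintro ⟨u, v⟩
        exact ⟨fun e => u (by rw [e, h1]), fun e => v (by rw [e, h2])⟩
      · rintro ⟨u, v⟩
        exact ⟨fun e => u (σ.injective (by rw [e, h1])), fun e => v (σ.injective (by rw [e, h2]))⟩
    · constructor
      · rintro ⟨u, v⟩
        exact ⟨fun e => v (by rw [e, h1]), fun e => u (by rw [e, h2])⟩
      · rintro ⟨u, v⟩
        exact ⟨fun e => v (σ.injective (by rw [e, h2])), fun e => u (σ.injective (by rw [e, h1]))⟩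
  refine ⟨Equiv.Perm.subtypePerm (p := fun i => i ≠ a ∧ i ≠ b) σ hP, ?_⟩
  set g := Equiv.Perm.subtypePerm (p := fun i => i ≠ a ∧ i ≠ b) σ hP with hg
  have hga : Equiv.Perm.ofSubtype g a = a := Equiv.Perm.ofSubtype_apply_of_not_mem g (fun hh => hh.1 rfl)
  have hgb : Equiv.Perm.ofSubtype g b = b := Equiv.Perm.ofSubtype_apply_of_not_mem g (fun hh => hh.2 rfl)
  have hgx : ∀ x, (x ≠ a ∧ x ≠ b) → Equiv.Perm.ofSubtype g x = σ x := fun x hx =>
    Equiv.Perm.ofSubtype_subtypePerm_of_mem (p := fun i => i ≠ a ∧ i ≠ b) hP hx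
  rcases h with ⟨h1, h2⟩ | ⟨h1, h2⟩
  · have e : σ = Equiv.Perm.ofSubtype g := by
      ext x
      by_cases hx : x ≠ a ∧ x ≠ b
      · rw [hgx x hx]
      · rw [not_and_or, not_not, not_not] at hx
        rcases hx with rfl | rfl
        · rw [hga, h1]
        · rw [hgb, h2]
    have hsg : Equiv.Perm.sign g = 1 := by
      rw [← Equiv.Perm.sign_ofSubtype, ← e, hs]
    rw [slna6_kap_apply, hsg, slna6_eps_one, mul_one]
    exact e
  · have e : σ = Equiv.Perm.ofSubtype g * Equiv.swap a b := by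
      ext x
      rw [Equiv.Perm.mul_apply]
      by_cases hx : x ≠ a ∧ x ≠ b
      · rw [Equiv.swap_apply_of_ne_of_ne hx.1 hx.2, hgx x hx]
      · rw [not_and_or, not_not, not_not] at hx
        rcases hx with rfl | rfl
        · rw [Equiv.swap_apply_left, hgb, h1]
        · rw [Equiv.swap_apply_right, hga, h2]
    have hsg : Equiv.Perm.sign g = -1 := by
      have := congrArg Equiv.Perm.sign e
      rw [hs, Equiv.Perm.sign_mul, Equiv.Perm.sign_ofSubtype, Equiv.Perm.sign_swap hab] at this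
      rcases Int.units_eq_one_or (Equiv.Perm.sign g) with h | h
      · rw [h] at this
        exact absurd this (by decide)
      · exact h
    rw [slna6_kap_apply, hsg, slna6_eps_neg]
    exact e

theorem N0_gens (p : Pts ι) :
    ∃ g₁ g₂ : alternatingGroup ι,
      (∀ g ∈ ({g₁, g₂} : Set (alternatingGroup ι)),
        ((g : Equiv.Perm ι) p.o0 = p.o0 ∧ (g : Equiv.Perm ι) p.o1 = p.o1) ∨
          ((g : Equiv.Perm ι) p.o0 = p.o1 ∧ (g : Equiv.Perm ι) p.o1 = p.o0)) ∧
      ∀ σ : alternatingGroup ι,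
        (((σ : Equiv.Perm ι) p.o0 = p.o0 ∧ (σ : Equiv.Perm ι) p.o1 = p.o1) ∨
          ((σ : Equiv.Perm ι) p.o0 = p.o1 ∧ (σ : Equiv.Perm ι) p.o1 = p.o0)) →
        σ ∈ Subgroup.closure ({g₁, g₂} : Set (alternatingGroup ι)) := by
  obtain ⟨a, b, hab⟩ := perm_two_gen {i : ι // i ≠ p.o0 ∧ i ≠ p.o1}
  let κ : Equiv.Perm {i : ι // i ≠ p.o0 ∧ i ≠ p.o1} →* alternatingGroup ι :=
    (slna6_kap p.o0 p.o1).codRestrict (alternatingGroup ι)
      (fun g => Equiv.Perm.mem_alternatingGroup.mpr (slna6_kap_sign p.o0 p.o1 p.h01 g))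
  have hκ : ∀ g, ((κ g : alternatingGroup ι) : Equiv.Perm ι) = slna6_kap p.o0 p.o1 g := fun g => rfl
  refine ⟨κ a, κ b, ?_, ?_⟩
  · intro g hg
    rcases hg with rfl | rfl
    · rw [hκ]; exact slna6_kap_pres p.o0 p.o1 a
    · rw [hκ]; exact slna6_kap_pres p.o0 p.o1 b
  · intro σ hσ
    obtain ⟨g, hg⟩ := slna6_eq_kap p.o0 p.o1 p.h01 (σ : Equiv.Perm ι)
      (Equiv.Perm.mem_alternatingGroup.mp σ.2) hσ
    have e : σ = κ g := Subtype.ext (by rw [hκ]; exact hg)
    have hmem : g ∈ Subgroup.closure ({a, b} : Set (Equiv.Perm {i : ι // i ≠ p.o0 ∧ i ≠ p.o1})) := by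
      rw [hab]; exact Subgroup.mem_top _
    have := Subgroup.mem_map_of_mem κ hmem
    rw [MonoidHom.map_closure, Set.image_insert_eq, Set.image_singleton] at this
    rw [e]
    exact this

end A

end Cfsg.Agent.Lib.helper17.SLN
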