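import Cfsg.Agent.Lib.helper3.SPM.Defs
import Cfsg.Agent.Lib.helper3.SPM.Defs2
import Cfsg.Agent.Lib.helper3.SPM.DefsP
import Cfsg.Agent.Lib.Helper24.SLNA5

set_option autoImplicit false

namespace Cfsg.Agent.Lib.helper3.SPM

universe w

section P

variable {ι : Type w} [Fintype ι] [DecidableEq ι]

theorem spmp07_gens (P : ι → Prop) [DecidablePred P] :
    ∃ c d : Equiv.Perm ι, (∀ x, ¬ P x → c x = x) ∧ (∀ x, ¬ P x → d x = x) ∧
      ∀ σ : Equiv.Perm ι, (∀ x, ¬ P x → σ x = x) →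
        σ ∈ Subgroup.closure ({c, d} : Set (Equiv.Perm ι)) := by
  obtain ⟨a, b, hab⟩ := Cfsg.Agent.Lib.helper17.SLN.perm_two_gen {x : ι // P x}
  refine ⟨Equiv.Perm.ofSubtype a, Equiv.Perm.ofSubtype b,
    fun x hx => Equiv.Perm.ofSubtype_apply_of_not_mem a hx,
    fun x hx => Equiv.Perm.ofSubtype_apply_of_not_mem b hx, ?_⟩
  intro σ hσ
  have h₁ : ∀ x, P (σ x) ↔ P x := by
    intro x
    constructor
    · intro h
      by_contra hx
      rw [hσ x hx] at h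
      exact hx h
    · intro h
      by_contra hx
      have := hσ (σ x) hx
      have e : σ x = x := σ.injective this
      rw [e] at hx
      exact hx h
  have h₂ : ∀ x, σ x ≠ x → P x := by
    intro x hx
    by_contra hP
    exact hx (hσ x hP)
  have hmem : σ.subtypePerm h₁ ∈ Subgroup.closure ({a, b} : Set (Equiv.Perm {x : ι // P x})) := by
    rw [hab]; exact Subgroup.mem_top _
  have hmap := Subgroup.mem_map_of_mem (Equiv.Perm.ofSubtype : Equiv.Perm {x : ι // P x} →* Equiv.Perm ι) hmem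
  rw [MonoidHom.map_closure, Set.image_pair, Equiv.Perm.ofSubtype_subtypePerm h₁ h₂] at hmap
  exact hmap

theorem stab1_gens (p : Pts ι) :
    ∃ c d : Equiv.Perm ι, c p.o1 = p.o1 ∧ d p.o1 = p.o1 ∧
      ∀ σ : Equiv.Perm ι, σ p.o1 = p.o1 → σ ∈ Subgroup.closure ({c, d} : Set (Equiv.Perm ι)) := by
  obtain ⟨c, d, hc, hd, hgen⟩ := spmp07_gens (fun x : ι => x ≠ p.o1)
  refine ⟨c, d, hc p.o1 (fun h => h rfl), hd p.o1 (fun h => h rfl), ?_⟩
  intro σ hσ
  apply hgen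
  intro x hx
  have : x = p.o1 := not_not.1 hx
  rw [this, hσ]

theorem stab01_gens (p : Pts ι) :
    ∃ c' d' : Equiv.Perm ι, (c' p.o0 = p.o0 ∧ c' p.o1 = p.o1) ∧ (d' p.o0 = p.o0 ∧ d' p.o1 = p.o1) ∧
      ∀ σ : Equiv.Perm ι, σ p.o0 = p.o0 → σ p.o1 = p.o1 →
        σ ∈ Subgroup.closure ({c', d'} : Set (Equiv.Perm ι)) := by
  obtain ⟨c, d, hc, hd, hgen⟩ := spmp07_gens (fun x : ι => x ≠ p.o0 ∧ x ≠ p.o1)
  refine ⟨c, d, ⟨hc p.o0 (fun h => h.1 rfl), hc p.o1 (fun h => h.2 rfl)⟩,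
    ⟨hd p.o0 (fun h => h.1 rfl), hd p.o1 (fun h => h.2 rfl)⟩, ?_⟩
  intro σ h0 h1
  apply hgen
  intro x hx
  have hx' : x = p.o0 ∨ x = p.o1 := by
    by_contra hcon
    rw [not_or] at hcon
    exact hx hcon
  rcases hx' with rfl | rfl
  · exact h0
  · exact h1

end P

end Cfsg.Agent.Lib.helper3.SPM
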