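import Mathlib
import Cfsg.Prelude.Def_GeometricClasses
import Cfsg.Agent.Lib.Helper27.ASC.Defs
import Cfsg.Agent.Lib.Lead.ASCU.Defs
import Cfsg.Agent.Lib.helper2.UXDefs
import Cfsg.Agent.Lib.Helper19.ASU.Defs
import Cfsg.Agent.Lib.Helper19.ASUADJ
import Cfsg.Agent.Lib.Helper24.UXFLD62.Defs
import Cfsg.Agent.Lib.Helper24.ASCDEC4

set_option autoImplicit false
set_option linter.unusedVariables false
set_option linter.unusedSectionVars false

namespace Cfsg.Agent.Lib.helper2.UX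

open Cfsg Cfsg.Geo Cfsg.Agent.Lib.Helper27.ASC Cfsg.Agent.Lib.Lead.ASCU Cfsg.Agent.Lib.Helper19.ASU
open scoped MatrixGroups Matrix

variable {F : Type*} [Field F] [Fintype F]

theorem uxfld62k0a_hF2 (hF : Fintype.card F = 4) : Fintype.card F = 2 ^ 2 := by rw [hF]; norm_num

theorem fld62_omega (hF : Fintype.card F = 4) :
    ∃ ω : F, ω ^ 2 + ω + 1 = 0 ∧ (2 : F) = 0 ∧ ∀ x : F, x = 0 ∨ x = 1 ∨ x = ω ∨ x = ω + 1 := by
  classical
  obtain ⟨ω, hω0, hω1⟩ := ascdec4_exists_other hF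
  have h2 : (2 : F) = 0 := ascdec4_two hF
  have h11 : (1 : F) + 1 = 0 := by linear_combination h2
  have hω : ω ^ 2 + ω + 1 = 0 := by
    have h4 := ascdec4_pow4 hF ω
    have h5 : ω * (ω - 1) * (ω ^ 2 + ω + 1) = 0 := by linear_combination h4
    rcases mul_eq_zero.1 h5 with h6 | h6
    · rcases mul_eq_zero.1 h6 with h7 | h7
      · exact absurd h7 hω0
      · exact absurd (sub_eq_zero.1 h7) hω1
    · exact h6
  refine ⟨ω, hω, h2, ?_⟩
  have hne1 : ω + 1 ≠ 0 := by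
    intro h
    apply hω1
    linear_combination h - h11
  have hne2 : ω + 1 ≠ 1 := by
    intro h
    apply hω0
    linear_combination h
  have hne3 : ω + 1 ≠ ω := by
    intro h
    have : (1 : F) = 0 := by linear_combination h
    exact one_ne_zero this
  have hcard : ({0, 1, ω, ω + 1} : Finset F).card = 4 := by
    rw [Finset.card_insert_of_notMem, Finset.card_insert_of_notMem, Finset.card_insert_of_notMem,
      Finset.card_singleton]
    · simp only [Finset.mem_singleton]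
      exact fun h => hne3 h.symm
    · simp only [Finset.mem_insert, Finset.mem_singleton, not_or]
      exact ⟨fun h => hω1 h.symm, fun h => hne2 h.symm⟩
    · simp only [Finset.mem_insert, Finset.mem_singleton, not_or]
      exact ⟨zero_ne_one, fun h => hω0 h.symm, fun h => hne1 h.symm⟩
  have huniv : ({0, 1, ω, ω + 1} : Finset F) = Finset.univ := by
    apply Finset.eq_univ_of_card
    rw [hcard, hF]
  intro x
  have hx : x ∈ ({0, 1, ω, ω + 1} : Finset F) := by rw [huniv]; exact Finset.mem_univ x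
  simpa using hx

theorem fld62_K0_ring (hF : Fintype.card F = 4) (K : Subalgebra F (Matrix (Fin 6) (Fin 6) F))
    (hK : IsFieldSubalgebra 3 K) (hstar : ∀ k ∈ K, uadj 2 k ∈ K) :
    (0 : Matrix (Fin 6) (Fin 6) F) ∈ fld62K0 K ∧ (1 : Matrix (Fin 6) (Fin 6) F) ∈ fld62K0 K ∧
    (∀ a ∈ fld62K0 K, ∀ b ∈ fld62K0 K, a + b ∈ fld62K0 K) ∧
    (∀ a ∈ fld62K0 K, ∀ b ∈ fld62K0 K, a * b ∈ fld62K0 K) ∧
    (∀ a ∈ fld62K0 K, a ≠ 0 → ∃ b ∈ fld62K0 K, a * b = 1) := by
  have hF2 := uxfld62k0a_hF2 hF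
  refine ⟨⟨K.zero_mem, uadj_zero hF2⟩, ⟨K.one_mem, uadj_one hF2⟩, ?_, ?_, ?_⟩
  · rintro a ⟨ha, ha'⟩ b ⟨hb, hb'⟩
    exact ⟨K.add_mem ha hb, by rw [uadj_add hF2, ha', hb']⟩
  · rintro a ⟨ha, ha'⟩ b ⟨hb, hb'⟩
    refine ⟨K.mul_mem ha hb, ?_⟩
    rw [uadj_mul hF2, ha', hb']
    exact hK.comm b hb a ha
  · rintro a ⟨ha, ha'⟩ ha0
    obtain ⟨b, hb, hab⟩ := hK.inv a ha ha0
    refine ⟨b, ⟨hb, ?_⟩, hab⟩
    have h1 : uadj 2 b * a = 1 := by
      have := congrArg (uadj 2) hab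
      rwa [uadj_mul hF2, ha', uadj_one hF2] at this
    have h2 : a * uadj 2 b = 1 := by rw [hK.comm a ha _ (hstar b hb)]; exact h1
    calc uadj 2 b = (b * a) * uadj 2 b := by
          rw [hK.comm b hb a ha, hab, one_mul]
      _ = b * (a * uadj 2 b) := mul_assoc _ _ _
      _ = b := by rw [h2, mul_one]

theorem fld62_K0_decomp (hF : Fintype.card F = 4) (K : Subalgebra F (Matrix (Fin 6) (Fin 6) F))
    (hK : IsFieldSubalgebra 3 K) (hstar : ∀ k ∈ K, uadj 2 k ∈ K) (ω : F) (hω : ω ^ 2 + ω + 1 = 0) :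
    (∀ k ∈ K, ∃ a ∈ fld62K0 K, ∃ b ∈ fld62K0 K, k = a + ω • b) ∧
    (∀ a ∈ fld62K0 K, ∀ b ∈ fld62K0 K, a + ω • b = 0 → a = 0 ∧ b = 0) := by
  have hF2 := uxfld62k0a_hF2 hF
  have h2 : (2 : F) = 0 := ascdec4_two hF
  have h11 : (1 : F) + 1 = 0 := by linear_combination h2
  have hω4 : (ω ^ 2) ^ 2 = ω := by
    have : (ω ^ 2) ^ 2 = ω ^ 4 := by ring
    rw [this]
    exact ascdec4_pow4 hF ω
  constructor
  · intro k hk
    refine ⟨ω ^ 2 • k + ω • uadj 2 k, ⟨K.add_mem (K.smul_mem hk _) (K.smul_mem (hstar k hk) _), ?_⟩,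
      k + uadj 2 k, ⟨K.add_mem hk (hstar k hk), ?_⟩, ?_⟩
    · rw [uadj_add hF2, uadj_smul hF2, uadj_smul hF2, uadj_uadj hF2, hω4, add_comm]
    · rw [uadj_add hF2, uadj_uadj hF2, add_comm]
    · have h3 : ω ^ 2 + ω = 1 := by linear_combination hω - h11
      have h4 : ω + ω = 0 := by linear_combination ω * h11
      have h5 : ω ^ 2 • k + ω • uadj 2 k + ω • (k + uadj 2 k) = (ω ^ 2 + ω) • k + (ω + ω) • uadj 2 k := by
        rw [smul_add, add_smul, add_smul]; abel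
      rw [h5, h3, h4, one_smul, zero_smul, add_zero]
  · rintro a ⟨ha, ha'⟩ b ⟨hb, hb'⟩ h
    have h1 := congrArg (uadj 2) h
    rw [uadj_add hF2, uadj_smul hF2, ha', hb', uadj_zero hF2] at h1
    have h3 : (ω + ω ^ 2) • b = 0 := by
      have : (ω + ω ^ 2) • b = (a + ω • b) + (a + ω ^ 2 • b) - (2 : F) • a := by
        rw [add_smul, two_smul]; abel
      rw [this, h, h1, h2, zero_smul]; simp
    have h4 : ω + ω ^ 2 = 1 := by linear_combination hω - h11
    rw [h4, one_smul] at h3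
    refine ⟨?_, h3⟩
    rw [h3, smul_zero, add_zero] at h
    exact h

end Cfsg.Agent.Lib.helper2.UX
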