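import Mathlib
import Cfsg.Prelude.Def_GeometricClasses
import Cfsg.Agent.Lib.Helper27.ASC.Defs
import Cfsg.Agent.Lib.Lead.ASCU.Defs
import Cfsg.Agent.Lib.helper2.UXDefs
import Cfsg.Agent.Lib.Helper19.ASU.Defs
import Cfsg.Agent.Lib.Helper19.ASUADJ
import Cfsg.Agent.Lib.Helper24.UXFLD62.Defs
import Cfsg.Agent.Lib.Helper24.UXFLD62K0A
import Cfsg.Agent.Lib.Helper1.ASGCLIF4
import Cfsg.Agent.Lib.Helper22.ASCONORMS

set_option autoImplicit false
set_option linter.unusedVariables false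
set_option linter.unusedSectionVars false
set_option linter.style.haveILetI false

namespace Cfsg.Agent.Lib.helper2.UX

open Cfsg Cfsg.Geo Cfsg.Agent.Lib.Helper27.ASC Cfsg.Agent.Lib.Lead.ASCU Cfsg.Agent.Lib.Helper19.ASU
  Cfsg.Agent.Lib.helper23.ASCO
open scoped MatrixGroups Matrix

variable {F : Type*} [Field F] [Fintype F]

theorem uxfld62k0b_main (hF : Fintype.card F = 4) (K : Subalgebra F (Matrix (Fin 6) (Fin 6) F))
    (hK : IsFieldSubalgebra 3 K) (hstar : ∀ k ∈ K, uadj 2 k ∈ K) :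
    (∀ k ∈ K, uadj 2 k = k ^ 8) ∧ (∀ k ∈ K, k ^ 64 = k) ∧ (∃ a ∈ fld62K0 K, a ≠ 0 ∧ a ≠ 1) := by
  classical
  have hF2 := uxfld62k0a_hF2 hF
  have hfield := asgclif_isField K hK (by norm_num)
  letI : Field K := hfield.toField
  haveI : Module.Finite F K := Module.finite_of_finrank_pos (by rw [hK.finrank_eq]; norm_num)
  haveI : Finite K := Module.finite_of_finite F
  letI : Fintype K := Fintype.ofFinite K
  let τ : K ≃+* K :=
    { toFun := fun x => ⟨uadj 2 (x : Matrix (Fin 6) (Fin 6) F), hstar x x.2⟩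
      invFun := fun x => ⟨uadj 2 (x : Matrix (Fin 6) (Fin 6) F), hstar x x.2⟩
      left_inv := fun x => Subtype.ext (uadj_uadj hF2 _)
      right_inv := fun x => Subtype.ext (uadj_uadj hF2 _)
      map_mul' := fun x y => by
        apply Subtype.ext
        show uadj 2 ((x : Matrix (Fin 6) (Fin 6) F) * (y : Matrix (Fin 6) (Fin 6) F)) =
          uadj 2 (x : Matrix (Fin 6) (Fin 6) F) * uadj 2 (y : Matrix (Fin 6) (Fin 6) F)
        rw [uadj_mul hF2]
        exact hK.comm _ (hstar y y.2) _ (hstar x x.2)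
      map_add' := fun x y => by
        apply Subtype.ext
        show uadj 2 ((x : Matrix (Fin 6) (Fin 6) F) + (y : Matrix (Fin 6) (Fin 6) F)) =
          uadj 2 (x : Matrix (Fin 6) (Fin 6) F) + uadj 2 (y : Matrix (Fin 6) (Fin 6) F)
        rw [uadj_add hF2] }
  have hτval : ∀ x : K, ((τ x : K) : Matrix (Fin 6) (Fin 6) F) = uadj 2 (x : Matrix (Fin 6) (Fin 6) F) :=
    fun x => rfl
  have hτ2 : ∀ a : K, τ (τ a) = a := fun a => Subtype.ext (uadj_uadj hF2 _)
  obtain ⟨ω, hω0, hω1⟩ := ascdec4_exists_other hF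
  let cK : K := ⟨ω • (1 : Matrix (Fin 6) (Fin 6) F), K.smul_mem K.one_mem ω⟩
  have hτ1 : τ ≠ RingEquiv.refl K := by
    intro h
    have h1 : τ cK = cK := by rw [h]; rfl
    have h2 := congrArg (fun x : K => (x : Matrix (Fin 6) (Fin 6) F) 0 0) h1
    simp only [hτval] at h2
    have h3 : (uadj 2 ((cK : K) : Matrix (Fin 6) (Fin 6) F)) 0 0 = ω ^ 2 := by
      show (uadj 2 (ω • (1 : Matrix (Fin 6) (Fin 6) F))) 0 0 = ω ^ 2
      rw [uadj_scalar hF2]; simp
    have h4 : ((cK : K) : Matrix (Fin 6) (Fin 6) F) 0 0 = ω := by simp [cK]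
    have h5 : ω ^ 2 = ω := by rw [← h3, h2, h4]
    have h6 : ω * (ω - 1) = 0 := by linear_combination h5
    rcases mul_eq_zero.1 h6 with h7 | h7
    · exact hω0 h7
    · exact hω1 (sub_eq_zero.1 h7)
  have hcard := asconorms_card τ hτ1 hτ2
  have hfrob := asconorms_frob τ hτ1 hτ2
  have hKcard : Nat.card K = 64 := by
    have h1 : Nat.card K = Nat.card F ^ Module.finrank F K := Module.natCard_eq_pow_finrank (K := F) (V := K)
    rw [h1, hK.finrank_eq, Nat.card_eq_fintype_card, hF]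
    norm_num
  have hm : Nat.card ↥(asconormsFix τ) = 8 := by
    have h1 : Nat.card ↥(asconormsFix τ) ^ 2 = 8 ^ 2 := by rw [← hcard, hKcard]; norm_num
    exact Nat.pow_left_injective (n := 2) (by norm_num) h1
  have hpowval : ∀ (x : K) (j : ℕ), ((x ^ j : K) : Matrix (Fin 6) (Fin 6) F) = (x : Matrix (Fin 6) (Fin 6) F) ^ j := by
    intro x j
    exact SubmonoidClass.coe_pow x j
  refine ⟨?_, ?_, ?_⟩
  · intro k hk
    have h1 := hfrob ⟨k, hk⟩
    rw [hm] at h1
    have h2 := congrArg (fun x : K => (x : Matrix (Fin 6) (Fin 6) F)) h1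
    simp only [hτval, hpowval] at h2
    exact h2
  · intro k hk
    have h1 : (⟨k, hk⟩ : K) ^ 64 = ⟨k, hk⟩ := by
      have := FiniteField.pow_card (⟨k, hk⟩ : K)
      rwa [← Nat.card_eq_fintype_card, hKcard] at this
    have h2 := congrArg (fun x : K => (x : Matrix (Fin 6) (Fin 6) F)) h1
    simp only [hpowval] at h2
    exact h2
  · by_contra hcon
    push Not at hcon
    have hle : Nat.card ↥(asconormsFix τ) ≤ Nat.card Bool := by
      apply Nat.card_le_card_of_injective (fun a : ↥(asconormsFix τ) => decide ((a : K) = 0))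
      intro a b hab
      have ha : ((a : K) : Matrix (Fin 6) (Fin 6) F) ∈ fld62K0 K := ⟨(a : K).2, by
        have := a.2
        rw [asconorms_mem_fix] at this
        rw [← hτval, this]⟩
      have hb : ((b : K) : Matrix (Fin 6) (Fin 6) F) ∈ fld62K0 K := ⟨(b : K).2, by
        have := b.2
        rw [asconorms_mem_fix] at this
        rw [← hτval, this]⟩
      have hab' : ((a : K) = 0) ↔ ((b : K) = 0) := by
        have := hab
        simpa using this
      apply Subtype.ext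
      apply Subtype.ext
      by_cases ha0 : ((a : K) : Matrix (Fin 6) (Fin 6) F) = 0
      · have hb0 : (b : K) = 0 := hab'.1 (Subtype.ext ha0)
        rw [ha0, hb0]; rfl
      · have hb0 : ((b : K) : Matrix (Fin 6) (Fin 6) F) ≠ 0 := by
          intro h
          apply ha0
          have : (a : K) = 0 := hab'.2 (Subtype.ext h)
          rw [this]; rfl
        rw [hcon _ ha ha0, hcon _ hb hb0]
    rw [hm, Nat.card_eq_fintype_card, Fintype.card_bool] at hle
    omega

theorem fld62_K0_sqrt (hF : Fintype.card F = 4) (K : Subalgebra F (Matrix (Fin 6) (Fin 6) F))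
    (hK : IsFieldSubalgebra 3 K) (hstar : ∀ k ∈ K, uadj 2 k ∈ K) :
    ∀ d ∈ fld62K0 K, ∃ e ∈ fld62K0 K, e * e = d := by
  have hF2 := uxfld62k0a_hF2 hF
  obtain ⟨-, h64, -⟩ := uxfld62k0b_main hF K hK hstar
  rintro d ⟨hd, hd'⟩
  refine ⟨d ^ 32, ⟨K.pow_mem hd 32, ?_⟩, ?_⟩
  · rw [uadj_pow hF2, hd']
  · rw [← pow_add]
    exact h64 d hd

theorem fld62_K0_big (hF : Fintype.card F = 4) (K : Subalgebra F (Matrix (Fin 6) (Fin 6) F))
    (hK : IsFieldSubalgebra 3 K) (hstar : ∀ k ∈ K, uadj 2 k ∈ K) :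
    ∃ a ∈ fld62K0 K, a ≠ 0 ∧ a ≠ 1 :=
  (uxfld62k0b_main hF K hK hstar).2.2

theorem fld62_star_pow (hF : Fintype.card F = 4) (K : Subalgebra F (Matrix (Fin 6) (Fin 6) F))
    (hK : IsFieldSubalgebra 3 K) (hstar : ∀ k ∈ K, uadj 2 k ∈ K) :
    ∀ k ∈ K, uadj 2 k = k ^ 8 :=
  (uxfld62k0b_main hF K hK hstar).1

end Cfsg.Agent.Lib.helper2.UX
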