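import Mathlib
import Cfsg.Agent.Lib.helper3.S5953.Defs
import Cfsg.Agent.Lib.Helper24.ElB
import Cfsg.Agent.Lib.Helper24.ElE

set_option autoImplicit false

namespace Cfsg.Agent.Lib.helper3.S5953

open Polynomial Module

theorem s5953ns2_aeval {F : Type*} [Field F] {V : Type*} [AddCommGroup V] [Module F V]
    (r : ℕ) (z : F) (x : Module.End F V) (hx : x ^ r = z • 1) :
    aeval x (X ^ r - C z : F[X]) = 0 := by
  rw [map_sub, map_pow, aeval_X, aeval_C, hx, Algebra.algebraMap_eq_smul_one, sub_self]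

theorem ns_dvd {F : Type*} [Field F] {V : Type*} [AddCommGroup V] [Module F V]
    [FiniteDimensional F V] (r : ℕ) [Fact r.Prime] (z : F) (hz : ∀ a : F, a ^ r ≠ z)
    (x : Module.End F V) (hx : x ^ r = z • 1) (W : Submodule F V) (hW : HInv x W) :
    r ∣ finrank F W := by
  have hrp : r.Prime := Fact.out
  have hirr : Irreducible (X ^ r - C z : F[X]) := X_pow_sub_C_irreducible_of_prime hrp hz
  have hdeg : (X ^ r - C z : F[X]).natDegree = r := natDegree_X_pow_sub_C
  have hQ0 : (X ^ r - C z : F[X]) ≠ 0 := hirr.ne_zero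
  refine Cfsg.Agent.Lib.Helper24.el_dvd_dim x W hW (X ^ r - C z) hQ0 ?_ r hrp.pos ?_
  · intro u _
    rw [s5953ns2_aeval r z x hx]
    rfl
  · intro P hP hPQ
    have hass : Associated P (X ^ r - C z : F[X]) := hP.associated_of_dvd hirr hPQ
    rw [natDegree_eq_of_degree_eq (degree_eq_degree_of_associated hass), hdeg]

theorem ns_det {F : Type*} [Field F] {V : Type*} [AddCommGroup V] [Module F V]
    [FiniteDimensional F V] (r : ℕ) [Fact r.Prime] (hr2 : r ≠ 2) (z : F)
    (hz : ∀ a : F, a ^ r ≠ z) (x : Module.End F V) (hx : x ^ r = z • 1) :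
    LinearMap.det x = z ^ (finrank F V / r) := by
  have hrp : r.Prime := Fact.out
  have hirr : Irreducible (X ^ r - C z : F[X]) := X_pow_sub_C_irreducible_of_prime hrp hz
  have hdeg : (X ^ r - C z : F[X]).natDegree = r := natDegree_X_pow_sub_C
  have hmon : (X ^ r - C z : F[X]).Monic := monic_X_pow_sub_C z hrp.ne_zero
  have h := Cfsg.Agent.Lib.Helper24.el_det_of_irred x (X ^ r - C z) hirr hmon
    (s5953ns2_aeval r z x hx)
  rw [hdeg] at h
  rw [h]
  congr 1
  have hodd : Odd r := hrp.odd_of_ne_two hr2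
  rw [hodd.neg_one_pow, coeff_sub, coeff_X_pow, coeff_C_zero, if_neg hrp.ne_zero.symm]
  ring

end Cfsg.Agent.Lib.helper3.S5953
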