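import Mathlib
import Cfsg.Prelude.Def_AxialAlgebras
import Cfsg.Agent.Lib.Helper24.SAK.Defs

set_option autoImplicit false

namespace Cfsg.Agent.Lib.Helper24.SAK

open Cfsg.Axial

variable {V : Type*} [AddCommGroup V] [Module ℝ V]

theorem sakb5_core {mul : V →ₗ[ℝ] V →ₗ[ℝ] V} {B : LinearMap.BilinForm ℝ V} {μ₀ μ₁ : V ≃ₗ[ℝ] V}
    {am2 am1 a0 a1 a2 a3 s1 s2e s2o : V} {l m n k p q r : ℝ}
    (hact : μ₀ a0 = a0 ∧ μ₀ a1 = am1 ∧ μ₀ am1 = a1 ∧ μ₀ a2 = am2 ∧ μ₀ am2 = a2 ∧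
      μ₁ a1 = a1 ∧ μ₁ a0 = a2 ∧ μ₁ a2 = a0 ∧ μ₁ am1 = a3 ∧ μ₁ a3 = am1)
    (h : Dih mul B μ₀ μ₁ am2 am1 a0 a1 a2 a3 s1 s2e s2o l m n k p q r) :
    B am2 am2 = (1 : ℝ) ∧
      B am2 am1 = l ∧
      B am2 a0 = m ∧
      B am2 a1 = k ∧
      B am2 a2 = p ∧
      B am2 a3 = r ∧
      B am1 am1 = (1 : ℝ) ∧
      B am1 a0 = l ∧
      B am1 a1 = n ∧
      B am1 a2 = k ∧
      B am1 a3 = q ∧
      B a0 a0 = (1 : ℝ) ∧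
      B a0 a1 = l ∧
      B a0 a2 = m ∧
      B a0 a3 = k ∧
      B a1 a1 = (1 : ℝ) ∧
      B a1 a2 = l ∧
      B a1 a3 = n ∧
      B a2 a2 = (1 : ℝ) ∧
      B a2 a3 = l ∧
      B a3 a3 = (1 : ℝ) := by
  obtain ⟨⟨hV, h0, h1, n0, n1⟩, ha2, ham1, ham2, ha3, hs1, hs2e, hs2o, hl, hm, hn, hk, hp, hq, hr⟩ := h
  obtain ⟨f00, f01, f0m1, f02, f0m2, f11, f10, f12, f1m1, f13⟩ := hact
  have hsym := hV.2.1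
  have inv0 : ∀ u v : V, B (μ₀ u) (μ₀ v) = B u v := h0.2.1
  have inv1 : ∀ u v : V, B (μ₁ u) (μ₁ v) = B u v := h1.2.1
  have g22 : B a2 a2 = 1 := by rw [← inv1 a2 a2, f12, n0]
  have gm1m1 : B am1 am1 = 1 := by rw [← inv0 am1 am1, f0m1, n1]
  have g10 : B a1 a0 = l := by rw [hsym a1 a0, hl]
  refine ⟨?_, ?_, ?_, ?_, hp.symm, hr.symm, gm1m1, ?_, ?_, ?_, hq.symm, n0, hl.symm, hm.symm, hk.symm,
    n1, ?_, ?_, g22, ?_, ?_⟩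
  · rw [← inv0 am2 am2, f0m2, g22]
  · rw [← inv0 am2 am1, f0m2, f0m1, ← inv1 a2 a1, f12, f11, hl]
  · rw [← inv0 am2 a0, f0m2, f00, hsym a2 a0, hm]
  · rw [← inv0 am2 a1, f0m2, f01, ← inv1 a2 am1, f12, f1m1, hk]
  · rw [← inv0 am1 a0, f0m1, f00, g10]
  · rw [hsym am1 a1, hn]
  · rw [← inv1 am1 a2, f1m1, f12, hsym a3 a0, hk]
  · rw [← inv1 a1 a2, f11, f12, g10]
  · rw [← inv1 a1 a3, f11, f13, hn]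
  · rw [← inv1 a2 a3, f12, f13, ← inv0 a0 am1, f00, f0m1, hl]
  · rw [← inv1 a3 a3, f13, gm1m1]

end Cfsg.Agent.Lib.Helper24.SAK
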