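import Mathlib
import Cfsg.Prelude.Def_AxialAlgebras
import Cfsg.Agent.Lib.Helper24.SAK.Defs
import Cfsg.Agent.Lib.Helper24.SAKB5core
import Cfsg.Agent.Lib.Helper24.SAKBr1

set_option autoImplicit false

namespace Cfsg.Agent.Lib.Helper24.SAK

open Cfsg.Axial

variable {V : Type*} [AddCommGroup V] [Module ℝ V]

theorem gramAA {mul : V →ₗ[ℝ] V →ₗ[ℝ] V} {B : LinearMap.BilinForm ℝ V} {μ₀ μ₁ : V ≃ₗ[ℝ] V}
    {am2 am1 a0 a1 a2 a3 s1 s2e s2o : V} {l m n k p q r : ℝ}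
    (h : Dih mul B μ₀ μ₁ am2 am1 a0 a1 a2 a3 s1 s2e s2o l m n k p q r) :
    B am2 am2 = (1 : ℝ) ∧
      B am2 am1 = l ∧
      B am2 a0 = m ∧
      B am2 a1 = k ∧
      B am2 a2 = p ∧
      B am2 a3 = r ∧
      B am1 am1 = (1 : ℝ) ∧
      B am1 a0 = l ∧
      B am1 a1 = n ∧
      B am1 a2 = k ∧
      B am1 a3 = q ∧
      B a0 a0 = (1 : ℝ) ∧
      B a0 a1 = l ∧
      B a0 a2 = m ∧
      B a0 a3 = k ∧
      B a1 a1 = (1 : ℝ) ∧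
      B a1 a2 = l ∧
      B a1 a3 = n ∧
      B a2 a2 = (1 : ℝ) ∧
      B a2 a3 = l ∧
      B a3 a3 = (1 : ℝ) :=
  sakb5_core (sakbr_act h) h

end Cfsg.Agent.Lib.Helper24.SAK
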