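import Mathlib
import Cfsg.Prelude.Def_AxialAlgebras
import Cfsg.Agent.Lib.Helper24.SAK.Defs

set_option autoImplicit false

namespace Cfsg.Agent.Lib.Helper24.SAK

open Cfsg.Axial

variable {V : Type*} [AddCommGroup V] [Module ℝ V]

theorem sakb6_core {mul : V →ₗ[ℝ] V →ₗ[ℝ] V} {B : LinearMap.BilinForm ℝ V} {μ₀ μ₁ : V ≃ₗ[ℝ] V}
    {am2 am1 a0 a1 a2 a3 s1 s2e s2o : V} {l m n k p q r : ℝ}
    (hact : μ₀ a0 = a0 ∧ μ₀ a1 = am1 ∧ μ₀ am1 = a1 ∧ μ₀ a2 = am2 ∧ μ₀ am2 = a2 ∧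
      μ₁ a1 = a1 ∧ μ₁ a0 = a2 ∧ μ₁ a2 = a0 ∧ μ₁ am1 = a3 ∧ μ₁ a3 = am1)
    (hsfix : μ₀ s1 = s1 ∧ μ₁ s1 = s1 ∧ μ₀ s2e = s2e ∧ μ₁ s2e = s2e ∧ μ₀ s2o = s2o ∧ μ₁ s2o = s2o)
    (h : Dih mul B μ₀ μ₁ am2 am1 a0 a1 a2 a3 s1 s2e s2o l m n k p q r) :
    mul am2 am2 = am2 ∧
      mul am1 am1 = am1 ∧
      mul a0 a0 = a0 ∧
      mul a1 a1 = a1 ∧
      mul a2 a2 = a2 ∧
      mul a3 a3 = a3 ∧
      mul am2 am1 = s1 + (1 / 32 : ℝ) • (am2 + am1) ∧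
      mul am1 a0 = s1 + (1 / 32 : ℝ) • (am1 + a0) ∧
      mul a0 a1 = s1 + (1 / 32 : ℝ) • (a0 + a1) ∧
      mul a1 a2 = s1 + (1 / 32 : ℝ) • (a1 + a2) ∧
      mul a2 a3 = s1 + (1 / 32 : ℝ) • (a2 + a3) ∧
      mul am2 a0 = s2e + (1 / 32 : ℝ) • (am2 + a0) ∧
      mul am1 a1 = s2o + (1 / 32 : ℝ) • (am1 + a1) ∧
      mul a0 a2 = s2e + (1 / 32 : ℝ) • (a0 + a2) ∧
      mul a1 a3 = s2o + (1 / 32 : ℝ) • (a1 + a3) := by
  obtain ⟨⟨hV, h0, h1, n0, n1⟩, ha2, ham1, ham2, ha3, hs1, hs2e, hs2o, hl, hm, hn, hk, hp, hq, hr⟩ := h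
  obtain ⟨f00, f01, f0m1, f02, f0m2, f11, f10, f12, f1m1, f13⟩ := hact
  obtain ⟨s01, s11, s02e, s12e, s02o, s12o⟩ := hsfix
  have hcomm := hV.1
  have hm0 : ∀ u v : V, μ₀ (mul u v) = mul (μ₀ u) (μ₀ v) := h0.1
  have hm1 : ∀ u v : V, μ₁ (mul u v) = mul (μ₁ u) (μ₁ v) := h1.1
  have id0 : mul a0 a0 = a0 := h0.2.2.1.1.2.1
  have id1 : mul a1 a1 = a1 := h1.2.2.1.1.2.1
  have id2 : mul a2 a2 = a2 := by rw [← f10, ← hm1, id0]
  have idm1 : mul am1 am1 = am1 := by rw [← f01, ← hm0, id1]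
  have idm2 : mul am2 am2 = am2 := by rw [← f02, ← hm0, id2]
  have id3 : mul a3 a3 = a3 := by rw [← f1m1, ← hm1, idm1]
  have p01 : mul a0 a1 = s1 + (1 / 32 : ℝ) • (a0 + a1) := by
    rw [hs1]
    unfold sg
    module
  have p10 : mul a1 a0 = s1 + (1 / 32 : ℝ) • (a1 + a0) := by
    rw [hcomm a1 a0, p01]
    module
  have p12 : mul a1 a2 = s1 + (1 / 32 : ℝ) • (a1 + a2) := by
    have := congrArg μ₁ p10
    rw [hm1, map_add, map_smul, map_add, f11, f10, s11] at this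
    exact this
  have pm10 : mul am1 a0 = s1 + (1 / 32 : ℝ) • (am1 + a0) := by
    have := congrArg μ₀ p10
    rw [hm0, map_add, map_smul, map_add, f01, f00, s01] at this
    exact this
  have p21 : mul a2 a1 = s1 + (1 / 32 : ℝ) • (a2 + a1) := by
    rw [hcomm a2 a1, p12]
    module
  have pm2m1 : mul am2 am1 = s1 + (1 / 32 : ℝ) • (am2 + am1) := by
    have := congrArg μ₀ p21
    rw [hm0, map_add, map_smul, map_add, f02, f01, s01] at this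
    exact this
  have p0m1 : mul a0 am1 = s1 + (1 / 32 : ℝ) • (a0 + am1) := by
    rw [hcomm a0 am1, pm10]
    module
  have p23 : mul a2 a3 = s1 + (1 / 32 : ℝ) • (a2 + a3) := by
    have := congrArg μ₁ p0m1
    rw [hm1, map_add, map_smul, map_add, f10, f1m1, s11] at this
    exact this
  have p02 : mul a0 a2 = s2e + (1 / 32 : ℝ) • (a0 + a2) := by
    rw [hs2e]
    unfold sg
    module
  have p20 : mul a2 a0 = s2e + (1 / 32 : ℝ) • (a2 + a0) := by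
    rw [hcomm a2 a0, p02]
    module
  have pm20 : mul am2 a0 = s2e + (1 / 32 : ℝ) • (am2 + a0) := by
    have := congrArg μ₀ p20
    rw [hm0, map_add, map_smul, map_add, f02, f00, s02e] at this
    exact this
  have p1m1 : mul a1 am1 = s2o + (1 / 32 : ℝ) • (a1 + am1) := by
    rw [hs2o]
    unfold sg
    module
  have pm11 : mul am1 a1 = s2o + (1 / 32 : ℝ) • (am1 + a1) := by
    rw [hcomm am1 a1, p1m1]
    module
  have p13 : mul a1 a3 = s2o + (1 / 32 : ℝ) • (a1 + a3) := by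
    have := congrArg μ₁ p1m1
    rw [hm1, map_add, map_smul, map_add, f11, f1m1, s12o] at this
    exact this
  exact ⟨idm2, idm1, id0, id1, id2, id3, pm2m1, pm10, p01, p12, p23, pm20, pm11, p02, p13⟩

end Cfsg.Agent.Lib.Helper24.SAK
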