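import Mathlib
import Cfsg.Prelude.Def_AxialAlgebras
import Cfsg.Agent.Lib.Helper24.SAK.Defs
import Cfsg.Agent.Lib.Helper24.SAKB6core
import Cfsg.Agent.Lib.Helper24.SAKBr1
import Cfsg.Agent.Lib.Helper24.SAKB4

set_option autoImplicit false

namespace Cfsg.Agent.Lib.Helper24.SAK

open Cfsg.Axial

variable {V : Type*} [AddCommGroup V] [Module ℝ V]

theorem prodAA {mul : V →ₗ[ℝ] V →ₗ[ℝ] V} {B : LinearMap.BilinForm ℝ V} {μ₀ μ₁ : V ≃ₗ[ℝ] V}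
    {am2 am1 a0 a1 a2 a3 s1 s2e s2o : V} {l m n k p q r : ℝ}
    (h : Dih mul B μ₀ μ₁ am2 am1 a0 a1 a2 a3 s1 s2e s2o l m n k p q r) :
    mul am2 am2 = am2 ∧
      mul am1 am1 = am1 ∧
      mul a0 a0 = a0 ∧
      mul a1 a1 = a1 ∧
      mul a2 a2 = a2 ∧
      mul a3 a3 = a3 ∧
      mul am2 am1 = s1 + (1 / 32 : ℝ) • (am2 + am1) ∧
      mul am1 a0 = s1 + (1 / 32 : ℝ) • (am1 + a0) ∧
      mul a0 a1 = s1 + (1 / 32 : ℝ) • (a0 + a1) ∧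
      mul a1 a2 = s1 + (1 / 32 : ℝ) • (a1 + a2) ∧
      mul a2 a3 = s1 + (1 / 32 : ℝ) • (a2 + a3) ∧
      mul am2 a0 = s2e + (1 / 32 : ℝ) • (am2 + a0) ∧
      mul am1 a1 = s2o + (1 / 32 : ℝ) • (am1 + a1) ∧
      mul a0 a2 = s2e + (1 / 32 : ℝ) • (a0 + a2) ∧
      mul a1 a3 = s2o + (1 / 32 : ℝ) • (a1 + a3) :=
  sakb6_core (sakbr_act h) (dih_sfix h) h

end Cfsg.Agent.Lib.Helper24.SAK
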