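import Mathlib
import Cfsg.Agent.S0677
import Cfsg.Agent.S0678

set_option autoImplicit false

open Equiv Equiv.Perm MulAction

namespace Cfsg.Agent.Lib.Helper24.AltGenSOLV

open Cfsg.Agent.Lib.Helper5

theorem normalizer_card_gen {α : Type*} [Fintype α] [DecidableEq α] {p : ℕ} [Fact p.Prime]
    (hα : Fintype.card α = p) (G : Subgroup (Equiv.Perm α)) [MulAction.IsPretransitive G α]
    (P : Sylow p G) :
    ∃ d, d ∣ (p - 1) ∧ Nat.card (Subgroup.normalizer ((P : Subgroup G) : Set G)) = p * d := by
  have hp : p.Prime := Fact.out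
  have hPc : Nat.card (P : Subgroup G) = p := Cfsg.Agent.S0676.sylow_card hα G P
  have hcyc : IsCyclic (P : Subgroup G) := isCyclic_of_prime_card hPc
  have hPC : (P : Subgroup G) ≤ Subgroup.centralizer ((P : Subgroup G) : Set G) := by
    have hcomm : IsMulCommutative (P : Subgroup G) := hcyc.isMulCommutative
    exact Subgroup.le_centralizer _
  have hCP := Cfsg.Agent.S0678.centralizer_le hα G P
  have hCeq : Subgroup.centralizer ((P : Subgroup G) : Set G) = (P : Subgroup G) :=
    le_antisymm hCP hPC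
  have key := Subgroup.card_dvd_of_injective _
    (QuotientGroup.kerLift_injective (P : Subgroup G).normalizerMonoidHom)
  rw [Subgroup.normalizerMonoidHom_ker, ← Subgroup.index, ← Subgroup.relIndex] at key
  rw [hcyc.card_mulAut, hPc, Nat.totient_prime hp] at key
  refine ⟨_, key, ?_⟩
  have hCN : Subgroup.centralizer ((P : Subgroup G) : Set G) ≤
      Subgroup.normalizer ((P : Subgroup G) : Set G) := by
    rw [hCeq]
    exact Subgroup.le_normalizer
  have h1 := Subgroup.card_mul_index ((Subgroup.centralizer ((P : Subgroup G) : Set G)).subgroupOf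
    (Subgroup.normalizer ((P : Subgroup G) : Set G)))
  have h2 : Nat.card ((Subgroup.centralizer ((P : Subgroup G) : Set G)).subgroupOf
      (Subgroup.normalizer ((P : Subgroup G) : Set G))) = p := by
    rw [Nat.card_congr (Subgroup.subgroupOfEquivOfLe hCN).toEquiv, hCeq, hPc]
  rw [h2] at h1
  rw [← h1]
  rfl

theorem solvable_prime_degree_card {γ : Type*} [Fintype γ] [DecidableEq γ] {p : ℕ} (hp : p.Prime)
    (hγ : Fintype.card γ = p) (G : Subgroup (Perm γ)) [IsPretransitive G γ]
    (hsolv : Group.IsSolvable G) : Nat.card G ∣ p * (p - 1) := by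
  have : Fact p.Prime := ⟨hp⟩
  have hNZ : NeZero p := ⟨hp.ne_zero⟩
  obtain ⟨a₀⟩ : Nonempty γ := Fintype.card_pos_iff.mp (by rw [hγ]; exact hp.pos)
  obtain ⟨σ', hσ'G, hord', -⟩ := pd_exists_cycle hγ G
  have hnt : Nontrivial G := by
    refine ⟨⟨⟨σ', hσ'G⟩, 1, ?_⟩⟩
    intro h
    have h1 : σ' = 1 := congrArg Subtype.val h
    rw [h1, orderOf_one] at hord'
    exact hp.one_lt.ne hord'
  obtain ⟨A, hAn, hAne, hAc⟩ := Cfsg.Agent.S0677.exists_abelian_normal hsolv
  have hprim : MulAction.IsPreprimitive G γ :=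
    MulAction.IsPreprimitive.of_prime_card (by rw [Nat.card_eq_fintype_card, hγ]; exact hp)
  have hfix : MulAction.fixedPoints A γ ≠ Set.univ := by
    intro hall
    apply hAne
    rw [Subgroup.eq_bot_iff_forall]
    intro x hx
    apply Subtype.ext
    ext a
    have hmem : a ∈ MulAction.fixedPoints A γ := by rw [hall]; exact Set.mem_univ a
    exact hmem ⟨x, hx⟩
  have htrA : MulAction.IsPretransitive A γ :=
    MulAction.IsQuasiPreprimitive.isPretransitive_of_normal hfix
  have hstab : MulAction.stabilizer A a₀ = ⊥ := by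
    rw [Subgroup.eq_bot_iff_forall]
    intro x hx
    apply Subtype.ext
    apply Subtype.ext
    ext b
    obtain ⟨y, hy⟩ := MulAction.exists_smul_eq A a₀ b
    have hxy : x * y = y * x := Subtype.ext (hAc x.1 x.2 y.1 y.2)
    have hx' : x • a₀ = a₀ := hx
    show x • b = b
    rw [← hy, ← mul_smul, hxy, mul_smul, hx']
  have hAcard : Nat.card A = p := by
    have h1 := MulAction.index_stabilizer_of_transitive A a₀
    rw [hstab, Subgroup.index_bot] at h1
    rw [h1, Nat.card_eq_fintype_card, hγ]
  have hApg : IsPGroup p A := IsPGroup.of_card (n := 1) (by rw [hAcard, pow_one])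
  obtain ⟨P, hAP⟩ := hApg.exists_le_sylow
  have hPc : Nat.card (P : Subgroup G) = p := Cfsg.Agent.S0676.sylow_card hγ G P
  have hAeq : A = (P : Subgroup G) :=
    Subgroup.eq_of_le_of_card_ge hAP (by rw [hAcard, hPc])
  have hNtop : Subgroup.normalizer ((P : Subgroup G) : Set G) = ⊤ := by
    rw [← hAeq]
    exact Subgroup.normalizer_eq_top_iff.mpr hAn
  obtain ⟨d, hd, hcard⟩ := normalizer_card_gen hγ G P
  rw [hNtop] at hcard
  have h2 : Nat.card (⊤ : Subgroup G) = Nat.card G := Subgroup.card_top
  rw [h2] at hcard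
  rw [hcard]
  exact Nat.mul_dvd_mul_left p hd

end Cfsg.Agent.Lib.Helper24.AltGenSOLV
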