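import Mathlib
import Cfsg.Agent.S0676
import Cfsg.Agent.S0699
import Cfsg.Agent.Lib.Helper24.AltGenSOLV

set_option autoImplicit false

open Equiv Equiv.Perm MulAction
open scoped Pointwise

namespace Cfsg.Agent.Lib.Helper24.AltGenTWC

theorem eq_one_of_fix {β : Type*} [Fintype β] [DecidableEq β] {g : Perm β}
    (hg : g ∈ alternatingGroup β) (T : Finset β) (hT : Tᶜ.card = 2)
    (hfix : ∀ x ∈ T, g x = x) : g = 1 := by
  have hsub : g.support ⊆ Tᶜ := by
    intro x hx
    rw [Finset.mem_compl]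
    intro hxT
    exact (Equiv.Perm.mem_support.mp hx) (hfix x hxT)
  have hle : g.support.card ≤ 2 := hT ▸ Finset.card_le_card hsub
  have h1 : g.support.card ≠ 1 := Equiv.Perm.card_support_ne_one g
  have h2 : g.support.card ≠ 2 := by
    intro h
    have hsw := Equiv.Perm.card_support_eq_two.mp h
    have hs := hsw.sign_eq
    rw [Equiv.Perm.mem_alternatingGroup] at hg
    rw [hg] at hs
    exact absurd hs (by decide)
  have h0 : g.support.card = 0 := by omega
  exact Equiv.Perm.card_support_eq_zero.mp h0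

theorem odd_le_of_index_two {Γ : Type*} [Group Γ] [Finite Γ] (N K : Subgroup Γ)
    (hN : N.index = 2) (hK : Odd (Nat.card K)) : K ≤ N := by
  intro k hk
  have h1 : orderOf k ∣ Nat.card K := by
    have := orderOf_dvd_natCard (⟨k, hk⟩ : K)
    rwa [Subgroup.orderOf_mk] at this
  have h2 : Odd (orderOf k) := hK.of_dvd_nat h1
  obtain ⟨m, hm⟩ := h2
  have h3 : k ^ 2 ∈ N := Subgroup.sq_mem_of_index_two hN k
  have h4 : k = (k ^ 2) ^ (m + 1) := by
    rw [← pow_mul]
    have : 2 * (m + 1) = orderOf k + 1 := by omega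
    rw [this, pow_succ, pow_orderOf_eq_one, one_mul]
  rw [h4]
  exact N.pow_mem h3 _

theorem even_normalizer {Γ : Type*} [Group Γ] [Finite Γ] {p : ℕ} [Fact p.Prime] (hp2 : p ≠ 2)
    (N : Subgroup Γ) [N.Normal] (hN : N.index = 2) (P : Sylow p Γ) :
    Even (Nat.card (Subgroup.normalizer ((P : Subgroup Γ) : Set Γ))) := by
  have hp : p.Prime := Fact.out
  have hodd : Odd p := hp.odd_of_ne_two hp2
  have hPodd : Odd (Nat.card (P : Subgroup Γ)) := by
    obtain ⟨n, hn⟩ := IsPGroup.iff_card.mp P.isPGroup'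
    rw [hn]
    exact hodd.pow
  have hPN : (P : Subgroup Γ) ≤ N := odd_le_of_index_two N _ hN hPodd
  have hfr : Subgroup.normalizer ((P : Subgroup Γ) : Set Γ) ⊔ N = ⊤ :=
    Sylow.normalizer_sup_eq_top' P hPN
  by_contra hne
  rw [Nat.not_even_iff_odd] at hne
  have hle := odd_le_of_index_two N _ hN hne
  rw [sup_of_le_right hle] at hfr
  rw [hfr, Subgroup.index_top] at hN
  omega

section main

variable {β : Type*} [Fintype β] [DecidableEq β] (G : Subgroup (Perm β)) (T : Finset β)

omit [Fintype β] [DecidableEq β] in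
theorem fix_le_stab : fixingSubgroup G ((T : Set β)ᶜ) ≤ stabilizer G (T : Set β) := by
  intro g hg
  rw [← stabilizer_compl]
  rw [mem_stabilizer_iff]
  rw [mem_fixingSubgroup_iff] at hg
  ext x
  constructor
  · rintro ⟨y, hy, rfl⟩
    show g • y ∈ _
    rw [hg y hy]
    exact hy
  · intro hx
    exact ⟨x, hx, hg x hx⟩

omit [Fintype β] [DecidableEq β] in
theorem stab_maps {g : G} (hg : g ∈ stabilizer G (T : Set β)) (x : β) :
    g • x ∈ T ↔ x ∈ T := by
  rw [mem_stabilizer_iff] at hg
  constructor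
  · intro h
    have h1 : g • x ∈ g • (T : Set β) := by rw [hg]; exact h
    rw [Set.smul_mem_smul_set_iff] at h1
    exact h1
  · intro h
    have h1 : g • x ∈ g • (T : Set β) := Set.smul_mem_smul_set h
    rw [hg] at h1
    exact h1

omit [Fintype β] [DecidableEq β] in
theorem stab_uv {u v : β} (huv : u ≠ v) (hT : ∀ x, x ∉ T ↔ x = u ∨ x = v) {g : G}
    (hg : g ∈ stabilizer G (T : Set β)) :
    (g • u = u ∧ g • v = v) ∨ (g • u = v ∧ g • v = u) := by
  have hu : g • u ∉ T := by
    rw [stab_maps G T hg]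
    exact (hT u).mpr (Or.inl rfl)
  have hv : g • v ∉ T := by
    rw [stab_maps G T hg]
    exact (hT v).mpr (Or.inr rfl)
  have hne : g • u ≠ g • v := fun h => huv (MulAction.injective g h)
  rcases (hT _).mp hu with h1 | h1 <;> rcases (hT _).mp hv with h2 | h2
  · exact absurd (h1.trans h2.symm) hne
  · exact Or.inl ⟨h1, h2⟩
  · exact Or.inr ⟨h1, h2⟩
  · exact absurd (h1.trans h2.symm) hne

omit [Fintype β] [DecidableEq β] in
theorem mem_fix_iff {u v : β} (hT : ∀ x, x ∉ T ↔ x = u ∨ x = v) (g : G) :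
    g ∈ fixingSubgroup G ((T : Set β)ᶜ) ↔ g • u = u ∧ g • v = v := by
  rw [mem_fixingSubgroup_iff]
  constructor
  · intro h
    exact ⟨h u ((hT u).mpr (Or.inl rfl)), h v ((hT v).mpr (Or.inr rfl))⟩
  · rintro ⟨h1, h2⟩ y hy
    rcases (hT y).mp hy with rfl | rfl
    · exact h1
    · exact h2

omit [Fintype β] in
theorem index_two {u v : β} (huv : u ≠ v) (hT : ∀ x, x ∉ T ↔ x = u ∨ x = v)
    (h2 : IsMultiplyPretransitive G β 2) :
    ((fixingSubgroup G ((T : Set β)ᶜ)).subgroupOf (stabilizer G (T : Set β))).index = 2 := by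
  obtain ⟨g₀, hg₀u, hg₀v⟩ := (is_two_pretransitive_iff.mp h2) huv huv.symm
  have hg₀ : g₀ ∈ stabilizer G (T : Set β) := by
    rw [mem_stabilizer_iff]
    ext x
    constructor
    · rintro ⟨y, hy, rfl⟩
      show g₀ • y ∈ (T : Set β)
      by_contra hc
      have hc' : g₀ • y ∉ T := hc
      rcases (hT _).mp hc' with h | h
      · rw [← hg₀v] at h
        have := MulAction.injective g₀ h
        rw [this] at hy
        exact ((hT v).mpr (Or.inr rfl)) hy
      · rw [← hg₀u] at h
        have := MulAction.injective g₀ h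
        rw [this] at hy
        exact ((hT u).mpr (Or.inl rfl)) hy
    · intro hx
      refine ⟨g₀⁻¹ • x, ?_, smul_inv_smul g₀ x⟩
      show g₀⁻¹ • x ∈ (T : Set β)
      by_contra hc
      have hc' : g₀⁻¹ • x ∉ T := hc
      rcases (hT _).mp hc' with h | h
      · have h3 : x = g₀ • u := by rw [← h, smul_inv_smul]
        rw [hg₀u] at h3
        rw [h3] at hx
        exact ((hT v).mpr (Or.inr rfl)) hx
      · have h3 : x = g₀ • v := by rw [← h, smul_inv_smul]
        rw [hg₀v] at h3
        rw [h3] at hx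
        exact ((hT u).mpr (Or.inl rfl)) hx
  rw [Subgroup.index_eq_two_iff]
  refine ⟨⟨g₀, hg₀⟩, fun b => ?_⟩
  rw [Subgroup.mem_subgroupOf, Subgroup.mem_subgroupOf, mem_fix_iff G T hT, mem_fix_iff G T hT]
  have hb := stab_uv G T huv hT b.2
  have e1 : ((b * ⟨g₀, hg₀⟩ : stabilizer G (T : Set β)) : G) • u = (b : G) • v := by
    rw [Subgroup.coe_mul, mul_smul]
    show (b : G) • g₀ • u = _
    rw [hg₀u]
  have e2 : ((b * ⟨g₀, hg₀⟩ : stabilizer G (T : Set β)) : G) • v = (b : G) • u := by
    rw [Subgroup.coe_mul, mul_smul]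
    show (b : G) • g₀ • v = _
    rw [hg₀v]
  rw [e1, e2]
  rcases hb with ⟨h1, h2'⟩ | ⟨h1, h2'⟩
  · rw [h1, h2']
    refine Or.inr ⟨⟨rfl, rfl⟩, ?_⟩
    rintro ⟨h3, -⟩
    exact huv h3.symm
  · rw [h1, h2']
    refine Or.inl ⟨⟨rfl, rfl⟩, ?_⟩
    rintro ⟨h3, -⟩
    exact huv h3.symm

theorem main_aux {p : ℕ} (hp : p.Prime) (hp5 : 5 ≤ p) (hβ : Fintype.card β = p + 2)
    (hGA : G ≤ alternatingGroup β) (h2 : IsMultiplyPretransitive G β 2)
    {a : Perm β} (ha : a.IsCycle) (hT : a.support = T) (hap : T.card = p) (haG : a ∈ G) :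
    (2 * Nat.card (fixingSubgroup G ((T : Set β)ᶜ)) ∣ p * (p - 1)) ∨
      IsMultiplyPretransitive (fixingSubgroup G ((T : Set β)ᶜ))
        (SubMulAction.ofFixingSubgroup G ((T : Set β)ᶜ)) 3 := by
  classical
  have hpF : Fact p.Prime := ⟨hp⟩
  have hc2 : Tᶜ.card = 2 := by rw [Finset.card_compl, hβ, hap]; omega
  obtain ⟨u, v, huv, huvS⟩ := Finset.card_eq_two.mp hc2
  have hTuv : ∀ x, x ∉ T ↔ x = u ∨ x = v := by
    intro x
    rw [← Finset.mem_compl, huvS, Finset.mem_insert, Finset.mem_singleton]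
  have hidx := index_two G T huv hTuv h2
  have hHle := fix_le_stab G T
  have hφ : Function.Injective (MulAction.toPermHom (stabilizer G (T : Set β)) (T : Set β)) := by
    rw [injective_iff_map_eq_one]
    intro g hg
    have hfix : ∀ x ∈ T, ((g : G) : Perm β) x = x := by
      intro x hx
      have h1 := congrArg (fun π : Perm (T : Set β) => ((π ⟨x, hx⟩ : (T : Set β)) : β)) hg
      exact h1
    have h3 := eq_one_of_fix (hGA (g : G).2) T hc2 hfix
    apply Subtype.ext
    apply Subtype.ext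
    exact h3
  have hcardT : Fintype.card (T : Set β) = p := by
    rw [← hap]
    exact Fintype.card_of_subtype T (fun x => Iff.rfl)
  have haH : (⟨a, haG⟩ : G) ∈ fixingSubgroup G ((T : Set β)ᶜ) := by
    rw [mem_fixingSubgroup_iff]
    intro y hy
    have hy' : y ∉ a.support := by rw [hT]; exact hy
    exact Equiv.Perm.notMem_support.mp hy'
  have haHh : (⟨a, haG⟩ : G) ∈ stabilizer G (T : Set β) := hHle haH
  have htr : MulAction.IsPretransitive
      (MulAction.toPermHom (stabilizer G (T : Set β)) (T : Set β)).range (T : Set β) := by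
    refine ⟨fun x y => ?_⟩
    have hx : (x : β) ∈ a.support := by rw [hT]; exact x.2
    have hy : (y : β) ∈ a.support := by rw [hT]; exact y.2
    obtain ⟨i, hi⟩ := ha.sameCycle (Equiv.Perm.mem_support.mp hx) (Equiv.Perm.mem_support.mp hy)
    refine ⟨⟨MulAction.toPermHom (stabilizer G (T : Set β)) (T : Set β)
      ((⟨⟨a, haG⟩, haHh⟩ : stabilizer G (T : Set β)) ^ i), ⟨_, rfl⟩⟩, ?_⟩
    apply Subtype.ext
    show ((((⟨⟨a, haG⟩, haHh⟩ : stabilizer G (T : Set β)) ^ i : stabilizer G (T : Set β)) : G) :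
      Perm β) (x : β) = y
    rw [Subgroup.coe_zpow, Subgroup.coe_zpow]
    exact hi
  by_cases hsolv : Group.IsSolvable
      (MulAction.toPermHom (stabilizer G (T : Set β)) (T : Set β)).range
  · left
    have h1 := Cfsg.Agent.Lib.Helper24.AltGenSOLV.solvable_prime_degree_card hp hcardT _ hsolv
    have h4 : Nat.card (MulAction.toPermHom (stabilizer G (T : Set β)) (T : Set β)).range
        = 2 * Nat.card (fixingSubgroup G ((T : Set β)ᶜ)) := by
      rw [← Nat.card_congr (MonoidHom.ofInjective hφ).toEquiv,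
        ← Subgroup.card_mul_index ((fixingSubgroup G ((T : Set β)ᶜ)).subgroupOf
          (stabilizer G (T : Set β))), hidx,
        Nat.card_congr (Subgroup.subgroupOfEquivOfLe hHle).toEquiv, mul_comm]
    rw [← h4]
    exact h1
  · right
    have hp2 : p ≠ 2 := by omega
    have hodd : Odd (Fintype.card (T : Set β)) := by
      rw [hcardT]
      exact hp.odd_of_ne_two hp2
    have h5 : 5 ≤ Fintype.card (T : Set β) := by rw [hcardT]; exact hp5
    have hNidx : (((fixingSubgroup G ((T : Set β)ᶜ)).subgroupOf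
        (stabilizer G (T : Set β))).map (MonoidHom.ofInjective hφ).toMonoidHom).index = 2 := by
      exact (Subgroup.index_map_equiv _ (MonoidHom.ofInjective hφ)).trans hidx
    have hNn : (((fixingSubgroup G ((T : Set β)ᶜ)).subgroupOf
        (stabilizer G (T : Set β))).map (MonoidHom.ofInjective hφ).toMonoidHom).Normal :=
      Subgroup.normal_of_index_eq_two hNidx
    have hNne : (((fixingSubgroup G ((T : Set β)ᶜ)).subgroupOf
        (stabilizer G (T : Set β))).map (MonoidHom.ofInjective hφ).toMonoidHom) ≠ ⊥ := by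
      intro hbot
      have hmem : (MonoidHom.ofInjective hφ) (⟨⟨a, haG⟩, haHh⟩ : stabilizer G (T : Set β)) ∈
          (((fixingSubgroup G ((T : Set β)ᶜ)).subgroupOf
          (stabilizer G (T : Set β))).map (MonoidHom.ofInjective hφ).toMonoidHom) :=
        Subgroup.mem_map_of_mem _ (Subgroup.mem_subgroupOf.mpr haH)
      rw [hbot, Subgroup.mem_bot] at hmem
      have h6 : (⟨⟨a, haG⟩, haHh⟩ : stabilizer G (T : Set β)) = 1 :=
        (MonoidHom.ofInjective hφ).injective (hmem.trans (map_one _).symm)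
      have h7 : a = 1 := congrArg (fun z : stabilizer G (T : Set β) => ((z : G) : Perm β)) h6
      exact ha.ne_one h7
    obtain ⟨P⟩ : Nonempty (Sylow p
      (MulAction.toPermHom (stabilizer G (T : Set β)) (T : Set β)).range) := inferInstance
    have heven := even_normalizer hp2 _ hNidx P
    have h3 := Cfsg.Agent.S0676.result hcardT _ hsolv P heven
    have h3N := Cfsg.Agent.S0699.result _ hodd h5 h3 _ hNne
    refine ⟨fun x y => ?_⟩
    have hmemT : ∀ z : SubMulAction.ofFixingSubgroup G ((T : Set β)ᶜ), (z : β) ∈ (T : Set β) := by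
      intro z
      have h8 := z.2
      rw [SubMulAction.mem_ofFixingSubgroup_iff, Set.notMem_compl_iff] at h8
      exact h8
    let x' : Fin 3 ↪ (T : Set β) := ⟨fun i => ⟨(x i : β), hmemT (x i)⟩, fun i j hij => by
      apply x.injective
      apply Subtype.ext
      exact congrArg (fun z : (T : Set β) => (z : β)) hij⟩
    let y' : Fin 3 ↪ (T : Set β) := ⟨fun i => ⟨(y i : β), hmemT (y i)⟩, fun i j hij => by
      apply y.injective
      apply Subtype.ext
      exact congrArg (fun z : (T : Set β) => (z : β)) hij⟩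
    obtain ⟨n, hn⟩ := h3N.exists_smul_eq x' y'
    obtain ⟨h, hhH, hhn⟩ := Subgroup.mem_map.mp n.2
    rw [Subgroup.mem_subgroupOf] at hhH
    refine ⟨⟨(h : G), hhH⟩, ?_⟩
    ext i
    have h9 := congrArg (fun w : Fin 3 ↪ (T : Set β) => ((w i : (T : Set β)) : β)) hn
    have h10 : ((n : (MulAction.toPermHom (stabilizer G (T : Set β)) (T : Set β)).range) :
        Perm (T : Set β)) = MulAction.toPermHom (stabilizer G (T : Set β)) (T : Set β) h := by
      rw [← hhn]
      rfl
    have h11 : (((n • x') i : (T : Set β)) : β) = (h : G) • (x i : β) := by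
      show ((((n : (MulAction.toPermHom (stabilizer G (T : Set β)) (T : Set β)).range) :
        Perm (T : Set β)) (x' i) : (T : Set β)) : β) = _
      rw [h10]
      rfl
    show (h : G) • (x i : β) = (y i : β)
    rw [← h11]
    exact h9

end main

theorem twin_dichotomy {β : Type*} [Fintype β] [DecidableEq β] {p : ℕ} (hp : p.Prime)
    (hp5 : 5 ≤ p) (hβ : Fintype.card β = p + 2) (G : Subgroup (Perm β))
    (hGA : G ≤ alternatingGroup β) (h2 : IsMultiplyPretransitive G β 2)
    {a : Perm β} (ha : a.IsCycle) (hap : a.support.card = p) (haG : a ∈ G) :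
    (2 * Nat.card (fixingSubgroup G ((a.support : Set β)ᶜ)) ∣ p * (p - 1)) ∨
      IsMultiplyPretransitive (fixingSubgroup G ((a.support : Set β)ᶜ))
        (SubMulAction.ofFixingSubgroup G ((a.support : Set β)ᶜ)) 3 :=
  main_aux G a.support hp hp5 hβ hGA h2 ha rfl hap haG

end Cfsg.Agent.Lib.Helper24.AltGenTWC
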