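import Mathlib
import Cfsg.Agent.Lib.Lead.BCG.Defs
import Cfsg.Agent.Lib.Helper24.BCGL2

set_option autoImplicit false
set_option linter.unusedVariables false

namespace Cfsg.Agent.Lib.Lead.BCG

open Polynomial Module Matrix Cfsg.Agent.Lib.Helper13.S5955 Cfsg.Agent.Lib.helper15.S5972
  Cfsg.Agent.Lib.Helper18.ONE Cfsg.Agent.Lib.Lead.BCS

theorem bcgl3_gen {G : Type*} [Group G] (z : G) (hz : z ∈ Subgroup.center G) (hzz : z * z = 1)
    (hcases : ∀ g ∈ Subgroup.center G, g = 1 ∨ g = z) (s : ℕ) (hs : s.Prime) (hs2 : s ≠ 2) :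
    2 * s ∈ Set.range (orderOf : G ⧸ Subgroup.center G → ℕ) ↔
      ∃ t y : G, Commute t y ∧ orderOf y = s ∧ (t * t = 1 ∨ t * t = z) ∧ t ≠ 1 ∧ t ≠ z := by
  have hsodd : Odd s := hs.odd_of_ne_two hs2
  have : Fact s.Prime := ⟨hs⟩
  constructor
  · rintro ⟨xb, hxb⟩
    obtain ⟨x, rfl⟩ := QuotientGroup.mk_surjective xb
    have h2s : x ^ (2 * s) ∈ Subgroup.center G := by
      rw [← QuotientGroup.eq_one_iff, QuotientGroup.mk_pow, ← hxb, pow_orderOf_eq_one]
    have hts : x ^ s ∉ Subgroup.center G := by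
      intro hmem
      have h1 : (QuotientGroup.mk x : G ⧸ Subgroup.center G) ^ s = 1 := by
        rw [← QuotientGroup.mk_pow]
        exact (QuotientGroup.eq_one_iff _).mpr hmem
      have hd := orderOf_dvd_of_pow_eq_one h1
      rw [hxb] at hd
      have h3 := Nat.le_of_dvd hs.pos hd
      have h4 := hs.pos
      omega
    have hy0 : x ^ 2 ∉ Subgroup.center G := by
      intro hmem
      have h1 : (QuotientGroup.mk x : G ⧸ Subgroup.center G) ^ 2 = 1 := by
        rw [← QuotientGroup.mk_pow]
        exact (QuotientGroup.eq_one_iff _).mpr hmem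
      have hd := orderOf_dvd_of_pow_eq_one h1
      rw [hxb] at hd
      have h3 := Nat.le_of_dvd (by norm_num) hd
      have h4 := hs.two_le
      omega
    have hcz : ∀ g : G, Commute g z := fun g => (Subgroup.mem_center_iff.mp hz g)
    have key : ∃ y : G, Commute (x ^ s) y ∧ y ^ s = 1 ∧ y ≠ 1 := by
      have hys : (x ^ 2) ^ s ∈ Subgroup.center G := by
        rw [← pow_mul]
        exact h2s
      rcases hcases _ hys with h1 | h1
      · refine ⟨x ^ 2, (Commute.refl x).pow_pow s 2, h1, ?_⟩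
        intro h
        apply hy0
        rw [h]
        exact Subgroup.one_mem _
      · refine ⟨z * x ^ 2, ?_, ?_, ?_⟩
        · exact (hcz (x ^ s)).mul_right ((Commute.refl x).pow_pow s 2)
        · have hc : Commute z (x ^ 2) := (hcz (x ^ 2)).symm
          rw [hc.mul_pow, h1, bcgl2_odd_pow z hzz s hsodd, hzz]
        · intro h
          apply hy0
          have h5 : x ^ 2 = z⁻¹ := eq_inv_of_mul_eq_one_right h
          rw [h5]
          exact Subgroup.inv_mem _ hz
    obtain ⟨y, hcy, hys, hy1⟩ := key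
    refine ⟨x ^ s, y, hcy, orderOf_eq_prime hys hy1, ?_, ?_, ?_⟩
    · have h6 : x ^ s * x ^ s = x ^ (2 * s) := by
        rw [← pow_add, two_mul]
      rw [h6]
      exact hcases _ h2s
    · intro h
      apply hts
      rw [h]
      exact Subgroup.one_mem _
    · intro h
      apply hts
      rw [h]
      exact hz
  · rintro ⟨t, y, hc, hy, htt, ht1, htz⟩
    have htc : t * t ∈ Subgroup.center G := by
      rcases htt with h | h
      · rw [h]
        exact Subgroup.one_mem _
      · rw [h]
        exact hz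
    have htn : t ∉ Subgroup.center G := by
      intro h
      rcases hcases t h with h1 | h1
      · exact ht1 h1
      · exact htz h1
    have hys : y ^ s = 1 := by
      rw [← hy]
      exact pow_orderOf_eq_one y
    have hy1 : y ≠ 1 := by
      intro h
      rw [h, orderOf_one] at hy
      have := hs.two_le
      omega
    refine ⟨QuotientGroup.mk (t * y), ?_⟩
    have hp2s : (QuotientGroup.mk (t * y) : G ⧸ Subgroup.center G) ^ (2 * s) = 1 := by
      rw [← QuotientGroup.mk_pow, QuotientGroup.eq_one_iff, hc.mul_pow]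
      have h1 : y ^ (2 * s) = 1 := by
        rw [mul_comm, pow_mul, hys, one_pow]
      have h2 : t ^ (2 * s) = (t * t) ^ s := by
        rw [pow_mul, pow_two]
      rw [h1, mul_one, h2]
      exact Subgroup.pow_mem _ htc s
    have hp2 : (QuotientGroup.mk (t * y) : G ⧸ Subgroup.center G) ^ 2 ≠ 1 := by
      intro h
      rw [← QuotientGroup.mk_pow, QuotientGroup.eq_one_iff, hc.mul_pow] at h
      have h1 : y ^ 2 ∈ Subgroup.center G := by
        have h3 : y ^ 2 = (t ^ 2)⁻¹ * (t ^ 2 * y ^ 2) := by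
          rw [inv_mul_cancel_left]
        rw [h3]
        refine Subgroup.mul_mem _ (Subgroup.inv_mem _ ?_) h
        rw [pow_two]
        exact htc
      have h4 : y ^ 4 = 1 := by
        have h5 : y ^ 4 = y ^ 2 * y ^ 2 := by
          rw [← pow_add]
        rw [h5]
        rcases hcases _ h1 with h6 | h6
        · rw [h6, one_mul]
        · rw [h6, hzz]
      have h7 := orderOf_dvd_of_pow_eq_one h4
      rw [hy] at h7
      have h8 : s ∣ 2 * 2 := h7
      have h9 : s ∣ 2 := by
        rcases (Nat.Prime.dvd_mul hs).mp h8 with h | h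
        · exact h
        · exact h
      have h10 := (Nat.prime_dvd_prime_iff_eq hs Nat.prime_two).mp h9
      exact hs2 h10
    have hps : (QuotientGroup.mk (t * y) : G ⧸ Subgroup.center G) ^ s ≠ 1 := by
      intro h
      rw [← QuotientGroup.mk_pow, QuotientGroup.eq_one_iff, hc.mul_pow, hys, mul_one] at h
      apply htn
      obtain ⟨k, hk⟩ := hsodd
      have h1 : t ^ s = (t * t) ^ k * t := by
        rw [hk, pow_succ, pow_mul, pow_two]
      have h2 : t = ((t * t) ^ k)⁻¹ * t ^ s := by
        rw [h1, inv_mul_cancel_left]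
      rw [h2]
      exact Subgroup.mul_mem _ (Subgroup.inv_mem _ (Subgroup.pow_mem _ htc k)) h
    have hdvd := orderOf_dvd_of_pow_eq_one hp2s
    have hn2 : ¬ orderOf (QuotientGroup.mk (t * y) : G ⧸ Subgroup.center G) ∣ 2 := by
      intro h
      exact hp2 (orderOf_dvd_iff_pow_eq_one.mp h)
    have hns : ¬ orderOf (QuotientGroup.mk (t * y) : G ⧸ Subgroup.center G) ∣ s := by
      intro h
      exact hps (orderOf_dvd_iff_pow_eq_one.mp h)
    rcases Nat.coprime_or_dvd_of_prime hs
      (orderOf (QuotientGroup.mk (t * y) : G ⧸ Subgroup.center G)) with hcop | hsd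
    · exact absurd (Nat.Coprime.dvd_of_dvd_mul_right hcop.symm hdvd) hn2
    · obtain ⟨j, hj⟩ := hsd
      rw [hj] at hdvd hns ⊢
      have hj2 : j ∣ 2 := by
        rw [mul_comm 2 s] at hdvd
        exact Nat.dvd_of_mul_dvd_mul_left hs.pos hdvd
      rcases (Nat.dvd_prime Nat.prime_two).mp hj2 with h | h
      · rw [h, mul_one] at hns
        exact absurd (dvd_refl s) hns
      · rw [h, mul_comm]

theorem ins_two_s {F : Type*} [Field F] (h2 : (2 : F) ≠ 0) (d : ℕ) (hd : 1 ≤ d) (s : ℕ)
    (hs : s.Prime) (hs2 : s ≠ 2) :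
    2 * s ∈ Set.range (orderOf : Cfsg.PSp d F → ℕ) ↔
      ∃ t y : Matrix.symplecticGroup (Fin d) F, Commute t y ∧ orderOf y = s ∧
        (t * t = 1 ∨ t * t = Cfsg.Agent.S0246.negOne F d) ∧ t ≠ 1 ∧
        t ≠ Cfsg.Agent.S0246.negOne F d :=
  bcgl3_gen (Cfsg.Agent.S0246.negOne F d) Cfsg.Agent.S0246.negOne_mem_center (bcgl2_negOne_sq d)
    (fun g hg => Cfsg.Agent.S0246.center_cases hd g hg) s hs hs2

end Cfsg.Agent.Lib.Lead.BCG
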