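import Cfsg.Agent.Lib.helper7.CEC.Defs

set_option autoImplicit false

namespace Cfsg.Agent.Lib.helper7.CEC

open Cfsg.Agent.Lib.helper15.St2 Cfsg.Agent.Lib.helper7.Ce Cfsg.Agent.Lib.helper3.STC

section M

universe u

variable {F : Type u} [Field F] [Fintype F]

theorem exists_ne_zero_one (hq : 3 ≤ Fintype.card F) : ∃ v : F, v ≠ 0 ∧ v ≠ 1 := by
  classical
  by_contra hcon
  push Not at hcon
  have h1 : (Finset.univ : Finset F) ⊆ {0, 1} := by
    intro v _
    by_cases hv : v = 0
    · simp [hv]
    · simp [hcon v hv]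
  have h2 := Finset.card_le_card h1
  have h3 : ({0, 1} : Finset F).card ≤ 2 := Finset.card_le_two
  rw [Finset.card_univ] at h2
  omega

theorem exists_steinberg (hq : 5 ≤ Fintype.card F) :
    ∃ c : F, c ≠ 0 ∧ 1 - c ≠ 0 ∧ c * (1 - c) ≠ 1 := by
  classical
  by_contra hcon
  push Not at hcon
  obtain ⟨r, hr0, hr1⟩ := exists_ne_zero_one (F := F) (by omega)
  have hr1' : 1 - r ≠ 0 := fun h => hr1 (sub_eq_zero.1 h).symm
  have hr := hcon r hr0 hr1'
  have h1 : (Finset.univ : Finset F) ⊆ {0, 1, r, 1 - r} := by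
    intro c _
    by_cases hc0 : c = 0
    · simp [hc0]
    by_cases hc1 : c = 1
    · simp [hc1]
    have hc1' : 1 - c ≠ 0 := fun h => hc1 (sub_eq_zero.1 h).symm
    have hc := hcon c hc0 hc1'
    have hprod : (c - r) * (1 - c - r) = 0 := by
      have : (c - r) * (1 - c - r) = c * (1 - c) - r * (1 - r) := by ring
      rw [this, hc, hr, sub_self]
    rcases mul_eq_zero.1 hprod with h | h
    · have : c = r := sub_eq_zero.1 h
      simp [this]
    · have : c = 1 - r := by
        have h' : 1 - c - r = 0 := h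
        linear_combination -h'
      simp [this]
  have h2 := Finset.card_le_card h1
  have h3 : ({0, 1, r, 1 - r} : Finset F).card ≤ 4 := Finset.card_le_four
  rw [Finset.card_univ] at h2
  omega

end M

end Cfsg.Agent.Lib.helper7.CEC
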