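import Mathlib
import Cfsg.Prelude.Def_GeometricClasses

set_option autoImplicit false
set_option linter.unusedVariables false
set_option linter.unusedSectionVars false

namespace Cfsg.Agent.Lib.Helper15.TX2S

open Cfsg Cfsg.Geo
open scoped MatrixGroups Matrix

variable {n : ℕ} {F : Type*} [Field F]

theorem tx2spq5_Qab (Q : QuadraticForm F (Fin n → F)) (u v : Fin n → F) (hu : Q u = 0) (hv : Q v = 0)
    (huv : QuadraticMap.polar (⇑Q) u v = 1) (a b : F) : Q (a • u + b • v) = a * b := by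
  have h1 : Q (a • u + b • v) = Q (a • u) + Q (b • v) + QuadraticMap.polar (⇑Q) (a • u) (b • v) :=
    QuadraticMap.map_add Q _ _
  rw [h1, QuadraticMap.map_smul, QuadraticMap.map_smul, hu, hv, QuadraticMap.polar_smul_left,
    QuadraticMap.polar_smul_right, huv]
  simp

theorem tx2spq5_polar_ab (Q : QuadraticForm F (Fin n → F)) (u v : Fin n → F) (hu : Q u = 0) (hv : Q v = 0)
    (huv : QuadraticMap.polar (⇑Q) u v = 1) (a b c d : F) :
    QuadraticMap.polar (⇑Q) (a • u + b • v) (c • u + d • v) = a * d + b * c := by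
  have h1 : (a • u + b • v) + (c • u + d • v) = (a + c) • u + (b + d) • v := by
    rw [add_smul, add_smul]; abel
  unfold QuadraticMap.polar
  rw [h1, tx2spq5_Qab Q u v hu hv huv, tx2spq5_Qab Q u v hu hv huv, tx2spq5_Qab Q u v hu hv huv]
  ring

theorem tx2spq5_hyp (Q : QuadraticForm F (Fin n → F)) (W : Submodule F (Fin n → F))
    (hW : IsNondegenerateOn (QuadraticMap.polar (⇑Q)) W) (hd : Module.finrank F W = 2)
    (hp : IsPlusTypeOn (⇑Q) W) :
    ∃ u v : Fin n → F, u ∈ W ∧ v ∈ W ∧ Q u = 0 ∧ Q v = 0 ∧ QuadraticMap.polar (⇑Q) u v = 1 ∧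
      ∀ w ∈ W, ∃ a b : F, w = a • u + b • v := by
  classical
  obtain ⟨U, hUW, hUs, hUd⟩ := hp
  have hU1 : Module.finrank F U = 1 := by omega
  have hUne : U ≠ ⊥ := by
    intro hb
    rw [hb, finrank_bot] at hU1
    omega
  obtain ⟨u, huU, hu0⟩ := Submodule.exists_mem_ne_zero_of_ne_bot hUne
  have huW : u ∈ W := hUW huU
  have hQu : Q u = 0 := hUs u huU
  obtain ⟨⟨x, hxW, hxu⟩, _⟩ := hW u huW hu0
  set B := QuadraticMap.polarBilin Q with hB
  have hBp : ∀ a b, B a b = QuadraticMap.polar (⇑Q) a b := fun a b => rfl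
  have hBsymm : ∀ a b, B a b = B b a := fun a b => by rw [hBp, hBp, QuadraticMap.polar_comm]
  have hBself : ∀ a, B a a = 2 * Q a := by
    intro a
    rw [hBp, QuadraticMap.polar_self]
    simp
  have hQadd : ∀ a b, Q (a + b) = Q a + Q b + B a b := by
    intro a b
    rw [hBp]
    exact QuadraticMap.map_add Q a b
  have hQsmul : ∀ (c : F) a, Q (c • a) = c * c * Q a := by
    intro c a
    rw [QuadraticMap.map_smul]
    rfl
  have hux : B u x ≠ 0 := by rw [hBsymm, hBp]; exact hxu
  obtain ⟨v₀, hv₀⟩ : ∃ v₀ : Fin n → F, v₀ = (B u x)⁻¹ • x := ⟨_, rfl⟩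
  have hv₀W : v₀ ∈ W := by rw [hv₀]; exact W.smul_mem _ hxW
  have huv₀ : B u v₀ = 1 := by
    rw [hv₀, map_smul, smul_eq_mul, inv_mul_cancel₀ hux]
  obtain ⟨v, hv⟩ : ∃ v : Fin n → F, v = v₀ + (-(Q v₀)) • u := ⟨_, rfl⟩
  have hvW : v ∈ W := by rw [hv]; exact W.add_mem hv₀W (W.smul_mem _ huW)
  have huu : B u u = 0 := by rw [hBself, hQu, mul_zero]
  have huv : B u v = 1 := by
    rw [hv, map_add, map_smul, huv₀, huu, smul_zero, add_zero]
  have hQv : Q v = 0 := by
    rw [hv, hQadd, hQsmul, hQu, map_smul, hBsymm v₀ u, huv₀]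
    simp
  have hli : LinearIndependent F ![u, v] := by
    rw [LinearIndependent.pair_iff]
    intro s t hst
    have h1 : B u (s • u + t • v) = 0 := by rw [hst, map_zero]
    rw [map_add, map_smul, map_smul, huu, huv, smul_zero, zero_add, smul_eq_mul, mul_one] at h1
    rw [h1, zero_smul, add_zero] at hst
    rcases smul_eq_zero.1 hst with h | h
    · exact ⟨h, h1⟩
    · exact absurd h hu0
  have hspan : Submodule.span F ({u, v} : Set (Fin n → F)) = W := by
    apply Submodule.eq_of_le_of_finrank_eq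
    · rw [Submodule.span_le]
      intro z hz
      rcases hz with rfl | rfl
      · exact huW
      · exact hvW
    · have := finrank_span_eq_card hli
      rw [Fintype.card_fin] at this
      have hr : Set.range ![u, v] = ({u, v} : Set (Fin n → F)) := by
        ext z
        simp [eq_comm]
        exact or_comm
      rw [hr] at this
      rw [hd, this]
  refine ⟨u, v, huW, hvW, hQu, hQv, huv, ?_⟩
  intro w hw
  rw [← hspan, Submodule.mem_span_pair] at hw
  obtain ⟨a, b, h⟩ := hw
  exact ⟨a, b, h.symm⟩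

end Cfsg.Agent.Lib.Helper15.TX2S
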