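import Mathlib
import Cfsg.Prelude.Def_GeometricClasses
import Cfsg.Agent.Lib.Helper10.O9D3Q3
import Cfsg.Agent.Lib.Helper28.Ld.Trans
import Cfsg.Agent.Lib.Helper24.TX2SPQ5a

set_option autoImplicit false
set_option linter.unusedVariables false
set_option linter.unusedSectionVars false

namespace Cfsg.Agent.Lib.Helper15.TX2S

open Cfsg Cfsg.Geo
open scoped MatrixGroups Matrix

variable {n : ℕ} {F : Type*} [Field F] [Fintype F]

theorem tx2spq5_five (hq : Fintype.card F = 5) : (5 : F) = 0 := by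
  have h := FiniteField.cast_card_eq_zero F
  rw [hq] at h
  exact_mod_cast h

theorem tx2spq5_elems (hq : Fintype.card F = 5) (a : F) :
    a = 0 ∨ a = 1 ∨ a = -1 ∨ a = 2 ∨ a = -2 := by
  have h5 := tx2spq5_five hq
  have h := FiniteField.pow_card a
  rw [hq] at h
  have hprod : a * ((a - 1) * ((a + 1) * ((a - 2) * (a + 2)))) = 0 := by
    linear_combination h + (a - a ^ 3) * h5
  rcases mul_eq_zero.1 hprod with h1 | h1
  · exact Or.inl h1
  rcases mul_eq_zero.1 h1 with h2 | h2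
  · exact Or.inr (Or.inl (sub_eq_zero.1 h2))
  rcases mul_eq_zero.1 h2 with h3 | h3
  · exact Or.inr (Or.inr (Or.inl (eq_neg_of_add_eq_zero_left h3)))
  rcases mul_eq_zero.1 h3 with h4 | h4
  · exact Or.inr (Or.inr (Or.inr (Or.inl (sub_eq_zero.1 h4))))
  · exact Or.inr (Or.inr (Or.inr (Or.inr (eq_neg_of_add_eq_zero_left h4))))

theorem plus_planes_q5 (hq : Fintype.card F = 5) (Q : QuadraticForm F (Fin n → F))
    {t : ℕ} (D : Fin t → Submodule F (Fin n → F)) (hD : IsOrthogonalMDecomposition (⇑Q) 2 D)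
    (hp : ∀ i, IsPlusTypeOn (⇑Q) (D i)) :
    ∃ D' : Fin n → Submodule F (Fin n → F), IsOrthogonalMDecomposition (⇑Q) 1 D' ∧
      decompositionStabilizer D ⊓ isometryGroup F (⇑Q) ≤ decompositionStabilizer D' := by
  classical
  have h5 := tx2spq5_five hq
  have h2 : (2 : F) ≠ 0 := by
    intro h
    have h1 : (1 : F) = 0 := by linear_combination h5 - 2 * h
    exact one_ne_zero h1
  have htn : t * 2 = n := Cfsg.Agent.Lib.Helper28.Ld.card_eq D hD.decomp.decomp
  have hn2 : 2 ≤ n := by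
    have := hD.decomp.decomp.two_le
    omega
  have hyp := fun i => tx2spq5_hyp Q (D i) (hD.decomp.nondegenerate i)
    (hD.decomp.decomp.finrank_eq i) (hp i)
  choose u v huD hvD hQu hQv huv hrepr using hyp
  obtain ⟨e⟩ : Nonempty (Fin n ≃ Fin t × Fin 2) := ⟨(finCongr htn.symm).trans finProdFinEquiv.symm⟩
  obtain ⟨α, hα⟩ : ∃ α : Fin 2 → F, α = ![1, 2] := ⟨_, rfl⟩
  obtain ⟨β, hβ⟩ : ∃ β : Fin 2 → F, β = ![1, -2] := ⟨_, rfl⟩
  have hα0 : α 0 = 1 := by rw [hα]; rfl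
  have hα1 : α 1 = 2 := by rw [hα]; rfl
  have hβ0 : β 0 = 1 := by rw [hβ]; rfl
  have hβ1 : β 1 = -2 := by rw [hβ]; rfl
  have hαβ : ∀ j, α j * β j = 1 := by
    intro j
    fin_cases j
    · show α 0 * β 0 = 1
      rw [hα0, hβ0, one_mul]
    · show α 1 * β 1 = 1
      rw [hα1, hβ1]
      linear_combination (-1 : F) * h5
  have hαβ2 : ∀ j j', j ≠ j' → α j * β j' + β j * α j' = 0 := by
    intro j j' hjj
    fin_cases j <;> fin_cases j'
    · exact absurd rfl hjj
    · show α 0 * β 1 + β 0 * α 1 = 0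
      rw [hα0, hβ0, hα1, hβ1]
      ring
    · show α 1 * β 0 + β 1 * α 0 = 0
      rw [hα0, hβ0, hα1, hβ1]
      ring
    · exact absurd rfl hjj
  obtain ⟨w, hw⟩ : ∃ w : Fin n → (Fin n → F),
      ∀ m, w m = α (e m).2 • u (e m).1 + β (e m).2 • v (e m).1 := ⟨_, fun _ => rfl⟩
  have hwD : ∀ m, w m ∈ D (e m).1 := by
    intro m
    rw [hw]
    exact (D _).add_mem ((D _).smul_mem _ (huD _)) ((D _).smul_mem _ (hvD _))
  have hQw : ∀ m, Q (w m) = 1 := by
    intro m
    rw [hw, tx2spq5_Qab Q _ _ (hQu _) (hQv _) (huv _), hαβ]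
  have hpol_same : ∀ m, QuadraticMap.polar (⇑Q) (w m) (w m) = 2 := by
    intro m
    rw [QuadraticMap.polar_self, hQw]
    simp
  have hpol_ne : ∀ m m', m ≠ m' → QuadraticMap.polar (⇑Q) (w m) (w m') = 0 := by
    intro m m' hmm
    by_cases h1 : (e m).1 = (e m').1
    · have h2' : (e m).2 ≠ (e m').2 := by
        intro h2'
        exact hmm (e.injective (Prod.ext h1 h2'))
      rw [hw m, hw m', ← h1, tx2spq5_polar_ab Q _ _ (hQu _) (hQv _) (huv _)]
      exact hαβ2 _ _ h2'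
    · exact hD.decomp.orthogonal _ _ h1 _ (hwD m) _ (hwD m')
  have hP : ∀ i, ∀ x ∈ D i, Q x = 1 → ∃ j, x = w (e.symm (i, j)) ∨ x = -w (e.symm (i, j)) := by
    intro i x hx hxQ
    obtain ⟨a, b, rfl⟩ := hrepr i x hx
    rw [tx2spq5_Qab Q _ _ (hQu i) (hQv i) (huv i)] at hxQ
    have hw0 : w (e.symm (i, 0)) = u i + v i := by
      rw [hw, e.apply_symm_apply]
      show α 0 • u i + β 0 • v i = u i + v i
      rw [hα0, hβ0, one_smul, one_smul]
    have hw1 : w (e.symm (i, 1)) = (2 : F) • u i + (-2 : F) • v i := by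
      rw [hw, e.apply_symm_apply]
      show α 1 • u i + β 1 • v i = (2 : F) • u i + (-2 : F) • v i
      rw [hα1, hβ1]
    rcases tx2spq5_elems hq a with rfl | rfl | rfl | rfl | rfl
    · rw [zero_mul] at hxQ
      exact absurd hxQ.symm one_ne_zero
    · have hb : b = 1 := by rw [one_mul] at hxQ; exact hxQ
      refine ⟨0, Or.inl ?_⟩
      rw [hw0, hb, one_smul, one_smul]
    · have hb : b = -1 := by linear_combination -hxQ
      refine ⟨0, Or.inr ?_⟩
      rw [hw0, hb, neg_smul, neg_smul, one_smul, one_smul, neg_add]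
    · have hb : b = -2 := by linear_combination 3 * hxQ + (1 - b) * h5
      refine ⟨1, Or.inl ?_⟩
      rw [hw1, hb]
    · have hb : b = 2 := by linear_combination (-3) * hxQ - (b + 1) * h5
      refine ⟨1, Or.inr ?_⟩
      rw [hw1, hb, neg_smul, neg_smul, neg_add, neg_neg]
  refine ⟨fun m => Submodule.span F {w m},
    Cfsg.Agent.Lib.Helper25.O9.o9d3q3_lines hn2 h2 Q w 2 h2 hpol_same hpol_ne, ?_⟩
  intro g hg
  obtain ⟨⟨σ, hσ⟩, hgI⟩ := Subgroup.mem_inf.mp hg
  have hgQ : ∀ x : Fin n → F, Q ((g : Matrix (Fin n) (Fin n) F) *ᵥ x) = Q x := fun x => hgI x x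
  have hgpol : ∀ x y, QuadraticMap.polar (⇑Q) ((g : Matrix (Fin n) (Fin n) F) *ᵥ x)
      ((g : Matrix (Fin n) (Fin n) F) *ᵥ y) = QuadraticMap.polar (⇑Q) x y := by
    intro x y
    unfold QuadraticMap.polar
    rw [← Matrix.mulVec_add, hgQ, hgQ, hgQ]
  have hex : ∀ m, ∃ (m' : Fin n) (s : F), s ≠ 0 ∧ (g : Matrix (Fin n) (Fin n) F) *ᵥ w m = s • w m' := by
    intro m
    have h1 : (g : Matrix (Fin n) (Fin n) F) *ᵥ w m ∈ D (σ (e m).1) := by
      rw [← hσ]
      exact ⟨w m, hwD m, by rw [Matrix.toLin'_apply]⟩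
    obtain ⟨j, hj | hj⟩ := hP _ _ h1 (by rw [hgQ, hQw])
    · exact ⟨_, 1, one_ne_zero, by rw [hj, one_smul]⟩
    · exact ⟨_, -1, neg_ne_zero.mpr one_ne_zero, by rw [hj, neg_one_smul]⟩
  choose φ s hs hφ using hex
  have hinj : Function.Injective φ := by
    intro m m' hmm
    by_contra hne
    have h1 := hgpol (w m) (w m')
    rw [hpol_ne m m' hne, hφ m, hφ m', hmm, QuadraticMap.polar_smul_left, QuadraticMap.polar_smul_right,
      hpol_same, smul_eq_mul, smul_eq_mul] at h1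
    exact mul_ne_zero (hs m) (mul_ne_zero (hs m') h2) h1
  exact Cfsg.Agent.Lib.Helper25.O9.o9d3q3_stab w g
    (Equiv.ofBijective φ (Finite.injective_iff_bijective.1 hinj)) s hs hφ

end Cfsg.Agent.Lib.Helper15.TX2S
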