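import Mathlib
import Cfsg.Agent.Lib.helper8.OME.Defs
import Cfsg.Agent.Lib.helper23.ONECNTcore

set_option autoImplicit false
set_option linter.unusedVariables false
set_option linter.unusedSectionVars false

namespace Cfsg.Agent.Lib.helper8.OME

open Polynomial Module Cfsg.Agent.Lib.Helper13.S5955 Cfsg.Agent.Lib.helper15.S5972
  Cfsg.Agent.Lib.Helper18.OPE

theorem omecntpm_finite_sub {F : Type*} [Field F] [Fintype F] (d : ℕ) :
    Finite (Submodule F (MI d → F)) :=
  Finite.of_injective (fun W : Submodule F (MI d → F) =>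
    (W : Set (MI d → F))) SetLike.coe_injective

theorem omecntpm_core {F : Type*} [Field F] [Fintype F] {p : ℕ} [Fact p.Prime] [CharP F p]
    (d h : ℕ) (a b : F) (r : ℕ) [Fact r.Prime] (hrp : r ≠ p) (i : ℕ)
    (hCP1 : ∃ N : ℕ, 0 < N ∧ ∀ W : HYPm d (2 * h) F a b,
      Nat.card {U : Submodule F (MI d → F) //
        U ≤ W.1 ∧ Module.finrank F ↥U = h ∧
          ∀ u ∈ U, Cfsg.quadFormMinus (d - 1) F a b u = 0} = N)
    (hCP2 : ∀ U : Submodule F (MI d → F), Module.finrank F ↥U = h →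
      (∀ u ∈ U, Cfsg.quadFormMinus (d - 1) F a b u = 0) →
      Nat.card {W : HYPm d (2 * h) F a b // U ≤ W.1} = Fintype.card F ^ (h * (2 * d - 2 * h)))
    (hTS : r ∣ Nat.card (TSm d h F a b) → CHm i d h)
    (hr : r ∣ Nat.card (HYPm d (2 * h) F a b)) : CHm i d h := by
  classical
  have hfin := omecntpm_finite_sub (F := F) d
  obtain ⟨N, -, hN⟩ := hCP1
  have hN' : ∀ W : HYPm d (2 * h) F a b,
      Nat.card {U : TSm d h F a b // U.1 ≤ W.1} = N := by
    intro W
    rw [← hN W]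
    refine Nat.card_congr
      { toFun := fun U => ⟨U.1.1, U.2, U.1.2.1, U.1.2.2⟩
        invFun := fun U => ⟨⟨U.1, U.2.2.1, U.2.2.2⟩, U.2.1⟩
        left_inv := fun _ => rfl
        right_inv := fun _ => rfl }
  have hK : ∀ U : TSm d h F a b,
      1 * Nat.card {W : HYPm d (2 * h) F a b // U.1 ≤ W.1} =
      Fintype.card F ^ (h * (2 * d - 2 * h)) := by
    intro U
    rw [one_mul]
    exact hCP2 U.1 U.2.1 U.2.2
  have hdc := Cfsg.Agent.Lib.Helper18.ONE.onecnt_double
    (fun (W : HYPm d (2 * h) F a b) (U : TSm d h F a b) => U.1 ≤ W.1) N 1 _ hN' hK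
  rw [one_mul] at hdc
  have h1 : r ∣ Nat.card (TSm d h F a b) *
      Fintype.card F ^ (h * (2 * d - 2 * h)) := by
    rw [← hdc]
    exact Dvd.dvd.mul_right hr N
  exact hTS (Cfsg.Agent.Lib.Helper18.ONE.onecnt_prime_dvd r hrp _ _ h1)

end Cfsg.Agent.Lib.helper8.OME
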