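import Mathlib
import Cfsg.Agent.Lib.helper8.OME.Defs
import Cfsg.Agent.Lib.Helper24.OMECNTPMcore
import Cfsg.Agent.Lib.Helper1.OMECP1M
import Cfsg.Agent.Lib.Helper1.OMECP2M
import Cfsg.Agent.Lib.Helper9.OMETSCNTM

set_option autoImplicit false
set_option linter.unusedVariables false
set_option linter.unusedSectionVars false

namespace Cfsg.Agent.Lib.helper8.OME

open Polynomial Module Cfsg.Agent.Lib.Helper13.S5955 Cfsg.Agent.Lib.helper15.S5972
  Cfsg.Agent.Lib.Helper18.OPE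

theorem ome_hyp_count_ch {F : Type*} [Field F] [Fintype F] {p : ℕ} [Fact p.Prime] [CharP F p]
    (d h : ℕ) (hh : h + 1 ≤ d) (a b : F)
    (hab : ∀ x y : F, x ^ 2 + a * x * y + b * y ^ 2 = 0 → x = 0 ∧ y = 0)
    (r : ℕ) [Fact r.Prime] (hrp : r ≠ p) (hr2 : r ≠ 2)
    (i : ℕ) (hi : i = orderOf ((Fintype.card F : ℕ) : ZMod r))
    (hr : r ∣ Nat.card (HYPm d (2 * h) F a b)) : CHm i d h :=
  omecntpm_core (p := p) d h a b r hrp i (ome_hyp_ts_const d h a b)
    (fun U hU hUs => ome_ts_ext_count d h (by omega) (by omega) a b hab U hU hUs)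
    (fun hdvd => ome_ts_count_ch (p := p) d h hh a b hab r hr2 i hi hdvd) hr

end Cfsg.Agent.Lib.helper8.OME
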