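import Mathlib
import Cfsg.Agent.Lib.Helper9.A2S.Defs

set_option autoImplicit false

namespace Cfsg.Agent.Lib.Helper9.A2S

theorem a2sAB3_central_elt {G : Type*} [Group G] [Finite G] (p : ℕ) [Fact p.Prime]
    (hG : IsPGroup p G) (A B : Subgroup G) (hA : A ≠ ⊥)
    (hcomm : ∀ a ∈ A, ∀ b ∈ B, a * b = b * a) (hsup : A ⊔ B = ⊤) :
    ∃ a ∈ A, a ≠ 1 ∧ a ∈ Subgroup.center G := by
  have hAp : IsPGroup p A := hG.to_subgroup A
  have : Nontrivial A := (Subgroup.nontrivial_iff_ne_bot A).mpr hA
  have := hAp.center_nontrivial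
  obtain ⟨c, hc⟩ := exists_ne (1 : Subgroup.center A)
  refine ⟨((c : A) : G), (c : A).2, ?_, ?_⟩
  · intro h
    apply hc
    apply Subtype.ext
    apply Subtype.ext
    simpa using h
  · have hcA : ∀ a ∈ A, a * ((c : A) : G) = ((c : A) : G) * a := by
      intro a ha
      have := (Subgroup.mem_center_iff.mp c.2) ⟨a, ha⟩
      exact congrArg Subtype.val this
    have hle : A ⊔ B ≤ Subgroup.centralizer {((c : A) : G)} := by
      refine sup_le ?_ ?_
      · intro a ha
        rw [Subgroup.mem_centralizer_iff]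
        intro h hh
        rw [Set.mem_singleton_iff] at hh
        subst hh
        exact (hcA a ha).symm
      · intro b hb
        rw [Subgroup.mem_centralizer_iff]
        intro h hh
        rw [Set.mem_singleton_iff] at hh
        subst hh
        exact hcomm _ (c : A).2 b hb
    rw [hsup] at hle
    rw [Subgroup.mem_center_iff]
    intro g
    have := hle (Subgroup.mem_top g)
    rw [Subgroup.mem_centralizer_iff] at this
    exact (this _ rfl).symm

theorem not_gdecomp_of_center {G : Type*} [Group G] [Finite G] (p : ℕ) [Fact p.Prime]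
    (hG : IsPGroup p G) (z : G) (hz : ∀ c ∈ Subgroup.center G, c = 1 ∨ c = z) : ¬ GDecomp G := by
  rintro ⟨A, B, hA, hB, hcomm, hinf, hsup⟩
  obtain ⟨a, haA, ha1, hac⟩ := a2sAB3_central_elt p hG A B hA hcomm hsup
  obtain ⟨b, hbB, hb1, hbc⟩ := a2sAB3_central_elt p hG B A hB
    (fun b hb a ha => (hcomm a ha b hb).symm) (by rw [sup_comm]; exact hsup)
  have haz : a = z := (hz a hac).resolve_left ha1
  have hbz : b = z := (hz b hbc).resolve_left hb1
  have : a ∈ A ⊓ B := ⟨haA, by rw [haz, ← hbz]; exact hbB⟩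
  rw [hinf, Subgroup.mem_bot] at this
  exact ha1 this

end Cfsg.Agent.Lib.Helper9.A2S
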