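import Mathlib
import Cfsg.Agent.Lib.Helper9.A2S.Defs

set_option autoImplicit false

namespace Cfsg.Agent.Lib.Helper9.A2S

theorem a2sAB5_normal {H : Type*} [Group H] (A B : Subgroup H)
    (hcomm : ∀ a ∈ A, ∀ b ∈ B, a * b = b * a) (hsup : A ⊔ B = ⊤) : A.Normal := by
  have hle : A ⊔ B ≤ Subgroup.normalizer (A : Set H) := by
    refine sup_le Subgroup.le_normalizer ?_
    intro b hb
    rw [Subgroup.mem_normalizer_iff]
    intro a
    constructor
    · intro ha
      have : b * a * b⁻¹ = a := by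
        rw [← hcomm a ha b hb, mul_assoc, mul_inv_cancel, mul_one]
      rw [this]; exact ha
    · intro ha
      have h1 : b⁻¹ * (b * a * b⁻¹) * b = a := by group
      have h2 : b⁻¹ * (b * a * b⁻¹) * b = b * a * b⁻¹ := by
        have := hcomm _ ha b hb
        calc b⁻¹ * (b * a * b⁻¹) * b = b⁻¹ * ((b * a * b⁻¹) * b) := by group
          _ = b⁻¹ * (b * (b * a * b⁻¹)) := by rw [this]
          _ = b * a * b⁻¹ := by group
      rw [← h1, h2]; exact ha
  rw [hsup] at hle
  exact Subgroup.normalizer_eq_top_iff.mp (top_le_iff.mp hle)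

theorem a2sAB5_gen {H : Type*} [Group H] (p : ℕ) [Fact p.Prime] (x : H) (k : ℕ)
    (hx : orderOf x = p ^ k) (s : ℤ) (hs : ¬ (p : ℤ) ∣ s) : x ∈ Subgroup.zpowers (x ^ s) := by
  have hp : Prime (p : ℤ) := Nat.prime_iff_prime_int.mp (Fact.out : p.Prime)
  have hcop : IsCoprime s ((p : ℤ) ^ k) :=
    IsCoprime.pow_right ((hp.coprime_iff_not_dvd.mpr hs).symm)
  obtain ⟨u, v, huv⟩ := hcop
  refine ⟨u, ?_⟩
  show (x ^ s) ^ u = x
  have h1 : x ^ ((p : ℤ) ^ k) = 1 := by
    have : ((p : ℤ) ^ k) = ((p ^ k : ℕ) : ℤ) := by push_cast; rfl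
    rw [this, zpow_natCast, ← hx, pow_orderOf_eq_one]
  calc (x ^ s) ^ u = x ^ (u * s) := by rw [← zpow_mul, mul_comm]
    _ = x ^ (u * s) * (x ^ ((p : ℤ) ^ k)) ^ v := by rw [h1, one_zpow, mul_one]
    _ = x ^ (u * s + v * (p : ℤ) ^ k) := by rw [← zpow_mul, ← zpow_add, mul_comm ((p : ℤ) ^ k) v]
    _ = x := by rw [huv, zpow_one]

theorem a2sAB5_le {H : Type*} [Group H] (x : H)
    (hC : ∀ y : H, y * x = x * y → y ∈ Subgroup.zpowers x)
    (A B : Subgroup H) (hcomm : ∀ a ∈ A, ∀ b ∈ B, a * b = b * a) (hxA : x ∈ A) : B ≤ A := by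
  intro b hb
  have h1 : b ∈ Subgroup.zpowers x := hC b (hcomm x hxA b hb).symm
  exact (Subgroup.zpowers_le.mpr hxA) h1

theorem comm_prod_top {H : Type*} [Group H] (p : ℕ) [Fact p.Prime] (x : H)
    (hx : ∃ k : ℕ, orderOf x = p ^ k)
    (hC : ∀ y : H, y * x = x * y → y ∈ Subgroup.zpowers x)
    (A B : Subgroup H) (hcomm : ∀ a ∈ A, ∀ b ∈ B, a * b = b * a) (hsup : A ⊔ B = ⊤) :
    A = ⊤ ∨ B = ⊤ := by
  obtain ⟨k, hk⟩ := hx
  by_cases hk0 : k = 0
  · left
    subst hk0
    have hx1 : x = 1 := by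
      have : orderOf x = 1 := by rw [hk, pow_zero]
      exact orderOf_eq_one_iff.mp this
    have htriv : ∀ y : H, y = 1 := by
      intro y
      have := hC y (by rw [hx1, mul_one, one_mul])
      rw [hx1, Subgroup.zpowers_one_eq_bot, Subgroup.mem_bot] at this
      exact this
    ext y
    rw [htriv y]
    exact ⟨fun _ => Subgroup.mem_top _, fun _ => Subgroup.one_mem _⟩
  have := a2sAB5_normal A B hcomm hsup
  have hxm : x ∈ A ⊔ B := by rw [hsup]; exact Subgroup.mem_top x
  obtain ⟨a, ha, b, hb, hab⟩ := Subgroup.mem_sup_of_normal_left.mp hxm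
  have hba : a * b = b * a := hcomm a ha b hb
  have hax : a * x = x * a := by
    rw [← hab]
    calc a * (a * b) = a * (b * a) := by rw [hba]
      _ = a * b * a := by rw [mul_assoc]
  have hbx : b * x = x * b := by
    rw [← hab]
    calc b * (a * b) = (b * a) * b := by rw [mul_assoc]
      _ = a * b * b := by rw [← hba]
  obtain ⟨s, hs⟩ := hC a hax
  obtain ⟨t, ht⟩ := hC b hbx
  have hs' : x ^ s = a := hs
  have ht' : x ^ t = b := ht
  have hcomplete : ∀ (A' B' : Subgroup H), (∀ a ∈ A', ∀ b ∈ B', a * b = b * a) → A' ⊔ B' = ⊤ →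
      x ∈ A' → A' = ⊤ := by
    intro A' B' hc' hs' hxA'
    have hle := a2sAB5_le x hC A' B' hc' hxA'
    rw [← hs']
    exact (sup_eq_left.mpr hle).symm
  by_cases hps : (p : ℤ) ∣ s
  · by_cases hpt : (p : ℤ) ∣ t
    · exfalso
      have h1 : x ^ (s + t - 1) = 1 := by
        rw [sub_eq_add_neg, zpow_add, zpow_add, hs', ht', hab, zpow_neg, zpow_one, mul_inv_cancel]
      have h2 : ((orderOf x : ℕ) : ℤ) ∣ s + t - 1 := orderOf_dvd_iff_zpow_eq_one.mpr h1
      rw [hk] at h2
      have hpk : (p : ℤ) ∣ ((p ^ k : ℕ) : ℤ) := by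
        push_cast
        exact dvd_pow_self _ hk0
      have h3 : (p : ℤ) ∣ s + t - 1 := dvd_trans hpk h2
      have h4 : (p : ℤ) ∣ 1 := by
        have := dvd_sub (dvd_add hps hpt) h3
        simpa using this
      have := Int.le_of_dvd one_pos h4
      have h2 := (Nat.Prime.two_le (Fact.out : p.Prime))
      omega
    · right
      have hxB : x ∈ B := by
        have := a2sAB5_gen p x k hk t hpt
        rw [ht'] at this
        exact (Subgroup.zpowers_le.mpr hb) this
      exact hcomplete B A (fun b hb a ha => (hcomm a ha b hb).symm) (by rw [sup_comm]; exact hsup) hxB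
  · left
    have hxA : x ∈ A := by
      have := a2sAB5_gen p x k hk s hps
      rw [hs'] at this
      exact (Subgroup.zpowers_le.mpr ha) this
    exact hcomplete A B hcomm hsup hxA

end Cfsg.Agent.Lib.Helper9.A2S
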