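import Mathlib
import Cfsg.Agent.Lib.helper8.A7R.Defs
import Cfsg.Agent.Lib.helper8.SylowBasic
import Cfsg.Agent.Lib.helper8.Burnside
import Cfsg.Agent.Lib.helper8.CountOrder
import Cfsg.Agent.S1003

set_option autoImplicit false
set_option linter.unusedVariables false
set_option linter.style.haveILetI false

namespace Cfsg.Agent.Lib.helper8.A7R

open Subgroup
open Cfsg.Agent.Lib.helper8

universe u

variable {G : Type u} [Group G]

theorem a7rb04_sylow_le_cent [Finite G] (s m : ℕ) [hs : Fact s.Prime]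
    (hG : Nat.card G = s ^ 1 * m) (hm : ¬ s ∣ m) (S : Sylow s G) :
    (S : Subgroup G) ≤ centralizer ((S : Subgroup G) : Set G) := by
  have hSc : Nat.card (S : Subgroup G) = s := by
    have := h8_sylow_card s 1 m hG hm S
    rwa [pow_one] at this
  haveI : IsCyclic (S : Subgroup G) := isCyclic_of_prime_card hSc
  intro x hx
  rw [mem_centralizer_iff]
  intro y hy
  have := (IsCyclic.isMulCommutative (α := (S : Subgroup G))).is_comm.comm ⟨y, hy⟩ ⟨x, hx⟩
  exact congrArg Subtype.val this

theorem a7rb04_cz_eq [Finite G] (s m : ℕ) [hs : Fact s.Prime]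
    (hG : Nat.card G = s ^ 1 * m) (hm : ¬ s ∣ m) (z : G) (hz : orderOf z = s) :
    ∃ S : Sylow s G, zpowers z = (S : Subgroup G) ∧
      Cz z = centralizer ((S : Subgroup G) : Set G) := by
  have hpg : IsPGroup s (zpowers z) :=
    IsPGroup.of_card (n := 1) (by rw [Nat.card_zpowers, hz, pow_one])
  obtain ⟨S, hS⟩ := hpg.exists_le_sylow
  have hSc : Nat.card (S : Subgroup G) = s := by
    have := h8_sylow_card s 1 m hG hm S
    rwa [pow_one] at this
  have hSe : zpowers z = (S : Subgroup G) :=
    eq_of_le_of_card_ge hS (by rw [Nat.card_zpowers, hz, hSc])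
  refine ⟨S, hSe, ?_⟩
  show centralizer ({z} : Set G) = centralizer ((S : Subgroup G) : Set G)
  rw [← hSe, zpowers_eq_closure, centralizer_closure]

theorem a7rb04_selfc [Finite G] (s m : ℕ) [hs : Fact s.Prime]
    (hG : Nat.card G = s ^ 1 * m) (hm : ¬ s ∣ m)
    (hC : ∀ S : Sylow s G, Nat.card (centralizer ((S : Subgroup G) : Set G)) = s) : SelfC G s := by
  intro z hz
  obtain ⟨S, hSe, hCz⟩ := a7rb04_cz_eq s m hG hm z hz
  symm
  apply eq_of_le_of_card_ge
  · rw [zpowers_le]
    show z ∈ centralizer ({z} : Set G)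
    rw [mem_centralizer_iff]
    intro y hy
    rw [Set.mem_singleton_iff] at hy
    rw [hy]
  · rw [hCz, hC S, Nat.card_zpowers, hz]

theorem stage1 (hS : Std G) (h8 : Nat.card (Sylow 7 G) ≠ 8) (h15 : Nat.card (Sylow 7 G) ≠ 15)
    (h36 : Nat.card (Sylow 7 G) ≠ 36) : St1 G := by
  haveI := hS.finite
  haveI := hS.simple
  haveI : Fact (Nat.Prime 7) := ⟨by norm_num⟩
  have hG7 : Nat.card G = 7 ^ 1 * 360 := by rw [hS.card]; norm_num
  have hmem := h8_nsylow_mem 7 1 360 hG7 (by norm_num)
  have hne1 := h8_simple_nsylow_ne_one 7 1 360 hG7 (by norm_num) one_pos (by norm_num)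
  have hset : (Nat.divisors 360).filter (fun d => d % 7 = 1) = {1, 8, 15, 36, 120} := by decide
  rw [hset] at hmem
  simp only [Finset.mem_insert, Finset.mem_singleton] at hmem
  have hn : Nat.card (Sylow 7 G) = 120 := by
    rcases hmem with h | h | h | h | h
    · exact absurd h hne1
    · exact absurd h h8
    · exact absurd h h15
    · exact absurd h h36
    · exact h
  have hC : ∀ S : Sylow 7 G, Nat.card (centralizer ((S : Subgroup G) : Set G)) = 7 := by
    intro S
    obtain ⟨e1, e2, e3⟩ := Cfsg.Agent.S1003.cent_card 7 360 hG7 (by norm_num) (by norm_num) S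
    rw [hS.card, hn] at e1
    obtain ⟨d, hd⟩ : ∃ d, d = (centralizer ((S : Subgroup G) : Set G)).relIndex
        (normalizer ((S : Subgroup G) : Set G)) := ⟨_, rfl⟩
    rw [← hd] at e1 e2 e3
    have h7 : 7 ∣ Nat.card (centralizer ((S : Subgroup G) : Set G)) := by
      have := Subgroup.card_dvd_of_le (a7rb04_sylow_le_cent 7 360 hG7 (by norm_num) S)
      have hSc := h8_sylow_card 7 1 360 hG7 (by norm_num) S
      rw [pow_one] at hSc
      rwa [hSc] at this
    obtain ⟨c, hc⟩ := h7
    rw [hc] at e1 ⊢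
    have hd6 : d ≤ 6 := Nat.le_of_dvd (by norm_num) e3
    have hcd : c * d = 3 := by nlinarith
    have hdpos : 0 < d := by
      rcases Nat.eq_zero_or_pos d with h0 | h0
      · rw [h0, mul_zero] at hcd
        omega
      · exact h0
    interval_cases d
    · exact absurd rfl e2
    · omega
    · omega
    · omega
    · omega
    · omega
  refine ⟨a7rb04_selfc 7 360 hG7 (by norm_num) hC, hn, ?_⟩
  have hG : Nat.card G = 7 * 360 := by rw [hS.card]
  have := h8_card_orderOf_eq_prime 7 360 hG (by norm_num)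
  unfold cnt
  rw [this, hn]

end Cfsg.Agent.Lib.helper8.A7R
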