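import Mathlib
import Cfsg.Agent.Lib.helper8.A7R.Defs
import Cfsg.Agent.Lib.helper8.SylowBasic
import Cfsg.Agent.Lib.helper8.Burnside
import Cfsg.Agent.Lib.helper8.CountOrder
import Cfsg.Agent.Lib.helper8.SimpleEmbed
import Cfsg.Agent.Lib.Helper24.A7RB04
import Cfsg.Agent.S1003
import Cfsg.Agent.S1010

set_option autoImplicit false
set_option linter.unusedVariables false
set_option linter.style.haveILetI false

namespace Cfsg.Agent.Lib.helper8.A7R

open Subgroup
open Cfsg.Agent.Lib.helper8

universe u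

variable {G : Type u} [Group G]

theorem a7rb05_mem_cz_pow (g : G) (k : ℕ) : g ∈ Cz (g ^ k) := by
  show g ∈ centralizer ({g ^ k} : Set G)
  rw [mem_centralizer_iff]
  intro y hy
  rw [Set.mem_singleton_iff] at hy
  rw [hy, ← pow_succ, ← pow_succ']

theorem a7rb05_no7 [Finite G] (hS : Std G) (h1 : St1 G) (S : Sylow 5 G)
    (h7 : 7 ∣ Nat.card (centralizer ((S : Subgroup G) : Set G))) : False := by
  haveI : Fact (Nat.Prime 5) := ⟨by norm_num⟩
  haveI : Fact (Nat.Prime 7) := ⟨by norm_num⟩
  have hG5 : Nat.card G = 5 ^ 1 * 504 := by rw [hS.card]; norm_num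
  obtain ⟨x, hx⟩ := exists_prime_orderOf_dvd_card' 7 h7
  have hx' : orderOf (x : G) = 7 := by rw [Subgroup.orderOf_coe]; exact hx
  have hSc : Nat.card (S : Subgroup G) = 5 := by
    have := h8_sylow_card 5 1 504 hG5 (by norm_num) S
    rwa [pow_one] at this
  have h5 : 5 ∣ Nat.card (S : Subgroup G) := by rw [hSc]
  obtain ⟨y, hy⟩ := exists_prime_orderOf_dvd_card' 5 h5
  have hy' : orderOf (y : G) = 5 := by rw [Subgroup.orderOf_coe]; exact hy
  have hyx : (y : G) ∈ Cz (x : G) := by
    show (y : G) ∈ centralizer ({(x : G)} : Set G)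
    rw [mem_centralizer_iff]
    intro z hz
    rw [Set.mem_singleton_iff] at hz
    rw [hz]
    exact (mem_centralizer_iff.mp x.2 (y : G) y.2).symm
  rw [h1.selfc7 (x : G) hx'] at hyx
  have hd : orderOf (y : G) ∣ Nat.card (zpowers (x : G)) := Subgroup.orderOf_dvd_natCard _ hyx
  rw [Nat.card_zpowers, hx', hy'] at hd
  norm_num at hd

theorem stage2_five (hS : Std G) (h1 : St1 G) :
    Nat.card (Sylow 5 G) = 126 ∧ NoOrd G 15 ∧ NoOrd G 20 ∧ cnt G 5 = 504 := by
  haveI := hS.finite
  haveI := hS.simple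
  haveI : Fact (Nat.Prime 5) := ⟨by norm_num⟩
  have hG5 : Nat.card G = 5 ^ 1 * 504 := by rw [hS.card]; norm_num
  have hmem := h8_nsylow_mem 5 1 504 hG5 (by norm_num)
  have hne1 := h8_simple_nsylow_ne_one 5 1 504 hG5 (by norm_num) one_pos (by norm_num)
  have hset : (Nat.divisors 504).filter (fun d => d % 5 = 1) = {1, 6, 21, 36, 56, 126} := by decide
  rw [hset] at hmem
  simp only [Finset.mem_insert, Finset.mem_singleton] at hmem
  have hnc : ¬ IsMulCommutative G := h8_not_comm_of_card (by rw [hS.card]; norm_num)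
  obtain ⟨S₀⟩ : Nonempty (Sylow 5 G) := inferInstance
  have hkey : ∀ S : Sylow 5 G, ∃ c d : ℕ, c = Nat.card (centralizer ((S : Subgroup G) : Set G)) ∧
      c * d * Nat.card (Sylow 5 G) = 2520 ∧ d ≠ 1 ∧ d ∣ 4 := by
    intro S
    obtain ⟨e1, e2, e3⟩ := Cfsg.Agent.S1003.cent_card 5 504 hG5 (by norm_num) (by norm_num) S
    rw [hS.card] at e1
    exact ⟨_, _, rfl, e1, e2, e3⟩
  have hn : Nat.card (Sylow 5 G) = 126 := by
    rcases hmem with h | h | h | h | h | h
    · exact absurd h hne1
    · exfalso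
      have hN : normalizer ((S₀ : Subgroup G) : Set G) ≠ ⊤ := by
        intro htop
        have := h8_nsylow_eq_index_normalizer 5 S₀
        rw [htop, Subgroup.index_top] at this
        exact hne1 this
      have hdvd := h8_simple_two_mul_card_dvd_factorial hnc _ hN
      rw [← h8_nsylow_eq_index_normalizer 5 S₀, h, hS.card] at hdvd
      norm_num [Nat.factorial] at hdvd
    · exact absurd h Cfsg.Agent.S1010.result
    · exfalso
      obtain ⟨c, d, hc, e1, e2, e3⟩ := hkey S₀
      rw [h] at e1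
      have hd4 : d ≤ 4 := Nat.le_of_dvd (by norm_num) e3
      have hcd : c * d = 70 := by nlinarith
      have h7 : 7 ∣ c := by
        interval_cases d
        · omega
        · exact absurd rfl e2
        · omega
        · norm_num at e3
        · omega
      rw [hc] at h7
      exact a7rb05_no7 hS h1 S₀ h7
    · exfalso
      obtain ⟨c, d, hc, e1, e2, e3⟩ := hkey S₀
      rw [h] at e1
      have hd4 : d ≤ 4 := Nat.le_of_dvd (by norm_num) e3
      have hcd : c * d = 45 := by nlinarith
      interval_cases d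
      · omega
      · exact absurd rfl e2
      · omega
      · norm_num at e3
      · omega
    · exact h
  have hC10 : ∀ S : Sylow 5 G, Nat.card (centralizer ((S : Subgroup G) : Set G)) ∣ 10 := by
    intro S
    obtain ⟨c, d, hc, e1, e2, e3⟩ := hkey S
    rw [hn] at e1
    have hd4 : d ≤ 4 := Nat.le_of_dvd (by norm_num) e3
    have hcd : c * d = 20 := by nlinarith
    rw [← hc]
    interval_cases d
    · omega
    · exact absurd rfl e2
    · exact ⟨1, by omega⟩
    · norm_num at e3
    · exact ⟨2, by omega⟩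
  have hno : ∀ (n k : ℕ), n = 5 * k → ¬ n ∣ 10 → ∀ g : G, orderOf g ≠ n := by
    intro n k hnk hnd g hg
    have hk0 : 0 < k := by
      rcases Nat.eq_zero_or_pos k with h0 | h0
      · exfalso
        rw [h0, mul_zero] at hnk
        have hpos := orderOf_pos g
        omega
      · exact h0
    have hy : orderOf (g ^ k) = 5 := by
      rw [orderOf_pow' g hk0.ne', hg, hnk, Nat.gcd_mul_left_left, Nat.mul_div_cancel _ hk0]
    obtain ⟨S, hSe, hCz⟩ := a7rb04_cz_eq 5 504 hG5 (by norm_num) (g ^ k) hy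
    have hmemg : g ∈ Cz (g ^ k) := a7rb05_mem_cz_pow g k
    have hd : orderOf g ∣ Nat.card (Cz (g ^ k)) := Subgroup.orderOf_dvd_natCard _ hmemg
    rw [hCz, hg] at hd
    exact hnd (dvd_trans hd (hC10 S))
  refine ⟨hn, hno 15 3 (by norm_num) (by norm_num), hno 20 4 (by norm_num) (by norm_num), ?_⟩
  have hG : Nat.card G = 5 * 504 := by rw [hS.card]
  have := h8_card_orderOf_eq_prime 5 504 hG (by norm_num)
  unfold cnt
  rw [this, hn]

end Cfsg.Agent.Lib.helper8.A7R
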