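import Mathlib
import Cfsg.Agent.Lib.helper8.A7R.Defs
import Cfsg.Agent.Lib.helper8.SylowBasic
import Cfsg.Agent.Lib.helper8.SylowConj
import Cfsg.Agent.Lib.helper8.Burnside
import Cfsg.Agent.Lib.helper8.CountOrder
import Cfsg.Agent.Lib.Helper24.A7RB04
import Cfsg.Agent.Lib.Helper24.A7RB05
import Cfsg.Agent.S1003

set_option autoImplicit false
set_option linter.unusedVariables false
set_option linter.style.haveILetI false

namespace Cfsg.Agent.Lib.helper8.A7R

open Subgroup
open Cfsg.Agent.Lib.helper8

universe u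

variable {G : Type u} [Group G]

theorem a7rb14_card_cent_smul [Finite G] (p : ℕ) [Fact p.Prime] (g : G) (S : Sylow p G) :
    Nat.card (centralizer (((g • S : Sylow p G) : Subgroup G) : Set G)) =
      Nat.card (centralizer ((S : Subgroup G) : Set G)) := by
  apply Nat.card_congr
  refine ⟨fun x => ⟨g⁻¹ * x.1 * g, ?_⟩, fun x => ⟨g * x.1 * g⁻¹, ?_⟩, ?_, ?_⟩
  · rw [mem_centralizer_iff]
    intro s hs
    have hy : g * s * g⁻¹ ∈ ((g • S : Sylow p G) : Subgroup G) := by
      rw [h8_mem_smul_sylow]
      have : g⁻¹ * (g * s * g⁻¹) * g = s := by group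
      rw [this]
      exact hs
    have e := (mem_centralizer_iff.mp x.2) (g * s * g⁻¹) hy
    have e1 : s * (g⁻¹ * x.1 * g) = g⁻¹ * (g * s * g⁻¹ * x.1) * g := by group
    rw [e1, e]
    group
  · rw [mem_centralizer_iff]
    intro y hy
    have hs : g⁻¹ * y * g ∈ (S : Subgroup G) := (h8_mem_smul_sylow p g y S).mp hy
    have e := (mem_centralizer_iff.mp x.2) (g⁻¹ * y * g) hs
    have e1 : y * (g * x.1 * g⁻¹) = g * (g⁻¹ * y * g * x.1) * g⁻¹ := by group
    rw [e1, e]
    group
  · intro x
    apply Subtype.ext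
    show g * (g⁻¹ * x.1 * g) * g⁻¹ = x.1
    group
  · intro x
    apply Subtype.ext
    show g⁻¹ * (g * x.1 * g⁻¹) * g = x.1
    group

theorem a7rb14_card_cent_const [Finite G] (p : ℕ) [Fact p.Prime] (S S' : Sylow p G) :
    Nat.card (centralizer ((S' : Subgroup G) : Set G)) =
      Nat.card (centralizer ((S : Subgroup G) : Set G)) := by
  obtain ⟨g, hg⟩ := MulAction.exists_smul_eq G S S'
  rw [← hg]
  exact a7rb14_card_cent_smul p g S

theorem a7rb14_cyclic10 [Finite G] (hS : Std G) (S : Sylow 5 G)
    (h10 : Nat.card (centralizer ((S : Subgroup G) : Set G)) = 10) :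
    IsCyclic ↥(centralizer ((S : Subgroup G) : Set G)) := by
  haveI : Fact (Nat.Prime 5) := ⟨by norm_num⟩
  haveI : Fact (Nat.Prime 2) := ⟨Nat.prime_two⟩
  have hG5 : Nat.card G = 5 ^ 1 * 504 := by rw [hS.card]; norm_num
  have hSc : Nat.card (S : Subgroup G) = 5 := by
    have := h8_sylow_card 5 1 504 hG5 (by norm_num) S
    rwa [pow_one] at this
  have hle := a7rb04_sylow_le_cent 5 504 hG5 (by norm_num) S
  obtain ⟨t, ht⟩ := exists_prime_orderOf_dvd_card' (G := ↥(centralizer ((S : Subgroup G) : Set G))) 2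
    (by rw [h10]; norm_num)
  obtain ⟨y, hy⟩ := exists_prime_orderOf_dvd_card' (G := ↥(S : Subgroup G)) 5 (by rw [hSc])
  let y' : ↥(centralizer ((S : Subgroup G) : Set G)) := ⟨y.1, hle y.2⟩
  have hy' : orderOf y' = 5 := by
    rw [← Subgroup.orderOf_coe]
    show orderOf (y : G) = 5
    rw [Subgroup.orderOf_coe]
    exact hy
  have hcomm : Commute t y' := by
    apply Subtype.ext
    show (t : G) * (y : G) = (y : G) * (t : G)
    exact ((mem_centralizer_iff.mp t.2) (y : G) y.2).symm
  have hord : orderOf (t * y') = 2 * 5 :=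
    hcomm.orderOf_mul_eq_mul_orderOf_of_coprime (by rw [ht, hy']; norm_num) |>.trans (by rw [ht, hy'])
  exact isCyclic_of_orderOf_eq_card (t * y') (by rw [hord, h10])

theorem a7rb14_card10 [Finite G] (hS : Std G) (S : Sylow 5 G)
    (h10 : Nat.card (centralizer ((S : Subgroup G) : Set G)) = 10) :
    Nat.card {x : ↥(centralizer ((S : Subgroup G) : Set G)) // orderOf x = 10} = 4 := by
  classical
  haveI := a7rb14_cyclic10 hS S h10
  haveI : Fintype ↥(centralizer ((S : Subgroup G) : Set G)) := Fintype.ofFinite _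
  have hc : Fintype.card ↥(centralizer ((S : Subgroup G) : Set G)) = 10 := by
    rw [← Nat.card_eq_fintype_card, h10]
  have := IsCyclic.card_orderOf_eq_totient (α := ↥(centralizer ((S : Subgroup G) : Set G)))
    (d := 10) (by rw [hc])
  rw [Nat.card_eq_fintype_card, Fintype.card_subtype, this]
  decide

theorem cnt_ten (hS : Std G) (h1 : St1 G) (h2 : St2 G) :
    (SelfC G 5 ∧ cnt G 10 = 0) ∨ (¬ SelfC G 5 ∧ cnt G 10 = 504) := by
  classical
  haveI := hS.finite
  haveI := hS.simple
  haveI : Fact (Nat.Prime 5) := ⟨by norm_num⟩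
  have hG5 : Nat.card G = 5 ^ 1 * 504 := by rw [hS.card]; norm_num
  have hfact : (Nat.card G).factorization 5 = 1 :=
    h8_factorization_of_eq 5 1 504 _ (by norm_num) hG5 (by norm_num)
  have hScard : ∀ S : Sylow 5 G, Nat.card (S : Subgroup G) = 5 := by
    intro S
    have := h8_sylow_card 5 1 504 hG5 (by norm_num) S
    rwa [pow_one] at this
  have hC : ∀ S : Sylow 5 G, Nat.card (centralizer ((S : Subgroup G) : Set G)) = 5 ∨
      Nat.card (centralizer ((S : Subgroup G) : Set G)) = 10 := by
    intro S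
    obtain ⟨e1, e2, e3⟩ := Cfsg.Agent.S1003.cent_card 5 504 hG5 (by norm_num) (by norm_num) S
    rw [hS.card, h2.syl5] at e1
    obtain ⟨d, hd⟩ : ∃ d, d = (centralizer ((S : Subgroup G) : Set G)).relIndex
        (normalizer ((S : Subgroup G) : Set G)) := ⟨_, rfl⟩
    obtain ⟨c, hc⟩ : ∃ c, c = Nat.card (centralizer ((S : Subgroup G) : Set G)) := ⟨_, rfl⟩
    rw [← hd, ← hc] at e1
    rw [← hd] at e2 e3
    rw [← hc]
    have hd4 : d ≤ 4 := Nat.le_of_dvd (by norm_num) e3
    have hcd : c * d = 20 := by nlinarith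
    interval_cases d
    · omega
    · exact absurd rfl e2
    · right
      omega
    · norm_num at e3
    · left
      omega
  obtain ⟨S₀⟩ : Nonempty (Sylow 5 G) := inferInstance
  rcases hC S₀ with h5 | h10
  · left
    have hall : ∀ S : Sylow 5 G, Nat.card (centralizer ((S : Subgroup G) : Set G)) = 5 := by
      intro S
      rw [a7rb14_card_cent_const 5 S₀ S, h5]
    have hself : SelfC G 5 := a7rb04_selfc 5 504 hG5 (by norm_num) hall
    refine ⟨hself, ?_⟩
    unfold cnt
    rw [Nat.card_eq_zero]
    left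
    refine ⟨fun g => ?_⟩
    have hk : orderOf (g.1 ^ 2) = 5 := by
      rw [orderOf_pow' g.1 (by norm_num), g.2]
      norm_num
    have hmem := a7rb05_mem_cz_pow g.1 2
    rw [hself (g.1 ^ 2) hk] at hmem
    have hd : orderOf g.1 ∣ Nat.card (zpowers (g.1 ^ 2)) := Subgroup.orderOf_dvd_natCard _ hmem
    rw [Nat.card_zpowers, hk, g.2] at hd
    norm_num at hd
  · right
    have hall : ∀ S : Sylow 5 G, Nat.card (centralizer ((S : Subgroup G) : Set G)) = 10 := by
      intro S
      rw [a7rb14_card_cent_const 5 S₀ S, h10]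
    refine ⟨?_, ?_⟩
    · intro hself
      obtain ⟨y, hy⟩ := exists_prime_orderOf_dvd_card' (G := ↥(S₀ : Subgroup G)) 5
        (by rw [hScard S₀])
      have hy' : orderOf (y : G) = 5 := by rw [Subgroup.orderOf_coe]; exact hy
      obtain ⟨S, hSe, hCz⟩ := a7rb04_cz_eq 5 504 hG5 (by norm_num) (y : G) hy'
      have h3 := hself (y : G) hy'
      have h4 : Nat.card (Cz (y : G)) = 10 := by rw [hCz, hall S]
      rw [h3, Nat.card_zpowers, hy'] at h4
      norm_num at h4
    · have hpow : ∀ g : G, orderOf g = 10 → orderOf (g ^ 2) = 5 := by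
        intro g hg
        rw [orderOf_pow' g (by norm_num), hg]
        norm_num
      have hcomm : ∀ g : G, g ∈ centralizer ((zpowers (g ^ 2) : Subgroup G) : Set G) := by
        intro g
        rw [mem_centralizer_iff]
        intro y hy
        obtain ⟨k, rfl⟩ := mem_zpowers_iff.mp hy
        rw [← zpow_natCast g 2, ← zpow_mul, ← zpow_add_one, ← zpow_one_add, add_comm]
      let e : {g : G // orderOf g = 10} ≃
          Σ S : Sylow 5 G, {x : ↥(centralizer ((S : Subgroup G) : Set G)) // orderOf x = 10} :=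
        { toFun := fun g => ⟨Sylow.ofCard (zpowers (g.1 ^ 2)) (by
              rw [Nat.card_zpowers, hpow g.1 g.2, hfact, pow_one]),
            ⟨⟨g.1, by rw [Sylow.coe_ofCard]; exact hcomm g.1⟩, by
              rw [← Subgroup.orderOf_coe]; exact g.2⟩⟩
          invFun := fun x => ⟨x.2.1.1, by
            have := x.2.2
            rw [← Subgroup.orderOf_coe] at this
            exact this⟩
          left_inv := fun g => rfl
          right_inv := fun x => by
            obtain ⟨S, ⟨⟨g, hgC⟩, hgo⟩⟩ := x
            have hgo' : orderOf g = 10 := by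
              rw [← Subgroup.orderOf_coe] at hgo
              exact hgo
            have hg2 : g ^ 2 ∈ (S : Subgroup G) := by
              apply h8_mem_sylow_of_mem_normalizer 5 S (g ^ 2) 1 (by rw [hpow g hgo', pow_one])
              exact centralizer_le_normalizer _ (Subgroup.pow_mem _ hgC 2)
            have hP : Sylow.ofCard (zpowers (g ^ 2)) (by
                rw [Nat.card_zpowers, hpow g hgo', hfact, pow_one]) = S := by
              apply Sylow.ext
              rw [Sylow.coe_ofCard]
              apply Subgroup.eq_of_le_of_card_ge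
              · rw [zpowers_le]; exact hg2
              · rw [hScard S, Nat.card_zpowers, hpow g hgo']
            simp only
            subst hP
            rfl }
      haveI : Fintype (Sylow 5 G) := Fintype.ofFinite _
      unfold cnt
      rw [Nat.card_congr e, Nat.card_sigma]
      rw [Finset.sum_congr rfl (fun S _ => a7rb14_card10 hS S (hall S))]
      rw [Finset.sum_const, Finset.card_univ, ← Nat.card_eq_fintype_card, h2.syl5]
      rfl

end Cfsg.Agent.Lib.helper8.A7R
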