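import Mathlib
import Cfsg.Agent.Lib.helper8.A7R.Defs

set_option autoImplicit false
set_option linter.unusedVariables false
set_option linter.style.haveILetI false

namespace Cfsg.Agent.Lib.helper8.A7R

open Subgroup

universe u

variable {G : Type u} [Group G]

theorem a7rb15_sum_cnt [Finite G] (S : Finset ℕ) (hord : ∀ g : G, orderOf g ∈ S) :
    ∑ d ∈ S, cnt G d = Nat.card G := by
  classical
  haveI : Fintype G := Fintype.ofFinite _
  have h1 : ∀ d, cnt G d = ((Finset.univ : Finset G).filter (fun g => orderOf g = d)).card := by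
    intro d
    unfold cnt
    rw [Nat.card_eq_fintype_card, Fintype.card_subtype]
  simp_rw [h1]
  rw [Nat.card_eq_fintype_card, ← Finset.card_univ]
  exact (Finset.card_eq_sum_card_fiberwise (fun g _ => hord g)).symm

theorem a7rb15_cnt_one : cnt G 1 = 1 := by
  unfold cnt
  rw [Nat.card_eq_one_iff_unique]
  refine ⟨⟨?_⟩, ⟨⟨1, orderOf_one⟩⟩⟩
  rintro ⟨a, ha⟩ ⟨b, hb⟩
  apply Subtype.ext
  show a = b
  rw [orderOf_eq_one_iff.mp ha, orderOf_eq_one_iff.mp hb]

theorem cnt_two (hS : Std G) (h1 : St1 G) (h2 : St2 G)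
    (hord : ∀ g : G, orderOf g ∈ ({1, 2, 4, 8, 3, 6, 5, 10, 7} : Finset ℕ))
    (h36 : cnt G 3 + cnt G 6 = 560) (h10 : cnt G 10 = 0 ∨ cnt G 10 = 504) :
    cnt G 2 + cnt G 4 + cnt G 8 + cnt G 10 = 735 := by
  haveI := hS.finite
  have hsum := a7rb15_sum_cnt ({1, 2, 4, 8, 3, 6, 5, 10, 7} : Finset ℕ) hord
  rw [Finset.sum_insert (by decide), Finset.sum_insert (by decide), Finset.sum_insert (by decide),
    Finset.sum_insert (by decide), Finset.sum_insert (by decide), Finset.sum_insert (by decide),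
    Finset.sum_insert (by decide), Finset.sum_insert (by decide), Finset.sum_singleton,
    a7rb15_cnt_one, h1.cnt7, h2.cnt5, hS.card] at hsum
  omega

end Cfsg.Agent.Lib.helper8.A7R
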