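import Mathlib
import Cfsg.Agent.Lib.helper8.A7R.Defs
import Cfsg.Agent.Lib.helper8.SylowBasic
import Cfsg.Agent.Lib.Helper24.IndexTwo

set_option autoImplicit false
set_option linter.unusedVariables false
set_option linter.style.haveILetI false

namespace Cfsg.Agent.Lib.helper8.A7R

open Subgroup
open Cfsg.Agent.Lib.helper8

universe u

variable {G : Type u} [Group G]

theorem a7rb16_no_index_two (hS : Std G) (H : Subgroup G) : H.index ≠ 2 := by
  haveI := hS.finite
  haveI := hS.simple
  intro h
  haveI : H.Normal := Subgroup.normal_of_index_eq_two h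
  rcases h8_simple_normal_eq H with h1 | h1
  · rw [h1, Subgroup.index_bot, hS.card] at h
    norm_num at h
  · rw [h1, Subgroup.index_top] at h
    norm_num at h

theorem no_eight (hS : Std G) : NoOrd G 8 := by
  haveI := hS.finite
  haveI := hS.simple
  haveI : Fact (Nat.Prime 2) := ⟨Nat.prime_two⟩
  intro g hg
  have hG2 : Nat.card G = 2 ^ 3 * 315 := by rw [hS.card]; norm_num
  have hfact : (Nat.card G).factorization 2 = 3 :=
    h8_factorization_of_eq 2 3 315 _ Nat.prime_two hG2 (by norm_num)
  let T : Sylow 2 G := Sylow.ofCard (zpowers g) (by rw [Nat.card_zpowers, hg, hfact]; norm_num)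
  have hT : IsCyclic (T : Subgroup G) := by
    show IsCyclic (zpowers g)
    infer_instance
  have heven : Even (Nat.card G) := by
    rw [hS.card]
    exact ⟨1260, by norm_num⟩
  obtain ⟨H, hH⟩ := Cfsg.Agent.Lib.Helper24.ix_cyclic_sylow heven T hT
  exact a7rb16_no_index_two hS H hH

end Cfsg.Agent.Lib.helper8.A7R
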