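import Mathlib

set_option autoImplicit false

namespace Cfsg.Agent.Lib.Helper24

open Subgroup MulAction

theorem dc_nonsplit {G : Type*} [Group G] (hZ : Nat.card (center G) = 2) (z x : G)
    (hz1 : z ≠ 1) (hzc : z ∈ center G) (hx : x * x = z) :
    ∀ L : Subgroup G, ¬ (center G).IsComplement' L := by
  intro L hL
  have hfin : Finite (center G) := Nat.finite_of_card_ne_zero (by rw [hZ]; norm_num)
  obtain ⟨⟨⟨a, ha⟩, ⟨l, hl⟩⟩, hal⟩ := hL.surjective x
  have hal' : a * l = x := hal
  have ha2 : a * a = 1 := by
    have h := pow_card_eq_one' (G := center G) (x := ⟨a, ha⟩)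
    rw [hZ] at h
    have h2 : (a : G) ^ 2 = 1 := by
      have := congrArg Subtype.val h
      simpa using this
    rwa [pow_two] at h2
  have hcomm : l * a = a * l := (Subgroup.mem_center_iff.1 ha l)
  have hzl : z = l * l := by
    rw [← hx, ← hal']
    calc a * l * (a * l) = a * (l * a) * l := by group
      _ = a * (a * l) * l := by rw [hcomm]
      _ = (a * a) * (l * l) := by group
      _ = l * l := by rw [ha2, one_mul]
  have hzL : z ∈ L := by rw [hzl]; exact L.mul_mem hl hl
  have hdisj := hL.disjoint
  have : z ∈ (center G) ⊓ L := ⟨hzc, hzL⟩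
  rw [hdisj.eq_bot] at this
  exact hz1 (Subgroup.mem_bot.1 this)

theorem dc_of_action {G : Type*} [Group G] [Finite G] {α : Type*} [MulAction G α] (x0 : α)
    (z : G) (hz1 : z ≠ 1) (hzc : z ∈ center G) (hzx : z • x0 = x0)
    (hO : Nat.card (orbit G x0) = 8) (hG : Nat.card G = 40320)
    (hK : ∀ g : G, (∀ y ∈ orbit G x0, g • y = y) → g = 1 ∨ g = z) :
    Nat.card (center G) = 2 ∧ Nonempty (G ⧸ center G ≃* alternatingGroup (Fin 8)) := by
  classical
  have hfinO : Finite (orbit G x0) := Nat.finite_of_card_ne_zero (by rw [hO]; norm_num)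
  let _ : Fintype (orbit G x0) := Fintype.ofFinite _
  let σ : G →* Equiv.Perm (orbit G x0) := MulAction.toPermHom G (orbit G x0)
  have hker : ∀ g : G, g ∈ σ.ker ↔ (g = 1 ∨ g = z) := by
    intro g
    constructor
    · intro hg
      apply hK
      intro y hy
      have h1 : σ g = 1 := MonoidHom.mem_ker.1 hg
      have h2 : σ g ⟨y, hy⟩ = ⟨y, hy⟩ := by rw [h1]; rfl
      have h3 := congrArg Subtype.val h2
      simpa [σ] using h3
    · rintro (rfl | rfl)
      · exact one_mem _
      · rw [MonoidHom.mem_ker]
        ext ⟨y, hy⟩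
        obtain ⟨h, rfl⟩ := hy
        show g • h • x0 = h • x0
        rw [smul_smul, ← Subgroup.mem_center_iff.1 hzc h, ← smul_smul, hzx]
  have hkerset : (σ.ker : Set G) = {1, z} := by
    ext g
    rw [SetLike.mem_coe, hker]
    simp
  have hkercard : Nat.card σ.ker = 2 := by
    have : Nat.card σ.ker = Nat.card ((σ.ker : Set G)) := rfl
    rw [this, hkerset, Nat.card_coe_set_eq, Set.ncard_pair (Ne.symm hz1)]
  have hrange : Nat.card σ.range = 20160 := by
    have h1 := Subgroup.card_eq_card_quotient_mul_card_subgroup σ.ker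
    rw [hG, hkercard, Nat.card_congr (QuotientGroup.quotientKerEquivRange σ).toEquiv] at h1
    omega
  have hperm : Nat.card (Equiv.Perm (orbit G x0)) = 40320 := by
    rw [Nat.card_eq_fintype_card, Fintype.card_perm, ← Nat.card_eq_fintype_card, hO]
    rfl
  have hidx : σ.range.index = 2 := by
    have := Subgroup.index_mul_card σ.range
    rw [hrange, hperm] at this
    omega
  have halt : σ.range = alternatingGroup (orbit G x0) :=
    Equiv.Perm.eq_alternatingGroup_of_index_eq_two hidx
  have hcen : center G = σ.ker := by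
    apply le_antisymm
    · intro c hc
      rw [MonoidHom.mem_ker]
      have hmem : σ c ∈ alternatingGroup (orbit G x0) := by
        rw [← halt]; exact ⟨c, rfl⟩
      have hcc : (⟨σ c, hmem⟩ : alternatingGroup (orbit G x0)) ∈
          center (alternatingGroup (orbit G x0)) := by
        rw [Subgroup.mem_center_iff]
        rintro ⟨r, hr⟩
        have hr' : r ∈ σ.range := by rw [halt]; exact hr
        obtain ⟨g, rfl⟩ := hr'
        apply Subtype.ext
        show σ g * σ c = σ c * σ g
        rw [← map_mul, ← map_mul, Subgroup.mem_center_iff.1 hc g]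
      rw [alternatingGroup.center_eq_bot (by rw [hO]; norm_num), Subgroup.mem_bot] at hcc
      exact congrArg Subtype.val hcc
    · intro g hg
      rcases (hker g).1 hg with rfl | rfl
      · exact one_mem _
      · exact hzc
  refine ⟨by rw [hcen, hkercard], ?_⟩
  have e1 : G ⧸ center G ≃* G ⧸ σ.ker := QuotientGroup.quotientMulEquivOfEq hcen
  have e2 : G ⧸ σ.ker ≃* σ.range := QuotientGroup.quotientKerEquivRange σ
  have e3 : σ.range ≃* alternatingGroup (orbit G x0) := MulEquiv.subgroupCongr halt
  have hcard : Fintype.card (orbit G x0) = 8 := by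
    rw [← Nat.card_eq_fintype_card, hO]
  have e4 : alternatingGroup (orbit G x0) ≃* alternatingGroup (Fin 8) :=
    Equiv.altCongrHom (Fintype.equivFinOfCardEq hcard)
  exact ⟨((e1.trans e2).trans e3).trans e4⟩

end Cfsg.Agent.Lib.Helper24
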