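import Cfsg.Agent.Lib.Helper24.A8Data

set_option autoImplicit false
set_option maxRecDepth 100000

namespace Cfsg.Agent.Lib.Helper24

open Cfsg.Agent.Lib.helper23

def a8C8 : List PgLvl := [a8L8]
def a8C7 : List PgLvl := a8L7 :: a8C8
def a8C6 : List PgLvl := a8L6 :: a8C7
def a8C5 : List PgLvl := a8L5 :: a8C6
def a8C4 : List PgLvl := a8L4 :: a8C5
def a8C3 : List PgLvl := a8L3 :: a8C4
def a8C2 : List PgLvl := a8L2 :: a8C3
def a8C : List PgLvl := a8L1 :: a8C2

theorem a8chk8 : pgChkLvl 248 a8L8 [] = true := by decide +kernel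
theorem a8chk7 : pgChkLvl 248 a8L7 a8C8 = true := by decide +kernel
theorem a8chk6 : pgChkLvl 248 a8L6 a8C7 = true := by decide +kernel
theorem a8chk5 : pgChkLvl 248 a8L5 a8C6 = true := by decide +kernel
theorem a8chk4 : pgChkLvl 248 a8L4 a8C5 = true := by decide +kernel
theorem a8chk3 : pgChkLvl 248 a8L3 a8C4 = true := by decide +kernel
theorem a8chk2 : pgChkLvl 248 a8L2 a8C3 = true := by decide +kernel
theorem a8chk1 : pgChkLvl 248 a8L1 a8C2 = true := by decide +kernel

end Cfsg.Agent.Lib.Helper24
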