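import Cfsg.Agent.Lib.Helper24.A8Chk
import Cfsg.Agent.Lib.Helper24.A8Abs

set_option autoImplicit false
set_option maxRecDepth 100000

namespace Cfsg.Agent.Lib.Helper24

open Cfsg.Agent.Lib.helper23 Subgroup MulAction

theorem a8chkC8 : pgChk 248 a8C8 = true := by
  simp only [a8C8, pgChk_cons, a8chk8]; rfl
theorem a8chkC7 : pgChk 248 a8C7 = true := by
  rw [a8C7, pgChk_cons, a8chkC8, a8chk7]; rfl
theorem a8chkC6 : pgChk 248 a8C6 = true := by
  rw [a8C6, pgChk_cons, a8chkC7, a8chk6]; rfl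
theorem a8chkC5 : pgChk 248 a8C5 = true := by
  rw [a8C5, pgChk_cons, a8chkC6, a8chk5]; rfl
theorem a8chkC4 : pgChk 248 a8C4 = true := by
  rw [a8C4, pgChk_cons, a8chkC5, a8chk4]; rfl
theorem a8chkC3 : pgChk 248 a8C3 = true := by
  rw [a8C3, pgChk_cons, a8chkC4, a8chk3]; rfl
theorem a8chkC2 : pgChk 248 a8C2 = true := by
  rw [a8C2, pgChk_cons, a8chkC3, a8chk2]; rfl
theorem a8chkC : pgChk 248 a8C = true := by
  rw [a8C, pgChk_cons, a8chkC2, a8chk1]; rfl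

theorem a8ord : pgOrd 248 a8C = 40320 := by decide +kernel
theorem a8ord2 : pgOrd 248 a8C2 = 5040 := by decide +kernel
theorem a8ord8 : pgOrd 248 a8C8 = 2 := by decide +kernel

theorem a8card : Nat.card (pgGrp 248 a8C) = 40320 := by
  rw [pgCard 248 a8C a8chkC, a8ord]

theorem a8card2 : Nat.card (pgGrp 248 a8C2) = 5040 := by
  rw [pgCard 248 a8C2 a8chkC2, a8ord2]

theorem a8card8 : Nat.card (pgGrp 248 a8C8) = 2 := by
  rw [pgCard 248 a8C8 a8chkC8, a8ord8]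


def a8H : Subgroup (Equiv.Perm (Fin 248)) := pgGrp 248 a8C

def a8x0 : Fin 248 := ⟨240, by norm_num⟩

def a8z : Equiv.Perm (Fin 248) := a8Z.perm 248

theorem a8ok : ∀ P ∈ pgGens a8C, P.ok 248 = true := pgChk_gens_ok 248 a8C a8chkC

theorem a8Z_ok : a8Z.ok 248 = true := by decide +kernel

theorem a8z_mem8 : a8z ∈ pgGrp 248 a8C8 := by
  apply Subgroup.subset_closure
  refine ⟨a8Z, ?_, rfl⟩
  show a8Z ∈ [a8Z] ++ []
  simp

theorem a8le87 : pgGrp 248 a8C8 ≤ pgGrp 248 a8C7 := pgGrp_mono 248 a8L7 a8C8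
theorem a8le76 : pgGrp 248 a8C7 ≤ pgGrp 248 a8C6 := pgGrp_mono 248 a8L6 a8C7
theorem a8le65 : pgGrp 248 a8C6 ≤ pgGrp 248 a8C5 := pgGrp_mono 248 a8L5 a8C6
theorem a8le54 : pgGrp 248 a8C5 ≤ pgGrp 248 a8C4 := pgGrp_mono 248 a8L4 a8C5
theorem a8le43 : pgGrp 248 a8C4 ≤ pgGrp 248 a8C3 := pgGrp_mono 248 a8L3 a8C4
theorem a8le32 : pgGrp 248 a8C3 ≤ pgGrp 248 a8C2 := pgGrp_mono 248 a8L2 a8C3
theorem a8le21 : pgGrp 248 a8C2 ≤ a8H := pgGrp_mono 248 a8L1 a8C2

theorem a8le8 : pgGrp 248 a8C8 ≤ a8H :=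
  a8le87.trans (a8le76.trans (a8le65.trans (a8le54.trans (a8le43.trans (a8le32.trans a8le21)))))

theorem a8z_mem : a8z ∈ a8H := a8le8 a8z_mem8

theorem a8z_apply (i : Fin 248) : (a8z i).1 = a8Z.f i.1 := PFun.perm_apply a8Z_ok i

theorem a8z_ne_one : a8z ≠ 1 := by
  intro h
  have h1 := a8z_apply ⟨0, by norm_num⟩
  rw [h] at h1
  revert h1
  decide +kernel

theorem a8z_x0 : a8z a8x0 = a8x0 := by
  apply Fin.ext
  rw [a8z_apply]
  decide +kernel

theorem a8commchk : pgAllL (pgGens a8C) (fun P => pgAll 248 (fun p =>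
    Nat.beq (P.f (a8Z.f p)) (a8Z.f (P.f p)))) = true := by decide +kernel

theorem a8z_comm : ∀ g ∈ a8H, g * a8z = a8z * g := by
  have h1 : a8H ≤ Subgroup.centralizer {a8z} := by
    unfold a8H pgGrp
    rw [Subgroup.closure_le]
    rintro _ ⟨P, hP, rfl⟩
    rw [SetLike.mem_coe, Subgroup.mem_centralizer_iff]
    intro y hy
    rw [Set.mem_singleton_iff] at hy
    subst hy
    have hc := (pgAll_iff _ _).1 ((pgAllL_iff _ _).1 a8commchk P hP)
    ext i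
    rw [Equiv.Perm.mul_apply, Equiv.Perm.mul_apply, PFun.perm_apply (a8ok P hP), a8z_apply,
      a8z_apply, PFun.perm_apply (a8ok P hP)]
    have := hc i.1 i.2
    rw [Nat.beq_eq] at this
    exact this.symm
  intro g hg
  have := Subgroup.mem_centralizer_iff.1 (h1 hg) a8z (Set.mem_singleton _)
  exact this.symm


theorem a8stab1 (g : Equiv.Perm (Fin 248)) (hg : g ∈ pgGrp 248 a8C)
    (h : g ⟨240, by norm_num⟩ = ⟨240, by norm_num⟩) : g ∈ pgGrp 248 a8C2 := by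
  obtain ⟨hb, h1, -, -⟩ := pgLvl_main (n := 248) (L := a8L1) (C := a8C2) a8chkC
  exact h1 g hg h

theorem a8stab2 (g : Equiv.Perm (Fin 248)) (hg : g ∈ pgGrp 248 a8C2)
    (h : g ⟨241, by norm_num⟩ = ⟨241, by norm_num⟩) : g ∈ pgGrp 248 a8C3 := by
  obtain ⟨hb, h1, -, -⟩ := pgLvl_main (n := 248) (L := a8L2) (C := a8C3) a8chkC2
  exact h1 g hg h

theorem a8stab3 (g : Equiv.Perm (Fin 248)) (hg : g ∈ pgGrp 248 a8C3)
    (h : g ⟨242, by norm_num⟩ = ⟨242, by norm_num⟩) : g ∈ pgGrp 248 a8C4 := by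
  obtain ⟨hb, h1, -, -⟩ := pgLvl_main (n := 248) (L := a8L3) (C := a8C4) a8chkC3
  exact h1 g hg h

theorem a8stab4 (g : Equiv.Perm (Fin 248)) (hg : g ∈ pgGrp 248 a8C4)
    (h : g ⟨243, by norm_num⟩ = ⟨243, by norm_num⟩) : g ∈ pgGrp 248 a8C5 := by
  obtain ⟨hb, h1, -, -⟩ := pgLvl_main (n := 248) (L := a8L4) (C := a8C5) a8chkC4
  exact h1 g hg h

theorem a8stab5 (g : Equiv.Perm (Fin 248)) (hg : g ∈ pgGrp 248 a8C5)
    (h : g ⟨244, by norm_num⟩ = ⟨244, by norm_num⟩) : g ∈ pgGrp 248 a8C6 := by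
  obtain ⟨hb, h1, -, -⟩ := pgLvl_main (n := 248) (L := a8L5) (C := a8C6) a8chkC5
  exact h1 g hg h

theorem a8stab6 (g : Equiv.Perm (Fin 248)) (hg : g ∈ pgGrp 248 a8C6)
    (h : g ⟨245, by norm_num⟩ = ⟨245, by norm_num⟩) : g ∈ pgGrp 248 a8C7 := by
  obtain ⟨hb, h1, -, -⟩ := pgLvl_main (n := 248) (L := a8L6) (C := a8C7) a8chkC6
  exact h1 g hg h

theorem a8stab7 (g : Equiv.Perm (Fin 248)) (hg : g ∈ pgGrp 248 a8C7)
    (h : g ⟨246, by norm_num⟩ = ⟨246, by norm_num⟩) : g ∈ pgGrp 248 a8C8 := by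
  obtain ⟨hb, h1, -, -⟩ := pgLvl_main (n := 248) (L := a8L7) (C := a8C8) a8chkC7
  exact h1 g hg h

theorem a8inO : ∀ j : Fin 248, 240 ≤ j.1 → a8in a8M1 j.1 = true := by decide +kernel

theorem a8orb (j : Fin 248) (hj : 240 ≤ j.1) : j ∈ orbit a8H a8x0 := by
  obtain ⟨hb, -, -, h3⟩ := pgLvl_main (n := 248) (L := a8L1) (C := a8C2) a8chkC
  obtain ⟨g, hg, hgj⟩ := h3 j (a8inO j hj)
  exact ⟨⟨g, hg⟩, hgj⟩

theorem a8stab_eq : stabilizer a8H a8x0 = (pgGrp 248 a8C2).subgroupOf a8H := by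
  ext ⟨g, hg⟩
  rw [mem_stabilizer_iff, Subgroup.mem_subgroupOf]
  constructor
  · intro h
    exact a8stab1 g hg h
  · intro h
    obtain ⟨hb, hfix, -⟩ := pgChkLvl_spec (n := 248) (L := a8L1) (Ls := a8C2) a8chk1 a8ok
    exact pgGrp_fix (b := a8x0) hfix (pgChk_gens_ok 248 _ a8chkC2) g h

theorem a8orbit_card : Nat.card (orbit a8H a8x0) = 8 := by
  have h1 := Subgroup.index_mul_card (stabilizer a8H a8x0)
  rw [MulAction.index_stabilizer, a8stab_eq,
    Nat.card_congr (Subgroup.subgroupOfEquivOfLe a8le21).toEquiv, a8card2] at h1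
  have h2 : Nat.card a8H = 40320 := a8card
  rw [h2] at h1
  rw [Nat.card_coe_set_eq]
  omega

theorem card_two_cases {G : Type*} [Group G] (K : Subgroup G) (hK : Nat.card K = 2) (z : G)
    (hz : z ∈ K) (hz1 : z ≠ 1) (g : G) (hg : g ∈ K) : g = 1 ∨ g = z := by
  by_cases hg1 : g = 1
  · exact Or.inl hg1
  · right
    obtain ⟨y, -, hy⟩ := (Nat.card_eq_two_iff' (1 : K)).1 hK
    have e1 : (⟨g, hg⟩ : K) = y := hy _ (fun h => hg1 (congrArg Subtype.val h))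
    have e2 : (⟨z, hz⟩ : K) = y := hy _ (fun h => hz1 (congrArg Subtype.val h))
    exact congrArg Subtype.val (e1.trans e2.symm)

theorem a8kernel (g : a8H) (h : ∀ y ∈ orbit a8H a8x0, g • y = y) :
    g = 1 ∨ g = ⟨a8z, a8z_mem⟩ := by
  obtain ⟨g, hg⟩ := g
  have hf : ∀ j : Fin 248, 240 ≤ j.1 → g j = j := fun j hj => h j (a8orb j hj)
  have h2 := a8stab1 g hg (hf _ (by norm_num))
  have h3 := a8stab2 g h2 (hf _ (by norm_num))
  have h4 := a8stab3 g h3 (hf _ (by norm_num))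
  have h5 := a8stab4 g h4 (hf _ (by norm_num))
  have h6 := a8stab5 g h5 (hf _ (by norm_num))
  have h7 := a8stab6 g h6 (hf _ (by norm_num))
  have h8 := a8stab7 g h7 (hf _ (by norm_num))
  rcases card_two_cases _ a8card8 a8z a8z_mem8 a8z_ne_one g h8 with h | h
  · left; exact Subtype.ext h
  · right; exact Subtype.ext h

theorem a8main : Nat.card (center a8H) = 2 ∧ Nonempty (a8H ⧸ center a8H ≃* alternatingGroup (Fin 8)) := by
  apply dc_of_action (G := a8H) a8x0 ⟨a8z, a8z_mem⟩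
  · intro h
    exact a8z_ne_one (congrArg Subtype.val h)
  · rw [Subgroup.mem_center_iff]
    rintro ⟨g, hg⟩
    apply Subtype.ext
    exact a8z_comm g hg
  · exact a8z_x0
  · exact a8orbit_card
  · exact a8card
  · exact a8kernel


def a8x : Equiv.Perm (Fin 248) := pgWordPerm 248 (pgGens a8C) a8wx

def a8y : Equiv.Perm (Fin 248) := pgWordPerm 248 (pgGens a8C) a8wy

theorem a8x_mem : a8x ∈ a8H := pgWordPerm_mem a8ok _

theorem a8y_mem : a8y ∈ a8H := pgWordPerm_mem a8ok _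

theorem a8xchk : pgAll 248 (fun p => Nat.beq (pgEvalW (pgGens a8C) (a8wx ++ a8wx) p) (a8Z.f p)) = true := by
  decide +kernel

theorem a8ychk : pgAll 248 (fun p => Nat.beq (pgEvalW (pgGens a8C) (a8wy ++ a8wy) p) p) = true := by
  decide +kernel

theorem a8zchk : pgAll 248 (fun p => Nat.beq (a8Z.f (a8Z.f p)) p) = true := by
  decide +kernel

theorem a8ychk2 : Nat.beq (pgEvalW (pgGens a8C) a8wy 240) 240 = false := by
  decide +kernel

theorem a8x_sq : a8x * a8x = a8z := by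
  unfold a8x
  rw [← pgWordPerm_append]
  ext i
  rw [pgWordPerm_apply a8ok, a8z_apply]
  have := (pgAll_iff _ _).1 a8xchk i.1 i.2
  rwa [Nat.beq_eq] at this

theorem a8y_sq : a8y * a8y = 1 := by
  unfold a8y
  rw [← pgWordPerm_append]
  ext i
  rw [pgWordPerm_apply a8ok]
  have := (pgAll_iff _ _).1 a8ychk i.1 i.2
  rw [Nat.beq_eq] at this
  rw [this]
  rfl

theorem a8z_sq : a8z * a8z = 1 := by
  ext i
  rw [Equiv.Perm.mul_apply, a8z_apply, a8z_apply]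
  have := (pgAll_iff _ _).1 a8zchk i.1 i.2
  rw [Nat.beq_eq] at this
  rw [this]
  rfl

theorem a8y_x0 : a8y a8x0 ≠ a8x0 := by
  intro h
  have h1 : (a8y a8x0).1 = pgEvalW (pgGens a8C) a8wy 240 := pgWordPerm_apply a8ok _ _
  rw [h] at h1
  have h2 := a8ychk2
  rw [← h1] at h2
  revert h2
  decide

theorem a8_exists : Nat.card (center a8H) = 2 ∧
    Nonempty (a8H ⧸ center a8H ≃* alternatingGroup (Fin 8)) ∧
    (∀ L : Subgroup a8H, ¬ (center a8H).IsComplement' L) ∧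
    ∃ x y : a8H, x ≠ y ∧ orderOf x = 2 ∧ orderOf y = 2 := by
  obtain ⟨h1, h2⟩ := a8main
  have hzc : (⟨a8z, a8z_mem⟩ : a8H) ∈ center a8H := by
    rw [Subgroup.mem_center_iff]
    rintro ⟨g, hg⟩
    apply Subtype.ext
    exact a8z_comm g hg
  have hz1 : (⟨a8z, a8z_mem⟩ : a8H) ≠ 1 := fun h => a8z_ne_one (congrArg Subtype.val h)
  refine ⟨h1, h2, ?_, ?_⟩
  · apply dc_nonsplit h1 ⟨a8z, a8z_mem⟩ ⟨a8x, a8x_mem⟩ hz1 hzc
    apply Subtype.ext
    exact a8x_sq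
  · refine ⟨⟨a8z, a8z_mem⟩, ⟨a8y, a8y_mem⟩, ?_, ?_, ?_⟩
    · intro h
      have h' : a8z = a8y := congrArg Subtype.val h
      apply a8y_x0
      rw [← h']
      exact a8z_x0
    · apply orderOf_eq_prime
      · rw [pow_two]
        apply Subtype.ext
        exact a8z_sq
      · exact hz1
    · apply orderOf_eq_prime
      · rw [pow_two]
        apply Subtype.ext
        exact a8y_sq
      · intro h
        have h' : a8y = 1 := congrArg Subtype.val h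
        apply a8y_x0
        rw [h']
        rfl

end Cfsg.Agent.Lib.Helper24
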