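import Mathlib

set_option autoImplicit false
set_option linter.style.haveILetI false
set_option linter.unusedSectionVars false
set_option linter.unusedVariables false

namespace Cfsg.Agent.Lib.Helper24

theorem af3_sq_identity (D A B x y z : ℤ) (h1 : 1 + D = A + B) (h2 : 1 + x = y + z)
    (h3 : D * A * B + x ^ 2 * A * B = y ^ 2 * D * B + z ^ 2 * D * A) :
    D * ((A + B) * z - B * (1 + x)) ^ 2 = A * B * (D - x) ^ 2 := by
  have hD : D = A + B - 1 := by linarith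
  have hy : y = 1 + x - z := by linarith
  subst hD hy
  linear_combination (-(A + B)) * h3

theorem af3_lagrange (p₂ p₃ q₂ q₃ P Q : ℤ) (hp₂ : 0 < p₂) (hp₃ : 0 < p₃)
    (h1 : 1 + p₂ + p₃ = P) (h2 : 1 + q₂ + q₃ = Q)
    (h3 : P * (p₂ * p₃ + q₂ ^ 2 * p₃ + q₃ ^ 2 * p₂) = Q ^ 2 * p₂ * p₃) : q₂ = p₂ := by
  subst h1 h2
  have hid : (1 + p₂ + p₃) * (p₂ * p₃ + q₂ ^ 2 * p₃ + q₃ ^ 2 * p₂) - (1 + q₂ + q₃) ^ 2 * p₂ * p₃ =
      p₃ * (p₂ - q₂) ^ 2 + p₂ * (p₃ - q₃) ^ 2 + (q₂ * p₃ - q₃ * p₂) ^ 2 := by ring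
  have h0 : p₃ * (p₂ - q₂) ^ 2 + p₂ * (p₃ - q₃) ^ 2 + (q₂ * p₃ - q₃ * p₂) ^ 2 = 0 := by
    rw [← hid, h3]; ring
  have ha : 0 ≤ p₃ * (p₂ - q₂) ^ 2 := mul_nonneg hp₃.le (sq_nonneg _)
  have hb : 0 ≤ p₂ * (p₃ - q₃) ^ 2 := mul_nonneg hp₂.le (sq_nonneg _)
  have hc : 0 ≤ (q₂ * p₃ - q₃ * p₂) ^ 2 := sq_nonneg _
  have hz : p₃ * (p₂ - q₂) ^ 2 = 0 := by linarith
  rcases mul_eq_zero.mp hz with h | h
  · omega
  · have := pow_eq_zero_iff (two_ne_zero) |>.mp h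
    omega

theorem af3_isSquare (n : ℕ) (m k : ℤ) (hm : m ≠ 0) (h : (n : ℤ) * m ^ 2 = k ^ 2) :
    IsSquare n := by
  have hdvd : m ^ 2 ∣ k ^ 2 := ⟨n, by rw [← h]; ring⟩
  have hmk : m ∣ k := (Int.pow_dvd_pow_iff (by norm_num)).mp hdvd
  obtain ⟨j, rfl⟩ := hmk
  have hm2 : m ^ 2 ≠ 0 := pow_ne_zero 2 hm
  have hn : (n : ℤ) = j * j := by
    have : (n : ℤ) * m ^ 2 = (j * j) * m ^ 2 := by rw [h]; ring
    exact mul_right_cancel₀ hm2 this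
  refine ⟨j.natAbs, ?_⟩
  have : ((j.natAbs * j.natAbs : ℕ) : ℤ) = j * j := by
    rw [Nat.cast_mul, Int.natAbs_mul_self']
  exact_mod_cast hn.trans this.symm

theorem af3_alg (a₂ a₃ δ : ℤ) (ha₂ : a₂ = 1 ∨ a₂ = -1) (ha₃ : a₃ = 1 ∨ a₃ = -1)
    (hδ : δ = 1 ∨ δ = -1) (x₂ x₃ f : ℕ) (hx₂ : 0 < x₂) (hx₃ : 0 < x₃) (hf : 0 < f)
    (v₂ v₃ v₄ : ℤ)
    (E1 : 1 + a₂ * x₂ + a₃ * x₃ - δ * f = 0)
    (E2 : 1 + a₂ * v₂ + a₃ * v₃ - δ * v₄ = 0)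
    (E3 : (x₂ : ℤ) * x₃ * f + a₂ * v₂ ^ 2 * x₃ * f + a₃ * v₃ ^ 2 * x₂ * f -
      δ * v₄ ^ 2 * x₂ * x₃ = 0)
    (N2 : v₂ ≠ x₂) (N3 : v₃ ≠ x₃) (N4 : v₄ ≠ f) :
    ((if a₂ = -1 then 1 else 0) + (if a₃ = -1 then 1 else 0) + (if δ = 1 then 1 else 0) = 2) ∧
      IsSquare (f * (x₂ * x₃)) := by
  have hx₂' : (0 : ℤ) < x₂ := by exact_mod_cast hx₂
  have hx₃' : (0 : ℤ) < x₃ := by exact_mod_cast hx₃
  have hf' : (0 : ℤ) < f := by exact_mod_cast hf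
  rcases ha₂ with rfl | rfl <;> rcases ha₃ with rfl | rfl <;> rcases hδ with rfl | rfl
  · exfalso
    apply N2
    exact af3_lagrange x₂ x₃ v₂ v₃ f v₄ hx₂' hx₃' (by linarith) (by linarith) (by linarith)
  · exfalso
    linarith
  · refine ⟨by norm_num, ?_⟩
    have hid := af3_sq_identity x₂ x₃ f v₂ v₃ v₄ (by linarith) (by linarith) (by linarith)
    apply af3_isSquare (f * (x₂ * x₃)) (x₂ - v₂) (x₂ * ((x₃ + f) * v₄ - f * (1 + v₂)))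
    · intro h
      apply N2
      linarith
    · push_cast
      linear_combination (-(x₂ : ℤ)) * hid
  · exfalso
    apply N2
    exact af3_lagrange x₂ f v₂ v₄ x₃ v₃ hx₂' hf' (by linarith) (by linarith) (by linarith)
  · refine ⟨by norm_num, ?_⟩
    have hid := af3_sq_identity x₃ x₂ f v₃ v₂ v₄ (by linarith) (by linarith) (by linarith)
    apply af3_isSquare (f * (x₂ * x₃)) (x₃ - v₃) (x₃ * ((x₂ + f) * v₄ - f * (1 + v₃)))
    · intro h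
      apply N3
      linarith
    · push_cast
      linear_combination (-(x₃ : ℤ)) * hid
  · exfalso
    apply N3
    exact af3_lagrange x₃ f v₃ v₄ x₂ v₂ hx₃' hf' (by linarith) (by linarith) (by linarith)
  · exfalso
    have : (1 : ℤ) ≤ x₂ := hx₂'
    have : (1 : ℤ) ≤ x₃ := hx₃'
    have : (1 : ℤ) ≤ f := hf'
    linarith
  · refine ⟨by norm_num, ?_⟩
    have hid := af3_sq_identity f x₂ x₃ v₄ v₂ v₃ (by linarith) (by linarith) (by linarith)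
    apply af3_isSquare (f * (x₂ * x₃)) (f - v₄) (f * ((x₂ + x₃) * v₃ - x₃ * (1 + v₄)))
    · intro h
      apply N4
      linarith
    · push_cast
      linear_combination (-(f : ℤ)) * hid

end Cfsg.Agent.Lib.Helper24
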