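import Cfsg.Agent.Lib.Helper24.FongPrincipal
import Cfsg.Agent.Lib.Helper24.FSCount

set_option autoImplicit false
open scoped ComplexConjugate

namespace Cfsg.Agent.Lib.Helper24

open Cfsg.Agent.Lib.helper2 Cfsg.Agent.Lib.helper7 Cfsg.Agent.Lib.Helper11 Cfsg.Agent.Lib.Helper25
open Cfsg.Agent.Lib.Helper1

section fg2

variable {G : Type*} [Group G]

theorem fg_constr_of_solvable {X : Type*} [Group X] [Finite X] [Group.IsSolvable X] (p : ℕ)
    [hp : Fact p.Prime] (hcore : Cfsg.pPrimeCore p X = ⊥) :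
    Subgroup.centralizer ((Cfsg.pCore p X) : Set X) ≤ Cfsg.pCore p X := by
  have hF : Cfsg.fittingSubgroup X = Cfsg.pCore p X := by
    rw [fittingSubgroup_eq_iSup_pCore]
    apply le_antisymm
    · apply iSup_le
      intro q
      by_cases hq : (q : ℕ) = p
      · rw [hq]
      · have := pCore_le_pPrimeCore_of_ne (G := X) hp.out q.2 hq
        rw [hcore] at this
        exact le_trans this bot_le
    · exact le_iSup (fun q : Nat.Primes => Cfsg.pCore (q : ℕ) X) ⟨p, hp.out⟩
  have := centralizer_fittingSubgroup_le (G := X)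
  rw [hF] at this
  exact this

theorem fg_principal_ge [Finite G] [Group.IsSolvable G] (p : ℕ) [hp : Fact p.Prime]
    (M : Ideal Cfsg.AlgInt) (hM : Cfsg.IsPModular p M) (χ : Cfsg.IrrCharacter G)
    (h : ∀ n ∈ Cfsg.pPrimeCore p G, (χ : G → ℂ) n = (χ : G → ℂ) 1) :
    χ ∈ Cfsg.principalBlock M G := by
  have hMp := hM.2.1.isPrime
  haveI hN : (Cfsg.pPrimeCore p G).Normal := Cfsg.Agent.Lib.Helper1.pPrimeCore_normal p
  obtain ⟨φ, hφ⟩ := h7_deflate (Cfsg.pPrimeCore p G) χ h
  have hcore := pPrimeCore_quotient_eq_bot (G := G) p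
  have hconstr := fg_constr_of_solvable (X := G ⧸ Cfsg.pPrimeCore p G) p hcore
  have h1 := sb_single_block p M hM hconstr (trivIrr (G ⧸ Cfsg.pPrimeCore p G)) φ
  have h2 := fg_infl_sameBlock (Cfsg.pPrimeCore p G) hMp _ _ h1
  have h3 : (fun x : G => (φ : G ⧸ Cfsg.pPrimeCore p G → ℂ) (QuotientGroup.mk x)) = (χ : G → ℂ) := by
    funext x
    exact hφ x
  rw [h3] at h2
  exact h2

theorem fg_exists_nontrivial_irr {X : Type*} [Group X] [Finite X] [Nontrivial X] :
    ∃ ψ : Cfsg.IrrCharacter X, ψ ≠ trivIrr X := by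
  classical
  haveI : Fintype X := Fintype.ofFinite X
  haveI : Fintype (Cfsg.IrrCharacter X) := Fintype.ofFinite _
  by_contra hcon
  have hall : ∀ ψ : Cfsg.IrrCharacter X, ψ = trivIrr X := by
    intro ψ
    by_contra h
    exact hcon ⟨ψ, h⟩
  have hsum := fs_sum_sq (G := X)
  have huniv : (Finset.univ : Finset (Cfsg.IrrCharacter X)) = {trivIrr X} := by
    ext ψ
    simp [hall ψ]
  rw [huniv, Finset.sum_singleton, charDegree_triv] at hsum
  have := Finite.one_lt_card (α := X)
  omega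

theorem fg_main [Finite G] [Group.IsSolvable G] (π : Set ℕ)
    (hπ : ∀ p ∈ π, p.Prime ∧ p ∣ Nat.card G)
    (M : ℕ → Ideal Cfsg.AlgInt) (hM : ∀ p ∈ π, Cfsg.IsPModular p (M p)) :
    (∀ χ : Cfsg.IrrCharacter G, (∀ p ∈ π, χ ∈ Cfsg.principalBlock (M p) G) →
      (χ : G → ℂ) = fun _ => 1) ↔ ⨆ p ∈ π, Cfsg.pPrimeCore p G = ⊤ := by
  classical
  haveI : Fintype G := Fintype.ofFinite G
  constructor
  · intro h
    by_contra hK
    set K : Subgroup G := ⨆ p ∈ π, Cfsg.pPrimeCore p G with hKdef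
    haveI hKn : K.Normal :=
      Subgroup.biSup_normal π (fun p => Cfsg.pPrimeCore p G)
        (fun p _ => Cfsg.Agent.Lib.Helper1.pPrimeCore_normal p)
    have hex : ∃ g : G, g ∉ K := by
      by_contra hall
      apply hK
      rw [eq_top_iff]
      intro g _
      by_contra hg
      exact hall ⟨g, hg⟩
    obtain ⟨g0, hg0⟩ := hex
    haveI : Nontrivial (G ⧸ K) := by
      refine ⟨⟨(QuotientGroup.mk g0 : G ⧸ K), 1, ?_⟩⟩
      intro h1
      exact hg0 ((QuotientGroup.eq_one_iff g0).mp h1)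
    obtain ⟨ψ, hψ⟩ := fg_exists_nontrivial_irr (X := G ⧸ K)
    set χ : Cfsg.IrrCharacter G := xs_infl (QuotientGroup.mk' K) (QuotientGroup.mk'_surjective K) ψ
      with hχ
    have hχB : ∀ p ∈ π, χ ∈ Cfsg.principalBlock (M p) G := by
      intro p hp
      haveI : Fact p.Prime := ⟨(hπ p hp).1⟩
      apply fg_principal_ge p (M p) (hM p hp) χ
      intro n hn
      have hnK : n ∈ K := by
        have h1 : Cfsg.pPrimeCore p G ≤ K := by
          rw [hKdef]
          exact le_biSup (fun p => Cfsg.pPrimeCore p G) hp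
        exact h1 hn
      rw [hχ, xs_infl_apply, xs_infl_apply]
      have h2 : (QuotientGroup.mk' K) n = (QuotientGroup.mk' K) 1 := by
        rw [map_one]
        exact (QuotientGroup.eq_one_iff n).mpr hnK
      rw [h2]
    have h1 := h χ hχB
    apply hψ
    apply Subtype.ext
    funext x
    obtain ⟨g, rfl⟩ := QuotientGroup.mk'_surjective K x
    have h2 := congrFun h1 g
    rw [hχ, xs_infl_apply] at h2
    rw [h2]
    rfl
  · intro htop χ hχ
    have hle : ∀ p ∈ π, Cfsg.pPrimeCore p G ≤ irrKer χ := by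
      intro p hp n hn
      haveI : Fact p.Prime := ⟨(hπ p hp).1⟩
      exact (mem_irrKer χ n).2 (fg_principal_le p (M p) (hM p hp) χ (hχ p hp) n hn)
    have hker : irrKer χ = ⊤ := by
      rw [eq_top_iff, ← htop]
      exact iSup₂_le hle
    have hall : ∀ g : G, (χ : G → ℂ) g = (χ : G → ℂ) 1 := by
      intro g
      apply (mem_irrKer χ g).1
      rw [hker]
      exact Subgroup.mem_top g
    have h1 : (χ : G → ℂ) 1 = 1 := xs_linear_of_comm_le_ker χ (fun w _ => hall w)
    funext g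
    rw [hall g, h1]

end fg2

end Cfsg.Agent.Lib.Helper24
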