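import Mathlib
import Cfsg.Prelude.Def_Blocks
import Cfsg.Agent.Lib.Helper24.PrincCol1

set_option autoImplicit false
set_option linter.style.haveILetI false
set_option linter.unusedSectionVars false
set_option linter.unusedVariables false

namespace Cfsg.Agent.Lib.Helper24

open scoped ComplexConjugate
open Cfsg.Agent.Lib.Helper25 Cfsg.Agent.Lib.helper7

theorem pc_central_norm {K : Type*} [Group K] [Finite K] (z : K) (hz : z ∈ Subgroup.center K)
    (ψ : Cfsg.IrrCharacter K) :
    (ψ : K → ℂ) z * conj ((ψ : K → ℂ) z) = (ψ : K → ℂ) 1 * (ψ : K → ℂ) 1 := by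
  obtain ⟨c', hc'⟩ := h7_central_char ψ.2 z hz
  have h1 : (ψ : K → ℂ) z = c' * (ψ : K → ℂ) 1 := by
    have := hc' 1
    rwa [mul_one] at this
  have h2 : (ψ : K → ℂ) 1 = c' * (ψ : K → ℂ) z⁻¹ := by
    have := hc' z⁻¹
    rwa [mul_inv_cancel] at this
  rw [← irr_inv]
  calc (ψ : K → ℂ) z * (ψ : K → ℂ) z⁻¹ = (ψ : K → ℂ) 1 * (c' * (ψ : K → ℂ) z⁻¹) := by
        rw [h1]
        ring
    _ = _ := by rw [← h2]

theorem pc_orderOf_isConj {G : Type*} [Group G] {a b : G} (h : IsConj a b) :
    orderOf a = orderOf b := by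
  obtain ⟨u, hu⟩ := h
  exact hu.orderOf_eq

theorem pc_lambda {G : Type*} [Group G] [Finite G] (p : ℕ) [hp : Fact p.Prime]
    (M : Ideal Cfsg.AlgInt) (hM : Cfsg.IsPModular p M) (y : G)
    (hy : ∃ k : ℕ, orderOf y = p ^ k) :
    ∑ᶠ χ ∈ Cfsg.principalBlock M G, (χ : G → ℂ) y * conj ((χ : G → ℂ) y) =
    ∑ᶠ ψ ∈ Cfsg.principalBlock M (Subgroup.centralizer ({y} : Set G)),
      (ψ : Subgroup.centralizer ({y} : Set G) → ℂ) 1 *
        (ψ : Subgroup.centralizer ({y} : Set G) → ℂ) 1 := by
  classical
  letI : Fintype G := Fintype.ofFinite G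
  haveI : Fintype (Cfsg.IrrCharacter G) := Fintype.ofFinite _
  letI : Fintype (Subgroup.centralizer ({y} : Set G)) := Fintype.ofFinite _
  haveI : Fintype (Cfsg.IrrCharacter (Subgroup.centralizer ({y} : Set G))) := Fintype.ofFinite _
  set yC : Subgroup.centralizer ({y} : Set G) :=
    ⟨y, Subgroup.mem_centralizer_singleton_iff.mpr rfl⟩ with hyC
  have hycen : yC ∈ Subgroup.center (Subgroup.centralizer ({y} : Set G)) := by
    rw [Subgroup.mem_center_iff]
    intro g
    apply Subtype.ext
    simp only [Subgroup.coe_mul, hyC]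
    exact Subgroup.mem_centralizer_singleton_iff.mp g.2
  have hA : ∀ χ : Cfsg.IrrCharacter G,
      (if χ ∈ Cfsg.principalBlock M G then (χ : G → ℂ) y * conj ((χ : G → ℂ) y) else 0) =
      (∑ ψ : Cfsg.IrrCharacter (Subgroup.centralizer ({y} : Set G)),
        if ψ ∈ Cfsg.principalBlock M (Subgroup.centralizer ({y} : Set G)) then
        Cfsg.classInner (fun c : Subgroup.centralizer ({y} : Set G) => (χ : G → ℂ) (c : G))
          (ψ : Subgroup.centralizer ({y} : Set G) → ℂ) *
          (ψ : Subgroup.centralizer ({y} : Set G) → ℂ) yC else 0) * conj ((χ : G → ℂ) y) := by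
    intro χ
    rw [← h7_finsum_mem_fintype]
    split_ifs with h
    · rw [← h7_second_main_eval p M hM y hy χ h]
    · rw [pc_eval_nonprincipal p M hM y hy χ h, zero_mul]
  have hT : ∀ ψ : Cfsg.IrrCharacter (Subgroup.centralizer ({y} : Set G)),
      ∑ χ : Cfsg.IrrCharacter G,
        Cfsg.classInner (fun c : Subgroup.centralizer ({y} : Set G) => (χ : G → ℂ) (c : G))
          (ψ : Subgroup.centralizer ({y} : Set G) → ℂ) * conj ((χ : G → ℂ) y) =
      ∑ c : Subgroup.centralizer ({y} : Set G),
        if IsConj y (c : G) then conj ((ψ : Subgroup.centralizer ({y} : Set G) → ℂ) c) else 0 := by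
    intro ψ
    unfold Cfsg.classInner
    have hcne : (Nat.card (Subgroup.centralizer ({y} : Set G)) : ℂ) ≠ 0 := by
      exact_mod_cast Nat.card_pos.ne'
    have e1 : ∀ χ : Cfsg.IrrCharacter G,
        ((Nat.card (Subgroup.centralizer ({y} : Set G)) : ℂ)⁻¹ *
          ∑ c : Subgroup.centralizer ({y} : Set G), (χ : G → ℂ) (c : G) *
            conj ((ψ : Subgroup.centralizer ({y} : Set G) → ℂ) c)) * conj ((χ : G → ℂ) y) =
        (Nat.card (Subgroup.centralizer ({y} : Set G)) : ℂ)⁻¹ *
          ∑ c : Subgroup.centralizer ({y} : Set G),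
            conj ((ψ : Subgroup.centralizer ({y} : Set G) → ℂ) c) *
              ((χ : G → ℂ) (c : G) * conj ((χ : G → ℂ) y)) := by
      intro χ
      rw [mul_assoc, Finset.sum_mul]
      congr 1
      refine Finset.sum_congr rfl fun c _ => ?_
      ring
    rw [Finset.sum_congr rfl (fun χ _ => e1 χ), ← Finset.mul_sum, Finset.sum_comm,
      Finset.mul_sum]
    refine Finset.sum_congr rfl fun c _ => ?_
    rw [← Finset.mul_sum, irr_column_orthogonality]
    split_ifs with h
    · field_simp
    · simp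
  rw [h7_finsum_mem_fintype, Finset.sum_congr rfl (fun χ _ => hA χ)]
  simp only [Finset.sum_mul]
  rw [Finset.sum_comm]
  have hB : ∀ ψ : Cfsg.IrrCharacter (Subgroup.centralizer ({y} : Set G)),
      ∑ χ : Cfsg.IrrCharacter G,
        (if ψ ∈ Cfsg.principalBlock M (Subgroup.centralizer ({y} : Set G)) then
        Cfsg.classInner (fun c : Subgroup.centralizer ({y} : Set G) => (χ : G → ℂ) (c : G))
          (ψ : Subgroup.centralizer ({y} : Set G) → ℂ) *
          (ψ : Subgroup.centralizer ({y} : Set G) → ℂ) yC else 0) * conj ((χ : G → ℂ) y) =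
      ∑ c : Subgroup.centralizer ({y} : Set G),
        if IsConj y (c : G) then
          (if ψ ∈ Cfsg.principalBlock M (Subgroup.centralizer ({y} : Set G)) then
            (ψ : Subgroup.centralizer ({y} : Set G) → ℂ) yC *
              conj ((ψ : Subgroup.centralizer ({y} : Set G) → ℂ) c) else 0) else 0 := by
    intro ψ
    by_cases h : ψ ∈ Cfsg.principalBlock M (Subgroup.centralizer ({y} : Set G))
    · simp only [if_pos h]
      have e2 : ∀ χ : Cfsg.IrrCharacter G,
          Cfsg.classInner (fun c : Subgroup.centralizer ({y} : Set G) => (χ : G → ℂ) (c : G))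
            (ψ : Subgroup.centralizer ({y} : Set G) → ℂ) *
            (ψ : Subgroup.centralizer ({y} : Set G) → ℂ) yC * conj ((χ : G → ℂ) y) =
          (ψ : Subgroup.centralizer ({y} : Set G) → ℂ) yC *
          (Cfsg.classInner (fun c : Subgroup.centralizer ({y} : Set G) => (χ : G → ℂ) (c : G))
            (ψ : Subgroup.centralizer ({y} : Set G) → ℂ) * conj ((χ : G → ℂ) y)) := by
        intro χ
        ring
      rw [Finset.sum_congr rfl (fun χ _ => e2 χ), ← Finset.mul_sum, hT ψ, Finset.mul_sum]
      refine Finset.sum_congr rfl fun c _ => ?_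
      split_ifs <;> simp
    · simp [if_neg h]
  rw [Finset.sum_congr rfl (fun ψ _ => hB ψ), Finset.sum_comm]
  have hD : ∀ c : Subgroup.centralizer ({y} : Set G),
      (∑ ψ : Cfsg.IrrCharacter (Subgroup.centralizer ({y} : Set G)),
        if IsConj y (c : G) then
          (if ψ ∈ Cfsg.principalBlock M (Subgroup.centralizer ({y} : Set G)) then
            (ψ : Subgroup.centralizer ({y} : Set G) → ℂ) yC *
              conj ((ψ : Subgroup.centralizer ({y} : Set G) → ℂ) c) else 0) else 0) =
      if c = yC then ∑ᶠ ψ ∈ Cfsg.principalBlock M (Subgroup.centralizer ({y} : Set G)),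
      (ψ : Subgroup.centralizer ({y} : Set G) → ℂ) 1 *
        (ψ : Subgroup.centralizer ({y} : Set G) → ℂ) 1 else 0 := by
    intro c
    by_cases hc : c = yC
    · rw [if_pos hc, hc, h7_finsum_mem_fintype]
      have : IsConj y ((yC : Subgroup.centralizer ({y} : Set G)) : G) := IsConj.refl y
      simp only [if_pos this]
      refine Finset.sum_congr rfl fun ψ _ => ?_
      rw [pc_central_norm yC hycen ψ]
    · rw [if_neg hc]
      by_cases hcy : IsConj y (c : G)
      · simp only [if_pos hcy]
        rw [← h7_finsum_mem_fintype]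
        apply pc_orth p M hM yC c
        · rw [hyC, Subgroup.orderOf_mk]
          exact hy
        · rw [← Subgroup.orderOf_coe, ← pc_orderOf_isConj hcy]
          exact hy
        · intro hcon
          apply hc
          obtain ⟨g, hg⟩ := isConj_iff.mp hcon
          rw [← hg, (Subgroup.mem_center_iff.mp hycen g), mul_inv_cancel_right]
        · exact ⟨trivIrr _, rfl⟩
      · apply Finset.sum_eq_zero
        intro ψ _
        rw [if_neg hcy]
  rw [Finset.sum_congr rfl (fun c _ => hD c)]
  simp

end Cfsg.Agent.Lib.Helper24
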