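import Mathlib
import Cfsg.Prelude.Def_Blocks
import Cfsg.Agent.Lib.Helper24.PrincCol2

set_option autoImplicit false
set_option linter.style.haveILetI false
set_option linter.unusedSectionVars false
set_option linter.unusedVariables false

namespace Cfsg.Agent.Lib.Helper24

open scoped ComplexConjugate
open Cfsg.Agent.Lib.Helper25 Cfsg.Agent.Lib.helper7

theorem pc_fiber_card {G : Type*} [Group G] (N : Subgroup G) (y y' : G)
    (h : ∃ n ∈ N, n * y * n⁻¹ = y') :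
    Nat.card {x : N // (x : G) * y * (x : G)⁻¹ = y'} =
      Nat.card ↥(N ⊓ Subgroup.centralizer ({y} : Set G)) := by
  obtain ⟨n₀, hn₀, hy'⟩ := h
  apply Nat.card_congr
  refine
    { toFun := fun x => ⟨n₀⁻¹ * (x.1 : G), Subgroup.mem_inf.mpr
        ⟨N.mul_mem (N.inv_mem hn₀) x.1.2, Subgroup.mem_centralizer_singleton_iff.mpr ?_⟩⟩
      invFun := fun c => ⟨⟨n₀ * (c : G), N.mul_mem hn₀ (Subgroup.mem_inf.mp c.2).1⟩, ?_⟩
      left_inv := ?_
      right_inv := ?_ }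
  · have hx : (x.1 : G) * y * (x.1 : G)⁻¹ = y' := x.2
    have h1 : (x.1 : G) * y = y' * (x.1 : G) := by
      calc (x.1 : G) * y = ((x.1 : G) * y * (x.1 : G)⁻¹) * (x.1 : G) := by group
        _ = y' * (x.1 : G) := by rw [hx]
    have h2 : n₀⁻¹ * y' = y * n₀⁻¹ := by
      calc n₀⁻¹ * y' = n₀⁻¹ * (n₀ * y * n₀⁻¹) := by rw [hy']
        _ = y * n₀⁻¹ := by group
    rw [mul_assoc, h1, ← mul_assoc, h2, mul_assoc]
  · have h1 : (c : G) * y = y * (c : G) :=
      Subgroup.mem_centralizer_singleton_iff.mp (Subgroup.mem_inf.mp c.2).2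
    change n₀ * (c : G) * y * (n₀ * (c : G))⁻¹ = y'
    calc n₀ * (c : G) * y * (n₀ * (c : G))⁻¹ = n₀ * ((c : G) * y) * (c : G)⁻¹ * n₀⁻¹ := by group
      _ = n₀ * (y * (c : G)) * (c : G)⁻¹ * n₀⁻¹ := by rw [h1]
      _ = n₀ * y * n₀⁻¹ := by group
      _ = y' := hy'
  · intro x
    apply Subtype.ext
    apply Subtype.ext
    change n₀ * (n₀⁻¹ * (x.1 : G)) = (x.1 : G)
    group
  · intro c
    apply Subtype.ext
    change n₀⁻¹ * (n₀ * (c : G)) = (c : G)
    group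

theorem pc_finsum_filter {α M : Type*} [AddCommMonoid M] [Fintype α] (s : Set α)
    [DecidablePred (· ∈ s)] (f : α → M) :
    ∑ᶠ a ∈ s, f a = ∑ a ∈ Finset.univ.filter (· ∈ s), f a := by
  rw [h7_finsum_mem_fintype, Finset.sum_filter]

theorem pc_lambda_w {G : Type*} [Group G] [Finite G] (p : ℕ) [hp : Fact p.Prime]
    (M : Ideal Cfsg.AlgInt) (hM : Cfsg.IsPModular p M) (y : G)
    (hy : ∃ k : ℕ, orderOf y = p ^ k) (w : ℚ) (n : ℕ)
    (hw : ((∑ᶠ ψ ∈ Cfsg.principalBlock M ↥(Subgroup.centralizer ({y} : Set G)),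
      Cfsg.charDegree (ψ : ↥(Subgroup.centralizer ({y} : Set G)) → ℂ) ^ 2) : ℚ) = w * n) :
    ∑ᶠ χ ∈ Cfsg.principalBlock M G, (χ : G → ℂ) y * conj ((χ : G → ℂ) y) = (w : ℂ) * n := by
  classical
  letI : Fintype (Subgroup.centralizer ({y} : Set G)) := Fintype.ofFinite _
  haveI : Fintype (Cfsg.IrrCharacter (Subgroup.centralizer ({y} : Set G))) := Fintype.ofFinite _
  rw [pc_lambda p M hM y hy]
  have h1 : ((w * n : ℚ) : ℂ) = (w : ℂ) * n := by push_cast; rfl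
  rw [← h1, ← hw, pc_finsum_filter, pc_finsum_filter]
  push_cast
  refine Finset.sum_congr rfl fun ψ _ => ?_
  rw [← (charDegree_irr ψ).1]
  ring

end Cfsg.Agent.Lib.Helper24
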