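import Mathlib
import Cfsg.Prelude.Def_Blocks
import Cfsg.Agent.Lib.Helper24.PrincCol3

set_option autoImplicit false
set_option linter.style.haveILetI false
set_option linter.unusedSectionVars false
set_option linter.unusedVariables false

namespace Cfsg.Agent.Lib.Helper24

open scoped ComplexConjugate
open Cfsg.Agent.Lib.Helper25 Cfsg.Agent.Lib.helper7

theorem pc_coeff_reindex {G : Type*} [Group G] [Finite G] (P : Subgroup G) [Fintype P]
    (χ : Cfsg.IrrCharacter G) (θ : ↥P → ℂ) :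
    ∑ᶠ y : ↥P, (χ : G → ℂ) (y : G) * θ y⁻¹ = ∑ y : ↥P, conj ((χ : G → ℂ) (y : G)) * θ y := by
  rw [finsum_eq_sum_of_fintype]
  apply Fintype.sum_equiv (Equiv.inv ↥P)
  intro y
  simp only [Equiv.inv_apply, Subgroup.coe_inv]
  rw [irr_inv, Complex.conj_conj]

theorem pc_S_eval {G : Type*} [Group G] [Finite G] (p : ℕ) [hp : Fact p.Prime]
    (M : Ideal Cfsg.AlgInt) (hM : Cfsg.IsPModular p M) (y y' : G)
    (hy : ∃ k : ℕ, orderOf y = p ^ k) (hy' : ∃ k : ℕ, orderOf y' = p ^ k)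
    [Decidable (IsConj y y')] :
    ∑ᶠ χ ∈ Cfsg.principalBlock M G, (χ : G → ℂ) y' * conj ((χ : G → ℂ) y) =
      if IsConj y y' then
        ∑ᶠ χ ∈ Cfsg.principalBlock M G, (χ : G → ℂ) y * conj ((χ : G → ℂ) y) else 0 := by
  split_ifs with h
  · apply finsum_mem_congr rfl
    intro χ _
    rw [irr_isConj_eq χ h]
  · exact pc_orth p M hM y' y hy' hy (fun hc => h hc.symm) _ ⟨trivIrr G, rfl⟩

theorem pc_orbit_sum {G : Type*} [Group G] [Finite G] (P N : Subgroup G) [Fintype P] [Fintype N]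
    (hNN : N ≤ Subgroup.normalizer (P : Set G)) (y : ↥P) (F : ↥P → ℂ)
    [∀ y' : ↥P, Decidable (∃ n ∈ N, n * (y : G) * n⁻¹ = (y' : G))] :
    ∑ x : ↥N, Cfsg.extendByZero P F ((x : G) * (y : G) * (x : G)⁻¹) =
      ∑ y' : ↥P, if ∃ n ∈ N, n * (y : G) * n⁻¹ = (y' : G) then
        (Nat.card ↥(N ⊓ Subgroup.centralizer ({(y : G)} : Set G)) : ℂ) * F y' else 0 := by
  classical
  have hmem : ∀ x : ↥N, (x : G) * (y : G) * (x : G)⁻¹ ∈ P :=
    fun x => Subgroup.le_normalizer_iff.mp hNN x x.2 y y.2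
  have h1 : ∀ x : ↥N, Cfsg.extendByZero P F ((x : G) * (y : G) * (x : G)⁻¹) =
      ∑ y' : ↥P, if (x : G) * (y : G) * (x : G)⁻¹ = (y' : G) then F y' else 0 := by
    intro x
    rw [h7_extendByZero_mem P F _ (hmem x)]
    rw [Finset.sum_eq_single (⟨_, hmem x⟩ : ↥P)]
    · simp
    · intro b _ hb
      rw [if_neg]
      intro hc
      apply hb
      apply Subtype.ext
      exact hc.symm
    · intro hc
      exact absurd (Finset.mem_univ _) hc
  rw [Finset.sum_congr rfl (fun x _ => h1 x), Finset.sum_comm]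
  refine Finset.sum_congr rfl fun y' _ => ?_
  rw [← Finset.sum_filter, Finset.sum_const, nsmul_eq_mul]
  have hcard : (Finset.univ.filter (fun x : ↥N => (x : G) * (y : G) * (x : G)⁻¹ = (y' : G))).card =
      Nat.card {x : ↥N // (x : G) * (y : G) * (x : G)⁻¹ = (y' : G)} := by
    rw [Nat.card_eq_fintype_card, Fintype.card_subtype]
  rw [hcard]
  split_ifs with h
  · rw [pc_fiber_card N (y : G) (y' : G) h]
  · have : IsEmpty {x : ↥N // (x : G) * (y : G) * (x : G)⁻¹ = (y' : G)} := by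
      constructor
      rintro ⟨x, hx⟩
      exact h ⟨x, x.2, hx⟩
    rw [Nat.card_of_isEmpty]
    simp

end Cfsg.Agent.Lib.Helper24
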