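import Mathlib
import Cfsg.Prelude.Def_Blocks
import Cfsg.Agent.Lib.Helper24.PrincCol4

set_option autoImplicit false
set_option linter.style.haveILetI false
set_option linter.unusedSectionVars false
set_option linter.unusedVariables false

namespace Cfsg.Agent.Lib.Helper24

open scoped ComplexConjugate
open Cfsg.Agent.Lib.Helper25 Cfsg.Agent.Lib.helper7

theorem pc_main {G : Type*} [Group G] [Finite G] (p : ℕ) [Fact p.Prime] (M : Ideal Cfsg.AlgInt)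
    (hM : Cfsg.IsPModular p M) (P : Subgroup G) (hP : IsPGroup p P) (N : Subgroup G)
    (hNN : N ≤ Subgroup.normalizer (P : Set G)) (U : Set G)
    (hfus : ∀ u ∈ U, ∀ g : G, g * u * g⁻¹ ∈ (P : Set G) → ∃ n ∈ N, n * u * n⁻¹ = g * u * g⁻¹)
    (w : ℚ)
    (hw : ∀ y ∈ U, ((∑ᶠ ψ ∈ Cfsg.principalBlock M ↥(Subgroup.centralizer ({y} : Set G)),
      Cfsg.charDegree (ψ : ↥(Subgroup.centralizer ({y} : Set G)) → ℂ) ^ 2) : ℚ) =
        w * Nat.card ↥(N ⊓ Subgroup.centralizer ({y} : Set G)))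
    (θ η : ↥P → ℂ) (hθU : ∀ y : ↥P, (y : G) ∉ U → θ y = 0) :
    ∑ᶠ χ ∈ Cfsg.principalBlock M G,
      ((Nat.card ↥P : ℂ)⁻¹ * ∑ᶠ y : ↥P, (χ : G → ℂ) (y : G) * θ y⁻¹) *
        (starRingEnd ℂ) ((Nat.card ↥P : ℂ)⁻¹ * ∑ᶠ y : ↥P, (χ : G → ℂ) (y : G) * η y⁻¹) =
    ((w : ℂ) / ((Nat.card ↥P : ℂ) ^ 2)) * ∑ᶠ y : ↥P, θ y *
      (starRingEnd ℂ) (∑ᶠ x : ↥N, Cfsg.extendByZero P η ((x : G) * (y : G) * (x : G)⁻¹)) := by
  classical
  letI : Fintype G := Fintype.ofFinite G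
  haveI : Fintype (Cfsg.IrrCharacter G) := Fintype.ofFinite _
  letI : Fintype ↥P := Fintype.ofFinite ↥P
  letI : Fintype ↥N := Fintype.ofFinite ↥N
  have hpel : ∀ y : ↥P, ∃ k : ℕ, orderOf (y : G) = p ^ k := by
    intro y
    obtain ⟨k, hk⟩ := (IsPGroup.iff_orderOf.mp hP) y
    exact ⟨k, by rw [Subgroup.orderOf_coe, hk]⟩
  have hcc : conj ((Nat.card ↥P : ℂ)⁻¹) = (Nat.card ↥P : ℂ)⁻¹ := by
    rw [map_inv₀, Complex.conj_natCast]
  have hterm : ∀ χ : Cfsg.IrrCharacter G,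
      ((Nat.card ↥P : ℂ)⁻¹ * ∑ᶠ y : ↥P, (χ : G → ℂ) (y : G) * θ y⁻¹) *
        (starRingEnd ℂ) ((Nat.card ↥P : ℂ)⁻¹ * ∑ᶠ y : ↥P, (χ : G → ℂ) (y : G) * η y⁻¹) =
      ((Nat.card ↥P : ℂ)⁻¹ * (Nat.card ↥P : ℂ)⁻¹) * ∑ y : ↥P, ∑ y' : ↥P,
        (θ y * conj (η y')) * ((χ : G → ℂ) (y' : G) * conj ((χ : G → ℂ) (y : G))) := by
    intro χ
    rw [pc_coeff_reindex P χ θ, pc_coeff_reindex P χ η, map_mul, hcc, map_sum]
    have : ((Nat.card ↥P : ℂ)⁻¹ * ∑ y : ↥P, conj ((χ : G → ℂ) (y : G)) * θ y) *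
        ((Nat.card ↥P : ℂ)⁻¹ * ∑ y' : ↥P, conj (conj ((χ : G → ℂ) (y' : G)) * η y')) =
        ((Nat.card ↥P : ℂ)⁻¹ * (Nat.card ↥P : ℂ)⁻¹) *
          ((∑ y : ↥P, conj ((χ : G → ℂ) (y : G)) * θ y) *
            (∑ y' : ↥P, conj (conj ((χ : G → ℂ) (y' : G)) * η y'))) := by ring
    rw [this, Finset.sum_mul_sum]
    congr 1
    refine Finset.sum_congr rfl fun y _ => Finset.sum_congr rfl fun y' _ => ?_
    rw [map_mul, Complex.conj_conj]
    ring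
  rw [finsum_mem_congr rfl (fun χ _ => hterm χ), pc_finsum_filter, ← Finset.mul_sum,
    Finset.sum_comm]
  have hsw : ∀ y : ↥P,
      ∑ χ ∈ Finset.univ.filter (· ∈ Cfsg.principalBlock M G), ∑ y' : ↥P,
        (θ y * conj (η y')) * ((χ : G → ℂ) (y' : G) * conj ((χ : G → ℂ) (y : G))) =
      ∑ y' : ↥P, (θ y * conj (η y')) *
        ∑ᶠ χ ∈ Cfsg.principalBlock M G, (χ : G → ℂ) (y' : G) * conj ((χ : G → ℂ) (y : G)) := by
    intro y
    rw [Finset.sum_comm]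
    refine Finset.sum_congr rfl fun y' _ => ?_
    rw [pc_finsum_filter, Finset.mul_sum]
  rw [Finset.sum_congr rfl (fun y _ => hsw y), finsum_eq_sum_of_fintype]
  have hpc : (Nat.card ↥P : ℂ) ≠ 0 := by exact_mod_cast Nat.card_pos.ne'
  have hfin : ∀ y : ↥P,
      ∑ y' : ↥P, (θ y * conj (η y')) *
        ∑ᶠ χ ∈ Cfsg.principalBlock M G, (χ : G → ℂ) (y' : G) * conj ((χ : G → ℂ) (y : G)) =
      (w : ℂ) * (θ y *
      (starRingEnd ℂ) (∑ᶠ x : ↥N, Cfsg.extendByZero P η ((x : G) * (y : G) * (x : G)⁻¹))) := by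
    intro y
    by_cases hyU : (y : G) ∈ U
    · rw [finsum_eq_sum_of_fintype, pc_orbit_sum P N hNN y η, map_sum, Finset.mul_sum,
        Finset.mul_sum]
      refine Finset.sum_congr rfl fun y' _ => ?_
      rw [pc_S_eval p M hM (y : G) (y' : G) (hpel y) (hpel y')]
      have hiff : IsConj (y : G) (y' : G) ↔ ∃ n ∈ N, n * (y : G) * n⁻¹ = (y' : G) := by
        constructor
        · intro h
          obtain ⟨g, hg⟩ := isConj_iff.mp h
          obtain ⟨n, hn, hn'⟩ := hfus (y : G) hyU g (by rw [hg]; exact y'.2)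
          exact ⟨n, hn, by rw [hn', hg]⟩
        · rintro ⟨n, _, hn⟩
          exact isConj_iff.mpr ⟨n, hn⟩
      by_cases hc : IsConj (y : G) (y' : G)
      · rw [if_pos hc, if_pos (hiff.mp hc),
          pc_lambda_w p M hM (y : G) (hpel y) w _ (hw (y : G) hyU), map_mul,
          Complex.conj_natCast]
        ring
      · rw [if_neg hc, if_neg (fun h => hc (hiff.mpr h))]
        simp
    · rw [hθU y hyU]
      simp
  rw [Finset.sum_congr rfl (fun y _ => hfin y), ← Finset.mul_sum]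
  field_simp

end Cfsg.Agent.Lib.Helper24
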