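import Mathlib
import Cfsg.Prelude.Def_Blocks
import Cfsg.Agent.Lib.Helper24.PrincCol5

set_option autoImplicit false
set_option linter.style.haveILetI false
set_option linter.unusedSectionVars false
set_option linter.unusedVariables false

namespace Cfsg.Agent.Lib.Helper24

open scoped ComplexConjugate
open Cfsg.Agent.Lib.Helper25 Cfsg.Agent.Lib.helper7

theorem pc_col_vanish {G : Type*} [Group G] [Finite G] (B : Set (Cfsg.IrrCharacter G))
    (P : Subgroup G) (U : Set G) (θ : ↥P → ℂ) (hθU : ∀ y : ↥P, (y : G) ∉ U → θ y = 0)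
    (F : Cfsg.IrrCharacter G → ℂ)
    (hF : ∀ u ∈ U, ∑ᶠ χ ∈ B, (χ : G → ℂ) u⁻¹ * F χ = 0) :
    ∑ᶠ χ ∈ B, ((Nat.card ↥P : ℂ)⁻¹ * ∑ᶠ y : ↥P, (χ : G → ℂ) (y : G) * θ y⁻¹) * F χ = 0 := by
  classical
  letI : Fintype G := Fintype.ofFinite G
  haveI : Fintype (Cfsg.IrrCharacter G) := Fintype.ofFinite _
  letI : Fintype ↥P := Fintype.ofFinite ↥P
  rw [pc_finsum_filter]
  have h1 : ∀ χ : Cfsg.IrrCharacter G,
      ((Nat.card ↥P : ℂ)⁻¹ * ∑ᶠ y : ↥P, (χ : G → ℂ) (y : G) * θ y⁻¹) * F χ =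
      (Nat.card ↥P : ℂ)⁻¹ * ∑ y : ↥P, θ y⁻¹ * ((χ : G → ℂ) (y : G) * F χ) := by
    intro χ
    rw [finsum_eq_sum_of_fintype, mul_assoc, Finset.sum_mul]
    congr 1
    refine Finset.sum_congr rfl fun y _ => ?_
    ring
  rw [Finset.sum_congr rfl (fun χ _ => h1 χ), ← Finset.mul_sum, Finset.sum_comm]
  have h2 : ∀ y : ↥P, ∑ χ ∈ Finset.univ.filter (· ∈ B),
      θ y⁻¹ * ((χ : G → ℂ) (y : G) * F χ) = 0 := by
    intro y
    rw [← Finset.mul_sum]
    by_cases hy : ((y⁻¹ : ↥P) : G) ∈ U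
    · have := hF _ hy
      rw [pc_finsum_filter] at this
      simp only [Subgroup.coe_inv, inv_inv] at this
      rw [this, mul_zero]
    · rw [hθU _ hy, zero_mul]
  rw [Finset.sum_congr rfl (fun y _ => h2 y)]
  simp

theorem pc_sign_aux {ι : Type*} [Fintype ι] [DecidableEq ι] (r d v : ι → ℝ)
    (hd : ∀ i, 0 < d i)
    (h1 : ∑ i, r i * d i = 0) (h2 : ∑ i, r i * v i = 0) (h3 : ∑ i, r i * v i ^ 2 / d i = 0)
    (i₀ : ι) (hd0 : d i₀ = 1) (hv0 : v i₀ = 1) (hr0 : r i₀ ≠ 0)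
    (hpos : ∀ i j, 0 < r i → 0 < r j → i = j) :
    ∃ i, i ≠ i₀ ∧ r i ≠ 0 ∧ v i = d i := by
  have hj : ∃ j, 0 < r j := by
    by_contra hcon
    push Not at hcon
    have hnp : ∀ i ∈ Finset.univ, r i * d i ≤ 0 :=
      fun i _ => mul_nonpos_of_nonpos_of_nonneg (hcon i) (hd i).le
    have := (Finset.sum_eq_zero_iff_of_nonpos hnp).mp h1 i₀ (Finset.mem_univ _)
    rw [hd0, mul_one] at this
    exact hr0 this
  obtain ⟨j, hjpos⟩ := hj
  have hle : ∀ i, i ≠ j → r i ≤ 0 := by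
    intro i hij
    by_contra hcon
    push Not at hcon
    exact hij (hpos i j hcon hjpos)
  have hQ : ∑ i, r i * (v j * d i - d j * v i) ^ 2 / d i = 0 := by
    have e : ∀ i, r i * (v j * d i - d j * v i) ^ 2 / d i =
        v j ^ 2 * (r i * d i) - 2 * v j * d j * (r i * v i) + d j ^ 2 * (r i * v i ^ 2 / d i) := by
      intro i
      have := (hd i).ne'
      field_simp
      ring
    rw [Finset.sum_congr rfl (fun i _ => e i), Finset.sum_add_distrib, Finset.sum_sub_distrib,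
      ← Finset.mul_sum, ← Finset.mul_sum, ← Finset.mul_sum, h1, h2, h3]
    ring
  have hterm : ∀ i ∈ Finset.univ, r i * (v j * d i - d j * v i) ^ 2 / d i ≤ 0 := by
    intro i _
    by_cases hij : i = j
    · rw [hij]
      have : v j * d j - d j * v j = 0 := by ring
      rw [this]
      simp
    · apply div_nonpos_of_nonpos_of_nonneg _ (hd i).le
      exact mul_nonpos_of_nonpos_of_nonneg (hle i hij) (sq_nonneg _)
  have hzero := (Finset.sum_eq_zero_iff_of_nonpos hterm).mp hQ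
  have hrel : ∀ i, r i ≠ 0 → v j * d i = d j * v i := by
    intro i hri
    have h := hzero i (Finset.mem_univ _)
    rw [div_eq_zero_iff] at h
    rcases h with h | h
    · rcases mul_eq_zero.mp h with h | h
      · exact absurd h hri
      · have := pow_eq_zero_iff (two_ne_zero) |>.mp h
        linarith
    · exact absurd h (hd i).ne'
  by_cases hji : j = i₀
  · have hex : ∃ i, i ≠ j ∧ r i ≠ 0 := by
      by_contra hcon
      push Not at hcon
      have : ∑ i, r i * d i = r j * d j := by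
        rw [Finset.sum_eq_single j]
        · intro b _ hb
          rw [hcon b hb, zero_mul]
        · intro hh
          exact absurd (Finset.mem_univ _) hh
      rw [this] at h1
      have := mul_pos hjpos (hd j)
      linarith
    obtain ⟨i, hij, hri⟩ := hex
    refine ⟨i, by rw [← hji]; exact hij, hri, ?_⟩
    have := hrel i hri
    rw [hji, hv0, hd0, one_mul, one_mul] at this
    exact this.symm
  · refine ⟨j, hji, hjpos.ne', ?_⟩
    have := hrel i₀ hr0
    rw [hd0, hv0, mul_one, mul_one] at this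
    exact this

theorem pc_sign {ι : Type*} [Fintype ι] [DecidableEq ι] (r d v : ι → ℝ)
    (hd : ∀ i, 0 < d i)
    (h1 : ∑ i, r i * d i = 0) (h2 : ∑ i, r i * v i = 0) (h3 : ∑ i, r i * v i ^ 2 / d i = 0)
    (i₀ : ι) (hd0 : d i₀ = 1) (hv0 : v i₀ = 1) (hr0 : r i₀ ≠ 0) :
    (2 ≤ Nat.card {i // 0 < r i} ∧ 2 ≤ Nat.card {i // r i < 0}) ∨
      ∃ i, i ≠ i₀ ∧ r i ≠ 0 ∧ v i = d i := by
  by_contra hcon
  push Not at hcon
  obtain ⟨hc1, hc2⟩ := hcon
  by_cases hp : 2 ≤ Nat.card {i // 0 < r i}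
  · have hn := hc1 hp
    have hn1 : Nat.card {i // r i < 0} ≤ 1 := by omega
    rw [Nat.card_eq_fintype_card, Fintype.card_le_one_iff] at hn1
    obtain ⟨i, hi1, hi2, hi3⟩ := pc_sign_aux (fun i => - r i) d v hd
      (by simp only [neg_mul, Finset.sum_neg_distrib, h1, neg_zero])
      (by simp only [neg_mul, Finset.sum_neg_distrib, h2, neg_zero])
      (by simp only [neg_mul, neg_div, Finset.sum_neg_distrib, h3, neg_zero])
      i₀ hd0 hv0 (by simpa using hr0)
      (by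
        intro i j hi hj
        have := hn1 ⟨i, by linarith⟩ ⟨j, by linarith⟩
        exact congrArg Subtype.val this)
    exact hc2 i hi1 (by simpa using hi2) hi3
  · have hn1 : Nat.card {i // 0 < r i} ≤ 1 := by omega
    rw [Nat.card_eq_fintype_card, Fintype.card_le_one_iff] at hn1
    obtain ⟨i, hi1, hi2, hi3⟩ := pc_sign_aux r d v hd h1 h2 h3 i₀ hd0 hv0 hr0
      (by
        intro i j hi hj
        have := hn1 ⟨i, hi⟩ ⟨j, hj⟩
        exact congrArg Subtype.val this)
    exact hc2 i hi1 hi2 hi3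

end Cfsg.Agent.Lib.Helper24
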