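import Mathlib
import Cfsg.Prelude.Def_Blocks
import Cfsg.Agent.Lib.Helper24.PrincCol6
import Cfsg.Agent.Lib.Helper24.FongPrincipal2
import Cfsg.Agent.Lib.helper7.SecondMain
import Cfsg.Agent.Lib.helper7.Q8Cent

set_option autoImplicit false
set_option linter.style.haveILetI false
set_option linter.unusedSectionVars false
set_option linter.unusedVariables false

namespace Cfsg.Agent.Lib.Helper24

open scoped ComplexConjugate
open Cfsg.Agent.Lib.Helper25 Cfsg.Agent.Lib.helper7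

theorem pc_invol_inverts {G : Type*} [Group G] [Finite G] (t g x : G) (htinv : t⁻¹ = t)
    (hx : Cfsg.IsPPart 2 (g * t * g⁻¹ * t) x) : t * x * t⁻¹ = x⁻¹ := by
  haveI : Fact (Nat.Prime 2) := ⟨Nat.prime_two⟩
  have h1 := h7_ppart_mem_zpowers_pow 2 _ x hx 1 (by norm_num)
  rw [pow_one] at h1
  obtain ⟨m, hm⟩ := Subgroup.mem_zpowers_iff.mp h1
  have h2 : t * (g * t * g⁻¹ * t) * t⁻¹ = (g * t * g⁻¹ * t)⁻¹ := by
    have e1 : t * (g * t * g⁻¹ * t) * t⁻¹ = t * g * t * g⁻¹ := by group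
    have e2 : (g * t * g⁻¹ * t)⁻¹ = t⁻¹ * g * t⁻¹ * g⁻¹ := by group
    rw [e1, e2, htinv]
  rw [← hm, ← conj_zpow, h2, inv_zpow]

theorem pc_invol_keys {G : Type*} [Group G] [Finite G] (M : Ideal Cfsg.AlgInt)
    (hM : Cfsg.IsPModular 2 M) (P : Subgroup G) (hP : IsPGroup 2 P) (U : Set G)
    (hUP : U ⊆ (P : Set G)) (t : G) (ht : orderOf t = 2)
    (hinv : ∀ u ∈ U, ∀ g : G, (g * t * g⁻¹) * u * (g * t * g⁻¹)⁻¹ ≠ u⁻¹) :
    (∀ u ∈ U, ∑ᶠ χ ∈ Cfsg.principalBlock M G, (χ : G → ℂ) u⁻¹ * (χ : G → ℂ) 1 = 0) ∧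
    (∀ u ∈ U, ∑ᶠ χ ∈ Cfsg.principalBlock M G, (χ : G → ℂ) u⁻¹ * (χ : G → ℂ) t = 0) ∧
    (∀ u ∈ U, ∀ g : G, ∑ᶠ χ ∈ Cfsg.principalBlock M G,
      (χ : G → ℂ) u⁻¹ * (χ : G → ℂ) (g * t * g⁻¹ * t) = 0) := by
  haveI : Fact (Nat.Prime 2) := ⟨Nat.prime_two⟩
  have htt : t * t = 1 := by rw [← pow_two, ← ht, pow_orderOf_eq_one]
  have htinv : t⁻¹ = t := inv_eq_of_mul_eq_one_left htt
  have hUel : ∀ u ∈ U, ∃ k : ℕ, orderOf u = 2 ^ k := by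
    intro u hu
    obtain ⟨k, hk⟩ := (IsPGroup.iff_orderOf.mp hP) ⟨u, hUP hu⟩
    exact ⟨k, by rw [← hk, Subgroup.orderOf_mk]⟩
  have hB0 : Cfsg.IsPBlock M (Cfsg.principalBlock M G) := ⟨trivIrr G, rfl⟩
  have hkey : ∀ u ∈ U, ∀ z x : G, Cfsg.IsPPart 2 z x → ¬ IsConj x u →
      ∑ᶠ χ ∈ Cfsg.principalBlock M G, (χ : G → ℂ) u⁻¹ * (χ : G → ℂ) z = 0 := by
    intro u hu z x hzx hnc
    have := (Cfsg.Agent.S0925.result 2 M hM).2 z u x u hzx (pc_isPPart_self 2 u (hUel u hu)) hnc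
      _ hB0
    rw [← this]
    apply finsum_mem_congr rfl
    intro χ _
    rw [mul_comm]
  refine ⟨?_, ?_, ?_⟩
  · intro u hu
    apply hkey u hu 1 1 (pc_isPPart_self 2 1 ⟨0, by simp⟩)
    intro hc
    have hu1 : u = 1 := isConj_one_right.mp hc
    apply hinv u hu 1
    rw [hu1]
    group
  · intro u hu
    apply hkey u hu t t (pc_isPPart_self 2 t ⟨1, by rw [ht, pow_one]⟩)
    intro hc
    obtain ⟨c, hc⟩ := isConj_iff.mp hc
    apply hinv u hu c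
    rw [hc]
    have huu : u * u = 1 := by
      rw [← hc]
      calc c * t * c⁻¹ * (c * t * c⁻¹) = c * (t * t) * c⁻¹ := by group
        _ = 1 := by rw [htt]; group
    rw [mul_inv_cancel_right]
    exact (inv_eq_of_mul_eq_one_left huu).symm
  · intro u hu g
    obtain ⟨x, hx⟩ := h7_exists_isPPart 2 (g * t * g⁻¹ * t)
    apply hkey u hu _ x hx
    intro hc
    obtain ⟨c, hc⟩ := isConj_iff.mp hc
    have hxi := pc_invol_inverts t g x htinv hx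
    apply hinv u hu c
    rw [← hc]
    calc c * t * c⁻¹ * (c * x * c⁻¹) * (c * t * c⁻¹)⁻¹ = c * (t * x * t⁻¹) * c⁻¹ := by group
      _ = c * x⁻¹ * c⁻¹ := by rw [hxi]
      _ = (c * x * c⁻¹)⁻¹ := by group

theorem pc_invol_three {G : Type*} [Group G] [Finite G] (M : Ideal Cfsg.AlgInt)
    (hM : Cfsg.IsPModular 2 M) (P : Subgroup G) (hP : IsPGroup 2 P) (U : Set G)
    (hUP : U ⊆ (P : Set G)) (t : G) (ht : orderOf t = 2)
    (hinv : ∀ u ∈ U, ∀ g : G, (g * t * g⁻¹) * u * (g * t * g⁻¹)⁻¹ ≠ u⁻¹)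
    (θ : ↥P → ℂ) (hθU : ∀ y : ↥P, (y : G) ∉ U → θ y = 0) :
    (∑ᶠ χ ∈ Cfsg.principalBlock M G,
      ((Nat.card ↥P : ℂ)⁻¹ * ∑ᶠ y : ↥P, (χ : G → ℂ) (y : G) * θ y⁻¹) *
        (χ : G → ℂ) t ^ 2 / (χ : G → ℂ) 1 = 0) ∧
    (∑ᶠ χ ∈ Cfsg.principalBlock M G,
      ((Nat.card ↥P : ℂ)⁻¹ * ∑ᶠ y : ↥P, (χ : G → ℂ) (y : G) * θ y⁻¹) * (χ : G → ℂ) 1 = 0) ∧
    (∑ᶠ χ ∈ Cfsg.principalBlock M G,
      ((Nat.card ↥P : ℂ)⁻¹ * ∑ᶠ y : ↥P, (χ : G → ℂ) (y : G) * θ y⁻¹) * (χ : G → ℂ) t = 0) := by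
  classical
  letI : Fintype G := Fintype.ofFinite G
  haveI : Fintype (Cfsg.IrrCharacter G) := Fintype.ofFinite _
  obtain ⟨k1, k2, k3⟩ := pc_invol_keys M hM P hP U hUP t ht hinv
  refine ⟨?_, pc_col_vanish _ P U θ hθU (fun χ => (χ : G → ℂ) 1) k1,
    pc_col_vanish _ P U θ hθU (fun χ => (χ : G → ℂ) t) k2⟩
  have hcG : (Nat.card G : ℂ) ≠ 0 := by exact_mod_cast Nat.card_pos.ne'
  have hF : ∀ χ : Cfsg.IrrCharacter G, (χ : G → ℂ) t ^ 2 / (χ : G → ℂ) 1 =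
      (Nat.card G : ℂ)⁻¹ * ∑ g : G, (χ : G → ℂ) (g * t * g⁻¹ * t) := by
    intro χ
    rw [irr_sum_conj_mul]
    field_simp
  have := pc_col_vanish (Cfsg.principalBlock M G) P U θ hθU
    (fun χ => (χ : G → ℂ) t ^ 2 / (χ : G → ℂ) 1) (by
      intro u hu
      rw [pc_finsum_filter]
      simp only [hF]
      have e : ∀ χ : Cfsg.IrrCharacter G, (χ : G → ℂ) u⁻¹ *
          ((Nat.card G : ℂ)⁻¹ * ∑ g : G, (χ : G → ℂ) (g * t * g⁻¹ * t)) =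
          (Nat.card G : ℂ)⁻¹ * ∑ g : G, (χ : G → ℂ) u⁻¹ * (χ : G → ℂ) (g * t * g⁻¹ * t) := by
        intro χ
        rw [Finset.mul_sum, Finset.mul_sum, Finset.mul_sum]
        refine Finset.sum_congr rfl fun g _ => ?_
        ring
      rw [Finset.sum_congr rfl (fun χ _ => e χ), ← Finset.mul_sum, Finset.sum_comm]
      have e2 : ∀ g : G, ∑ χ ∈ Finset.univ.filter (· ∈ Cfsg.principalBlock M G),
          (χ : G → ℂ) u⁻¹ * (χ : G → ℂ) (g * t * g⁻¹ * t) = 0 := by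
        intro g
        rw [← pc_finsum_filter]
        exact k3 u hu g
      rw [Finset.sum_congr rfl (fun g _ => e2 g)]
      simp)
  rw [← this]
  apply finsum_mem_congr rfl
  intro χ _
  rw [mul_div_assoc]

end Cfsg.Agent.Lib.Helper24
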