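import Mathlib
import Cfsg.Prelude.Def_Blocks
import Cfsg.Agent.Lib.Helper24.PrincCol7
import Cfsg.Agent.Lib.helper2.CharNat

set_option autoImplicit false
set_option linter.style.haveILetI false
set_option linter.unusedSectionVars false
set_option linter.unusedVariables false

namespace Cfsg.Agent.Lib.Helper24

open scoped ComplexConjugate
open Cfsg.Agent.Lib.Helper25 Cfsg.Agent.Lib.helper7

theorem pc_gen_avg_int {P : Type*} [Group P] [Finite P] (θ : P → ℂ)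
    (hθ : Cfsg.IsGeneralizedCharacter P θ) :
    ∃ n : ℤ, (Nat.card P : ℂ)⁻¹ * ∑ᶠ y : P, θ y = (n : ℂ) := by
  classical
  letI : Fintype P := Fintype.ofFinite P
  obtain ⟨χ, ψ, hχ, hψ, rfl⟩ := hθ
  have h1 := Cfsg.Agent.Lib.helper2.isCharacter_of_irr (trivIrr P)
  obtain ⟨m₁, hm₁⟩ := Cfsg.Agent.Lib.helper2.classInner_character_nat hχ h1
  obtain ⟨m₂, hm₂⟩ := Cfsg.Agent.Lib.helper2.classInner_character_nat hψ h1
  refine ⟨(m₁ : ℤ) - m₂, ?_⟩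
  unfold Cfsg.classInner at hm₁ hm₂
  simp only [trivIrr_apply, map_one, mul_one] at hm₁ hm₂
  rw [finsum_eq_sum_of_fintype]
  simp only [Pi.sub_apply, Finset.sum_sub_distrib, mul_sub]
  rw [hm₁, hm₂]
  push_cast
  rfl

theorem pc_irrKer_ne_top {G : Type*} [Group G] [Finite G] (χ : Cfsg.IrrCharacter G)
    (hχ : χ ≠ trivIrr G) : irrKer χ ≠ ⊤ := by
  intro hker
  apply hχ
  have hall : ∀ g : G, (χ : G → ℂ) g = (χ : G → ℂ) 1 := by
    intro g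
    apply (mem_irrKer χ g).1
    rw [hker]
    exact Subgroup.mem_top g
  have h1 : (χ : G → ℂ) 1 = 1 := xs_linear_of_comm_le_ker χ (fun w _ => hall w)
  apply Subtype.ext
  funext g
  rw [hall g, h1]
  rfl

end Cfsg.Agent.Lib.Helper24

namespace Cfsg.Agent.Lib.Helper24

open scoped ComplexConjugate
open Cfsg.Agent.Lib.Helper25 Cfsg.Agent.Lib.helper7

theorem pc_invol_four {G : Type*} [Group G] [Finite G] (M : Ideal Cfsg.AlgInt)
    (hM : Cfsg.IsPModular 2 M) (P : Subgroup G) (t : G) (ht : orderOf t = 2)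
    (θ : ↥P → ℂ) (hθ : Cfsg.IsGeneralizedCharacter ↥P θ)
    (h1 : ∑ᶠ χ ∈ Cfsg.principalBlock M G,
      ((Nat.card ↥P : ℂ)⁻¹ * ∑ᶠ y : ↥P, (χ : G → ℂ) (y : G) * θ y⁻¹) *
        (χ : G → ℂ) t ^ 2 / (χ : G → ℂ) 1 = 0)
    (h2 : ∑ᶠ χ ∈ Cfsg.principalBlock M G,
      ((Nat.card ↥P : ℂ)⁻¹ * ∑ᶠ y : ↥P, (χ : G → ℂ) (y : G) * θ y⁻¹) * (χ : G → ℂ) 1 = 0)
    (h3 : ∑ᶠ χ ∈ Cfsg.principalBlock M G,
      ((Nat.card ↥P : ℂ)⁻¹ * ∑ᶠ y : ↥P, (χ : G → ℂ) (y : G) * θ y⁻¹) * (χ : G → ℂ) t = 0)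
    (hA : (Nat.card ↥P : ℂ)⁻¹ * ∑ᶠ y : ↥P, θ y ≠ 0) :
    (2 ≤ Nat.card {χ : Cfsg.IrrCharacter G // χ ∈ Cfsg.principalBlock M G ∧
        0 < (((Nat.card ↥P : ℂ)⁻¹ * ∑ᶠ y : ↥P, (χ : G → ℂ) (y : G) * θ y⁻¹)).re} ∧
      2 ≤ Nat.card {χ : Cfsg.IrrCharacter G // χ ∈ Cfsg.principalBlock M G ∧
        (((Nat.card ↥P : ℂ)⁻¹ * ∑ᶠ y : ↥P, (χ : G → ℂ) (y : G) * θ y⁻¹)).re < 0}) ∨
    ∃ K : Subgroup G, K.Normal ∧ K ≠ ⊤ ∧ Cfsg.pPrimeCore 2 G ≤ K ∧ t ∈ K := by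
  classical
  haveI : Fact (Nat.Prime 2) := ⟨Nat.prime_two⟩
  letI : Fintype G := Fintype.ofFinite G
  haveI : Fintype (Cfsg.IrrCharacter G) := Fintype.ofFinite _
  letI : Fintype ↥P := Fintype.ofFinite ↥P
  have hPr := hM.2.1.isPrime
  have htt : t * t = 1 := by rw [← pow_two, ← ht, pow_orderOf_eq_one]
  have htinv : t⁻¹ = t := inv_eq_of_mul_eq_one_left htt
  obtain ⟨a, ha⟩ : ∃ a : Cfsg.IrrCharacter G → ℂ, a = fun χ : Cfsg.IrrCharacter G =>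
      (Nat.card ↥P : ℂ)⁻¹ * ∑ᶠ y : ↥P, (χ : G → ℂ) (y : G) * θ y⁻¹ := ⟨_, rfl⟩
  have ha' : ∀ χ : Cfsg.IrrCharacter G,
      (Nat.card ↥P : ℂ)⁻¹ * ∑ᶠ y : ↥P, (χ : G → ℂ) (y : G) * θ y⁻¹ = a χ := by
    intro χ
    rw [ha]
  simp only [ha'] at h1 h2 h3 ⊢
  have hreal : ∀ χ : Cfsg.IrrCharacter G, (((χ : G → ℂ) t).re : ℂ) = (χ : G → ℂ) t := by
    intro χ
    apply Complex.conj_eq_iff_re.mp
    rw [← irr_inv, htinv]
  have hdeg : ∀ χ : Cfsg.IrrCharacter G,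
      (((χ : G → ℂ) 1).re : ℂ) = (χ : G → ℂ) 1 ∧ 0 < ((χ : G → ℂ) 1).re := by
    intro χ
    obtain ⟨n, hn, h⟩ := irr_one_eq_finrank χ
    rw [h]
    simp only [Complex.natCast_re]
    exact ⟨by push_cast; rfl, by exact_mod_cast hn⟩
  have htriv : trivIrr G ∈ Cfsg.principalBlock M G := h7_sameBlock_refl hPr _
  have hatriv : a (trivIrr G) = (Nat.card ↥P : ℂ)⁻¹ * ∑ᶠ y : ↥P, θ y := by
    rw [ha]
    simp only [trivIrr_apply, one_mul]
    congr 1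
    rw [finsum_eq_sum_of_fintype, finsum_eq_sum_of_fintype]
    exact Fintype.sum_equiv (Equiv.inv ↥P) _ _ (fun y => rfl)
  have hr0 : (a (trivIrr G)).re ≠ 0 := by
    rw [hatriv]
    obtain ⟨n, hn⟩ := pc_gen_avg_int θ hθ
    rw [hn] at hA ⊢
    simp only [Complex.intCast_re]
    intro h0
    apply hA
    have : n = 0 := by exact_mod_cast h0
    rw [this]
    simp
  haveI : Fintype {χ : Cfsg.IrrCharacter G // χ ∈ Cfsg.principalBlock M G} := Fintype.ofFinite _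
  have hconv : ∀ f : Cfsg.IrrCharacter G → ℂ,
      ∑ᶠ χ ∈ Cfsg.principalBlock M G, f χ = 0 →
      ∑ i : {χ : Cfsg.IrrCharacter G // χ ∈ Cfsg.principalBlock M G}, (f i.1).re = 0 := by
    intro f hf
    rw [← finsum_set_coe_eq_finsum_mem, finsum_eq_sum_of_fintype] at hf
    have := congrArg Complex.re hf
    rw [Complex.re_sum] at this
    simpa using this
  have r1 := hconv _ h2
  have r2 := hconv _ h3
  have r3 := hconv _ h1
  have e1 : ∀ χ : Cfsg.IrrCharacter G, (a χ * (χ : G → ℂ) 1).re =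
      (a χ).re * ((χ : G → ℂ) 1).re := by
    intro χ
    rw [← (hdeg χ).1, Complex.re_mul_ofReal, Complex.ofReal_re]
  have e2 : ∀ χ : Cfsg.IrrCharacter G, (a χ * (χ : G → ℂ) t).re =
      (a χ).re * ((χ : G → ℂ) t).re := by
    intro χ
    rw [← hreal χ, Complex.re_mul_ofReal, Complex.ofReal_re]
  have e3 : ∀ χ : Cfsg.IrrCharacter G, (a χ * (χ : G → ℂ) t ^ 2 / (χ : G → ℂ) 1).re =
      (a χ).re * ((χ : G → ℂ) t).re ^ 2 / ((χ : G → ℂ) 1).re := by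
    intro χ
    have : a χ * (χ : G → ℂ) t ^ 2 / (χ : G → ℂ) 1 =
        a χ * ((((χ : G → ℂ) t).re ^ 2 / ((χ : G → ℂ) 1).re : ℝ) : ℂ) := by
      push_cast
      rw [hreal χ, (hdeg χ).1, mul_div_assoc]
    rw [this, Complex.re_mul_ofReal, mul_div_assoc]
  simp only [e1] at r1
  simp only [e2] at r2
  simp only [e3] at r3
  rcases pc_sign (ι := {χ : Cfsg.IrrCharacter G // χ ∈ Cfsg.principalBlock M G})
    (fun i => (a i.1).re) (fun i => ((i.1 : G → ℂ) 1).re) (fun i => ((i.1 : G → ℂ) t).re)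
    (fun i => (hdeg i.1).2) r1 r2 r3 ⟨trivIrr G, htriv⟩ (by simp) (by simp) hr0 with h | h
  · left
    obtain ⟨hp, hn⟩ := h
    constructor
    · rw [← Nat.card_congr (Equiv.subtypeSubtypeEquivSubtypeInter
        (fun χ : Cfsg.IrrCharacter G => χ ∈ Cfsg.principalBlock M G)
        (fun χ => 0 < (a χ).re))]
      exact hp
    · rw [← Nat.card_congr (Equiv.subtypeSubtypeEquivSubtypeInter
        (fun χ : Cfsg.IrrCharacter G => χ ∈ Cfsg.principalBlock M G)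
        (fun χ => (a χ).re < 0))]
      exact hn
  · right
    obtain ⟨i, hi0, hir, hiv⟩ := h
    refine ⟨irrKer i.1, inferInstance, ?_, ?_, ?_⟩
    · apply pc_irrKer_ne_top
      intro hc
      apply hi0
      exact Subtype.ext hc
    · intro n hn
      exact (mem_irrKer i.1 n).2 (fg_principal_le 2 M hM i.1 i.2 n hn)
    · rw [mem_irrKer, ← hreal i.1, ← (hdeg i.1).1]
      rw [hiv]

end Cfsg.Agent.Lib.Helper24
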