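import Mathlib
import Cfsg.Agent.Lib.Helper24.AF3Key
import Cfsg.Agent.Lib.Helper24.AF3Alg
import Cfsg.Agent.Lib.Helper24.PrincCol8
import Cfsg.Agent.Lib.helper7.Q8Cent
import Cfsg.Agent.Lib.helper7.SecondMain3

set_option autoImplicit false
set_option linter.style.haveILetI false
set_option linter.unusedSectionVars false
set_option linter.unusedVariables false
set_option maxHeartbeats 1600000
open Classical

namespace Cfsg.Agent.Lib.Helper24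

open Cfsg.Agent.Lib.Helper29 Cfsg.Agent.Lib.Helper25 Cfsg.Agent.Lib.helper7

theorem af3_four {G : Type*} [Group G] [Finite G] (p : ℕ) [Fact p.Prime] (M : Ideal Cfsg.AlgInt)
    (hM : Cfsg.IsPModular p M) (P : Sylow p G) (h : AFSetup p P)
    (hm2 : 3 + 1 < Nat.card ↥(P : Subgroup G))
    (hCN : (Subgroup.centralizer ((P : Subgroup G) : Set G)).relIndex
      (Subgroup.normalizer ((P : Subgroup G) : Set G)) = 3)
    (X Y : Set (Cfsg.IrrCharacter G)) (hdisj : Disjoint X Y) (hXc : Nat.card X = 3)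
    (χ₁ : Cfsg.IrrCharacter G) (hχ₁X : χ₁ ∈ X) (hχ₁ : (χ₁ : G → ℂ) = fun _ => 1)
    (a : Cfsg.IrrCharacter G → ℤ) (δ : ℤ) (ζ : (↥(P : Subgroup G) →* ℂˣ) → Cfsg.IrrCharacter G)
    (hδ : δ = 1 ∨ δ = -1)
    (hX : ∀ χ ∈ X, (a χ = 1 ∨ a χ = -1) ∧ ∀ z y : G, Cfsg.IsPPart p z y → y ∈ (P : Subgroup G) →
      y ≠ 1 → (χ : G → ℂ) z = (a χ : ℂ))
    (hζY : ∀ ψ : ↥(P : Subgroup G) →* ℂˣ, ψ ≠ 1 → ζ ψ ∈ Y)
    (hζval : ∀ ψ : ↥(P : Subgroup G) →* ℂˣ, ψ ≠ 1 → ∀ (z : G) (y : ↥(P : Subgroup G)),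
      Cfsg.IsPPart p z (y : G) → (y : G) ≠ 1 →
      (ζ ψ : G → ℂ) z = (δ : ℂ) *
        ∑ᶠ ψ' ∈ {ψ' : ↥(P : Subgroup G) →* ℂˣ | afRel (P : Subgroup G) ψ ψ'},
          ((ψ' y : ℂˣ) : ℂ))
    (hYreg : ∀ η ∈ Y, ∀ η' ∈ Y, ∀ g : G, ¬ p ∣ orderOf g → (η : G → ℂ) g = (η' : G → ℂ) g)
    (hrel : ∀ η ∈ Y, ∀ g : G, ¬ p ∣ orderOf g →
      -(δ : ℂ) * (η : G → ℂ) g + ∑ᶠ χ ∈ X, (a χ : ℂ) * (χ : G → ℂ) g = 0)
    (t : G) (ht : orderOf t = 2) (hnorm : ∀ K : Subgroup G, K.Normal → t ∈ K → K = ⊤) :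
    Nat.card {χ : Cfsg.IrrCharacter G // χ ∈ X ∧ (χ : G → ℂ) ≠ (fun _ => 1) ∧ a χ = -1} +
        (if δ = 1 then 1 else 0) = 2 ∧
      ∀ η ∈ Y, IsSquare (Cfsg.charDegree (η : G → ℂ) *
        ∏ᶠ χ ∈ {χ : Cfsg.IrrCharacter G | χ ∈ X ∧ (χ : G → ℂ) ≠ fun _ => 1},
          Cfsg.charDegree (χ : G → ℂ)) := by
  have hpp : p.Prime := Fact.out
  haveI : Fintype G := Fintype.ofFinite G
  haveI : Fintype (Cfsg.IrrCharacter G) := Fintype.ofFinite _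
  haveI : Fintype ↥(P : Subgroup G) := Fintype.ofFinite _
  haveI : Finite (↥(P : Subgroup G) →* ℂˣ) := Nat.finite_of_card_ne_zero (by
    rw [afd_card_dual h.comm]
    exact Nat.card_pos.ne')
  haveI : Fintype (↥(P : Subgroup G) →* ℂˣ) := Fintype.ofFinite _
  haveI : Fintype ↥(Subgroup.normalizer ((P : Subgroup G) : Set G)) := Fintype.ofFinite _
  haveI : Fintype ↥(Subgroup.centralizer ((P : Subgroup G) : Set G)) := Fintype.ofFinite _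
  have hp1 : ¬ p ∣ 1 := fun hh => hpp.one_lt.ne' (Nat.dvd_one.mp hh)
  have htt : t * t = 1 := by rw [← pow_two, ← ht, pow_orderOf_eq_one]
  have hXfin : X.Finite := Set.toFinite X
  obtain ⟨Xf, hXf⟩ : ∃ Xf : Finset (Cfsg.IrrCharacter G), Xf = hXfin.toFinset := ⟨_, rfl⟩
  have hXfmem : ∀ χ, χ ∈ Xf ↔ χ ∈ X := by
    intro χ; rw [hXf, Set.Finite.mem_toFinset]
  have hXfcard : Xf.card = 3 := by
    rw [← hXc, Nat.card_coe_set_eq, Set.ncard_eq_toFinset_card X hXfin, hXf]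
  have herase : (Xf.erase χ₁).card = 2 := by
    rw [Finset.card_erase_of_mem ((hXfmem χ₁).mpr hχ₁X), hXfcard]
  obtain ⟨χ₂, χ₃, h23, hpair⟩ := Finset.card_eq_two.mp herase
  have hχ₂e : χ₂ ∈ Xf.erase χ₁ := by rw [hpair]; simp
  have hχ₃e : χ₃ ∈ Xf.erase χ₁ := by rw [hpair]; simp
  have h21 : χ₂ ≠ χ₁ := (Finset.mem_erase.mp hχ₂e).1
  have h31 : χ₃ ≠ χ₁ := (Finset.mem_erase.mp hχ₃e).1
  have hχ₂X : χ₂ ∈ X := (hXfmem χ₂).mp (Finset.mem_erase.mp hχ₂e).2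
  have hχ₃X : χ₃ ∈ X := (hXfmem χ₃).mp (Finset.mem_erase.mp hχ₃e).2
  have hXfeq : Xf = insert χ₁ ({χ₂, χ₃} : Finset (Cfsg.IrrCharacter G)) := by
    rw [← hpair, Finset.insert_erase ((hXfmem χ₁).mpr hχ₁X)]
  have hXiff : ∀ χ, χ ∈ X ↔ χ = χ₁ ∨ χ = χ₂ ∨ χ = χ₃ := by
    intro χ
    rw [← hXfmem, hXfeq]
    simp
  have h1not : χ₁ ∉ ({χ₂, χ₃} : Finset (Cfsg.IrrCharacter G)) := by
    simp only [Finset.mem_insert, Finset.mem_singleton, not_or]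
    exact ⟨h21.symm, h31.symm⟩
  have hsumX : ∀ f : Cfsg.IrrCharacter G → ℂ, ∑ᶠ χ ∈ X, f χ = f χ₁ + f χ₂ + f χ₃ := by
    intro f
    rw [af_finsum_eq X Xf hXfmem, hXfeq, Finset.sum_insert h1not, Finset.sum_pair h23]
    ring
  have htriv_eq : ∀ χ : Cfsg.IrrCharacter G, (χ : G → ℂ) = (fun _ => 1) → χ = χ₁ := by
    intro χ hχ
    apply Subtype.ext
    rw [hχ, hχ₁]
  have h2fun : (χ₂ : G → ℂ) ≠ fun _ => 1 := fun hh => h21 (htriv_eq χ₂ hh)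
  have h3fun : (χ₃ : G → ℂ) ≠ fun _ => 1 := fun hh => h31 (htriv_eq χ₃ hh)
  obtain ⟨y₀, hy₀⟩ := Fintype.exists_ne_of_one_lt_card
    (by rw [← Nat.card_eq_fintype_card]; omega : 1 < Fintype.card ↥(P : Subgroup G))
    (1 : ↥(P : Subgroup G))
  have ha1 : a χ₁ = 1 := by
    have hy₀G : (y₀ : G) ≠ 1 := fun hh => hy₀ (Subtype.ext hh)
    have h1 := (hX χ₁ hχ₁X).2 (y₀ : G) (y₀ : G)
      (pc_isPPart_self p (y₀ : G) (af_order_pow P y₀.2)) y₀.2 hy₀G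
    rw [hχ₁] at h1
    have h2 : ((1 : ℤ) : ℂ) = ((a χ₁ : ℤ) : ℂ) := by rw [← h1]; simp
    exact (Int.cast_injective h2).symm
  have ha2 := (hX χ₂ hχ₂X).1
  have ha3 := (hX χ₃ hχ₃X).1
  have ha2sq : (a χ₂ : ℂ) * (a χ₂ : ℂ) = 1 := by
    rcases ha2 with h1 | h1 <;> rw [h1] <;> norm_num
  have ha3sq : (a χ₃ : ℂ) * (a χ₃ : ℂ) = 1 := by
    rcases ha3 with h1 | h1 <;> rw [h1] <;> norm_num
  have hδsq : (δ : ℂ) * (δ : ℂ) = 1 := by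
    rcases hδ with h1 | h1 <;> rw [h1] <;> norm_num
  obtain ⟨ψ₀, hψ₀, hgood⟩ := af3_good_psi h hCN hm2 t ht
  obtain ⟨η₀, hη₀def⟩ : ∃ η₀ : Cfsg.IrrCharacter G, η₀ = ζ ψ₀ := ⟨_, rfl⟩
  have hη₀Y : η₀ ∈ Y := by rw [hη₀def]; exact hζY ψ₀ hψ₀
  obtain ⟨Θ, hΘdef⟩ : ∃ Θ : G → ℂ, Θ = fun g => -(δ : ℂ) * (η₀ : G → ℂ) g +
      (1 + (a χ₂ : ℂ) * (χ₂ : G → ℂ) g + (a χ₃ : ℂ) * (χ₃ : G → ℂ) g) := ⟨_, rfl⟩
  have hΘreg : ∀ g : G, ¬ p ∣ orderOf g → Θ g = 0 := by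
    intro g hg
    have := hrel η₀ hη₀Y g hg
    rw [hsumX, ha1, hχ₁] at this
    rw [hΘdef]
    simp only
    rw [← this]
    push_cast
    ring
  have hΘconj : ∀ c z : G, Θ (c * z * c⁻¹) = Θ z := by
    intro c z
    rw [hΘdef]
    simp only [irr_conj_invariant]
  have hΘsing : ∀ (z : G) (y₁ : ↥(P : Subgroup G)), Cfsg.IsPPart p z (y₁ : G) → (y₁ : G) ≠ 1 →
      IsConj t (y₁ : G) → Θ z = 0 := by
    intro z y₁ hz hy1 hc
    have e2 := (hX χ₂ hχ₂X).2 z (y₁ : G) hz y₁.2 hy1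
    have e3 := (hX χ₃ hχ₃X).2 z (y₁ : G) hz y₁.2 hy1
    have e4 := hζval ψ₀ hψ₀ z y₁ hz hy1
    have hsum3 : ∑ᶠ ψ' ∈ {ψ' : ↥(P : Subgroup G) →* ℂˣ | afRel (P : Subgroup G) ψ₀ ψ'},
        ((ψ' y₁ : ℂˣ) : ℂ) = 3 := by
      rw [af_finsum_eq _ (Finset.univ.filter (fun ψ' : ↥(P : Subgroup G) →* ℂˣ =>
        afRel (P : Subgroup G) ψ₀ ψ')) (fun x => by rw [Finset.mem_filter]; simp)]
      have h1 : ∀ ψ' ∈ Finset.univ.filter (fun ψ' : ↥(P : Subgroup G) →* ℂˣ =>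
          afRel (P : Subgroup G) ψ₀ ψ'), ((ψ' y₁ : ℂˣ) : ℂ) = 1 := by
        intro ψ' hψ'
        rw [Finset.mem_filter] at hψ'
        rw [hgood y₁ hc ψ' hψ'.2]
        simp
      rw [Finset.sum_congr rfl h1, Finset.sum_const, af_orbit_card h 3 hCN ψ₀ hψ₀]
      simp
    rw [hΘdef]
    simp only
    rw [← hη₀def] at e4
    rw [e2, e3, e4, hsum3]
    linear_combination (-3 : ℂ) * hδsq + ha2sq + ha3sq
  have hΘ : ∀ z : G, (∀ y : G, Cfsg.IsPPart p z y → y ≠ 1 → IsConj t y) → Θ z = 0 := by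
    intro z hz
    obtain ⟨y, hy⟩ := h7_exists_isPPart p z
    by_cases hy1 : y = 1
    · subst hy1
      obtain ⟨y', h1, _, _, h2⟩ := hy
      rw [one_mul] at h1
      rw [← h1]
      exact hΘreg y' h2
    · have hc := hz y hy hy1
      have hy' := hy
      obtain ⟨y', _, _, ⟨k, hk⟩, _⟩ := hy
      have hyP : IsPGroup p (Subgroup.zpowers y) := by
        apply IsPGroup.of_card (n := k)
        rw [Nat.card_zpowers, hk]
      obtain ⟨c, hcP⟩ := af3_conj_le_sylow p (Subgroup.zpowers y) hyP P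
      have hcy := hcP y (Subgroup.mem_zpowers y)
      rw [← hΘconj c z]
      apply hΘsing (c * z * c⁻¹) ⟨c * y * c⁻¹, hcy⟩ (h7_isPPart_conj c z y hy')
      · intro h1
        have h1' : c * y * c⁻¹ = 1 := h1
        apply hy1
        have : y = c⁻¹ * (c * y * c⁻¹) * c := by group
        rw [this, h1']; group
      · exact hc.trans (isConj_iff.mpr ⟨c, rfl⟩)
  have E1 : Θ 1 = 0 := hΘreg 1 (by rw [orderOf_one]; exact hp1)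
  have E2 : Θ t = 0 := by
    apply hΘ
    intro y hy hy1
    have h1 := h7_ppart_mem_zpowers_pow p t y hy 1 hp1
    rw [pow_one, mem_zpowers_iff_mem_range_orderOf, ht] at h1
    simp only [Finset.mem_image, Finset.mem_range] at h1
    obtain ⟨j, hj, rfl⟩ := h1
    interval_cases j
    · exact absurd (pow_zero t) hy1
    · rw [pow_one]
  have E3 : ∀ g : G, Θ (g * t * g⁻¹ * t) = 0 := by
    intro g
    apply hΘ
    intro y hy hy1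
    exact af3_K1 h hCN t ht g y hy hy1
  obtain ⟨v₂, hv₂⟩ := af3_invol_int χ₂ t ht
  obtain ⟨v₃, hv₃⟩ := af3_invol_int χ₃ t ht
  obtain ⟨v₄, hv₄⟩ := af3_invol_int η₀ t ht
  obtain ⟨hx₂, hx₂pos⟩ := charDegree_irr χ₂
  obtain ⟨hx₃, hx₃pos⟩ := charDegree_irr χ₃
  obtain ⟨hf, hfpos⟩ := charDegree_irr η₀
  have hE1 : 1 + a χ₂ * (Cfsg.charDegree (χ₂ : G → ℂ) : ℤ) +
      a χ₃ * (Cfsg.charDegree (χ₃ : G → ℂ) : ℤ) - δ * (Cfsg.charDegree (η₀ : G → ℂ) : ℤ) = 0 := by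
    rw [hΘdef] at E1
    simp only at E1
    rw [← hx₂, ← hx₃, ← hf] at E1
    have : ((1 + a χ₂ * (Cfsg.charDegree (χ₂ : G → ℂ) : ℤ) +
      a χ₃ * (Cfsg.charDegree (χ₃ : G → ℂ) : ℤ) - δ * (Cfsg.charDegree (η₀ : G → ℂ) : ℤ) : ℤ) : ℂ) =
        ((0 : ℤ) : ℂ) := by
      push_cast
      linear_combination E1
    exact_mod_cast this
  have hE2 : 1 + a χ₂ * v₂ + a χ₃ * v₃ - δ * v₄ = 0 := by
    rw [hΘdef] at E2
    simp only at E2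
    rw [hv₂, hv₃, hv₄] at E2
    have : ((1 + a χ₂ * v₂ + a χ₃ * v₃ - δ * v₄ : ℤ) : ℂ) = ((0 : ℤ) : ℂ) := by
      push_cast
      linear_combination E2
    exact_mod_cast this
  have hcG : (Nat.card G : ℂ) ≠ 0 := by exact_mod_cast Nat.card_pos.ne'
  have hx₂ne : ((Cfsg.charDegree (χ₂ : G → ℂ) : ℕ) : ℂ) ≠ 0 := by exact_mod_cast hx₂pos.ne'
  have hx₃ne : ((Cfsg.charDegree (χ₃ : G → ℂ) : ℕ) : ℂ) ≠ 0 := by exact_mod_cast hx₃pos.ne'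
  have hfne : ((Cfsg.charDegree (η₀ : G → ℂ) : ℕ) : ℂ) ≠ 0 := by exact_mod_cast hfpos.ne'
  have hE3 : ((Cfsg.charDegree (χ₂ : G → ℂ) : ℕ) : ℤ) * (Cfsg.charDegree (χ₃ : G → ℂ) : ℤ) *
      (Cfsg.charDegree (η₀ : G → ℂ) : ℤ) +
      a χ₂ * v₂ ^ 2 * (Cfsg.charDegree (χ₃ : G → ℂ) : ℤ) * (Cfsg.charDegree (η₀ : G → ℂ) : ℤ) +
      a χ₃ * v₃ ^ 2 * (Cfsg.charDegree (χ₂ : G → ℂ) : ℤ) * (Cfsg.charDegree (η₀ : G → ℂ) : ℤ) -
      δ * v₄ ^ 2 * (Cfsg.charDegree (χ₂ : G → ℂ) : ℤ) * (Cfsg.charDegree (χ₃ : G → ℂ) : ℤ) = 0 := by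
    have hsum : ∑ g : G, Θ (g * t * g⁻¹ * t) = 0 :=
      Finset.sum_eq_zero (fun g _ => E3 g)
    rw [hΘdef] at hsum
    simp only [Finset.sum_add_distrib, ← Finset.mul_sum, irr_sum_conj_mul, Finset.sum_const,
      Finset.card_univ, nsmul_eq_mul, mul_one] at hsum
    rw [hv₂, hv₃, hv₄, ← hx₂, ← hx₃, ← hf, ← Nat.card_eq_fintype_card] at hsum
    have hmain : (1 : ℂ) + (a χ₂ : ℂ) * ((v₂ : ℂ) * v₂ / (Cfsg.charDegree (χ₂ : G → ℂ) : ℂ)) +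
        (a χ₃ : ℂ) * ((v₃ : ℂ) * v₃ / (Cfsg.charDegree (χ₃ : G → ℂ) : ℂ)) -
        (δ : ℂ) * ((v₄ : ℂ) * v₄ / (Cfsg.charDegree (η₀ : G → ℂ) : ℂ)) = 0 := by
      have h5 : (Nat.card G : ℂ) * ((1 : ℂ) + (a χ₂ : ℂ) * ((v₂ : ℂ) * v₂ /
          (Cfsg.charDegree (χ₂ : G → ℂ) : ℂ)) +
        (a χ₃ : ℂ) * ((v₃ : ℂ) * v₃ / (Cfsg.charDegree (χ₃ : G → ℂ) : ℂ)) -
        (δ : ℂ) * ((v₄ : ℂ) * v₄ / (Cfsg.charDegree (η₀ : G → ℂ) : ℂ))) = 0 := by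
        rw [← hsum]
        ring
      rcases mul_eq_zero.mp h5 with h6 | h6
      · exact absurd h6 hcG
      · exact h6
    have : ((((Cfsg.charDegree (χ₂ : G → ℂ) : ℕ) : ℤ) * (Cfsg.charDegree (χ₃ : G → ℂ) : ℤ) *
      (Cfsg.charDegree (η₀ : G → ℂ) : ℤ) +
      a χ₂ * v₂ ^ 2 * (Cfsg.charDegree (χ₃ : G → ℂ) : ℤ) * (Cfsg.charDegree (η₀ : G → ℂ) : ℤ) +
      a χ₃ * v₃ ^ 2 * (Cfsg.charDegree (χ₂ : G → ℂ) : ℤ) * (Cfsg.charDegree (η₀ : G → ℂ) : ℤ) -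
      δ * v₄ ^ 2 * (Cfsg.charDegree (χ₂ : G → ℂ) : ℤ) * (Cfsg.charDegree (χ₃ : G → ℂ) : ℤ) : ℤ) : ℂ) =
        ((0 : ℤ) : ℂ) := by
      push_cast
      field_simp at hmain
      linear_combination hmain
    exact_mod_cast this
  have hker : ∀ χ : Cfsg.IrrCharacter G, χ ≠ χ₁ → (χ : G → ℂ) t ≠ (χ : G → ℂ) 1 := by
    intro χ hχ hval
    have hmem : t ∈ irrKer χ := (mem_irrKer χ t).mpr hval
    have htop := hnorm (irrKer χ) inferInstance hmem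
    apply pc_irrKer_ne_top χ ?_ htop
    intro hh
    apply hχ
    apply htriv_eq
    rw [hh]
    rfl
  have hη₀1 : η₀ ≠ χ₁ := by
    intro hh
    rw [hh] at hη₀Y
    exact (Set.disjoint_left.mp hdisj hχ₁X) hη₀Y
  have N2 : v₂ ≠ (Cfsg.charDegree (χ₂ : G → ℂ) : ℤ) := by
    intro hh
    apply hker χ₂ h21
    rw [hv₂, ← hx₂, hh]
    simp
  have N3 : v₃ ≠ (Cfsg.charDegree (χ₃ : G → ℂ) : ℤ) := by
    intro hh
    apply hker χ₃ h31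
    rw [hv₃, ← hx₃, hh]
    simp
  have N4 : v₄ ≠ (Cfsg.charDegree (η₀ : G → ℂ) : ℤ) := by
    intro hh
    apply hker η₀ hη₀1
    rw [hv₄, ← hf, hh]
    simp
  obtain ⟨hcount, hsq⟩ := af3_alg (a χ₂) (a χ₃) δ ha2 ha3 hδ _ _ _ hx₂pos hx₃pos hfpos
    v₂ v₃ v₄ hE1 hE2 hE3 N2 N3 N4
  constructor
  · have hset : {χ : Cfsg.IrrCharacter G | χ ∈ X ∧ (χ : G → ℂ) ≠ (fun _ => 1) ∧ a χ = -1} =
        ↑(({χ₂, χ₃} : Finset (Cfsg.IrrCharacter G)).filter (fun χ => a χ = -1)) := by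
      ext χ
      simp only [Set.mem_ofPred_eq, Finset.coe_filter, Finset.mem_insert, Finset.mem_singleton]
      rw [hXiff]
      constructor
      · rintro ⟨h1 | h1 | h1, h2, h3⟩
        · exact absurd (by rw [h1, hχ₁]) h2
        · exact ⟨Or.inl h1, h3⟩
        · exact ⟨Or.inr h1, h3⟩
      · rintro ⟨h1 | h1, h3⟩
        · exact ⟨Or.inr (Or.inl h1), by rw [h1]; exact h2fun, h3⟩
        · exact ⟨Or.inr (Or.inr h1), by rw [h1]; exact h3fun, h3⟩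
    have hcard : Nat.card {χ : Cfsg.IrrCharacter G // χ ∈ X ∧ (χ : G → ℂ) ≠ (fun _ => 1) ∧
        a χ = -1} = (if a χ₂ = -1 then 1 else 0) + (if a χ₃ = -1 then 1 else 0) := by
      have : Nat.card {χ : Cfsg.IrrCharacter G // χ ∈ X ∧ (χ : G → ℂ) ≠ (fun _ => 1) ∧
          a χ = -1} = Nat.card ↥{χ : Cfsg.IrrCharacter G | χ ∈ X ∧ (χ : G → ℂ) ≠ (fun _ => 1) ∧
          a χ = -1} := rfl
      rw [this, hset, Nat.card_coe_set_eq, Set.ncard_coe_finset, Finset.filter_insert,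
        Finset.filter_singleton]
      by_cases c2 : a χ₂ = -1 <;> by_cases c3 : a χ₃ = -1 <;> simp [c2, c3, h23]
    rw [hcard]
    exact hcount
  · intro η hη
    have hdeg : Cfsg.charDegree (η : G → ℂ) = Cfsg.charDegree (η₀ : G → ℂ) := by
      have h1 := hYreg η hη η₀ hη₀Y 1 (by rw [orderOf_one]; exact hp1)
      have h2 := (charDegree_irr η).1
      rw [← h2, ← hf] at h1
      exact_mod_cast h1
    have hset : {χ : Cfsg.IrrCharacter G | χ ∈ X ∧ (χ : G → ℂ) ≠ fun _ => 1} =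
        ({χ₂, χ₃} : Set (Cfsg.IrrCharacter G)) := by
      ext χ
      simp only [Set.mem_ofPred_eq, Set.mem_insert_iff, Set.mem_singleton_iff]
      rw [hXiff]
      constructor
      · rintro ⟨h1 | h1 | h1, h2⟩
        · exact absurd (by rw [h1, hχ₁]) h2
        · exact Or.inl h1
        · exact Or.inr h1
      · rintro (h1 | h1)
        · exact ⟨Or.inr (Or.inl h1), by rw [h1]; exact h2fun⟩
        · exact ⟨Or.inr (Or.inr h1), by rw [h1]; exact h3fun⟩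
    rw [hset, finprod_mem_pair h23, hdeg]
    exact hsq

end Cfsg.Agent.Lib.Helper24
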