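import Mathlib
import Cfsg.Agent.Lib.Helper29.AbFrobCons2

set_option autoImplicit false
set_option maxHeartbeats 1600000
open scoped ComplexConjugate
open Classical

namespace Cfsg.Agent.Lib.Helper24

open Cfsg.Agent.Lib.Helper29

theorem af3_main' {G : Type*} [Group G] [Finite G] (p : ℕ) [Fact p.Prime] (M : Ideal Cfsg.AlgInt)
    (hM : Cfsg.IsPModular p M) (P : Sylow p G) (h : AFSetup p P) (m : ℕ)
    (hm2 : m + 1 < Nat.card P)
    (hCN : (Subgroup.centralizer ((P : Subgroup G) : Set G)).relIndex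
      (Subgroup.normalizer ((P : Subgroup G) : Set G)) = m) :
    ∃ (s : ℕ) (X Y : Set (Cfsg.IrrCharacter G)), s ≤ m ∧ Cfsg.principalBlock M G = X ∪ Y ∧
      Disjoint X Y ∧ Nat.card X = s ∧ Nat.card Y = (Nat.card P - 1) / m ∧
      (∃ χ₁ ∈ X, (χ₁ : G → ℂ) = fun _ => 1) ∧
      ∃ (a : Cfsg.IrrCharacter G → ℤ) (d δ : ℤ)
        (ζ : (↥(P : Subgroup G) →* ℂˣ) → Cfsg.IrrCharacter G),
        (δ = 1 ∨ δ = -1) ∧
        (∀ χ ∈ X, a χ ≠ 0 ∧ ∀ z y : G, Cfsg.IsPPart p z y → y ∈ (P : Subgroup G) → y ≠ 1 →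
          (χ : G → ℂ) z = (a χ : ℂ)) ∧
        (∀ ψ : ↥(P : Subgroup G) →* ℂˣ, ψ ≠ 1 → ζ ψ ∈ Y) ∧
        (∀ η ∈ Y, ∃ ψ : ↥(P : Subgroup G) →* ℂˣ, ψ ≠ 1 ∧ ζ ψ = η) ∧
        (∀ ψ ψ' : ↥(P : Subgroup G) →* ℂˣ, ψ ≠ 1 → afRel (P : Subgroup G) ψ ψ' → ζ ψ' = ζ ψ) ∧
        (∀ ψ : ↥(P : Subgroup G) →* ℂˣ, ψ ≠ 1 → ∀ (z : G) (y : ↥(P : Subgroup G)),
          Cfsg.IsPPart p z (y : G) → (y : G) ≠ 1 →
          (ζ ψ : G → ℂ) z = (d : ℂ) + (δ : ℂ) *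
            ∑ᶠ ψ' ∈ {ψ' : ↥(P : Subgroup G) →* ℂˣ | afRel (P : Subgroup G) ψ ψ'},
              ((ψ' y : ℂˣ) : ℂ)) ∧
        ((d - δ) ^ 2 + ((((Nat.card P - 1) / m : ℕ) : ℤ) - 1) * d ^ 2 + ∑ᶠ χ ∈ X, a χ ^ 2 =
          (m : ℤ) + 1) ∧
        (∀ η ∈ Y, ∀ η' ∈ Y, ∀ g : G, ¬ p ∣ orderOf g → (η : G → ℂ) g = (η' : G → ℂ) g) ∧
        (∀ η ∈ Y, ∀ g : G, ¬ p ∣ orderOf g →
          ((((Nat.card P - 1) / m : ℕ) : ℂ) * d - δ) * (η : G → ℂ) g +
            ∑ᶠ χ ∈ X, (a χ : ℂ) * (χ : G → ℂ) g = 0) ∧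
        Nat.card Y * m = Nat.card P - 1 := by
  haveI : Fintype G := Fintype.ofFinite _
  haveI : Fintype (Cfsg.IrrCharacter G) := Fintype.ofFinite _
  haveI : Fintype ↥(P : Subgroup G) := Fintype.ofFinite _
  haveI : Finite (↥(P : Subgroup G) →* ℂˣ) := Nat.finite_of_card_ne_zero (by
    rw [afd_card_dual h.comm]
    exact Nat.card_pos.ne')
  haveI : Fintype (↥(P : Subgroup G) →* ℂˣ) := Fintype.ofFinite _
  haveI : Fintype ↥(Subgroup.normalizer ((P : Subgroup G) : Set G)) := Fintype.ofFinite _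
  haveI : Fintype ↥(Subgroup.centralizer ((P : Subgroup G) : Set G)) := Fintype.ofFinite _
  set Bf : Finset (Cfsg.IrrCharacter G) :=
    Finset.univ.filter (fun χ => χ ∈ Cfsg.principalBlock M G) with hBfdef
  have hBf : ∀ χ, χ ∈ Bf ↔ χ ∈ Cfsg.principalBlock M G := by
    intro χ
    simp [hBfdef]
  obtain ⟨σ, base, e, hσ, he, hv⟩ := af_structure hM Bf hBf h m hCN hm2
  have hσσ : σ * σ = 1 := by
    rcases hσ with h1 | h1 <;> rw [h1] <;> norm_num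
  set a : Cfsg.IrrCharacter G → ℤ :=
    fun χ => (afMu (P : Subgroup G) χ 1 : ℤ) - base χ with ha
  set Yf : Finset (Cfsg.IrrCharacter G) := afY e with hYf
  set Xf : Finset (Cfsg.IrrCharacter G) := Bf \ Yf with hXf
  have hYB : Yf ⊆ Bf := by
    intro η hη
    obtain ⟨ψ, hψ, rfl⟩ := (mem_afY e η).mp hη
    exact he ψ hψ
  have hXY : Disjoint Xf Yf := Finset.sdiff_disjoint
  have hXYu : Xf ∪ Yf = Bf := Finset.sdiff_union_of_subset hYB
  have hcardPd : Fintype.card (↥(P : Subgroup G) →* ℂˣ) = Nat.card ↥(P : Subgroup G) := by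
    rw [← Nat.card_eq_fintype_card]
    exact afd_card_dual h.comm
  obtain ⟨ψ₀, hψ₀⟩ := Fintype.exists_ne_of_one_lt_card
    (by rw [hcardPd]; omega : 1 < Fintype.card (↥(P : Subgroup G) →* ℂˣ))
    (1 : ↥(P : Subgroup G) →* ℂˣ)
  obtain ⟨w₀, hw₀⟩ := Fintype.exists_ne_of_one_lt_card
    (by rw [← Nat.card_eq_fintype_card]; omega : 1 < Fintype.card ↥(P : Subgroup G))
    (1 : ↥(P : Subgroup G))
  set d : ℤ := a (e ψ₀) with hd
  have hdc : ∀ ψ : ↥(P : Subgroup G) →* ℂˣ, ψ ≠ 1 → a (e ψ) = d := by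
    intro ψ hψ
    obtain ⟨h1, h2⟩ := af_const hM Bf hBf h σ base e hσ he hv ψ ψ₀ hψ hψ₀
    simp only [hd, ha]
    rw [h1, h2]
  have hdY : ∀ η ∈ Yf, a η = d := by
    intro η hη
    obtain ⟨ψ, hψ, rfl⟩ := (mem_afY e η).mp hη
    exact hdc ψ hψ
  have hcardY : Yf.card * m = Nat.card ↥(P : Subgroup G) - 1 :=
    af_card_Y hM Bf hBf h σ base e hσ he hv m hCN
  have hm0 : 0 < m := by
    rcases Nat.eq_zero_or_pos m with h0 | h0
    · rw [h0, mul_zero] at hcardY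
      omega
    · exact h0
  have hr : (Nat.card ↥(P : Subgroup G) - 1) / m = Yf.card := by
    rw [← hcardY]
    exact Nat.mul_div_cancel _ hm0
  have hr2 : 2 ≤ Yf.card := by
    by_contra hlt
    have h1 : Yf.card ≤ 1 := by omega
    have h2 : Yf.card * m ≤ 1 * m := Nat.mul_le_mul_right m h1
    omega
  have hτB : Cfsg.Agent.Lib.Helper25.trivIrr G ∈ Bf :=
    (hBf _).mpr (Cfsg.Agent.Lib.helper7.h7_sameBlock_refl hM.2.1.isPrime _)
  have hτY : Cfsg.Agent.Lib.Helper25.trivIrr G ∉ Yf :=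
    af_triv_not_mem hM Bf hBf h σ base e hσ he hv m hCN hm2
  have haX : ∀ χ ∈ Xf, a χ ≠ 0 := by
    intro χ hχ h0
    have hχ' := Finset.mem_sdiff.mp hχ
    have h1 := af_values_X Bf h σ base e hv χ hχ'.1 hχ'.2 w₀ hw₀
    have h2 := af_bt5 hM Bf hBf h (w₀ : G) w₀.2 χ hχ'.1
    apply h2
    rw [h1]
    have : a χ = (afMu (P : Subgroup G) χ 1 : ℤ) - base χ := rfl
    rw [← this, h0]
    simp
  have hkey : (d - σ) ^ 2 + ((Yf.card : ℤ) - 1) * d ^ 2 + ∑ χ ∈ Xf, a χ ^ 2 = (m : ℤ) + 1 := by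
    have h1 := af_identity hM Bf hBf h σ base e hσ he hv m hCN ψ₀ hψ₀
    rw [← hXYu, Finset.sum_union hXY] at h1
    have h2 : ∑ χ ∈ Xf, (((afMu (P : Subgroup G) χ 1 : ℤ) - base χ) - σ * afInd χ (e ψ₀)) ^ 2 =
        ∑ χ ∈ Xf, a χ ^ 2 := by
      apply Finset.sum_congr rfl
      intro χ hχ
      have hne : χ ≠ e ψ₀ := by
        intro hh
        have hχ' := Finset.mem_sdiff.mp hχ
        exact hχ'.2 ((mem_afY e χ).mpr ⟨ψ₀, hψ₀, hh.symm⟩)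
      rw [afInd_of_ne hne, mul_zero, sub_zero]
    have h3 : ∑ χ ∈ Yf, (((afMu (P : Subgroup G) χ 1 : ℤ) - base χ) - σ * afInd χ (e ψ₀)) ^ 2 =
        (d - σ) ^ 2 + ((Yf.card : ℤ) - 1) * d ^ 2 := by
      have h4 : ∀ χ ∈ Yf, (((afMu (P : Subgroup G) χ 1 : ℤ) - base χ) - σ * afInd χ (e ψ₀)) ^ 2 =
          d ^ 2 + (1 - 2 * d * σ) * (1 * afInd χ (e ψ₀)) := by
        intro χ hχ
        have h5 := hdY χ hχ
        have h6 : a χ = (afMu (P : Subgroup G) χ 1 : ℤ) - base χ := rfl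
        rw [← h6, h5]
        have h7 := afInd_mul_self χ (e ψ₀)
        linear_combination (σ * σ) * h7 + (afInd χ (e ψ₀)) * hσσ
      rw [Finset.sum_congr rfl h4, Finset.sum_add_distrib, Finset.sum_const, ← Finset.mul_sum,
        af_sum_mul_ind_int Yf (fun _ => (1 : ℤ)) (e ψ₀) ((mem_afY e _).mpr ⟨ψ₀, hψ₀, rfl⟩)]
      rw [nsmul_eq_mul]
      linear_combination (-1 : ℤ) * hσσ
    rw [h2, h3] at h1
    linarith
  have hsle : Xf.card ≤ m := by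
    have h1 : (Xf.card : ℤ) ≤ ∑ χ ∈ Xf, a χ ^ 2 := by
      rw [Finset.card_eq_sum_ones, Nat.cast_sum]
      apply Finset.sum_le_sum
      intro χ hχ
      have := haX χ hχ
      have h2 : 0 < a χ ^ 2 := by positivity
      push_cast
      omega
    have h2 : 1 ≤ (d - σ) ^ 2 + ((Yf.card : ℤ) - 1) * d ^ 2 := by
      by_cases hd0 : d = 0
      · rw [hd0]
        have : (0 - σ) ^ 2 = σ * σ := by ring
        rw [this, hσσ]
        simp
      · have h3 : 1 ≤ d ^ 2 := by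
          have : 0 < d ^ 2 := by positivity
          omega
        have h4 : (1 : ℤ) ≤ (Yf.card : ℤ) - 1 := by
          have : (2 : ℤ) ≤ (Yf.card : ℤ) := by exact_mod_cast hr2
          omega
        have h5 : 0 ≤ (d - σ) ^ 2 := sq_nonneg _
        nlinarith
    have h3 : (Xf.card : ℤ) ≤ (m : ℤ) := by linarith
    exact_mod_cast h3
  refine ⟨Xf.card, ↑Xf, ↑Yf, hsle, ?_, ?_, ?_, ?_, ?_, a, d, σ, e, hσ, ?_, ?_, ?_, ?_, ?_, ?_,
    ?_, ?_, ?_⟩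
  ·
    ext χ
    rw [← Finset.coe_union, hXYu, Finset.mem_coe]
    exact (hBf χ).symm
  · exact Finset.disjoint_coe.mpr hXY
  · rw [Nat.card_coe_set_eq, Set.ncard_coe_finset]
  · rw [Nat.card_coe_set_eq, Set.ncard_coe_finset, hr]
  · refine ⟨Cfsg.Agent.Lib.Helper25.trivIrr G, ?_, rfl⟩
    rw [Finset.mem_coe]
    exact Finset.mem_sdiff.mpr ⟨hτB, hτY⟩
  ·
    intro χ hχ
    rw [Finset.mem_coe] at hχ
    refine ⟨haX χ hχ, ?_⟩
    intro z y hz hy hy1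
    have hχ' := Finset.mem_sdiff.mp hχ
    rw [af_bt4 hM Bf hBf h z y hz hy hy1 χ hχ'.1]
    exact af_values_X Bf h σ base e hv χ hχ'.1 hχ'.2 ⟨y, hy⟩
      (fun hh => hy1 (congrArg Subtype.val hh))
  · intro ψ hψ
    rw [Finset.mem_coe]
    exact (mem_afY e _).mpr ⟨ψ, hψ, rfl⟩
  · intro η hη
    rw [Finset.mem_coe] at hη
    exact (mem_afY e η).mp hη
  · intro ψ ψ' hψ hr'
    exact ((af_rel_iff_e hM Bf hBf h σ base e hσ he hv ψ ψ' hψ
      (afRel_ne_one _ _ _ hr' hψ)).mp hr').symm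
  · intro ψ hψ z y hz hy1
    rw [af_bt4 hM Bf hBf h z (y : G) hz y.2 hy1 (e ψ) (he ψ hψ)]
    have h1 := af_values_Y hM Bf hBf h σ base e hσ he hv ψ hψ y
      (fun hh => hy1 (by rw [hh]; rfl))
    have h2 : a (e ψ) = (afMu (P : Subgroup G) (e ψ) 1 : ℤ) - base (e ψ) := rfl
    rw [← h2, hdc ψ hψ] at h1
    exact h1
  · rw [hr, finsum_mem_coe_finset]
    exact hkey
  · intro η hη η' hη' g hg
    rw [Finset.mem_coe] at hη hη'
    obtain ⟨ψ, hψ, rfl⟩ := (mem_afY e η).mp hη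
    obtain ⟨ψ', hψ', rfl⟩ := (mem_afY e η').mp hη'
    exact af_Y_regular hM Bf hBf h σ base e hσ he hv ψ ψ' hψ hψ' g hg
  · intro η hη g hg
    rw [Finset.mem_coe] at hη
    obtain ⟨ψ, hψ, rfl⟩ := (mem_afY e η).mp hη
    rw [hr, finsum_mem_coe_finset]
    have h1 := af_X_regular hM Bf hBf h σ base e hσ he hv ψ hψ g hg
    rw [← hXYu, Finset.sum_union hXY] at h1
    have h2 : ∑ χ ∈ Yf, (((afMu (P : Subgroup G) χ 1 : ℤ) - base χ : ℤ) : ℂ) * (χ : G → ℂ) g =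
        (Yf.card : ℂ) * ((d : ℂ) * (e ψ : G → ℂ) g) := by
      rw [← nsmul_eq_mul, ← Finset.sum_const]
      apply Finset.sum_congr rfl
      intro χ hχ
      have h5 := hdY χ hχ
      have h6 : a χ = (afMu (P : Subgroup G) χ 1 : ℤ) - base χ := rfl
      rw [← h6, h5]
      obtain ⟨ψ', hψ', rfl⟩ := (mem_afY e χ).mp hχ
      rw [af_Y_regular hM Bf hBf h σ base e hσ he hv ψ' ψ hψ' hψ g hg]
    rw [h2] at h1
    linear_combination h1
  · rw [Nat.card_coe_set_eq, Set.ncard_coe_finset]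
    exact hcardY

end Cfsg.Agent.Lib.Helper24
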