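import Mathlib
import Cfsg.Agent.Lib.Helper24.AF3Main
import Cfsg.Agent.Lib.Helper24.AF3Swap
import Cfsg.Agent.Lib.Helper24.PrincCol1

set_option autoImplicit false
set_option linter.style.haveILetI false
set_option linter.unusedSectionVars false
set_option linter.unusedVariables false
set_option maxHeartbeats 1600000
open Classical

namespace Cfsg.Agent.Lib.Helper24

open Cfsg.Agent.Lib.Helper29

theorem af3_ten (p k : ℕ) (hp : p.Prime) (h : p ^ k = 10) : False := by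
  have h2 : 2 ∣ p ^ k := by rw [h]; norm_num
  have h5 : 5 ∣ p ^ k := by rw [h]; norm_num
  have e2 : 2 = p := (Nat.prime_dvd_prime_iff_eq Nat.prime_two hp).mp
    (Nat.Prime.dvd_of_dvd_pow Nat.prime_two h2)
  have e5 : 5 = p := (Nat.prime_dvd_prime_iff_eq (by norm_num) hp).mp
    (Nat.Prime.dvd_of_dvd_pow (by norm_num) h5)
  omega

theorem af3_normal {G : Type*} [Group G] [Finite G] (p : ℕ) [Fact p.Prime] (M : Ideal Cfsg.AlgInt)
    (hM : Cfsg.IsPModular p M) (P : Sylow p G) (h : AFSetup p P)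
    (hm2 : 3 + 1 < Nat.card P)
    (hCN : (Subgroup.centralizer ((P : Subgroup G) : Set G)).relIndex
      (Subgroup.normalizer ((P : Subgroup G) : Set G)) = 3) :
    ∃ (X Y : Set (Cfsg.IrrCharacter G)), Cfsg.principalBlock M G = X ∪ Y ∧
      Disjoint X Y ∧ Nat.card X = 3 ∧ Nat.card Y = (Nat.card P - 1) / 3 ∧
      (∃ χ₁ ∈ X, (χ₁ : G → ℂ) = fun _ => 1) ∧
      ∃ (a : Cfsg.IrrCharacter G → ℤ) (δ : ℤ)
        (ζ : (↥(P : Subgroup G) →* ℂˣ) → Cfsg.IrrCharacter G),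
        (δ = 1 ∨ δ = -1) ∧
        (∀ χ ∈ X, (a χ = 1 ∨ a χ = -1) ∧ ∀ z y : G, Cfsg.IsPPart p z y → y ∈ (P : Subgroup G) →
          y ≠ 1 → (χ : G → ℂ) z = (a χ : ℂ)) ∧
        (∀ ψ : ↥(P : Subgroup G) →* ℂˣ, ψ ≠ 1 → ζ ψ ∈ Y) ∧
        (∀ η ∈ Y, ∃ ψ : ↥(P : Subgroup G) →* ℂˣ, ψ ≠ 1 ∧ ζ ψ = η) ∧
        (∀ ψ ψ' : ↥(P : Subgroup G) →* ℂˣ, ψ ≠ 1 → afRel (P : Subgroup G) ψ ψ' → ζ ψ' = ζ ψ) ∧
        (∀ ψ : ↥(P : Subgroup G) →* ℂˣ, ψ ≠ 1 → ∀ (z : G) (y : ↥(P : Subgroup G)),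
          Cfsg.IsPPart p z (y : G) → (y : G) ≠ 1 →
          (ζ ψ : G → ℂ) z = (δ : ℂ) *
            ∑ᶠ ψ' ∈ {ψ' : ↥(P : Subgroup G) →* ℂˣ | afRel (P : Subgroup G) ψ ψ'},
              ((ψ' y : ℂˣ) : ℂ)) ∧
        (∀ η ∈ Y, ∀ η' ∈ Y, ∀ g : G, ¬ p ∣ orderOf g → (η : G → ℂ) g = (η' : G → ℂ) g) ∧
        (∀ η ∈ Y, ∀ g : G, ¬ p ∣ orderOf g →
          -(δ : ℂ) * (η : G → ℂ) g + ∑ᶠ χ ∈ X, (a χ : ℂ) * (χ : G → ℂ) g = 0) := by
  have hpp : p.Prime := Fact.out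
  obtain ⟨s, X, Y, hs, hB, hdisj, hXc, hYc, htriv, a, d, δ, ζ, hδ, hX, hζY, hζsurj, hζconst,
    hζval, hid, hYreg, hrel, hYm⟩ := af3_main' p M hM P h 3 hm2 hCN
  haveI : Fintype (Cfsg.IrrCharacter G) := Fintype.ofFinite _
  obtain ⟨r, hr⟩ : ∃ r : ℕ, r = (Nat.card ↥(P : Subgroup G) - 1) / 3 := ⟨_, rfl⟩
  rw [← hr] at hYc hid hrel
  rw [hYc] at hYm
  have hr2 : 2 ≤ r := by omega
  have hXfin : X.Finite := Set.toFinite X
  obtain ⟨Xf, hXf⟩ : ∃ Xf : Finset (Cfsg.IrrCharacter G), Xf = hXfin.toFinset := ⟨_, rfl⟩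
  have hXfmem : ∀ χ, χ ∈ Xf ↔ χ ∈ X := by
    intro χ; rw [hXf, Set.Finite.mem_toFinset]
  have hXfcard : Xf.card = s := by
    rw [← hXc, Nat.card_coe_set_eq, Set.ncard_eq_toFinset_card X hXfin, hXf]
  obtain ⟨χ₁, hχ₁X, hχ₁⟩ := htriv
  have ha1 : a χ₁ = 1 := by
    haveI : Fintype ↥(P : Subgroup G) := Fintype.ofFinite _
    obtain ⟨y₀, hy₀⟩ := Fintype.exists_ne_of_one_lt_card
      (by rw [← Nat.card_eq_fintype_card]; omega : 1 < Fintype.card ↥(P : Subgroup G))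
      (1 : ↥(P : Subgroup G))
    have hy₀G : (y₀ : G) ≠ 1 := fun hh => hy₀ (Subtype.ext hh)
    have h1 := (hX χ₁ hχ₁X).2 (y₀ : G) (y₀ : G)
      (pc_isPPart_self p (y₀ : G) (af_order_pow P y₀.2)) y₀.2 hy₀G
    rw [hχ₁] at h1
    have h2 : ((1 : ℤ) : ℂ) = ((a χ₁ : ℤ) : ℂ) := by rw [← h1]; simp
    exact (Int.cast_injective h2).symm
  rw [af_finsum_eq X Xf hXfmem] at hid
  have hrel' : ∀ η ∈ Y, ∀ g : G, ¬ p ∣ orderOf g →
      ((r : ℂ) * (d : ℂ) - (δ : ℂ)) * (η : G → ℂ) g +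
        ∑ χ ∈ Xf, (a χ : ℂ) * (χ : G → ℂ) g = 0 := by
    intro η hη g hg
    rw [← af_finsum_eq X Xf hXfmem]
    exact hrel η hη g hg
  obtain ⟨S, hS⟩ : ∃ S : ℤ, S = ∑ χ ∈ Xf, a χ ^ 2 := ⟨_, rfl⟩
  rw [← hS] at hid
  have hterm : ∀ χ ∈ Xf, 1 ≤ a χ ^ 2 := by
    intro χ hχ
    have := (hX χ ((hXfmem χ).mp hχ)).1
    have h2 : 0 < a χ ^ 2 := by positivity
    omega
  have hSge : (Xf.card : ℤ) ≤ S := by
    rw [hS, Finset.card_eq_sum_ones, Nat.cast_sum]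
    apply Finset.sum_le_sum
    intro χ hχ
    have := hterm χ hχ
    push_cast
    omega
  have hsingle : ∀ χ ∈ Xf, a χ ^ 2 ≤ S := by
    intro χ hχ
    rw [hS]
    exact Finset.single_le_sum (f := fun χ => a χ ^ 2) (fun i _ => sq_nonneg _) hχ
  have hS1 : 1 ≤ S := by
    have := hsingle χ₁ ((hXfmem χ₁).mpr hχ₁X)
    rw [ha1] at this
    linarith
  have hδδ : δ ^ 2 = 1 := by
    rcases hδ with h1 | h1 <;> rw [h1] <;> norm_num
  have hr' : (1 : ℤ) ≤ (r : ℤ) - 1 := by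
    have : (2 : ℤ) ≤ (r : ℤ) := by exact_mod_cast hr2
    omega
  have hid' : (d - δ) ^ 2 + ((r : ℤ) - 1) * d ^ 2 + S = 4 := by
    rw [hid]; norm_num
  have hS3 : S = 3 → (∀ χ ∈ Xf, a χ = 1 ∨ a χ = -1) ∧ Xf.card = 3 := by
    intro h3
    have hall : ∀ χ ∈ Xf, a χ = 1 ∨ a χ = -1 := by
      intro χ hχ
      have h1 := hsingle χ hχ
      have h2 := (hX χ ((hXfmem χ).mp hχ)).1
      rw [h3] at h1
      have h4 : a χ ≤ 1 := by nlinarith
      have h5 : -1 ≤ a χ := by nlinarith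
      interval_cases (a χ)
      · right; rfl
      · exact absurd rfl h2
      · left; rfl
    refine ⟨hall, ?_⟩
    have h4 : S = (Xf.card : ℤ) := by
      rw [hS, Finset.card_eq_sum_ones, Nat.cast_sum]
      apply Finset.sum_congr rfl
      intro χ hχ
      rcases hall χ hχ with h5 | h5 <;> rw [h5] <;> norm_num
    rw [h3] at h4
    exact_mod_cast h4.symm
  have hdcase : d = 0 ∨ d = δ := by
    have h0 : 0 ≤ (d - δ) ^ 2 := sq_nonneg _
    have hd2 : d ^ 2 ≤ 3 := by nlinarith [sq_nonneg d]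
    have hd1 : d ≤ 1 := by nlinarith
    have hd3 : -1 ≤ d := by nlinarith
    rcases hδ with h1 | h1 <;> subst h1 <;> interval_cases d
    · exfalso; nlinarith
    · left; rfl
    · right; rfl
    · right; rfl
    · left; rfl
    · exfalso; nlinarith
  rcases hdcase with hd0 | hdδ
  · subst hd0
    have h3 : S = 3 := by
      have : (0 - δ) ^ 2 = δ ^ 2 := by ring
      rw [this, hδδ] at hid'
      linarith
    obtain ⟨hall, hcard3⟩ := hS3 h3
    refine ⟨X, Y, hB, hdisj, by rw [hXc, ← hXfcard, hcard3], by rw [hYc, hr],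
      ⟨χ₁, hχ₁X, hχ₁⟩, a, δ, ζ, hδ, ?_, hζY, hζsurj, hζconst, ?_, hYreg, ?_⟩
    · intro χ hχ
      exact ⟨hall χ ((hXfmem χ).mpr hχ), (hX χ hχ).2⟩
    · intro ψ hψ z y hz hy
      rw [hζval ψ hψ z y hz hy]
      simp
    · intro η hη g hg
      have := hrel η hη g hg
      simp only [Int.cast_zero, mul_zero, zero_sub] at this
      exact this
  · have hrS : ((r : ℤ) - 1) + S = 4 := by
      rw [hdδ, sub_self, hδδ] at hid'
      linarith
    have hr4 : r ≤ 4 := by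
      have : (r : ℤ) ≤ 4 := by linarith
      exact_mod_cast this
    interval_cases r
    ·
      have h3 : S = 3 := by
        push_cast at hrS
        linarith
      obtain ⟨hall, hcard3⟩ := hS3 h3
      have hq : Nat.card ↥(P : Subgroup G) = 7 := by omega
      have hinv_ne : ∀ ψ : ↥(P : Subgroup G) →* ℂˣ, ψ ≠ 1 → ψ⁻¹ ≠ 1 := by
        intro ψ hψ hh
        apply hψ
        ext w
        have h3 := DFunLike.congr_fun hh w
        rw [MonoidHom.inv_apply, MonoidHom.one_apply, inv_eq_one] at h3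
        rw [h3]
        rfl
      refine ⟨X, Y, hB, hdisj, by rw [hXc, ← hXfcard, hcard3], by rw [hYc, hr],
        ⟨χ₁, hχ₁X, hχ₁⟩, a, -δ, fun ψ => ζ ψ⁻¹, ?_, ?_, ?_, ?_, ?_, ?_, hYreg, ?_⟩
      · rcases hδ with h1 | h1 <;> rw [h1]
        · right; rfl
        · left; norm_num
      · intro χ hχ
        exact ⟨hall χ ((hXfmem χ).mpr hχ), (hX χ hχ).2⟩
      · intro ψ hψ
        exact hζY ψ⁻¹ (hinv_ne ψ hψ)
      · intro η hη
        obtain ⟨ψ, hψ, rfl⟩ := hζsurj η hη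
        have hii : ψ⁻¹⁻¹ = ψ := by
          ext w
          simp
        exact ⟨ψ⁻¹, hinv_ne ψ hψ, by show ζ ψ⁻¹⁻¹ = ζ ψ; rw [hii]⟩
      · intro ψ ψ' hψ hrel1
        exact hζconst ψ⁻¹ ψ'⁻¹ (hinv_ne ψ hψ) (af3_rel_inv ψ ψ' hrel1)
      · intro ψ hψ z y hz hy
        rw [hζval ψ⁻¹ (hinv_ne ψ hψ) z y hz hy, hdδ]
        have hy' : y ≠ 1 := fun hh => hy (by rw [hh]; rfl)
        have hsw := af3_swap_sum h hCN hq ψ hψ y hy'
        push_cast
        linear_combination (δ : ℂ) * hsw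
      · intro η hη g hg
        have := hrel η hη g hg
        rw [hdδ] at this
        push_cast at this ⊢
        linear_combination this
    ·
      exfalso
      have hq : Nat.card ↥(P : Subgroup G) = 10 := by omega
      obtain ⟨k, hk⟩ := IsPGroup.iff_card.mp P.isPGroup'
      rw [hq] at hk
      exact af3_ten p k hpp hk.symm
    ·
      exfalso
      have h1 : S = 1 := by
        push_cast at hrS
        linarith
      have hc1 : Xf.card ≤ 1 := by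
        have : (Xf.card : ℤ) ≤ 1 := by linarith
        exact_mod_cast this
      have hXf1 : Xf = {χ₁} := by
        have hmem : χ₁ ∈ Xf := (hXfmem χ₁).mpr hχ₁X
        apply Finset.eq_singleton_iff_unique_mem.mpr
        refine ⟨hmem, ?_⟩
        intro χ hχ
        exact Finset.card_le_one.mp hc1 χ hχ χ₁ hmem
      have hYne : ∃ η, η ∈ Y := by
        by_contra hcon
        push Not at hcon
        have : Y = ∅ := Set.eq_empty_iff_forall_notMem.mpr hcon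
        rw [this] at hYc
        simp at hYc
      obtain ⟨η, hη⟩ := hYne
      have h2 := hrel' η hη 1 (by
        rw [orderOf_one]
        exact fun hh => hpp.one_lt.ne' (Nat.dvd_one.mp hh))
      rw [hXf1, Finset.sum_singleton, ha1, hχ₁, hdδ] at h2
      have h3 := (Cfsg.Agent.Lib.Helper25.charDegree_irr η).1
      rw [← h3] at h2
      have h4 : ((4 : ℤ) * δ - δ) * (Cfsg.charDegree (η : G → ℂ) : ℤ) + 1 = 0 := by
        have : (((4 : ℤ) * δ - δ) * (Cfsg.charDegree (η : G → ℂ) : ℤ) + 1 : ℤ) = ((0 : ℤ) : ℂ) := by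
          push_cast
          push_cast at h2
          linear_combination h2
        exact_mod_cast this
      rcases hδ with h5 | h5 <;> rw [h5] at h4 <;> omega

end Cfsg.Agent.Lib.Helper24
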