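import Mathlib
import Cfsg.Agent.Lib.Helper24.AFT2

set_option autoImplicit false

namespace Cfsg.Agent.Lib.Helper24

open scoped ComplexConjugate


section AF9

variable {G : Type*} [Group G] [Fintype G]

theorem fsEps_cases (χ : Cfsg.IrrCharacter G) : fsEps χ = 1 ∨ fsEps χ = -1 ∨ fsEps χ = 0 := by
  unfold fsEps
  split_ifs
  · left; rfl
  · right; left; rfl
  · right; right; rfl

theorem af_sum_two_odd [Fintype (Cfsg.IrrCharacter G)] (hG : IsPGroup 2 G) (hnc : ¬ IsCyclic G)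
    (ht : Nat.card {x : G // orderOf x = 2} % 4 = 1) :
    Odd (∑ χ : Cfsg.IrrCharacter G, (if Cfsg.charDegree (χ : G → ℂ) = 2 then fsEps χ else 0)) := by
  classical
  haveI : Fintype (G →* ℂˣ) := Fintype.ofFinite _
  have h1 := af_mod_four hG
  rw [af_sum_lin] at h1
  have h2 : (Finset.univ.filter (fun η : G →* ℂˣ => η * η = 1)).card = Nat.card ↥(afA2 G) := by
    rw [Nat.card_eq_fintype_card]
    symm
    apply Fintype.card_of_subtype
    intro η
    simp only [Finset.mem_filter, Finset.mem_univ, true_and]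
    rfl
  rw [h2] at h1
  obtain ⟨l, hl⟩ := af_four_dvd hG hnc
  rw [hl] at h1
  have h3 := h1.dvd
  obtain ⟨c, hc⟩ := h3
  set S := ∑ χ : Cfsg.IrrCharacter G, (if Cfsg.charDegree (χ : G → ℂ) = 2 then fsEps χ else 0) with hS
  set t := Nat.card {x : G // orderOf x = 2} with htdef
  have ht' : (t : ℤ) % 4 = 1 := by exact_mod_cast ht
  push_cast at hc
  refine ⟨c - l + (t : ℤ) / 4, ?_⟩
  omega

theorem af_Y_odd [Fintype (Cfsg.IrrCharacter G)] [DecidableEq (Cfsg.IrrCharacter G)]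
    (h : Odd (∑ χ : Cfsg.IrrCharacter G, (if Cfsg.charDegree (χ : G → ℂ) = 2 then fsEps χ else 0))) :
    Odd (Finset.univ.filter (fun χ : Cfsg.IrrCharacter G =>
      Cfsg.charDegree (χ : G → ℂ) = 2 ∧ fsEps χ ≠ 0)).card := by
  set Y := Finset.univ.filter (fun χ : Cfsg.IrrCharacter G =>
      Cfsg.charDegree (χ : G → ℂ) = 2 ∧ fsEps χ ≠ 0) with hY
  have h1 : (∑ χ : Cfsg.IrrCharacter G, (if Cfsg.charDegree (χ : G → ℂ) = 2 then fsEps χ else 0)) =
      ∑ χ ∈ Y, fsEps χ := by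
    rw [hY, Finset.sum_filter]
    apply Finset.sum_congr rfl
    intro χ _
    by_cases hd : Cfsg.charDegree (χ : G → ℂ) = 2
    · by_cases he : fsEps χ = 0
      · simp [hd, he]
      · simp [hd, he]
    · simp [hd]
  rw [h1] at h
  have h2 : (2 : ℤ) ∣ ∑ χ ∈ Y, (fsEps χ - 1) := by
    apply Finset.dvd_sum
    intro χ hχ
    rw [hY, Finset.mem_filter] at hχ
    rcases fsEps_cases χ with h | h | h
    · rw [h]; exact ⟨0, by ring⟩
    · rw [h]; exact ⟨-1, by ring⟩
    · exact absurd h hχ.2.2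
  rw [Finset.sum_sub_distrib, Finset.sum_const, nsmul_eq_mul, mul_one] at h2
  obtain ⟨a, ha⟩ := h
  obtain ⟨b, hb⟩ := h2
  have : (Y.card : ℤ) = 2 * (a - b) + 1 := by omega
  have hodd : Odd (Y.card : ℤ) := ⟨a - b, this⟩
  exact_mod_cast hodd

end AF9


theorem af_even_of_involution {α : Type*} [Fintype α] [DecidableEq α] (f : α → α)
    (hf : ∀ x, f (f x) = x) (hne : ∀ x, f x ≠ x) : Even (Fintype.card α) := by
  haveI : Fact (Nat.Prime 2) := ⟨Nat.prime_two⟩
  let F : Function.End α := f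
  have hF : F ^ 2 ^ 1 = 1 := by
    rw [pow_one, pow_two]
    funext x
    exact hf x
  have h := Equiv.Perm.card_fixedPoints_modEq (f := F) hF
  have hempty : Fintype.card (Function.fixedPoints F) = 0 := by
    rw [Fintype.card_eq_zero_iff]
    constructor
    rintro ⟨x, hx⟩
    exact hne x hx
  rw [hempty] at h
  exact Nat.even_iff.mpr h

section AF10

variable {G : Type*} [Group G] [Fintype G]

def afStab (χ : Cfsg.IrrCharacter G) : Subgroup (G →* ℂˣ) where
  carrier := {β | afSmul β χ = χ}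
  one_mem' := afSmul_one χ
  mul_mem' := by
    intro a b ha hb
    have ha' : afSmul a χ = χ := ha
    have hb' : afSmul b χ = χ := hb
    show afSmul (a * b) χ = χ
    rw [afSmul_mul, hb', ha']
  inv_mem' := by
    intro a ha
    have ha' : afSmul a χ = χ := ha
    show afSmul a⁻¹ χ = χ
    have h1 : afSmul a⁻¹ (afSmul a χ) = χ := by
      rw [← afSmul_mul]
      have : a⁻¹ * a = 1 := by
        ext g
        simp
      rw [this, afSmul_one]
    rwa [ha'] at h1

theorem mem_afStab (χ : Cfsg.IrrCharacter G) (β : G →* ℂˣ) : β ∈ afStab χ ↔ afSmul β χ = χ := Iff.rfl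

theorem af_smul_real (μ : G →* ℂˣ) (χ : Cfsg.IrrCharacter G)
    (hχ : ∀ g, ((χ : G → ℂ) g).im = 0) (hμ : afSmul (μ * μ) χ = χ) :
    ∀ g, ((afSmul μ χ : G → ℂ) g).im = 0 := by
  intro g
  rw [afSmul_apply]
  by_cases h0 : (χ : G → ℂ) g = 0
  · rw [h0, mul_zero]; rfl
  · have h1 := congrArg (fun ψ : Cfsg.IrrCharacter G => (ψ : G → ℂ) g) hμ
    simp only [afSmul_apply, MonoidHom.mul_apply, Units.val_mul] at h1
    have h2 : (((μ g : ℂˣ) : ℂ) * ((μ g : ℂˣ) : ℂ) - 1) * (χ : G → ℂ) g = 0 := by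
      rw [sub_mul, one_mul, h1, sub_self]
    rcases mul_eq_zero.mp h2 with h | h
    · have h3 : ((μ g : ℂˣ) : ℂ) * ((μ g : ℂˣ) : ℂ) = 1 := sub_eq_zero.mp h
      rcases mul_self_eq_one_iff.mp h3 with h4 | h4
      · rw [h4, one_mul]; exact hχ g
      · rw [h4]; simp [hχ g]
    · exact absurd h h0

theorem af_fsEps_ne_zero_of_real (χ : Cfsg.IrrCharacter G)
    (hχ : ∀ g, ((χ : G → ℂ) g).im = 0) : fsEps χ ≠ 0 := by
  intro h
  have h1 := fsNu_mul_self_of_real χ hχ
  have h2 := fsEps_cast χ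
  rw [h] at h2
  simp only [Int.cast_zero] at h2
  rw [← h2] at h1
  norm_num at h1

end AF10

theorem af_hom_mul_comm {G : Type*} [Group G] (a b : G →* ℂˣ) : a * b = b * a := by
  ext g
  simp [mul_comm]

theorem af_pow_descend {A : Type*} [CommGroup A]
    (h4 : ∀ μ : A, (μ * μ) * (μ * μ) = 1 → μ * μ = 1) :
    ∀ (j : ℕ) (μ : A), μ ^ 2 ^ j = 1 → μ * μ = 1 := by
  intro j
  induction j using Nat.strong_induction_on with
  | _ j ih =>
    intro μ hμ
    rcases j with _ | _ | j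
    · rw [pow_zero, pow_one] at hμ
      rw [hμ, one_mul]
    · rw [zero_add, pow_one, pow_two] at hμ
      exact hμ
    · have h1 : (μ ^ 2 ^ j * μ ^ 2 ^ j) * (μ ^ 2 ^ j * μ ^ 2 ^ j) = 1 := by
        rw [← pow_add, ← pow_add, ← hμ]
        congr 1
        ring
      have h2 := h4 _ h1
      rw [← pow_add] at h2
      have h3 : μ ^ 2 ^ (j + 1) = 1 := by
        rw [← h2]; congr 1; ring
      exact ih (j + 1) (by omega) μ h3

theorem af_main {G : Type*} [Group G] [Finite G] (hG : IsPGroup 2 G)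
    (ht : Nat.card {x : G // orderOf x = 2} % 4 = 1) (hnc : ¬ IsCyclic G) :
    (commutator G).index = 4 := by
  classical
  haveI : Fact (Nat.Prime 2) := ⟨Nat.prime_two⟩
  haveI := Fintype.ofFinite G
  haveI : Fintype (Cfsg.IrrCharacter G) := Fintype.ofFinite _
  haveI : Fintype (G →* ℂˣ) := Fintype.ofFinite _
  have hYodd := af_Y_odd (af_sum_two_odd hG hnc ht)
  let P : Cfsg.IrrCharacter G → Prop := fun χ => Cfsg.charDegree (χ : G → ℂ) = 2 ∧ fsEps χ ≠ 0
  have hYcard : Fintype.card {χ // P χ} = (Finset.univ.filter P).card := Fintype.card_subtype P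
  letI act : MulAction ↥(afA2 G) {χ // P χ} :=
    { smul := fun l χ => ⟨afSmul l.1 χ.1, by
        refine ⟨?_, ?_⟩
        · rw [afSmul_degree]; exact χ.2.1
        · rw [afSmul_fsEps _ l.2]; exact χ.2.2⟩
      one_smul := fun χ => Subtype.ext (afSmul_one χ.1)
      mul_smul := fun a b χ => Subtype.ext (afSmul_mul a.1 b.1 χ.1) }
  have hsmul : ∀ (l : ↥(afA2 G)) (χ : {χ // P χ}),
      ((l • χ : {χ // P χ}) : Cfsg.IrrCharacter G) = afSmul l.1 χ.1 := fun _ _ => rfl
  have hmod := (afA2_isPGroup (G := G)).card_modEq_card_fixedPoints {χ // P χ}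
  set F := MulAction.fixedPoints ↥(afA2 G) {χ // P χ} with hF
  have hFodd : Odd (Fintype.card ↥F) := by
    rw [Nat.card_eq_fintype_card, Nat.card_eq_fintype_card, hYcard] at hmod
    rw [Nat.odd_iff] at hYodd ⊢
    rw [← hmod]
    exact hYodd
  have hfixed : ∀ y : ↥F, ∀ l : G →* ℂˣ, l * l = 1 → afSmul l y.1.1 = y.1.1 := by
    intro y l hl
    have := y.2 ⟨l, hl⟩
    exact congrArg Subtype.val this
  have h4dvd := af_four_dvd hG hnc
  have hA2le : ∀ χ : Cfsg.IrrCharacter G, (∀ l : G →* ℂˣ, l * l = 1 → afSmul l χ = χ) →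
      Cfsg.charDegree (χ : G → ℂ) = 2 → afStab χ = afA2 G := by
    intro χ hχ hdeg
    have hle : afA2 G ≤ afStab χ := fun l hl => hχ l hl
    have h1 := af_stab_card_le χ hdeg (afStab χ) (fun β hβ => hβ)
    rw [← Nat.card_eq_fintype_card] at h1
    have h2 : 4 ≤ Nat.card ↥(afA2 G) := Nat.le_of_dvd Nat.card_pos h4dvd
    exact (Subgroup.eq_of_le_of_card_ge hle (by omega)).symm
  have hexp4 : ∀ μ : G →* ℂˣ, (μ * μ) * (μ * μ) = 1 → μ * μ = 1 := by
    intro μ h4
    by_contra hne2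
    let f : ↥F → ↥F := fun y =>
      ⟨⟨afSmul μ y.1.1, by
        refine ⟨?_, ?_⟩
        · rw [afSmul_degree]; exact y.1.2.1
        · exact af_fsEps_ne_zero_of_real _
            (af_smul_real μ y.1.1 (fsEps_real y.1.1 y.1.2.2) (hfixed y (μ * μ) h4))⟩, by
        intro l
        apply Subtype.ext
        show afSmul l.1 (afSmul μ y.1.1) = afSmul μ y.1.1
        rw [← afSmul_mul, af_hom_mul_comm l.1 μ, afSmul_mul, hfixed y l.1 l.2]⟩
    have hf : ∀ y, f (f y) = y := by
      intro y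
      apply Subtype.ext
      apply Subtype.ext
      show afSmul μ (afSmul μ y.1.1) = y.1.1
      rw [← afSmul_mul, hfixed y _ h4]
    have hne : ∀ y, f y ≠ y := by
      intro y h
      have h1 : afSmul μ y.1.1 = y.1.1 := congrArg (fun z : ↥F => z.1.1) h
      have h2 : μ ∈ afStab y.1.1 := h1
      rw [hA2le y.1.1 (hfixed y) y.1.2.1] at h2
      exact hne2 h2
    have heven := af_even_of_involution f hf hne
    rw [Nat.even_iff] at heven
    rw [Nat.odd_iff] at hFodd
    omega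
  have hall : ∀ μ : G →* ℂˣ, μ * μ = 1 := by
    intro μ
    obtain ⟨k, hk⟩ := IsPGroup.iff_card.mp hG
    apply af_pow_descend hexp4 k μ
    ext g
    rw [MonoidHom.pow_apply, ← map_pow, ← hk, pow_card_eq_one', map_one]
    rfl
  have hFne : Nonempty ↥F := by
    by_contra hemp
    rw [not_nonempty_iff] at hemp
    rw [Fintype.card_eq_zero] at hFodd
    exact (by decide : ¬ Odd 0) hFodd
  obtain ⟨y⟩ := hFne
  have hA2top : afA2 G = ⊤ := by
    rw [eq_top_iff]
    intro μ _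
    exact hall μ
  have hstab := hA2le y.1.1 (hfixed y) y.1.2.1
  have h1 := af_stab_card_le y.1.1 y.1.2.1 (afStab y.1.1) (fun β hβ => hβ)
  rw [← Nat.card_eq_fintype_card, hstab] at h1
  have h2 : 4 ≤ Nat.card ↥(afA2 G) := Nat.le_of_dvd Nat.card_pos h4dvd
  have h3 : Nat.card ↥(afA2 G) = 4 := by omega
  rw [hA2top, Subgroup.card_top] at h3
  rw [← af_card_hom, h3]

end Cfsg.Agent.Lib.Helper24
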