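import Mathlib
import Cfsg.Agent.Lib.Helper24.APF.Defs
import Cfsg.Agent.Lib.Helper25.APFFPA
import Cfsg.Agent.Lib.Helper25.APFFPS

set_option autoImplicit false
set_option linter.style.haveILetI false

namespace Cfsg.Agent.Lib.Helper24.APF

open Equiv

def h24_iv (ℓ a m : ℕ) : List (ZMod ℓ) := (List.range' a m).map (fun i : ℕ => (i : ZMod ℓ))

def h24_ivPerm (ℓ : ℕ) : List ℕ → ℕ → Perm (ZMod ℓ)
  | [], _ => 1
  | m :: L, a => (List.formPerm (h24_iv ℓ a m))⁻¹ * h24_ivPerm ℓ L (a + m)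

def h24_ivList (ℓ : ℕ) : List ℕ → ℕ → List ℕ
  | [], a => List.range' a (ℓ - a)
  | m :: L, a => a :: h24_ivList ℓ L (a + m)

theorem h24_cast_inj (ℓ : ℕ) [NeZero ℓ] {a b : ℕ} (ha : a < ℓ) (hb : b < ℓ)
    (h : (a : ZMod ℓ) = (b : ZMod ℓ)) : a = b := by
  rw [ZMod.natCast_eq_natCast_iff', Nat.mod_eq_of_lt ha, Nat.mod_eq_of_lt hb] at h
  exact h

theorem h24_mem_iv (ℓ a m : ℕ) (x : ZMod ℓ) :
    x ∈ h24_iv ℓ a m ↔ ∃ i : ℕ, a ≤ i ∧ i < a + m ∧ (i : ZMod ℓ) = x := by
  unfold h24_iv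
  rw [List.mem_map]
  constructor
  · rintro ⟨i, hi, rfl⟩
    rw [List.mem_range'_1] at hi
    exact ⟨i, hi.1, hi.2, rfl⟩
  · rintro ⟨i, h1, h2, rfl⟩
    exact ⟨i, List.mem_range'_1.mpr ⟨h1, h2⟩, rfl⟩

theorem h24_nodup_map (ℓ : ℕ) [NeZero ℓ] (l : List ℕ) (hl : l.Nodup) (hlt : ∀ x ∈ l, x < ℓ) :
    (l.map (fun i : ℕ => (i : ZMod ℓ))).Nodup :=
  List.Nodup.map_on (fun x hx y hy h => h24_cast_inj ℓ (hlt x hx) (hlt y hy) h) hl

theorem h24_nodup_iv (ℓ a m : ℕ) [NeZero ℓ] (h : a + m ≤ ℓ) : (h24_iv ℓ a m).Nodup := by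
  unfold h24_iv
  apply h24_nodup_map ℓ _ (List.nodup_range' 1)
  intro x hx
  rw [List.mem_range'_1] at hx
  omega

theorem h24_formPerm_inv_apply_of_notMem {α : Type*} [DecidableEq α] (l : List α) (x : α)
    (h : x ∉ l) : (List.formPerm l)⁻¹ x = x := by
  rw [Equiv.Perm.inv_eq_iff_eq, List.formPerm_apply_of_notMem h]

theorem h24_ivPerm_apply_of_notMem (ℓ : ℕ) (L : List ℕ) :
    ∀ (a : ℕ) (x : ZMod ℓ), (∀ i : ℕ, a ≤ i → i < a + L.sum → (i : ZMod ℓ) ≠ x) →
      h24_ivPerm ℓ L a x = x := by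
  induction L with
  | nil =>
    intro a x _
    rfl
  | cons m L ih =>
    intro a x hx
    rw [List.sum_cons] at hx
    show (List.formPerm (h24_iv ℓ a m))⁻¹ (h24_ivPerm ℓ L (a + m) x) = x
    rw [ih (a + m) x (fun i h1 h2 => hx i (by omega) (by omega))]
    apply h24_formPerm_inv_apply_of_notMem
    rw [h24_mem_iv]
    rintro ⟨i, h1, h2, h3⟩
    exact hx i h1 (by omega) h3

theorem h24_ivPerm_cycleType (ℓ : ℕ) [NeZero ℓ] (L : List ℕ) :
    ∀ (a : ℕ), (∀ m ∈ L, 2 ≤ m) → a + L.sum ≤ ℓ →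
      (h24_ivPerm ℓ L a).cycleType = (L : Multiset ℕ) := by
  induction L with
  | nil =>
    intro a _ _
    show (1 : Perm (ZMod ℓ)).cycleType = _
    rw [Equiv.Perm.cycleType_one]
    rfl
  | cons m L ih =>
    intro a hL hsum
    rw [List.sum_cons] at hsum
    have hm : 2 ≤ m := hL m List.mem_cons_self
    have hnd : (h24_iv ℓ a m).Nodup := h24_nodup_iv ℓ a m (by omega)
    have hlen : (h24_iv ℓ a m).length = m := by
      unfold h24_iv
      rw [List.length_map, List.length_range']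
    have hdisj : Equiv.Perm.Disjoint (List.formPerm (h24_iv ℓ a m))⁻¹
        (h24_ivPerm ℓ L (a + m)) := by
      intro x
      by_cases hx : x ∈ h24_iv ℓ a m
      · right
        apply h24_ivPerm_apply_of_notMem
        intro i h1 h2 h3
        rw [h24_mem_iv] at hx
        obtain ⟨i', h1', h2', h3'⟩ := hx
        have := h24_cast_inj ℓ (a := i) (b := i') (by omega) (by omega) (h3.trans h3'.symm)
        omega
      · left
        exact h24_formPerm_inv_apply_of_notMem _ _ hx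
    show ((List.formPerm (h24_iv ℓ a m))⁻¹ * h24_ivPerm ℓ L (a + m)).cycleType = _
    rw [hdisj.cycleType_mul, Equiv.Perm.cycleType_inv,
      ih (a + m) (fun x hx => hL x (List.mem_cons_of_mem _ hx)) (by omega)]
    have hcyc : (List.formPerm (h24_iv ℓ a m)).IsCycle :=
      List.isCycle_formPerm hnd (by omega)
    rw [hcyc.cycleType, List.support_formPerm_of_nodup _ hnd, List.toFinset_card_of_nodup hnd,
      hlen]
    · rfl
    · intro x hx
      rw [hx] at hlen
      simp at hlen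
      omega

theorem h24_ivList_head (ℓ : ℕ) (L : List ℕ) (b : ℕ) (hb : b < ℓ) :
    ∃ rest : List ℕ, h24_ivList ℓ L b = b :: rest := by
  cases L with
  | nil =>
    show ∃ rest, List.range' b (ℓ - b) = b :: rest
    obtain ⟨k, hk⟩ : ∃ k, ℓ - b = k + 1 := ⟨ℓ - b - 1, by omega⟩
    rw [hk, List.range'_succ]
    exact ⟨_, rfl⟩
  | cons m L => exact ⟨_, rfl⟩

theorem h24_iv_cons (ℓ a m : ℕ) (hm : 1 ≤ m) :
    ∃ X : List (ZMod ℓ), h24_iv ℓ a m = (a : ZMod ℓ) :: X := by
  obtain ⟨k, rfl⟩ : ∃ k, m = k + 1 := ⟨m - 1, by omega⟩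
  unfold h24_iv
  rw [List.range'_succ, List.map_cons]
  exact ⟨_, rfl⟩

theorem h24_main_identity (ℓ : ℕ) [NeZero ℓ] (L : List ℕ) :
    ∀ (a : ℕ), (∀ m ∈ L, 1 ≤ m) → a + L.sum ≤ ℓ →
      List.formPerm (h24_iv ℓ a (ℓ - a)) * h24_ivPerm ℓ L a =
        List.formPerm ((h24_ivList ℓ L a).map (fun i : ℕ => (i : ZMod ℓ))) := by
  induction L with
  | nil =>
    intro a _ _
    show List.formPerm (h24_iv ℓ a (ℓ - a)) * 1 = _
    rw [mul_one]
    rfl
  | cons m L ih =>
    intro a hL hsum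
    rw [List.sum_cons] at hsum
    have hm : 1 ≤ m := hL m List.mem_cons_self
    have hL' : ∀ x ∈ L, 1 ≤ x := fun x hx => hL x (List.mem_cons_of_mem _ hx)
    show List.formPerm (h24_iv ℓ a (ℓ - a)) *
      ((List.formPerm (h24_iv ℓ a m))⁻¹ * h24_ivPerm ℓ L (a + m)) =
        List.formPerm (((a : ZMod ℓ)) :: (h24_ivList ℓ L (a + m)).map (fun i : ℕ => (i : ZMod ℓ)))
    by_cases hb : a + m = ℓ
    · have hL0 : L = [] := by
        cases L with
        | nil => rfl
        | cons m' L' =>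
          exfalso
          have := hL' m' List.mem_cons_self
          rw [List.sum_cons] at hsum
          omega
      subst hL0
      have e1 : ℓ - a = m := by omega
      have e2 : h24_ivList ℓ [] (a + m) = [] := by
        show List.range' (a + m) (ℓ - (a + m)) = []
        rw [hb, Nat.sub_self]
        rfl
      rw [e1, e2]
      show List.formPerm (h24_iv ℓ a m) * ((List.formPerm (h24_iv ℓ a m))⁻¹ * 1) = _
      rw [mul_one, mul_inv_cancel]
      rfl
    · have hb' : a + m < ℓ := by omega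
      have hsplit : h24_iv ℓ a (ℓ - a) = h24_iv ℓ a m ++ h24_iv ℓ (a + m) (ℓ - (a + m)) := by
        unfold h24_iv
        rw [← List.map_append, List.range'_append_1]
        congr 2
        omega
      obtain ⟨X, hX⟩ := h24_iv_cons ℓ a m hm
      obtain ⟨Y, hY⟩ := h24_iv_cons ℓ (a + m) (ℓ - (a + m)) (by omega)
      have hnd : (h24_iv ℓ a (ℓ - a)).Nodup := h24_nodup_iv ℓ a (ℓ - a) (by omega)
      have hFPA : List.formPerm (h24_iv ℓ a (ℓ - a)) =
          swap (a : ZMod ℓ) ((a + m : ℕ) : ZMod ℓ) * List.formPerm (h24_iv ℓ a m) *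
            List.formPerm (h24_iv ℓ (a + m) (ℓ - (a + m))) := by
        rw [hsplit] at hnd ⊢
        rw [hX, hY] at hnd ⊢
        exact formPerm_append_eq _ _ X Y hnd
      have hcomm : List.formPerm (h24_iv ℓ a m) *
          List.formPerm (h24_iv ℓ (a + m) (ℓ - (a + m))) =
          List.formPerm (h24_iv ℓ (a + m) (ℓ - (a + m))) * List.formPerm (h24_iv ℓ a m) := by
        apply Equiv.Perm.Disjoint.commute
        intro x
        by_cases hx : x ∈ h24_iv ℓ a m
        · right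
          apply List.formPerm_apply_of_notMem
          intro hx'
          rw [h24_mem_iv] at hx hx'
          obtain ⟨i, h1, h2, h3⟩ := hx
          obtain ⟨i', h1', h2', h3'⟩ := hx'
          have := h24_cast_inj ℓ (a := i) (b := i') (by omega) (by omega) (h3.trans h3'.symm)
          omega
        · left
          exact List.formPerm_apply_of_notMem hx
      have hIH := ih (a + m) hL' (by omega)
      obtain ⟨rest, hrest⟩ := h24_ivList_head ℓ L (a + m) hb'
      rw [hFPA]
      calc swap (a : ZMod ℓ) ((a + m : ℕ) : ZMod ℓ) * List.formPerm (h24_iv ℓ a m) *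
            List.formPerm (h24_iv ℓ (a + m) (ℓ - (a + m))) *
            ((List.formPerm (h24_iv ℓ a m))⁻¹ * h24_ivPerm ℓ L (a + m))
          = swap (a : ZMod ℓ) ((a + m : ℕ) : ZMod ℓ) *
            (List.formPerm (h24_iv ℓ (a + m) (ℓ - (a + m))) * h24_ivPerm ℓ L (a + m)) := by
            rw [mul_assoc (swap _ _), hcomm]
            group
        _ = _ := by
            rw [hIH, hrest, List.map_cons, List.formPerm_cons_cons]

theorem h24_ivList_bounds (ℓ : ℕ) (L : List ℕ) :
    ∀ (a : ℕ), (∀ m ∈ L, 1 ≤ m) → a + L.sum ≤ ℓ →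
      (∀ x ∈ h24_ivList ℓ L a, a ≤ x ∧ x < ℓ) ∧ (h24_ivList ℓ L a).Nodup := by
  induction L with
  | nil =>
    intro a _ _
    refine ⟨?_, List.nodup_range' 1⟩
    intro x hx
    have hx' : x ∈ List.range' a (ℓ - a) := hx
    rw [List.mem_range'_1] at hx'
    omega
  | cons m L ih =>
    intro a hL hsum
    rw [List.sum_cons] at hsum
    have hm : 1 ≤ m := hL m List.mem_cons_self
    obtain ⟨h1, h2⟩ := ih (a + m) (fun x hx => hL x (List.mem_cons_of_mem _ hx)) (by omega)
    constructor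
    · intro x hx
      have hx' : x ∈ a :: h24_ivList ℓ L (a + m) := hx
      rw [List.mem_cons] at hx'
      rcases hx' with rfl | hx'
      · omega
      · have := h1 x hx'
        omega
    · show (a :: h24_ivList ℓ L (a + m)).Nodup
      rw [List.nodup_cons]
      refine ⟨?_, h2⟩
      intro ha
      have := h1 a ha
      omega

theorem h24_ivList_length (ℓ : ℕ) (L : List ℕ) :
    ∀ (a : ℕ), a + L.sum ≤ ℓ → (h24_ivList ℓ L a).length + a + L.sum = L.length + ℓ := by
  induction L with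
  | nil =>
    intro a h
    show (List.range' a (ℓ - a)).length + a + 0 = 0 + ℓ
    rw [List.length_range']
    simp at h
    omega
  | cons m L ih =>
    intro a h
    rw [List.sum_cons] at h
    have := ih (a + m) (by omega)
    show (a :: h24_ivList ℓ L (a + m)).length + a + (m :: L).sum = (m :: L).length + ℓ
    rw [List.length_cons, List.length_cons, List.sum_cons]
    omega

theorem h24_sum_parity (L : List ℕ) (h : ∀ m ∈ L, Odd m) : L.sum % 2 = L.length % 2 := by
  induction L with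
  | nil => rfl
  | cons m L ih =>
    have hm := h m List.mem_cons_self
    have := ih (fun x hx => h x (List.mem_cons_of_mem _ hx))
    rw [List.sum_cons, List.length_cons]
    rcases hm with ⟨t, rfl⟩
    omega

theorem exists_interval_perm (ℓ s : ℕ) [NeZero ℓ] (M : Multiset ℕ) (hℓ : Odd ℓ) (hs : Odd s)
    (hs5 : 5 ≤ s) (hM : ∀ x ∈ M, Odd x ∧ 3 ≤ x) (hsum : s + M.sum ≤ ℓ) :
    ∃ (V : Perm (ZMod ℓ)) (j : ℕ), V.cycleType = s ::ₘ M ∧ Odd j ∧
      (Equiv.addRight (1 : ZMod ℓ) * V) ^ j = 1 ∧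
      ∀ i : ZMod ℓ, i ∈ ({1, 2, 3, 4} : Finset (ZMod ℓ)) →
        (Equiv.addRight (1 : ZMod ℓ) * V) i = i := by
  set L : List ℕ := s :: M.toList with hLdef
  have hLM : ∀ m ∈ M.toList, Odd m ∧ 3 ≤ m := fun m hm => hM m (Multiset.mem_toList.mp hm)
  have hL2 : ∀ m ∈ L, 2 ≤ m := by
    intro m hm
    rw [hLdef, List.mem_cons] at hm
    rcases hm with rfl | hm
    · omega
    · have := (hLM m hm).2
      omega
  have hL1 : ∀ m ∈ L, 1 ≤ m := fun m hm => by
    have := hL2 m hm
    omega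
  have hLodd : ∀ m ∈ L, Odd m := by
    intro m hm
    rw [hLdef, List.mem_cons] at hm
    rcases hm with rfl | hm
    · exact hs
    · exact (hLM m hm).1
  have hLsum : L.sum = s + M.sum := by
    rw [hLdef, List.sum_cons]
    congr 1
    conv_rhs => rw [← Multiset.coe_toList M]
    rfl
  have hsumL : 0 + L.sum ≤ ℓ := by omega
  have hcoe : (L : Multiset ℕ) = s ::ₘ M := by
    rw [hLdef, ← Multiset.cons_coe, Multiset.coe_toList]
  have hσ : Equiv.addRight (1 : ZMod ℓ) = List.formPerm (h24_iv ℓ 0 (ℓ - 0)) := by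
    rw [addRight_one_eq_formPerm, List.range_eq_range', Nat.sub_zero]
    rfl
  have hid := h24_main_identity ℓ L 0 hL1 hsumL
  rw [← hσ] at hid
  obtain ⟨hbd, hnd⟩ := h24_ivList_bounds ℓ L 0 hL1 hsumL
  have hndc : ((h24_ivList ℓ L 0).map (fun i : ℕ => (i : ZMod ℓ))).Nodup :=
    h24_nodup_map ℓ _ hnd (fun x hx => (hbd x hx).2)
  refine ⟨h24_ivPerm ℓ L 0, (h24_ivList ℓ L 0).length, ?_, ?_, ?_, ?_⟩
  · rw [h24_ivPerm_cycleType ℓ L 0 hL2 hsumL, hcoe]
  · have h1 := h24_ivList_length ℓ L 0 hsumL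
    have h2 := h24_sum_parity L hLodd
    rcases hℓ with ⟨t, ht⟩
    rw [Nat.odd_iff]
    omega
  · rw [hid]
    have := List.formPerm_pow_length_eq_one_of_nodup _ hndc
    rwa [List.length_map] at this
  · intro i hi
    rw [hid]
    apply List.formPerm_apply_of_notMem
    intro hmem
    rw [List.mem_map] at hmem
    obtain ⟨y, hy, hyi⟩ := hmem
    have hy' : y ∈ (0 : ℕ) :: h24_ivList ℓ M.toList (0 + s) := hy
    have hℓ5 : 5 ≤ ℓ := by omega
    obtain ⟨hbd', -⟩ := h24_ivList_bounds ℓ M.toList (0 + s)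
      (fun m hm => by have := (hLM m hm).2; omega) (by
        rw [hLdef, List.sum_cons] at hsumL
        omega)
    have hycases : y = 0 ∨ (5 ≤ y ∧ y < ℓ) := by
      rw [List.mem_cons] at hy'
      rcases hy' with h | h
      · left; exact h
      · right
        have := hbd' y h
        omega
    have hi' : ∃ k : ℕ, 1 ≤ k ∧ k ≤ 4 ∧ (k : ZMod ℓ) = i := by
      simp only [Finset.mem_insert, Finset.mem_singleton] at hi
      rcases hi with rfl | rfl | rfl | rfl
      · exact ⟨1, by omega, by omega, by simp⟩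
      · exact ⟨2, by omega, by omega, by simp⟩
      · exact ⟨3, by omega, by omega, by simp⟩
      · exact ⟨4, by omega, by omega, by simp⟩
    obtain ⟨k, hk1, hk4, hki⟩ := hi'
    have hyk : y = k := by
      apply h24_cast_inj ℓ (a := y) (b := k)
      · rcases hycases with h | h <;> omega
      · omega
      · rw [hki]
        exact hyi
    rcases hycases with h | h <;> omega

end Cfsg.Agent.Lib.Helper24.APF
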