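import Mathlib
import Cfsg.Prelude.Def_GeometricClasses
import Cfsg.Agent.Lib.Helper27.ASC.Defs
import Cfsg.Agent.Lib.helper23.ASCO.Defs
import Cfsg.Agent.Lib.Lead.Reindex
import Cfsg.Agent.Lib.Helper28.OTrans
import Cfsg.Agent.Lib.Helper28.OFrameT
import Cfsg.Agent.Lib.Helper24.ASCOTRND

set_option autoImplicit false
set_option linter.unusedVariables false
set_option linter.unusedSectionVars false

namespace Cfsg.Agent.Lib.helper23.ASCO

open Cfsg Cfsg.Geo Cfsg.Agent.Lib.Helper27.ASC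
open scoped MatrixGroups Matrix

variable {n : ℕ} {F : Type*} [Field F] [Fintype F]

section transport

open Cfsg.Agent.Lib.Lead

variable {ι κ : Type} [Fintype ι] [DecidableEq ι] [Fintype κ] [DecidableEq κ]

theorem ascotrfr_isometric (e : ι ≃ κ) (Q : (ι → F) → F) (A B : Submodule F (κ → F))
    (h : AreIsometricFor (fun x : κ → F => Q (x ∘ e)) A B) :
    AreIsometricFor Q (A.map (LinearEquiv.funCongrLeft F F e : (κ → F) →ₗ[F] (ι → F)))
      (B.map (LinearEquiv.funCongrLeft F F e : (κ → F) →ₗ[F] (ι → F))) := by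
  obtain ⟨ψ, hψ⟩ := h
  refine ⟨(((LinearEquiv.funCongrLeft F F e).submoduleMap A).symm.trans ψ).trans
    ((LinearEquiv.funCongrLeft F F e).submoduleMap B), ?_⟩
  intro w
  obtain ⟨x, hx⟩ : ∃ x : A, (LinearEquiv.funCongrLeft F F e).submoduleMap A x = w :=
    ((LinearEquiv.funCongrLeft F F e).submoduleMap A).surjective w
  rw [← hx]
  simp only [LinearEquiv.trans_apply, LinearEquiv.symm_apply_apply]
  have h1 := hψ x
  exact h1

theorem ascotrfr_mdecomp (e : ι ≃ κ) {t : ℕ} (D' : Fin t → Submodule F (κ → F))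
    (h : IsMDecomposition 1 D') :
    IsMDecomposition 1
      (fun i => (D' i).map (LinearEquiv.funCongrLeft F F e : (κ → F) →ₗ[F] (ι → F))) := by
  refine ⟨h.two_le, h.pos, fun i => ?_, ?_, ?_⟩
  · rw [ascotrnd_finrank]
    exact h.finrank_eq i
  · exact h.indep.map_orderIso (Submodule.orderIsoMapComap (LinearEquiv.funCongrLeft F F e))
  · rw [← Submodule.map_iSup, h.iSup_eq_top, Submodule.map_top, LinearMap.range_eq_top]
    exact (LinearEquiv.funCongrLeft F F e).surjective

theorem classFrame_transport (e : ι ≃ κ) (t : ℕ) (Q : (ι → F) → F) (H : Subgroup (GL ι F))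
    (h : ClassFrame t (fun x : κ → F => Q (x ∘ e)) (H.map (RI.glReindex (F := F) e).toMonoidHom)) :
    ClassFrame t Q H := by
  obtain ⟨D', hD, hH⟩ := h
  refine ⟨fun i => (D' i).map (LinearEquiv.funCongrLeft F F e : (κ → F) →ₗ[F] (ι → F)),
    ⟨⟨ascotrfr_mdecomp e D' hD.decomp.decomp, fun i => ascotrnd_nondeg e Q (D' i)
      (hD.decomp.nondegenerate i), ?_⟩, fun i j => ascotrfr_isometric e Q _ _ (hD.isometric i j)⟩,
    ?_⟩
  · rintro i j hij u ⟨x, hx, rfl⟩ v ⟨y, hy, rfl⟩
    exact hD.decomp.orthogonal i j hij x hx y hy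
  · apply ascotrnd_group e Q H _ _ _ hH
    rw [Cfsg.Agent.Lib.Helper28.OFrameT.map_decomp]
    congr 1
    funext i
    exact ascotrnd_comap_map e (D' i)

end transport

end Cfsg.Agent.Lib.helper23.ASCO
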