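import Mathlib
import Cfsg.Prelude.Def_GeometricClasses
import Cfsg.Agent.Lib.Helper27.ASC.Defs
import Cfsg.Agent.Lib.helper23.ASCO.Defs
import Cfsg.Agent.Lib.Helper19.ASG.Defs
import Cfsg.Agent.Lib.Helper9.ASGD2T.Defs
import Cfsg.Agent.Lib.Helper25.ASO.Defs
import Cfsg.Agent.Lib.Helper25.ASO.DefsD2T

set_option autoImplicit false
set_option linter.unusedVariables false
set_option linter.unusedSectionVars false

namespace Cfsg.Agent.Lib.Helper25.ASO

open Cfsg Cfsg.Geo Cfsg.Agent.Lib.Helper27.ASC Cfsg.Agent.Lib.helper23.ASCO Cfsg.Agent.Lib.Helper19.ASG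
open scoped MatrixGroups Matrix Kronecker

variable {n : ℕ} {F : Type*} [Field F] [Fintype F]

omit [Fintype F] in
theorem asod2tgram2_eval {m t : ℕ} (A : Fin t → Matrix (Fin m) (Fin m) F) (a b : Fin t → Fin m) :
    ∑ a', ∑ b', (Pi.single a (1 : F) : (Fin t → Fin m) → F) a' * (∏ i, A i (a' i) (b' i)) *
      (Pi.single b (1 : F) : (Fin t → Fin m) → F) b' = ∏ i, A i (a i) (b i) := by
  classical
  rw [Finset.sum_eq_single a, Finset.sum_eq_single b]
  · simp
  · intro b' _ hb'
    simp [hb']
  · simp
  · intro a' _ ha'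
    apply Finset.sum_eq_zero
    intro b' _
    simp [Pi.single_apply, ha']
  · simp

omit [Fintype F] in
theorem asod2tgram2_key {m t : ℕ} (f : (Fin n → F) → (Fin n → F) → F)
    (hf : ∀ u v, f u v = f v u) (e : Fin n ≃ (Fin t → Fin m)) (B : GL (Fin n) F) (c : F) (hc : c ≠ 0)
    (A : Fin t → Matrix (Fin m) (Fin m) F) (hG : IsPtGram f e B c A) (a b : Fin t → Fin m) :
    ∏ i, A i (a i) (b i) = ∏ i, A i (b i) (a i) := by
  have h1 := hG (Pi.single a 1) (Pi.single b 1)
  have h2' := hG (Pi.single b 1) (Pi.single a 1)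
  rw [hf, h2'] at h1
  have h3 := mul_left_cancel₀ hc h1
  rw [asod2tgram2_eval, asod2tgram2_eval] at h3
  exact h3.symm

theorem ptgram_symm (h2 : (2 : F) ≠ 0) {m t : ℕ} (hm : Odd m) (f : (Fin n → F) → (Fin n → F) → F)
    (hf : ∀ u v, f u v = f v u) (e : Fin n ≃ (Fin t → Fin m)) (B : GL (Fin n) F) (c : F) (hc : c ≠ 0)
    (A : Fin t → Matrix (Fin m) (Fin m) F) (hA : ∀ i, IsUnit (A i).det) (hG : IsPtGram f e B c A) :
    ∀ i, (A i).transpose = A i := by
  classical
  have key := asod2tgram2_key f hf e B c hc A hG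
  have hmpos : 0 < m := hm.pos
  have : Nonempty (Fin m) := ⟨⟨0, hmpos⟩⟩
  have hne : ∀ j, ∃ p q, A j p q ≠ 0 := by
    intro j
    by_contra h
    push Not at h
    have h0 : A j = 0 := by
      ext p q
      exact h p q
    have hd := hA j
    rw [h0, Matrix.det_zero] at hd
    exact not_isUnit_zero hd
  choose p q hpq using hne
  intro i
  set α : F := ∏ j ∈ Finset.univ.erase i, A j (p j) (q j) with hα
  set β : F := ∏ j ∈ Finset.univ.erase i, A j (q j) (p j) with hβ
  have hα0 : α ≠ 0 := by
    rw [hα]
    exact Finset.prod_ne_zero_iff.mpr (fun j _ => hpq j)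
  have hrel : ∀ r s, A i r s * α = A i s r * β := by
    intro r s
    have h1 := key (Function.update p i r) (Function.update q i s)
    rw [← Finset.mul_prod_erase _ _ (Finset.mem_univ i), ← Finset.mul_prod_erase _ _ (Finset.mem_univ i)] at h1
    simp only [Function.update_self] at h1
    have e1 : ∏ j ∈ Finset.univ.erase i, A j (Function.update p i r j) (Function.update q i s j) = α := by
      rw [hα]
      apply Finset.prod_congr rfl
      intro j hj
      have hji : j ≠ i := Finset.ne_of_mem_erase hj
      rw [Function.update_of_ne hji, Function.update_of_ne hji]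
    have e2 : ∏ j ∈ Finset.univ.erase i, A j (Function.update q i s j) (Function.update p i r j) = β := by
      rw [hβ]
      apply Finset.prod_congr rfl
      intro j hj
      have hji : j ≠ i := Finset.ne_of_mem_erase hj
      rw [Function.update_of_ne hji, Function.update_of_ne hji]
    rw [e1, e2] at h1
    exact h1
  have hsq : α * α = β * β := by
    have h1 := hrel (p i) (q i)
    have h3 := hrel (q i) (p i)
    have h4 : A i (p i) (q i) * (α * α) = A i (p i) (q i) * (β * β) := by
      calc A i (p i) (q i) * (α * α) = (A i (p i) (q i) * α) * α := by ring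
        _ = (A i (q i) (p i) * β) * α := by rw [h1]
        _ = (A i (q i) (p i) * α) * β := by ring
        _ = (A i (p i) (q i) * β) * β := by rw [h3]
        _ = A i (p i) (q i) * (β * β) := by ring
    exact mul_left_cancel₀ (hpq i) h4
  have hcases : β = α ∨ β = -α := by
    have h5 : (β - α) * (β + α) = 0 := by
      have : (β - α) * (β + α) = β * β - α * α := by ring
      rw [this, hsq, sub_self]
    rcases mul_eq_zero.mp h5 with h6 | h6
    · exact Or.inl (sub_eq_zero.mp h6)
    · exact Or.inr (eq_neg_of_add_eq_zero_left h6)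
  rcases hcases with hβα | hβα
  · ext r s
    rw [Matrix.transpose_apply]
    have h1 := hrel r s
    rw [hβα] at h1
    exact (mul_right_cancel₀ hα0 h1).symm
  · exfalso
    have hT : (A i).transpose = - A i := by
      ext r s
      rw [Matrix.transpose_apply, Matrix.neg_apply]
      have h1 := hrel r s
      rw [hβα, mul_neg, ← neg_mul] at h1
      have h7 := mul_right_cancel₀ hα0 h1
      rw [h7, neg_neg]
    have hd : (A i).det = - (A i).det := by
      have h8 := congrArg Matrix.det hT
      rw [Matrix.det_transpose, Matrix.det_neg, Fintype.card_fin, hm.neg_one_pow, neg_one_mul] at h8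
      exact h8
    have hd2 : (2 : F) * (A i).det = 0 := by
      rw [two_mul]
      nth_rewrite 1 [hd]
      exact neg_add_cancel _
    rcases mul_eq_zero.mp hd2 with h9 | h9
    · exact h2 h9
    · have hu := hA i
      rw [h9] at hu
      exact not_isUnit_zero hu

end Cfsg.Agent.Lib.Helper25.ASO
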