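import Mathlib
import Cfsg.Prelude.Def_GeometricClasses
import Cfsg.Agent.Lib.Helper27.ASC.Defs
import Cfsg.Agent.Lib.helper23.ASCO.Defs
import Cfsg.Agent.Lib.Helper19.ASG.Defs
import Cfsg.Agent.Lib.Helper9.ASGD2T.Defs
import Cfsg.Agent.Lib.Helper25.ASO.Defs
import Cfsg.Agent.Lib.Helper25.ASO.DefsD2T
import Cfsg.Agent.Lib.Helper11.ASGD2TPTMUL

set_option autoImplicit false
set_option linter.unusedVariables false
set_option linter.unusedSectionVars false

namespace Cfsg.Agent.Lib.Helper25.ASO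

open Cfsg Cfsg.Geo Cfsg.Agent.Lib.Helper27.ASC Cfsg.Agent.Lib.helper23.ASCO Cfsg.Agent.Lib.Helper19.ASG
open scoped MatrixGroups Matrix Kronecker

variable {n : ℕ} {F : Type*} [Field F] [Fintype F]

omit [Fintype F] in
theorem asod2tiso_ext {ι : Type*} [Fintype ι] [DecidableEq ι] (M N : Matrix ι ι F)
    (h : ∀ u v : ι → F, u ⬝ᵥ (M *ᵥ v) = u ⬝ᵥ (N *ᵥ v)) : M = N := by
  ext i j
  have := h (Pi.single i 1) (Pi.single j 1)
  simpa using this

omit [Fintype F] in
theorem asod2tiso_sum {m t : ℕ} (A : Fin t → Matrix (Fin m) (Fin m) F) (x y : (Fin t → Fin m) → F) :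
    ∑ a, ∑ b, x a * (∏ i, A i (a i) (b i)) * y b = x ⬝ᵥ (ptMat A *ᵥ y) := by
  simp only [dotProduct, Matrix.mulVec, ptMat_apply, Finset.mul_sum, mul_assoc]

omit [Fintype F] in
theorem asod2tiso_transpose {m t : ℕ} (c : Fin t → Matrix (Fin m) (Fin m) F) :
    (ptMat c)ᵀ = ptMat (fun j => (c j)ᵀ) := by
  ext x y
  simp [ptMat_apply, Matrix.transpose_apply]

omit [Fintype F] in
theorem asod2tiso_single_transpose {m t : ℕ} (i : Fin t) (a : Matrix (Fin m) (Fin m) F) :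
    (fun j => ((Pi.mulSingle i a : Fin t → Matrix (Fin m) (Fin m) F) j)ᵀ) = Pi.mulSingle i aᵀ := by
  funext j
  by_cases h : j = i
  · subst h
    simp
  · rw [Pi.mulSingle_eq_of_ne h, Pi.mulSingle_eq_of_ne h, Matrix.transpose_one]

omit [Fintype F] in
theorem asod2tiso_reindex_mulVec {m t : ℕ} (e : Fin n ≃ (Fin t → Fin m))
    (M : Matrix (Fin t → Fin m) (Fin t → Fin m) F) (x : (Fin t → Fin m) → F) :
    Matrix.reindex e.symm e.symm M *ᵥ (x ∘ e) = (M *ᵥ x) ∘ e := by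
  rw [Matrix.reindex_apply, Matrix.submatrix_mulVec_equiv]
  have : (x ∘ e) ∘ (e.symm.symm).symm = x := by
    funext a
    simp
  rw [this]
  rfl

omit [Fintype F] in
theorem asod2tiso_tau {m t : ℕ} (e : Fin n ≃ (Fin t → Fin m)) (B : GL (Fin n) F)
    (M : Matrix (Fin t → Fin m) (Fin t → Fin m) F) (x : (Fin t → Fin m) → F) :
    ((B : Matrix (Fin n) (Fin n) F) * Matrix.reindex e.symm e.symm M *
        ((B⁻¹ : GL (Fin n) F) : Matrix (Fin n) (Fin n) F)) *ᵥ ((B : Matrix (Fin n) (Fin n) F) *ᵥ (x ∘ e)) =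
      (B : Matrix (Fin n) (Fin n) F) *ᵥ ((M *ᵥ x) ∘ e) := by
  have hB : ((B⁻¹ : GL (Fin n) F) : Matrix (Fin n) (Fin n) F) * (B : Matrix (Fin n) (Fin n) F) = 1 := by
    rw [← Units.val_mul, inv_mul_cancel, Units.val_one]
  rw [Matrix.mulVec_mulVec, mul_assoc, hB, mul_one, ← Matrix.mulVec_mulVec, asod2tiso_reindex_mulVec]

theorem factor_iso (f : (Fin n → F) → (Fin n → F) → F) {m t : ℕ} (e : Fin n ≃ (Fin t → Fin m)) (B : GL (Fin n) F)
    (c : F) (hc : c ≠ 0) (A : Fin t → Matrix (Fin m) (Fin m) F) (hA : ∀ i, IsUnit (A i).det)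
    (hG : IsPtGram f e B c A) (i : Fin t) (a : Matrix (Fin m) (Fin m) F)
    (hiso : ∀ u v : Fin n → F,
      f (((B : Matrix (Fin n) (Fin n) F) * Matrix.reindex e.symm e.symm (ptMat (Pi.mulSingle i a)) *
          ((B⁻¹ : GL (Fin n) F) : Matrix (Fin n) (Fin n) F)) *ᵥ u)
        (((B : Matrix (Fin n) (Fin n) F) * Matrix.reindex e.symm e.symm (ptMat (Pi.mulSingle i a)) *
          ((B⁻¹ : GL (Fin n) F) : Matrix (Fin n) (Fin n) F)) *ᵥ v) = f u v) :
    a.transpose * A i * a = A i := by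
  classical
  set M : Matrix (Fin t → Fin m) (Fin t → Fin m) F := ptMat (Pi.mulSingle i a) with hM
  have h1 : ∀ x y : (Fin t → Fin m) → F,
      (M *ᵥ x) ⬝ᵥ (ptMat A *ᵥ (M *ᵥ y)) = x ⬝ᵥ (ptMat A *ᵥ y) := by
    intro x y
    have h := hiso ((B : Matrix (Fin n) (Fin n) F) *ᵥ (x ∘ e)) ((B : Matrix (Fin n) (Fin n) F) *ᵥ (y ∘ e))
    rw [asod2tiso_tau, asod2tiso_tau, hG, hG, asod2tiso_sum, asod2tiso_sum] at h
    exact mul_left_cancel₀ hc h
  have h2 : Mᵀ * ptMat A * M = ptMat A := by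
    apply asod2tiso_ext
    intro x y
    rw [← h1 x y, ← Matrix.mulVec_mulVec, ← Matrix.mulVec_mulVec, Matrix.dotProduct_mulVec,
      Matrix.vecMul_transpose]
  have h3 : Mᵀ * ptMat A * M = ptMat (Function.update A i (aᵀ * A i * a)) := by
    rw [hM, asod2tiso_transpose, asod2tiso_single_transpose, ← ptMat_mul, ← ptMat_mul]
    congr 1
    funext j
    by_cases h : j = i
    · subst h
      simp
    · rw [Function.update_of_ne h, Pi.mul_apply, Pi.mul_apply, Pi.mulSingle_eq_of_ne h,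
        Pi.mulSingle_eq_of_ne h, one_mul, mul_one]
  rw [h3] at h2
  set D : Fin t → Matrix (Fin m) (Fin m) F := fun j => if j = i then 1 else (A j)⁻¹ with hD
  have h4 : ∀ X : Matrix (Fin m) (Fin m) F, ptMat (Function.update A i X) * ptMat D = ptMat (Pi.mulSingle i X) := by
    intro X
    rw [← ptMat_mul]
    congr 1
    funext j
    by_cases h : j = i
    · subst h
      simp [hD]
    · rw [Pi.mul_apply, Function.update_of_ne h, Pi.mulSingle_eq_of_ne h, hD]
      simp only [if_neg h]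
      exact Matrix.mul_nonsing_inv _ (hA j)
  have h5 := h4 (aᵀ * A i * a)
  rw [h2] at h5
  have h6 := h4 (A i)
  rw [Function.update_eq_self] at h6
  exact ptMat_single_injective i _ _ (h5.symm.trans h6)

end Cfsg.Agent.Lib.Helper25.ASO
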