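import Mathlib
import Cfsg.Prelude.Def_GeometricClasses
import Cfsg.Agent.Lib.Helper27.ASC.Defs
import Cfsg.Agent.Lib.helper23.ASCO.Defs
import Cfsg.Agent.Lib.Helper19.ASG.Defs
import Cfsg.Agent.Lib.Helper1.ASGCLIF3
import Cfsg.Agent.Lib.Lead.Reindex
import Cfsg.Agent.Lib.Helper25.ASO.Defs
import Cfsg.Agent.Lib.Helper28.OsR

set_option autoImplicit false
set_option linter.unusedVariables false
set_option linter.unusedSectionVars false

namespace Cfsg.Agent.Lib.Helper25.ASO

open Cfsg Cfsg.Geo Cfsg.Agent.Lib.Helper27.ASC Cfsg.Agent.Lib.helper23.ASCO Cfsg.Agent.Lib.Helper19.ASG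
open scoped MatrixGroups Matrix Kronecker

variable {n : ℕ} {F : Type*} [Field F] [Fintype F]

section transport

open Cfsg.Agent.Lib.Lead

variable {ι κ : Type} [Fintype ι] [DecidableEq ι] [Fintype κ] [DecidableEq κ]

theorem osub_transport (e : ι ≃ κ) (Q : (ι → F) → F) (M' : Subgroup (GL κ F))
    (h : OSub (fun x : κ → F => Q (x ∘ e)) M') :
    OSub Q (M'.comap (RI.glReindex (F := F) e).toMonoidHom) := by
  obtain ⟨F₀, r, P', hr, hcard, hrat, hM'⟩ := h
  refine ⟨F₀, r, (RI.glReindex (F := F) e).symm P', hr, hcard, ?_, ?_⟩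
  · intro u hu
    have h1 := hrat (u ∘ e.symm) (fun i => hu (e.symm i))
    have hP : (P' : Matrix κ κ F) = Matrix.reindex e e
        (((RI.glReindex (F := F) e).symm P' : GL ι F) : Matrix ι ι F) := by
      rw [← RI.glReindex_coe, MulEquiv.apply_symm_apply]
    have h2 : ((P' : Matrix κ κ F) *ᵥ (u ∘ e.symm)) ∘ e =
        (((RI.glReindex (F := F) e).symm P' : GL ι F) : Matrix ι ι F) *ᵥ u := by
      rw [hP, RI.reindex_mulVec]
      have h3 : (u ∘ e.symm) ∘ e = u := by
        funext i
        simp
      rw [h3]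
      funext i
      simp
    simp only [] at h1
    rw [h2] at h1
    exact h1
  · have hinj : Function.Injective (RI.glReindex (F := F) e).toMonoidHom :=
      (RI.glReindex (F := F) e).injective
    have hsurj : Function.Surjective (RI.glReindex (F := F) e).toMonoidHom :=
      (RI.glReindex (F := F) e).surjective
    apply Subgroup.map_injective hinj
    rw [Subgroup.map_comap_eq_self_of_surjective hsurj, hM', Subgroup.map_inf _ _ _ hinj,
      Cfsg.Agent.Lib.Helper28.Os.map_sub_reindex, RI.map_iso, MulEquiv.apply_symm_apply]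

end transport

end Cfsg.Agent.Lib.Helper25.ASO
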