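import Mathlib
import Cfsg.Agent.Lib.helper6.PermChar6
import Cfsg.Agent.Lib.Helper11.VirtChar

set_option autoImplicit false

namespace Cfsg.Agent.Lib.Helper24

open MulAction
open scoped ComplexConjugate
open Cfsg.Agent.Lib.helper6.PermChar

section General
variable {G : Type*} [Group G] [Fintype G]

noncomputable def acPair (u v : G → ℂ) : ℂ := ∑ g : G, u g * v g

theorem acPair_add_left (u v w : G → ℂ) : acPair (u + v) w = acPair u w + acPair v w := by
  simp only [acPair, Pi.add_apply, add_mul, Finset.sum_add_distrib]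

theorem acPair_sub_left (u v w : G → ℂ) : acPair (u - v) w = acPair u w - acPair v w := by
  simp only [acPair, Pi.sub_apply, sub_mul, Finset.sum_sub_distrib]

theorem acPair_add_right (u v w : G → ℂ) : acPair u (v + w) = acPair u v + acPair u w := by
  simp only [acPair, Pi.add_apply, mul_add, Finset.sum_add_distrib]

theorem acPair_sub_right (u v w : G → ℂ) : acPair u (v - w) = acPair u v - acPair u w := by
  simp only [acPair, Pi.sub_apply, mul_sub, Finset.sum_sub_distrib]

theorem acPair_comm (u v : G → ℂ) : acPair u v = acPair v u := by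
  simp only [acPair, mul_comm]

theorem classInner_eq_acPair (u v : G → ℂ) (hv : ∀ g, conj (v g) = v g) :
    Cfsg.classInner u v = (Nat.card G : ℂ)⁻¹ * acPair u v := by
  unfold Cfsg.classInner acPair
  congr 1
  exact Finset.sum_congr rfl (fun g _ => by rw [hv g])

theorem ac_irr_of_norm_one (θ ψ : G → ℂ) (hθ : Cfsg.IsGeneralizedCharacter G θ)
    (h1 : Cfsg.classInner θ θ = 1) (hψ : Cfsg.IsCharacter G ψ) (hpos : Cfsg.classInner θ ψ = 1) :
    Cfsg.IsIrrCharacter G θ := by
  obtain ⟨ε, η, hε, hθη⟩ := Cfsg.Agent.Lib.Helper11.genChar_norm_one θ hθ h1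
  rcases hε with rfl | rfl
  · rw [hθη]
    simp only [Int.cast_one, one_smul]
    exact η.2
  · exfalso
    obtain ⟨m, hm⟩ := Cfsg.Agent.Lib.helper2.classInner_character_nat
      (Cfsg.Agent.Lib.helper2.isCharacter_of_irr η) hψ
    rw [hθη, Cfsg.Agent.Lib.Helper25.classInner_smul_left, hm] at hpos
    have h2 : ((-(m : ℤ) : ℤ) : ℂ) = ((1 : ℤ) : ℂ) := by
      push_cast
      rw [← hpos]
      push_cast
      ring
    have h3 : -(m : ℤ) = 1 := by exact_mod_cast h2
    omega

end General

section Burnside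
variable {G : Type*} [Group G] [Fintype G]
variable {Ω : Type*} [Fintype Ω] [DecidableEq Ω] [MulAction G Ω]
variable {Ω' : Type*} [Fintype Ω'] [DecidableEq Ω'] [MulAction G Ω']

theorem ac_sum_pi :
    ∑ g : G, piChar G Ω g = (Nat.card (orbitRel.Quotient G Ω) : ℂ) * (Nat.card G : ℂ) := by
  classical
  have hB := MulAction.sum_card_fixedBy_eq_card_orbits_mul_card_group G Ω
  have h1 : ∑ g : G, piChar G Ω g = ((∑ g : G, Fintype.card (fixedBy Ω g) : ℕ) : ℂ) := by
    rw [Nat.cast_sum]
    apply Finset.sum_congr rfl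
    intro g _
    unfold piChar
    rw [Nat.card_eq_fintype_card]
  rw [h1, hB, Nat.card_eq_fintype_card, Nat.card_eq_fintype_card]
  push_cast
  rfl

theorem ac_piChar_prod (g : G) : piChar G (Ω × Ω') g = piChar G Ω g * piChar G Ω' g := by
  unfold piChar
  rw [← Nat.cast_mul, ← Nat.card_prod]
  congr 1
  apply Nat.card_congr
  refine ⟨fun z => (⟨z.1.1, ?_⟩, ⟨z.1.2, ?_⟩), fun p => ⟨(p.1.1, p.2.1), ?_⟩, ?_, ?_⟩
  · have := z.2
    rw [mem_fixedBy, Prod.smul_def, Prod.ext_iff] at this
    exact this.1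
  · have := z.2
    rw [mem_fixedBy, Prod.smul_def, Prod.ext_iff] at this
    exact this.2
  · rw [mem_fixedBy, Prod.smul_def, Prod.ext_iff]
    exact ⟨p.1.2, p.2.2⟩
  · intro z
    rfl
  · intro p
    rfl

theorem ac_pair_pi :
    acPair (piChar G Ω) (piChar G Ω')
      = (Nat.card (orbitRel.Quotient G (Ω × Ω')) : ℂ) * (Nat.card G : ℂ) := by
  unfold acPair
  rw [← ac_sum_pi]
  exact Finset.sum_congr rfl (fun g _ => (ac_piChar_prod g).symm)

theorem ac_card_orbits {Z T : Type*} [MulAction G Z] (τ : Z → T)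
    (hinv : ∀ (g : G) (z : Z), τ (g • z) = τ z)
    (hsep : ∀ z z' : Z, τ z = τ z' → ∃ g : G, g • z = z')
    (hsurj : Function.Surjective τ) :
    Nat.card (orbitRel.Quotient G Z) = Nat.card T := by
  apply Nat.card_congr
  refine Equiv.ofBijective (Quotient.lift τ ?_) ⟨?_, ?_⟩
  · intro a b hab
    obtain ⟨g, hg⟩ := hab
    rw [← hg]
    exact hinv g b
  · intro a b
    induction a using Quotient.inductionOn with
    | _ a =>
      induction b using Quotient.inductionOn with
      | _ b =>
        intro h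
        simp only [Quotient.lift_mk] at h
        obtain ⟨g, hg⟩ := hsep a b h
        apply Quotient.sound
        exact ⟨g⁻¹, by show g⁻¹ • b = a; rw [← hg, inv_smul_smul]⟩
  · intro t
    obtain ⟨z, hz⟩ := hsurj t
    exact ⟨Quotient.mk _ z, hz⟩

end Burnside

end Cfsg.Agent.Lib.Helper24
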