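import Mathlib
import Cfsg.Agent.Lib.Helper24.AltChar1

set_option autoImplicit false

namespace Cfsg.Agent.Lib.Helper24

open MulAction
open Cfsg.Agent.Lib.helper6.PermChar

section Moments
variable {G : Type*} [Group G] [Fintype G] {α : Type*} [Fintype α] [DecidableEq α] [MulAction G α]

theorem ac_piChar_emb (m : ℕ) (g : G) :
    piChar G (Fin m ↪ α) g = ((Nat.card (fixedBy α g)).descFactorial m : ℂ) := by
  classical
  unfold piChar
  congr 1
  have e : fixedBy (Fin m ↪ α) g ≃ (Fin m ↪ fixedBy α g) :=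
    { toFun := fun φ => ⟨fun i => ⟨φ.1 i, by
          have := φ.2
          rw [mem_fixedBy] at this ⊢
          conv_rhs => rw [← this]
          rfl⟩, fun i j h => φ.1.injective (by simpa using congrArg Subtype.val h)⟩
      invFun := fun ψ => ⟨ψ.trans (Function.Embedding.subtype _), by
          rw [mem_fixedBy]
          ext i
          rw [Function.Embedding.smul_apply]
          exact (ψ i).2⟩
      left_inv := fun φ => by ext i; rfl
      right_inv := fun ψ => by ext i; rfl }
  rw [Nat.card_congr e, Nat.card_eq_fintype_card, Fintype.card_embedding_eq, Fintype.card_fin,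
    Nat.card_eq_fintype_card]

theorem ac_sum_trans {Ω : Type*} [Fintype Ω] [DecidableEq Ω] [MulAction G Ω] [IsPretransitive G Ω]
    [Nonempty Ω] : ∑ g : G, piChar G Ω g = (Nat.card G : ℂ) := by
  classical
  rw [ac_sum_pi]
  have hq : Nat.card (orbitRel.Quotient G Ω) = 1 := by
    rw [Nat.card_eq_fintype_card]
    exact Fintype.card_eq_one_iff_nonempty_unique.mpr
      ((pretransitive_iff_unique_quotient_of_nonempty G Ω).mp inferInstance)
  rw [hq, Nat.cast_one, one_mul]

theorem ac_sum_emb (m : ℕ) (hm : IsMultiplyPretransitive G α m) (hc : m ≤ Fintype.card α) :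
    ∑ g : G, piChar G (Fin m ↪ α) g = (Nat.card G : ℂ) := by
  have : Nonempty (Fin m ↪ α) :=
    Function.Embedding.nonempty_of_card_le (by rw [Fintype.card_fin]; exact hc)
  exact ac_sum_trans

noncomputable def ac1 (G : Type*) : G → ℂ := fun _ => 1

theorem acPair_ac1 (u : G → ℂ) : acPair u (ac1 G) = ∑ g : G, u g := by
  unfold acPair ac1
  simp only [mul_one]

theorem ac_desc2 (f : ℕ) : f * f = f.descFactorial 2 + f := by
  rcases f with _|_|f <;> simp [Nat.descFactorial] <;> ring

theorem ac_desc3 (f : ℕ) : f * f.descFactorial 2 = f.descFactorial 3 + 2 * f.descFactorial 2 := by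
  rcases f with _|_|_|f <;> simp [Nat.descFactorial] <;> ring

theorem ac_desc4 (f : ℕ) : f.descFactorial 2 * f.descFactorial 2
    = f.descFactorial 4 + 4 * f.descFactorial 3 + 2 * f.descFactorial 2 := by
  rcases f with _|_|_|_|f <;> simp [Nat.descFactorial] <;> ring

theorem ac_piChar_emb1 (g : G) : piChar G (Fin 1 ↪ α) g = piChar G α g := by
  rw [ac_piChar_emb]
  unfold piChar
  rw [Nat.descFactorial_one]

variable (h4 : IsMultiplyPretransitive G α 4) (hc : 4 ≤ Fintype.card α)
include h4 hc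

theorem ac_mt (m : ℕ) (hm : m ≤ 4) : IsMultiplyPretransitive G α m := by
  have : IsMultiplyPretransitive G α 4 := h4
  exact isMultiplyPretransitive_of_le hm (by rw [Nat.card_eq_fintype_card]; exact hc)

theorem ac_sum_D (m : ℕ) (hm : m ≤ 4) :
    ∑ g : G, piChar G (Fin m ↪ α) g = (Nat.card G : ℂ) :=
  ac_sum_emb m (ac_mt h4 hc m hm) (le_trans hm hc)

theorem ac_m1 : acPair (piChar G α) (ac1 G) = (Nat.card G : ℂ) := by
  rw [acPair_ac1, ← ac_sum_D h4 hc 1 (by norm_num)]
  exact Finset.sum_congr rfl (fun g _ => (ac_piChar_emb1 g).symm)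

theorem ac_m2 : acPair (piChar G α) (piChar G α) = 2 * (Nat.card G : ℂ) := by
  have h : ∀ g : G, piChar G α g * piChar G α g
      = piChar G (Fin 2 ↪ α) g + piChar G (Fin 1 ↪ α) g := by
    intro g
    rw [ac_piChar_emb, ac_piChar_emb1]
    unfold piChar
    rw [← Nat.cast_mul, ac_desc2]
    push_cast
    rfl
  unfold acPair
  rw [Finset.sum_congr rfl (fun g _ => h g), Finset.sum_add_distrib,
    ac_sum_D h4 hc 2 (by norm_num), ac_sum_D h4 hc 1 (by norm_num)]
  ring

theorem ac_d2 : acPair (piChar G (Fin 2 ↪ α)) (ac1 G) = (Nat.card G : ℂ) := by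
  rw [acPair_ac1, ac_sum_D h4 hc 2 (by norm_num)]

theorem ac_m3 : acPair (piChar G (Fin 2 ↪ α)) (piChar G α) = 3 * (Nat.card G : ℂ) := by
  have h : ∀ g : G, piChar G (Fin 2 ↪ α) g * piChar G α g
      = piChar G (Fin 3 ↪ α) g + 2 * piChar G (Fin 2 ↪ α) g := by
    intro g
    rw [ac_piChar_emb, ac_piChar_emb]
    unfold piChar
    rw [mul_comm, ← Nat.cast_mul, ac_desc3]
    push_cast
    rfl
  unfold acPair
  rw [Finset.sum_congr rfl (fun g _ => h g), Finset.sum_add_distrib, ← Finset.mul_sum,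
    ac_sum_D h4 hc 3 (by norm_num), ac_sum_D h4 hc 2 (by norm_num)]
  ring

theorem ac_m4 : acPair (piChar G (Fin 2 ↪ α)) (piChar G (Fin 2 ↪ α)) = 7 * (Nat.card G : ℂ) := by
  have h : ∀ g : G, piChar G (Fin 2 ↪ α) g * piChar G (Fin 2 ↪ α) g
      = piChar G (Fin 4 ↪ α) g + 4 * piChar G (Fin 3 ↪ α) g + 2 * piChar G (Fin 2 ↪ α) g := by
    intro g
    rw [ac_piChar_emb, ac_piChar_emb, ac_piChar_emb]
    rw [← Nat.cast_mul, ac_desc4]
    push_cast
    rfl
  unfold acPair
  rw [Finset.sum_congr rfl (fun g _ => h g), Finset.sum_add_distrib, Finset.sum_add_distrib,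
    ← Finset.mul_sum, ← Finset.mul_sum,
    ac_sum_D h4 hc 4 (by norm_num), ac_sum_D h4 hc 3 (by norm_num), ac_sum_D h4 hc 2 (by norm_num)]
  ring

end Moments

end Cfsg.Agent.Lib.Helper24
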