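import Mathlib
import Cfsg.Agent.Lib.Helper24.AltChar2

set_option autoImplicit false

namespace Cfsg.Agent.Lib.Helper24

open MulAction
open scoped Pointwise
open Cfsg.Agent.Lib.helper6.PermChar

section Trans
variable {G : Type*} [Group G] {α : Type*} [MulAction G α]

theorem ac_t2 (h2 : IsMultiplyPretransitive G α 2) {a b a' b' : α} (hab : a ≠ b)
    (hab' : a' ≠ b') : ∃ g : G, g • a = a' ∧ g • b = b' := by
  have hx : Function.Injective ![a, b] := by
    intro i j h
    fin_cases i <;> fin_cases j <;> simp_all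
  have hy : Function.Injective ![a', b'] := by
    intro i j h
    fin_cases i <;> fin_cases j <;> simp_all
  obtain ⟨g, hg⟩ := h2.exists_smul_eq (⟨![a, b], hx⟩ : Fin 2 ↪ α) ⟨![a', b'], hy⟩
  refine ⟨g, ?_, ?_⟩
  · have := congrArg (fun φ : Fin 2 ↪ α => φ 0) hg
    simpa [Function.Embedding.smul_apply] using this
  · have := congrArg (fun φ : Fin 2 ↪ α => φ 1) hg
    simpa [Function.Embedding.smul_apply] using this

theorem ac_t3 (h3 : IsMultiplyPretransitive G α 3) {a b c a' b' c' : α} (hab : a ≠ b)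
    (hac : a ≠ c) (hbc : b ≠ c) (hab' : a' ≠ b') (hac' : a' ≠ c') (hbc' : b' ≠ c') :
    ∃ g : G, g • a = a' ∧ g • b = b' ∧ g • c = c' := by
  have hx : Function.Injective ![a, b, c] := by
    intro i j h
    fin_cases i <;> fin_cases j <;> simp_all
  have hy : Function.Injective ![a', b', c'] := by
    intro i j h
    fin_cases i <;> fin_cases j <;> simp_all
  obtain ⟨g, hg⟩ := h3.exists_smul_eq (⟨![a, b, c], hx⟩ : Fin 3 ↪ α) ⟨![a', b', c'], hy⟩
  refine ⟨g, ?_, ?_, ?_⟩
  · have := congrArg (fun φ : Fin 3 ↪ α => φ 0) hg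
    simpa [Function.Embedding.smul_apply] using this
  · have := congrArg (fun φ : Fin 3 ↪ α => φ 1) hg
    simpa [Function.Embedding.smul_apply] using this
  · have := congrArg (fun φ : Fin 3 ↪ α => φ 2) hg
    simpa [Function.Embedding.smul_apply] using this

theorem ac_t4 (h4 : IsMultiplyPretransitive G α 4) {a b c d a' b' c' d' : α} (hab : a ≠ b)
    (hac : a ≠ c) (had : a ≠ d) (hbc : b ≠ c) (hbd : b ≠ d) (hcd : c ≠ d)
    (hab' : a' ≠ b') (hac' : a' ≠ c') (had' : a' ≠ d') (hbc' : b' ≠ c') (hbd' : b' ≠ d')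
    (hcd' : c' ≠ d') :
    ∃ g : G, g • a = a' ∧ g • b = b' ∧ g • c = c' ∧ g • d = d' := by
  have hx : Function.Injective ![a, b, c, d] := by
    intro i j h
    fin_cases i <;> fin_cases j <;> simp_all
  have hy : Function.Injective ![a', b', c', d'] := by
    intro i j h
    fin_cases i <;> fin_cases j <;> simp_all
  obtain ⟨g, hg⟩ := h4.exists_smul_eq (⟨![a, b, c, d], hx⟩ : Fin 4 ↪ α) ⟨![a', b', c', d'], hy⟩
  refine ⟨g, ?_, ?_, ?_, ?_⟩
  · have := congrArg (fun φ : Fin 4 ↪ α => φ 0) hg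
    simpa [Function.Embedding.smul_apply] using this
  · have := congrArg (fun φ : Fin 4 ↪ α => φ 1) hg
    simpa [Function.Embedding.smul_apply] using this
  · have := congrArg (fun φ : Fin 4 ↪ α => φ 2) hg
    simpa [Function.Embedding.smul_apply] using this
  · have := congrArg (fun φ : Fin 4 ↪ α => φ 3) hg
    simpa [Function.Embedding.smul_apply] using this

end Trans

section Pairs
variable {G : Type*} [Group G] {α : Type*} [DecidableEq α] [MulAction G α]

def acS (a b : α) (h : a ≠ b) : Set.powersetCard α 2 :=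
  ⟨{a, b}, Set.powersetCard.mem_iff.mpr (Finset.card_pair h)⟩

theorem acS_val (a b : α) (h : a ≠ b) : (acS a b h).1 = {a, b} := rfl

theorem ac_mem_S {a b x : α} (h : a ≠ b) : x ∈ (acS a b h).1 ↔ x = a ∨ x = b := by
  rw [acS_val, Finset.mem_insert, Finset.mem_singleton]

theorem acS_comm (a b : α) (h : a ≠ b) : acS a b h = acS b a h.symm := by
  apply Subtype.ext
  rw [acS_val, acS_val, Finset.pair_comm]

theorem ac_exists_S (s : Set.powersetCard α 2) : ∃ (a b : α) (h : a ≠ b), s = acS a b h := by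
  obtain ⟨a, b, hab, hs⟩ := Finset.card_eq_two.mp (Set.powersetCard.mem_iff.mp s.2)
  exact ⟨a, b, hab, Subtype.ext hs⟩

theorem ac_exists_S_of_mem (s : Set.powersetCard α 2) (x : α) (hx : x ∈ s.1) :
    ∃ (b : α) (h : x ≠ b), s = acS x b h := by
  obtain ⟨a, b, hab, rfl⟩ := ac_exists_S s
  rcases (ac_mem_S hab).mp hx with rfl | rfl
  · exact ⟨b, hab, rfl⟩
  · exact ⟨a, hab.symm, acS_comm a x hab⟩

theorem ac_smul_S (g : G) (a b : α) (h : a ≠ b) :
    g • acS a b h = acS (g • a) (g • b) (fun e => h (MulAction.injective g e)) := by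
  apply Subtype.ext
  rw [Set.powersetCard.coe_smul, acS_val, acS_val, Finset.smul_finset_insert,
    Finset.smul_finset_singleton]

theorem ac_smul_mem_iff (g : G) (s : Set.powersetCard α 2) (x : α) :
    g • x ∈ (g • s).1 ↔ x ∈ s.1 := by
  rw [Set.powersetCard.coe_smul]
  exact Finset.smul_mem_smul_finset_iff g

end Pairs

end Cfsg.Agent.Lib.Helper24
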