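import Mathlib
import Cfsg.Agent.Lib.Helper24.AltChar3

set_option autoImplicit false

namespace Cfsg.Agent.Lib.Helper24

open MulAction
open scoped Pointwise
open Cfsg.Agent.Lib.helper6.PermChar

section ClassA
variable {G : Type*} [Group G] [Fintype G] {α : Type*} [Fintype α] [DecidableEq α] [MulAction G α]

theorem ac_four_points (hc : 4 ≤ Fintype.card α) :
    ∃ a b c d : α, a ≠ b ∧ a ≠ c ∧ a ≠ d ∧ b ≠ c ∧ b ≠ d ∧ c ≠ d := by
  have : Nonempty (Fin 4 ↪ α) :=
    Function.Embedding.nonempty_of_card_le (by rw [Fintype.card_fin]; exact hc)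
  obtain ⟨e⟩ := this
  refine ⟨e 0, e 1, e 2, e 3, ?_, ?_, ?_, ?_, ?_, ?_⟩ <;>
  · intro h
    have := e.injective h
    revert this
    decide

variable (h4 : IsMultiplyPretransitive G α 4) (hc : 4 ≤ Fintype.card α)
include h4 hc

theorem ac_orbits_a :
    Nat.card (orbitRel.Quotient G (Set.powersetCard α 2 × α)) = 2 := by
  have h2 := ac_mt h4 hc 2 (by norm_num)
  have h3 := ac_mt h4 hc 3 (by norm_num)
  rw [ac_card_orbits (G := G) (fun z : Set.powersetCard α 2 × α => decide (z.2 ∈ z.1.1))]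
  · simp
  · intro g z
    rw [decide_eq_decide]
    exact ac_smul_mem_iff g z.1 z.2
  · rintro ⟨s, x⟩ ⟨u, y⟩ h
    rw [decide_eq_decide] at h
    simp only at h
    by_cases hx : x ∈ s.1
    · have hy := h.mp hx
      obtain ⟨b, hb, rfl⟩ := ac_exists_S_of_mem s x hx
      obtain ⟨b', hb', rfl⟩ := ac_exists_S_of_mem u y hy
      obtain ⟨g, h1, h2⟩ := ac_t2 h2 hb hb'
      refine ⟨g, ?_⟩
      rw [Prod.smul_mk, ac_smul_S]
      simp only [h1, h2]
    · have hy : y ∉ u.1 := fun hy => hx (h.mpr hy)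
      obtain ⟨a, b, hab, rfl⟩ := ac_exists_S s
      obtain ⟨a', b', hab', rfl⟩ := ac_exists_S u
      rw [ac_mem_S, not_or] at hx hy
      obtain ⟨g, h1, h2, h3⟩ := ac_t3 h3 hab (Ne.symm hx.1) (Ne.symm hx.2) hab' (Ne.symm hy.1)
        (Ne.symm hy.2)
      refine ⟨g, ?_⟩
      rw [Prod.smul_mk, ac_smul_S]
      simp only [h1, h2, h3]
  · obtain ⟨a, b, c, d, hab, hac, had, hbc, hbd, hcd⟩ := ac_four_points hc
    intro t
    cases t
    · refine ⟨(acS a b hab, c), ?_⟩
      simp only [decide_eq_false_iff_not, ac_mem_S, not_or]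
      exact ⟨hac.symm, hbc.symm⟩
    · refine ⟨(acS a b hab, a), ?_⟩
      rw [decide_eq_true_eq, ac_mem_S]
      exact Or.inl rfl

end ClassA

section ClassC
variable {G : Type*} [Group G] [Fintype G] {α : Type*} [Fintype α] [DecidableEq α] [MulAction G α]

theorem ac_emb_ext (φ ψ : Fin 2 ↪ α) (h0 : φ 0 = ψ 0) (h1 : φ 1 = ψ 1) : φ = ψ := by
  ext i
  fin_cases i
  · exact h0
  · exact h1

def acE (a b : α) (h : a ≠ b) : Fin 2 ↪ α :=
  ⟨![a, b], by
    intro i j hij
    fin_cases i <;> fin_cases j <;> simp_all⟩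

theorem acE_zero (a b : α) (h : a ≠ b) : acE a b h 0 = a := rfl
theorem acE_one (a b : α) (h : a ≠ b) : acE a b h 1 = b := rfl

variable (h4 : IsMultiplyPretransitive G α 4) (hc : 4 ≤ Fintype.card α)
include h4 hc

theorem ac_orbits_c :
    Nat.card (orbitRel.Quotient G ((Fin 2 ↪ α) × Set.powersetCard α 2)) = 4 := by
  have h2 := ac_mt h4 hc 2 (by norm_num)
  have h3 := ac_mt h4 hc 3 (by norm_num)
  rw [ac_card_orbits (G := G) (fun z : (Fin 2 ↪ α) × Set.powersetCard α 2 =>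
    (decide (z.1 0 ∈ z.2.1), decide (z.1 1 ∈ z.2.1)))]
  · simp
  · intro g z
    rw [Prod.mk.injEq, decide_eq_decide, decide_eq_decide]
    exact ⟨ac_smul_mem_iff g z.2 (z.1 0), ac_smul_mem_iff g z.2 (z.1 1)⟩
  · rintro ⟨φ, s⟩ ⟨ψ, u⟩ h
    rw [Prod.mk.injEq, decide_eq_decide, decide_eq_decide] at h
    simp only at h
    obtain ⟨e0, e1⟩ := h
    have hφ : φ 0 ≠ φ 1 := fun e => by
      have := φ.injective e
      revert this
      decide
    have hψ : ψ 0 ≠ ψ 1 := fun e => by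
      have := ψ.injective e
      revert this
      decide
    by_cases hx0 : φ 0 ∈ s.1
    · have hy0 := e0.mp hx0
      obtain ⟨b, hb, rfl⟩ := ac_exists_S_of_mem s _ hx0
      obtain ⟨b', hb', rfl⟩ := ac_exists_S_of_mem u _ hy0
      by_cases hx1 : φ 1 ∈ (acS (φ 0) b hb).1
      · have hy1 := e1.mp hx1
        rw [ac_mem_S] at hx1 hy1
        have hb1 : φ 1 = b := hx1.resolve_left (Ne.symm hφ)
        have hb1' : ψ 1 = b' := hy1.resolve_left (Ne.symm hψ)
        obtain ⟨g, h1, h2⟩ := ac_t2 h2 hφ hψ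
        refine ⟨g, ?_⟩
        rw [Prod.smul_mk, ac_smul_S]
        refine Prod.ext (ac_emb_ext _ _ ?_ ?_) ?_
        · rw [Function.Embedding.smul_apply, h1]
        · rw [Function.Embedding.smul_apply, h2]
        · simp only [h1, ← hb1, h2, ← hb1']
      · have hy1 : ψ 1 ∉ (acS (ψ 0) b' hb').1 := fun hy => hx1 (e1.mpr hy)
        rw [ac_mem_S, not_or] at hx1 hy1
        obtain ⟨g, h1, h2, h3⟩ := ac_t3 h3 hφ hb hx1.2 hψ hb' hy1.2
        refine ⟨g, ?_⟩
        rw [Prod.smul_mk, ac_smul_S]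
        refine Prod.ext (ac_emb_ext _ _ ?_ ?_) ?_
        · rw [Function.Embedding.smul_apply, h1]
        · rw [Function.Embedding.smul_apply, h2]
        · simp only [h1, h3]
    · have hy0 : ψ 0 ∉ u.1 := fun hy => hx0 (e0.mpr hy)
      by_cases hx1 : φ 1 ∈ s.1
      · have hy1 := e1.mp hx1
        obtain ⟨b, hb, rfl⟩ := ac_exists_S_of_mem s _ hx1
        obtain ⟨b', hb', rfl⟩ := ac_exists_S_of_mem u _ hy1
        rw [ac_mem_S, not_or] at hx0 hy0
        obtain ⟨g, h1, h2, h3⟩ := ac_t3 h3 hφ hx0.2 hb hψ hy0.2 hb'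
        refine ⟨g, ?_⟩
        rw [Prod.smul_mk, ac_smul_S]
        refine Prod.ext (ac_emb_ext _ _ ?_ ?_) ?_
        · rw [Function.Embedding.smul_apply, h1]
        · rw [Function.Embedding.smul_apply, h2]
        · simp only [h2, h3]
      · have hy1 : ψ 1 ∉ u.1 := fun hy => hx1 (e1.mpr hy)
        obtain ⟨c, d, hcd, rfl⟩ := ac_exists_S s
        obtain ⟨c', d', hcd', rfl⟩ := ac_exists_S u
        rw [ac_mem_S, not_or] at hx0 hy0 hx1 hy1
        obtain ⟨g, h1, h2, h3, h4'⟩ := ac_t4 h4 hφ hx0.1 hx0.2 hx1.1 hx1.2 hcd hψ hy0.1 hy0.2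
          hy1.1 hy1.2 hcd'
        refine ⟨g, ?_⟩
        rw [Prod.smul_mk, ac_smul_S]
        refine Prod.ext (ac_emb_ext _ _ ?_ ?_) ?_
        · rw [Function.Embedding.smul_apply, h1]
        · rw [Function.Embedding.smul_apply, h2]
        · simp only [h3, h4']
  · obtain ⟨a, b, c, d, hab, hac, had, hbc, hbd, hcd⟩ := ac_four_points hc
    rintro ⟨t0, t1⟩
    cases t0 <;> cases t1
    · refine ⟨(acE a b hab, acS c d hcd), ?_⟩
      rw [Prod.mk.injEq, decide_eq_false_iff_not, decide_eq_false_iff_not, ac_mem_S, ac_mem_S,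
        acE_zero, acE_one, not_or, not_or]
      exact ⟨⟨hac, had⟩, ⟨hbc, hbd⟩⟩
    · refine ⟨(acE a b hab, acS b c hbc), ?_⟩
      rw [Prod.mk.injEq, decide_eq_false_iff_not, decide_eq_true_eq, ac_mem_S, ac_mem_S,
        acE_zero, acE_one, not_or]
      exact ⟨⟨hab, hac⟩, Or.inl rfl⟩
    · refine ⟨(acE a b hab, acS a c hac), ?_⟩
      rw [Prod.mk.injEq, decide_eq_false_iff_not, decide_eq_true_eq, ac_mem_S, ac_mem_S,
        acE_zero, acE_one, not_or]
      exact ⟨Or.inl rfl, ⟨hab.symm, hbc⟩⟩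
    · refine ⟨(acE a b hab, acS a b hab), ?_⟩
      rw [Prod.mk.injEq, decide_eq_true_eq, decide_eq_true_eq, ac_mem_S, ac_mem_S,
        acE_zero, acE_one]
      exact ⟨Or.inl rfl, Or.inr rfl⟩

end ClassC

section ClassB
variable {G : Type*} [Group G] [Fintype G] {α : Type*} [Fintype α] [DecidableEq α] [MulAction G α]

omit [Fintype α] in
theorem ac_inter_le (s u : Set.powersetCard α 2) : (s.1 ∩ u.1).card < 3 := by
  have h1 := Finset.card_le_card (Finset.inter_subset_left (s₁ := s.1) (s₂ := u.1))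
  have h2 : s.1.card = 2 := Set.powersetCard.mem_iff.mp s.2
  omega

omit [Fintype α] in
theorem ac_inter2 (s u : Set.powersetCard α 2) (h : (s.1 ∩ u.1).card = 2) : s = u := by
  have h2 : s.1.card = 2 := Set.powersetCard.mem_iff.mp s.2
  have h3 : u.1.card = 2 := Set.powersetCard.mem_iff.mp u.2
  have e1 : s.1 ∩ u.1 = s.1 :=
    Finset.eq_of_subset_of_card_le Finset.inter_subset_left (by rw [h, h2])
  have e2 : s.1 ∩ u.1 = u.1 :=
    Finset.eq_of_subset_of_card_le Finset.inter_subset_right (by rw [h, h3])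
  exact Subtype.ext (e1.symm.trans e2)

omit [Fintype α] in
theorem ac_inter1 (s u : Set.powersetCard α 2) (h : (s.1 ∩ u.1).card = 1) :
    ∃ (a b d : α) (hab : a ≠ b) (had : a ≠ d), b ≠ d ∧ s = acS a b hab ∧ u = acS a d had := by
  obtain ⟨x, hx⟩ := Finset.card_eq_one.mp h
  have hxm : x ∈ s.1 ∩ u.1 := by rw [hx]; exact Finset.mem_singleton_self x
  rw [Finset.mem_inter] at hxm
  obtain ⟨b, hb, rfl⟩ := ac_exists_S_of_mem s x hxm.1
  obtain ⟨d, hd, rfl⟩ := ac_exists_S_of_mem u x hxm.2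
  refine ⟨x, b, d, hb, hd, ?_, rfl, rfl⟩
  rintro rfl
  rw [Finset.inter_self] at h
  have h2 : (acS x b hb).1.card = 2 := Set.powersetCard.mem_iff.mp (acS x b hb).2
  omega

omit [Fintype α] in
theorem ac_inter0 (s u : Set.powersetCard α 2) (h : (s.1 ∩ u.1).card = 0) :
    ∃ (a b c d : α) (hab : a ≠ b) (hcd : c ≠ d), a ≠ c ∧ a ≠ d ∧ b ≠ c ∧ b ≠ d ∧
      s = acS a b hab ∧ u = acS c d hcd := by
  obtain ⟨a, b, hab, rfl⟩ := ac_exists_S s
  obtain ⟨c, d, hcd, rfl⟩ := ac_exists_S u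
  rw [Finset.card_eq_zero, ← Finset.disjoint_iff_inter_eq_empty, Finset.disjoint_left] at h
  have ha := h ((ac_mem_S hab).mpr (Or.inl rfl))
  have hb := h ((ac_mem_S hab).mpr (Or.inr rfl))
  rw [ac_mem_S, not_or] at ha hb
  exact ⟨a, b, c, d, hab, hcd, ha.1, ha.2, hb.1, hb.2, rfl, rfl⟩

variable (h4 : IsMultiplyPretransitive G α 4) (hc : 4 ≤ Fintype.card α)
include h4 hc

theorem ac_orbits_b :
    Nat.card (orbitRel.Quotient G (Set.powersetCard α 2 × Set.powersetCard α 2)) = 3 := by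
  have h2 := ac_mt h4 hc 2 (by norm_num)
  have h3 := ac_mt h4 hc 3 (by norm_num)
  rw [ac_card_orbits (G := G) (fun z : Set.powersetCard α 2 × Set.powersetCard α 2 =>
    (⟨(z.1.1 ∩ z.2.1).card, ac_inter_le z.1 z.2⟩ : Fin 3))]
  · simp
  · intro g z
    rw [Fin.mk.injEq, Prod.smul_def]
    simp only
    rw [Set.powersetCard.coe_smul, Set.powersetCard.coe_smul, ← Finset.smul_finset_inter,
      Finset.card_smul_finset]
  · rintro ⟨s, u⟩ ⟨s', u'⟩ h
    rw [Fin.mk.injEq] at h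
    simp only at h
    have hk := ac_inter_le s u
    rcases Nat.lt_succ_iff_lt_or_eq.mp hk with hk | hk
    · rcases Nat.lt_succ_iff_lt_or_eq.mp hk with hk | hk
      · have hk0 : (s.1 ∩ u.1).card = 0 := by omega
        obtain ⟨a, b, c, d, hab, hcd, hac, had, hbc, hbd, rfl, rfl⟩ := ac_inter0 s u hk0
        obtain ⟨a', b', c', d', hab', hcd', hac', had', hbc', hbd', rfl, rfl⟩ :=
          ac_inter0 s' u' (h ▸ hk0)
        obtain ⟨g, g1, g2, g3, g4⟩ := ac_t4 h4 hab hac had hbc hbd hcd hab' hac' had' hbc' hbd' hcd'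
        refine ⟨g, ?_⟩
        rw [Prod.smul_mk, ac_smul_S, ac_smul_S]
        simp only [g1, g2, g3, g4]
      · obtain ⟨a, b, d, hab, had, hbd, rfl, rfl⟩ := ac_inter1 s u hk
        obtain ⟨a', b', d', hab', had', hbd', rfl, rfl⟩ := ac_inter1 s' u' (h ▸ hk)
        obtain ⟨g, g1, g2, g3⟩ := ac_t3 h3 hab had hbd hab' had' hbd'
        refine ⟨g, ?_⟩
        rw [Prod.smul_mk, ac_smul_S, ac_smul_S]
        simp only [g1, g2, g3]
    · have e := ac_inter2 s u hk
      have e' := ac_inter2 s' u' (h ▸ hk)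
      subst e
      subst e'
      obtain ⟨a, b, hab, rfl⟩ := ac_exists_S s
      obtain ⟨a', b', hab', rfl⟩ := ac_exists_S s'
      obtain ⟨g, g1, g2⟩ := ac_t2 h2 hab hab'
      refine ⟨g, ?_⟩
      rw [Prod.smul_mk, ac_smul_S]
      simp only [g1, g2]
  · obtain ⟨a, b, c, d, hab, hac, had, hbc, hbd, hcd⟩ := ac_four_points hc
    intro t
    fin_cases t
    · refine ⟨(acS a b hab, acS c d hcd), ?_⟩
      rw [Fin.mk.injEq]
      simp only [acS_val]
      show ({a, b} ∩ {c, d} : Finset α).card = 0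
      rw [Finset.card_eq_zero, ← Finset.disjoint_iff_inter_eq_empty, Finset.disjoint_left]
      intro x hx
      rw [Finset.mem_insert, Finset.mem_singleton] at hx ⊢
      rcases hx with rfl | rfl
      · exact not_or.mpr ⟨hac, had⟩
      · exact not_or.mpr ⟨hbc, hbd⟩
    · refine ⟨(acS a b hab, acS a c hac), ?_⟩
      rw [Fin.mk.injEq]
      simp only [acS_val]
      show ({a, b} ∩ {a, c} : Finset α).card = 1
      rw [Finset.card_eq_one]
      refine ⟨a, ?_⟩
      ext x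
      simp only [Finset.mem_inter, Finset.mem_insert, Finset.mem_singleton]
      constructor
      · rintro ⟨h1 | h1, h2 | h2⟩
        · exact h1
        · exact h1
        · exact h2
        · exact absurd (h1.symm.trans h2) hbc
      · rintro rfl
        exact ⟨Or.inl rfl, Or.inl rfl⟩
    · refine ⟨(acS a b hab, acS a b hab), ?_⟩
      rw [Fin.mk.injEq]
      simp only [Finset.inter_self]
      exact Set.powersetCard.mem_iff.mp (acS a b hab).2

end ClassB

end Cfsg.Agent.Lib.Helper24
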