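import Mathlib
import Cfsg.Agent.Lib.Helper24.AltChar4
import Cfsg.Agent.Lib.Helper25.CharLinear

set_option autoImplicit false

namespace Cfsg.Agent.Lib.Helper24

open MulAction
open scoped Pointwise ComplexConjugate
open Cfsg.Agent.Lib.helper6.PermChar

section Chars
variable (G : Type*) [Group G] [Fintype G] (α : Type*) [Fintype α] [DecidableEq α] [MulAction G α]

noncomputable def acX1 : G → ℂ := piChar G α - ac1 G

noncomputable def acX2 : G → ℂ := piChar G (Set.powersetCard α 2) - piChar G α

noncomputable def acX3 : G → ℂ :=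
  piChar G (Fin 2 ↪ α) - piChar G (Set.powersetCard α 2) - piChar G α + ac1 G

variable {G α}

theorem ac1_isCharacter : Cfsg.IsCharacter G (ac1 G) :=
  Cfsg.Agent.Lib.helper2.isCharacter_of_irr (Cfsg.Agent.Lib.Helper25.trivIrr G)

theorem ac1_conj (g : G) : conj (ac1 G g) = ac1 G g := by
  unfold ac1
  exact map_one _

theorem acPair_11 : acPair (ac1 G) (ac1 G) = (Nat.card G : ℂ) := by
  unfold acPair ac1
  simp [Nat.card_eq_fintype_card]

variable (h4 : IsMultiplyPretransitive G α 4) (hc : 4 ≤ Fintype.card α)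
include h4 hc

theorem acPair_S1 : acPair (piChar G (Set.powersetCard α 2)) (ac1 G) = (Nat.card G : ℂ) := by
  rw [acPair_ac1]
  have h2 := ac_mt h4 hc 2 (by norm_num)
  have : IsPretransitive G (Set.powersetCard α 2) :=
    Set.powersetCard.isPretransitive_of_isMultiplyPretransitive G h2
  obtain ⟨a, b, c, d, hab, _⟩ := ac_four_points hc
  have : Nonempty (Set.powersetCard α 2) := ⟨acS a b hab⟩
  exact ac_sum_trans

theorem acPair_SP : acPair (piChar G (Set.powersetCard α 2)) (piChar G α)
    = 2 * (Nat.card G : ℂ) := by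
  rw [ac_pair_pi, ac_orbits_a h4 hc]
  norm_num

theorem acPair_SS : acPair (piChar G (Set.powersetCard α 2)) (piChar G (Set.powersetCard α 2))
    = 3 * (Nat.card G : ℂ) := by
  rw [ac_pair_pi, ac_orbits_b h4 hc]
  norm_num

theorem acPair_ES : acPair (piChar G (Fin 2 ↪ α)) (piChar G (Set.powersetCard α 2))
    = 4 * (Nat.card G : ℂ) := by
  rw [ac_pair_pi, ac_orbits_c h4 hc]
  norm_num

omit h4 hc in
theorem ac_card_ne : (Nat.card G : ℂ) ≠ 0 := by
  rw [Nat.card_eq_fintype_card]
  exact_mod_cast Fintype.card_ne_zero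

theorem acX1_irr : Cfsg.IsIrrCharacter G (acX1 G α) := by
  have hreal : ∀ g, conj (acX1 G α g) = acX1 G α g := by
    intro g
    unfold acX1
    simp only [Pi.sub_apply, map_sub, piChar_conj, ac1_conj]
  refine ac_irr_of_norm_one (acX1 G α) (piChar G α)
    ⟨piChar G α, ac1 G, piChar_isCharacter, ac1_isCharacter, rfl⟩ ?_ piChar_isCharacter ?_
  · rw [classInner_eq_acPair _ _ hreal]
    unfold acX1
    simp only [acPair_sub_left, acPair_sub_right]
    rw [ac_m2 h4 hc, ac_m1 h4 hc, acPair_comm (ac1 G) (piChar G α), ac_m1 h4 hc, acPair_11]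
    field_simp [ac_card_ne (G := G)]
    ring
  · rw [classInner_eq_acPair _ _ (fun g => piChar_conj g)]
    unfold acX1
    simp only [acPair_sub_left]
    rw [ac_m2 h4 hc, acPair_comm (ac1 G) (piChar G α), ac_m1 h4 hc]
    field_simp [ac_card_ne (G := G)]
    ring

theorem acX2_irr : Cfsg.IsIrrCharacter G (acX2 G α) := by
  have hreal : ∀ g, conj (acX2 G α g) = acX2 G α g := by
    intro g
    unfold acX2
    simp only [Pi.sub_apply, map_sub, piChar_conj]
  refine ac_irr_of_norm_one (acX2 G α) (piChar G (Set.powersetCard α 2))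
    ⟨piChar G (Set.powersetCard α 2), piChar G α, piChar_isCharacter, piChar_isCharacter, rfl⟩ ?_
    piChar_isCharacter ?_
  · rw [classInner_eq_acPair _ _ hreal]
    unfold acX2
    simp only [acPair_sub_left, acPair_sub_right]
    rw [acPair_SS h4 hc, acPair_SP h4 hc,
      acPair_comm (piChar G α) (piChar G (Set.powersetCard α 2)), acPair_SP h4 hc, ac_m2 h4 hc]
    field_simp [ac_card_ne (G := G)]
    ring
  · rw [classInner_eq_acPair _ _ (fun g => piChar_conj g)]
    unfold acX2
    simp only [acPair_sub_left]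
    rw [acPair_SS h4 hc, acPair_comm (piChar G α) (piChar G (Set.powersetCard α 2)),
      acPair_SP h4 hc]
    field_simp [ac_card_ne (G := G)]
    ring

theorem acX3_irr : Cfsg.IsIrrCharacter G (acX3 G α) := by
  have hreal : ∀ g, conj (acX3 G α g) = acX3 G α g := by
    intro g
    unfold acX3
    simp only [Pi.sub_apply, Pi.add_apply, map_sub, map_add, piChar_conj, ac1_conj]
  refine ac_irr_of_norm_one (acX3 G α) (piChar G (Fin 2 ↪ α))
    ⟨piChar G (Fin 2 ↪ α) + ac1 G, piChar G (Set.powersetCard α 2) + piChar G α,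
      Cfsg.Agent.Lib.helper2.isCharacter_add piChar_isCharacter ac1_isCharacter,
      Cfsg.Agent.Lib.helper2.isCharacter_add piChar_isCharacter piChar_isCharacter, ?_⟩ ?_
    piChar_isCharacter ?_
  · unfold acX3
    ring
  · rw [classInner_eq_acPair _ _ hreal]
    unfold acX3
    simp only [acPair_sub_left, acPair_sub_right, acPair_add_left, acPair_add_right]
    rw [acPair_comm (piChar G (Set.powersetCard α 2)) (piChar G (Fin 2 ↪ α)),
      acPair_comm (piChar G α) (piChar G (Fin 2 ↪ α)),
      acPair_comm (ac1 G) (piChar G (Fin 2 ↪ α)),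
      acPair_comm (piChar G α) (piChar G (Set.powersetCard α 2)),
      acPair_comm (ac1 G) (piChar G (Set.powersetCard α 2)),
      acPair_comm (ac1 G) (piChar G α),
      ac_m4 h4 hc, acPair_ES h4 hc, ac_m3 h4 hc, ac_d2 h4 hc, acPair_SS h4 hc, acPair_SP h4 hc,
      acPair_S1 h4 hc, ac_m2 h4 hc, ac_m1 h4 hc, acPair_11]
    field_simp [ac_card_ne (G := G)]
    ring
  · rw [classInner_eq_acPair _ _ (fun g => piChar_conj g)]
    unfold acX3
    simp only [acPair_sub_left, acPair_add_left]
    rw [acPair_comm (piChar G (Set.powersetCard α 2)) (piChar G (Fin 2 ↪ α)),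
      acPair_comm (piChar G α) (piChar G (Fin 2 ↪ α)),
      acPair_comm (ac1 G) (piChar G (Fin 2 ↪ α)),
      ac_m4 h4 hc, acPair_ES h4 hc, ac_m3 h4 hc, ac_d2 h4 hc]
    field_simp [ac_card_ne (G := G)]
    ring

end Chars

end Cfsg.Agent.Lib.Helper24
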