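import Mathlib
import Cfsg.Agent.Lib.Helper24.AltChar5

set_option autoImplicit false

namespace Cfsg.Agent.Lib.Helper24

open MulAction
open scoped Pointwise ComplexConjugate
open Cfsg.Agent.Lib.helper6.PermChar

section Values
variable {G : Type*} [Group G] {α : Type*} [Fintype α] [DecidableEq α] [MulAction G α]

theorem ac_fixed_pair (g : G) (hsq : ∀ x : α, g • g • x = x → g • x = x)
    (s : Set.powersetCard α 2) (hs : g • s = s) : ∀ x ∈ s.1, g • x = x := by
  obtain ⟨a, b, hab, rfl⟩ := ac_exists_S s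
  rw [ac_smul_S] at hs
  have hv := congrArg Subtype.val hs
  rw [acS_val, acS_val] at hv
  have ha : g • a ∈ ({a, b} : Finset α) := by
    rw [← hv]
    exact Finset.mem_insert_self _ _
  have hb : g • b ∈ ({a, b} : Finset α) := by
    rw [← hv]
    exact Finset.mem_insert_of_mem (Finset.mem_singleton_self _)
  rw [Finset.mem_insert, Finset.mem_singleton] at ha hb
  have hne : g • a ≠ g • b := fun e => hab (MulAction.injective g e)
  intro x hx
  rw [ac_mem_S] at hx
  rcases ha with ha | ha
  · rcases hb with hb | hb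
    · exact absurd (ha.trans hb.symm) hne
    · rcases hx with rfl | rfl
      · exact ha
      · exact hb
  · rcases hb with hb | hb
    · have h1 : g • g • a = a := by rw [ha, hb]
      have h2 := hsq a h1
      exact absurd (h2.symm.trans ha) hab
    · exact absurd (ha.trans hb.symm) hne

theorem ac_piChar_S (g : G) (hsq : ∀ x : α, g • g • x = x → g • x = x) :
    piChar G (Set.powersetCard α 2) g = (((Nat.card (fixedBy α g)).choose 2 : ℕ) : ℂ) := by
  classical
  unfold piChar
  congr 1
  obtain ⟨F, hmem⟩ : ∃ F : Finset α, ∀ x, x ∈ F ↔ g • x = x :=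
    ⟨Finset.univ.filter (fun x => g • x = x), fun x => by simp⟩
  have hFc : Nat.card (fixedBy α g) = F.card := by
    rw [Nat.card_eq_fintype_card, ← Fintype.card_coe]
    apply Fintype.card_congr
    exact ⟨fun x => ⟨x.1, (hmem x.1).mpr x.2⟩, fun x => ⟨x.1, (hmem x.1).mp x.2⟩,
      fun x => rfl, fun x => rfl⟩
  rw [hFc, ← Finset.card_powersetCard, ← Fintype.card_coe, ← Nat.card_eq_fintype_card]
  apply Nat.card_congr
  refine ⟨fun s => ⟨s.1.1, ?_⟩, fun t => ⟨⟨t.1, ?_⟩, ?_⟩, fun s => rfl, fun t => rfl⟩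
  · rw [Finset.mem_powersetCard]
    refine ⟨?_, Set.powersetCard.mem_iff.mp s.1.2⟩
    intro x hx
    exact (hmem x).mpr (ac_fixed_pair g hsq s.1 s.2 x hx)
  · have := t.2
    rw [Finset.mem_powersetCard] at this
    exact Set.powersetCard.mem_iff.mpr this.2
  · have := t.2
    rw [Finset.mem_powersetCard] at this
    rw [mem_fixedBy]
    apply Subtype.ext
    rw [Set.powersetCard.coe_smul]
    show g • t.1 = t.1
    ext x
    rw [Finset.mem_smul_finset]
    constructor
    · rintro ⟨y, hy, rfl⟩
      rw [(hmem y).mp (this.1 hy)]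
      exact hy
    · intro hx
      exact ⟨x, hx, (hmem x).mp (this.1 hx)⟩

variable [Fintype G]

theorem acX1_eq_zero (g : G) (hf : Nat.card (fixedBy α g) = 1) : acX1 G α g = 0 := by
  unfold acX1 ac1 piChar
  rw [Pi.sub_apply, hf]
  norm_num

theorem acX2_eq_zero (g : G) (hsq : ∀ x : α, g • g • x = x → g • x = x)
    (hf : Nat.card (fixedBy α g) = 0) : acX2 G α g = 0 := by
  unfold acX2
  rw [Pi.sub_apply, ac_piChar_S g hsq, hf]
  unfold piChar
  rw [hf]
  norm_num

theorem acX3_eq_zero (g : G) (hsq : ∀ x : α, g • g • x = x → g • x = x)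
    (hf : Nat.card (fixedBy α g) = 2) : acX3 G α g = 0 := by
  unfold acX3 ac1
  rw [Pi.add_apply, Pi.sub_apply, Pi.sub_apply, ac_piChar_S g hsq, ac_piChar_emb, hf]
  unfold piChar
  rw [hf]
  norm_num [Nat.descFactorial, Nat.choose]

end Values

end Cfsg.Agent.Lib.Helper24
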