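import Mathlib
import Cfsg.Agent.Lib.Helper24.AltChar6

set_option autoImplicit false

namespace Cfsg.Agent.Lib.Helper24

open MulAction Equiv Equiv.Perm

section Elts
variable {α : Type*} [Fintype α] [DecidableEq α]

theorem ac_sq_fix (σ : Perm α) (h2 : 2 ∉ σ.cycleType) (x : α) (hx : σ (σ x) = x) : σ x = x := by
  by_contra hne
  have hc : (σ.cycleOf x).IsCycle := isCycle_cycleOf σ hne
  have hmem : σ.cycleOf x ∈ σ.cycleFactorsFinset :=
    cycleOf_mem_cycleFactorsFinset_iff.mpr (mem_support.mpr hne)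
  have hcard : (σ.cycleOf x).support.card ∈ σ.cycleType := by
    rw [cycleType_def]
    exact Multiset.mem_map.mpr ⟨_, hmem, rfl⟩
  have h2x : ((σ.cycleOf x) ^ 2) x = x := by
    rw [cycleOf_pow_apply_self, pow_two, Perm.mul_apply, hx]
  have hne' : (σ.cycleOf x) x ≠ x := by
    rw [cycleOf_apply_self]
    exact hne
  have hone : (σ.cycleOf x) ^ 2 = 1 := (hc.pow_eq_one_iff' hne').mpr h2x
  have hd : orderOf (σ.cycleOf x) ∣ 2 := orderOf_dvd_of_pow_eq_one hone
  rw [hc.orderOf] at hd
  have h2le := hc.two_le_card_support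
  have he : (σ.cycleOf x).support.card = 2 :=
    le_antisymm (Nat.le_of_dvd two_pos hd) h2le
  exact h2 (he ▸ hcard)

theorem ac_card_fix (σ : Perm α) :
    Nat.card (fixedBy α σ) = Fintype.card α - σ.cycleType.sum := by
  rw [← Equiv.Perm.card_fixedPoints, Nat.card_eq_fintype_card]
  rfl

theorem ac_exists_perm (m : Multiset ℕ) (hm2 : ∀ a ∈ m, 2 ≤ a) (hsum : m.sum ≤ Fintype.card α)
    (heven : Even (m.sum + Multiset.card m)) :
    ∃ σ : Perm α, σ ∈ alternatingGroup α ∧ orderOf σ = m.lcm ∧
      Nat.card (fixedBy α σ) = Fintype.card α - m.sum ∧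
      (2 ∉ m → ∀ x, σ (σ x) = x → σ x = x) := by
  obtain ⟨σ, hσ⟩ := (Equiv.Perm.exists_with_cycleType_iff α).mpr ⟨hsum, hm2⟩
  refine ⟨σ, ?_, ?_, ?_, ?_⟩
  · rw [Equiv.Perm.mem_alternatingGroup, sign_of_cycleType, hσ]
    exact heven.neg_one_pow
  · rw [← lcm_cycleType, hσ]
  · rw [ac_card_fix, hσ]
  · intro h2
    exact ac_sq_fix σ (hσ ▸ h2)

end Elts

theorem ac_two_aux (n : ℕ) (m : Multiset ℕ) (hm : ∀ a ∈ m, a = 2 ∨ a = 4 ∨ a = 8)
    (hsum : m.sum ≤ n) (heven : Even (m.sum + Multiset.card m)) :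
    ∃ σ : Perm (Fin n), σ ∈ alternatingGroup (Fin n) ∧ (∃ j : ℕ, orderOf σ = 2 ^ j) ∧
      Nat.card (fixedBy (Fin n) σ) = n - m.sum ∧
      (2 ∉ m → ∀ x, σ (σ x) = x → σ x = x) := by
  obtain ⟨σ, h1, h2, h3, h4⟩ := ac_exists_perm (α := Fin n) m
    (fun a ha => by rcases hm a ha with h | h | h <;> omega)
    (by rw [Fintype.card_fin]; exact hsum) heven
  refine ⟨σ, h1, ?_, ?_, h4⟩
  · have hd : orderOf σ ∣ 2 ^ 3 := by
      rw [h2]
      apply Multiset.lcm_dvd.mpr
      intro a ha
      rcases hm a ha with h | h | h <;> subst h <;> norm_num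
    obtain ⟨j, _, hj⟩ := (Nat.dvd_prime_pow Nat.prime_two).mp hd
    exact ⟨j, hj⟩
  · rw [h3, Fintype.card_fin]

theorem ac_two_elt (n : ℕ) (hn : 7 ≤ n) :
    ∃ σ : Perm (Fin n), σ ∈ alternatingGroup (Fin n) ∧ (∃ j : ℕ, orderOf σ = 2 ^ j) ∧
      Nat.card (fixedBy (Fin n) σ) ≤ 2 ∧
      (Nat.card (fixedBy (Fin n) σ) = 1 ∨ ∀ x, σ (σ x) = x → σ x = x) := by
  obtain ⟨q, hq | hq⟩ := Nat.even_or_odd' n
  · obtain ⟨p, hp | hp⟩ := Nat.even_or_odd' q
    · obtain ⟨j, hj | hj⟩ := Nat.even_or_odd' p
      · obtain ⟨σ, h1, h2, h3, h4⟩ := ac_two_aux n (Multiset.replicate (2 * j) 4)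
          (fun a ha => Or.inr (Or.inl (Multiset.eq_of_mem_replicate ha)))
          (by rw [Multiset.sum_replicate, smul_eq_mul]; omega)
          (by rw [Multiset.sum_replicate, smul_eq_mul, Multiset.card_replicate]; exact ⟨5 * j, by ring⟩)
        rw [Multiset.sum_replicate, smul_eq_mul] at h3
        refine ⟨σ, h1, h2, by omega, Or.inr (h4 ?_)⟩
        intro h
        have := Multiset.eq_of_mem_replicate h
        omega
      · obtain ⟨σ, h1, h2, h3, h4⟩ := ac_two_aux n (8 ::ₘ Multiset.replicate (2 * j - 1) 4)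
          (fun a ha => by
            rcases Multiset.mem_cons.mp ha with h | h
            · exact Or.inr (Or.inr h)
            · exact Or.inr (Or.inl (Multiset.eq_of_mem_replicate h)))
          (by rw [Multiset.sum_cons, Multiset.sum_replicate, smul_eq_mul]; omega)
          (by
            rw [Multiset.sum_cons, Multiset.sum_replicate, smul_eq_mul, Multiset.card_cons,
              Multiset.card_replicate]
            exact ⟨5 * j + 2, by omega⟩)
        rw [Multiset.sum_cons, Multiset.sum_replicate, smul_eq_mul] at h3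
        refine ⟨σ, h1, h2, by omega, Or.inr (h4 ?_)⟩
        intro h
        rcases Multiset.mem_cons.mp h with h | h
        · omega
        · have := Multiset.eq_of_mem_replicate h
          omega
    · obtain ⟨j, hj | hj⟩ := Nat.even_or_odd' p
      · obtain ⟨σ, h1, h2, h3, h4⟩ := ac_two_aux n (Multiset.replicate (2 * j) 4)
          (fun a ha => Or.inr (Or.inl (Multiset.eq_of_mem_replicate ha)))
          (by rw [Multiset.sum_replicate, smul_eq_mul]; omega)
          (by rw [Multiset.sum_replicate, smul_eq_mul, Multiset.card_replicate]; exact ⟨5 * j, by ring⟩)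
        rw [Multiset.sum_replicate, smul_eq_mul] at h3
        refine ⟨σ, h1, h2, by omega, Or.inr (h4 ?_)⟩
        intro h
        have := Multiset.eq_of_mem_replicate h
        omega
      · obtain ⟨σ, h1, h2, h3, h4⟩ := ac_two_aux n (8 ::ₘ Multiset.replicate (2 * j - 1) 4)
          (fun a ha => by
            rcases Multiset.mem_cons.mp ha with h | h
            · exact Or.inr (Or.inr h)
            · exact Or.inr (Or.inl (Multiset.eq_of_mem_replicate h)))
          (by rw [Multiset.sum_cons, Multiset.sum_replicate, smul_eq_mul]; omega)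
          (by
            rw [Multiset.sum_cons, Multiset.sum_replicate, smul_eq_mul, Multiset.card_cons,
              Multiset.card_replicate]
            exact ⟨5 * j + 2, by omega⟩)
        rw [Multiset.sum_cons, Multiset.sum_replicate, smul_eq_mul] at h3
        refine ⟨σ, h1, h2, by omega, Or.inr (h4 ?_)⟩
        intro h
        rcases Multiset.mem_cons.mp h with h | h
        · omega
        · have := Multiset.eq_of_mem_replicate h
          omega
  · obtain ⟨j, hj | hj⟩ := Nat.even_or_odd' q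
    · obtain ⟨σ, h1, h2, h3, h4⟩ := ac_two_aux n (Multiset.replicate (2 * j) 2)
        (fun a ha => Or.inl (Multiset.eq_of_mem_replicate ha))
        (by rw [Multiset.sum_replicate, smul_eq_mul]; omega)
        (by rw [Multiset.sum_replicate, smul_eq_mul, Multiset.card_replicate]; exact ⟨3 * j, by ring⟩)
      rw [Multiset.sum_replicate, smul_eq_mul] at h3
      exact ⟨σ, h1, h2, by omega, Or.inl (by omega)⟩
    · obtain ⟨σ, h1, h2, h3, h4⟩ := ac_two_aux n (4 ::ₘ Multiset.replicate (2 * j - 1) 2)
        (fun a ha => by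
          rcases Multiset.mem_cons.mp ha with h | h
          · exact Or.inr (Or.inl h)
          · exact Or.inl (Multiset.eq_of_mem_replicate h))
        (by rw [Multiset.sum_cons, Multiset.sum_replicate, smul_eq_mul]; omega)
        (by
          rw [Multiset.sum_cons, Multiset.sum_replicate, smul_eq_mul, Multiset.card_cons,
            Multiset.card_replicate]
          exact ⟨3 * j + 1, by omega⟩)
      rw [Multiset.sum_cons, Multiset.sum_replicate, smul_eq_mul] at h3
      exact ⟨σ, h1, h2, by omega, Or.inl (by omega)⟩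

theorem ac_three_elt (n : ℕ) (hn : 7 ≤ n) :
    ∃ σ : Perm (Fin n), σ ∈ alternatingGroup (Fin n) ∧ orderOf σ = 3 ∧
      Nat.card (fixedBy (Fin n) σ) ≤ 2 ∧ ∀ x, σ (σ x) = x → σ x = x := by
  obtain ⟨σ, h1, h2, h3, h4⟩ := ac_exists_perm (α := Fin n) (Multiset.replicate (n / 3) 3)
    (fun a ha => by have := Multiset.eq_of_mem_replicate ha; omega)
    (by rw [Fintype.card_fin, Multiset.sum_replicate, smul_eq_mul]; omega)
    (by
      rw [Multiset.sum_replicate, smul_eq_mul, Multiset.card_replicate]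
      exact ⟨2 * (n / 3), by ring⟩)
  rw [Fintype.card_fin, Multiset.sum_replicate, smul_eq_mul] at h3
  refine ⟨σ, h1, ?_, by omega, h4 ?_⟩
  · have hd : orderOf σ ∣ 3 := by
      rw [h2]
      apply Multiset.lcm_dvd.mpr
      intro a ha
      rw [Multiset.eq_of_mem_replicate ha]
    rcases (Nat.dvd_prime Nat.prime_three).mp hd with h | h
    · exfalso
      rw [orderOf_eq_one_iff] at h
      subst h
      have : Nat.card (fixedBy (Fin n) (1 : Perm (Fin n))) = n := by
        rw [MulAction.fixedBy_one_eq_univ, Nat.card_eq_fintype_card]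
        simp
      omega
    · exact h
  · intro h
    have := Multiset.eq_of_mem_replicate h
    omega

end Cfsg.Agent.Lib.Helper24
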