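import Mathlib
import Cfsg.Agent.Lib.Helper24.AltChar7

set_option autoImplicit false

namespace Cfsg.Agent.Lib.Helper24

open MulAction Equiv Equiv.Perm
open scoped Pointwise
open Cfsg.Agent.Lib.helper6.PermChar

section Compat
variable {G : Type*} [Group G] [Fintype G] {α : Type*} [Fintype α] [DecidableEq α] [MulAction G α]
  (H : Subgroup G) [Fintype H]

theorem ac_compat1 (x : H) : acX1 G α (x : G) = acX1 H α x := rfl

theorem ac_compat2 (x : H) : acX2 G α (x : G) = acX2 H α x := rfl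

theorem ac_compat3 (x : H) : acX3 G α (x : G) = acX3 H α x := rfl

end Compat

theorem ac_h4S (n : ℕ) : IsMultiplyPretransitive (Perm (Fin n)) (Fin n) 4 :=
  Equiv.Perm.isMultiplyPretransitive (Fin n) 4

theorem ac_h4A (n : ℕ) (hn : 7 ≤ n) :
    IsMultiplyPretransitive (alternatingGroup (Fin n)) (Fin n) 4 := by
  have h := alternatingGroup.isMultiplyPretransitive (Fin n)
  have hc : Nat.card (Fin n) = n := by rw [Nat.card_eq_fintype_card, Fintype.card_fin]
  exact isMultiplyPretransitive_of_le (n := Nat.card (Fin n) - 2) (by rw [hc]; omega)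
    (by rw [hc]; omega)

theorem ac_main (n : ℕ) (hn : 7 ≤ n) (σ : Perm (Fin n)) (hσ : σ ∈ alternatingGroup (Fin n))
    (hf : Nat.card (fixedBy (Fin n) σ) ≤ 2)
    (hsq : Nat.card (fixedBy (Fin n) σ) = 1 ∨ ∀ x, σ (σ x) = x → σ x = x) :
    ∃ χ : Cfsg.IrrCharacter (alternatingGroup (Fin n)),
      (χ : alternatingGroup (Fin n) → ℂ) ⟨σ, hσ⟩ = 0 ∧
      ∃ ψ : Cfsg.IrrCharacter (Perm (Fin n)), ∀ x : alternatingGroup (Fin n),
        (ψ : Perm (Fin n) → ℂ) x = (χ : alternatingGroup (Fin n) → ℂ) x := by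
  have hc : 4 ≤ Fintype.card (Fin n) := by rw [Fintype.card_fin]; omega
  have hS := ac_h4S n
  have hA := ac_h4A n hn
  by_cases h1 : Nat.card (fixedBy (Fin n) σ) = 1
  · refine ⟨⟨acX1 (alternatingGroup (Fin n)) (Fin n), acX1_irr hA hc⟩, ?_,
      ⟨acX1 (Perm (Fin n)) (Fin n), acX1_irr hS hc⟩, fun x => ac_compat1 _ x⟩
    exact acX1_eq_zero (G := alternatingGroup (Fin n)) ⟨σ, hσ⟩ h1
  · have hsq' : ∀ x : Fin n, (⟨σ, hσ⟩ : alternatingGroup (Fin n)) •
        (⟨σ, hσ⟩ : alternatingGroup (Fin n)) • x = x → (⟨σ, hσ⟩ : alternatingGroup (Fin n)) • x = x :=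
      hsq.resolve_left h1
    by_cases h0 : Nat.card (fixedBy (Fin n) σ) = 0
    · refine ⟨⟨acX2 (alternatingGroup (Fin n)) (Fin n), acX2_irr hA hc⟩, ?_,
        ⟨acX2 (Perm (Fin n)) (Fin n), acX2_irr hS hc⟩, fun x => ac_compat2 _ x⟩
      exact acX2_eq_zero (G := alternatingGroup (Fin n)) ⟨σ, hσ⟩ hsq' h0
    · have h2 : Nat.card (fixedBy (Fin n) σ) = 2 := by omega
      refine ⟨⟨acX3 (alternatingGroup (Fin n)) (Fin n), acX3_irr hA hc⟩, ?_,
        ⟨acX3 (Perm (Fin n)) (Fin n), acX3_irr hS hc⟩, fun x => ac_compat3 _ x⟩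
      exact acX3_eq_zero (G := alternatingGroup (Fin n)) ⟨σ, hσ⟩ hsq' h2

end Cfsg.Agent.Lib.Helper24
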