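import Mathlib

set_option autoImplicit false

namespace Cfsg.Agent.Lib.Helper24.AltFus

open Equiv

theorem eq_one_of_card_support_lt {α : Type*} [Fintype α] [DecidableEq α] {p : ℕ}
    [Fact p.Prime] (h : Perm α) (k : ℕ) (hk : h ^ p ^ k = 1) (hlt : h.support.card < p) :
    h = 1 := by
  have hmod := Equiv.Perm.card_compl_support_modEq (p := p) (n := k) hk
  rw [Finset.card_compl] at hmod
  have hle : h.support.card ≤ Fintype.card α := Finset.card_le_univ _
  have hdvd : p ∣ h.support.card := by
    have h4 := (Nat.modEq_iff_dvd' (Nat.sub_le _ _)).1 hmod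
    rwa [Nat.sub_sub_self hle] at h4
  have h0 : h.support.card = 0 := Nat.eq_zero_of_dvd_of_lt hdvd hlt
  rwa [Finset.card_eq_zero, Perm.support_eq_empty_iff] at h0

theorem orbit_subset_of_invariant {α : Type*} (K : Set (Perm α)) (T : Set α)
    (hinv : ∀ σ ∈ K, ∀ y, σ y ∈ T ↔ y ∈ T) (τ : Perm α) (hτ : τ ∈ Subgroup.closure K) :
    ∀ y, τ y ∈ T ↔ y ∈ T := by
  induction hτ using Subgroup.closure_induction with
  | mem σ hσ => exact hinv σ hσ
  | one => intro y; rfl
  | mul σ τ _ _ h1 h2 =>
    intro y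
    rw [Perm.mul_apply, h1, h2]
  | inv σ _ h1 =>
    intro y
    have h0 : σ (σ⁻¹ y) = y := σ.apply_symm_apply y
    rw [← h1 (σ⁻¹ y), h0]

theorem support_eq_of_pcycles {α : Type*} [Fintype α] [DecidableEq α] {p : ℕ} [Fact p.Prime]
    (P : Subgroup (Perm α)) (hP : IsPGroup p P) (g c : Perm α) (hg : g ∈ P) (hc : c ∈ P)
    (hgc : g.cycleType = {p}) (hcc : c.cycleType = {p}) (q : α) (hq1 : q ∈ g.support)
    (hq2 : q ∈ c.support) : g.support = c.support := by
  have hp : p.Prime := Fact.out
  have hgcyc : g.IsCycle := by rw [← Perm.card_cycleType_eq_one, hgc]; rfl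
  have hccyc : c.IsCycle := by rw [← Perm.card_cycleType_eq_one, hcc]; rfl
  have hgcard : g.support.card = p := by rw [← Perm.sum_cycleType, hgc]; rfl
  have hccard : c.support.card = p := by rw [← Perm.sum_cycleType, hcc]; rfl
  set K : Subgroup (Perm α) := Subgroup.closure {g, c} with hK
  have hKP : K ≤ P := by
    rw [hK, Subgroup.closure_le]
    rintro σ (rfl | rfl)
    · exact hg
    · exact hc
  have hKp : IsPGroup p K := hP.to_le hKP
  set T : Finset α := g.support ∪ c.support with hT
  have hinv : ∀ τ ∈ K, ∀ y, τ y ∈ (T : Set α) ↔ y ∈ (T : Set α) := by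
    intro τ hτ
    refine orbit_subset_of_invariant {g, c} (T : Set α) ?_ τ hτ
    rintro σ (rfl | rfl) y
    · show σ y ∈ T ↔ y ∈ T
      by_cases hy : y ∈ σ.support
      · have : σ y ∈ σ.support := Perm.apply_mem_support.2 hy
        simp [hT, hy, this]
      · rw [Perm.notMem_support.1 hy]
    · show σ y ∈ T ↔ y ∈ T
      by_cases hy : y ∈ σ.support
      · have : σ y ∈ σ.support := Perm.apply_mem_support.2 hy
        simp [hT, hy, this]
      · rw [Perm.notMem_support.1 hy]
  have horb : MulAction.orbit K q = (T : Set α) := by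
    ext y
    constructor
    · rintro ⟨⟨τ, hτ⟩, rfl⟩
      show τ q ∈ (T : Set α)
      rw [hinv τ hτ]
      show q ∈ T
      rw [hT, Finset.mem_union]; exact Or.inl hq1
    · intro hy
      have hy' : y ∈ T := hy
      rw [hT, Finset.mem_union] at hy'
      rcases hy' with hy' | hy'
      · obtain ⟨i, hi⟩ := hgcyc.exists_zpow_eq (Perm.mem_support.1 hq1) (Perm.mem_support.1 hy')
        refine ⟨⟨g ^ i, zpow_mem (Subgroup.subset_closure (by simp)) i⟩, ?_⟩
        exact hi
      · obtain ⟨i, hi⟩ := hccyc.exists_zpow_eq (Perm.mem_support.1 hq2) (Perm.mem_support.1 hy')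
        refine ⟨⟨c ^ i, zpow_mem (Subgroup.subset_closure (by simp)) i⟩, ?_⟩
        exact hi
  obtain ⟨n, hn⟩ := hKp.card_orbit q
  have hcardT : T.card = p ^ n := by
    rw [← hn, horb]
    simp
  have hunion := Finset.card_union_add_card_inter g.support c.support
  rw [hgcard, hccard, ← hT, hcardT] at hunion
  have hinter : 1 ≤ (g.support ∩ c.support).card :=
    Finset.card_pos.2 ⟨q, Finset.mem_inter.2 ⟨hq1, hq2⟩⟩
  have hinter2 : (g.support ∩ c.support).card ≤ p := by
    rw [← hgcard]; exact Finset.card_le_card Finset.inter_subset_left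
  have hn1 : n = 1 := by
    rcases n with _ | _ | n
    · have := hp.two_le
      simp at hunion
      omega
    · rfl
    · exfalso
      have h2 : p ^ 2 ≤ p ^ (n + 1 + 1) := Nat.pow_le_pow_right hp.pos (by omega)
      have h3 : 2 * p ≤ p ^ 2 := by have := hp.two_le; nlinarith
      omega
  rw [hn1, pow_one] at hunion
  have hcardi : (g.support ∩ c.support).card = p := by omega
  have h1 : g.support ∩ c.support = g.support :=
    Finset.eq_of_subset_of_card_le Finset.inter_subset_left (by rw [hcardi, hgcard])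
  have h2 : g.support ∩ c.support = c.support :=
    Finset.eq_of_subset_of_card_le Finset.inter_subset_right (by rw [hcardi, hccard])
  rw [← h1, h2]

theorem no_three {α : Type*} (P : Subgroup (Perm α)) (hP : IsPGroup 2 P) (x t : Perm α)
    (hx : x ∈ P) (ht : t ∈ P) (a b c : α) (hab : a ≠ b) (hac : a ≠ c)
    (hxa : x a = b) (hxb : x b = a) (hxc : x c = c) (hta : t a = c) (htc : t c = a)
    (htb : t b = b) : False := by
  obtain ⟨m, hm⟩ := hP ⟨t * x, mul_mem ht hx⟩
  have hm' : (t * x) ^ 2 ^ m = 1 := by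
    have := congrArg Subtype.val hm
    simpa using this
  have key : ∀ n : ℕ, (((t * x) ^ n) a = a ∧ n % 3 = 0) ∨ (((t * x) ^ n) a = b ∧ n % 3 = 1) ∨
      (((t * x) ^ n) a = c ∧ n % 3 = 2) := by
    intro n
    induction n with
    | zero => left; simp
    | succ n ih =>
      rw [pow_succ', Perm.mul_apply]
      rcases ih with ⟨h, h3⟩ | ⟨h, h3⟩ | ⟨h, h3⟩
      · right; left
        rw [h, Perm.mul_apply, hxa, htb]
        exact ⟨rfl, by omega⟩
      · right; right
        rw [h, Perm.mul_apply, hxb, hta]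
        exact ⟨rfl, by omega⟩
      · left
        rw [h, Perm.mul_apply, hxc, htc]
        exact ⟨rfl, by omega⟩
  have h3 : 2 ^ m % 3 ≠ 0 := by
    intro h
    have hd : 3 ∣ 2 ^ m := Nat.dvd_of_mod_eq_zero h
    have := Nat.Prime.dvd_of_dvd_pow Nat.prime_three hd
    omega
  rcases key (2 ^ m) with ⟨_, h⟩ | ⟨h, _⟩ | ⟨h, _⟩
  · exact h3 h
  · rw [hm'] at h; exact hab h
  · rw [hm'] at h; exact hac h

end Cfsg.Agent.Lib.Helper24.AltFus
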