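import Mathlib
import Cfsg.Agent.Lib.Helper27.AltFus.Defs
import Cfsg.Agent.Lib.helper3.AltFusE0
import Cfsg.Agent.Lib.Helper25.AltFusE3
import Cfsg.Agent.Lib.Helper24.AltFusGen

set_option autoImplicit false

namespace Cfsg.Agent.Lib.Helper24.AltFus

open Cfsg.Agent.Lib.Helper27.AltFus Cfsg.Agent.Lib.helper3.AltFus Cfsg.Agent.Lib.Helper25.AltFus Equiv

theorem z2_add_one_ne : ∀ a : ZMod 2, a + 1 ≠ a := by decide

theorem z2_add_one_add_one : ∀ a : ZMod 2, a + 1 + 1 = a := by decide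

theorem z2_eq_or : ∀ a b : ZMod 2, a = b ∨ a = b + 1 := by decide

theorem z2_of_ne : ∀ a b : ZMod 2, a ≠ b → a = b + 1 := by decide

theorem dt_sq {α : Type*} [Fintype α] [DecidableEq α] (x : Perm α) (hc : x.cycleType = {2, 2})
    (q : α) : x (x q) = q := by
  have h1 : orderOf x = 2 := by
    rw [← Perm.lcm_cycleType, hc]
    rfl
  have h2 : x ^ 2 = 1 := by rw [← h1]; exact pow_orderOf_eq_one x
  have h3 := congrArg (fun f : Perm α => f q) h2
  simpa [pow_two, Perm.mul_apply] using h3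

theorem dt_card {α : Type*} [Fintype α] [DecidableEq α] (x : Perm α) (hc : x.cycleType = {2, 2}) :
    x.support.card = 4 := by
  rw [← Perm.sum_cycleType, hc]
  rfl

section main

variable (k s1 r : ℕ)

theorem sum_ind (j : Fin k) (u : ZMod 2) :
    ∑ j', (ind k j u j' 0 + ind k j u j' 1) = 1 := by
  rw [Finset.sum_eq_single j]
  · unfold ind
    rw [Pi.single_eq_same]
    revert u
    decide
  · intro j' _ hj'
    unfold ind
    rw [Pi.single_eq_of_ne hj']
    simp
  · intro h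
    exact absurd (Finset.mem_univ j) h

theorem exists_tq (h6 : 2 ≤ k ∨ s1 = 1) (j : Fin k) (u : ZMod 2) :
    ∃ (δ : Fin k → ZMod 2 → ZMod 2) (η : Fin s1 → ZMod 2),
      dd k s1 r 0 δ η ∈ W2 k s1 r ∧ δ j u = 1 ∧ δ j (u + 1) = 0 := by
  rcases h6 with h2 | h1
  · have hex : ∃ j2 : Fin k, j2 ≠ j := by
      by_cases h0 : (j : ℕ) = 0
      · exact ⟨⟨1, by omega⟩, fun h => by
          have := congrArg Fin.val h
          simp at this
          omega⟩
      · exact ⟨⟨0, by omega⟩, fun h => by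
          have := congrArg Fin.val h
          simp at this
          omega⟩
    obtain ⟨j2, hj2⟩ := hex
    refine ⟨ind k j u + ind k j2 0, 0, ?_, ?_, ?_⟩
    · refine Subgroup.mem_inf.mpr ⟨dd_mem_DD k s1 r _ _ _, (sign_dd k s1 r _ _ _).mpr ?_⟩
      have : ∀ j', ((ind k j u + ind k j2 0) j' 0 + (ind k j u + ind k j2 0) j' 1) =
          (ind k j u j' 0 + ind k j u j' 1) + (ind k j2 0 j' 0 + ind k j2 0 j' 1) := by
        intro j'
        simp only [Pi.add_apply]
        ring
      rw [Finset.sum_congr rfl (fun j' _ => this j'), Finset.sum_add_distrib, sum_ind, sum_ind]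
      simp
      decide
    · unfold ind
      simp [Pi.single_eq_of_ne (Ne.symm hj2)]
    · unfold ind
      simp [Pi.single_eq_of_ne (Ne.symm hj2)]
  · subst h1
    refine ⟨ind k j u, fun _ => 1, ?_, ?_, ?_⟩
    · refine Subgroup.mem_inf.mpr ⟨dd_mem_DD k 1 r _ _ _, (sign_dd k 1 r _ _ _).mpr ?_⟩
      rw [sum_ind]
      simp
      decide
    · unfold ind
      simp
    · unfold ind
      simp

variable {k s1 r}

theorem step1 (P : Subgroup (Perm (Mdl2 k s1 r))) (hP : IsPGroup 2 P) (hW : W2 k s1 r ≤ P)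
    (x : Perm (Mdl2 k s1 r)) (hx : x ∈ P) (hc : x.cycleType = {2, 2}) (j : Fin k) (u y : ZMod 2) :
    ∃ u' y', x (Sum.inl (j, (u, y))) = Sum.inl (j, (u', y')) := by
  by_contra hne
  push Not at hne
  set a : Mdl2 k s1 r := Sum.inl (j, (u, y)) with ha
  set b : Mdl2 k s1 r := x a with hb
  have hab : a ≠ b := fun h => hne u y h.symm
  have hxb : x b = a := dt_sq x hc a
  have hvb : ∀ u₀ x₀, vv k s1 r j u₀ x₀ b = b := by
    intro u₀ x₀
    rcases hbb : b with ⟨j', u', y'⟩ | z
    · have hj' : j' ≠ j := by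
        rintro rfl
        exact hne u' y' hbb
      exact vv_apply_other k s1 r j j' hj' u₀ x₀ u' y'
    · exact vv_apply_inr k s1 r j u₀ x₀ z
  have hmoved : ∀ u₀ x₀ : ZMod 2, x (Sum.inl (j, (u + u₀, y + x₀))) ≠ Sum.inl (j, (u + u₀, y + x₀)) := by
    intro u₀ x₀ hfix
    by_cases h00 : u₀ = 0 ∧ x₀ = 0
    · obtain ⟨rfl, rfl⟩ := h00
      rw [add_zero, add_zero] at hfix
      exact hab hfix.symm
    · have hac : a ≠ Sum.inl (j, (u + u₀, y + x₀)) := by
        intro h
        have h1 := Sum.inl_injective h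
        have h2 : u = u + u₀ := congrArg (fun w => w.2.1) h1
        have h3 : y = y + x₀ := congrArg (fun w => w.2.2) h1
        apply h00
        constructor
        · have := congrArg (fun t => t - u) h2
          simpa using this.symm
        · have := congrArg (fun t => t - y) h3
          simpa using this.symm
      refine no_three P hP x (vv k s1 r j u₀ x₀) hx (hW (vv_mem_W2 k s1 r j u₀ x₀)) a b
        (Sum.inl (j, (u + u₀, y + x₀))) hab hac rfl hxb hfix ?_ ?_ (hvb u₀ x₀)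
      · exact vv_apply_same k s1 r j u₀ x₀ u y
      · rw [vv_apply_same]
        have h2 : ∀ a b : ZMod 2, a + b + b = a := by decide
        rw [h2, h2]
  have hblock : ∀ w : ZMod 2 × ZMod 2, (Sum.inl (j, w) : Mdl2 k s1 r) ∈ x.support := by
    rintro ⟨w1, w2⟩
    rw [Perm.mem_support]
    have := hmoved (w1 - u) (w2 - y)
    rwa [add_sub_cancel, add_sub_cancel] at this
  have hbsupp : b ∈ x.support := by
    rw [Perm.mem_support, hxb]; exact hab
  have hsub : insert b (Finset.image (fun w : ZMod 2 × ZMod 2 => (Sum.inl (j, w) : Mdl2 k s1 r))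
      Finset.univ) ⊆ x.support := by
    intro q hq
    rw [Finset.mem_insert, Finset.mem_image] at hq
    rcases hq with rfl | ⟨w, -, rfl⟩
    · exact hbsupp
    · exact hblock w
  have hcard := Finset.card_le_card hsub
  rw [dt_card x hc, Finset.card_insert_of_notMem, Finset.card_image_of_injective] at hcard
  · simp at hcard
  · intro w w' h
    have := Sum.inl_injective h
    exact congrArg Prod.snd this
  · rw [Finset.mem_image]
    rintro ⟨⟨w1, w2⟩, -, h⟩
    exact hne w1 w2 h.symm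

theorem not_inl_of (x : Perm (Mdl2 k s1 r)) (hc : x.cycleType = {2, 2})
    (h1 : ∀ (j : Fin k) (u y : ZMod 2), ∃ u' y', x (Sum.inl (j, (u, y))) = Sum.inl (j, (u', y')))
    (z : (Fin s1 × ZMod 2) ⊕ Fin r) (j : Fin k) (w : ZMod 2 × ZMod 2) :
    x (Sum.inr z) ≠ Sum.inl (j, w) := by
  intro h
  obtain ⟨u', y', h'⟩ := h1 j w.1 w.2
  have h2 : x (x (Sum.inr z)) = Sum.inr z := dt_sq x hc _
  rw [h] at h2
  rw [show (Sum.inl (j, w) : Mdl2 k s1 r) = Sum.inl (j, (w.1, w.2)) from rfl, h'] at h2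
  exact Sum.inl_ne_inr h2

theorem step2 (hk : 1 ≤ k) (hs1 : s1 ≤ 1) (hr : r ≤ 1)
    (P : Subgroup (Perm (Mdl2 k s1 r))) (hP : IsPGroup 2 P) (hW : W2 k s1 r ≤ P)
    (x : Perm (Mdl2 k s1 r)) (hx : x ∈ P) (hc : x.cycleType = {2, 2})
    (h1 : ∀ (j : Fin k) (u y : ZMod 2), ∃ u' y', x (Sum.inl (j, (u, y))) = Sum.inl (j, (u', y')))
    (e : Fin r) : x (Sum.inr (Sum.inr e)) = Sum.inr (Sum.inr e) := by
  by_contra hne
  have hsubr : ∀ e' : Fin r, e' = e := by
    intro e'
    apply Fin.ext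
    have := e'.2
    have := e.2
    omega
  have hsubs : ∀ i i' : Fin s1, i' = i := by
    intro i i'
    apply Fin.ext
    have := i'.2
    have := i.2
    omega
  set b0 : Mdl2 k s1 r := Sum.inr (Sum.inr e) with hb0
  rcases hf : x b0 with ⟨j, w⟩ | ⟨i, y⟩ | e'
  · exact not_inl_of x hc h1 _ j w hf
  · set f : Mdl2 k s1 r := Sum.inr (Sum.inl (i, y)) with hfdef
    set f' : Mdl2 k s1 r := Sum.inr (Sum.inl (i, y + 1)) with hf'def
    have hxf : x f = b0 := by rw [← hf]; exact dt_sq x hc b0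
    have hff' : f ≠ f' := by
      intro h
      have := Sum.inl_injective (Sum.inr_injective h)
      exact z2_add_one_ne y (congrArg Prod.snd this).symm
    have hxf' : x f' = f' := by
      rcases hg : x f' with ⟨j, w⟩ | ⟨i', y'⟩ | e'
      · exact absurd hg (not_inl_of x hc h1 _ j w)
      · have hi : i' = i := hsubs i i'
        subst hi
        rcases z2_eq_or y' y with rfl | rfl
        · exfalso
          have h2 : x (x f') = f' := dt_sq x hc f'
          rw [hg, hxf] at h2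
          rw [hb0, hf'def] at h2
          exact Sum.inl_ne_inr (Sum.inr_injective h2).symm
        · rfl
      · exfalso
        have he : e' = e := hsubr e'
        subst he
        have h2 : x (x f') = f' := dt_sq x hc f'
        rw [hg, hf] at h2
        exact hff' h2
    refine no_three P hP x (ee k s1 r ⟨0, by omega⟩ i) hx (hW (ee_mem_W2 k s1 r _ i)) f b0 f'
      ?_ hff' hxf hf hxf' ?_ ?_ ?_
    · rw [hfdef, hb0]
      intro h
      exact Sum.inl_ne_inr (Sum.inr_injective h)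
    · exact ee_apply_two k s1 r _ i y
    · rw [hf'def, ee_apply_two, z2_add_one_add_one]
    · exact ee_apply_pt k s1 r _ i e
  · apply hne
    rw [hf, hsubr e']

theorem step2' (hs1 : s1 ≤ 1)
    (x : Perm (Mdl2 k s1 r)) (hc : x.cycleType = {2, 2})
    (h1 : ∀ (j : Fin k) (u y : ZMod 2), ∃ u' y', x (Sum.inl (j, (u, y))) = Sum.inl (j, (u', y')))
    (h2 : ∀ e : Fin r, x (Sum.inr (Sum.inr e)) = Sum.inr (Sum.inr e))
    (i : Fin s1) (y : ZMod 2) : ∃ y', x (Sum.inr (Sum.inl (i, y))) = Sum.inr (Sum.inl (i, y')) := by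
  have hsubs : ∀ i i' : Fin s1, i' = i := by
    intro i i'
    apply Fin.ext
    have := i'.2
    have := i.2
    omega
  rcases hg : x (Sum.inr (Sum.inl (i, y))) with ⟨j, w⟩ | ⟨i', y'⟩ | e'
  · exact absurd hg (not_inl_of x hc h1 _ j w)
  · exact ⟨y', by rw [hsubs i i']⟩
  · exfalso
    have h3 : x (x (Sum.inr (Sum.inl (i, y)))) = Sum.inr (Sum.inl (i, y)) := dt_sq x hc _
    rw [hg, h2] at h3
    exact Sum.inl_ne_inr (Sum.inr_injective h3).symm

theorem step3_core (h6 : 2 ≤ k ∨ s1 = 1)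
    (P : Subgroup (Perm (Mdl2 k s1 r))) (hP : IsPGroup 2 P) (hW : W2 k s1 r ≤ P)
    (x : Perm (Mdl2 k s1 r)) (hx : x ∈ P) (hc : x.cycleType = {2, 2})
    (j : Fin k) (u y y2 : ZMod 2)
    (hfix : x (Sum.inl (j, (u, y))) = Sum.inl (j, (u, y)))
    (hmv : x (Sum.inl (j, (u, y + 1))) = Sum.inl (j, (u + 1, y2))) : False := by
  obtain ⟨δ, η, hmem, hδ1, hδ0⟩ := exists_tq k s1 r h6 j u
  refine no_three P hP x (dd k s1 r 0 δ η) hx (hW hmem) (Sum.inl (j, (u, y + 1)))
    (Sum.inl (j, (u + 1, y2))) (Sum.inl (j, (u, y))) ?_ ?_ hmv ?_ hfix ?_ ?_ ?_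
  · intro h
    have := Sum.inl_injective h
    exact z2_add_one_ne u (congrArg (fun w => w.2.1) this).symm
  · intro h
    have := Sum.inl_injective h
    exact z2_add_one_ne y (congrArg (fun w => w.2.2) this)
  · rw [← hmv]; exact dt_sq x hc _
  · rw [dd_apply_inl, hδ1, z2_add_one_add_one]
    simp
  · rw [dd_apply_inl, hδ1]
    simp
  · rw [dd_apply_inl, hδ0]
    simp

theorem step3 (h6 : 2 ≤ k ∨ s1 = 1)
    (P : Subgroup (Perm (Mdl2 k s1 r))) (hP : IsPGroup 2 P) (hW : W2 k s1 r ≤ P)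
    (x : Perm (Mdl2 k s1 r)) (hx : x ∈ P) (hc : x.cycleType = {2, 2})
    (j : Fin k) (u y u1 y1 u2 y2 : ZMod 2)
    (ha : x (Sum.inl (j, (u, y))) = Sum.inl (j, (u1, y1)))
    (ha' : x (Sum.inl (j, (u, y + 1))) = Sum.inl (j, (u2, y2))) : u1 = u2 := by
  by_contra hne
  rcases z2_eq_or u1 u with rfl | rfl
  · have hu2 : u2 = u1 + 1 := z2_of_ne u2 u1 (Ne.symm hne)
    subst hu2
    rcases z2_eq_or y1 y with rfl | rfl
    · exact step3_core h6 P hP hW x hx hc j u1 y1 y2 ha ha'
    · have h3 : x (x (Sum.inl (j, (u1, y)))) = Sum.inl (j, (u1, y)) := dt_sq x hc _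
      rw [ha, ha'] at h3
      have := Sum.inl_injective h3
      exact z2_add_one_ne u1 (congrArg (fun w => w.2.1) this)
  · have hu2 : u2 = u := by
      rcases z2_eq_or u2 u with h | h
      · exact h
      · exact absurd h.symm hne
    subst hu2
    rcases z2_eq_or y2 y with rfl | rfl
    · have h3 : x (x (Sum.inl (j, (u2, y2 + 1)))) = Sum.inl (j, (u2, y2 + 1)) := dt_sq x hc _
      rw [ha', ha] at h3
      have := Sum.inl_injective h3
      exact z2_add_one_ne u2 (congrArg (fun w => w.2.1) this)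
    · refine step3_core h6 P hP hW x hx hc j u2 (y + 1) y1 ha' ?_
      rw [z2_add_one_add_one]
      exact ha

def ucoord : Mdl2 k s1 r → ZMod 2 := Sum.elim (fun w => w.2.1) (fun _ => 0)

def ycoord : Mdl2 k s1 r → ZMod 2 :=
  Sum.elim (fun w => w.2.2) (Sum.elim (fun v => v.2) (fun _ => 0))

theorem dtrans_eq_dd (x : Perm (Mdl2 k s1 r))
    (h1 : ∀ (j : Fin k) (u y : ZMod 2), ∃ u' y', x (Sum.inl (j, (u, y))) = Sum.inl (j, (u', y')))
    (h2 : ∀ e : Fin r, x (Sum.inr (Sum.inr e)) = Sum.inr (Sum.inr e))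
    (h2' : ∀ (i : Fin s1) (y : ZMod 2), ∃ y', x (Sum.inr (Sum.inl (i, y))) = Sum.inr (Sum.inl (i, y')))
    (h3 : ∀ (j : Fin k) (u y u1 y1 u2 y2 : ZMod 2), x (Sum.inl (j, (u, y))) = Sum.inl (j, (u1, y1)) →
      x (Sum.inl (j, (u, y + 1))) = Sum.inl (j, (u2, y2)) → u1 = u2) :
    x = dd k s1 r (fun j => ucoord (x (Sum.inl (j, (0, 0)))))
      (fun j u => ycoord (x (Sum.inl (j, (u, 0))))) (fun i => ycoord (x (Sum.inr (Sum.inl (i, 0))))) := by
  have F1 : ∀ (j : Fin k) (u y u' y' : ZMod 2), x (Sum.inl (j, (u, y))) = Sum.inl (j, (u', y')) →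
      u' = ucoord (x (Sum.inl (j, (u, 0)))) := by
    intro j u y u' y' h
    rcases zmod2_cases y with rfl | rfl
    · rw [h]; rfl
    · obtain ⟨u0, y0, h0⟩ := h1 j u 0
      have h' : x (Sum.inl (j, (u, 0 + 1))) = Sum.inl (j, (u', y')) := by rw [zero_add]; exact h
      have := h3 j u 0 u0 y0 u' y' h0 h'
      rw [h0, ← this]; rfl
  have F2 : ∀ j : Fin k, ucoord (x (Sum.inl (j, (0, 0)))) ≠ ucoord (x (Sum.inl (j, (1, 0)))) := by
    intro j hEq
    have hall : ∀ w : ZMod 2 × ZMod 2, x (Sum.inl (j, w)) =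
        Sum.inl (j, (ucoord (x (Sum.inl (j, (0, 0)))), ycoord (x (Sum.inl (j, w))))) := by
      rintro ⟨u, y⟩
      obtain ⟨u', y', h⟩ := h1 j u y
      have hu := F1 j u y u' y' h
      have hu' : u' = ucoord (x (Sum.inl (j, (0, 0)))) := by
        rcases zmod2_cases u with rfl | rfl
        · exact hu
        · rw [hu, ← hEq]
      rw [h, ← hu']
      rfl
    have hinj : Function.Injective (fun w : ZMod 2 × ZMod 2 => ycoord (x (Sum.inl (j, w)))) := by
      intro w w' hw
      have hw' : ycoord (x (Sum.inl (j, w))) = ycoord (x (Sum.inl (j, w'))) := hw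
      have : x (Sum.inl (j, w)) = x (Sum.inl (j, w')) := by
        rw [hall w, hall w', hw']
      have := Sum.inl_injective (x.injective this)
      exact congrArg Prod.snd this
    have := Fintype.card_le_of_injective _ hinj
    simp at this
  refine Equiv.ext ?_
  rintro (⟨j, u, y⟩ | ⟨i, y⟩ | e)
  · obtain ⟨u', y', h⟩ := h1 j u y
    rw [h, dd_apply_inl]
    have hu := F1 j u y u' y' h
    have hu' : u' = u + ucoord (x (Sum.inl (j, (0, 0)))) := by
      rcases zmod2_cases u with rfl | rfl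
      · rw [zero_add]; exact hu
      · rw [hu, add_comm]
        exact z2_of_ne _ _ (Ne.symm (F2 j))
    have hy' : y' = y + ycoord (x (Sum.inl (j, (u, 0)))) := by
      rcases zmod2_cases y with rfl | rfl
      · rw [zero_add, h]; rfl
      · obtain ⟨u0, y0, h0⟩ := h1 j u 0
        have hu0 := F1 j u 0 u0 y0 h0
        have hne : y' ≠ y0 := by
          rintro rfl
          have hEq : x (Sum.inl (j, (u, 1))) = x (Sum.inl (j, (u, 0))) := by
            rw [h, h0, hu, hu0]
          have := Sum.inl_injective (x.injective hEq)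
          have h10 : (1 : ZMod 2) = 0 := congrArg (fun w => w.2.2) this
          exact absurd h10 (by decide)
        rw [h0, add_comm]
        exact z2_of_ne _ _ hne
    rw [hu', hy']
  · obtain ⟨y', h⟩ := h2' i y
    rw [h, dd_apply_inr_inl]
    have hy' : y' = y + ycoord (x (Sum.inr (Sum.inl (i, 0)))) := by
      rcases zmod2_cases y with rfl | rfl
      · rw [zero_add, h]; rfl
      · obtain ⟨y0, h0⟩ := h2' i 0
        have hne : y' ≠ y0 := by
          rintro rfl
          have hEq : x (Sum.inr (Sum.inl (i, 1))) = x (Sum.inr (Sum.inl (i, 0))) := by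
            rw [h, h0]
          have := Sum.inl_injective (Sum.inr_injective (x.injective hEq))
          have h10 : (1 : ZMod 2) = 0 := congrArg Prod.snd this
          exact absurd h10 (by decide)
        rw [h0, add_comm]
        exact z2_of_ne _ _ hne
    rw [hy']
  · rw [h2 e]
    rfl

theorem dtrans_mem_W2 (k s1 r : ℕ) (hk : 1 ≤ k) (h6 : 2 ≤ k ∨ s1 = 1) (hs1 : s1 ≤ 1) (hr : r ≤ 1)
    (P : Subgroup (Perm (Mdl2 k s1 r))) (hP : IsPGroup 2 P)
    (hPA : P ≤ alternatingGroup (Mdl2 k s1 r)) (hW : W2 k s1 r ≤ P)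
    (x : Perm (Mdl2 k s1 r)) (hx : x ∈ P) (hc : x.cycleType = {2, 2}) : x ∈ W2 k s1 r := by
  have h1 := step1 P hP hW x hx hc
  have h2 := step2 hk hs1 hr P hP hW x hx hc h1
  have h2' := step2' hs1 x hc h1 h2
  have h3 := step3 h6 P hP hW x hx hc
  have hdd := dtrans_eq_dd x h1 h2 h2' h3
  refine Subgroup.mem_inf.mpr ⟨?_, hPA hx⟩
  rw [hdd]
  exact dd_mem_DD k s1 r _ _ _

end main

end Cfsg.Agent.Lib.Helper24.AltFus
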