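import Mathlib
import Cfsg.Agent.Lib.Helper27.AltFus.Defs
import Cfsg.Agent.Lib.helper17.AltFusO0
import Cfsg.Agent.Lib.Helper24.AltFusGen

set_option autoImplicit false

namespace Cfsg.Agent.Lib.Helper24.AltFus

open Cfsg.Agent.Lib.Helper27.AltFus Cfsg.Agent.Lib.helper17.AltFus Equiv

theorem pcycle_mem_B0 (p : ℕ) [Fact p.Prime] (m' r : ℕ) (hr : r ≤ 1)
    (P : Subgroup (Perm (Mdl p m' r))) (hP : IsPGroup p P) (hB : B0 p m' r ≤ P)
    (g : Perm (Mdl p m' r)) (hg : g ∈ P) (hc : g.cycleType = {p}) : g ∈ B0 p m' r := by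
  have hp : p.Prime := Fact.out
  have hgcard : g.support.card = p := by rw [← Perm.sum_cycleType, hc]; rfl
  have hex : ∃ (i : Blk p m') (x : ZMod p), (Sum.inl (i, x) : Mdl p m' r) ∈ g.support := by
    by_contra hne
    push Not at hne
    have hsub : g.support ⊆ Finset.image (fun k : Fin r => (Sum.inr k : Mdl p m' r)) Finset.univ := by
      intro q hq
      rcases q with ⟨i, x⟩ | k
      · exact absurd hq (hne i x)
      · exact Finset.mem_image.2 ⟨k, Finset.mem_univ _, rfl⟩
    have h1 := Finset.card_le_card hsub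
    have h2 : (Finset.image (fun k : Fin r => (Sum.inr k : Mdl p m' r)) Finset.univ).card ≤ r := by
      refine le_trans Finset.card_image_le ?_
      simp
    have := hp.two_le
    omega
  obtain ⟨i, x, hix⟩ := hex
  have hci : (ext (cyc p m' i) : Perm (Mdl p m' r)) ∈ P :=
    hB (Subgroup.subset_closure (Set.mem_range_self i))
  have hsupp : g.support = (ext (cyc p m' i) : Perm (Mdl p m' r)).support :=
    support_eq_of_pcycles P hP g _ hg hci hc (cycleType_cyc p m' r i) _ hix
      ((support_cyc p m' r i _).2 ⟨x, rfl⟩)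
  have h0 : (Sum.inl (i, 0) : Mdl p m' r) ∈ g.support := by
    rw [hsupp, support_cyc]; exact ⟨0, rfl⟩
  have h1 : g (Sum.inl (i, 0)) ∈ g.support := Perm.apply_mem_support.2 h0
  rw [hsupp, support_cyc] at h1
  obtain ⟨t, ht⟩ := h1
  set h : Perm (Mdl p m' r) := ext (nrm 1 1 (Pi.single i (-t))) * g with hh
  have hmem : (ext (nrm 1 1 (Pi.single i (-t))) : Perm (Mdl p m' r)) ∈ B0 p m' r :=
    ext_nrm11_single_mem p m' r i (-t)
  have hhP : h ∈ P := mul_mem (hB hmem) hg
  obtain ⟨k, hk⟩ := hP ⟨h, hhP⟩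
  have hk' : h ^ p ^ k = 1 := by
    have := congrArg Subtype.val hk
    simpa using this
  have hsub : h.support ⊆ g.support.erase (Sum.inl (i, 0)) := by
    intro q hq
    rw [Finset.mem_erase]
    constructor
    · rintro rfl
      rw [Perm.mem_support] at hq
      apply hq
      rw [hh, Perm.mul_apply, ht, ext_inl, nrm11_apply]
      simp
    · by_contra hq'
      rw [Perm.mem_support] at hq
      apply hq
      have hgq : g q = q := Perm.notMem_support.1 hq'
      rw [hh, Perm.mul_apply, hgq]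
      rw [hsupp, support_cyc] at hq'
      rcases q with ⟨j, y⟩ | e
      · have hji : j ≠ i := by
          rintro rfl
          exact hq' ⟨y, rfl⟩
        rw [ext_inl, nrm11_apply, Pi.single_apply, if_neg hji, add_zero]
      · rfl
  have hlt : h.support.card < p := by
    have h2 := Finset.card_le_card hsub
    rw [Finset.card_erase_of_mem h0, hgcard] at h2
    have := hp.two_le
    omega
  have h1 : h = 1 := eq_one_of_card_support_lt h k hk' hlt
  have hg' : g = (ext (nrm 1 1 (Pi.single i (-t))) : Perm (Mdl p m' r))⁻¹ :=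
    eq_inv_of_mul_eq_one_right (by rw [← hh]; exact h1)
  rw [hg']
  exact inv_mem hmem

theorem B0_weaklyClosed (p : ℕ) [Fact p.Prime] (m' r : ℕ) (hr : r ≤ 1)
    (P : Subgroup (Perm (Mdl p m' r))) (hP : IsPGroup p P) (hB : B0 p m' r ≤ P)
    (g : Perm (Mdl p m' r)) (hg : ∀ b ∈ B0 p m' r, g * b * g⁻¹ ∈ P) :
    ∀ b ∈ B0 p m' r, g * b * g⁻¹ ∈ B0 p m' r := by
  have hle : B0 p m' r ≤ (B0 p m' r).comap (MulAut.conj g).toMonoidHom := by
    conv_lhs => rw [B0]
    rw [Subgroup.closure_le]
    rintro _ ⟨i, rfl⟩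
    show g * ext (cyc p m' i) * g⁻¹ ∈ B0 p m' r
    refine pcycle_mem_B0 p m' r hr P hP hB _
      (hg _ (Subgroup.subset_closure (Set.mem_range_self i))) ?_
    rw [Perm.cycleType_conj, cycleType_cyc]
  intro b hb
  exact hle hb

end Cfsg.Agent.Lib.Helper24.AltFus
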