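import Mathlib
import Cfsg.Agent.Lib.Lead.BCG.Defs
import Cfsg.Agent.Lib.Helper24.BCGT7h24
import Cfsg.Agent.Lib.Helper1.BCGT3
import Cfsg.Agent.Lib.helper8.S5955X1
import Cfsg.Agent.Lib.helper6.Symp

set_option autoImplicit false
set_option linter.unusedVariables false

namespace Cfsg.Agent.Lib.Lead.BCG

open Polynomial Module Matrix Cfsg.Agent.Lib.Helper13.S5955 Cfsg.Agent.Lib.helper15.S5972
  Cfsg.Agent.Lib.Helper18.ONE Cfsg.Agent.Lib.Lead.BCS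

theorem bcgx1_h24 {F : Type*} [Field F] (d : ℕ) (x : Matrix.symplecticGroup (Fin d) F) (N : ℕ)
    (hx : x ^ N = 1) :
    SCtx N (stdB d F) (Matrix.toLin' (x : Matrix (Fin d ⊕ Fin d) (Fin d ⊕ Fin d) F)) := by
  obtain ⟨halt, hnd⟩ := stdB_alt_nd (F := F) d
  refine ⟨halt, hnd, ?_, (sp_same d x N).mp hx⟩
  intro u v
  rw [stdB_apply, stdB_apply, Matrix.toLin'_apply, Matrix.toLin'_apply]
  exact (Cfsg.Agent.Lib.helper6.mem_symplecticGroup_iff_sympForm d _).mp x.2 u v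

theorem odd_S_to_O {F : Type*} [Field F] [Fintype F] {p : ℕ} [Fact p.Prime] [CharP F p]
    (hodd : Odd (Fintype.card F)) (n : ℕ) (hn : 3 ≤ n) (N : ℕ) (hNo : Odd N) (hN1 : 1 < N)
    (hNp : ¬ p ∣ N) (hx : ∃ x : Matrix.symplecticGroup (Fin n) F, orderOf x = N) :
    InO n F N :=
  bcgt7_h24core (p := p) hodd n hn N hNo hN1 hNp (fun x hxN => bcgx1_h24 n x N hxN)
    (fun hNF x hctx => s_restrict_geo hNo hNF hctx) hx

end Cfsg.Agent.Lib.Lead.BCG
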