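import Mathlib
import Cfsg.Agent.Lib.Lead.BCG.Defs
import Cfsg.Agent.Lib.Helper24.BCGT7
import Cfsg.Agent.Lib.helper15.BCGT5
import Cfsg.Agent.Lib.helper15.S5972OS2CTX
import Cfsg.Agent.Lib.helper15.S5972STDCTX
import Cfsg.Agent.Lib.Helper24.S5972TRANSPORT
import Cfsg.Agent.Lib.Helper25.S5972OMEGAODD
import Cfsg.Agent.Lib.Helper25.BCGX4
import Cfsg.Agent.Lib.Helper11.BCGX3
import Cfsg.Agent.Lib.Helper20.BCGA17
import Cfsg.Agent.Lib.helper2.BCGT2A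
import Cfsg.Agent.Lib.Helper18.OmegaOdd

set_option autoImplicit false
set_option linter.unusedVariables false

namespace Cfsg.Agent.Lib.Lead.BCG

open Polynomial Module Matrix Cfsg.Agent.Lib.Helper13.S5955 Cfsg.Agent.Lib.helper15.S5972
  Cfsg.Agent.Lib.Helper18.ONE Cfsg.Agent.Lib.Lead.BCS

theorem bcgs4_cyc_sum {F : Type*} [Field F] {V : Type*} [AddCommGroup V] [Module F V]
    (s : ℕ) [Fact s.Prime] (x : Module.End F V) (v : V) :
    aeval x (cyclotomic s F) v = ∑ j ∈ Finset.range s, (x ^ j) v := by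
  rw [cyclotomic_prime, map_sum, LinearMap.sum_apply]
  apply Finset.sum_congr rfl
  intro j _
  rw [map_pow, aeval_X]

theorem bcgs4_self_neg {F : Type*} [Field F] (h2 : (2 : F) ≠ 0) {W : Type*} [AddCommGroup W]
    [Module F W] (b : W) : b = -b ↔ b = 0 := by
  constructor
  · intro h
    have h1 : (2 : F) • b = 0 := by
      rw [two_smul]
      nth_rewrite 2 [h]
      exact add_neg_cancel b
    rcases smul_eq_zero.mp h1 with h3 | h3
    · exact absurd h3 h2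
    · exact h3
  · intro h
    rw [h, neg_zero]

theorem bcgs4_h24 {F : Type*} [Field F] [Fintype F] {p : ℕ} [Fact p.Prime] [CharP F p]
    (hodd : Odd (Fintype.card F)) (n : ℕ) (hn : 1 ≤ n) (s : ℕ) [Fact s.Prime] (hsp : s ≠ p)
    (hs2 : s ≠ 2) (hc : cOf (Fintype.card F) s = 2 * n)
    (t y : Matrix.symplecticGroup (Fin n) F) (hty : Commute t y) (hy : orderOf y = s)
    (ht : t * t = Cfsg.Agent.S0246.negOne F n) :
    ∃ Z Y : GL (Unit ⊕ (Fin n ⊕ Fin n)) F, Z ∈ Cfsg.Geo.omegaGL (Cfsg.quadFormOdd n F) ∧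
      Z ^ 2 = 1 ∧ Y ∈ Cfsg.isometryGroup F (Cfsg.quadFormOdd n F) ∧ Y ^ s = 1 ∧
      cycS 2 (Matrix.toLin'
        (Z : Matrix (Unit ⊕ (Fin n ⊕ Fin n)) (Unit ⊕ (Fin n ⊕ Fin n)) F)) =
      cycS s (Matrix.toLin'
        (Y : Matrix (Unit ⊕ (Fin n ⊕ Fin n)) (Unit ⊕ (Fin n ⊕ Fin n)) F)) ∧
      finrank F (cycS s (Matrix.toLin'
        (Y : Matrix (Unit ⊕ (Fin n ⊕ Fin n)) (Unit ⊕ (Fin n ⊕ Fin n)) F))) = 2 * n := by
  classical
  have h2 : (2 : F) ≠ 0 := s5972omegaodd_two_ne hodd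
  have hsodd : Odd s := (Fact.out : s.Prime).odd_of_ne_two hs2
  have hs1 : 1 < s := (Fact.out : s.Prime).one_lt
  have hsF : (s : F) ≠ 0 := by
    intro h0
    have h1 := (CharP.cast_eq_zero_iff F p s).mp h0
    exact hsp ((Nat.prime_dvd_prime_iff_eq (Fact.out : p.Prime) (Fact.out : s.Prime)).mp h1).symm
  obtain ⟨y', hy'⟩ : ∃ y' : Module.End F (Fin n ⊕ Fin n → F),
      y' = Matrix.toLin' (y : Matrix (Fin n ⊕ Fin n) (Fin n ⊕ Fin n) F) := ⟨_, rfl⟩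
  obtain ⟨t', ht'⟩ : ∃ t' : Module.End F (Fin n ⊕ Fin n → F),
      t' = Matrix.toLin' (t : Matrix (Fin n ⊕ Fin n) (Fin n ⊕ Fin n) F) := ⟨_, rfl⟩
  have hys : y ^ s = 1 := by
    rw [← hy]
    exact pow_orderOf_eq_one y
  have hctx : SCtx s (stdB n F) y' := by
    rw [hy']
    exact bcgx1_h24 n y s hys
  have hy1 : y' ≠ 1 := by
    intro h
    have h1 : y ^ 1 = 1 := (sp_same n y 1).mpr (by rw [pow_one, ← hy']; exact h)
    rw [pow_one] at h1
    rw [h1, orderOf_one] at hy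
    omega
  obtain ⟨hpos, hdvd, hsum⟩ := s_cyc_dim (p := p) hsp hctx hy1
  have hfr : finrank F (Fin n ⊕ Fin n → F) = 2 * n := by
    rw [Module.finrank_fintype_fun_eq_card, Fintype.card_sum, Fintype.card_fin]
    omega
  have hcyc : finrank F (cycS s y') = 2 * n := by
    rw [hc] at hdvd
    obtain ⟨k, hk⟩ := hdvd
    have hle : finrank F (cycS s y') ≤ 2 * n := by omega
    rcases k with _ | _ | k
    · rw [hk] at hpos
      simp at hpos
    · rw [hk]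
      ring
    · rw [hk] at hle
      nlinarith
  have hfix : fixS y' = ⊥ := by
    apply Submodule.finrank_eq_zero.mp
    omega
  have hcyctop : cycS s y' = ⊤ := by
    apply Submodule.eq_top_of_finrank_eq
    rw [hcyc, hfr]
  obtain ⟨hX, hfinOS, -, -⟩ := os2_ctx s 1 hsodd hs1 y' hctx hfix
  obtain ⟨yX, ψ, c, hc0, hyX, hB, hint⟩ :=
    o_transport h2 (os2B y' s 1) (os2X y' 1) hX n hfinOS
  obtain ⟨Y, hYiso, hYy, hYs⟩ := o_realize h2 n s yX hyX
  have htmat : (t : Matrix (Fin n ⊕ Fin n) (Fin n ⊕ Fin n) F) *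
      (t : Matrix (Fin n ⊕ Fin n) (Fin n ⊕ Fin n) F) = -1 := by
    have h1 := congrArg Subtype.val ht
    rw [Cfsg.Agent.S0246.negOne_coe] at h1
    exact h1
  have htt : ∀ a, t' (t' a) = -a := by
    intro a
    rw [ht', ← Matrix.toLin'_mul_apply, htmat, Matrix.toLin'_apply, Matrix.neg_mulVec,
      Matrix.one_mulVec]
  have htpres : ∀ u v, stdB n F (t' u) (t' v) = stdB n F u v := by
    intro u v
    rw [ht', stdB_apply, stdB_apply, Matrix.toLin'_apply, Matrix.toLin'_apply]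
    exact (Cfsg.Agent.Lib.helper6.mem_symplecticGroup_iff_sympForm n _).mp t.2 u v
  have htcomm : Commute t' y' := by
    have h1 : (t : Matrix (Fin n ⊕ Fin n) (Fin n ⊕ Fin n) F) *
        (y : Matrix (Fin n ⊕ Fin n) (Fin n ⊕ Fin n) F) =
        (y : Matrix (Fin n ⊕ Fin n) (Fin n ⊕ Fin n) F) *
        (t : Matrix (Fin n ⊕ Fin n) (Fin n ⊕ Fin n) F) := congrArg Subtype.val hty.eq
    show t' * y' = y' * t'
    rw [ht', hy']
    apply LinearMap.ext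
    intro v
    rw [Module.End.mul_apply, Module.End.mul_apply, ← Matrix.toLin'_mul_apply,
      ← Matrix.toLin'_mul_apply, h1]
  have htalt := (altb_of_sctx hsodd hctx hfix).2 t' htpres htcomm
  obtain ⟨T, hT⟩ : ∃ T : Module.End F (OS2 F n 1), T = LinearMap.prodMap t' LinearMap.id :=
    ⟨_, rfl⟩
  have hTap : ∀ u : OS2 F n 1, T u = (t' u.1, u.2) := by
    intro u
    rw [hT]
    rfl
  have hTpres : ∀ u v, os2B y' s 1 (T u) (T v) = os2B y' s 1 u v := by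
    intro u v
    rw [os2B_apply, os2B_apply, hTap, hTap]
    show altB (stdB n F) y' s (t' u.1) (t' v.1) + u.2 ⬝ᵥ v.2 = _
    rw [htalt]
  have hTT : ∀ u : OS2 F n 1, T (T u) = (-u.1, u.2) := by
    intro u
    rw [hTap, hTap]
    show (t' (t' u.1), u.2) = _
    rw [htt]
  obtain ⟨tψ, htψ⟩ : ∃ tψ : Module.End F (Unit ⊕ (Fin n ⊕ Fin n) → F),
      ∀ v, tψ v = ψ.symm (T (ψ v)) :=
    ⟨(ψ.symm : OS2 F n 1 →ₗ[F] _) ∘ₗ T ∘ₗ (ψ : _ →ₗ[F] OS2 F n 1), fun v => rfl⟩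
  have htψ2 : ∀ v, tψ (tψ v) = ψ.symm (T (T (ψ v))) := by
    intro v
    rw [htψ, htψ, LinearEquiv.apply_symm_apply]
  have htψ4 : ∀ v, tψ (tψ (tψ (tψ v))) = v := by
    intro v
    rw [htψ2, htψ2, LinearEquiv.apply_symm_apply, hTT, hTT]
    show ψ.symm (- -(ψ v).1, (ψ v).2) = v
    rw [neg_neg]
    exact ψ.symm_apply_apply v
  have hT4 : OCtx 4 (stdO n F) tψ := by
    refine ⟨hyX.symm, hyX.nd, ?_, ?_⟩
    · intro u v
      have h1 : c * stdO n F (tψ u) (tψ v) = c * stdO n F u v := by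
        rw [← hB, ← hB, htψ, htψ, LinearEquiv.apply_symm_apply, LinearEquiv.apply_symm_apply,
          hTpres]
      exact mul_left_cancel₀ hc0 h1
    · apply LinearMap.ext
      intro v
      have h4 : tψ ^ 4 = tψ * tψ * (tψ * tψ) := by
        rw [← pow_two, ← pow_two, ← pow_mul]
      rw [h4, Module.End.mul_apply, Module.End.mul_apply, Module.End.mul_apply, htψ4]
      rfl
  obtain ⟨Mt, hMtiso, hMt, -⟩ := o_realize h2 n 4 tψ hT4
  have hZΩ : Mt * Mt ∈ Cfsg.Geo.omegaGL (Cfsg.quadFormOdd n F) := by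
    have h1 := Cfsg.Agent.Lib.Helper18.OmegaOdd.omegaodd_sq_mem h2
      (Cfsg.Agent.Lib.Helper16.qfOdd n F) (Cfsg.Agent.Lib.Helper16.OA.qfOdd_nondeg n h2) Mt
      (by rw [Cfsg.Agent.Lib.Helper16.qfOdd_coe]; exact hMtiso)
    rw [Cfsg.Agent.Lib.Helper16.qfOdd_coe] at h1
    exact h1
  have hZlin : Matrix.toLin' ((Mt * Mt : GL (Unit ⊕ (Fin n ⊕ Fin n)) F) :
      Matrix (Unit ⊕ (Fin n ⊕ Fin n)) (Unit ⊕ (Fin n ⊕ Fin n)) F) = tψ * tψ := by
    rw [Units.val_mul, Matrix.toLin'_mul, hMt]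
    rfl
  have hZ2 : (Mt * Mt) ^ 2 = 1 := by
    rw [gl_same (Mt * Mt) 2, hZlin]
    apply LinearMap.ext
    intro v
    rw [pow_two, Module.End.mul_apply, Module.End.mul_apply, Module.End.mul_apply, htψ4]
    rfl
  have hZmem : ∀ v, v ∈ cycS 2 (Matrix.toLin' ((Mt * Mt : GL (Unit ⊕ (Fin n ⊕ Fin n)) F) :
      Matrix (Unit ⊕ (Fin n ⊕ Fin n)) (Unit ⊕ (Fin n ⊕ Fin n)) F)) ↔ (ψ v).2 = 0 := by
    intro v
    rw [bcs_mem_cyc_two, hZlin, Module.End.mul_apply, htψ2, LinearEquiv.symm_apply_eq, map_neg,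
      hTT, Prod.ext_iff]
    show (-(ψ v).1 = -(ψ v).1 ∧ (ψ v).2 = -(ψ v).2) ↔ _
    rw [bcgs4_self_neg h2]
    exact ⟨fun h => h.2, fun h => ⟨rfl, h⟩⟩
  have hYmem : ∀ v, v ∈ cycS s (Matrix.toLin'
      (Y : Matrix (Unit ⊕ (Fin n ⊕ Fin n)) (Unit ⊕ (Fin n ⊕ Fin n)) F)) ↔ (ψ v).2 = 0 := by
    intro v
    rw [hYy]
    unfold cycS
    rw [LinearMap.mem_ker, bcgs4_cyc_sum, ← ψ.map_eq_zero_iff, map_sum]
    have h1 : ∀ j ∈ Finset.range s, ψ ((yX ^ j) v) = ((y' ^ j) (ψ v).1, (ψ v).2) := by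
      intro j _
      rw [bcgt5_pow yX (os2X y' 1) ψ hint j v, s5972os2_pow]
    rw [Finset.sum_congr rfl h1]
    have h3 : (∑ j ∈ Finset.range s, ((y' ^ j) (ψ v).1, (ψ v).2) : OS2 F n 1) =
        (∑ j ∈ Finset.range s, (y' ^ j) (ψ v).1, ∑ j ∈ Finset.range s, (ψ v).2) := by
      apply Prod.ext
      · rw [Prod.fst_sum]
      · rw [Prod.snd_sum]
    rw [h3, ← bcgs4_cyc_sum]
    have h4 : aeval y' (cyclotomic s F) (ψ v).1 = 0 := by
      have h5 : (ψ v).1 ∈ cycS s y' := by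
        rw [hcyctop]
        exact Submodule.mem_top
      unfold cycS at h5
      exact LinearMap.mem_ker.mp h5
    rw [h4, Finset.sum_const, Finset.card_range, Prod.mk_eq_zero]
    constructor
    · intro h
      have h6 : (s : F) • (ψ v).2 = 0 := by
        rw [← h.2, Nat.cast_smul_eq_nsmul]
      rcases smul_eq_zero.mp h6 with h7 | h7
      · exact absurd h7 hsF
      · exact h7
    · intro h
      refine ⟨rfl, ?_⟩
      rw [h, smul_zero]
  have heq : cycS 2 (Matrix.toLin' ((Mt * Mt : GL (Unit ⊕ (Fin n ⊕ Fin n)) F) :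
      Matrix (Unit ⊕ (Fin n ⊕ Fin n)) (Unit ⊕ (Fin n ⊕ Fin n)) F)) =
      cycS s (Matrix.toLin'
        (Y : Matrix (Unit ⊕ (Fin n ⊕ Fin n)) (Unit ⊕ (Fin n ⊕ Fin n)) F)) := by
    apply Submodule.ext
    intro v
    rw [hZmem, hYmem]
  refine ⟨Mt * Mt, Y, hZΩ, hZ2, hYiso, hYs, heq, ?_⟩
  obtain ⟨f, hf⟩ : ∃ f : (Unit ⊕ (Fin n ⊕ Fin n) → F) →ₗ[F] (Fin 1 → F), ∀ v, f v = (ψ v).2 :=
    ⟨(LinearMap.snd F (Fin n ⊕ Fin n → F) (Fin 1 → F)) ∘ₗ (ψ : _ →ₗ[F] OS2 F n 1), fun v => rfl⟩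
  have hker : cycS s (Matrix.toLin'
      (Y : Matrix (Unit ⊕ (Fin n ⊕ Fin n)) (Unit ⊕ (Fin n ⊕ Fin n)) F)) = LinearMap.ker f := by
    apply Submodule.ext
    intro v
    rw [hYmem, LinearMap.mem_ker, hf]
  have hsurj : LinearMap.range f = ⊤ := by
    rw [LinearMap.range_eq_top]
    intro b
    refine ⟨ψ.symm (0, b), ?_⟩
    rw [hf, LinearEquiv.apply_symm_apply]
  have hrn := LinearMap.finrank_range_add_finrank_ker f
  rw [hsurj, finrank_top, Module.finrank_fintype_fun_eq_card, Fintype.card_fin,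
    Module.finrank_fintype_fun_eq_card, Fintype.card_sum, Fintype.card_sum, Fintype.card_fin,
    Fintype.card_unit] at hrn
  rw [hker]
  omega

end Cfsg.Agent.Lib.Lead.BCG
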