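import Mathlib
import Cfsg.Agent.Lib.Lead.BCS.Defs
import Cfsg.Agent.Lib.Helper24.BCSA9h24
import Cfsg.Agent.Lib.helper7.BCSA9

set_option autoImplicit false
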