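import Mathlib
import Cfsg.Prelude.Def_Blocks
import Cfsg.Agent.Lib.helper7.BlockInd2
import Cfsg.Agent.Lib.helper7.BlockDefect2
import Cfsg.Agent.Lib.helper7.BlockOsima
import Cfsg.Agent.Lib.Helper25.BrouePuig

set_option autoImplicit false
set_option linter.unusedVariables false

namespace Cfsg.Agent.Lib.Helper29.BLI

open scoped ComplexConjugate InnerProductSpace
open Cfsg.Agent.Lib.helper7 Cfsg.Agent.Lib.Helper25 Cfsg.Agent.Lib.helper2

theorem blimult_centralizer {G : Type*} [Group G] (p : ℕ) (hp : p.Prime) (x : G)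
    (hx : orderOf x = p) (k : ℕ) (hk0 : 0 < k) (hkp : k < p) :
    Subgroup.centralizer ({x ^ k} : Set G) = Subgroup.centralizer ({x} : Set G) := by
  have hcop : Nat.Coprime k p :=
    (Nat.coprime_of_lt_prime hk0.ne' hkp hp).symm
  obtain ⟨j, -, hj⟩ := Nat.exists_mul_mod_eq_one_of_coprime hcop hp.one_lt
  have hxj : (x ^ k) ^ j = x := by
    rw [← pow_mul, ← pow_mod_orderOf, hx, hj, pow_one]
  ext g
  rw [Subgroup.mem_centralizer_singleton_iff, Subgroup.mem_centralizer_singleton_iff]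
  constructor
  · intro h
    have h1 : Commute g (x ^ k) := h
    have h2 : Commute g ((x ^ k) ^ j) := h1.pow_right j
    rw [hxj] at h2
    exact h2
  · intro h
    have h1 : Commute g x := h
    exact h1.pow_right k

theorem bli_mult {G : Type*} [Group G] [Finite G] (p : ℕ) [Fact p.Prime] (M : Ideal Cfsg.AlgInt)
    (hM : Cfsg.IsPModular p M) (χ : Cfsg.IrrCharacter G) (hχ : χ ∈ Cfsg.principalBlock M G) (x : G)
    (hx : orderOf x = p) (hcen : ¬ p ∣ (Subgroup.centralizer ({x} : Set G)).index) (α : ℕ)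
    (hα : p ^ α ∣ Cfsg.charDegree (χ : G → ℂ)) (lam : ℂ) (hlam : lam ^ p = 1) (m : ℕ)
    (hm : (p : ℂ) * (m : ℂ) = ∑ k ∈ Finset.range p, (χ : G → ℂ) (x ^ k) * (lam⁻¹) ^ k) :
    p ^ α ∣ m := by
  classical
  have hp : p.Prime := Fact.out
  have hPr := hM.2.1.isPrime
  obtain ⟨-, hd0, hd1⟩ := h7_charDegree_props χ
  set d := Cfsg.charDegree (χ : G → ℂ) with hd
  set c := (Subgroup.centralizer ({x} : Set G)).index with hc
  have hdC : (d : ℂ) ≠ 0 := by exact_mod_cast hd0.ne'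
  set μ := lam⁻¹ with hμ
  have hμp : μ ^ p = 1 := by rw [hμ, inv_pow, hlam, inv_one]
  set ω : ℕ → ℂ := fun k => (c : ℂ) * (χ : G → ℂ) (x ^ k) / (d : ℂ) with hω
  have hωcc : ∀ k, 0 < k → k < p → Cfsg.centralChar (χ : G → ℂ) (x ^ k) = ω k := by
    intro k hk0 hkp
    unfold Cfsg.centralChar
    rw [blimult_centralizer p hp x hx k hk0 hkp, ← hd1]
  have hωR : ∀ k, 0 < k → k < p → Cfsg.MemLocalRing M (ω k) := by
    intro k hk0 hkp
    rw [← hωcc k hk0 hkp]
    exact h7_memLocalRing_centralChar hPr χ (x ^ k)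
  have hωI : ∀ k, 0 < k → k < p → Cfsg.MemLocalIdeal M ((c : ℂ) - ω k) := by
    intro k hk0 hkp
    have h1 : Cfsg.MemLocalIdeal M (Cfsg.centralChar (fun _ : G => (1 : ℂ)) (x ^ k) -
        Cfsg.centralChar (χ : G → ℂ) (x ^ k)) := hχ (x ^ k)
    rw [hωcc k hk0 hkp] at h1
    unfold Cfsg.centralChar at h1
    rw [blimult_centralizer p hp x hx k hk0 hkp, mul_one, div_one] at h1
    exact h1
  have hμI : ∀ k : ℕ, Cfsg.MemLocalIdeal M (μ ^ k - 1) := by
    intro k
    apply bp_root_sub_one hM (μ ^ k) 1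
    rw [pow_one, ← pow_mul, mul_comm, pow_mul, hμp, one_pow]
  have hμR : ∀ k : ℕ, Cfsg.MemLocalRing M (μ ^ k) := by
    intro k
    apply h7_memLocalRing_of_isIntegral hPr
    apply IsIntegral.pow
    apply IsIntegral.of_pow hp.pos
    rw [hμp]
    exact isIntegral_one
  set t : ℂ := (p : ℂ) * (m : ℂ) * (c : ℂ) / (d : ℂ) with ht
  have hsplit : ∑ k ∈ Finset.range p, (χ : G → ℂ) (x ^ k) * μ ^ k =
      (d : ℂ) + ∑ k ∈ Finset.Ico 1 p, (χ : G → ℂ) (x ^ k) * μ ^ k := by
    rw [Finset.range_eq_Ico, Finset.sum_eq_sum_Ico_succ_bot hp.pos, pow_zero, pow_zero, mul_one, hd1]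
  have ht1 : t = (c : ℂ) + ∑ k ∈ Finset.Ico 1 p, ω k * μ ^ k := by
    rw [ht, hm, hsplit, add_mul, add_div, mul_comm (d : ℂ) (c : ℂ), mul_div_assoc, div_self hdC,
      mul_one, Finset.sum_mul, Finset.sum_div]
    congr 1
    apply Finset.sum_congr rfl
    intro k _
    simp only [hω]
    field_simp
  have hcardIco : ((Finset.Ico 1 p).card : ℂ) = (p : ℂ) - 1 := by
    rw [Nat.card_Ico, Nat.cast_sub hp.one_le, Nat.cast_one]
  have ht2 : t = (p : ℂ) * (c : ℂ) +
      ∑ k ∈ Finset.Ico 1 p, ((ω k - (c : ℂ)) * μ ^ k + (c : ℂ) * (μ ^ k - 1)) := by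
    have h1 : ∀ k ∈ Finset.Ico 1 p, (ω k - (c : ℂ)) * μ ^ k + (c : ℂ) * (μ ^ k - 1) =
        ω k * μ ^ k - (c : ℂ) := by
      intro k _
      ring
    rw [Finset.sum_congr rfl h1, Finset.sum_sub_distrib, Finset.sum_const, nsmul_eq_mul, hcardIco,
      ht1]
    ring
  have htI : Cfsg.MemLocalIdeal M t := by
    rw [ht2]
    apply h7_memLocalIdeal_add hPr
    · exact h7_memLocalIdeal_mul_right hPr (h7_memLocalIdeal_p hM) (h7_memLocalRing_natCast hPr c)
    · apply h7_memLocalIdeal_sum hPr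
      intro k hk
      rw [Finset.mem_Ico] at hk
      apply h7_memLocalIdeal_add hPr
      · apply h7_memLocalIdeal_mul_right hPr _ (hμR k)
        have := h7_memLocalIdeal_neg (hωI k (by omega) hk.2)
        rwa [neg_sub] at this
      · exact h7_memLocalIdeal_mul_left hPr (h7_memLocalRing_natCast hPr c) (hμI k)
  obtain ⟨d', hd'⟩ := hα
  have hstep : ∀ j, j ≤ α → p ^ j ∣ m * c := by
    intro j
    induction j with
    | zero => intro _; simp
    | succ j ih =>
      intro hj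
      obtain ⟨s, hs⟩ := ih (by omega)
      have e1 : (p : ℂ) ^ α = (p : ℂ) ^ (j + 1) * (p : ℂ) ^ (α - j - 1) := by
        rw [← pow_add]
        congr 1
        omega
      have e2 : (d : ℂ) = (p : ℂ) ^ α * (d' : ℂ) := by
        rw [hd']
        push_cast
        ring
      have e3 : (m : ℂ) * (c : ℂ) = (p : ℂ) ^ j * (s : ℂ) := by exact_mod_cast hs
      have h1 : t * (((p ^ (α - j - 1) * d' : ℕ)) : ℂ) = (s : ℂ) := by
        rw [ht, div_mul_eq_mul_div, div_eq_iff hdC, e2, e1]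
        push_cast
        linear_combination (p : ℂ) * (p : ℂ) ^ (α - j - 1) * (d' : ℂ) * e3
      have h2 : Cfsg.MemLocalIdeal M (s : ℂ) := by
        rw [← h1]
        exact h7_memLocalIdeal_mul_right hPr htI (h7_memLocalRing_natCast hPr _)
      obtain ⟨s', hs'⟩ := (h7_memLocalIdeal_natCast_iff hM s).mp h2
      exact ⟨s', by rw [hs, hs']; ring⟩
  have h1 := hstep α le_rfl
  have hcop : Nat.Coprime (p ^ α) c :=
    Nat.Coprime.pow_left _ ((Nat.Prime.coprime_iff_not_dvd hp).mpr hcen)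
  exact hcop.dvd_of_dvd_mul_right h1

end Cfsg.Agent.Lib.Helper29.BLI
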