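import Mathlib
import Cfsg.Prelude.Def_Blocks

set_option autoImplicit false
set_option linter.unusedVariables false

namespace Cfsg.Agent.Lib.Helper29.BLI

open scoped ComplexConjugate InnerProductSpace

theorem bli_central_elt {G : Type*} [Group G] [Finite G] (p : ℕ) [Fact p.Prime] (hpG : p ∣ Nat.card G) :
    ∃ x : G, orderOf x = p ∧ ¬ p ∣ (Subgroup.centralizer ({x} : Set G)).index := by
  classical
  have hp : p.Prime := Fact.out
  obtain ⟨P⟩ : Nonempty (Sylow p G) := inferInstance
  have hPcard : p ∣ Nat.card (P : Subgroup G) := by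
    rw [P.card_eq_multiplicity]
    apply dvd_pow_self
    have h1 : 1 ≤ (Nat.card G).factorization p :=
      (hp.dvd_iff_one_le_factorization Nat.card_pos.ne').mp hpG
    omega
  have hnt : Nontrivial (P : Subgroup G) := by
    rw [← Finite.one_lt_card_iff_nontrivial]
    exact lt_of_lt_of_le hp.one_lt (Nat.le_of_dvd Nat.card_pos hPcard)
  have hZnt : Nontrivial (Subgroup.center (P : Subgroup G)) :=
    IsPGroup.center_nontrivial P.isPGroup'
  have hZp : IsPGroup p (Subgroup.center (P : Subgroup G)) :=
    P.isPGroup'.to_subgroup _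
  have hZcard : p ∣ Nat.card (Subgroup.center (P : Subgroup G)) := by
    rcases hZp.card_eq_or_dvd with h | h
    · exfalso
      have := Finite.one_lt_card_iff_nontrivial.mpr hZnt
      omega
    · exact h
  obtain ⟨z, hz⟩ := exists_prime_orderOf_dvd_card' p hZcard
  refine ⟨((z : (P : Subgroup G)) : G), ?_, ?_⟩
  · rw [Subgroup.orderOf_coe, Subgroup.orderOf_coe]
    exact hz
  · have hle : (P : Subgroup G) ≤ Subgroup.centralizer ({((z : (P : Subgroup G)) : G)} : Set G) := by
      intro g hg
      rw [Subgroup.mem_centralizer_singleton_iff]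
      have h1 := Subgroup.mem_center_iff.mp z.2 ⟨g, hg⟩
      have h2 := congrArg (Subtype.val) h1
      simpa using h2
    intro hdiv
    exact P.not_dvd_index (hdiv.trans (Subgroup.index_dvd_of_le hle))

end Cfsg.Agent.Lib.Helper29.BLI
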