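import Mathlib
import Cfsg.Prelude.Def_Characters
import Cfsg.Prelude.Def_Blocks
import Cfsg.Agent.Lib.helper2.CharInd
import Cfsg.Agent.Lib.Helper25.CharAbelian
import Cfsg.Agent.Lib.Helper25.ExtraspecialUnique

set_option autoImplicit false

namespace Cfsg.Agent.Lib.Helper24

open Cfsg.Agent.Lib.helper2 Cfsg.Agent.Lib.helper7 Cfsg.Agent.Lib.Helper25
open scoped ComplexConjugate

def BLt (G : Type*) [Group G] (p : ℕ) : Prop :=
  ∀ χ : Cfsg.IrrCharacter G, Cfsg.charDegree (χ : G → ℂ) < p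

theorem blt_sub_exists {G : Type*} [Group G] [Finite G] (H : Subgroup G)
    (ψ : Cfsg.IrrCharacter H) :
    ∃ χ : Cfsg.IrrCharacter G, Cfsg.charDegree (ψ : H → ℂ) ≤ Cfsg.charDegree (χ : G → ℂ) := by
  classical
  have : Fintype G := Fintype.ofFinite G
  have : Fintype H := Fintype.ofFinite H
  have hψc : Cfsg.IsCharacter H (ψ : H → ℂ) := isCharacter_of_irr ψ
  have hθ : Cfsg.IsCharacter G (Cfsg.indFun H (ψ : H → ℂ)) := isCharacter_indFun H _ hψc
  have hdψ := charDegree_irr ψ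
  have h1 : Cfsg.indFun H (ψ : H → ℂ) 1 ≠ 0 := by
    rw [h7_indFun_one]
    apply mul_ne_zero
    · exact_mod_cast (Subgroup.index_ne_zero_of_finite (H := H))
    · rw [← hdψ.1]
      exact_mod_cast hdψ.2.ne'
  obtain ⟨χ, m, hm, hinner⟩ := isCharacter_exists_constituent hθ h1
  refine ⟨χ, ?_⟩
  rw [h7_frobenius_reciprocity H (ψ : H → ℂ) (χ : G → ℂ)
    (isCharacter_isClassFunction (isCharacter_of_irr χ))] at hinner
  have hinner' := classInner_symm_of_nat _ _ m hinner
  have hres : Cfsg.IsCharacter H (fun h : H => (χ : G → ℂ) h) :=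
    isCharacter_restrict (isCharacter_of_irr χ) H
  have hdχ := charDegree_irr χ
  have := isCharacter_degree_ge hres ψ m (Cfsg.charDegree (χ : G → ℂ))
    (Cfsg.charDegree (ψ : H → ℂ)) hinner' (by
      show (χ : G → ℂ) ((1 : H) : G) = _
      rw [Subgroup.coe_one, hdχ.1]) hdψ.1.symm
  calc Cfsg.charDegree (ψ : H → ℂ) = 1 * Cfsg.charDegree (ψ : H → ℂ) := (one_mul _).symm
    _ ≤ m * Cfsg.charDegree (ψ : H → ℂ) := Nat.mul_le_mul_right _ hm
    _ ≤ _ := this

theorem blt_subgroup {G : Type*} [Group G] [Finite G] (H : Subgroup G) {p : ℕ} (h : BLt G p) :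
    BLt H p := by
  intro ψ
  obtain ⟨χ, hχ⟩ := blt_sub_exists H ψ
  exact lt_of_le_of_lt hχ (h χ)

theorem blt_quotient {G : Type*} [Group G] (N : Subgroup G) [N.Normal] {p : ℕ} (h : BLt G p) :
    BLt (G ⧸ N) p := by
  intro ψ
  have := h (xs_infl (QuotientGroup.mk' N) (QuotientGroup.mk'_surjective N) ψ)
  have h2 : Cfsg.charDegree
      (xs_infl (QuotientGroup.mk' N) (QuotientGroup.mk'_surjective N) ψ : G → ℂ) =
      Cfsg.charDegree (ψ : G ⧸ N → ℂ) := by
    unfold Cfsg.charDegree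
    rw [xs_infl_apply, map_one]
  rw [h2] at this
  exact this

end Cfsg.Agent.Lib.Helper24
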