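import Mathlib
import Cfsg.Agent.Lib.Helper24.BLT1
import Cfsg.Agent.Lib.Helper24.Cdc1
import Cfsg.Agent.Lib.Helper25.CharOrth

set_option autoImplicit false

namespace Cfsg.Agent.Lib.Helper24

open Cfsg.Agent.Lib.helper2 Cfsg.Agent.Lib.helper7 Cfsg.Agent.Lib.Helper25
open scoped ComplexConjugate

theorem blt_comm_of_linear {P : Type*} [Group P] [Finite P]
    (h : ∀ χ : Cfsg.IrrCharacter P, (χ : P → ℂ) 1 = 1) (x y : P) : x * y = y * x := by
  classical
  have : Fintype P := Fintype.ofFinite P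
  have : Fintype (Cfsg.IrrCharacter P) := Fintype.ofFinite _
  set w : P := x * y * x⁻¹ * y⁻¹ with hw
  have hwc : w ∈ commutator P := by
    rw [commutator_def]
    exact Subgroup.commutator_mem_commutator (Subgroup.mem_top x) (Subgroup.mem_top y)
  have hcol := irr_column_orthogonality (G := P) w 1
  have hsum : ∑ χ : Cfsg.IrrCharacter P, (χ : P → ℂ) w * conj ((χ : P → ℂ) 1) =
      (Fintype.card (Cfsg.IrrCharacter P) : ℂ) := by
    rw [Finset.sum_congr rfl (fun χ _ => by
      rw [irr_linear_commutator χ (h χ) hwc, h χ, map_one, one_mul])]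
    simp
  rw [hsum] at hcol
  by_cases hc : IsConj (1 : P) w
  · rw [isConj_iff] at hc
    obtain ⟨c, hc⟩ := hc
    have hw1 : w = 1 := by rw [← hc]; simp
    rw [hw] at hw1
    have : x * y = (x * y * x⁻¹ * y⁻¹) * (y * x) := by group
    rw [this, hw1, one_mul]
  · rw [if_neg hc] at hcol
    exfalso
    have hne : (Fintype.card (Cfsg.IrrCharacter P) : ℂ) ≠ 0 := by
      have : 0 < Fintype.card (Cfsg.IrrCharacter P) := Fintype.card_pos_iff.mpr ⟨trivIrr P⟩
      exact_mod_cast this.ne'
    exact hne hcol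

theorem blt_comm_of_pgroup {P : Type*} [Group P] [Finite P] {p : ℕ} (hp : p.Prime)
    (hP : IsPGroup p P) (h : BLt P p) (x y : P) : x * y = y * x := by
  apply blt_comm_of_linear
  intro χ
  have hd := cdc_degree_dvd χ
  have : Fact p.Prime := ⟨hp⟩
  obtain ⟨k, hk⟩ := hP.exists_card_eq
  rw [hk] at hd
  obtain ⟨j, _, hj⟩ := (Nat.dvd_prime_pow hp).mp hd
  have hlt := h χ
  have hj0 : j = 0 := by
    by_contra hne
    have : p ≤ p ^ j := by
      calc p = p ^ 1 := (pow_one p).symm
        _ ≤ p ^ j := Nat.pow_le_pow_right hp.pos (Nat.one_le_iff_ne_zero.mpr hne)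
    omega
  rw [hj0, pow_zero] at hj
  have := (charDegree_irr χ).1
  rw [hj] at this
  rw [← this]
  simp

end Cfsg.Agent.Lib.Helper24
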