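import Mathlib
import Cfsg.Agent.Lib.Helper24.BLT2
import Cfsg.Agent.Lib.helper6.PermChar3

set_option autoImplicit false

namespace Cfsg.Agent.Lib.Helper24

open Cfsg.Agent.Lib.helper2 Cfsg.Agent.Lib.helper7 Cfsg.Agent.Lib.Helper25
open Cfsg.Agent.Lib.helper6.PermChar
open scoped ComplexConjugate
open MulAction

theorem blt_orbit_count {S Ω : Type*} [Group S] [MulAction S Ω] [Finite Ω] (a : Ω) (q : ℕ)
    (horb : ∀ ω : Ω, ω ∉ orbit S a → q ≤ Nat.card (orbit S ω)) :
    (Nat.card (orbitRel.Quotient S Ω) - 1) * q + 1 ≤ Nat.card Ω := by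
  classical
  have : Fintype Ω := Fintype.ofFinite Ω
  have : Fintype (orbitRel.Quotient S Ω) := Fintype.ofFinite _
  rw [Nat.card_congr (selfEquivSigmaOrbits' S Ω), Nat.card_sigma]
  set o₀ : orbitRel.Quotient S Ω := Quotient.mk'' a with ho₀
  rw [← Finset.add_sum_erase Finset.univ _ (Finset.mem_univ o₀)]
  have h1 : 1 ≤ Nat.card (o₀.orbit) := by
    rw [Nat.one_le_iff_ne_zero]
    intro h0
    have hfin : Finite (o₀.orbit) := Finite.of_injective (fun x => (x : Ω)) Subtype.val_injective
    have := (Nat.card_eq_zero.mp h0).resolve_right (not_infinite_iff_finite.mpr hfin)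
    exact this.elim ⟨a, by rw [ho₀, orbitRel.Quotient.orbit_mk]; exact mem_orbit_self a⟩
  have h2 : ∀ o ∈ Finset.univ.erase o₀, q ≤ Nat.card (o.orbit) := by
    intro o ho
    have hne : o ≠ o₀ := Finset.ne_of_mem_erase ho
    induction o using Quotient.inductionOn' with
    | h ω =>
      rw [orbitRel.Quotient.orbit_mk]
      apply horb
      intro hmem
      apply hne
      rw [ho₀]
      exact Quotient.sound' hmem
  have h3 : (Finset.univ.erase o₀).card * q ≤ ∑ o ∈ Finset.univ.erase o₀, Nat.card (o.orbit) := by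
    rw [← smul_eq_mul]
    exact Finset.card_nsmul_le_sum _ _ _ h2
  have h4 : (Finset.univ.erase o₀).card = Nat.card (orbitRel.Quotient S Ω) - 1 := by
    rw [Finset.card_erase_of_mem (Finset.mem_univ o₀), Finset.card_univ, Nat.card_eq_fintype_card]
  rw [h4] at h3
  omega

theorem blt_perm {G Ω : Type*} [Group G] [Finite G] [MulAction G Ω] [Finite Ω]
    [IsPretransitive G Ω] (a : Ω) (q : ℕ)
    (hdeg : ∀ χ : Cfsg.IrrCharacter G, Cfsg.charDegree (χ : G → ℂ) < q)
    (horb : (Nat.card (orbitRel.Quotient (stabilizer G a) Ω) - 1) * q + 1 ≤ Nat.card Ω) :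
    Nat.card Ω = 1 := by
  classical
  have : Fintype G := Fintype.ofFinite G
  have : Fintype Ω := Fintype.ofFinite Ω
  have : Fintype (Cfsg.IrrCharacter G) := Fintype.ofFinite _
  set r := Nat.card (orbitRel.Quotient (stabilizer G a) Ω) with hr
  obtain ⟨m, hm, hexp⟩ := isCharacter_expansion (piChar_isCharacter (G := G) (Ω := Ω))
  have hmt : m (trivIrr G) = 1 := by
    have h1 := hm (trivIrr G)
    have h2 := inner_pi_triv (G := G) (Ω := Ω) a
    have h3 : ((trivIrr G : Cfsg.IrrCharacter G) : G → ℂ) = fun _ => (1 : ℂ) := rfl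
    rw [h3, h2] at h1
    exact_mod_cast h1.symm
  have hdt : Cfsg.charDegree ((trivIrr G : Cfsg.IrrCharacter G) : G → ℂ) = 1 := by
    have := (charDegree_irr (trivIrr G)).1
    rw [trivIrr_apply] at this
    exact_mod_cast this
  have hcard : Nat.card Ω = ∑ χ : Cfsg.IrrCharacter G, m χ * Cfsg.charDegree (χ : G → ℂ) := by
    have h1 : piChar G Ω 1 = (Nat.card Ω : ℂ) := by
      unfold piChar
      congr 1
      apply Nat.card_congr
      exact (Equiv.subtypeUnivEquiv (fun ω => by rw [mem_fixedBy, one_smul]))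
    have h2 := congrFun hexp 1
    rw [h1] at h2
    have h3 : (Nat.card Ω : ℂ) =
        ((∑ χ : Cfsg.IrrCharacter G, m χ * Cfsg.charDegree (χ : G → ℂ) : ℕ) : ℂ) := by
      rw [h2]
      simp only [Finset.sum_apply, Pi.smul_apply, smul_eq_mul]
      push_cast
      apply Finset.sum_congr rfl
      intro χ _
      rw [(charDegree_irr χ).1]
    exact_mod_cast h3
  have hrank : r = ∑ χ : Cfsg.IrrCharacter G, m χ ^ 2 := by
    have h1 := inner_pi_pi (G := G) (Ω := Ω) a
    have h2 := classInner_parseval (piChar G Ω)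
      (fun g h => isCharacter_isClassFunction (piChar_isCharacter (G := G) (Ω := Ω)) g h)
    rw [h1] at h2
    have h3 : ((r : ℕ) : ℂ) = ((∑ χ : Cfsg.IrrCharacter G, m χ ^ 2 : ℕ) : ℂ) := by
      rw [hr, h2]
      push_cast
      apply Finset.sum_congr rfl
      intro χ _
      rw [hm χ, Complex.conj_natCast, pow_two]
    exact_mod_cast h3
  rw [← Finset.add_sum_erase Finset.univ _ (Finset.mem_univ (trivIrr G)), hmt, hdt] at hcard
  rw [← Finset.add_sum_erase Finset.univ _ (Finset.mem_univ (trivIrr G)), hmt] at hrank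
  set A := ∑ χ ∈ Finset.univ.erase (trivIrr G), m χ * Cfsg.charDegree (χ : G → ℂ) with hA
  set B := ∑ χ ∈ Finset.univ.erase (trivIrr G), m χ ^ 2 with hB
  have hq : 2 ≤ q := by
    have := hdeg (trivIrr G)
    rw [hdt] at this
    exact this
  have hAB : A ≤ B * (q - 1) := by
    rw [hA, hB, Finset.sum_mul]
    apply Finset.sum_le_sum
    intro χ _
    have h1 : Cfsg.charDegree (χ : G → ℂ) ≤ q - 1 := Nat.le_sub_one_of_lt (hdeg χ)
    have h2 : m χ ≤ m χ ^ 2 := by
      rw [pow_two]
      exact Nat.le_mul_self _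
    exact Nat.mul_le_mul h2 h1
  have hr1 : r - 1 = B := by omega
  rw [hr1] at horb
  have hB0 : B = 0 := by
    by_contra hne
    have hBpos : 0 < B := Nat.pos_of_ne_zero hne
    have : B * q = B * (q - 1) + B := by
      have : q = (q - 1) + 1 := by omega
      nth_rewrite 1 [this]
      ring
    omega
  rw [hB0, zero_mul] at hAB
  omega

end Cfsg.Agent.Lib.Helper24
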