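import Mathlib
import Cfsg.Agent.Lib.Helper24.BLT3

set_option autoImplicit false

namespace Cfsg.Agent.Lib.Helper24

open scoped Pointwise
open MulAction

theorem blt_ti_top {G : Type*} [Group G] [Finite G] (N P : Subgroup G) (hPN : P ≤ N)
    (hsemi : ∀ g : G, g ∉ N → ∀ x ∈ P, g⁻¹ * x * g ∈ N → x = 1)
    (hdeg : ∀ χ : Cfsg.IrrCharacter G, Cfsg.charDegree (χ : G → ℂ) < Nat.card P) : N = ⊤ := by
  classical
  set a : G ⧸ N := ((1 : G) : G ⧸ N) with ha
  have hstab : ∀ s : G, s ∈ stabilizer G a ↔ s ∈ N := by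
    intro s
    rw [MulAction.stabilizer_quotient]
  have horb : ∀ ω : G ⧸ N, ω ∉ orbit (stabilizer G a) a →
      Nat.card P ≤ Nat.card (orbit (stabilizer G a) ω) := by
    intro ω hω
    induction ω using QuotientGroup.induction_on with
    | H g =>
      have hg : g ∉ N := by
        intro hgN
        apply hω
        refine ⟨⟨g, (hstab g).mpr hgN⟩, ?_⟩
        show g • a = _
        rw [ha, MulAction.Quotient.smul_mk, smul_eq_mul, mul_one]
      let f : P → orbit (stabilizer G a) ((g : G) : G ⧸ N) := fun x =>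
        ⟨(⟨(x : G), (hstab _).mpr (hPN x.2)⟩ : stabilizer G a) • ((g : G) : G ⧸ N),
          mem_orbit _ _⟩
      have hf : Function.Injective f := by
        intro x y hxy
        have h1 : ((x : G) • ((g : G) : G ⧸ N)) = ((y : G) • ((g : G) : G ⧸ N)) :=
          congrArg Subtype.val hxy
        rw [MulAction.Quotient.smul_mk, MulAction.Quotient.smul_mk, smul_eq_mul, smul_eq_mul,
          QuotientGroup.eq] at h1
        have h2 : g⁻¹ * ((x : G)⁻¹ * (y : G)) * g ∈ N := by
          have : ((x : G) * g)⁻¹ * ((y : G) * g) = g⁻¹ * ((x : G)⁻¹ * (y : G)) * g := by group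
          rw [← this]
          exact h1
        have h3 := hsemi g hg _ (P.mul_mem (P.inv_mem x.2) y.2) h2
        apply Subtype.ext
        exact inv_mul_eq_one.mp h3
      exact Nat.card_le_card_of_injective f hf
  have hcount := blt_orbit_count (S := stabilizer G a) a (Nat.card P) horb
  have h1 := blt_perm (G := G) (Ω := G ⧸ N) a (Nat.card P) hdeg hcount
  exact Subgroup.index_eq_one.mp h1

theorem blt_mem_of_mem_normalizer {G : Type*} [Group G] {p : ℕ} [Fact p.Prime] (P : Sylow p G)
    (g x : G) (hx : x ∈ P)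
    (h : g⁻¹ * x * g ∈ Subgroup.normalizer ((P : Subgroup G) : Set G)) :
    g⁻¹ * x * g ∈ P := by
  have h1 : g⁻¹ * x * g ∈ ((g⁻¹ • P : Sylow p G) : Subgroup G) := by
    rw [Sylow.coe_subgroup_smul, Subgroup.mem_pointwise_smul_iff_inv_smul_mem, ← map_inv, inv_inv,
      MulAut.smul_def, MulAut.conj_apply]
    have : g * (g⁻¹ * x * g) * g⁻¹ = x := by group
    rw [this]
    exact hx
  have h2 := IsPGroup.inf_normalizer_sylow (g⁻¹ • P : Sylow p G).isPGroup' P
  have h3 := h2.le (Subgroup.mem_inf.mpr ⟨h1, h⟩)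
  exact (Subgroup.mem_inf.mp h3).2

end Cfsg.Agent.Lib.Helper24
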