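import Mathlib
import Cfsg.Agent.Lib.Helper24.BLT4

set_option autoImplicit false

universe u

namespace Cfsg.Agent.Lib.Helper24

open scoped Pointwise

theorem blt_normal_of_central {G : Type u} [Group G] [Finite G] {p : ℕ} [hp : Fact p.Prime]
    (P : Sylow p G) (x : G) (hx : x ∈ P) [hZ : (Subgroup.zpowers x).Normal]
    (hquot : ∀ Q : Sylow p (G ⧸ Subgroup.zpowers x),
      (Q : Subgroup (G ⧸ Subgroup.zpowers x)).Normal) :
    (P : Subgroup G).Normal := by
  set Z := Subgroup.zpowers x with hZdef
  have hZP : Z ≤ P := Subgroup.zpowers_le.mpr hx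
  have hZp : IsPGroup p Z := P.isPGroup'.to_le hZP
  let Qb : Sylow p (G ⧸ Z) := default
  have hQbn := hquot Qb
  set Q : Subgroup G := (Qb : Subgroup (G ⧸ Z)).comap (QuotientGroup.mk' Z) with hQ
  have hQn : Q.Normal := Subgroup.Normal.comap hQbn _
  have hQp : IsPGroup p Q := by
    apply IsPGroup.comap_of_ker_isPGroup Qb.isPGroup'
    rw [QuotientGroup.ker_mk']
    exact hZp
  have hQi : ¬ p ∣ Q.index := by
    rw [hQ, Subgroup.index_comap_of_surjective _ (QuotientGroup.mk'_surjective Z)]
    exact Qb.not_dvd_index
  have hQP : Q ≤ P := IsPGroup.le_sylow_of_normal hQp P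
  have hPQ : (P : Subgroup G) = Q := by
    have := (hQp.toSylow hQi).is_maximal' P.isPGroup' (by
      rw [IsPGroup.toSylow_coe]
      exact hQP)
    rw [this, IsPGroup.toSylow_coe]
  rw [hPQ]
  exact hQn

theorem blt_sylow_normal (p : ℕ) [hp : Fact p.Prime] :
    ∀ (n : ℕ) (G : Type u) [Group G] [Finite G], Nat.card G = n → BLt G p →
      ∀ P : Sylow p G, (P : Subgroup G).Normal := by
  intro n
  induction n using Nat.strong_induction_on with
  | _ n ih =>
    intro G _ _ hn hb P
    by_contra hnorm
    have hPab : ∀ x ∈ (P : Subgroup G), ∀ y ∈ (P : Subgroup G), x * y = y * x := by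
      intro x hx y hy
      have := blt_comm_of_pgroup hp.out P.isPGroup' (blt_subgroup (P : Subgroup G) hb)
        ⟨x, hx⟩ ⟨y, hy⟩
      exact congrArg Subtype.val this
    have hTI : ∀ g : G, g ∉ Subgroup.normalizer ((P : Subgroup G) : Set G) →
        ∀ x ∈ (P : Subgroup G), g⁻¹ * x * g ∈ (P : Subgroup G) → x = 1 := by
      intro g hg x hx hxg
      by_contra hx1
      set C := Subgroup.centralizer ({x} : Set G) with hC
      have hPC : (P : Subgroup G) ≤ C := by
        intro y hy
        rw [hC, Subgroup.mem_centralizer_iff]
        intro z hz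
        rw [Set.mem_singleton_iff] at hz
        rw [hz]
        exact hPab x hx y hy
      have hmem : ∀ y : G, y ∈ ((g • P : Sylow p G) : Subgroup G) ↔ g⁻¹ * y * g ∈ (P : Subgroup G) := by
        intro y
        rw [Sylow.coe_subgroup_smul, Subgroup.mem_pointwise_smul_iff_inv_smul_mem, ← map_inv,
          MulAut.smul_def, MulAut.conj_apply, inv_inv]
      have hP'C : ((g • P : Sylow p G) : Subgroup G) ≤ C := by
        intro y hy
        rw [hmem] at hy
        rw [hC, Subgroup.mem_centralizer_iff]
        intro z hz
        rw [Set.mem_singleton_iff] at hz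
        rw [hz]
        have h1 := hPab _ hxg _ hy
        have h2 : x * y = g * ((g⁻¹ * x * g) * (g⁻¹ * y * g)) * g⁻¹ := by group
        have h3 : y * x = g * ((g⁻¹ * y * g) * (g⁻¹ * x * g)) * g⁻¹ := by group
        rw [h2, h3, h1]
      by_cases hCtop : C = ⊤
      · have hxc : ∀ k : G, k * x = x * k := by
          intro k
          have : k ∈ C := by rw [hCtop]; exact Subgroup.mem_top k
          rw [hC, Subgroup.mem_centralizer_iff] at this
          exact (this x (Set.mem_singleton x)).symm
        have hZn : (Subgroup.zpowers x).Normal := by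
          constructor
          intro z hz k
          obtain ⟨i, rfl⟩ := Subgroup.mem_zpowers_iff.mp hz
          have : k * x ^ i * k⁻¹ = x ^ i := by
            have hcomm : Commute k x := hxc k
            rw [(hcomm.zpow_right i).eq, mul_assoc, mul_inv_cancel, mul_one]
          rw [this]
          exact hz
        apply hnorm
        apply blt_normal_of_central P x hx
        intro Q
        have hlt : Nat.card (G ⧸ Subgroup.zpowers x) < n := by
          rw [← hn, ← Subgroup.index_eq_card, ← Subgroup.index_mul_card (Subgroup.zpowers x)]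
          have h1 : 1 < Nat.card (Subgroup.zpowers x) := by
            rw [Nat.card_zpowers]
            have hpos : 0 < orderOf x := orderOf_pos x
            have hne : orderOf x ≠ 1 := fun h => hx1 (orderOf_eq_one_iff.mp h)
            omega
          have h2 : 0 < (Subgroup.zpowers x).index := Nat.pos_of_ne_zero Subgroup.index_ne_zero_of_finite
          calc (Subgroup.zpowers x).index = (Subgroup.zpowers x).index * 1 := (mul_one _).symm
            _ < _ := Nat.mul_lt_mul_of_pos_left h1 h2
        exact ih _ hlt (G ⧸ Subgroup.zpowers x) rfl (blt_quotient _ hb) Q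
      · have hlt : Nat.card C < n := by
          rw [← hn]
          apply lt_of_le_of_ne (Subgroup.card_le_card_group C)
          intro hcard
          exact hCtop (Subgroup.eq_top_of_card_eq C hcard)
        have hall := ih _ hlt C rfl (blt_subgroup C hb)
        have h1 := hall (P.subtype hPC)
        have h2 : P.subtype hPC = (g • P).subtype hP'C := by
          have := Sylow.unique_of_normal _ h1
          exact Subsingleton.elim _ _
        have h3 : P = g • P := Sylow.subtype_injective h2
        exact hg (Sylow.smul_eq_iff_mem_normalizer.mp h3.symm)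
    have hPne : (P : Subgroup G) ≠ ⊥ := by
      intro h
      apply hnorm
      rw [h]
      infer_instance
    have hcardP : p ≤ Nat.card (P : Subgroup G) := by
      obtain ⟨k, hk⟩ := P.isPGroup'.exists_card_eq
      have hk0 : k ≠ 0 := by
        intro h0
        rw [h0, pow_zero] at hk
        exact hPne (Subgroup.card_eq_one.mp hk)
      rw [hk]
      calc p = p ^ 1 := (pow_one p).symm
        _ ≤ p ^ k := Nat.pow_le_pow_right hp.out.pos (Nat.one_le_iff_ne_zero.mpr hk0)
    have htop := blt_ti_top (Subgroup.normalizer ((P : Subgroup G) : Set G)) (P : Subgroup G)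
      Subgroup.le_normalizer
      (fun g hg x hx hxg => hTI g hg x hx (blt_mem_of_mem_normalizer P g x hx hxg))
      (fun χ => lt_of_lt_of_le (hb χ) hcardP)
    apply hnorm
    exact Subgroup.normalizer_eq_top_iff.mp htop

end Cfsg.Agent.Lib.Helper24
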