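import Mathlib
import Cfsg.Agent.Lib.Helper28.BP2.Defs

set_option autoImplicit false

namespace Cfsg.Agent.Lib.Helper28.BP2

open Cfsg.Agent.Lib.helper14

universe u v w

section AOdd

variable {F : Type u} [Field F] [Fintype F]

theorem not_borel_arith (q c : ℕ) (hq : Odd q) (h7 : 7 ≤ q)
    (hc : (q % 4 = 1 ∧ c = q - 1) ∨ (q % 4 = 3 ∧ c = q + 1)) (hdvd : 2 * c ∣ q * (q - 1)) :
    False := by
  rcases hc with ⟨h4, rfl⟩ | ⟨h4, rfl⟩
  · have hpos : 0 < q - 1 := by omega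
    have h1 : 2 * (q - 1) ∣ q * (q - 1) := hdvd
    have h2 : 2 ∣ q := (Nat.mul_dvd_mul_iff_right hpos).1 h1
    obtain ⟨k, hk⟩ := hq
    omega
  · have h1 : 4 ∣ 2 * (q + 1) := by
      have : 2 ∣ q + 1 := by omega
      obtain ⟨k, hk⟩ := this
      exact ⟨k, by rw [hk]; ring⟩
    have h2 : 4 ∣ q * (q - 1) := dvd_trans h1 hdvd
    have h3 : (q * (q - 1)) % 4 = 0 := Nat.mod_eq_zero_of_dvd h2
    rw [Nat.mul_mod, h4] at h3
    have h5 : (q - 1) % 4 = 2 := by omega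
    rw [h5] at h3
    exact absurd h3 (by decide)

theorem pgl_arith (q₀ m q c : ℕ) (hq₀ : 3 ≤ q₀) (hm : 2 ≤ m) (hq : q₀ ^ m = q) (hodd : Odd q)
    (hc : c = q - 1 ∨ c = q + 1) (hle : c * c ≤ 4 * (q₀ * (q₀ ^ 2 - 1))) :
    q₀ = 3 ∧ m = 2 := by
  have hq0pos : 0 < q₀ := by omega
  have hsq : q₀ ^ 2 ≤ q := by
    rw [← hq]
    exact Nat.pow_le_pow_right hq0pos hm
  have h9 : 9 ≤ q₀ ^ 2 := by nlinarith
  have hcge : q - 1 ≤ c := by
    rcases hc with rfl | rfl <;> omega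
  have hc2 : q₀ ^ 2 - 1 ≤ c := le_trans (by omega) hcge
  have hpos : 0 < q₀ ^ 2 - 1 := by omega
  have h1 : (q₀ ^ 2 - 1) * (q₀ ^ 2 - 1) ≤ (4 * q₀) * (q₀ ^ 2 - 1) := by
    calc (q₀ ^ 2 - 1) * (q₀ ^ 2 - 1) ≤ c * c := Nat.mul_le_mul hc2 hc2
      _ ≤ 4 * (q₀ * (q₀ ^ 2 - 1)) := hle
      _ = (4 * q₀) * (q₀ ^ 2 - 1) := by ring
  have h2 : q₀ ^ 2 - 1 ≤ 4 * q₀ := Nat.le_of_mul_le_mul_right h1 hpos
  have h3 : q₀ ≤ 4 := by
    by_contra hcon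
    have : 5 ≤ q₀ := by omega
    have : 5 * q₀ ≤ q₀ ^ 2 := by nlinarith
    omega
  have hq0odd : Odd q₀ := by
    rw [← hq] at hodd
    exact Nat.Odd.of_mul_right (by
      have : q₀ ^ m = q₀ ^ (m - 1) * q₀ := by
        rw [← pow_succ]
        congr 1
        omega
      rw [this] at hodd
      exact hodd)
  have hq03 : q₀ = 3 := by
    obtain ⟨k, hk⟩ := hq0odd
    omega
  refine ⟨hq03, ?_⟩
  subst hq03
  by_contra hm2
  have hm3 : 3 ≤ m := by omega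
  have h27 : 3 ^ 3 ≤ q := by
    rw [← hq]
    exact Nat.pow_le_pow_right (by norm_num) hm3
  have h26 : 26 ≤ c := by
    norm_num at h27
    omega
  have : 26 * 26 ≤ c * c := Nat.mul_le_mul h26 h26
  norm_num at hle
  omega

end AOdd

end Cfsg.Agent.Lib.Helper28.BP2
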