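import Mathlib
import Cfsg.Agent.Lib.Helper28.BP2.Defs

set_option autoImplicit false

namespace Cfsg.Agent.Lib.Helper28.BP2

open Cfsg.Agent.Lib.helper14

universe u v w

section StepC

variable {F : Type u} [Field F] [Fintype F]

theorem subfield_top_of_card (K : Subfield F) (h : Fintype.card F < Nat.card K ^ 2) : K = ⊤ := by
  have hcard : Nat.card F = Nat.card K ^ Module.finrank K F := Module.natCard_eq_pow_finrank
  rw [← Nat.card_eq_fintype_card] at h
  have hK1 : 1 < Nat.card K := Finite.one_lt_card
  have hF1 : 1 < Nat.card F := Finite.one_lt_card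
  have hfr : Module.finrank K F = 1 := by
    rcases Nat.lt_or_ge (Module.finrank K F) 2 with h2 | h2
    · interval_cases hn : Module.finrank K F
      · rw [pow_zero] at hcard
        omega
      · rfl
    · exfalso
      have := Nat.pow_le_pow_right (by omega : 0 < Nat.card K) h2
      omega
  rw [hfr, pow_one] at hcard
  have h1 : K.toSubring.toAddSubgroup = ⊤ :=
    (AddSubgroup.card_eq_iff_eq_top K.toSubring.toAddSubgroup).1 hcard.symm
  apply top_unique
  intro x _
  have : x ∈ K.toSubring.toAddSubgroup := by rw [h1]; trivial
  exact this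

end StepC

end Cfsg.Agent.Lib.Helper28.BP2
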