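import Mathlib
import Cfsg.Agent.Lib.Helper28.BP2.Defs

set_option autoImplicit false

namespace Cfsg.Agent.Lib.Helper28.BP2

open Cfsg.Agent.Lib.helper14

universe u v w

section Util

variable {F : Type u} [Field F]

variable [Fintype F]

theorem charP_two_of_pow (h : ∃ a : ℕ, Fintype.card F = 2 ^ a) : CharP F 2 := by
  obtain ⟨a, ha⟩ := h
  obtain ⟨p, hp⟩ := CharP.exists F
  obtain ⟨n, hpr, hn⟩ := FiniteField.card F p
  have h2 : p ∣ 2 ^ a := by
    rw [← ha, hn]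
    exact dvd_pow_self p n.ne_zero
  have h3 : p ∣ 2 := hpr.dvd_of_dvd_pow h2
  have h4 : p = 2 := (Nat.prime_dvd_prime_iff_eq hpr Nat.prime_two).1 h3
  rw [← h4]
  exact hp

theorem card_eq_two_pow [CharP F 2] : ∃ a : ℕ, Fintype.card F = 2 ^ a := by
  obtain ⟨n, _, hn⟩ := FiniteField.card F 2
  exact ⟨n, hn⟩

end Util

end Cfsg.Agent.Lib.Helper28.BP2
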