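import Mathlib
import Cfsg.Agent.Lib.Helper28.BP2.Defs
import Cfsg.Agent.Lib.Helper24.BP2U10

set_option autoImplicit false

namespace Cfsg.Agent.Lib.Helper28.BP2

open Cfsg.Agent.Lib.helper14

universe u v w

section Easy

variable {F : Type u} [Field F] [Fintype F]

theorem bp2e6_mod_three (a : ℕ) (ha : Odd a) : 2 ^ a % 3 = 2 := by
  obtain ⟨k, rfl⟩ := ha
  induction k with
  | zero => rfl
  | succ n ih =>
    have h1 : 2 ^ (2 * (n + 1) + 1) = 4 * 2 ^ (2 * n + 1) := by ring
    rw [h1, Nat.mul_mod, ih]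

theorem no_cuberoot (a : ℕ) (ha : Odd a) (hq : Fintype.card F = 2 ^ a) :
    ∀ ω : F, ω ^ 2 + ω + 1 ≠ 0 := by
  intro ω hω
  have : CharP F 2 := charP_two_of_pow ⟨a, hq⟩
  have h2 : (2 : F) = 0 := by
    have := CharP.cast_eq_zero F 2
    exact_mod_cast this
  have hω3 : ω ^ 3 = 1 := by linear_combination (ω - 1) * hω
  have hω1 : ω ≠ 1 := by
    rintro rfl
    have : (1 : F) = 0 := by linear_combination hω - h2
    exact one_ne_zero this
  have hω0 : ω ≠ 0 := by
    rintro rfl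
    simp at hω3
  have hord : orderOf ω = 3 := by
    have : Fact (Nat.Prime 3) := ⟨Nat.prime_three⟩
    exact orderOf_eq_prime hω3 hω1
  have hdvd : 3 ∣ Fintype.card F - 1 := by
    rw [← hord]
    apply orderOf_dvd_of_pow_eq_one
    exact FiniteField.pow_card_sub_one_eq_one ω hω0
  rw [hq] at hdvd
  have hm := bp2e6_mod_three a ha
  have hpos : 1 ≤ 2 ^ a := Nat.one_le_two_pow
  omega

end Easy

end Cfsg.Agent.Lib.Helper28.BP2
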