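import Mathlib
import Cfsg.Agent.Lib.Helper28.BP2.Defs

set_option autoImplicit false

namespace Cfsg.Agent.Lib.Helper28.BP2

open Cfsg.Agent.Lib.helper14

universe u v w

section Toolbox

variable {G : Type u} [Group G]

theorem bp2t6_mem {X : Type v} [MulAction G X] (x₀ : X) (g a b : G) :
    b⁻¹ * g * a ∈ MulAction.stabilizer G x₀ ↔ g • (a • x₀) = b • x₀ := by
  rw [MulAction.mem_stabilizer_iff, mul_smul, mul_smul, inv_smul_eq_iff]

theorem binS_stabilizer {X : Type v} [MulAction G X] [MulAction.IsPretransitive G X] (x₀ : X) :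
    BinS (MulAction.stabilizer G x₀) ↔ Bin G X := by
  constructor
  · intro h n I J hn hpair
    choose x hx using fun i => MulAction.exists_smul_eq G x₀ (I i)
    choose y hy using fun i => MulAction.exists_smul_eq G x₀ (J i)
    have h1 := h n x y hn (by
      intro i j hij
      obtain ⟨g, hgi, hgj⟩ := hpair i j hij
      refine ⟨g, ?_, ?_⟩
      · rw [bp2t6_mem, hx, hy]
        exact hgi
      · rw [bp2t6_mem, hx, hy]
        exact hgj)
    obtain ⟨g, hg⟩ := h1
    refine ⟨g, fun i => ?_⟩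
    have := hg i
    rw [bp2t6_mem, hx, hy] at this
    exact this
  · intro h n x y hn hpair
    have h1 := h n (fun i => x i • x₀) (fun i => y i • x₀) hn (by
      intro i j hij
      obtain ⟨g, hgi, hgj⟩ := hpair i j hij
      exact ⟨g, (bp2t6_mem x₀ g (x i) (y i)).1 hgi, (bp2t6_mem x₀ g (x j) (y j)).1 hgj⟩)
    obtain ⟨g, hg⟩ := h1
    exact ⟨g, fun i => (bp2t6_mem x₀ g (x i) (y i)).2 (hg i)⟩

end Toolbox

end Cfsg.Agent.Lib.Helper28.BP2
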