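import Mathlib
import Cfsg.Prelude.Def_Characters
import Cfsg.Agent.Lib.helper2.BSWDefs

set_option autoImplicit false

namespace Cfsg.Agent.Lib.Helper24

open Cfsg.Agent.Lib.helper2

variable {G : Type*} [Group G]

structure BswT1 (t : G) (K : Subgroup G) (s : G) : Prop where
  mul_s_sq : ∀ {k : G}, k ∈ K → (k * s) * (k * s) = 1
  mem_H : ∀ {x : G}, x ∈ Subgroup.centralizer ({t} : Set G) → x ∈ K ∨ ∃ k ∈ K, x = k * s
  cent_le : ∀ {k : G}, k ∈ K → k ≠ 1 →
    Subgroup.centralizer ({k} : Set G) ≤ Subgroup.centralizer ({t} : Set G)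
  out_odd : ∀ {x : G}, bswOut K x → Odd (orderOf x)
  card_invol : Nat.card {a : G // orderOf a = 2} * (2 * Nat.card K) = Nat.card G
  card_in : Nat.card {x : G // ¬ bswOut K x} =
      1 + Nat.card {a : G // orderOf a = 2} * (Nat.card K - 1)
  beta_pos_iff : ∀ {x : G}, Odd (orderOf x) → x ≠ 1 →
    (bswBeta x ≠ 0 ↔ ∃ a : G, orderOf a = 2 ∧ a * x * a⁻¹ = x⁻¹)
  Q : ∀ {x a : G}, bswOut K x → orderOf a = 2 → a * x * a⁻¹ = x⁻¹ →
    Odd (Nat.card (Subgroup.centralizer ({x} : Set G))) ∧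
    (∀ y ∈ Subgroup.centralizer ({x} : Set G), a * y * a⁻¹ = y⁻¹) ∧
    (∀ y ∈ Subgroup.centralizer ({x} : Set G), ∀ z ∈ Subgroup.centralizer ({x} : Set G),
      y * z = z * y) ∧
    (∀ y ∈ Subgroup.centralizer ({x} : Set G), y ≠ 1 →
      bswOut K y ∧ Subgroup.centralizer ({y} : Set G) = Subgroup.centralizer ({x} : Set G) ∧
      bswBeta y = Nat.card (Subgroup.centralizer ({x} : Set G))) ∧
    ∃ (L : Subgroup G) (g : G), a = g * t * g⁻¹ ∧ a ∈ L ∧
      L ≤ K.map (MulAut.conj g).toMonoidHom ∧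
      Subgroup.centralizer ({x} : Set G) ⊓ L = ⊥ ∧
      Subgroup.normalizer ((Subgroup.centralizer ({x} : Set G) : Subgroup G) : Set G) =
        Subgroup.centralizer ({x} : Set G) ⊔ L ∧
      Nat.card L ∣ Nat.card (Subgroup.centralizer ({x} : Set G)) - 1

variable {t s : G} {K : Subgroup G}

theorem b5_out_ne_one {x : G} (hx : bswOut K x) : x ≠ 1 := by
  rintro rfl
  exact hx 1 (by simp)

theorem b5_out_conj {x : G} (hx : bswOut K x) (g : G) : bswOut K (g * x * g⁻¹) := by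
  intro u
  have := hx (u * g)
  have h2 : u * (g * x * g⁻¹) * u⁻¹ = u * g * x * (u * g)⁻¹ := by group
  rwa [h2]

theorem b5_out_conj_iff {x : G} (g : G) : bswOut K (g * x * g⁻¹) ↔ bswOut K x := by
  constructor
  · intro h
    have := b5_out_conj h g⁻¹
    have h2 : g⁻¹ * (g * x * g⁻¹) * g⁻¹⁻¹ = x := by group
    rwa [h2] at this
  · intro h
    exact b5_out_conj h g

theorem b5_conj_inv_order (g a : G) : orderOf (g * a * g⁻¹) = orderOf a := by
  have : g * a * g⁻¹ = MulAut.conj g a := by simp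
  rw [this, MulEquiv.orderOf_eq]

theorem b5_beta_conj (x g : G) : bswBeta (g * x * g⁻¹) = bswBeta x := by
  unfold bswBeta
  refine Nat.card_congr ?_
  refine ⟨fun p => ⟨(g⁻¹ * p.1.1 * g, g⁻¹ * p.1.2 * g), ?_, ?_, ?_⟩,
    fun p => ⟨(g * p.1.1 * g⁻¹, g * p.1.2 * g⁻¹), ?_, ?_, ?_⟩, ?_, ?_⟩
  · have := b5_conj_inv_order g⁻¹ p.1.1
    rw [inv_inv] at this
    rw [this]
    exact p.2.1
  · have := b5_conj_inv_order g⁻¹ p.1.2
    rw [inv_inv] at this
    rw [this]
    exact p.2.2.1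
  · have h3 := p.2.2.2
    calc g⁻¹ * p.1.1 * g * (g⁻¹ * p.1.2 * g) = g⁻¹ * (p.1.1 * p.1.2) * g := by group
      _ = x := by rw [h3]; group
  · rw [b5_conj_inv_order]
    exact p.2.1
  · rw [b5_conj_inv_order]
    exact p.2.2.1
  · have h3 := p.2.2.2
    calc g * p.1.1 * g⁻¹ * (g * p.1.2 * g⁻¹) = g * (p.1.1 * p.1.2) * g⁻¹ := by group
      _ = g * x * g⁻¹ := by rw [h3]
  · intro p
    apply Subtype.ext
    apply Prod.ext
    · show g * (g⁻¹ * p.1.1 * g) * g⁻¹ = p.1.1
      group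
    · show g * (g⁻¹ * p.1.2 * g) * g⁻¹ = p.1.2
      group
  · intro p
    apply Subtype.ext
    apply Prod.ext
    · show g⁻¹ * (g * p.1.1 * g⁻¹) * g = p.1.1
      group
    · show g⁻¹ * (g * p.1.2 * g⁻¹) * g = p.1.2
      group

theorem b5_centralizer_conj (x g : G) :
    Subgroup.centralizer ({g * x * g⁻¹} : Set G) =
      (Subgroup.centralizer ({x} : Set G)).map (MulAut.conj g).toMonoidHom := by
  ext y
  rw [Subgroup.mem_centralizer_singleton_iff, Subgroup.mem_map]
  constructor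
  · intro h
    refine ⟨g⁻¹ * y * g, ?_, ?_⟩
    · rw [Subgroup.mem_centralizer_singleton_iff]
      have h1 : g⁻¹ * y * g * x = g⁻¹ * (y * (g * x * g⁻¹)) * g := by group
      rw [h1, h]
      group
    · simp only [MulEquiv.coe_toMonoidHom, MulAut.conj_apply]
      group
  · rintro ⟨z, hz, rfl⟩
    rw [Subgroup.mem_centralizer_singleton_iff] at hz
    simp only [MulEquiv.coe_toMonoidHom, MulAut.conj_apply]
    calc g * z * g⁻¹ * (g * x * g⁻¹) = g * (z * x) * g⁻¹ := by group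
      _ = g * (x * z) * g⁻¹ := by rw [hz]
      _ = g * x * g⁻¹ * (g * z * g⁻¹) := by group

theorem b5_card_centralizer_conj [Finite G] (x g : G) :
    Nat.card (Subgroup.centralizer ({g * x * g⁻¹} : Set G)) =
      Nat.card (Subgroup.centralizer ({x} : Set G)) := by
  rw [b5_centralizer_conj]
  exact Subgroup.card_map_of_injective (MulAut.conj g).injective

theorem b5_two_dvd_card_K [Finite G] (h : BswHyp t K s) : 2 ∣ Nat.card K := by
  have h1 : orderOf (⟨t, h.htK⟩ : K) = 2 := by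
    rw [← h.ht]
    exact Subgroup.orderOf_mk t h.htK
  rw [← h1]
  exact orderOf_dvd_natCard _

theorem b5_two_le_card_K [Finite G] (h : BswHyp t K s) : 2 ≤ Nat.card K :=
  Nat.le_of_dvd Nat.card_pos (b5_two_dvd_card_K h)

theorem b5_pow_card_K_of_not_out [Finite G] {x : G} (hx : ¬ bswOut K x) :
    x ^ Nat.card K = 1 := by
  unfold bswOut at hx
  push Not at hx
  obtain ⟨g, hg⟩ := hx
  have h1 : (⟨g * x * g⁻¹, hg⟩ : K) ^ Nat.card K = 1 := pow_card_eq_one'
  have h2 : (g * x * g⁻¹) ^ Nat.card K = 1 := by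
    have := congrArg (fun z : K => (z : G)) h1
    simp only [Subgroup.coe_pow, Subgroup.coe_one] at this
    exact this
  have h3 : (g * x * g⁻¹) ^ Nat.card K = g * x ^ Nat.card K * g⁻¹ := by
    rw [conj_pow]
  rw [h3] at h2
  have h4 : x ^ Nat.card K = g⁻¹ * (g * x ^ Nat.card K * g⁻¹) * g := by group
  rw [h4, h2]
  group

theorem b5_out_of_commute [Finite G] (T1 : BswT1 t K s) {x y : G}
    (hx : bswOut K x) (hxy : y * x = x * y) (hy : y ≠ 1) : bswOut K y := by
  by_contra hny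
  unfold bswOut at hny
  push Not at hny
  obtain ⟨g, hg⟩ := hny
  have hg1 : g * y * g⁻¹ ≠ 1 := by
    intro h1
    apply hy
    have : y = g⁻¹ * (g * y * g⁻¹) * g := by group
    rw [this, h1]
    group
  have h1 := T1.cent_le hg hg1
  have h2 : g * x * g⁻¹ ∈ Subgroup.centralizer ({g * y * g⁻¹} : Set G) := by
    rw [Subgroup.mem_centralizer_singleton_iff]
    calc g * x * g⁻¹ * (g * y * g⁻¹) = g * (x * y) * g⁻¹ := by group
      _ = g * (y * x) * g⁻¹ := by rw [hxy]
      _ = g * y * g⁻¹ * (g * x * g⁻¹) := by group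
  have h3 := h1 h2
  have hxo : bswOut K (g * x * g⁻¹) := b5_out_conj hx g
  rcases T1.mem_H h3 with h4 | ⟨k, hk, h4⟩
  · have := hxo 1
    apply this
    simpa using h4
  · have h5 := T1.mul_s_sq hk
    rw [← h4] at h5
    have h6 : orderOf (g * x * g⁻¹) ∣ 2 := by
      apply orderOf_dvd_of_pow_eq_one
      rw [pow_two]
      exact h5
    have h7 := T1.out_odd hxo
    have h8 : orderOf (g * x * g⁻¹) = 1 := by
      rcases (Nat.dvd_prime Nat.prime_two).mp h6 with h9 | h9
      · exact h9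
      · rw [h9] at h7
        exact absurd h7 (by decide)
    rw [orderOf_eq_one_iff] at h8
    exact b5_out_ne_one hxo h8

theorem b5_no_invol_commute [Finite G] (T1 : BswT1 t K s) {x a : G}
    (hx : bswOut K x) (ha : orderOf a = 2) : a * x ≠ x * a := by
  intro hc
  have ha1 : a ≠ 1 := by
    rintro rfl
    rw [orderOf_one] at ha
    omega
  have h1 := b5_out_of_commute T1 hx hc ha1
  have h2 := T1.out_odd h1
  rw [ha] at h2
  exact absurd h2 (by decide)

end Cfsg.Agent.Lib.Helper24
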