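import Mathlib
import Cfsg.Prelude.Def_Characters
import Cfsg.Agent.Lib.helper2.BSWDefs
import Cfsg.Agent.Lib.helper2.CharInt
import Cfsg.Agent.Lib.helper2.CharNat
import Cfsg.Agent.Lib.Helper25.CharLinear
import Cfsg.Agent.Lib.Helper24.BSW5A

set_option autoImplicit false
set_option linter.style.haveILetI false

namespace Cfsg.Agent.Lib.Helper24

open scoped ComplexConjugate
open Cfsg.Agent.Lib.helper2 Cfsg.Agent.Lib.Helper25

variable {G : Type*} [Group G]

theorem b5_sum_subgroup [Finite G] (χ : Cfsg.IrrCharacter G) (U : Subgroup G) [Fintype U] :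
    ∃ m : ℕ, ∑ u : U, (χ : G → ℂ) u = (Nat.card U : ℂ) * m := by
  obtain ⟨m, hm⟩ := classInner_character_nat
    (isCharacter_restrict (isCharacter_of_irr χ) U) (isCharacter_of_irr (trivIrr U))
  refine ⟨m, ?_⟩
  unfold Cfsg.classInner at hm
  simp only [trivIrr_apply, map_one, mul_one] at hm
  have hne : (Nat.card U : ℂ) ≠ 0 := by exact_mod_cast Nat.card_pos.ne'
  rw [← hm, ← mul_assoc, mul_inv_cancel₀ hne, one_mul]

theorem b5_sum_eq_zero [Fintype G] (χ : Cfsg.IrrCharacter G) (hne : χ ≠ trivIrr G) :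
    ∑ g : G, (χ : G → ℂ) g = 0 := by
  have h1 := irr_classInner χ (trivIrr G)
  rw [if_neg hne] at h1
  unfold Cfsg.classInner at h1
  simp only [trivIrr_apply, map_one, mul_one] at h1
  have hne' : ((Nat.card G : ℂ))⁻¹ ≠ 0 := by
    apply inv_ne_zero
    exact_mod_cast Nat.card_pos.ne'
  rcases mul_eq_zero.mp h1 with h | h
  · exact absurd h hne'
  · exact h

theorem b5_col_bound [Finite G] (χ : Cfsg.IrrCharacter G) (hχ : χ ≠ trivIrr G) (x : G) (c : ℕ)
    (hc : (χ : G → ℂ) x = c) :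
    1 + c ^ 2 ≤ Nat.card (Subgroup.centralizer ({x} : Set G)) := by
  classical
  haveI : Fintype G := Fintype.ofFinite _
  haveI : Fintype (Cfsg.IrrCharacter G) := Fintype.ofFinite _
  have h1 := irr_column_orthogonality x x
  rw [if_pos (IsConj.refl x)] at h1
  have h2 : ∀ ψ : Cfsg.IrrCharacter G, (ψ : G → ℂ) x * conj ((ψ : G → ℂ) x) =
      ((Complex.normSq ((ψ : G → ℂ) x) : ℝ) : ℂ) := fun ψ => Complex.mul_conj _
  simp only [h2] at h1
  rw [← Complex.ofReal_sum] at h1
  have h3 : ∑ ψ : Cfsg.IrrCharacter G, Complex.normSq ((ψ : G → ℂ) x) =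
      (Nat.card (Subgroup.centralizer ({x} : Set G)) : ℝ) := by
    have : ((Nat.card (Subgroup.centralizer ({x} : Set G)) : ℕ) : ℂ) =
        (((Nat.card (Subgroup.centralizer ({x} : Set G)) : ℕ) : ℝ) : ℂ) := by
      push_cast
      rfl
    rw [this] at h1
    exact Complex.ofReal_injective h1
  have h4 : ∑ ψ ∈ ({trivIrr G, χ} : Finset (Cfsg.IrrCharacter G)),
      Complex.normSq ((ψ : G → ℂ) x) ≤ ∑ ψ : Cfsg.IrrCharacter G, Complex.normSq ((ψ : G → ℂ) x) :=
    Finset.sum_le_sum_of_subset_of_nonneg (Finset.subset_univ _)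
      (fun ψ _ _ => Complex.normSq_nonneg _)
  rw [Finset.sum_pair (Ne.symm hχ), h3, trivIrr_apply, hc] at h4
  simp only [map_one, Complex.normSq_natCast] at h4
  have h5 : ((1 + c ^ 2 : ℕ) : ℝ) ≤ (Nat.card (Subgroup.centralizer ({x} : Set G)) : ℝ) := by
    push_cast
    nlinarith [h4]
  exact_mod_cast h5

section step1

variable [Finite G] {t s : G} {K : Subgroup G}

theorem b5_arith1 (d c m n : ℕ) (_hd : 1 ≤ d) (hc : 1 ≤ c) (hn : n = d * c)
    (h1 : n * c + (2 * d + 1) = n * m + c) (h2 : 1 + c ^ 2 ≤ n) : c = 1 := by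
  subst hn
  by_contra hne
  have hc2 : 2 ≤ c := by omega
  have hcd : c < d := by
    by_contra hle
    push Not at hle
    have : d * c ≤ c * c := Nat.mul_le_mul_right c hle
    nlinarith
  have hm : c < m := by
    by_contra hle
    push Not at hle
    have h3 : d * c * m ≤ d * c * c := Nat.mul_le_mul_left _ hle
    omega
  have h4 : d * c * (c + 1) ≤ d * c * m := Nat.mul_le_mul_left _ hm
  have h5 : 2 * d ≤ d * c := by
    rw [mul_comm 2 d]
    exact Nat.mul_le_mul_left d hc2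
  have h6 : d * c * (c + 1) = d * c * c + d * c := by ring
  omega

theorem b5_step1 (h : BswHyp t K s) (T1 : BswT1 t K s) (X : G → ℂ)
    (irr : Cfsg.IsIrrCharacter G X) (deg : X 1 = (2 * Nat.card K - 1 : ℕ))
    (beta : ∀ x : G, bswOut K x → (bswBeta x : ℂ) = ((Nat.card K - 1 : ℕ) : ℂ) * X x)
    {x : G} (hx : bswOut K x) (hb : bswBeta x ≠ 0) :
    X x = 1 ∧ Nat.card (Subgroup.centralizer ({x} : Set G)) = Nat.card K - 1 := by
  classical
  have he2 := b5_two_le_card_K h
  obtain ⟨d, hd⟩ : ∃ d, Nat.card K = d + 1 := ⟨Nat.card K - 1, by omega⟩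
  have hd1 : 1 ≤ d := by omega
  have hd' : Nat.card K - 1 = d := by omega
  rw [hd'] at beta ⊢
  have hq : 2 * Nat.card K - 1 = 2 * d + 1 := by omega
  rw [hq] at deg
  set χ : Cfsg.IrrCharacter G := ⟨X, irr⟩ with hχ
  have hχX : (χ : G → ℂ) = X := rfl
  have hχne : χ ≠ trivIrr G := by
    intro heq
    have h1 : (χ : G → ℂ) 1 = 1 := by rw [heq]; rfl
    rw [hχX, deg] at h1
    have h2 : (2 * d + 1 : ℕ) = 1 := by exact_mod_cast h1
    omega
  have hx1 := b5_out_ne_one hx
  have hodd := T1.out_odd hx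
  obtain ⟨a, ha, hax⟩ := (T1.beta_pos_iff hodd hx1).mp hb
  obtain ⟨_, _, _, hC, _⟩ := T1.Q hx ha hax
  set C := Subgroup.centralizer ({x} : Set G) with hCdef
  set n := Nat.card C with hn
  have hxC : x ∈ C := by
    rw [hCdef, Subgroup.mem_centralizer_singleton_iff]
  have hd0 : (d : ℂ) ≠ 0 := by
    have : d ≠ 0 := by omega
    exact_mod_cast this
  have hval : ∀ y ∈ C, y ≠ 1 → (n : ℂ) = (d : ℂ) * X y := by
    intro y hy hy1
    have h1 := beta y (hC y hy hy1).1
    rw [(hC y hy hy1).2.2] at h1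
    exact h1
  have hint : IsIntegral ℤ ((n : ℂ) / (d : ℂ)) := by
    have h1 : (n : ℂ) / (d : ℂ) = X x := by
      rw [hval x hxC hx1]
      field_simp
    rw [h1]
    exact irr_integral χ x
  have hdvd : d ∣ n := nat_dvd_of_isIntegral_div n d (by omega) hint
  obtain ⟨c, hc⟩ := hdvd
  have hXc : ∀ y ∈ C, y ≠ 1 → X y = (c : ℂ) := by
    intro y hy hy1
    have h1 := hval y hy hy1
    rw [hc] at h1
    push_cast at h1
    exact (mul_left_cancel₀ hd0 h1).symm
  have hnpos : 0 < n := Nat.card_pos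
  have hc1 : 1 ≤ c := by
    rcases Nat.eq_zero_or_pos c with h0 | h0
    · rw [h0, mul_zero] at hc
      omega
    · exact h0
  haveI : Fintype C := Fintype.ofFinite _
  obtain ⟨m, hm⟩ := b5_sum_subgroup χ C
  have hsum : ∑ u : C, (χ : G → ℂ) u = (n : ℂ) * c + ((2 * d + 1 : ℕ) : ℂ) - c := by
    have h1 : ∀ u : C, (χ : G → ℂ) u =
        (c : ℂ) + (if u = 1 then (((2 * d + 1 : ℕ) : ℂ) - c) else 0) := by
      intro u
      by_cases hu : u = 1
      · rw [if_pos hu, hu]
        simp only [Subgroup.coe_one]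
        rw [hχX, deg]
        ring
      · rw [if_neg hu, add_zero, hχX]
        apply hXc u u.2
        intro h1
        apply hu
        exact Subtype.ext h1
    simp only [h1]
    rw [Finset.sum_add_distrib, Finset.sum_const, Finset.card_univ, Finset.sum_ite_eq']
    simp only [Finset.mem_univ, if_true]
    rw [← Nat.card_eq_fintype_card, nsmul_eq_mul]
    ring
  rw [hsum] at hm
  have hnat : n * c + (2 * d + 1) = n * m + c := by
    have h1 : ((n * c + (2 * d + 1) : ℕ) : ℂ) = ((n * m + c : ℕ) : ℂ) := by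
      push_cast
      push_cast at hm
      linear_combination hm
    exact_mod_cast h1
  have hcol := b5_col_bound χ hχne x c (hXc x hxC hx1)
  have hc_eq : c = 1 := b5_arith1 d c m n hd1 hc1 hc hnat hcol
  subst hc_eq
  constructor
  · rw [hXc x hxC hx1]
    simp
  · omega

theorem b5_step1_zero (h : BswHyp t K s) (X : G → ℂ)
    (beta : ∀ x : G, bswOut K x → (bswBeta x : ℂ) = ((Nat.card K - 1 : ℕ) : ℂ) * X x)
    {x : G} (hx : bswOut K x) (hb : bswBeta x = 0) : X x = 0 := by
  have he2 := b5_two_le_card_K h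
  have h1 := beta x hx
  rw [hb] at h1
  have hd0 : ((Nat.card K - 1 : ℕ) : ℂ) ≠ 0 := by
    have : Nat.card K - 1 ≠ 0 := by omega
    exact_mod_cast this
  simp only [Nat.cast_zero] at h1
  rcases mul_eq_zero.mp h1.symm with h2 | h2
  · exact absurd h2 hd0
  · exact h2

end step1

end Cfsg.Agent.Lib.Helper24
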