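import Mathlib
import Cfsg.Prelude.Def_Characters
import Cfsg.Agent.Lib.helper2.BSWDefs
import Cfsg.Agent.Lib.Helper24.BSW5B

set_option autoImplicit false
set_option linter.style.haveILetI false

namespace Cfsg.Agent.Lib.Helper24

open scoped ComplexConjugate
open Cfsg.Agent.Lib.helper2 Cfsg.Agent.Lib.Helper25

variable {G : Type*} [Group G] {t s : G} {K : Subgroup G}

theorem b5_val_in [Finite G] (X : G → ℂ) (irr : Cfsg.IsIrrCharacter G X)
    (onK : ∀ x ∈ K, x ≠ 1 → X x = -1) {x : G} (hx : ¬ bswOut K x) (hx1 : x ≠ 1) : X x = -1 := by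
  unfold bswOut at hx
  push Not at hx
  obtain ⟨g, hg⟩ := hx
  have h1 : g * x * g⁻¹ ≠ 1 := by
    intro h2
    apply hx1
    have : x = g⁻¹ * (g * x * g⁻¹) * g := by group
    rw [this, h2]
    group
  have h2 := onK _ hg h1
  have h3 := irr_conj_invariant (⟨X, irr⟩ : Cfsg.IrrCharacter G) x g
  change X (g * x * g⁻¹) = X x at h3
  rw [← h3, h2]

theorem b5_counts [Fintype G] [DecidableEq G] (h : BswHyp t K s) (T1 : BswT1 t K s) (X : G → ℂ)
    (irr : Cfsg.IsIrrCharacter G X) (deg : X 1 = (2 * Nat.card K - 1 : ℕ))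
    (card : Nat.card G = 2 * Nat.card K * (Nat.card K - 1) * (2 * Nat.card K - 1))
    (onK : ∀ x ∈ K, x ≠ 1 → X x = -1)
    (beta : ∀ x : G, bswOut K x → (bswBeta x : ℂ) = ((Nat.card K - 1 : ℕ) : ℂ) * X x)
    [DecidablePred (fun x : G => bswOut K x)] :
    Nat.card {a : G // orderOf a = 2} = (Nat.card K - 1) * (2 * Nat.card K - 1) ∧
    (Finset.univ.filter (fun x : G => bswOut K x ∧ bswBeta x ≠ 0)).card + (2 * Nat.card K - 1) =
      (Nat.card K - 1) * (Nat.card K - 1) * (2 * Nat.card K - 1) ∧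
    (Finset.univ.filter (fun x : G => bswOut K x ∧ bswBeta x = 0)).card + 1 =
      (2 * Nat.card K - 1) * (2 * Nat.card K - 1) := by
  have he2 := b5_two_le_card_K h
  obtain ⟨d, hd⟩ : ∃ d, Nat.card K = d + 1 := ⟨Nat.card K - 1, by omega⟩
  have hd1 : 1 ≤ d := by omega
  have hd' : Nat.card K - 1 = d := by omega
  have hq : 2 * Nat.card K - 1 = 2 * d + 1 := by omega
  have hinv := T1.card_invol
  have hin := T1.card_in
  rw [card, hq, hd', hd] at hinv
  rw [hd'] at hin
  rw [hq, hd']
  set i := Nat.card {a : G // orderOf a = 2} with hi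
  have hi_eq : i = d * (2 * d + 1) := by
    have h1 : i * (2 * (d + 1)) = (d * (2 * d + 1)) * (2 * (d + 1)) := by
      rw [hinv]; ring
    exact Nat.eq_of_mul_eq_mul_right (by omega) h1
  set χ : Cfsg.IrrCharacter G := ⟨X, irr⟩ with hχ
  have hχX : (χ : G → ℂ) = X := rfl
  rw [hq] at deg
  have hχne : χ ≠ trivIrr G := by
    intro heq
    have h1 : (χ : G → ℂ) 1 = 1 := by rw [heq]; rfl
    rw [hχX, deg] at h1
    have h2 : (2 * d + 1 : ℕ) = 1 := by exact_mod_cast h1
    omega
  have hsum0 := b5_sum_eq_zero χ hχne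
  rw [hχX] at hsum0
  have hnin : Nat.card {x : G // ¬ bswOut K x} =
      (Finset.univ.filter (fun x : G => ¬ bswOut K x)).card := by
    rw [Nat.card_eq_fintype_card, Fintype.card_subtype]
  rw [hnin] at hin
  set A := (Finset.univ.filter (fun x : G => ¬ bswOut K x)) with hA
  set Y1 := (Finset.univ.filter (fun x : G => bswOut K x ∧ bswBeta x ≠ 0)) with hY1
  set Y0 := (Finset.univ.filter (fun x : G => bswOut K x ∧ bswBeta x = 0)) with hY0
  have hXval : ∀ g : G, X g = (if g = 1 then ((2 * d + 2 : ℕ) : ℂ) else 0) +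
      (if ¬ bswOut K g then (-1 : ℂ) else 0) +
      (if bswOut K g ∧ bswBeta g ≠ 0 then (1 : ℂ) else 0) := by
    intro g
    by_cases hg1 : g = 1
    · subst hg1
      have hno : ¬ bswOut K (1 : G) := fun hh => b5_out_ne_one hh rfl
      rw [if_pos rfl, if_pos hno, if_neg (fun hh => hno hh.1), deg]
      push_cast
      ring
    · rw [if_neg hg1]
      by_cases hgo : bswOut K g
      · rw [if_neg (not_not.mpr hgo)]
        by_cases hb : bswBeta g = 0
        · rw [if_neg (fun hh => hh.2 hb)]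
          rw [b5_step1_zero h X beta hgo hb]
          ring
        · rw [if_pos ⟨hgo, hb⟩]
          rw [(b5_step1 h T1 X irr (by rw [hq]; exact deg) beta hgo hb).1]
          ring
      · rw [if_pos hgo, if_neg (fun hh => hgo hh.1)]
        rw [b5_val_in X irr onK hgo hg1]
        ring
  have hsum1 : ∑ g : G, X g = ((2 * d + 2 : ℕ) : ℂ) - (A.card : ℂ) + (Y1.card : ℂ) := by
    simp only [hXval]
    rw [Finset.sum_add_distrib, Finset.sum_add_distrib, Finset.sum_ite_eq']
    simp only [Finset.mem_univ, if_true]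
    rw [← Finset.sum_filter, ← Finset.sum_filter, Finset.sum_const, Finset.sum_const]
    simp only [nsmul_eq_mul, mul_one, mul_neg]
    ring
  rw [hsum0] at hsum1
  have hnat : A.card = 2 * d + 2 + Y1.card := by
    have h1 : ((A.card : ℕ) : ℂ) = ((2 * d + 2 + Y1.card : ℕ) : ℂ) := by
      push_cast
      push_cast at hsum1
      linear_combination hsum1
    exact_mod_cast h1
  have hpart : A.card + Y1.card + Y0.card = Nat.card G := by
    rw [Nat.card_eq_fintype_card, ← Finset.card_univ]
    have h1 : (Finset.univ : Finset G) = A ∪ (Y1 ∪ Y0) := by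
      ext g
      simp only [Finset.mem_univ, Finset.mem_union, Finset.mem_filter, true_and, hA, hY1, hY0,
        true_iff]
      by_cases hgo : bswOut K g
      · by_cases hb : bswBeta g = 0
        · exact Or.inr (Or.inr ⟨hgo, hb⟩)
        · exact Or.inr (Or.inl ⟨hgo, hb⟩)
      · exact Or.inl hgo
    have h2 : Disjoint Y1 Y0 := by
      rw [Finset.disjoint_left]
      intro g hg1 hg0
      simp only [Finset.mem_filter, hY1, hY0] at hg1 hg0
      exact hg1.2.2 hg0.2.2
    have h3 : Disjoint A (Y1 ∪ Y0) := by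
      rw [Finset.disjoint_left]
      intro g hgA hg
      simp only [Finset.mem_filter, Finset.mem_union, hA, hY1, hY0] at hgA hg
      rcases hg with hg | hg
      · exact hgA.2 hg.2.1
      · exact hgA.2 hg.2.1
    rw [h1, Finset.card_union_of_disjoint h3, Finset.card_union_of_disjoint h2]
    ring
  rw [card, hq, hd', hd] at hpart
  refine ⟨hi_eq, ?_, ?_⟩
  · have h1 : 1 + d * (2 * d + 1) * d = 2 * d + 2 + Y1.card := by
      rw [← hnat, hin, hi_eq]
    have h2 : d * (2 * d + 1) * d = d * d * (2 * d + 1) := by ring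
    omega
  · have h1 : 1 + d * (2 * d + 1) * d = 2 * d + 2 + Y1.card := by
      rw [← hnat, hin, hi_eq]
    have h3 : 2 * (d + 1) * d * (2 * d + 1) = 2 * (d * (2 * d + 1) * d) + 2 * d * (2 * d + 1) := by
      ring
    have h4 : (2 * d + 1) * (2 * d + 1) = 2 * d * (2 * d + 1) + 2 * d + 1 := by ring
    omega

end Cfsg.Agent.Lib.Helper24
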