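import Mathlib
import Cfsg.Prelude.Def_Characters
import Cfsg.Agent.Lib.helper2.BSWDefs
import Cfsg.Agent.Lib.Helper24.BSW5C

set_option autoImplicit false
set_option linter.style.haveILetI false

namespace Cfsg.Agent.Lib.Helper24

open scoped ComplexConjugate
open Cfsg.Agent.Lib.helper2 Cfsg.Agent.Lib.Helper25

variable {G : Type*} [Group G] {t s : G} {K : Subgroup G}

structure B5Data (t : G) (K : Subgroup G) (s : G) (X : G → ℂ) : Prop where
  hyp : BswHyp t K s
  t1 : BswT1 t K s
  irr : Cfsg.IsIrrCharacter G X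
  deg : X 1 = (2 * Nat.card K - 1 : ℕ)
  card : Nat.card G = 2 * Nat.card K * (Nat.card K - 1) * (2 * Nat.card K - 1)
  onK : ∀ x ∈ K, x ≠ 1 → X x = -1
  beta : ∀ x : G, bswOut K x → (bswBeta x : ℂ) = ((Nat.card K - 1 : ℕ) : ℂ) * X x

theorem b5_conj_into [Finite G] (U : Subgroup G) (r : ℕ) (hr : r.Prime) (m : ℕ)
    (hcard : Nat.card G = Nat.card U * m) (hrm : ¬ r ∣ m) (y : G) (hy : orderOf y = r) :
    ∃ g : G, g * y * g⁻¹ ∈ U := by
  haveI : Fact r.Prime := ⟨hr⟩
  obtain ⟨P⟩ : Nonempty (Sylow r U) := inferInstance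
  have hm0 : m ≠ 0 := by
    rintro rfl
    rw [mul_zero] at hcard
    exact absurd hcard Nat.card_pos.ne'
  have hU0 : Nat.card U ≠ 0 := Nat.card_pos.ne'
  have hfac : (Nat.card G).factorization r = (Nat.card U).factorization r := by
    rw [hcard, Nat.factorization_mul hU0 hm0]
    simp only [Finsupp.coe_add, Pi.add_apply]
    rw [Nat.factorization_eq_zero_of_not_dvd hrm, add_zero]
  have hcP : Nat.card ((P : Subgroup U).map U.subtype) = r ^ (Nat.card G).factorization r := by
    rw [Subgroup.card_map_of_injective U.subtype_injective, hfac]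
    exact P.card_eq_multiplicity
  set S' : Sylow r G := Sylow.ofCard _ hcP with hS'
  have hpg : IsPGroup r (Subgroup.zpowers y) := by
    apply IsPGroup.of_card (n := 1)
    rw [Nat.card_zpowers, hy, pow_one]
  obtain ⟨S, hS⟩ := hpg.exists_le_sylow
  obtain ⟨g, hg⟩ := MulAction.exists_smul_eq G S S'
  refine ⟨g, ?_⟩
  have hyS : y ∈ (S : Subgroup G) := hS (Subgroup.mem_zpowers y)
  have h1 : g * y * g⁻¹ ∈ ((g • S : Sylow r G) : Subgroup G) := by
    rw [Sylow.coe_subgroup_smul]
    have : g * y * g⁻¹ = MulAut.conj g • y := by simp [MulAut.smul_def]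
    rw [this, Subgroup.smul_mem_pointwise_smul_iff]
    exact hyS
  rw [hg] at h1
  have h2 : (S' : Subgroup G) = (P : Subgroup U).map U.subtype := rfl
  rw [h2] at h1
  exact Subgroup.map_subtype_le _ h1

section step3

variable [Finite G] {X : G → ℂ}

theorem b5_Y0_cent (D : B5Data t K s X) {x y : G} (hx : bswOut K x) (hb : bswBeta x = 0)
    (hy : y * x = x * y) (hy1 : y ≠ 1) : bswOut K y ∧ bswBeta y = 0 := by
  have hyo := b5_out_of_commute D.t1 hx hy hy1
  refine ⟨hyo, ?_⟩
  by_contra hne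
  obtain ⟨a, ha, hay⟩ := (D.t1.beta_pos_iff (D.t1.out_odd hyo) hy1).mp hne
  obtain ⟨_, _, _, hC, _⟩ := D.t1.Q hyo ha hay
  have hxC : x ∈ Subgroup.centralizer ({y} : Set G) := by
    rw [Subgroup.mem_centralizer_singleton_iff]
    exact hy.symm
  have h1 := (hC x hxC (b5_out_ne_one hx)).2.2
  rw [hb] at h1
  exact absurd h1.symm Nat.card_pos.ne'

theorem b5_arith_d (D : B5Data t K s X) : ∃ d : ℕ, 1 ≤ d ∧ Nat.card K = d + 1 ∧
    Nat.card K - 1 = d ∧ 2 * Nat.card K - 1 = 2 * d + 1 ∧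
    Nat.card G = 2 * (d + 1) * d * (2 * d + 1) ∧ Odd d := by
  have he2 := b5_two_le_card_K D.hyp
  have hev := b5_two_dvd_card_K D.hyp
  refine ⟨Nat.card K - 1, by omega, by omega, rfl, by omega, ?_, ?_⟩
  · have := D.card
    have h1 : Nat.card K - 1 + 1 = Nat.card K := by omega
    have h2 : 2 * (Nat.card K - 1) + 1 = 2 * Nat.card K - 1 := by omega
    rw [h1, h2]
    exact this
  · obtain ⟨k, hk⟩ := hev
    exact ⟨k - 1, by omega⟩

theorem b5_Y1_nonempty (D : B5Data t K s X) (h3 : 3 ≤ Nat.card K) :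
    ∃ x : G, bswOut K x ∧ bswBeta x ≠ 0 := by
  classical
  haveI : Fintype G := Fintype.ofFinite _
  obtain ⟨_, h1, _⟩ := b5_counts D.hyp D.t1 X D.irr D.deg D.card D.onK D.beta
  obtain ⟨d, hd1, hd, hd', hq, _, _⟩ := b5_arith_d D
  rw [hd', hq] at h1
  have hd2 : 2 ≤ d := by omega
  have h2 : 2 * 2 * (2 * d + 1) ≤ d * d * (2 * d + 1) :=
    Nat.mul_le_mul_right _ (Nat.mul_le_mul hd2 hd2)
  have h4 : 0 < (Finset.univ.filter (fun x : G => bswOut K x ∧ bswBeta x ≠ 0)).card := by omega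
  obtain ⟨x, hx⟩ := Finset.card_pos.mp h4
  exact ⟨x, (Finset.mem_filter.mp hx).2⟩

theorem b5_prime_dvd (D : B5Data t K s X) {x : G} (hx : bswOut K x) (hb : bswBeta x = 0)
    (r : ℕ) (hr : r.Prime) (hdvd : r ∣ Nat.card (Subgroup.centralizer ({x} : Set G))) :
    r ∣ 2 * Nat.card K - 1 := by
  haveI : Fact r.Prime := ⟨hr⟩
  obtain ⟨d, hd1, hd, hd', hq, hG, hdodd⟩ := b5_arith_d D
  obtain ⟨y, hy⟩ := exists_prime_orderOf_dvd_card' r hdvd
  have hy' : orderOf (y : G) = r := by rw [Subgroup.orderOf_coe]; exact hy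
  have hy1 : (y : G) ≠ 1 := by
    intro h1
    rw [h1, orderOf_one] at hy'
    exact hr.one_lt.ne hy'
  have hyc : (y : G) * x = x * (y : G) := Subgroup.mem_centralizer_singleton_iff.mp y.2
  obtain ⟨hyo, hyb⟩ := b5_Y0_cent D hx hb hyc hy1
  have hyodd := D.t1.out_odd hyo
  rw [hy'] at hyodd
  have hr2 : ¬ r ∣ 2 := by
    intro h2
    have : r = 2 := (Nat.prime_dvd_prime_iff_eq hr Nat.prime_two).mp h2
    rw [this] at hyodd
    exact absurd hyodd (by decide)
  have hrG : r ∣ Nat.card G := dvd_trans hdvd (Subgroup.card_subgroup_dvd_card _)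
  rw [hq]
  rw [hG] at hrG
  rcases (Nat.Prime.dvd_mul hr).mp hrG with h1 | h1
  · rcases (Nat.Prime.dvd_mul hr).mp h1 with h2 | h2
    · rcases (Nat.Prime.dvd_mul hr).mp h2 with h3 | h3
      · exact absurd h3 hr2
      · exfalso
        have hnd : ¬ r ∣ d := by
          intro h4
          have : r ∣ 1 := (Nat.dvd_add_right h4).mp h3
          exact hr.one_lt.ne' (Nat.dvd_one.mp this)
        have hnq : ¬ r ∣ 2 * d + 1 := by
          intro h4
          have h5 : r ∣ 2 * (d + 1) := Dvd.dvd.mul_left h3 2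
          have h6 : 2 * (d + 1) = 2 * d + 1 + 1 := by ring
          rw [h6] at h5
          have : r ∣ 1 := (Nat.dvd_add_right h4).mp h5
          exact hr.one_lt.ne' (Nat.dvd_one.mp this)
        have hm : ¬ r ∣ 2 * d * (2 * d + 1) := by
          intro h4
          rcases (Nat.Prime.dvd_mul hr).mp h4 with h5 | h5
          · rcases (Nat.Prime.dvd_mul hr).mp h5 with h6 | h6
            · exact hr2 h6
            · exact hnd h6
          · exact hnq h5
        have hc : Nat.card G = Nat.card K * (2 * d * (2 * d + 1)) := by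
          rw [hG, hd]; ring
        obtain ⟨g, hg⟩ := b5_conj_into K r hr _ hc hm (y : G) hy'
        exact hyo g hg
    · exfalso
      have hd2 : 2 ≤ d := by
        have := Nat.le_of_dvd (by omega) h2
        have := hr.two_le
        omega
      obtain ⟨x1, hx1o, hx1b⟩ := b5_Y1_nonempty D (by omega)
      obtain ⟨_, hcx1⟩ := b5_step1 D.hyp D.t1 X D.irr D.deg D.beta hx1o hx1b
      rw [hd'] at hcx1
      have hne : ¬ r ∣ d + 1 := by
        intro h4
        have : r ∣ 1 := (Nat.dvd_add_right h2).mp h4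
        exact hr.one_lt.ne' (Nat.dvd_one.mp this)
      have hnq : ¬ r ∣ 2 * d + 1 := by
        intro h4
        have h5 : r ∣ 2 * d := Dvd.dvd.mul_left h2 2
        have : r ∣ 1 := (Nat.dvd_add_right h5).mp h4
        exact hr.one_lt.ne' (Nat.dvd_one.mp this)
      have hm : ¬ r ∣ 2 * (d + 1) * (2 * d + 1) := by
        intro h4
        rcases (Nat.Prime.dvd_mul hr).mp h4 with h5 | h5
        · rcases (Nat.Prime.dvd_mul hr).mp h5 with h6 | h6
          · exact hr2 h6
          · exact hne h6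
        · exact hnq h5
      have hc : Nat.card G = Nat.card (Subgroup.centralizer ({x1} : Set G)) *
          (2 * (d + 1) * (2 * d + 1)) := by
        rw [hG, hcx1]; ring
      obtain ⟨g, hg⟩ := b5_conj_into _ r hr _ hc hm (y : G) hy'
      obtain ⟨a, ha, hax⟩ := (D.t1.beta_pos_iff (D.t1.out_odd hx1o) (b5_out_ne_one hx1o)).mp hx1b
      obtain ⟨_, _, _, hC, _⟩ := D.t1.Q hx1o ha hax
      have hg1 : g * (y : G) * g⁻¹ ≠ 1 := by
        intro h4
        apply hy1
        have : (y : G) = g⁻¹ * (g * (y : G) * g⁻¹) * g := by group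
        rw [this, h4]
        group
      have h5 := (hC _ hg hg1).2.2
      rw [b5_beta_conj, hyb] at h5
      exact absurd h5.symm Nat.card_pos.ne'
  · exact h1

theorem b5_cent_dvd (D : B5Data t K s X) {x : G} (hx : bswOut K x) (hb : bswBeta x = 0) :
    Nat.card (Subgroup.centralizer ({x} : Set G)) ∣ 2 * Nat.card K - 1 := by
  obtain ⟨d, hd1, hd, hd', hq, hG, hdodd⟩ := b5_arith_d D
  have hcop : Nat.Coprime (Nat.card (Subgroup.centralizer ({x} : Set G))) (2 * (d + 1) * d) := by
    apply Nat.coprime_of_dvd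
    intro k hk hk1 hk2
    have h1 := b5_prime_dvd D hx hb k hk hk1
    rw [hq] at h1
    rcases (Nat.Prime.dvd_mul hk).mp hk2 with h2 | h2
    · have h6 : 2 * (d + 1) = 2 * d + 1 + 1 := by ring
      rw [h6] at h2
      have : k ∣ 1 := (Nat.dvd_add_right h1).mp h2
      exact hk.one_lt.ne' (Nat.dvd_one.mp this)
    · have h5 : k ∣ 2 * d := Dvd.dvd.mul_left h2 2
      have : k ∣ 1 := (Nat.dvd_add_right h5).mp h1
      exact hk.one_lt.ne' (Nat.dvd_one.mp this)
  have h1 : Nat.card (Subgroup.centralizer ({x} : Set G)) ∣ 2 * (d + 1) * d * (2 * d + 1) := by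
    rw [← hG]
    exact Subgroup.card_subgroup_dvd_card _
  rw [hq]
  exact hcop.dvd_of_dvd_mul_left h1

omit [Finite G] in
theorem b5_class_sub {x y : G} (hx : bswOut K x) (hb : bswBeta x = 0)
    (hc : IsConj x y) : bswOut K y ∧ bswBeta y = 0 := by
  obtain ⟨g, rfl⟩ := isConj_iff.mp hc
  exact ⟨b5_out_conj hx g, by rw [b5_beta_conj]; exact hb⟩

theorem b5_cent_card (D : B5Data t K s X) {x : G} (hx : bswOut K x) (hb : bswBeta x = 0) :
    Nat.card (Subgroup.centralizer ({x} : Set G)) = 2 * Nat.card K - 1 := by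
  classical
  haveI : Fintype G := Fintype.ofFinite _
  obtain ⟨d, hd1, hd, hd', hq, hG, hdodd⟩ := b5_arith_d D
  obtain ⟨_, _, hY0⟩ := b5_counts D.hyp D.t1 X D.irr D.deg D.card D.onK D.beta
  have hdvd := b5_cent_dvd D hx hb
  rw [hq] at hdvd hY0 ⊢
  obtain ⟨m, hm⟩ := hdvd
  set n := Nat.card (Subgroup.centralizer ({x} : Set G)) with hn
  have hcl := card_conj_mul_card_centralizer x
  rw [← hn, hG] at hcl
  have hle : Nat.card {y : G // IsConj x y} ≤
      (Finset.univ.filter (fun x : G => bswOut K x ∧ bswBeta x = 0)).card := by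
    rw [Nat.card_eq_fintype_card, Fintype.card_subtype]
    apply Finset.card_le_card
    intro y hy
    rw [Finset.mem_filter] at hy ⊢
    exact ⟨Finset.mem_univ _, b5_class_sub hx hb hy.2⟩
  have hnpos : 0 < n := Nat.card_pos
  have hm1 : m = 1 := by
    have hmodd : ¬ 2 ∣ m := by
      intro h2
      have : 2 ∣ 2 * d + 1 := by rw [hm]; exact Dvd.dvd.mul_left h2 n
      omega
    have hmpos : 0 < m := by
      rcases Nat.eq_zero_or_pos m with h0 | h0
      · rw [h0, mul_zero] at hm; omega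
      · exact h0
    have h1 : Nat.card {y : G // IsConj x y} = 2 * (d + 1) * d * m := by
      have h2 : Nat.card {y : G // IsConj x y} * n = 2 * (d + 1) * d * m * n := by
        rw [hcl, hm]; ring
      exact Nat.eq_of_mul_eq_mul_right hnpos h2
    rw [h1] at hle
    have h3 : (2 * d + 1) * (2 * d + 1) = 2 * (2 * (d + 1) * d) + 1 := by ring
    have h4 : 2 * (d + 1) * d * m ≤ 2 * (2 * (d + 1) * d) := by omega
    have h5 : 0 < 2 * (d + 1) * d := by positivity
    have h6 : m ≤ 2 := by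
      by_contra h7
      push Not at h7
      have : 2 * (d + 1) * d * 3 ≤ 2 * (d + 1) * d * m := Nat.mul_le_mul_left _ h7
      omega
    interval_cases m
    · rfl
    · exact absurd (dvd_refl 2) hmodd
  rw [hm, hm1, mul_one]

theorem b5_not_real (D : B5Data t K s X) {x : G} (hx : bswOut K x) (hb : bswBeta x = 0) :
    ¬ IsConj x x⁻¹ := by
  intro hc
  obtain ⟨g, hg⟩ := isConj_iff.mp hc
  obtain ⟨d, hd1, hd, hd', hq, hG, hdodd⟩ := b5_arith_d D
  have hcard := b5_cent_card D hx hb
  rw [hq] at hcard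
  have hx1 := b5_out_ne_one hx
  have hodd := D.t1.out_odd hx
  have hg2 : g * g ∈ Subgroup.centralizer ({x} : Set G) := by
    rw [Subgroup.mem_centralizer_singleton_iff]
    have h1 : g * x = x⁻¹ * g := by
      rw [← hg]; group
    have h2' : g * x⁻¹ * g⁻¹ = x := by
      have h3 : (g * x * g⁻¹)⁻¹ = x⁻¹⁻¹ := by rw [hg]
      rw [inv_inv] at h3
      calc g * x⁻¹ * g⁻¹ = (g * x * g⁻¹)⁻¹ := by group
        _ = x := h3
    have h2 : g * x⁻¹ = x * g := by
      calc g * x⁻¹ = (g * x⁻¹ * g⁻¹) * g := by group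
        _ = x * g := by rw [h2']
    calc g * g * x = g * (g * x) := by group
      _ = g * (x⁻¹ * g) := by rw [h1]
      _ = (g * x⁻¹) * g := by group
      _ = x * g * g := by rw [h2]
      _ = x * (g * g) := by group
  have hg2pow : (g * g) ^ (2 * d + 1) = 1 := by
    have h1 : (⟨g * g, hg2⟩ : Subgroup.centralizer ({x} : Set G)) ^ (2 * d + 1) = 1 := by
      rw [← hcard]
      exact pow_card_eq_one'
    have := congrArg (fun z : Subgroup.centralizer ({x} : Set G) => (z : G)) h1
    simp only [Subgroup.coe_pow, Subgroup.coe_one] at this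
    exact this
  set a := g ^ (2 * d + 1) with ha
  have ha2 : a ^ 2 = 1 := by
    rw [ha, ← pow_mul, mul_comm, pow_mul, pow_two]
    exact hg2pow
  have hgd : (g * g) ^ d ∈ Subgroup.centralizer ({x} : Set G) := Subgroup.pow_mem _ hg2 d
  have hax : a * x * a⁻¹ = x⁻¹ := by
    have h1 : a = (g * g) ^ d * g := by
      rw [ha, ← pow_two, ← pow_mul, pow_succ]
    rw [Subgroup.mem_centralizer_singleton_iff] at hgd
    rw [h1]
    have h2 : (g * g) ^ d * g * x * ((g * g) ^ d * g)⁻¹ =
        (g * g) ^ d * (g * x * g⁻¹) * ((g * g) ^ d)⁻¹ := by group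
    rw [h2, hg]
    have h3 : (g * g) ^ d * x⁻¹ = x⁻¹ * (g * g) ^ d := by
      have : (g * g) ^ d * x⁻¹ = x⁻¹ * (x * (g * g) ^ d) * x⁻¹ := by group
      rw [this, ← hgd]
      group
    rw [h3]
    group
  have ha1 : a ≠ 1 := by
    intro h1
    rw [h1] at hax
    simp only [one_mul, inv_one, mul_one] at hax
    have h2 : x ^ 2 = 1 := by
      rw [pow_two]
      nth_rewrite 1 [hax]
      group
    have h3 : orderOf x ∣ 2 := orderOf_dvd_of_pow_eq_one h2
    rcases (Nat.dvd_prime Nat.prime_two).mp h3 with h4 | h4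
    · exact hx1 (orderOf_eq_one_iff.mp h4)
    · rw [h4] at hodd
      exact absurd hodd (by decide)
  haveI : Fact (Nat.Prime 2) := ⟨Nat.prime_two⟩
  have hao : orderOf a = 2 := orderOf_eq_prime ha2 ha1
  have := (D.t1.beta_pos_iff hodd hx1).mpr ⟨a, hao, hax⟩
  exact this hb

end step3

end Cfsg.Agent.Lib.Helper24
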