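import Mathlib
import Cfsg.Prelude.Def_Characters
import Cfsg.Agent.Lib.helper2.BSWDefs
import Cfsg.Agent.Lib.Helper24.BSW5D

set_option autoImplicit false
set_option linter.style.haveILetI false

namespace Cfsg.Agent.Lib.Helper24

open scoped ComplexConjugate
open Cfsg.Agent.Lib.helper2 Cfsg.Agent.Lib.Helper25

variable {G : Type*} [Group G] {t s : G} {K : Subgroup G} [Finite G] {X : G → ℂ}

theorem b5_inv_Y0 (D : B5Data t K s X) {x : G} (hx : bswOut K x) (hb : bswBeta x = 0) :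
    bswOut K x⁻¹ ∧ bswBeta x⁻¹ = 0 := by
  apply b5_Y0_cent D hx hb
  · group
  · intro h1
    exact b5_out_ne_one hx (inv_eq_one.mp h1)

theorem b5_two_classes (D : B5Data t K s X) {x y : G} (hx : bswOut K x) (hb : bswBeta x = 0)
    (hy : bswOut K y) (hyb : bswBeta y = 0) : IsConj x y ∨ IsConj x⁻¹ y := by
  classical
  haveI : Fintype G := Fintype.ofFinite _
  obtain ⟨d, hd1, hd, hd', hq, hG, hdodd⟩ := b5_arith_d D
  obtain ⟨_, _, hY0⟩ := b5_counts D.hyp D.t1 X D.irr D.deg D.card D.onK D.beta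
  rw [hq] at hY0
  obtain ⟨hxi, hxib⟩ := b5_inv_Y0 D hx hb
  set Y0 := Finset.univ.filter (fun x : G => bswOut K x ∧ bswBeta x = 0) with hY0def
  set c1 := Finset.univ.filter (fun z : G => IsConj x z) with hc1
  set c2 := Finset.univ.filter (fun z : G => IsConj x⁻¹ z) with hc2
  have hcard1 : c1.card = 2 * (d + 1) * d := by
    have h1 := card_conj_mul_card_centralizer x
    rw [b5_cent_card D hx hb, hq, hG, Nat.card_eq_fintype_card, Fintype.card_subtype] at h1
    exact Nat.eq_of_mul_eq_mul_right (by omega) h1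
  have hcard2 : c2.card = 2 * (d + 1) * d := by
    have h1 := card_conj_mul_card_centralizer x⁻¹
    rw [b5_cent_card D hxi hxib, hq, hG, Nat.card_eq_fintype_card, Fintype.card_subtype] at h1
    exact Nat.eq_of_mul_eq_mul_right (by omega) h1
  have hdisj : Disjoint c1 c2 := by
    rw [Finset.disjoint_left]
    intro z hz1 hz2
    rw [hc1, Finset.mem_filter] at hz1
    rw [hc2, Finset.mem_filter] at hz2
    exact b5_not_real D hx hb (hz1.2.trans hz2.2.symm)
  have hsub : c1 ∪ c2 ⊆ Y0 := by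
    intro z hz
    rw [Finset.mem_union] at hz
    rw [hY0def, Finset.mem_filter]
    refine ⟨Finset.mem_univ _, ?_⟩
    rcases hz with hz | hz
    · rw [hc1, Finset.mem_filter] at hz
      exact b5_class_sub hx hb hz.2
    · rw [hc2, Finset.mem_filter] at hz
      exact b5_class_sub hxi hxib hz.2
  have hcardU : Y0.card ≤ (c1 ∪ c2).card := by
    rw [Finset.card_union_of_disjoint hdisj, hcard1, hcard2]
    have h3 : (2 * d + 1) * (2 * d + 1) = 2 * (2 * (d + 1) * d) + 1 := by ring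
    omega
  have heq := Finset.eq_of_subset_of_card_le hsub hcardU
  have hyY : y ∈ Y0 := by
    rw [hY0def, Finset.mem_filter]
    exact ⟨Finset.mem_univ _, hy, hyb⟩
  rw [← heq, Finset.mem_union] at hyY
  rcases hyY with h1 | h1
  · left
    rw [hc1, Finset.mem_filter] at h1
    exact h1.2
  · right
    rw [hc2, Finset.mem_filter] at h1
    exact h1.2

omit [Finite G] in
theorem b5_isConj_order {x y : G} (h : IsConj x y) : orderOf x = orderOf y := by
  obtain ⟨g, rfl⟩ := isConj_iff.mp h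
  exact (b5_conj_inv_order g x).symm

theorem b5_same_order (D : B5Data t K s X) {x y : G} (hx : bswOut K x) (hb : bswBeta x = 0)
    (hy : bswOut K y) (hyb : bswBeta y = 0) : orderOf y = orderOf x := by
  rcases b5_two_classes D hx hb hy hyb with h1 | h1
  · exact (b5_isConj_order h1).symm
  · rw [← b5_isConj_order h1, orderOf_inv]

theorem b5_Y0_nonempty (D : B5Data t K s X) : ∃ x : G, bswOut K x ∧ bswBeta x = 0 := by
  classical
  haveI : Fintype G := Fintype.ofFinite _
  obtain ⟨d, hd1, hd, hd', hq, hG, hdodd⟩ := b5_arith_d D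
  obtain ⟨_, _, hY0⟩ := b5_counts D.hyp D.t1 X D.irr D.deg D.card D.onK D.beta
  rw [hq] at hY0
  have h3 : (2 * d + 1) * (2 * d + 1) = 2 * (2 * (d + 1) * d) + 1 := by ring
  have h4 : 0 < (Finset.univ.filter (fun x : G => bswOut K x ∧ bswBeta x = 0)).card := by
    have : 0 < 2 * (d + 1) * d := by positivity
    omega
  obtain ⟨x, hx⟩ := Finset.card_pos.mp h4
  exact ⟨x, (Finset.mem_filter.mp hx).2⟩

theorem b5_prime_order (D : B5Data t K s X) : ∃ p : ℕ, p.Prime ∧
    ∀ y : G, bswOut K y → bswBeta y = 0 → orderOf y = p := by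
  obtain ⟨x, hx, hb⟩ := b5_Y0_nonempty D
  have hx1 := b5_out_ne_one hx
  have ho1 : orderOf x ≠ 1 := fun h1 => hx1 (orderOf_eq_one_iff.mp h1)
  have ho0 : orderOf x ≠ 0 := (orderOf_pos x).ne'
  set p := (orderOf x).minFac with hp
  have hpp : p.Prime := Nat.minFac_prime ho1
  have hpd : p ∣ orderOf x := Nat.minFac_dvd _
  set z := x ^ (orderOf x / p) with hz
  have hzo : orderOf z = p := orderOf_pow_orderOf_div ho0 hpd
  have hz1 : z ≠ 1 := by
    intro h1
    rw [h1, orderOf_one] at hzo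
    exact hpp.one_lt.ne hzo
  have hzc : z * x = x * z := by
    rw [hz, ← pow_succ, ← pow_succ']
  obtain ⟨hzo', hzb⟩ := b5_Y0_cent D hx hb hzc hz1
  have h1 := b5_same_order D hx hb hzo' hzb
  refine ⟨p, hpp, ?_⟩
  intro y hy hyb
  rw [b5_same_order D hx hb hy hyb, ← h1, hzo]

theorem b5_cent_pgroup (D : B5Data t K s X) (p : ℕ)
    (hp : ∀ y : G, bswOut K y → bswBeta y = 0 → orderOf y = p)
    {x : G} (hx : bswOut K x) (hb : bswBeta x = 0) :
    IsPGroup p (Subgroup.centralizer ({x} : Set G)) := by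
  intro u
  by_cases hu : u = 1
  · exact ⟨0, by rw [hu]; simp⟩
  · refine ⟨1, ?_⟩
    have hu1 : (u : G) ≠ 1 := fun h1 => hu (Subtype.ext h1)
    have huc : (u : G) * x = x * (u : G) := Subgroup.mem_centralizer_singleton_iff.mp u.2
    obtain ⟨huo, hub⟩ := b5_Y0_cent D hx hb huc hu1
    have h1 := hp _ huo hub
    rw [pow_one]
    apply Subtype.ext
    rw [Subgroup.coe_pow, Subgroup.coe_one, ← h1]
    exact pow_orderOf_eq_one _

theorem b5_q_pow (D : B5Data t K s X) (p : ℕ) (hpp : p.Prime)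
    (hp : ∀ y : G, bswOut K y → bswBeta y = 0 → orderOf y = p) :
    ∃ k : ℕ, 2 * Nat.card K - 1 = p ^ k ∧ (Nat.card G).factorization p = k := by
  haveI : Fact p.Prime := ⟨hpp⟩
  obtain ⟨x, hx, hb⟩ := b5_Y0_nonempty D
  obtain ⟨k, hk⟩ := IsPGroup.iff_card.mp (b5_cent_pgroup D p hp hx hb)
  rw [b5_cent_card D hx hb] at hk
  refine ⟨k, hk, ?_⟩
  obtain ⟨d, hd1, hd, hd', hq, hG, hdodd⟩ := b5_arith_d D
  rw [hq] at hk
  have hk0 : k ≠ 0 := by
    rintro rfl
    rw [pow_zero] at hk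
    omega
  have hpq : p ∣ 2 * d + 1 := by
    rw [hk]
    exact dvd_pow_self p hk0
  have hnd : ¬ p ∣ 2 * (d + 1) * d := by
    intro h4
    rcases (Nat.Prime.dvd_mul hpp).mp h4 with h5 | h5
    · have h6 : 2 * (d + 1) = 2 * d + 1 + 1 := by ring
      rw [h6] at h5
      have : p ∣ 1 := (Nat.dvd_add_right hpq).mp h5
      exact hpp.one_lt.ne' (Nat.dvd_one.mp this)
    · have h6 : p ∣ 2 * d := Dvd.dvd.mul_left h5 2
      have : p ∣ 1 := (Nat.dvd_add_right h6).mp hpq
      exact hpp.one_lt.ne' (Nat.dvd_one.mp this)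
  have hne1 : 2 * (d + 1) * d ≠ 0 := by
    have : 0 < d := hd1
    positivity
  rw [hG, hk, Nat.factorization_mul hne1 (pow_pos hpp.pos k).ne']
  simp only [Finsupp.coe_add, Pi.add_apply]
  rw [Nat.factorization_eq_zero_of_not_dvd hnd, zero_add, Nat.Prime.factorization_pow hpp]
  simp

theorem b5_sylow_of_Y0 (D : B5Data t K s X) (p : ℕ) [hpf : Fact p.Prime]
    (hp : ∀ y : G, bswOut K y → bswBeta y = 0 → orderOf y = p)
    {x : G} (hx : bswOut K x) (hb : bswBeta x = 0) :
    ∃ S : Sylow p G, (S : Subgroup G) = Subgroup.centralizer ({x} : Set G) := by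
  obtain ⟨k, hk, hfac⟩ := b5_q_pow D p hpf.out hp
  have hc : Nat.card (Subgroup.centralizer ({x} : Set G)) = p ^ (Nat.card G).factorization p := by
    rw [hfac, ← hk]
    exact b5_cent_card D hx hb
  exact ⟨Sylow.ofCard _ hc, rfl⟩

theorem b5_sylow_card (D : B5Data t K s X) (p : ℕ) [hpf : Fact p.Prime]
    (hp : ∀ y : G, bswOut K y → bswBeta y = 0 → orderOf y = p) (S : Sylow p G) :
    Nat.card S = 2 * Nat.card K - 1 := by
  obtain ⟨k, hk, hfac⟩ := b5_q_pow D p hpf.out hp
  rw [S.card_eq_multiplicity, hfac, hk]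

theorem b5_sylow_Y0 (D : B5Data t K s X) (p : ℕ) [hpf : Fact p.Prime]
    (hp : ∀ y : G, bswOut K y → bswBeta y = 0 → orderOf y = p) (S : Sylow p G)
    {y : G} (hy : y ∈ S) (hy1 : y ≠ 1) : bswOut K y ∧ bswBeta y = 0 := by
  obtain ⟨x, hx, hb⟩ := b5_Y0_nonempty D
  obtain ⟨S0, hS0⟩ := b5_sylow_of_Y0 D p hp hx hb
  obtain ⟨g, hg⟩ := MulAction.exists_smul_eq G S S0
  have h1 : g * y * g⁻¹ ∈ ((g • S : Sylow p G) : Subgroup G) := by
    rw [Sylow.coe_subgroup_smul]
    have : g * y * g⁻¹ = MulAut.conj g • y := by simp [MulAut.smul_def]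
    rw [this, Subgroup.smul_mem_pointwise_smul_iff]
    exact hy
  rw [hg, hS0, Subgroup.mem_centralizer_singleton_iff] at h1
  have h2 : g * y * g⁻¹ ≠ 1 := by
    intro h4
    apply hy1
    have : y = g⁻¹ * (g * y * g⁻¹) * g := by group
    rw [this, h4]
    group
  obtain ⟨h3, h4⟩ := b5_Y0_cent D hx hb h1 h2
  exact ⟨(b5_out_conj_iff g).mp h3, by rw [← b5_beta_conj y g]; exact h4⟩

theorem b5_sylow_surj (D : B5Data t K s X) (p : ℕ) [hpf : Fact p.Prime]
    (hp : ∀ y : G, bswOut K y → bswBeta y = 0 → orderOf y = p) (S : Sylow p G) :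
    ∃ z : G, bswOut K z ∧ bswBeta z = 0 ∧ Subgroup.centralizer ({z} : Set G) = S := by
  obtain ⟨d, hd1, hd, hd', hq, hG, hdodd⟩ := b5_arith_d D
  have hcS := b5_sylow_card D p hp S
  haveI : Nontrivial (S : Subgroup G) := by
    rw [← Finite.one_lt_card_iff_nontrivial, hcS]
    omega
  haveI := IsPGroup.center_nontrivial S.2
  obtain ⟨z, hz⟩ := exists_ne (1 : Subgroup.center (S : Subgroup G))
  have hz1 : ((z : (S : Subgroup G)) : G) ≠ 1 := by
    intro h1
    apply hz
    apply Subtype.ext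
    apply Subtype.ext
    exact h1
  obtain ⟨hzo, hzb⟩ := b5_sylow_Y0 D p hp S (z : (S : Subgroup G)).2 hz1
  refine ⟨_, hzo, hzb, ?_⟩
  symm
  apply Subgroup.eq_of_le_of_card_ge
  · intro u hu
    rw [Subgroup.mem_centralizer_singleton_iff]
    have h1 := Subgroup.mem_center_iff.mp z.2 ⟨u, hu⟩
    have h2 := congrArg (fun w : (S : Subgroup G) => (w : G)) h1
    simp only [Subgroup.coe_mul] at h2
    exact h2
  · rw [b5_cent_card D hzo hzb, hcS]

end Cfsg.Agent.Lib.Helper24
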