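import Mathlib
import Cfsg.Prelude.Def_Characters
import Cfsg.Agent.Lib.helper2.BSWDefs
import Cfsg.Agent.Lib.Helper24.BSW5E

set_option autoImplicit false
set_option linter.style.haveILetI false

namespace Cfsg.Agent.Lib.Helper24

open scoped ComplexConjugate Pointwise
open Cfsg.Agent.Lib.helper2 Cfsg.Agent.Lib.Helper25

variable {G : Type*} [Group G] {t s : G} {K : Subgroup G} {X : G → ℂ}

theorem b5_sylow_smul_coe {p : ℕ} (g : G) (S : Sylow p G) :
    ((g • S : Sylow p G) : Subgroup G) = (S : Subgroup G).map (MulAut.conj g).toMonoidHom := by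
  rw [Sylow.coe_subgroup_smul]
  rfl

theorem b5_mem_map_conj (P : Subgroup G) (g y : G) :
    y ∈ P.map (MulAut.conj g).toMonoidHom ↔ g⁻¹ * y * g ∈ P := by
  rw [Subgroup.mem_map]
  constructor
  · rintro ⟨z, hz, rfl⟩
    simp only [MulEquiv.coe_toMonoidHom, MulAut.conj_apply]
    have : g⁻¹ * (g * z * g⁻¹) * g = z := by group
    rw [this]
    exact hz
  · intro h
    refine ⟨_, h, ?_⟩
    simp only [MulEquiv.coe_toMonoidHom, MulAut.conj_apply]
    group

section fin

variable [Fintype G]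

noncomputable def b5F (K : Subgroup G) (P : Subgroup G) : Finset G := by
  classical
  exact Finset.univ.filter (fun y => bswOut K y ∧ bswBeta y = 0 ∧
    Subgroup.centralizer ({y} : Set G) = P)

theorem mem_b5F {P : Subgroup G} {y : G} : y ∈ b5F K P ↔
    bswOut K y ∧ bswBeta y = 0 ∧ Subgroup.centralizer ({y} : Set G) = P := by
  classical
  unfold b5F
  simp only [Finset.mem_filter, Finset.mem_univ, true_and]

theorem b5F_sub {P : Subgroup G} {y : G} (hy : y ∈ b5F K P) : y ∈ P := by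
  rw [mem_b5F] at hy
  rw [← hy.2.2, Subgroup.mem_centralizer_singleton_iff]

theorem b5F_ne_one {P : Subgroup G} {y : G} (hy : y ∈ b5F K P) : y ≠ 1 := by
  rw [mem_b5F] at hy
  exact b5_out_ne_one hy.1

theorem b5F_conj (P : Subgroup G) (g : G) :
    (b5F K (P.map (MulAut.conj g).toMonoidHom)).card = (b5F K P).card := by
  symm
  apply Finset.card_nbij' (fun y => g * y * g⁻¹) (fun y => g⁻¹ * y * g)
  · intro y hy
    rw [Finset.mem_coe, mem_b5F] at hy ⊢
    refine ⟨b5_out_conj hy.1 g, by rw [b5_beta_conj]; exact hy.2.1, ?_⟩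
    rw [b5_centralizer_conj, hy.2.2]
  · intro y hy
    rw [Finset.mem_coe, mem_b5F] at hy ⊢
    beta_reduce
    have h1 : g⁻¹ * y * g = g⁻¹ * y * g⁻¹⁻¹ := by group
    refine ⟨by rw [h1]; exact b5_out_conj hy.1 g⁻¹, by rw [h1, b5_beta_conj]; exact hy.2.1, ?_⟩
    rw [h1, b5_centralizer_conj, hy.2.2]
    ext z
    rw [b5_mem_map_conj, b5_mem_map_conj]
    have : g⁻¹ * (g⁻¹⁻¹ * z * g⁻¹) * g = z := by group
    rw [this]
  · intro y _
    group
  · intro y _
    group

theorem b5F_card_eq [Finite G] {p : ℕ} [Fact p.Prime] (P P' : Sylow p G) :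
    (b5F K (P' : Subgroup G)).card = (b5F K (P : Subgroup G)).card := by
  obtain ⟨g, hg⟩ := MulAction.exists_smul_eq G P P'
  rw [← hg, b5_sylow_smul_coe, b5F_conj]

theorem b5F_sum (D : B5Data t K s X) (p : ℕ) [hpf : Fact p.Prime] [Fintype (Sylow p G)]
    (hp : ∀ y : G, bswOut K y → bswBeta y = 0 → orderOf y = p) :
    ∑ P : Sylow p G, (b5F K (P : Subgroup G)).card + 1 =
      (2 * Nat.card K - 1) * (2 * Nat.card K - 1) := by
  classical
  obtain ⟨_, _, hY0⟩ := b5_counts D.hyp D.t1 X D.irr D.deg D.card D.onK D.beta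
  rw [← hY0]
  congr 1
  rw [← Finset.card_biUnion]
  · congr 1
    ext y
    rw [Finset.mem_biUnion, Finset.mem_filter]
    constructor
    · rintro ⟨P, _, hy⟩
      rw [mem_b5F] at hy
      exact ⟨Finset.mem_univ _, hy.1, hy.2.1⟩
    · rintro ⟨_, hy, hyb⟩
      obtain ⟨S, hS⟩ := b5_sylow_of_Y0 D p hp hy hyb
      exact ⟨S, Finset.mem_univ _, mem_b5F.mpr ⟨hy, hyb, hS.symm⟩⟩
  · intro P _ P' _ hne
    rw [Function.onFun, Finset.disjoint_left]
    intro y hy hy'
    rw [mem_b5F] at hy hy'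
    apply hne
    apply Sylow.ext
    rw [← hy.2.2, ← hy'.2.2]

omit [Fintype G] in
theorem b5_np_mul [Finite G] (p : ℕ) [hpf : Fact p.Prime] [Fintype (Sylow p G)]
    (Q : Sylow p G) :
    Fintype.card (Sylow p G) * Nat.card (Subgroup.normalizer ((Q : Subgroup G) : Set G)) =
      Nat.card G := by
  rw [← Nat.card_eq_fintype_card, Sylow.card_eq_index_normalizer Q, mul_comm]
  exact Subgroup.card_mul_index _

end fin

end Cfsg.Agent.Lib.Helper24
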