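import Mathlib
import Cfsg.Prelude.Def_Characters
import Cfsg.Agent.Lib.helper2.BSWDefs
import Cfsg.Agent.Lib.Helper24.BSW5F

set_option autoImplicit false
set_option linter.style.haveILetI false

namespace Cfsg.Agent.Lib.Helper24

open scoped ComplexConjugate Pointwise
open Cfsg.Agent.Lib.helper2 Cfsg.Agent.Lib.Helper25

variable {G : Type*} [Group G] {t s : G} {K : Subgroup G} {X : G → ℂ}

theorem b5_invol_sq {a : G} (ha : orderOf a = 2) : a * a = 1 := by
  have := pow_orderOf_eq_one a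
  rw [ha, pow_two] at this
  exact this

theorem b5_invol_inv {a : G} (ha : orderOf a = 2) : a⁻¹ = a :=
  inv_eq_of_mul_eq_one_left (b5_invol_sq ha)

theorem b5_mem_smul_sylow {p : ℕ} (g y : G) (S : Sylow p G) :
    y ∈ ((g • S : Sylow p G) : Subgroup G) ↔ g⁻¹ * y * g ∈ (S : Subgroup G) := by
  rw [b5_sylow_smul_coe, b5_mem_map_conj]

theorem b5_inter_invol [Finite G] (D : B5Data t K s X) (p : ℕ) [hpf : Fact p.Prime]
    (hp : ∀ y : G, bswOut K y → bswBeta y = 0 → orderOf y = p) (Q : Sylow p G)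
    {a : G} (ha : orderOf a = 2) {y : G} (hy : y ∈ Q) (hy' : a * y * a⁻¹ ∈ Q) : y = 1 := by
  by_contra hy1
  have haa := b5_invol_sq ha
  have hai := b5_invol_inv ha
  set u := y⁻¹ * (a * y * a⁻¹) with hu
  have huQ : u ∈ Q := Q.mul_mem (Q.inv_mem hy) hy'
  have hinv : a * u * a⁻¹ = u⁻¹ := by
    rw [hu, hai]
    calc a * (y⁻¹ * (a * y * a)) * a = a * y⁻¹ * a * y * (a * a) := by group
      _ = a * y⁻¹ * a * y := by rw [haa, mul_one]
      _ = (y⁻¹ * (a * y * a))⁻¹ * (a * a) * (a * a) := by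
        rw [haa]
        simp only [mul_inv_rev, inv_inv, mul_one]
        rw [hai]
        group
      _ = (y⁻¹ * (a * y * a))⁻¹ := by rw [haa, mul_one, mul_one]
  obtain ⟨hyo, hyb⟩ := b5_sylow_Y0 D p hp Q hy hy1
  by_cases hu1 : u = 1
  · have hc : a * y = y * a := by
      have h1 : a * y * a⁻¹ = y := by
        have : a * y * a⁻¹ = y * u := by rw [hu]; group
        rw [this, hu1, mul_one]
      calc a * y = (a * y * a⁻¹) * a := by group
        _ = y * a := by rw [h1]
    exact b5_no_invol_commute D.t1 hyo ha hc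
  · obtain ⟨huo, hub⟩ := b5_sylow_Y0 D p hp Q huQ hu1
    have := (D.t1.beta_pos_iff (D.t1.out_odd huo) hu1).mpr ⟨a, ha, hinv⟩
    exact this hub

section fin

variable [Fintype G]

noncomputable def b5I (G : Type*) [Group G] [Fintype G] : Finset G := by
  classical
  exact Finset.univ.filter (fun a : G => orderOf a = 2)

omit [Fintype G] in
theorem mem_b5I [Fintype G] {a : G} : a ∈ b5I G ↔ orderOf a = 2 := by
  classical
  unfold b5I
  simp only [Finset.mem_filter, Finset.mem_univ, true_and]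

theorem b5I_card (D : B5Data t K s X) :
    (b5I G).card = (Nat.card K - 1) * (2 * Nat.card K - 1) := by
  classical
  obtain ⟨h1, _, _⟩ := b5_counts D.hyp D.t1 X D.irr D.deg D.card D.onK D.beta
  rw [← h1, Nat.card_eq_fintype_card, Fintype.card_subtype]
  unfold b5I
  congr 1

noncomputable def b5Sub (P : Subgroup G) : Finset G := by
  classical
  exact Finset.univ.filter (fun y : G => y ∈ P)

theorem mem_b5Sub {P : Subgroup G} {y : G} : y ∈ b5Sub P ↔ y ∈ P := by
  classical
  unfold b5Sub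
  simp only [Finset.mem_filter, Finset.mem_univ, true_and]

theorem b5Sub_card (P : Subgroup G) : (b5Sub P).card = Nat.card P := by
  classical
  unfold b5Sub
  rw [Nat.card_eq_fintype_card, Fintype.card_subtype]

theorem b5_fibre_bound (D : B5Data t K s X) (p : ℕ) [hpf : Fact p.Prime]
    (hp : ∀ y : G, bswOut K y → bswBeta y = 0 → orderOf y = p) (Q : Sylow p G)
    {a : G} (ha : orderOf a = 2) (fib : Finset G)
    (hfib : ∀ b ∈ fib, orderOf b = 2 ∧ b • Q = a • Q) :
    fib.card * Nat.card Q ≤ Nat.card (Subgroup.normalizer ((Q : Subgroup G) : Set G)) := by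
  classical
  rw [← b5Sub_card, ← b5Sub_card, ← Finset.card_product]
  have hai := b5_invol_inv ha
  apply Finset.card_le_card_of_injOn (fun z : G × G => z.1 * a * z.2)
  · intro z hz
    rw [Finset.mem_coe, Finset.mem_product] at hz
    rw [Finset.mem_coe, mem_b5Sub]
    obtain ⟨hb2, hbQ⟩ := hfib z.1 hz.1
    have h1 : (a⁻¹ * z.1) • Q = Q := by
      rw [mul_smul, hbQ, ← mul_smul, inv_mul_cancel, one_smul]
    rw [Sylow.smul_eq_iff_mem_normalizer] at h1
    have h2 := Subgroup.inv_mem _ h1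
    have h3 : (a⁻¹ * z.1)⁻¹ = z.1 * a := by
      rw [mul_inv_rev, inv_inv, b5_invol_inv hb2]
    rw [h3] at h2
    exact Subgroup.mul_mem _ h2 (Subgroup.le_normalizer (mem_b5Sub.mp hz.2))
  · intro z hz z' hz' heq
    rw [Finset.mem_coe, Finset.mem_product] at hz hz'
    obtain ⟨hb2, hbQ⟩ := hfib z.1 hz.1
    obtain ⟨hb2', hbQ'⟩ := hfib z'.1 hz'.1
    have hu := mem_b5Sub.mp hz.2
    have hu' := mem_b5Sub.mp hz'.2
    simp only at heq
    set r := z.2 * z'.2⁻¹ with hr
    have hrQ : r ∈ Q := Q.mul_mem hu (Q.inv_mem hu')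
    set v := a * r * a⁻¹ with hv
    have hb' : z'.1 = z.1 * v := by
      have h1 : z'.1 = (z'.1 * a * z'.2) * z'.2⁻¹ * a⁻¹ := by group
      rw [h1, ← heq, hv, hr]
      group
    have hvQ' : v ∈ ((a • Q : Sylow p G) : Subgroup G) := by
      rw [b5_mem_smul_sylow, hv]
      have : a⁻¹ * (a * r * a⁻¹) * a = r := by group
      rw [this]
      exact hrQ
    have hbvb : z.1 * v * z.1⁻¹ = v⁻¹ := by
      have h1 := b5_invol_sq hb2'
      rw [hb'] at h1
      have h2 := b5_invol_inv hb2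
      rw [h2]
      have h3 : z.1 * v * z.1 = v⁻¹ * (v * (z.1 * v * z.1)) := by group
      have h4 : v * (z.1 * v * z.1) = z.1⁻¹ * (z.1 * v * (z.1 * v)) * z.1 := by group
      rw [h3, h4, h1, h2]
      have h5 := b5_invol_sq hb2
      calc v⁻¹ * (z.1 * 1 * z.1) = v⁻¹ * (z.1 * z.1) := by group
        _ = v⁻¹ := by rw [h5, mul_one]
    have hvQ : v ∈ Q := by
      rw [← hbQ, b5_mem_smul_sylow] at hvQ'
      have h2 := b5_invol_inv hb2
      rw [h2] at hvQ'
      have h3 : z.1 * v * z.1 = z.1 * v * z.1⁻¹ := by rw [h2]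
      rw [h3, hbvb] at hvQ'
      have := Q.inv_mem hvQ'
      rwa [inv_inv] at this
    have hr1 : r = 1 := b5_inter_invol D p hp Q ha hrQ hvQ
    have hv1 : v = 1 := by rw [hv, hr1]; group
    have h22 : z.2 = z'.2 := by
      have : z.2 = r * z'.2 := by rw [hr]; group
      rw [this, hr1, one_mul]
    apply Prod.ext
    · rw [hb', hv1, mul_one]
    · exact h22

end fin

end Cfsg.Agent.Lib.Helper24
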