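import Mathlib
import Cfsg.Prelude.Def_Characters
import Cfsg.Agent.Lib.helper2.BSWDefs
import Cfsg.Agent.Lib.Helper24.BSW5G

set_option autoImplicit false
set_option linter.style.haveILetI false

namespace Cfsg.Agent.Lib.Helper24

open scoped ComplexConjugate Pointwise
open Cfsg.Agent.Lib.helper2 Cfsg.Agent.Lib.Helper25

variable {G : Type*} [Group G] {t s : G} {K : Subgroup G} {X : G → ℂ}

section fin

variable [Fintype G]

noncomputable def b5Nb {p : ℕ} [Fintype (Sylow p G)] (Q : Sylow p G) : Finset (Sylow p G) := by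
  classical
  exact Finset.univ.filter (fun P => P ≠ Q ∧ (P : Subgroup G) ⊓ (Q : Subgroup G) ≠ ⊥)

omit [Fintype G] in
theorem mem_b5Nb {p : ℕ} [Fintype (Sylow p G)] {P Q : Sylow p G} :
    P ∈ b5Nb Q ↔ P ≠ Q ∧ (P : Subgroup G) ⊓ (Q : Subgroup G) ≠ ⊥ := by
  classical
  unfold b5Nb
  simp only [Finset.mem_filter, Finset.mem_univ, true_and]

noncomputable def b5FQ (K : Subgroup G) (P Q : Subgroup G) : Finset G := by
  classical
  exact (b5F K P).filter (fun y => y ∈ Q)

theorem mem_b5FQ {P Q : Subgroup G} {y : G} : y ∈ b5FQ K P Q ↔ y ∈ b5F K P ∧ y ∈ Q := by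
  classical
  unfold b5FQ
  simp only [Finset.mem_filter]

theorem b5FQ_card_le (P Q : Subgroup G) : (b5FQ K P Q).card ≤ (b5F K P).card := by
  classical
  unfold b5FQ
  exact Finset.card_filter_le _ _

theorem b5FQ_eq_of_card {P Q : Subgroup G} (h : (b5FQ K P Q).card = (b5F K P).card) :
    ∀ y ∈ b5F K P, y ∈ Q := by
  classical
  intro y hy
  have h1 : b5FQ K P Q = b5F K P := by
    apply Finset.eq_of_subset_of_card_le
    · intro z hz
      exact (mem_b5FQ.mp hz).1
    · rw [h]
  rw [← h1] at hy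
  exact (mem_b5FQ.mp hy).2

theorem b5_lower (D : B5Data t K s X) (p : ℕ) [hpf : Fact p.Prime] [Fintype (Sylow p G)]
    (hp : ∀ y : G, bswOut K y → bswBeta y = 0 → orderOf y = p) (Q : Sylow p G) :
    (b5F K (Q : Subgroup G)).card +
      ∑ P ∈ b5Nb Q, (b5FQ K (P : Subgroup G) (Q : Subgroup G)).card + 1 =
      2 * Nat.card K - 1 := by
  classical
  have hcQ := b5_sylow_card D p hp Q
  rw [← hcQ, ← b5Sub_card]
  have h1mem : (1 : G) ∈ b5Sub (Q : Subgroup G) := mem_b5Sub.mpr (Subgroup.one_mem _)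
  have hpairs : ((b5Nb Q : Finset (Sylow p G)) : Set (Sylow p G)).PairwiseDisjoint
      (fun P => b5FQ K (P : Subgroup G) (Q : Subgroup G)) := by
    intro P _ P' _ hne
    rw [Function.onFun, Finset.disjoint_left]
    intro y hy hy'
    have h1 := (mem_b5F.mp (mem_b5FQ.mp hy).1).2.2
    have h2 := (mem_b5F.mp (mem_b5FQ.mp hy').1).2.2
    apply hne
    apply Sylow.ext
    rw [← h1, ← h2]
  rw [← Finset.card_biUnion hpairs]
  have hdisj : Disjoint (b5F K (Q : Subgroup G))
      ((b5Nb Q).biUnion (fun P => b5FQ K (P : Subgroup G) (Q : Subgroup G))) := by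
    rw [Finset.disjoint_left]
    intro y hy hy'
    rw [Finset.mem_biUnion] at hy'
    obtain ⟨P, hP, hyP⟩ := hy'
    have h1 := (mem_b5F.mp (mem_b5FQ.mp hyP).1).2.2
    have h2 := (mem_b5F.mp hy).2.2
    apply (mem_b5Nb.mp hP).1
    apply Sylow.ext
    rw [← h1, ← h2]
  rw [← Finset.card_union_of_disjoint hdisj]
  have heq : b5F K (Q : Subgroup G) ∪
      (b5Nb Q).biUnion (fun P => b5FQ K (P : Subgroup G) (Q : Subgroup G)) =
      (b5Sub (Q : Subgroup G)).erase 1 := by
    ext y
    rw [Finset.mem_union, Finset.mem_biUnion, Finset.mem_erase, mem_b5Sub]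
    constructor
    · rintro (hy | ⟨P, _, hy⟩)
      · exact ⟨b5F_ne_one hy, b5F_sub hy⟩
      · exact ⟨b5F_ne_one (mem_b5FQ.mp hy).1, (mem_b5FQ.mp hy).2⟩
    · rintro ⟨hy1, hyQ⟩
      obtain ⟨hyo, hyb⟩ := b5_sylow_Y0 D p hp Q hyQ hy1
      obtain ⟨S, hS⟩ := b5_sylow_of_Y0 D p hp hyo hyb
      have hyS : y ∈ (S : Subgroup G) := by
        rw [hS, Subgroup.mem_centralizer_singleton_iff]
      by_cases hSQ : S = Q
      · left
        rw [← hSQ]
        exact mem_b5F.mpr ⟨hyo, hyb, hS.symm⟩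
      · right
        refine ⟨S, mem_b5Nb.mpr ⟨hSQ, ?_⟩, mem_b5FQ.mpr ⟨mem_b5F.mpr ⟨hyo, hyb, hS.symm⟩, hyQ⟩⟩
        intro hbot
        have : y ∈ (S : Subgroup G) ⊓ (Q : Subgroup G) := ⟨hyS, hyQ⟩
        rw [hbot, Subgroup.mem_bot] at this
        exact hy1 this
  rw [heq, Finset.card_erase_of_mem h1mem]
  have : 0 < (b5Sub (Q : Subgroup G)).card := Finset.card_pos.mpr ⟨1, h1mem⟩
  omega

theorem b5_upper (D : B5Data t K s X) (p : ℕ) [hpf : Fact p.Prime] [Fintype (Sylow p G)]
    (hp : ∀ y : G, bswOut K y → bswBeta y = 0 → orderOf y = p) (Q : Sylow p G) :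
    ∃ M : ℕ, M + 1 + (b5Nb Q).card ≤ Fintype.card (Sylow p G) ∧
      (b5I G).card * Nat.card Q ≤
        Nat.card (Subgroup.normalizer ((Q : Subgroup G) : Set G)) * M := by
  classical
  obtain ⟨d, hd1, hd, hd', hq, hG, hdodd⟩ := b5_arith_d D
  have hcQ := b5_sylow_card D p hp Q
  set img := (b5I G).image (fun a => a • Q) with himg
  have hinter : ∀ a ∈ b5I G, ((a • Q : Sylow p G) : Subgroup G) ⊓ (Q : Subgroup G) = ⊥ := by
    intro a ha
    rw [mem_b5I] at ha
    rw [Subgroup.eq_bot_iff_forall]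
    intro y hy
    rw [Subgroup.mem_inf] at hy
    obtain ⟨hy1, hy2⟩ := hy
    rw [b5_mem_smul_sylow] at hy1
    have hai := b5_invol_inv ha
    have h1 : a⁻¹ * y * a = a * y * a⁻¹ := by rw [hai]
    rw [h1] at hy1
    exact b5_inter_invol D p hp Q ha hy2 hy1
  have hQbot : (Q : Subgroup G) ≠ ⊥ := by
    intro h1
    have h2 : Nat.card (Q : Subgroup G) = 1 := by rw [h1]; exact Subgroup.card_bot
    rw [hcQ] at h2
    omega
  have hd1' : Disjoint img ({Q} ∪ b5Nb Q) := by
    rw [Finset.disjoint_left]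
    intro P hP hP'
    rw [himg, Finset.mem_image] at hP
    obtain ⟨a, ha, rfl⟩ := hP
    have h1 := hinter a ha
    rw [Finset.mem_union, Finset.mem_singleton] at hP'
    rcases hP' with h2 | h2
    · rw [h2, inf_idem] at h1
      exact hQbot h1
    · exact (mem_b5Nb.mp h2).2 h1
  have hd2 : Disjoint ({Q} : Finset (Sylow p G)) (b5Nb Q) := by
    rw [Finset.disjoint_singleton_left]
    intro h1
    exact (mem_b5Nb.mp h1).1 rfl
  refine ⟨img.card, ?_, ?_⟩
  · have h1 : (img ∪ ({Q} ∪ b5Nb Q)).card ≤ Fintype.card (Sylow p G) := by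
      rw [← Finset.card_univ]
      exact Finset.card_le_card (Finset.subset_univ _)
    rw [Finset.card_union_of_disjoint hd1', Finset.card_union_of_disjoint hd2,
      Finset.card_singleton] at h1
    omega
  · set N := Nat.card (Subgroup.normalizer ((Q : Subgroup G) : Set G)) with hN
    have hqN : Nat.card Q ∣ N := Subgroup.card_dvd_of_le Subgroup.le_normalizer
    have hqpos : 0 < Nat.card Q := Nat.card_pos
    have h1 : (b5I G).card ≤ (N / Nat.card Q) * img.card := by
      apply Finset.card_le_mul_card_image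
      intro P hP
      rw [Finset.mem_image] at hP
      obtain ⟨a, ha, rfl⟩ := hP
      rw [Nat.le_div_iff_mul_le hqpos]
      apply b5_fibre_bound D p hp Q (mem_b5I.mp ha)
      intro b hb
      rw [Finset.mem_filter] at hb
      exact ⟨mem_b5I.mp hb.1, hb.2⟩
    calc (b5I G).card * Nat.card Q ≤ (N / Nat.card Q) * img.card * Nat.card Q :=
          Nat.mul_le_mul_right _ h1
      _ = (N / Nat.card Q * Nat.card Q) * img.card := by ring
      _ = N * img.card := by rw [Nat.div_mul_cancel hqN]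

end fin

theorem b5_arith2 (d w np z nb S M : ℕ) (hd : 1 ≤ d)
    (h1 : np * ((2 * d + 1) * w) = 2 * (d + 1) * d * (2 * d + 1))
    (h2 : np * z + 1 = (2 * d + 1) * (2 * d + 1))
    (h3 : z + S + 1 = 2 * d + 1)
    (h4 : S ≤ nb * z)
    (h5 : M + 1 + nb ≤ np)
    (h6 : d * (2 * d + 1) * (2 * d + 1) ≤ (2 * d + 1) * w * M) :
    w * (1 + nb) = d ∧ z = 2 * w ∧ S = nb * z := by
  have hq : 0 < 2 * d + 1 := by omega
  have e1 : np * w = 2 * (d + 1) * d := by
    have : (2 * d + 1) * (np * w) = (2 * d + 1) * (2 * (d + 1) * d) := by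
      calc (2 * d + 1) * (np * w) = np * ((2 * d + 1) * w) := by ring
        _ = 2 * (d + 1) * d * (2 * d + 1) := h1
        _ = (2 * d + 1) * (2 * (d + 1) * d) := by ring
    exact Nat.eq_of_mul_eq_mul_left hq this
  have hpos : 0 < 2 * (d + 1) * d := by
    have : 0 < d := hd
    positivity
  have e2 : np * z = 2 * (np * w) := by
    rw [e1]
    have : (2 * d + 1) * (2 * d + 1) = 2 * (2 * (d + 1) * d) + 1 := by ring
    omega
  have hnp : 0 < np := by
    rcases Nat.eq_zero_or_pos np with h0 | h0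
    · rw [h0, zero_mul] at e1
      omega
    · exact h0
  have e3 : z = 2 * w := by
    have : np * z = np * (2 * w) := by rw [e2]; ring
    exact Nat.eq_of_mul_eq_mul_left hnp this
  have e4 : d * (2 * d + 1) ≤ w * M := by
    have : (2 * d + 1) * (d * (2 * d + 1)) ≤ (2 * d + 1) * (w * M) := by
      calc (2 * d + 1) * (d * (2 * d + 1)) = d * (2 * d + 1) * (2 * d + 1) := by ring
        _ ≤ (2 * d + 1) * w * M := h6
        _ = (2 * d + 1) * (w * M) := by ring
    exact Nat.le_of_mul_le_mul_left this hq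
  have e5 : w * M + w * (1 + nb) ≤ np * w := by
    have := Nat.mul_le_mul_left w h5
    calc w * M + w * (1 + nb) = w * (M + 1 + nb) := by ring
      _ ≤ w * np := this
      _ = np * w := by ring
  have e6 : w * (1 + nb) ≤ d := by
    rw [e1] at e5
    have : 2 * (d + 1) * d = d * (2 * d + 1) + d := by ring
    omega
  have e7 : d ≤ w * (1 + nb) := by
    subst e3
    have h7 : nb * (2 * w) = 2 * (w * nb) := by ring
    have h8 : w * (1 + nb) = w + w * nb := by ring
    omega
  have e8 : w * (1 + nb) = d := le_antisymm e6 e7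
  refine ⟨e8, e3, ?_⟩
  subst e3
  have h7 : nb * (2 * w) = 2 * (w * nb) := by ring
  have h8 : w * (1 + nb) = w + w * nb := by ring
  omega

end Cfsg.Agent.Lib.Helper24
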