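import Mathlib
import Cfsg.Prelude.Def_Characters
import Cfsg.Agent.Lib.helper2.BSWDefs
import Cfsg.Agent.Lib.Helper24.BSW5H

set_option autoImplicit false
set_option linter.style.haveILetI false

namespace Cfsg.Agent.Lib.Helper24

open scoped ComplexConjugate Pointwise
open Cfsg.Agent.Lib.helper2 Cfsg.Agent.Lib.Helper25

variable {G : Type*} [Group G] {t s : G} {K : Subgroup G} {X : G → ℂ}

section fin

variable [Fintype G]

theorem b5_nb_full (D : B5Data t K s X) (p : ℕ) [hpf : Fact p.Prime] [Fintype (Sylow p G)]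
    (hp : ∀ y : G, bswOut K y → bswBeta y = 0 → orderOf y = p) (Q : Sylow p G) :
    ∃ w : ℕ, Nat.card (Subgroup.normalizer ((Q : Subgroup G) : Set G)) =
        (2 * Nat.card K - 1) * w ∧
      w * (1 + (b5Nb Q).card) = Nat.card K - 1 ∧
      (b5F K (Q : Subgroup G)).card = 2 * w ∧
      ∀ P ∈ b5Nb Q, ∀ y ∈ b5F K (P : Subgroup G), y ∈ Q := by
  classical
  obtain ⟨d, hd1, hd, hd', hq, hG, hdodd⟩ := b5_arith_d D
  have hcQ := b5_sylow_card D p hp Q
  have hlow := b5_lower D p hp Q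
  obtain ⟨M, hM1, hM2⟩ := b5_upper D p hp Q
  have hnp := b5_np_mul p Q
  have hsum := b5F_sum D p hp
  have hIc := b5I_card D
  have hqN : Nat.card Q ∣ Nat.card (Subgroup.normalizer ((Q : Subgroup G) : Set G)) :=
    Subgroup.card_dvd_of_le Subgroup.le_normalizer
  obtain ⟨w, hw⟩ := hqN
  rw [hcQ] at hw hM2
  rw [hq] at hw hM2 hlow hsum
  rw [hd', hq] at hIc
  rw [hd']
  rw [hw, hIc] at hM2
  rw [hw, hG] at hnp
  have hz : ∀ P : Sylow p G, (b5F K (P : Subgroup G)).card = (b5F K (Q : Subgroup G)).card :=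
    fun P => b5F_card_eq Q P
  have hsum' : Fintype.card (Sylow p G) * (b5F K (Q : Subgroup G)).card + 1 =
      (2 * d + 1) * (2 * d + 1) := by
    rw [← hsum]
    congr 1
    rw [Finset.sum_congr rfl (fun P _ => hz P), Finset.sum_const, Finset.card_univ, smul_eq_mul]
  have hS : ∑ P ∈ b5Nb Q, (b5FQ K (P : Subgroup G) (Q : Subgroup G)).card ≤
      (b5Nb Q).card * (b5F K (Q : Subgroup G)).card := by
    rw [← smul_eq_mul, ← Finset.sum_const]
    apply Finset.sum_le_sum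
    intro P _
    rw [← hz P]
    exact b5FQ_card_le _ _
  obtain ⟨e1, e2, e3⟩ := b5_arith2 d w (Fintype.card (Sylow p G))
    (b5F K (Q : Subgroup G)).card (b5Nb Q).card
    (∑ P ∈ b5Nb Q, (b5FQ K (P : Subgroup G) (Q : Subgroup G)).card) M hd1 hnp hsum' hlow hS hM1 hM2
  refine ⟨w, by rw [hq]; exact hw, e1, e2, ?_⟩
  have h5 : ∑ P ∈ b5Nb Q, (b5FQ K (P : Subgroup G) (Q : Subgroup G)).card =
      ∑ P ∈ b5Nb Q, (b5F K (P : Subgroup G)).card := by
    rw [e3, Finset.sum_congr rfl (fun P _ => hz P), Finset.sum_const, smul_eq_mul]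
  have hle : ∀ P ∈ b5Nb Q, (b5FQ K (P : Subgroup G) (Q : Subgroup G)).card ≤
      (b5F K (P : Subgroup G)).card := fun P _ => b5FQ_card_le _ _
  have h6 := (Finset.sum_eq_sum_iff_of_le hle).mp h5
  intro P hP
  exact b5FQ_eq_of_card (h6 P hP)

theorem b5_nb_empty (D : B5Data t K s X) (p : ℕ) [hpf : Fact p.Prime] [Fintype (Sylow p G)]
    (hp : ∀ y : G, bswOut K y → bswBeta y = 0 → orderOf y = p) (Q : Sylow p G) :
    b5Nb Q = ∅ := by
  classical
  rw [Finset.eq_empty_iff_forall_notMem]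
  intro P hP
  have hfull : ∀ Q' : Sylow p G, ∀ P' ∈ b5Nb Q', ∀ y ∈ b5F K (P' : Subgroup G), y ∈ Q' := by
    intro Q'
    obtain ⟨_, _, _, _, h⟩ := b5_nb_full D p hp Q'
    exact h
  have hsym : ∀ {A B : Sylow p G}, A ∈ b5Nb B → B ∈ b5Nb A := by
    intro A B hAB
    rw [mem_b5Nb] at hAB ⊢
    exact ⟨fun h => hAB.1 h.symm, by rw [inf_comm]; exact hAB.2⟩
  obtain ⟨z0, hz0o, hz0b, hz0c⟩ := b5_sylow_surj D p hp Q
  have hz0F : z0 ∈ b5F K (Q : Subgroup G) := mem_b5F.mpr ⟨hz0o, hz0b, hz0c⟩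
  have hz01 := b5_out_ne_one hz0o
  have hz0P : z0 ∈ P := hfull P Q (hsym hP) z0 hz0F
  have hle : (Q : Subgroup G) ≤ (P : Subgroup G) := by
    intro y hyQ
    by_cases hy1 : y = 1
    · rw [hy1]; exact Subgroup.one_mem _
    obtain ⟨hyo, hyb⟩ := b5_sylow_Y0 D p hp Q hyQ hy1
    obtain ⟨S, hS⟩ := b5_sylow_of_Y0 D p hp hyo hyb
    have hyF : y ∈ b5F K (S : Subgroup G) := mem_b5F.mpr ⟨hyo, hyb, hS.symm⟩
    have hyS : y ∈ (S : Subgroup G) := b5F_sub hyF
    by_cases hSQ : S = Q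
    · rw [hSQ] at hyF
      exact hfull P Q (hsym hP) y hyF
    · have hSnb : S ∈ b5Nb Q := by
        rw [mem_b5Nb]
        refine ⟨hSQ, ?_⟩
        intro hbot
        have : y ∈ (S : Subgroup G) ⊓ (Q : Subgroup G) := ⟨hyS, hyQ⟩
        rw [hbot, Subgroup.mem_bot] at this
        exact hy1 this
      have hz0S : z0 ∈ S := hfull S Q (hsym hSnb) z0 hz0F
      by_cases hSP : S = P
      · rw [← hSP]
        exact hyS
      · have hSnbP : S ∈ b5Nb P := by
          rw [mem_b5Nb]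
          refine ⟨hSP, ?_⟩
          intro hbot
          have : z0 ∈ (S : Subgroup G) ⊓ (P : Subgroup G) := ⟨hz0S, hz0P⟩
          rw [hbot, Subgroup.mem_bot] at this
          exact hz01 this
        exact hfull P S hSnbP y hyF
  have heq : (Q : Subgroup G) = (P : Subgroup G) := by
    apply Subgroup.eq_of_le_of_card_ge hle
    rw [b5_sylow_card D p hp Q, b5_sylow_card D p hp P]
  exact (mem_b5Nb.mp hP).1 (Sylow.ext heq.symm)

theorem b5_sylow_TI (D : B5Data t K s X) (p : ℕ) [hpf : Fact p.Prime]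
    (hp : ∀ y : G, bswOut K y → bswBeta y = 0 → orderOf y = p) (Q : Sylow p G) :
    Nat.card (Subgroup.normalizer ((Q : Subgroup G) : Set G)) =
        (2 * Nat.card K - 1) * (Nat.card K - 1) ∧
      (∀ y ∈ Q, y ≠ 1 → Subgroup.centralizer ({y} : Set G) = Q) ∧
      (∀ P : Sylow p G, P ≠ Q → (P : Subgroup G) ⊓ (Q : Subgroup G) = ⊥) := by
  classical
  haveI : Fintype (Sylow p G) := Fintype.ofFinite _
  obtain ⟨d, hd1, hd, hd', hq, hG, hdodd⟩ := b5_arith_d D
  obtain ⟨w, hw1, hw2, hw3, _⟩ := b5_nb_full D p hp Q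
  have hemp := b5_nb_empty D p hp Q
  rw [hemp, Finset.card_empty, add_zero, mul_one] at hw2
  rw [hw2] at hw1 hw3
  refine ⟨hw1, ?_, ?_⟩
  · have hcQ := b5_sylow_card D p hp Q
    have hsub : b5F K (Q : Subgroup G) ⊆ (b5Sub (Q : Subgroup G)).erase 1 := by
      intro y hy
      rw [Finset.mem_erase, mem_b5Sub]
      exact ⟨b5F_ne_one hy, b5F_sub hy⟩
    have h1mem : (1 : G) ∈ b5Sub (Q : Subgroup G) := mem_b5Sub.mpr (Subgroup.one_mem _)
    have hcard : ((b5Sub (Q : Subgroup G)).erase 1).card ≤ (b5F K (Q : Subgroup G)).card := by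
      rw [Finset.card_erase_of_mem h1mem, b5Sub_card, hcQ, hw3]
      omega
    have heq := Finset.eq_of_subset_of_card_le hsub hcard
    intro y hy hy1
    have : y ∈ b5F K (Q : Subgroup G) := by
      rw [heq, Finset.mem_erase, mem_b5Sub]
      exact ⟨hy1, hy⟩
    exact (mem_b5F.mp this).2.2
  · intro P hPQ
    by_contra hne
    have : P ∈ b5Nb Q := mem_b5Nb.mpr ⟨hPQ, hne⟩
    rw [hemp] at this
    exact absurd this (Finset.notMem_empty _)

end fin

end Cfsg.Agent.Lib.Helper24
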