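import Mathlib
import Cfsg.Prelude.Def_Characters
import Cfsg.Agent.Lib.helper2.BSWDefs
import Cfsg.Agent.Lib.Helper24.BSW5I

set_option autoImplicit false
set_option linter.style.haveILetI false

namespace Cfsg.Agent.Lib.Helper24

open scoped ComplexConjugate Pointwise
open Cfsg.Agent.Lib.helper2 Cfsg.Agent.Lib.Helper25

variable {G : Type*} [Group G] {t s : G} {K : Subgroup G} {X : G → ℂ}

theorem b5_card_mul_le [Finite G] (A B C : Subgroup G) (hA : A ≤ C) (hB : B ≤ C)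
    (hAB : A ⊓ B = ⊥) : Nat.card A * Nat.card B ≤ Nat.card C := by
  classical
  haveI : Fintype G := Fintype.ofFinite _
  rw [← b5Sub_card, ← b5Sub_card, ← b5Sub_card, ← Finset.card_product]
  apply Finset.card_le_card_of_injOn (fun z : G × G => z.1 * z.2)
  · intro z hz
    rw [Finset.mem_coe, Finset.mem_product, mem_b5Sub, mem_b5Sub] at hz
    rw [Finset.mem_coe, mem_b5Sub]
    exact C.mul_mem (hA hz.1) (hB hz.2)
  · intro z hz z' hz' heq
    rw [Finset.mem_coe, Finset.mem_product, mem_b5Sub, mem_b5Sub] at hz hz'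
    simp only at heq
    have h1 : z'.1⁻¹ * z.1 = z'.2 * z.2⁻¹ := by
      have : z'.1⁻¹ * z.1 = z'.1⁻¹ * (z.1 * z.2) * z.2⁻¹ := by group
      rw [this, heq]
      group
    have h2 : z'.1⁻¹ * z.1 ∈ A ⊓ B := by
      refine ⟨A.mul_mem (A.inv_mem hz'.1) hz.1, ?_⟩
      rw [h1]
      exact B.mul_mem hz'.2 (B.inv_mem hz.2)
    rw [hAB, Subgroup.mem_bot] at h2
    have h3 : z.1 = z'.1 := by
      have : z.1 = z'.1 * (z'.1⁻¹ * z.1) := by group
      rw [this, h2, mul_one]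
    have h4 : z.2 = z'.2 := by
      rw [h2] at h1
      have : z.2 = (z'.2 * z.2⁻¹)⁻¹ * z'.2 := by group
      rw [this, ← h1]
      group
    exact Prod.ext h3 h4

theorem b5_conj_mem_normalizer {p : ℕ} (S : Sylow p G) (g n : G)
    (hn : n ∈ Subgroup.normalizer ((S : Subgroup G) : Set G)) :
    g * n * g⁻¹ ∈ Subgroup.normalizer (((g • S : Sylow p G) : Subgroup G) : Set G) := by
  have hn' : n • S = S := Sylow.smul_eq_iff_mem_normalizer.mpr hn
  have h1 : (g * n * g⁻¹) • (g • S) = g • S := by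
    rw [← mul_smul]
    have : g * n * g⁻¹ * g = g * n := by group
    rw [this, mul_smul, hn']
  exact Sylow.smul_eq_iff_mem_normalizer.mp h1

theorem b5_fpf_inverts {T : Subgroup G} [Finite T] {a : G} (haa : a * a = 1)
    (hnorm : ∀ n ∈ T, a * n * a⁻¹ ∈ T) (hfpf : ∀ n ∈ T, a * n = n * a → n = 1) :
    (∀ n ∈ T, a * n * a⁻¹ = n⁻¹) ∧ ∀ x ∈ T, ∀ y ∈ T, x * y = y * x := by
  have hai : a⁻¹ = a := inv_eq_of_mul_eq_one_left haa
  let φ : T → T := fun n => ⟨(n : G)⁻¹ * (a * n * a⁻¹), T.mul_mem (T.inv_mem n.2) (hnorm n n.2)⟩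
  have hinj : Function.Injective φ := by
    intro n m hnm
    have h1 : (n : G)⁻¹ * (a * n * a⁻¹) = (m : G)⁻¹ * (a * m * a⁻¹) := congrArg Subtype.val hnm
    have h2 : a * ((m : G) * (n : G)⁻¹) = ((m : G) * (n : G)⁻¹) * a := by
      have h3 : (m : G) * (n : G)⁻¹ = (a * m * a⁻¹) * (a * n * a⁻¹)⁻¹ := by
        have : (a * m * a⁻¹) = (m : G) * ((m : G)⁻¹ * (a * m * a⁻¹)) := by group
        rw [this, ← h1]
        group
      have h4 : (a * m * a⁻¹) * (a * n * a⁻¹)⁻¹ = a * ((m : G) * (n : G)⁻¹) * a⁻¹ := by group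
      rw [h4] at h3
      calc a * ((m : G) * (n : G)⁻¹) = (a * ((m : G) * (n : G)⁻¹) * a⁻¹) * a := by group
        _ = ((m : G) * (n : G)⁻¹) * a := by rw [← h3]
    have h5 := hfpf _ (T.mul_mem m.2 (T.inv_mem n.2)) h2
    apply Subtype.ext
    have : (n : G) = ((m : G) * (n : G)⁻¹)⁻¹ * m := by group
    rw [this, h5]
    group
  have hsurj := Finite.injective_iff_surjective.mp hinj
  have hinv : ∀ n ∈ T, a * n * a⁻¹ = n⁻¹ := by
    intro n hn
    obtain ⟨m, hm⟩ := hsurj ⟨n, hn⟩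
    have h1 : (m : G)⁻¹ * (a * m * a⁻¹) = n := congrArg Subtype.val hm
    rw [← h1, hai]
    calc a * ((m : G)⁻¹ * (a * m * a)) * a = a * (m : G)⁻¹ * a * m * (a * a) := by group
      _ = a * (m : G)⁻¹ * a * m := by rw [haa, mul_one]
      _ = ((m : G)⁻¹ * (a * m * a))⁻¹ * (a * a) * (a * a) := by
        rw [haa]
        simp only [mul_inv_rev, inv_inv, mul_one]
        rw [hai]
        group
      _ = ((m : G)⁻¹ * (a * m * a))⁻¹ := by rw [haa, mul_one, mul_one]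
  refine ⟨hinv, ?_⟩
  intro x hx y hy
  have h1 := hinv (x * y) (T.mul_mem hx hy)
  have h2 : a * (x * y) * a⁻¹ = (a * x * a⁻¹) * (a * y * a⁻¹) := by group
  rw [h2, hinv x hx, hinv y hy] at h1
  have h3 : (x⁻¹ * y⁻¹)⁻¹ = ((x * y)⁻¹)⁻¹ := by rw [h1]
  simp only [mul_inv_rev, inv_inv] at h3
  exact h3.symm

end Cfsg.Agent.Lib.Helper24
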