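import Mathlib
import Cfsg.Prelude.Def_Characters
import Cfsg.Agent.Lib.helper2.BSWDefs
import Cfsg.Agent.Lib.Helper24.BSW5J

set_option autoImplicit false
set_option linter.style.haveILetI false
set_option maxHeartbeats 1000000

namespace Cfsg.Agent.Lib.Helper24

open scoped ComplexConjugate Pointwise
open Cfsg.Agent.Lib.helper2 Cfsg.Agent.Lib.Helper25

variable {G : Type*} [Group G] {t s : G} {K : Subgroup G} {X : G → ℂ}

theorem b5_coprime_aux (d : ℕ) : Nat.Coprime (d + 1) ((2 * d + 1) * d) := by
  apply Nat.Coprime.mul_right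
  · have : 2 * d + 1 = d + (d + 1) := by ring
    rw [this, Nat.coprime_add_self_right]
    simp
  · simp

theorem b5_coprime_aux2 (d : ℕ) : Nat.Coprime (2 * d + 1) d := by
  have : 2 * d + 1 = 1 + d * 2 := by ring
  rw [this, Nat.coprime_add_mul_left_left]
  simp

theorem b5_normalizer_of_map_eq (C : Subgroup G) (n : G)
    (h : C.map (MulAut.conj n).toMonoidHom = C) : n ∈ Subgroup.normalizer (C : Set G) := by
  rw [Subgroup.mem_normalizer_iff]
  intro x
  constructor
  · intro hx
    rw [← h, b5_mem_map_conj]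
    have : n⁻¹ * (n * x * n⁻¹) * n = x := by group
    rw [this]
    exact hx
  · intro hx
    rw [← h, b5_mem_map_conj] at hx
    have : n⁻¹ * (n * x * n⁻¹) * n = x := by group
    rw [this] at hx
    exact hx

theorem b5_endgame [Finite G] (D : B5Data t K s X) : BswConcl G := by
  classical
  haveI : Fintype G := Fintype.ofFinite _
  obtain ⟨p, hpp, hp⟩ := b5_prime_order D
  haveI : Fact p.Prime := ⟨hpp⟩
  obtain ⟨d, hd1, hd, hd', hq, hG, hdodd⟩ := b5_arith_d D
  obtain ⟨Q⟩ : Nonempty (Sylow p G) := inferInstance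
  have ht2 := D.hyp.ht
  have haa := b5_invol_sq ht2
  have hai := b5_invol_inv ht2
  set P : Sylow p G := t • Q with hPdef
  obtain ⟨hNQ, hCQ, _⟩ := b5_sylow_TI D p hp Q
  obtain ⟨hNP, _, _⟩ := b5_sylow_TI D p hp P
  have hcQ := b5_sylow_card D p hp Q
  rw [hq, hd'] at hNQ hNP
  rw [hq] at hcQ
  have hPQ : (P : Subgroup G) ⊓ (Q : Subgroup G) = ⊥ := by
    rw [Subgroup.eq_bot_iff_forall]
    intro y hy
    rw [Subgroup.mem_inf] at hy
    obtain ⟨hy1, hy2⟩ := hy
    rw [hPdef, b5_mem_smul_sylow] at hy1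
    have h1 : t⁻¹ * y * t = t * y * t⁻¹ := by rw [hai]
    rw [h1] at hy1
    exact b5_inter_invol D p hp Q ht2 hy2 hy1
  set NQ := Subgroup.normalizer ((Q : Subgroup G) : Set G) with hNQdef
  set NP := Subgroup.normalizer ((P : Subgroup G) : Set G) with hNPdef
  set T := NQ ⊓ NP with hTdef
  have hTQ : T ⊓ (Q : Subgroup G) = ⊥ := by
    rw [eq_bot_iff]
    intro y hy
    rw [Subgroup.mem_inf] at hy
    have h1 : y ∈ (Q : Subgroup G) ⊓ NP := ⟨hy.2, hy.1.2⟩
    have h2 : (Q : Subgroup G) ⊓ NP = (Q : Subgroup G) ⊓ (P : Subgroup G) :=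
      IsPGroup.inf_normalizer_sylow Q.2 P
    rw [h2, inf_comm, hPQ] at h1
    exact h1
  have hTle : Nat.card T ≤ d := by
    have h1 := b5_card_mul_le T (Q : Subgroup G) NQ inf_le_left Subgroup.le_normalizer hTQ
    rw [hNQ, hcQ, mul_comm] at h1
    exact Nat.le_of_mul_le_mul_left h1 (by omega)
  have hidxQ : NQ.index = 2 * (d + 1) := by
    have h1 := Subgroup.card_mul_index NQ
    rw [hNQ, hG] at h1
    have h2 : (2 * d + 1) * d * NQ.index = (2 * d + 1) * d * (2 * (d + 1)) := by
      rw [h1]; ring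
    have hpos : 0 < (2 * d + 1) * d := by
      have : 0 < d := hd1
      positivity
    exact Nat.eq_of_mul_eq_mul_left hpos h2
  have hidxP : NP.index = 2 * (d + 1) := by
    have h1 := Subgroup.card_mul_index NP
    rw [hNP, hG] at h1
    have h2 : (2 * d + 1) * d * NP.index = (2 * d + 1) * d * (2 * (d + 1)) := by
      rw [h1]; ring
    have hpos : 0 < (2 * d + 1) * d := by
      have : 0 < d := hd1
      positivity
    exact Nat.eq_of_mul_eq_mul_left hpos h2
  have hTge : d ≤ Nat.card T := by
    have h1 : T.index ≤ NQ.index * NP.index := Subgroup.index_inf_le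
    rw [hidxQ, hidxP] at h1
    have h2 := Subgroup.card_mul_index T
    rw [hG] at h2
    by_contra hlt
    push Not at hlt
    have h3 : 2 * (d + 1) * (d * (2 * d + 1)) ≤ 2 * (d + 1) * (Nat.card T * (2 * (d + 1))) := by
      calc 2 * (d + 1) * (d * (2 * d + 1)) = Nat.card T * T.index := by rw [h2]; ring
        _ ≤ Nat.card T * (2 * (d + 1) * (2 * (d + 1))) := Nat.mul_le_mul_left _ h1
        _ = 2 * (d + 1) * (Nat.card T * (2 * (d + 1))) := by ring
    have h4 : d * (2 * d + 1) ≤ Nat.card T * (2 * (d + 1)) :=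
      Nat.le_of_mul_le_mul_left h3 (by omega)
    have h5 : (Nat.card T + 1) * (2 * (d + 1)) ≤ d * (2 * (d + 1)) :=
      Nat.mul_le_mul_right _ hlt
    nlinarith [h4, h5]
  have hTcard : Nat.card T = d := le_antisymm hTle hTge
  have hsup : NQ = (Q : Subgroup G) ⊔ T := by
    symm
    apply Subgroup.eq_of_le_of_card_ge (sup_le Subgroup.le_normalizer inf_le_left)
    rw [hNQ]
    have h1 : (2 * d + 1) ∣ Nat.card ((Q : Subgroup G) ⊔ T : Subgroup G) := by
      rw [← hcQ]
      exact Subgroup.card_dvd_of_le le_sup_left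
    have h2 : d ∣ Nat.card ((Q : Subgroup G) ⊔ T : Subgroup G) := by
      rw [← hTcard]
      exact Subgroup.card_dvd_of_le le_sup_right
    exact Nat.le_of_dvd Nat.card_pos ((b5_coprime_aux2 d).mul_dvd_of_dvd_of_dvd h1 h2)
  have hTout : ∀ n ∈ T, n ≠ 1 → bswOut K n := by
    intro n hn hn1
    by_contra hno
    have h1 := b5_pow_card_K_of_not_out hno
    rw [hd] at h1
    have h2 : n ^ ((2 * d + 1) * d) = 1 := by
      have h3 : (⟨n, hn.1⟩ : NQ) ^ ((2 * d + 1) * d) = 1 := by
        rw [← hNQ]
        exact pow_card_eq_one'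
      have := congrArg (fun z : NQ => (z : G)) h3
      simp only [Subgroup.coe_pow, Subgroup.coe_one] at this
      exact this
    have h3 := pow_gcd_eq_one.mpr ⟨h1, h2⟩
    rw [Nat.Coprime.gcd_eq_one (b5_coprime_aux d), pow_one] at h3
    exact hn1 h3
  have hPt : t • P = Q := by
    rw [hPdef, ← mul_smul, haa, one_smul]
  have hnormT : ∀ n ∈ T, t * n * t⁻¹ ∈ T := by
    intro n hn
    refine ⟨?_, ?_⟩
    · have := b5_conj_mem_normalizer P t n hn.2
      rw [hPt] at this
      exact this
    · exact b5_conj_mem_normalizer Q t n hn.1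
  have hfpf : ∀ n ∈ T, t * n = n * t → n = 1 := by
    intro n hn hc
    by_contra hn1
    exact b5_no_invol_commute D.t1 (hTout n hn hn1) ht2 hc
  obtain ⟨hinvT, hcommT⟩ := b5_fpf_inverts haa hnormT hfpf
  refine ⟨(Q : Subgroup G), T, ?_, hCQ, ⟨⟨?_⟩⟩, ?_, ?_, hsup, ?_⟩
  · rw [hcQ, hG]
    have : 2 * d + 1 - 1 = 2 * d := by omega
    rw [this]
    ring
  · intro x y
    apply Subtype.ext
    exact hcommT x x.2 y y.2
  · rw [hTcard, hcQ]
  · rw [inf_comm]
    exact hTQ
  · intro Xs hXT hXbot
    obtain ⟨n1, hn1⟩ := Subgroup.ne_bot_iff_exists_ne_one.mp hXbot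
    have hn1G : (n1 : G) ≠ 1 := fun h => hn1 (Subtype.ext h)
    have hn1T : (n1 : G) ∈ T := hXT n1.2
    have hn1out := hTout _ hn1T hn1G
    have hn1inv := hinvT _ hn1T
    obtain ⟨_, hCinv, _, hCC, L, g, hag, haL, hLK, hCL, hNC, hLdvd⟩ :=
      D.t1.Q hn1out ht2 hn1inv
    have hbeta : bswBeta (n1 : G) ≠ 0 :=
      (D.t1.beta_pos_iff (D.t1.out_odd hn1out) hn1G).mpr ⟨t, ht2, hn1inv⟩
    obtain ⟨_, hCcard⟩ := b5_step1 D.hyp D.t1 X D.irr D.deg D.beta hn1out hbeta
    rw [hd'] at hCcard
    set C := Subgroup.centralizer ({(n1 : G)} : Set G) with hCdef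
    have hTC : T = C := by
      apply Subgroup.eq_of_le_of_card_ge
      · intro x hx
        rw [hCdef, Subgroup.mem_centralizer_singleton_iff]
        exact hcommT x hx _ hn1T
      · rw [hCcard, hTcard]
    have hLcard : Nat.card L ∣ 2 := by
      have h1 : Nat.card L ∣ d + 1 := by
        rw [← hd, ← Subgroup.card_map_of_injective (f := (MulAut.conj g).toMonoidHom) (K := K)
          (MulAut.conj g).injective]
        exact Subgroup.card_dvd_of_le hLK
      rw [hCcard] at hLdvd
      have h2 : d + 1 - (d - 1) = 2 := by omega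
      rw [← h2]
      exact Nat.dvd_sub h1 hLdvd
    have hLeq : Subgroup.zpowers t = L := by
      apply Subgroup.eq_of_le_of_card_ge
      · rw [Subgroup.zpowers_le]
        exact haL
      · rw [Nat.card_zpowers, ht2]
        exact Nat.le_of_dvd (by omega) hLcard
    rw [← hTC, ← hLeq] at hNC
    have htT : t ∉ T := by
      intro h1
      have ht1 : t ≠ 1 := by
        intro h2
        rw [h2, orderOf_one] at ht2
        omega
      have h3 := D.t1.out_odd (hTout t h1 ht1)
      rw [ht2] at h3
      exact absurd h3 (by decide)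
    refine ⟨?_, t, ht2, htT, hinvT, hNC⟩
    apply le_antisymm
    · intro n hn
      rw [Subgroup.mem_normalizer_iff] at hn
      have h1 : n * (n1 : G) * n⁻¹ ∈ Xs := (hn _).mp n1.2
      have h2 : n * (n1 : G) * n⁻¹ ∈ C := by
        rw [← hTC]
        exact hXT h1
      have h3 : n * (n1 : G) * n⁻¹ ≠ 1 := by
        intro h4
        apply hn1G
        have : (n1 : G) = n⁻¹ * (n * (n1 : G) * n⁻¹) * n := by group
        rw [this, h4]
        group
      have h4 := (hCC _ h2 h3).2.1
      rw [b5_centralizer_conj] at h4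
      rw [hTC]
      exact b5_normalizer_of_map_eq C n h4
    · rw [hNC]
      apply sup_le
      · intro x hx
        rw [Subgroup.mem_normalizer_iff]
        intro y
        constructor
        · intro hy
          have h1 : x * y * x⁻¹ = y := by
            rw [hcommT x hx y (hXT hy)]
            group
          rw [h1]
          exact hy
        · intro hy
          have h1 := hcommT x⁻¹ (T.inv_mem hx) _ (hXT hy)
          have h2 : y = x⁻¹ * (x * y * x⁻¹) * x := by group
          rw [h2, h1]
          have : x * y * x⁻¹ * x⁻¹ * x = x * y * x⁻¹ := by group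
          rw [this]
          exact hy
      · rw [Subgroup.zpowers_le, Subgroup.mem_normalizer_iff]
        intro y
        constructor
        · intro hy
          rw [hinvT y (hXT hy)]
          exact Xs.inv_mem hy
        · intro hy
          have h1 := hinvT _ (hXT hy)
          have h2 : t * (t * y * t⁻¹) * t⁻¹ = y := by
            rw [hai]
            calc t * (t * y * t) * t = (t * t) * y * (t * t) := by group
              _ = y := by rw [haa, one_mul, mul_one]
          rw [h2] at h1
          rw [h1]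
          exact Xs.inv_mem hy

end Cfsg.Agent.Lib.Helper24
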