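import Mathlib
import Cfsg.Prelude.Def_Characters
import Cfsg.Agent.Lib.helper2.BSWDefs
import Cfsg.Agent.Lib.Helper24.BSW5K

set_option autoImplicit false

namespace Cfsg.Agent.Lib.Helper24

open Cfsg.Agent.Lib.helper2

variable {G : Type*} [Group G] [Finite G] {t s : G} {K : Subgroup G}

structure BswCharMinus (K : Subgroup G) (X : G → ℂ) : Prop where
  irr : Cfsg.IsIrrCharacter G X
  deg : X 1 = (2 * Nat.card K - 1 : ℕ)
  card : Nat.card G = 2 * Nat.card K * (Nat.card K - 1) * (2 * Nat.card K - 1)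
  onK : ∀ x ∈ K, x ≠ 1 → X x = -1
  beta : ∀ x : G, bswOut K x → (bswBeta x : ℂ) = ((Nat.card K - 1 : ℕ) : ℂ) * X x

theorem bsw_end_minus_of_fields (h : BswHyp t K s) (T1 : BswT1 t K s) (X : G → ℂ)
    (irr : Cfsg.IsIrrCharacter G X) (deg : X 1 = (2 * Nat.card K - 1 : ℕ))
    (card : Nat.card G = 2 * Nat.card K * (Nat.card K - 1) * (2 * Nat.card K - 1))
    (onK : ∀ x ∈ K, x ≠ 1 → X x = -1)
    (beta : ∀ x : G, bswOut K x → (bswBeta x : ℂ) = ((Nat.card K - 1 : ℕ) : ℂ) * X x) :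
    BswConcl G :=
  b5_endgame ⟨h, T1, irr, deg, card, onK, beta⟩

theorem bsw_end_minus (h : BswHyp t K s) (T1 : BswT1 t K s) (X : G → ℂ)
    (hX : BswCharMinus K X) : BswConcl G :=
  bsw_end_minus_of_fields h T1 X hX.irr hX.deg hX.card hX.onK hX.beta

end Cfsg.Agent.Lib.Helper24
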