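import Mathlib
import Cfsg.Prelude.Def_Characters
import Cfsg.Agent.Lib.helper2.BSWDefs
import Cfsg.Agent.Lib.Helper13.BSW1
import Cfsg.Agent.Lib.Helper24.BSW5

set_option autoImplicit false

namespace Cfsg.Agent.Lib.Helper24

open Cfsg.Agent.Lib.helper2 Cfsg.Agent.Lib.Helper13.BSW1

variable {G : Type*} [Group G] [Finite G] {t s : G} {K : Subgroup G}

theorem bsw_t1_of_hyp (h : BswHyp t K s) : BswT1 t K s where
  mul_s_sq := fun hk => bsw_mul_s_sq h hk
  mem_H := fun hx => bsw_mem_H h hx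
  cent_le := fun hk hk1 => bsw_cent_le h hk hk1
  out_odd := fun hx => bsw_out_odd h hx
  card_invol := bsw_card_invol h
  card_in := bsw_card_in h
  beta_pos_iff := fun hx hx1 => bsw_beta_pos_iff hx hx1
  Q := fun hx ha hax => bsw_Q h hx ha hax

theorem bsw_end_minus_full (h : BswHyp t K s) (X : G → ℂ) (hX : BswCharMinus K X) :
    BswConcl G :=
  bsw_end_minus h (bsw_t1_of_hyp h) X hX

theorem bsw_end_minus_full_of_fields (h : BswHyp t K s) (X : G → ℂ)
    (irr : Cfsg.IsIrrCharacter G X) (deg : X 1 = (2 * Nat.card K - 1 : ℕ))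
    (card : Nat.card G = 2 * Nat.card K * (Nat.card K - 1) * (2 * Nat.card K - 1))
    (onK : ∀ x ∈ K, x ≠ 1 → X x = -1)
    (beta : ∀ x : G, bswOut K x → (bswBeta x : ℂ) = ((Nat.card K - 1 : ℕ) : ℂ) * X x) :
    BswConcl G :=
  bsw_end_minus_of_fields h (bsw_t1_of_hyp h) X irr deg card onK beta

end Cfsg.Agent.Lib.Helper24
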