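import Mathlib
import Cfsg.Prelude.Def_Characters
import Cfsg.Agent.Lib.helper2.BSWDefs
import Cfsg.Agent.Lib.helper2.BSWCharDefs
import Cfsg.Agent.Lib.Helper24.BSW5Full

set_option autoImplicit false

namespace Cfsg.Agent.Lib.Helper24

theorem bsw_end_minus_h2 {G : Type*} [Group G] [Fintype G] {t s : G} {K : Subgroup G}
    (h : Cfsg.Agent.Lib.helper2.BswHyp t K s) (X : G → ℂ)
    (hX : Cfsg.Agent.Lib.helper2.BswCharMinus K X) : Cfsg.Agent.Lib.helper2.BswConcl G :=
  bsw_end_minus_full_of_fields h X hX.irr hX.deg hX.card hX.onK hX.beta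

end Cfsg.Agent.Lib.Helper24
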