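import Mathlib

set_option autoImplicit false
set_option linter.style.haveILetI false

namespace Cfsg.Agent.Lib.Helper24

open DihedralGroup

theorem bd_dih_two (x y : DihedralGroup 2) : x * x = 1 ∧ x * y * x⁻¹ = y⁻¹ := by
  revert x y
  decide

theorem bd_dih_aux {n : ℕ} (hn : 2 ≤ n) (R : Subgroup (DihedralGroup n)) (hc : IsCyclic R)
    (hi : R.index = 2) (x : DihedralGroup n) (hx : x ∉ R) :
    x * x = 1 ∧ ∀ y ∈ R, x * y * x⁻¹ = y⁻¹ := by
  haveI : NeZero n := ⟨by omega⟩
  have hcard : Nat.card R = n := by
    have h1 := Subgroup.card_mul_index R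
    rw [hi, DihedralGroup.nat_card] at h1
    omega
  obtain ⟨g, hg⟩ := hc.exists_generator
  rcases hgv : (g : DihedralGroup n) with i | i
  · have hle : R ≤ Subgroup.zpowers (r 1 : DihedralGroup n) := by
      intro y hy
      obtain ⟨k, hk⟩ := Subgroup.mem_zpowers_iff.mp (hg ⟨y, hy⟩)
      have h1 : (g : DihedralGroup n) ^ k = y := by
        have := congrArg Subtype.val hk
        simpa using this
      rw [hgv, r_zpow] at h1
      rw [← h1, Subgroup.mem_zpowers_iff]
      exact ⟨((i * k : ZMod n)).val, by rw [zpow_natCast, r_one_pow, ZMod.natCast_zmod_val]⟩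
    have hcz : Nat.card (Subgroup.zpowers (r 1 : DihedralGroup n)) = n := by
      rw [Nat.card_zpowers, orderOf_r_one]
    have heq : R = Subgroup.zpowers (r 1 : DihedralGroup n) := by
      apply Subgroup.eq_of_le_of_card_ge hle
      rw [hcz, hcard]
    rcases x with j | j
    · exfalso
      apply hx
      rw [heq, Subgroup.mem_zpowers_iff]
      exact ⟨(j.val : ℤ), by rw [zpow_natCast, r_one_pow, ZMod.natCast_zmod_val]⟩
    · refine ⟨sr_mul_self j, ?_⟩
      intro y hy
      rw [heq, Subgroup.mem_zpowers_iff] at hy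
      obtain ⟨k, hk⟩ := hy
      rw [← hk, r_one_zpow, inv_sr, sr_mul_r, sr_mul_sr, inv_r]
      congr 1
      ring
  · have ho : orderOf g = 2 := by
      have h1 : orderOf (g : DihedralGroup n) = 2 := by
        rw [hgv]
        exact orderOf_sr i
      rwa [Subgroup.orderOf_coe] at h1
    have h2 : orderOf g = Nat.card R := orderOf_eq_card_of_forall_mem_zpowers hg
    have hn2 : n = 2 := by omega
    subst hn2
    exact ⟨(bd_dih_two x x).1, fun y _ => (bd_dih_two x y).2⟩

theorem bd_dih {P : Type*} [Group P] {n : ℕ} (hn : 2 ≤ n) (e : P ≃* DihedralGroup n)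
    (R : Subgroup P) (hc : IsCyclic R) (hi : R.index = 2) (x : P) (hx : x ∉ R) :
    x * x = 1 ∧ ∀ y ∈ R, x * y * x⁻¹ = y⁻¹ := by
  have hc' : IsCyclic (R.map (e : P →* DihedralGroup n)) := by
    have hs : Function.Surjective ((e : P →* DihedralGroup n).subgroupMap R) :=
      (e : P →* DihedralGroup n).subgroupMap_surjective R
    exact isCyclic_of_surjective _ hs
  have hi' : (R.map (e : P →* DihedralGroup n)).index = 2 := by
    rw [Subgroup.index_map_equiv, hi]
  have hx' : e x ∉ R.map (e : P →* DihedralGroup n) := by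
    intro h
    obtain ⟨y, hy, hyx⟩ := Subgroup.mem_map.mp h
    have : y = x := e.injective hyx
    exact hx (this ▸ hy)
  obtain ⟨h1, h2⟩ := bd_dih_aux hn _ hc' hi' (e x) hx'
  constructor
  · apply e.injective
    rw [map_mul, h1, map_one]
  · intro y hy
    apply e.injective
    rw [map_mul, map_mul, map_inv, map_inv]
    exact h2 (e y) (Subgroup.mem_map_of_mem _ hy)

theorem bd_dih_central {n : ℕ} (hn : 3 ≤ n) (x : DihedralGroup n)
    (hcen : ∀ y : DihedralGroup n, y * x = x * y) :
    x ∈ Subgroup.zpowers (r 1 : DihedralGroup n) := by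
  haveI : NeZero n := ⟨by omega⟩
  rcases x with j | j
  · rw [Subgroup.mem_zpowers_iff]
    exact ⟨(j.val : ℤ), by rw [zpow_natCast, r_one_pow, ZMod.natCast_zmod_val]⟩
  · exfalso
    have h1 := hcen (r 1)
    rw [r_mul_sr, sr_mul_r] at h1
    have h2 : j - 1 = j + 1 := by
      injection h1
    have h3 : (2 : ZMod n) = 0 := by
      have : (2 : ZMod n) = (j + 1) - (j - 1) := by ring
      rw [this, h2]
      ring
    have h4 : ((2 : ℕ) : ZMod n) = 0 := by
      exact_mod_cast h3
    rw [ZMod.natCast_eq_zero_iff] at h4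
    have := Nat.le_of_dvd (by norm_num) h4
    omega

theorem bd_dih_exists {P : Type*} [Group P] {n : ℕ} (hn : 2 ≤ n) (e : P ≃* DihedralGroup n)
    (t : P) (ht : orderOf t = 2) (hcen : ∀ x : P, x * t = t * x) :
    ∃ R : Subgroup P, IsCyclic R ∧ R.index = 2 ∧ t ∈ R := by
  haveI : NeZero n := ⟨by omega⟩
  have hP : Nat.card P = 2 * n := by
    rw [Nat.card_congr e.toEquiv, DihedralGroup.nat_card]
  haveI : Finite P := Nat.finite_of_card_ne_zero (by rw [hP]; omega)
  by_cases h2 : n = 2
  · refine ⟨Subgroup.zpowers t, inferInstance, ?_, Subgroup.mem_zpowers t⟩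
    have h1 := Subgroup.card_mul_index (Subgroup.zpowers t)
    rw [Nat.card_zpowers, ht, hP, h2] at h1
    omega
  · have h3 : 3 ≤ n := by omega
    refine ⟨(Subgroup.zpowers (r 1 : DihedralGroup n)).comap (e : P →* DihedralGroup n), ?_, ?_, ?_⟩
    · have hsurj : Function.Surjective (e : P →* DihedralGroup n) := e.surjective
      let f := (e.symm : DihedralGroup n →* P).subgroupMap (Subgroup.zpowers (r 1 : DihedralGroup n))
      have hmap : (Subgroup.zpowers (r 1 : DihedralGroup n)).map (e.symm : DihedralGroup n →* P) =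
          (Subgroup.zpowers (r 1 : DihedralGroup n)).comap (e : P →* DihedralGroup n) := by
        ext y
        rw [Subgroup.mem_map, Subgroup.mem_comap]
        constructor
        · rintro ⟨z, hz, rfl⟩
          simpa using hz
        · intro hy
          exact ⟨e y, hy, by simp⟩
      rw [← hmap]
      exact isCyclic_of_surjective f
        ((e.symm : DihedralGroup n →* P).subgroupMap_surjective _)
    · have h4 : ((Subgroup.zpowers (r 1 : DihedralGroup n)).comap (e : P →* DihedralGroup n)).index =
          (Subgroup.zpowers (r 1 : DihedralGroup n)).index :=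
        Subgroup.index_comap_of_surjective _ e.surjective
      rw [h4]
      have h5 := Subgroup.card_mul_index (Subgroup.zpowers (r 1 : DihedralGroup n))
      rw [Nat.card_zpowers, orderOf_r_one, DihedralGroup.nat_card] at h5
      have hpos : 0 < n := by omega
      have : n * (Subgroup.zpowers (r 1 : DihedralGroup n)).index = n * 2 := by
        rw [h5]
        ring
      exact Nat.eq_of_mul_eq_mul_left hpos this
    · rw [Subgroup.mem_comap]
      apply bd_dih_central h3
      intro y
      obtain ⟨z, rfl⟩ := e.surjective y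
      have := hcen z
      have h6 := congrArg e this
      simpa using h6

end Cfsg.Agent.Lib.Helper24
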