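import Mathlib

set_option autoImplicit false
set_option linter.style.haveILetI false

namespace Cfsg.Agent.Lib.Helper24

variable {G : Type*} [Group G]

theorem bz_relIndex_sup (Q D : Subgroup G) (hD : D ≤ Subgroup.normalizer (Q : Set G))
    (hinf : Q ⊓ D = ⊥) : Q.relIndex (Q ⊔ D) = Nat.card D := by
  set L : Subgroup G := Q ⊔ D with hL
  have hQL : Q ≤ L := le_sup_left
  have hDL : D ≤ L := le_sup_right
  have hLN : L ≤ Subgroup.normalizer (Q : Set G) := sup_le Subgroup.le_normalizer hD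
  haveI : (Q.subgroupOf L).Normal := Subgroup.normal_subgroupOf_of_le_normalizer hLN
  have h1 : (Q.subgroupOf L) ⊔ (D.subgroupOf L) = ⊤ := by
    rw [← Subgroup.subgroupOf_sup hQL hDL]
    exact Subgroup.subgroupOf_self _
  have h2 := Subgroup.relIndex_sup_left (K := Q.subgroupOf L) (H := D.subgroupOf L)
  rw [h1, Subgroup.relIndex_top_right, Subgroup.relIndex_subgroupOf hDL,
    ← Subgroup.inf_relIndex_right, hinf, Subgroup.relIndex_bot_left] at h2
  exact h2

theorem bz_card_mul_relIndex {Q L : Subgroup G} (hQL : Q ≤ L) :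
    Nat.card Q * Q.relIndex L = Nat.card L := by
  have h3 := Subgroup.card_mul_index (Q.subgroupOf L)
  rw [← h3]
  congr 1
  exact (Nat.card_congr (Subgroup.subgroupOfEquivOfLe hQL).toEquiv).symm

theorem bz_mem_of_pow (Q L : Subgroup G) [Finite L]
    (hLN : L ≤ Subgroup.normalizer (Q : Set G)) {x : G} (hx : x ∈ L) {n : ℕ} (hxn : x ^ n = 1)
    (hcop : n.Coprime (Q.relIndex L)) : x ∈ Q := by
  haveI : (Q.subgroupOf L).Normal := Subgroup.normal_subgroupOf_of_le_normalizer hLN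
  set x' : L := ⟨x, hx⟩ with hx'
  have h1 : (QuotientGroup.mk x' : L ⧸ Q.subgroupOf L) ^ n = 1 := by
    rw [← QuotientGroup.mk_pow]
    have : x' ^ n = 1 := by
      apply Subtype.ext
      simpa using hxn
    rw [this, QuotientGroup.mk_one]
  have h2 : (QuotientGroup.mk x' : L ⧸ Q.subgroupOf L) ^ (Q.relIndex L) = 1 := by
    have : Q.relIndex L = Nat.card (L ⧸ Q.subgroupOf L) := by
      rw [Subgroup.relIndex, Subgroup.index_eq_card]
    rw [this]
    exact pow_card_eq_one'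
  have h3 := pow_gcd_eq_one.mpr ⟨h1, h2⟩
  rw [Nat.Coprime.gcd_eq_one hcop, pow_one, QuotientGroup.eq_one_iff] at h3
  exact Subgroup.mem_subgroupOf.mp h3

structure BzHyp (Q D M : Subgroup G) : Prop where
  card : 2 * Nat.card G = Nat.card Q * (Nat.card Q + 1) * (Nat.card Q - 1)
  cent : ∀ x ∈ Q, x ≠ 1 → Subgroup.centralizer ({x} : Set G) = Q
  cardD : 2 * Nat.card D + 1 = Nat.card Q
  inf : Q ⊓ D = ⊥
  normM : Subgroup.normalizer (Q : Set G) = M
  supM : Q ⊔ D = M

variable {Q D M : Subgroup G}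

theorem BzHyp.QM (h : BzHyp Q D M) : Q ≤ M := by
  rw [← h.normM]
  exact Subgroup.le_normalizer

theorem BzHyp.DM (h : BzHyp Q D M) : D ≤ M := by
  rw [← h.supM]
  exact le_sup_right

theorem BzHyp.comm (h : BzHyp Q D M) {x y : G} (hx : x ∈ Q) (hy : y ∈ Q) : x * y = y * x := by
  by_cases hx1 : x = 1
  · rw [hx1, one_mul, mul_one]
  · have h1 := h.cent x hx hx1
    rw [← h1] at hy
    exact (Subgroup.mem_centralizer_singleton_iff.mp hy).symm

theorem BzHyp.mem_cent (h : BzHyp Q D M) {u g : G} (hu : u ∈ Q) (hu1 : u ≠ 1)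
    (hg : g * u = u * g) : g ∈ Q := by
  have h1 := h.cent u hu hu1
  rw [← h1]
  exact Subgroup.mem_centralizer_singleton_iff.mpr hg

theorem BzHyp.relIndex (h : BzHyp Q D M) : Q.relIndex M = Nat.card D := by
  rw [← h.supM]
  apply bz_relIndex_sup _ _ _ h.inf
  rw [h.normM]
  exact h.DM

theorem BzHyp.cardM (h : BzHyp Q D M) : Nat.card M = Nat.card Q * Nat.card D := by
  rw [← bz_card_mul_relIndex h.QM, h.relIndex]

theorem BzHyp.pow_card [Finite G] (_h : BzHyp Q D M) {u : G} (hu : u ∈ Q) : u ^ Nat.card Q = 1 := by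
  have h1 : (⟨u, hu⟩ : Q) ^ Nat.card Q = 1 := pow_card_eq_one'
  have h2 : ((⟨u, hu⟩ : Q) ^ Nat.card Q : Q).1 = (1 : Q).1 := by rw [h1]
  rw [Subgroup.coe_pow] at h2
  exact h2

theorem BzHyp.mem_Q [Finite G] (h : BzHyp Q D M) {x : G} (hx : x ∈ M) (hxn : x ^ Nat.card Q = 1) :
    x ∈ Q := by
  apply bz_mem_of_pow Q M (le_of_eq h.normM.symm) hx hxn
  rw [h.relIndex, ← h.cardD]
  have : Nat.Coprime (Nat.card D * 2 + 1) (Nat.card D) := by
    rw [Nat.coprime_mul_left_add_left]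
    exact Nat.coprime_one_left _
  rwa [mul_comm] at this

theorem BzHyp.conj_mem [Finite G] (h : BzHyp Q D M) {u g : G} (hu : u ∈ Q) (hu1 : u ≠ 1)
    (hg : g⁻¹ * u * g ∈ M) : g ∈ M := by
  have hx : g⁻¹ * u * g ∈ Q := by
    apply h.mem_Q hg
    have : (g⁻¹ * u * g) ^ Nat.card Q = g⁻¹ * u ^ Nat.card Q * g := by
      have := conj_pow (a := g⁻¹) (b := u) (i := Nat.card Q)
      simpa using this
    rw [this, h.pow_card hu]
    group
  have hx1 : g⁻¹ * u * g ≠ 1 := by
    intro h1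
    apply hu1
    have : u = g * (g⁻¹ * u * g) * g⁻¹ := by group
    rw [this, h1]
    group
  rw [← h.normM, Subgroup.mem_normalizer_iff]
  intro y
  constructor
  · intro hy
    apply h.mem_cent hu hu1
    have h2 := h.comm hy hx
    have e1 : g * y * g⁻¹ * u = g * (y * (g⁻¹ * u * g)) * g⁻¹ := by group
    have e2 : u * (g * y * g⁻¹) = g * ((g⁻¹ * u * g) * y) * g⁻¹ := by group
    rw [e1, e2, h2]
  · intro hy
    apply h.mem_cent hx hx1
    have h2 := h.comm hy hu
    have e1 : y * (g⁻¹ * u * g) = g⁻¹ * ((g * y * g⁻¹) * u) * g := by group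
    have e2 : g⁻¹ * u * g * y = g⁻¹ * (u * (g * y * g⁻¹)) * g := by group
    rw [e1, e2, h2]

end Cfsg.Agent.Lib.Helper24
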