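import Mathlib
import Cfsg.Agent.Lib.helper2.BSWDefs
import Cfsg.Agent.Lib.Helper24.BSWZ1

set_option autoImplicit false
set_option linter.style.haveILetI false

namespace Cfsg.Agent.Lib.Helper24

variable {G : Type*} [Group G]

structure BdHyp (t : G) (S O R : Subgroup G) : Prop where
  ht : orderOf t = 2
  hS2 : IsPGroup 2 S
  hOodd : Odd (Nat.card O)
  hOC : O ≤ Subgroup.centralizer ({t} : Set G)
  hSC : S ≤ Subgroup.centralizer ({t} : Set G)
  hSN : S ≤ Subgroup.normalizer (O : Set G)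
  hcard : Nat.card (Subgroup.centralizer ({t} : Set G)) = Nat.card O * Nat.card S
  hRS : R ≤ S
  hRcyc : IsCyclic R
  hRidx : R.relIndex S = 2
  htR : t ∈ R
  hRO : ∀ r ∈ R, ∀ y ∈ O, r * y = y * r
  hsO : ∀ s ∈ S, s ∉ R → ∀ y ∈ O, s * y * s⁻¹ = y⁻¹
  hsR : ∀ s ∈ S, s ∉ R → s * s = 1 ∧ ∀ r ∈ R, s * r * s⁻¹ = r⁻¹
  hc : ∀ Y : Subgroup G, Y ≤ O → Y ≠ ⊥ →
    Subgroup.normalizer (Y : Set G) ≤ Subgroup.centralizer ({t} : Set G)

variable {t : G} {S O R : Subgroup G}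

theorem BdHyp.tt (h : BdHyp t S O R) : t * t = 1 := by
  have := pow_orderOf_eq_one t
  rwa [h.ht, pow_two] at this

theorem BdHyp.t_ne (h : BdHyp t S O R) : t ≠ 1 := by
  intro h1
  have := h.ht
  rw [h1, orderOf_one] at this
  omega

theorem BdHyp.exists_s (h : BdHyp t S O R) : ∃ s ∈ S, s ∉ R := by
  by_contra hcon
  push Not at hcon
  have h1 : R.relIndex S = 1 := Subgroup.relIndex_eq_one.mpr hcon
  have := h.hRidx
  omega

theorem BdHyp.O_comm (h : BdHyp t S O R) {y z : G} (hy : y ∈ O) (hz : z ∈ O) : y * z = z * y := by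
  obtain ⟨s, hs, hsR⟩ := h.exists_s
  have h1 := h.hsO s hs hsR y hy
  have h2 := h.hsO s hs hsR z hz
  have h3 := h.hsO s hs hsR (y * z) (O.mul_mem hy hz)
  have h4 : s * (y * z) * s⁻¹ = (s * y * s⁻¹) * (s * z * s⁻¹) := by group
  rw [h4, h1, h2, mul_inv_rev] at h3
  have h5 : (y⁻¹ * z⁻¹)⁻¹ = (z⁻¹ * y⁻¹)⁻¹ := by rw [h3]
  simpa using h5.symm

theorem BdHyp.pow_O [Finite G] (_h : BdHyp t S O R) {y : G} (hy : y ∈ O) : y ^ Nat.card O = 1 := by
  have h1 : (⟨y, hy⟩ : O) ^ Nat.card O = 1 := pow_card_eq_one'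
  have h2 : ((⟨y, hy⟩ : O) ^ Nat.card O : O).1 = (1 : O).1 := by rw [h1]
  rw [Subgroup.coe_pow] at h2
  exact h2

theorem BdHyp.pow_S (h : BdHyp t S O R) {x : G} (hx : x ∈ S) : ∃ k : ℕ, x ^ 2 ^ k = 1 := by
  obtain ⟨k, hk⟩ := h.hS2 ⟨x, hx⟩
  refine ⟨k, ?_⟩
  have h2 : ((⟨x, hx⟩ : S) ^ 2 ^ k : S).1 = (1 : S).1 := by rw [hk]
  rw [Subgroup.coe_pow] at h2
  exact h2

theorem BdHyp.inf_OS [Finite G] (h : BdHyp t S O R) {x : G} (hxO : x ∈ O) (hxS : x ∈ S) : x = 1 := by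
  obtain ⟨k, hk⟩ := h.pow_S hxS
  have h1 := h.pow_O hxO
  have h3 := pow_gcd_eq_one.mpr ⟨hk, h1⟩
  have hcop : Nat.Coprime (2 ^ k) (Nat.card O) := by
    apply Nat.Coprime.pow_left
    exact (Nat.coprime_two_left.mpr h.hOodd)
  rw [Nat.Coprime.gcd_eq_one hcop, pow_one] at h3
  exact h3

theorem BdHyp.odd_sq [Finite G] (h : BdHyp t S O R) {y : G} (hy : y ∈ O) (hyy : y * y = 1) : y = 1 := by
  have h1 := h.pow_O hy
  have h2 : y ^ 2 = 1 := by rw [pow_two, hyy]
  have h3 := pow_gcd_eq_one.mpr ⟨h2, h1⟩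
  have hcop : Nat.Coprime 2 (Nat.card O) := Nat.coprime_two_left.mpr h.hOodd
  rw [Nat.Coprime.gcd_eq_one hcop, pow_one] at h3
  exact h3

theorem BdHyp.pow_R_odd [Finite G] (h : BdHyp t S O R) {x : G} (hx : x ∈ R)
    (hm : x ^ Nat.card O = 1) : x = 1 := by
  obtain ⟨k, hk⟩ := h.pow_S (h.hRS hx)
  have h3 := pow_gcd_eq_one.mpr ⟨hk, hm⟩
  have hcop : Nat.Coprime (2 ^ k) (Nat.card O) := by
    apply Nat.Coprime.pow_left
    exact (Nat.coprime_two_left.mpr h.hOodd)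
  rw [Nat.Coprime.gcd_eq_one hcop, pow_one] at h3
  exact h3

theorem BdHyp.invol_R [Finite G] (h : BdHyp t S O R) {x : G} (hx : x ∈ R) (hxx : x * x = 1) :
    x = 1 ∨ x = t := by
  classical
  haveI := h.hRcyc
  haveI : Fintype R := Fintype.ofFinite _
  by_contra hcon
  push Not at hcon
  have h1 := IsCyclic.card_pow_eq_one_le (α := R) (n := 2) (by norm_num)
  have hsub : ({(1 : R), ⟨t, h.htR⟩, ⟨x, hx⟩} : Finset R) ⊆
      Finset.univ.filter (fun a : R => a ^ 2 = 1) := by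
    intro a ha
    rw [Finset.mem_insert, Finset.mem_insert, Finset.mem_singleton] at ha
    rw [Finset.mem_filter]
    refine ⟨Finset.mem_univ _, ?_⟩
    rcases ha with rfl | rfl | rfl
    · simp
    · apply Subtype.ext
      rw [Subgroup.coe_pow, pow_two]
      exact h.tt
    · apply Subtype.ext
      rw [Subgroup.coe_pow, pow_two]
      exact hxx
  have h2 := Finset.card_le_card hsub
  have h3 : ({(1 : R), ⟨t, h.htR⟩, ⟨x, hx⟩} : Finset R).card = 3 := by
    rw [Finset.card_insert_of_notMem, Finset.card_insert_of_notMem, Finset.card_singleton]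
    · rw [Finset.mem_singleton]
      intro he
      exact hcon.2 (congrArg Subtype.val he).symm
    · rw [Finset.mem_insert, Finset.mem_singleton]
      rintro (he | he)
      · exact h.t_ne (congrArg Subtype.val he).symm
      · exact hcon.1 (congrArg Subtype.val he).symm
  omega

theorem BdHyp.t_mem_zpowers [Finite G] (h : BdHyp t S O R) {x : G} (hx : x ∈ R) (hx1 : x ≠ 1) :
    t ∈ Subgroup.zpowers x := by
  haveI : Fact (Nat.Prime 2) := ⟨Nat.prime_two⟩
  have hle : Subgroup.zpowers x ≤ S := by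
    rw [Subgroup.zpowers_le]
    exact h.hRS hx
  have hp : IsPGroup 2 (Subgroup.zpowers x) := h.hS2.to_le hle
  obtain ⟨k, hk⟩ := IsPGroup.iff_card.mp hp
  have hk0 : k ≠ 0 := by
    intro h0
    rw [h0, pow_zero] at hk
    apply hx1
    have := Subgroup.card_eq_one.mp hk
    have h1 : x ∈ Subgroup.zpowers x := Subgroup.mem_zpowers x
    rw [this, Subgroup.mem_bot] at h1
    exact h1
  have hdvd : 2 ∣ Nat.card (Subgroup.zpowers x) := by
    rw [hk]
    exact dvd_pow_self 2 hk0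
  obtain ⟨a, ha⟩ := exists_prime_orderOf_dvd_card' 2 hdvd
  have ha1 : (a : G) ≠ 1 := by
    intro h1
    have : a = 1 := Subtype.ext h1
    rw [this, orderOf_one] at ha
    omega
  have haa : (a : G) * (a : G) = 1 := by
    have h1 := pow_orderOf_eq_one a
    rw [ha, pow_two] at h1
    have := congrArg Subtype.val h1
    simpa using this
  have haR : (a : G) ∈ R := by
    have h1 : Subgroup.zpowers x ≤ R := by
      rw [Subgroup.zpowers_le]
      exact hx
    exact h1 a.2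
  rcases h.invol_R haR haa with h1 | h1
  · exact (ha1 h1).elim
  · rw [← h1]
    exact a.2

end Cfsg.Agent.Lib.Helper24
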