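import Mathlib
import Cfsg.Agent.Lib.helper2.BSWDefs
import Cfsg.Agent.Lib.Helper24.BSWD2

set_option autoImplicit false
set_option linter.style.haveILetI false

namespace Cfsg.Agent.Lib.Helper24

variable {G : Type*} [Group G] {t : G} {S O R : Subgroup G}

def bdK (h : BdHyp t S O R) : Subgroup G where
  carrier := {x | ∃ y ∈ O, ∃ r ∈ R, x = y * r}
  one_mem' := ⟨1, O.one_mem, 1, R.one_mem, by rw [mul_one]⟩
  mul_mem' := by
    rintro _ _ ⟨y, hy, r, hr, rfl⟩ ⟨y', hy', r', hr', rfl⟩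
    refine ⟨y * y', O.mul_mem hy hy', r * r', R.mul_mem hr hr', ?_⟩
    have h1 := h.hRO r hr y' hy'
    calc y * r * (y' * r') = y * (r * y') * r' := by group
      _ = y * (y' * r) * r' := by rw [h1]
      _ = y * y' * (r * r') := by group
  inv_mem' := by
    rintro _ ⟨y, hy, r, hr, rfl⟩
    refine ⟨y⁻¹, O.inv_mem hy, r⁻¹, R.inv_mem hr, ?_⟩
    have h1 := h.hRO r⁻¹ (R.inv_mem hr) y⁻¹ (O.inv_mem hy)
    rw [mul_inv_rev, h1]

theorem mem_bdK (h : BdHyp t S O R) {x : G} : x ∈ bdK h ↔ ∃ y ∈ O, ∃ r ∈ R, x = y * r := Iff.rfl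

theorem BdHyp.O_le_K (h : BdHyp t S O R) : O ≤ bdK h := by
  intro y hy
  exact ⟨y, hy, 1, R.one_mem, by rw [mul_one]⟩

theorem BdHyp.R_le_K (h : BdHyp t S O R) : R ≤ bdK h := by
  intro r hr
  exact ⟨1, O.one_mem, r, hr, by rw [one_mul]⟩

theorem BdHyp.R_comm (h : BdHyp t S O R) {a b : G} (ha : a ∈ R) (hb : b ∈ R) : a * b = b * a := by
  haveI := h.hRcyc
  have h1 : (⟨a, ha⟩ : R) * ⟨b, hb⟩ = ⟨b, hb⟩ * ⟨a, ha⟩ := by
    letI := IsCyclic.commGroup (α := R)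
    exact mul_comm _ _
  exact congrArg Subtype.val h1

theorem BdHyp.K_comm (h : BdHyp t S O R) {a b : G} (ha : a ∈ bdK h) (hb : b ∈ bdK h) :
    a * b = b * a := by
  obtain ⟨y, hy, r, hr, rfl⟩ := ha
  obtain ⟨y', hy', r', hr', rfl⟩ := hb
  have h1 := h.hRO r hr y' hy'
  have h2 := h.hRO r' hr' y hy
  have h3 := h.O_comm hy hy'
  have h4 := h.R_comm hr hr'
  calc y * r * (y' * r') = y * (r * y') * r' := by group
    _ = y * (y' * r) * r' := by rw [h1]
    _ = (y * y') * (r * r') := by group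
    _ = (y' * y) * (r' * r) := by rw [h3, h4]
    _ = y' * (y * r') * r := by group
    _ = y' * (r' * y) * r := by rw [h2]
    _ = y' * r' * (y * r) := by group

theorem BdHyp.K_le (h : BdHyp t S O R) : bdK h ≤ Subgroup.centralizer ({t} : Set G) := by
  rintro _ ⟨y, hy, r, hr, rfl⟩
  exact Subgroup.mul_mem _ (h.hOC hy) (h.hSC (h.hRS hr))

theorem BdHyp.t_mem_K (h : BdHyp t S O R) : t ∈ bdK h := h.R_le_K h.htR

theorem BdHyp.s_inv (h : BdHyp t S O R) {s : G} (hs : s ∈ S) (hsR : s ∉ R) {x : G}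
    (hx : x ∈ bdK h) : s * x * s⁻¹ = x⁻¹ := by
  obtain ⟨y, hy, r, hr, rfl⟩ := hx
  have h1 := h.hsO s hs hsR y hy
  have h2 := (h.hsR s hs hsR).2 r hr
  have h3 := h.hRO r⁻¹ (R.inv_mem hr) y⁻¹ (O.inv_mem hy)
  calc s * (y * r) * s⁻¹ = (s * y * s⁻¹) * (s * r * s⁻¹) := by group
    _ = y⁻¹ * r⁻¹ := by rw [h1, h2]
    _ = (y * r)⁻¹ := by rw [mul_inv_rev, h3]

theorem BdHyp.s_not_mem [Finite G] (h : BdHyp t S O R) {s : G} (hs : s ∈ S) (hsR : s ∉ R) :
    s ∉ bdK h := by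
  rintro ⟨y, hy, r, hr, he⟩
  have h1 : y = s * r⁻¹ := by rw [he]; group
  have h2 : y ∈ S := by
    rw [h1]
    exact S.mul_mem hs (S.inv_mem (h.hRS hr))
  have h3 := h.inf_OS hy h2
  rw [h3, one_mul] at he
  exact hsR (he ▸ hr)

theorem BdHyp.decomp_sq [Finite G] (h : BdHyp t S O R) {y r : G} (hy : y ∈ O) (hr : r ∈ R)
    (he : (y * r) * (y * r) = 1) : y = 1 ∧ (r = 1 ∨ r = t) := by
  have h1 := h.hRO r hr y hy
  have h2 : (y * y) * (r * r) = 1 := by
    calc (y * y) * (r * r) = y * (y * r) * r := by group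
      _ = y * (r * y) * r := by rw [h1]
      _ = (y * r) * (y * r) := by group
      _ = 1 := he
  have h3 : y * y = (r * r)⁻¹ := eq_inv_of_mul_eq_one_left h2
  have h4 : y * y ∈ S := by
    rw [h3]
    exact S.inv_mem (S.mul_mem (h.hRS hr) (h.hRS hr))
  have h5 := h.inf_OS (O.mul_mem hy hy) h4
  have h6 := h.odd_sq hy h5
  refine ⟨h6, ?_⟩
  rw [h5, one_mul] at h2
  exact h.invol_R hr h2

theorem BdHyp.invol_K [Finite G] (h : BdHyp t S O R) {x : G} (hx : x ∈ bdK h) (hxx : x * x = 1)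
    (hx1 : x ≠ 1) : x = t := by
  obtain ⟨y, hy, r, hr, rfl⟩ := hx
  obtain ⟨h1, h2⟩ := h.decomp_sq hy hr hxx
  rw [h1, one_mul] at hx1 ⊢
  rcases h2 with h2 | h2
  · exact (hx1 h2).elim
  · exact h2

theorem BdHyp.cent_s [Finite G] (h : BdHyp t S O R) {s : G} (hs : s ∈ S) (hsR : s ∉ R) :
    bdK h ⊓ Subgroup.centralizer ({s} : Set G) = Subgroup.zpowers t := by
  apply le_antisymm
  · rintro x ⟨hxK, hxs⟩
    have hxs' : x ∈ Subgroup.centralizer ({s} : Set G) := hxs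
    have h1 : s * x = x * s := (Subgroup.mem_centralizer_singleton_iff.mp hxs').symm
    have h2 := h.s_inv hs hsR hxK
    have h3 : s * x * s⁻¹ = x := by rw [h1]; group
    rw [h3] at h2
    have h4 : x * x = 1 := by
      nth_rewrite 1 [h2]
      group
    by_cases hx1 : x = 1
    · rw [hx1]
      exact Subgroup.one_mem _
    · rw [h.invol_K hxK h4 hx1]
      exact Subgroup.mem_zpowers t
  · rw [Subgroup.zpowers_le]
    refine ⟨h.t_mem_K, ?_⟩
    have h1 : t ∈ Subgroup.centralizer ({s} : Set G) := by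
      rw [Subgroup.mem_centralizer_singleton_iff]
      have := h.hSC hs
      exact (Subgroup.mem_centralizer_singleton_iff.mp this).symm
    exact h1

end Cfsg.Agent.Lib.Helper24
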