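import Mathlib
import Cfsg.Agent.Lib.helper2.BSWDefs
import Cfsg.Agent.Lib.Helper24.BSWD3

set_option autoImplicit false
set_option linter.style.haveILetI false

namespace Cfsg.Agent.Lib.Helper24

variable {G : Type*} [Group G] {t : G} {S O R : Subgroup G}

theorem bd_mul_mem_of_relIndex_two {A B : Subgroup G} (hi : A.relIndex B = 2) {a b : G}
    (ha : a ∈ B) (hb : b ∈ B) (haA : a ∉ A) (hbA : b ∉ A) : a * b ∈ A := by
  have h1 : (A.subgroupOf B).index = 2 := hi
  have h2 := Subgroup.mul_mem_iff_of_index_two h1 (a := ⟨a, ha⟩) (b := ⟨b, hb⟩)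
  have h3 : ((⟨a, ha⟩ : B) ∈ A.subgroupOf B ↔ (⟨b, hb⟩ : B) ∈ A.subgroupOf B) := by
    rw [Subgroup.mem_subgroupOf, Subgroup.mem_subgroupOf]
    exact ⟨fun h => (haA h).elim, fun h => (hbA h).elim⟩
  have h4 := h2.mpr h3
  rw [Subgroup.mem_subgroupOf] at h4
  exact h4

theorem bd_card_sup (Q D : Subgroup G) (hD : D ≤ Subgroup.normalizer (Q : Set G))
    (hinf : Q ⊓ D = ⊥) : Nat.card (Q ⊔ D : Subgroup G) = Nat.card Q * Nat.card D := by
  rw [← bz_card_mul_relIndex (le_sup_left : Q ≤ Q ⊔ D), bz_relIndex_sup Q D hD hinf]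

theorem bd_comm_mem_normalizer {c x : G} (hcx : c * x = x * c) :
    c ∈ Subgroup.normalizer ((Subgroup.zpowers x : Subgroup G) : Set G) := by
  have hcz : ∀ z ∈ Subgroup.zpowers x, c * z * c⁻¹ = z := by
    intro z hz
    obtain ⟨j, rfl⟩ := Subgroup.mem_zpowers_iff.mp hz
    have hc : Commute c (x ^ j) := (show Commute c x from hcx).zpow_right j
    rw [hc.eq]
    group
  rw [Subgroup.mem_normalizer_iff]
  intro z
  constructor
  · intro hz
    rw [hcz z hz]
    exact hz
  · intro hz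
    have hw := hcz _ hz
    have e : c * z * c⁻¹ = z := by
      apply mul_left_cancel (a := c)
      apply mul_right_cancel (b := c⁻¹)
      exact hw
    rw [e] at hz
    exact hz

theorem BdHyp.inf_bot [Finite G] (h : BdHyp t S O R) : O ⊓ S = ⊥ := by
  rw [Subgroup.eq_bot_iff_forall]
  rintro x ⟨hxO, hxS⟩
  exact h.inf_OS hxO hxS

theorem BdHyp.sup_OS [Finite G] (h : BdHyp t S O R) :
    O ⊔ S = Subgroup.centralizer ({t} : Set G) := by
  apply Subgroup.eq_of_le_of_card_ge (sup_le h.hOC h.hSC)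
  rw [bd_card_sup O S h.hSN h.inf_bot, h.hcard]

theorem BdHyp.S_le [Finite G] (h : BdHyp t S O R) {s : G} (hs : s ∈ S) (hsR : s ∉ R) :
    S ≤ R ⊔ Subgroup.zpowers s := by
  intro x hx
  by_cases hxR : x ∈ R
  · exact Subgroup.mem_sup_left hxR
  · have h1 := bd_mul_mem_of_relIndex_two h.hRidx hx hs hxR hsR
    have h2 : x = (x * s) * s⁻¹ := by group
    rw [h2]
    exact Subgroup.mul_mem_sup h1 (Subgroup.inv_mem _ (Subgroup.mem_zpowers s))

theorem BdHyp.K_sup [Finite G] (h : BdHyp t S O R) {s : G} (hs : s ∈ S) (hsR : s ∉ R) :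
    bdK h ⊔ Subgroup.zpowers s = Subgroup.centralizer ({t} : Set G) := by
  apply le_antisymm
  · apply sup_le h.K_le
    rw [Subgroup.zpowers_le]
    exact h.hSC hs
  · rw [← h.sup_OS]
    apply sup_le
    · exact le_trans h.O_le_K le_sup_left
    · refine le_trans (h.S_le hs hsR) ?_
      exact sup_le_sup_right h.R_le_K _

theorem BdHyp.K_eq_sup (h : BdHyp t S O R) : bdK h = O ⊔ R := by
  apply le_antisymm
  · rintro _ ⟨y, hy, r, hr, rfl⟩
    exact Subgroup.mul_mem_sup hy hr
  · exact sup_le h.O_le_K h.R_le_K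

theorem BdHyp.K_relIndex [Finite G] (h : BdHyp t S O R) :
    (bdK h).relIndex (Subgroup.centralizer ({t} : Set G)) = 2 := by
  have h1 : Nat.card (bdK h) = Nat.card O * Nat.card R := by
    rw [h.K_eq_sup]
    apply bd_card_sup O R (le_trans h.hRS h.hSN)
    rw [Subgroup.eq_bot_iff_forall]
    rintro x ⟨hxO, hxR⟩
    exact h.inf_OS hxO (h.hRS hxR)
  have h2 := bz_card_mul_relIndex h.hRS
  rw [h.hRidx] at h2
  have h3 := bz_card_mul_relIndex h.K_le
  rw [h.hcard, h1, ← h2] at h3
  have hpos : 0 < Nat.card O * Nat.card R := Nat.mul_pos Nat.card_pos Nat.card_pos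
  have h4 : Nat.card O * Nat.card R * (bdK h).relIndex (Subgroup.centralizer ({t} : Set G)) =
      Nat.card O * Nat.card R * 2 := by
    rw [h3]
    ring
  exact Nat.eq_of_mul_eq_mul_left hpos h4

theorem BdHyp.mem_K_of_cent [Finite G] (h : BdHyp t S O R) {x : G}
    (hx : x ∈ Subgroup.centralizer ({t} : Set G)) (hcen : ∀ k ∈ bdK h, x * k = k * x)
    {y : G} (hy : y ∈ O) (hy1 : y ≠ 1) : x ∈ bdK h := by
  by_contra hxK
  obtain ⟨s, hs, hsR⟩ := h.exists_s
  have hsK := h.s_not_mem hs hsR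
  have h1 := bd_mul_mem_of_relIndex_two h.K_relIndex hx (h.hSC hs) hxK hsK
  have h2 := h.K_comm h1 (h.O_le_K hy)
  have h3 := hcen y (h.O_le_K hy)
  have h4 : s * y = y * s := by
    have e1 : s * y = x⁻¹ * (x * s * y) := by group
    rw [e1, h2]
    have e2 : x⁻¹ * (y * (x * s)) = x⁻¹ * (y * x) * s := by group
    rw [e2, ← h3]
    group
  have h5 := h.s_inv hs hsR (h.O_le_K hy)
  have h6 : s * y * s⁻¹ = y := by rw [h4]; group
  rw [h6] at h5
  have h7 : y * y = 1 := by
    nth_rewrite 1 [h5]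
    group
  exact hy1 (h.odd_sq hy h7)

theorem BdHyp.t_mem_zpowers_K [Finite G] (h : BdHyp t S O R) {y r : G} (hy : y ∈ O) (hr : r ∈ R)
    (hr1 : r ≠ 1) : t ∈ Subgroup.zpowers (y * r) := by
  have hc : Commute y r := (h.hRO r hr y hy).symm
  have h1 : (y * r) ^ Nat.card O = r ^ Nat.card O := by
    rw [hc.mul_pow, h.pow_O hy, one_mul]
  have h2 : r ^ Nat.card O ≠ 1 := by
    intro h3
    exact hr1 (h.pow_R_odd hr h3)
  have h3 := h.t_mem_zpowers (R.pow_mem hr _) h2
  rw [← h1] at h3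
  have h4 : Subgroup.zpowers ((y * r) ^ Nat.card O) ≤ Subgroup.zpowers (y * r) := by
    rw [Subgroup.zpowers_le]
    exact Subgroup.pow_mem _ (Subgroup.mem_zpowers _) _
  exact h4 h3

theorem BdHyp.cent_of_conj_t [Finite G] (h : BdHyp t S O R) {g : G}
    (hg : g * t * g⁻¹ ∈ bdK h) : g ∈ Subgroup.centralizer ({t} : Set G) := by
  have h1 : (g * t * g⁻¹) * (g * t * g⁻¹) = 1 := by
    have : (g * t * g⁻¹) * (g * t * g⁻¹) = g * (t * t) * g⁻¹ := by group
    rw [this, h.tt]
    group
  have h2 : g * t * g⁻¹ ≠ 1 := by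
    intro h3
    apply h.t_ne
    have : t = g⁻¹ * (g * t * g⁻¹) * g := by group
    rw [this, h3]
    group
  have h3 := h.invol_K hg h1 h2
  rw [Subgroup.mem_centralizer_singleton_iff]
  have : g * t = (g * t * g⁻¹) * g := by group
  rw [this, h3]

theorem BdHyp.TI [Finite G] (h : BdHyp t S O R) (g : G)
    (hg : g ∉ Subgroup.centralizer ({t} : Set G)) :
    bdK h ⊓ (bdK h).map (MulAut.conj g).toMonoidHom = ⊥ := by
  rw [Subgroup.eq_bot_iff_forall]
  rintro x ⟨hxK, hxg⟩
  by_contra hx1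
  obtain ⟨k, hkK, hkx⟩ := Subgroup.mem_map.mp hxg
  have hkx' : g * k * g⁻¹ = x := by
    rw [← hkx]
    rfl
  have hxK' : x ∈ bdK h := hxK
  have hkK' : k ∈ bdK h := hkK
  obtain ⟨y, hy, r, hr, hxyr⟩ := hxK'
  obtain ⟨y', hy', r', hr', hkyr⟩ := hkK'
  by_cases hr1 : r = 1
  · by_cases hr1' : r' = 1
    · rw [hr1, mul_one] at hxyr
      rw [hr1', mul_one] at hkyr
      subst hxyr hkyr
      have hk1 : k ≠ 1 := by
        intro hk
        apply hx1
        rw [← hkx', hk]
        group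
      apply hg
      have hinv : g⁻¹ ∈ Subgroup.centralizer ({t} : Set G) := by
        apply h.cent_of_conj_t
        have hgtg : g⁻¹ * t * g⁻¹⁻¹ = g⁻¹ * t * g := by group
        rw [hgtg]
        have hcen : ∀ k₁ ∈ bdK h, (g⁻¹ * t * g) * k₁ = k₁ * (g⁻¹ * t * g) := by
          intro k₁ hk₁
          have h1 : k₁ * k = k * k₁ := h.K_comm hk₁ hkK
          have h2 : g * k₁ * g⁻¹ ∈ Subgroup.normalizer ((Subgroup.zpowers x : Subgroup G) : Set G) := by
            apply bd_comm_mem_normalizer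
            rw [← hkx']
            have e1 : g * k₁ * g⁻¹ * (g * k * g⁻¹) = g * (k₁ * k) * g⁻¹ := by group
            have e2 : g * k * g⁻¹ * (g * k₁ * g⁻¹) = g * (k * k₁) * g⁻¹ := by group
            rw [e1, e2, h1]
          have hY : Subgroup.zpowers x ≤ O := by
            rw [Subgroup.zpowers_le]
            exact hy
          have hYne : Subgroup.zpowers x ≠ ⊥ := by
            intro hb
            apply hx1
            have := Subgroup.mem_zpowers x
            rw [hb, Subgroup.mem_bot] at this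
            exact this
          have h3 := h.hc _ hY hYne h2
          have h4 : (g * k₁ * g⁻¹) * t = t * (g * k₁ * g⁻¹) :=
            Subgroup.mem_centralizer_singleton_iff.mp h3
          have e1 : g⁻¹ * t * g * k₁ = g⁻¹ * (t * (g * k₁ * g⁻¹)) * g := by group
          have e2 : k₁ * (g⁻¹ * t * g) = g⁻¹ * ((g * k₁ * g⁻¹) * t) * g := by group
          rw [e1, e2, h4]
        have hin : g⁻¹ * t * g ∈ Subgroup.centralizer ({t} : Set G) := by
          rw [Subgroup.mem_centralizer_singleton_iff]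
          exact hcen t h.t_mem_K
        exact h.mem_K_of_cent hin hcen hy' hk1
      have := Subgroup.inv_mem _ hinv
      simpa using this
    · apply hg
      have h1 := h.t_mem_zpowers_K hy' hr' hr1'
      rw [← hkyr] at h1
      obtain ⟨j, hj⟩ := Subgroup.mem_zpowers_iff.mp h1
      apply h.cent_of_conj_t
      have h2 : g * t * g⁻¹ = x ^ j := by
        rw [← hj, ← hkx']
        simp
      rw [h2]
      exact Subgroup.zpow_mem _ hxK j
  · apply hg
    have h1 := h.t_mem_zpowers_K hy hr hr1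
    rw [← hxyr] at h1
    obtain ⟨j, hj⟩ := Subgroup.mem_zpowers_iff.mp h1
    have hinv : g⁻¹ ∈ Subgroup.centralizer ({t} : Set G) := by
      apply h.cent_of_conj_t
      have h2 : g⁻¹ * t * g⁻¹⁻¹ = k ^ j := by
        rw [← hj, ← hkx']
        have := (MulAut.conj g⁻¹).toMonoidHom.map_zpow (g * k * g⁻¹) j
        have e : (MulAut.conj g⁻¹).toMonoidHom (g * k * g⁻¹) = k := by
          simp
          group
        rw [e] at this
        rw [← this]
        simp
      rw [h2]
      exact Subgroup.zpow_mem _ hkK j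
    have := Subgroup.inv_mem _ hinv
    simpa using this

end Cfsg.Agent.Lib.Helper24
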