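import Mathlib
import Cfsg.Agent.Lib.helper2.BSWDefs
import Cfsg.Agent.Lib.Helper24.BSWD4
import Cfsg.Agent.S0111

set_option autoImplicit false
set_option linter.style.haveILetI false

namespace Cfsg.Agent.Lib.Helper24

open Cfsg.Agent.Lib.helper2

variable {G : Type*} [Group G] {t : G} {S O R : Subgroup G}

theorem bd_sq_of_order {a : G} (ha : orderOf a = 2) : a * a = 1 := by
  have := pow_orderOf_eq_one a
  rwa [ha, pow_two] at this

theorem bd_ne_of_order {a : G} (ha : orderOf a = 2) : a ≠ 1 := by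
  intro h1
  rw [h1, orderOf_one] at ha
  omega

theorem bd_order_of_sq {a : G} (h1 : a * a = 1) (h2 : a ≠ 1) : orderOf a = 2 := by
  haveI : Fact (Nat.Prime 2) := ⟨Nat.prime_two⟩
  exact orderOf_eq_prime (by rw [pow_two, h1]) h2

theorem bd_conj_into [Finite G] (P : Sylow 2 G) {a : G} (ha : orderOf a = 2) :
    ∃ c : G, c * a * c⁻¹ ∈ (P : Subgroup G) := by
  haveI : Fact (Nat.Prime 2) := ⟨Nat.prime_two⟩
  have hp : IsPGroup 2 (Subgroup.zpowers a) := by
    apply IsPGroup.of_card (n := 1)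
    rw [Nat.card_zpowers, ha, pow_one]
  obtain ⟨Q, hQ⟩ := hp.exists_le_sylow
  obtain ⟨c, hc⟩ := MulAction.exists_smul_eq G Q P
  refine ⟨c, ?_⟩
  have haQ : a ∈ (Q : Subgroup G) := hQ (Subgroup.mem_zpowers a)
  have h1 : ((c • Q : Sylow 2 G) : Subgroup G) = (Q : Subgroup G).map (MulAut.conj c).toMonoidHom := by
    rw [Sylow.coe_subgroup_smul]
    rfl
  rw [← hc, h1, Subgroup.mem_map]
  exact ⟨a, haQ, rfl⟩

theorem bd_all_conj [Finite G] [IsSimpleGroup G] (P : Sylow 2 G) (hP : 4 ≤ Nat.card P)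
    (h : BdHyp t (P : Subgroup G) O R) :
    ∀ x y : G, orderOf x = 2 → orderOf y = 2 → IsConj x y := by
  have key : ∀ a : G, orderOf a = 2 → ∃ c : G, c * a * c⁻¹ = t := by
    intro a ha
    obtain ⟨c, hc⟩ := bd_conj_into P ha
    have ho : orderOf (c * a * c⁻¹) = 2 := by
      have : c * a * c⁻¹ = (MulAut.conj c) a := rfl
      rw [this, MulEquiv.orderOf_eq, ha]
    by_cases hR : c * a * c⁻¹ ∈ R
    · rcases h.invol_R hR (bd_sq_of_order ho) with h1 | h1
      · exact ((bd_ne_of_order ho) h1).elim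
      · exact ⟨c, h1⟩
    · rcases Cfsg.Agent.S0111.result P R h.hRS h.hRidx (c * a * c⁻¹) ho hc hR with hM | hg
      · exfalso
        obtain ⟨M, hMn, hMi, _⟩ := hM
        rcases hMn.eq_bot_or_eq_top with hb | htop
        · rw [hb, Subgroup.index_bot] at hMi
          have h1 : Nat.card P ∣ Nat.card G := Subgroup.card_subgroup_dvd_card _
          rw [hMi] at h1
          have := Nat.le_of_dvd (by norm_num) h1
          omega
        · rw [htop, Subgroup.index_top] at hMi
          omega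
      · obtain ⟨g, hg⟩ := hg
        have ho' : orderOf (g * (c * a * c⁻¹) * g⁻¹) = 2 := by
          have : g * (c * a * c⁻¹) * g⁻¹ = (MulAut.conj g) (c * a * c⁻¹) := rfl
          rw [this, MulEquiv.orderOf_eq, ho]
        rcases h.invol_R hg (bd_sq_of_order ho') with h1 | h1
        · exact ((bd_ne_of_order ho') h1).elim
        · refine ⟨g * c, ?_⟩
          rw [← h1]
          group
  intro x y hx hy
  obtain ⟨c, hc⟩ := key x hx
  obtain ⟨d, hd⟩ := key y hy
  rw [isConj_iff]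
  refine ⟨d⁻¹ * c, ?_⟩
  have : d⁻¹ * c * x * (d⁻¹ * c)⁻¹ = d⁻¹ * (c * x * c⁻¹) * d := by group
  rw [this, hc, ← hd]
  group

theorem BdHyp.bsw [Finite G] (h : BdHyp t S O R)
    (hconj : ∀ x y : G, orderOf x = 2 → orderOf y = 2 → IsConj x y) :
    ∃ (K : Subgroup G) (s : G), BswHyp t K s := by
  obtain ⟨s, hs, hsR⟩ := h.exists_s
  have hs1 : s ≠ 1 := by
    intro h1
    exact hsR (h1 ▸ R.one_mem)
  refine ⟨bdK h, s, ?_⟩
  exact
    { ht := h.ht
      hKab := ⟨⟨fun a b => Subtype.ext (h.K_comm a.2 b.2)⟩⟩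
      hKH := h.K_le
      htK := h.t_mem_K
      hs := bd_order_of_sq (h.hsR s hs hsR).1 hs1
      hsH := h.hSC hs
      hsK := h.s_not_mem hs hsR
      hH := h.K_sup hs hsR
      hCK := h.cent_s hs hsR
      hinv := fun x hx => h.s_inv hs hsR hx
      hTI := h.TI
      hconj := hconj }

end Cfsg.Agent.Lib.Helper24
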