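import Mathlib
import Cfsg.Prelude.Def_CaseTheorems
import Cfsg.Agent.Lib.helper2.BSWDefs
import Cfsg.Agent.Lib.Helper18.PPrimeCore
import Cfsg.Agent.Lib.Helper24.BSWD1
import Cfsg.Agent.Lib.Helper24.BSWD5
import Cfsg.Agent.S0514

set_option autoImplicit false
set_option linter.style.haveILetI false

namespace Cfsg.Agent.Lib.Helper24

open Cfsg.Agent.Lib.helper2

variable {G : Type*} [Group G]

theorem bd_dih_sub {n : ℕ} (hn : 2 ≤ n) (S R : Subgroup G) (e : ↥S ≃* DihedralGroup n)
    (hRS : R ≤ S) (hc : IsCyclic R) (hi : R.relIndex S = 2) :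
    ∀ s ∈ S, s ∉ R → s * s = 1 ∧ ∀ r ∈ R, s * r * s⁻¹ = r⁻¹ := by
  have hc' : IsCyclic (R.subgroupOf S) :=
    isCyclic_of_surjective (Subgroup.subgroupOfEquivOfLe hRS).symm
      (Subgroup.subgroupOfEquivOfLe hRS).symm.surjective
  intro s hs hsR
  have hx : (⟨s, hs⟩ : S) ∉ R.subgroupOf S := by
    rw [Subgroup.mem_subgroupOf]
    exact hsR
  obtain ⟨h1, h2⟩ := bd_dih hn e (R.subgroupOf S) hc' hi ⟨s, hs⟩ hx
  constructor
  · have := congrArg Subtype.val h1
    simpa using this
  · intro r hr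
    have h3 := h2 ⟨r, hRS hr⟩ (Subgroup.mem_subgroupOf.mpr hr)
    have := congrArg Subtype.val h3
    simpa using this

theorem bd_dih_sub_exists {n : ℕ} (hn : 2 ≤ n) (S : Subgroup G) (e : ↥S ≃* DihedralGroup n)
    (t : G) (ht : orderOf t = 2) (htS : t ∈ S) (hcen : ∀ s ∈ S, s * t = t * s) :
    ∃ R : Subgroup G, R ≤ S ∧ IsCyclic R ∧ R.relIndex S = 2 ∧ t ∈ R := by
  have ht' : orderOf (⟨t, htS⟩ : S) = 2 := by
    rw [← ht]
    exact Subgroup.orderOf_mk t htS
  have hcen' : ∀ x : S, x * ⟨t, htS⟩ = ⟨t, htS⟩ * x := by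
    intro x
    apply Subtype.ext
    exact hcen x.1 x.2
  obtain ⟨R₀, hc, hi, htR⟩ := bd_dih_exists hn e ⟨t, htS⟩ ht' hcen'
  refine ⟨R₀.map S.subtype, Subgroup.map_subtype_le _, ?_, ?_, ?_⟩
  · exact isCyclic_of_surjective (S.subtype.subgroupMap R₀) (S.subtype.subgroupMap_surjective R₀)
  · have h1 : (R₀.map S.subtype).subgroupOf S = R₀ :=
      Subgroup.comap_map_eq_self_of_injective (Subgroup.subtype_injective _) R₀
    rw [Subgroup.relIndex, h1, hi]
  · exact Subgroup.mem_map.mpr ⟨⟨t, htS⟩, htR, rfl⟩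

theorem bd_card_cent [Finite G] (S : Sylow 2 G) (t : G)
    (hSC : (S : Subgroup G) ≤ Subgroup.centralizer ({t} : Set G))
    (N : Subgroup (Subgroup.centralizer ({t} : Set G))) (hN : N.Normal) (hodd : Odd (Nat.card N))
    (k : ℕ) (hk : N.index = 2 ^ k) :
    Nat.card (Cfsg.oddCore (Subgroup.centralizer ({t} : Set G))) = Nat.card N ∧
      Nat.card (Subgroup.centralizer ({t} : Set G)) = Nat.card N * Nat.card S := by
  haveI : Fact (Nat.Prime 2) := ⟨Nat.prime_two⟩
  have hcopN : (Nat.card N).Coprime 2 := Nat.coprime_two_right.mpr hodd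
  have hle : N ≤ Cfsg.oddCore (Subgroup.centralizer ({t} : Set G)) :=
    Cfsg.Agent.Lib.Helper18.le_pPrimeCore_h18 hN hcopN
  have hcop : (Nat.card (Cfsg.oddCore (Subgroup.centralizer ({t} : Set G)))).Coprime 2 :=
    Cfsg.Agent.Lib.Helper18.pPrimeCore_card_coprime_h18 2
  have h1 := bz_card_mul_relIndex hle
  have h2 : N.relIndex (Cfsg.oddCore (Subgroup.centralizer ({t} : Set G))) ∣ 2 ^ k := by
    rw [← hk]
    exact Subgroup.relIndex_dvd_index_of_le hle
  have h3 : (N.relIndex (Cfsg.oddCore (Subgroup.centralizer ({t} : Set G)))).Coprime 2 := by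
    apply Nat.Coprime.coprime_dvd_left _ hcop
    rw [← h1]
    exact dvd_mul_left _ _
  have h4 : N.relIndex (Cfsg.oddCore (Subgroup.centralizer ({t} : Set G))) = 1 := by
    have := Nat.Coprime.eq_one_of_dvd (Nat.Coprime.pow_right k h3) h2
    exact this
  rw [h4, mul_one] at h1
  refine ⟨h1.symm, ?_⟩
  have h5 := Subgroup.card_mul_index N
  rw [hk] at h5
  have h6 : Nat.card S = 2 ^ k := by
    have hS1 : Nat.card S = 2 ^ (Nat.card G).factorization 2 := Sylow.card_eq_multiplicity S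
    apply Nat.dvd_antisymm
    · have h7 : Nat.card S ∣ Nat.card (Subgroup.centralizer ({t} : Set G)) :=
        Subgroup.card_dvd_of_le hSC
      rw [← h5] at h7
      have h8 : (Nat.card S).Coprime (Nat.card N) := by
        have : (Nat.card S : ℕ) = 2 ^ (Nat.card G).factorization 2 := hS1
        rw [this]
        exact Nat.Coprime.pow_left _ hcopN.symm
      exact h8.dvd_of_dvd_mul_left h7
    · have h7 : 2 ^ k ∣ Nat.card G := by
        have : 2 ^ k ∣ Nat.card (Subgroup.centralizer ({t} : Set G)) := by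
          rw [← h5]
          exact dvd_mul_left _ _
        exact this.trans (Subgroup.card_subgroup_dvd_card _)
      have h8 : k ≤ (Nat.card G).factorization 2 :=
        (Nat.Prime.pow_dvd_iff_le_factorization Nat.prime_two Nat.card_pos.ne').mp h7
      have : (Nat.card S : ℕ) = 2 ^ (Nat.card G).factorization 2 := hS1
      rw [this]
      exact pow_dvd_pow 2 h8
  have : (Nat.card S : ℕ) = 2 ^ k := h6
  rw [this, h5]

end Cfsg.Agent.Lib.Helper24
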