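import Mathlib
import Cfsg.Prelude.Def_CaseTheorems
import Cfsg.Agent.Lib.helper2.BSWDefs
import Cfsg.Agent.Lib.Helper24.BSWD6

set_option autoImplicit false
set_option linter.style.haveILetI false

namespace Cfsg.Agent.Lib.Helper24

open Cfsg.Agent.Lib.helper2

variable {G : Type*} [Group G]

theorem bd_main [Finite G] (S : Sylow 2 G) (n : ℕ)
    (hn : 2 ≤ n) (hS : Nonempty ((S : Subgroup G) ≃* DihedralGroup n)) (t : G) (ht : orderOf t = 2)
    (htS : t ∈ (S : Subgroup G))
    (htZ : ∀ s ∈ (S : Subgroup G), s * t = t * s) (O : Subgroup G)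
    (hO : O = (Cfsg.oddCore (Subgroup.centralizer ({t} : Set G))).map
      (Subgroup.centralizer ({t} : Set G)).subtype)
    (ha : O ≠ ⊥ → IsCyclic ((S : Subgroup G) ⊓ Subgroup.centralizer (O : Set G) : Subgroup G) ∧
      ((S : Subgroup G) ⊓ Subgroup.centralizer (O : Set G)).relIndex (S : Subgroup G) = 2)
    (hb : ∀ s ∈ (S : Subgroup G), s ∉ Subgroup.centralizer (O : Set G) →
      ∀ y ∈ O, s * y * s⁻¹ = y⁻¹)
    (hc : ∀ Y : Subgroup G, Y ≤ O → Y ≠ ⊥ →
      Subgroup.normalizer (Y : Set G) ≤ Subgroup.centralizer ({t} : Set G)) :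
    ∃ R : Subgroup G, BdHyp t (S : Subgroup G) O R := by
  obtain ⟨e⟩ := hS
  have hSC : (S : Subgroup G) ≤ Subgroup.centralizer ({t} : Set G) := fun s hs =>
    Subgroup.mem_centralizer_singleton_iff.mpr (htZ s hs)
  obtain ⟨N, hN, hodd, k, hk⟩ := Cfsg.Agent.S0514.result S n hn ⟨e⟩ t ht
  obtain ⟨hc1, hc2⟩ := bd_card_cent S t hSC N hN hodd k hk
  have hOcard : Nat.card O = Nat.card (Cfsg.oddCore (Subgroup.centralizer ({t} : Set G))) := by
    rw [hO]
    exact Subgroup.card_map_of_injective (Subgroup.subtype_injective _)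
  have hOodd : Odd (Nat.card O) := by
    rw [hOcard, hc1]
    exact hodd
  have hOC : O ≤ Subgroup.centralizer ({t} : Set G) := by
    rw [hO]
    exact Subgroup.map_subtype_le _
  have hCN : Subgroup.centralizer ({t} : Set G) ≤ Subgroup.normalizer (O : Set G) := by
    haveI hnorm : (Cfsg.oddCore (Subgroup.centralizer ({t} : Set G))).Normal :=
      Cfsg.Agent.Lib.Helper18.pPrimeCore_normal_h18 2 _
    have h1 := Subgroup.le_normalizer_map
      (H := Cfsg.oddCore (Subgroup.centralizer ({t} : Set G)))
      (Subgroup.centralizer ({t} : Set G)).subtype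
    rw [Subgroup.normalizer_eq_top, ← MonoidHom.range_eq_map, Subgroup.range_subtype] at h1
    rw [hO]
    exact h1
  have hSN : (S : Subgroup G) ≤ Subgroup.normalizer (O : Set G) := le_trans hSC hCN
  have hcard : Nat.card (Subgroup.centralizer ({t} : Set G)) = Nat.card O * Nat.card (S : Subgroup G) := by
    rw [hc2, hOcard, hc1]
  by_cases hO1 : O = ⊥
  · obtain ⟨R, hRS, hRc, hRi, htR⟩ := bd_dih_sub_exists hn (S : Subgroup G) e t ht htS htZ
    refine ⟨R, ?_⟩
    exact
      { ht := ht
        hS2 := S.isPGroup'
        hOodd := hOodd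
        hOC := hOC
        hSC := hSC
        hSN := hSN
        hcard := hcard
        hRS := hRS
        hRcyc := hRc
        hRidx := hRi
        htR := htR
        hRO := by
          intro r _ y hy
          rw [hO1, Subgroup.mem_bot] at hy
          rw [hy, mul_one, one_mul]
        hsO := by
          intro s _ _ y hy
          rw [hO1, Subgroup.mem_bot] at hy
          rw [hy]
          group
        hsR := bd_dih_sub hn (S : Subgroup G) R e hRS hRc hRi
        hc := hc }
  · obtain ⟨hRc, hRi⟩ := ha hO1
    refine ⟨(S : Subgroup G) ⊓ Subgroup.centralizer (O : Set G), ?_⟩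
    exact
      { ht := ht
        hS2 := S.isPGroup'
        hOodd := hOodd
        hOC := hOC
        hSC := hSC
        hSN := hSN
        hcard := hcard
        hRS := inf_le_left
        hRcyc := hRc
        hRidx := hRi
        htR := by
          have h1 : t ∈ Subgroup.centralizer (O : Set G) := by
            rw [Subgroup.mem_centralizer_iff]
            intro y hy
            exact (Subgroup.mem_centralizer_singleton_iff.mp (hOC hy))
          exact ⟨htS, h1⟩
        hRO := by
          intro r hr y hy
          have h1 : r ∈ Subgroup.centralizer (O : Set G) := hr.2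
          rw [Subgroup.mem_centralizer_iff] at h1
          exact (h1 y hy).symm
        hsO := by
          intro s hs hsR y hy
          apply hb s hs _ y hy
          intro hcen
          exact hsR ⟨hs, hcen⟩
        hsR := bd_dih_sub hn (S : Subgroup G) _ e inf_le_left hRc hRi
        hc := hc }

end Cfsg.Agent.Lib.Helper24
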