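import Mathlib
import Cfsg.Agent.Lib.Helper24.BSWZ1

set_option autoImplicit false
set_option linter.style.haveILetI false

namespace Cfsg.Agent.Lib.Helper24

variable {G : Type*} [Group G] {Q D M : Subgroup G}

theorem bz_exists_pt (M : Subgroup G) (y : G ⧸ M) : ∃ g : G, g • ((1 : G) : G ⧸ M) = y := by
  induction y using QuotientGroup.induction_on with
  | H g =>
    refine ⟨g, ?_⟩
    rw [MulAction.Quotient.smul_coe, smul_eq_mul, mul_one]

theorem bz_fix_iff (M : Subgroup G) (g : G) : g • ((1 : G) : G ⧸ M) = ((1 : G) : G ⧸ M) ↔ g ∈ M := by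
  rw [← MulAction.mem_stabilizer_iff, MulAction.stabilizer_quotient]

theorem BzHyp.semireg [Finite G] (h : BzHyp Q D M) {u : G} (hu : u ∈ Q) {y : G ⧸ M}
    (hy : y ≠ ((1 : G) : G ⧸ M)) (hfix : u • y = y) : u = 1 := by
  by_contra hu1
  obtain ⟨g, rfl⟩ := bz_exists_pt M y
  have hg : g ∉ M := by
    intro hg
    exact hy ((bz_fix_iff M g).mpr hg)
  apply hg
  apply h.conj_mem hu hu1
  rw [← bz_fix_iff, mul_smul, mul_smul, hfix, inv_smul_smul]

theorem BzHyp.Q_fix (h : BzHyp Q D M) {u : G} (hu : u ∈ Q) :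
    u • ((1 : G) : G ⧸ M) = ((1 : G) : G ⧸ M) :=
  (bz_fix_iff M u).mpr (h.QM hu)

theorem BzHyp.reg_unique [Finite G] (h : BzHyp Q D M) {u u' : G} (hu : u ∈ Q) (hu' : u' ∈ Q)
    {y : G ⧸ M} (hy : y ≠ ((1 : G) : G ⧸ M)) (he : u • y = u' • y) : u = u' := by
  have h1 : (u'⁻¹ * u) • y = y := by
    rw [mul_smul, he, inv_smul_smul]
  have h2 := h.semireg (Q.mul_mem (Q.inv_mem hu') hu) hy h1
  have : u = u' * (u'⁻¹ * u) := by group
  rw [this, h2, mul_one]

theorem BzHyp.q_pos [Finite G] (h : BzHyp Q D M) : 2 ≤ Nat.card Q := by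
  have h1 := h.card
  have h2 := h.cardD
  have h3 : 0 < Nat.card G := Nat.card_pos
  by_contra hlt
  have : Nat.card Q = 1 := by omega
  rw [this] at h1
  simp at h1
  omega

theorem BzHyp.index [Finite G] (h : BzHyp Q D M) : M.index = Nat.card Q + 1 := by
  have h1 := h.card
  have h2 := h.cardD
  have h3 := h.cardM
  have h4 := Subgroup.card_mul_index M
  have hq := h.q_pos
  have h5 : Nat.card Q - 1 = 2 * Nat.card D := by omega
  rw [h5, ← h4, h3] at h1
  have h6 : 0 < Nat.card Q := by omega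
  have h7 : 0 < Nat.card D := Nat.card_pos
  have h8 : 2 * (Nat.card Q * Nat.card D * M.index) =
      (Nat.card Q * Nat.card D * 2) * M.index := by ring
  have h9 : Nat.card Q * (Nat.card Q + 1) * (2 * Nat.card D) =
      (Nat.card Q * Nat.card D * 2) * (Nat.card Q + 1) := by ring
  rw [h8, h9] at h1
  exact Nat.eq_of_mul_eq_mul_left (by positivity) h1

theorem BzHyp.card_compl [Finite G] (h : BzHyp Q D M) :
    Nat.card {z : G ⧸ M // z ≠ ((1 : G) : G ⧸ M)} = Nat.card Q := by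
  classical
  haveI : Fintype (G ⧸ M) := Fintype.ofFinite _
  have h1 : Nat.card (G ⧸ M) = Nat.card Q + 1 := by
    rw [← Subgroup.index_eq_card, h.index]
  rw [Nat.card_eq_fintype_card, Fintype.card_subtype_compl, Fintype.card_subtype_eq,
    ← Nat.card_eq_fintype_card, h1]
  rfl

theorem BzHyp.reg_exists [Finite G] (h : BzHyp Q D M) {y z : G ⧸ M}
    (hy : y ≠ ((1 : G) : G ⧸ M)) (hz : z ≠ ((1 : G) : G ⧸ M)) : ∃ u ∈ Q, u • y = z := by
  have hne : ∀ u : Q, (u : G) • y ≠ ((1 : G) : G ⧸ M) := by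
    intro u hu
    apply hy
    have h1 := h.Q_fix u.2
    rw [← h1] at hu
    exact smul_left_cancel _ hu
  set f : Q → {z : G ⧸ M // z ≠ ((1 : G) : G ⧸ M)} := fun u => ⟨(u : G) • y, hne u⟩ with hf
  have hinj : Function.Injective f := by
    intro u u' he
    have h1 : (u : G) • y = (u' : G) • y := congrArg Subtype.val he
    exact Subtype.ext (h.reg_unique u.2 u'.2 hy h1)
  have hbij := hinj.bijective_of_nat_card_le (le_of_eq h.card_compl)
  obtain ⟨u, hu⟩ := hbij.2 ⟨z, hz⟩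
  exact ⟨u.1, u.2, congrArg Subtype.val hu⟩

end Cfsg.Agent.Lib.Helper24
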