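import Mathlib
import Cfsg.Agent.Lib.Helper24.BSWZ2

set_option autoImplicit false
set_option linter.style.haveILetI false

namespace Cfsg.Agent.Lib.Helper24

variable {G : Type*} [Group G] {Q D M : Subgroup G}

theorem BzHyp.two_trans [Finite G] (h : BzHyp Q D M) :
    MulAction.IsMultiplyPretransitive G (G ⧸ M) 2 := by
  rw [MulAction.is_two_pretransitive_iff]
  intro a b c d hab hcd
  obtain ⟨g1, hg1⟩ := bz_exists_pt M a
  obtain ⟨g2, hg2⟩ := bz_exists_pt M c
  have hy : g1⁻¹ • b ≠ ((1 : G) : G ⧸ M) := by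
    intro hb
    apply hab
    rw [← hg1, ← hb, smul_inv_smul]
  have hz : g2⁻¹ • d ≠ ((1 : G) : G ⧸ M) := by
    intro hd
    apply hcd
    rw [← hg2, ← hd, smul_inv_smul]
  obtain ⟨u, hu, huy⟩ := h.reg_exists hy hz
  refine ⟨g2 * u * g1⁻¹, ?_, ?_⟩
  · rw [mul_smul, mul_smul, ← hg1, inv_smul_smul, h.Q_fix hu, hg2]
  · rw [mul_smul, mul_smul, huy, smul_inv_smul]

theorem BzHyp.three_fix_aux [Finite G] (h : BzHyp Q D M) {g : G} {y z : G ⧸ M}
    (hg : g ∈ M) (hy : y ≠ ((1 : G) : G ⧸ M)) (hz : z ≠ ((1 : G) : G ⧸ M)) (hyz : y ≠ z)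
    (hgy : g • y = y) (hgz : g • z = z) : g = 1 := by
  obtain ⟨u, hu, huy⟩ := h.reg_exists hy hz
  have hu1 : u ≠ 1 := by
    intro h1
    apply hyz
    rw [← huy, h1, one_smul]
  have hgi : g⁻¹ • y = y := by
    rw [inv_smul_eq_iff, hgy]
  have hv : (g⁻¹ * u⁻¹ * g * u) • y = y := by
    rw [mul_smul, mul_smul, mul_smul, huy, hgz, ← huy, inv_smul_smul, hgi]
  have hgN : g⁻¹ ∈ Subgroup.normalizer (Q : Set G) := by
    rw [h.normM]
    exact M.inv_mem hg
  have hvQ : g⁻¹ * u⁻¹ * g * u ∈ Q := by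
    apply Q.mul_mem _ hu
    have := (Subgroup.mem_normalizer_iff.mp hgN u⁻¹).mp (Q.inv_mem hu)
    simpa using this
  have hv1 := h.semireg hvQ hy hv
  have hcomm : g * u = u * g := by
    have : g * u = u * g * (g⁻¹ * u⁻¹ * g * u) := by group
    rw [this, hv1, mul_one]
  have hgQ := h.mem_cent hu hu1 hcomm
  exact h.semireg hgQ hy hgy

theorem BzHyp.three_fix [Finite G] (h : BzHyp Q D M) (g : G) (a b c : G ⧸ M)
    (hab : a ≠ b) (hbc : b ≠ c) (hac : a ≠ c) (ha : g • a = a) (hb : g • b = b) (hc : g • c = c) :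
    g = 1 := by
  obtain ⟨k, hk⟩ := bz_exists_pt M a
  have hy : k⁻¹ • b ≠ ((1 : G) : G ⧸ M) := by
    intro hb'
    apply hab
    rw [← hk, ← hb', smul_inv_smul]
  have hz : k⁻¹ • c ≠ ((1 : G) : G ⧸ M) := by
    intro hc'
    apply hac
    rw [← hk, ← hc', smul_inv_smul]
  have hyz : k⁻¹ • b ≠ k⁻¹ • c := by
    intro he
    exact hbc (smul_left_cancel _ he)
  have hg : k⁻¹ * g * k ∈ M := by
    rw [← bz_fix_iff, mul_smul, mul_smul, hk, ha, ← hk, inv_smul_smul]
  have h1 : (k⁻¹ * g * k) • (k⁻¹ • b) = k⁻¹ • b := by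
    rw [mul_smul, mul_smul, smul_inv_smul, hb]
  have h2 : (k⁻¹ * g * k) • (k⁻¹ • c) = k⁻¹ • c := by
    rw [mul_smul, mul_smul, smul_inv_smul, hc]
  have h3 := h.three_fix_aux hg hy hz hyz h1 h2
  have : g = k * (k⁻¹ * g * k) * k⁻¹ := by group
  rw [this, h3]
  group

theorem BzHyp.M_ne_top [Finite G] (h : BzHyp Q D M) : M ≠ ⊤ := by
  intro ht
  have h1 := h.index
  rw [ht, Subgroup.index_top] at h1
  have := h.q_pos
  omega

theorem BzHyp.exists_pt_ne [Finite G] (h : BzHyp Q D M) :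
    ∃ y : G ⧸ M, y ≠ ((1 : G) : G ⧸ M) := by
  have h1 := h.M_ne_top
  have h2 : ∃ g : G, g ∉ M := by
    by_contra hcon
    push Not at hcon
    exact h1 (eq_top_iff.mpr (fun g _ => hcon g))
  obtain ⟨g, hg⟩ := h2
  refine ⟨g • ((1 : G) : G ⧸ M), ?_⟩
  intro he
  exact hg ((bz_fix_iff M g).mp he)

theorem BzHyp.exists_two_fix [Finite G] (h : BzHyp Q D M) (hD : 2 ≤ Nat.card D) :
    ∃ g : G, g ≠ 1 ∧ ∃ a b : G ⧸ M, a ≠ b ∧ g • a = a ∧ g • b = b := by
  obtain ⟨y, hy⟩ := h.exists_pt_ne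
  by_contra hcon
  push Not at hcon
  have hne : ∀ m : M, (m : G) • y ≠ ((1 : G) : G ⧸ M) := by
    intro m hm
    apply hy
    have h1 := (bz_fix_iff M (m : G)).mpr m.2
    rw [← h1] at hm
    exact smul_left_cancel _ hm
  set f : M → {z : G ⧸ M // z ≠ ((1 : G) : G ⧸ M)} := fun m => ⟨(m : G) • y, hne m⟩ with hf
  have hinj : Function.Injective f := by
    intro m m' he
    have h1 : (m : G) • y = (m' : G) • y := congrArg Subtype.val he
    have h2 : ((m' : G)⁻¹ * (m : G)) • y = y := by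
      rw [mul_smul, h1, inv_smul_smul]
    have h3 : ((m' : G)⁻¹ * (m : G)) • ((1 : G) : G ⧸ M) = ((1 : G) : G ⧸ M) :=
      (bz_fix_iff M _).mpr (M.mul_mem (M.inv_mem m'.2) m.2)
    by_contra hmm
    have h4 : (m' : G)⁻¹ * (m : G) ≠ 1 := by
      intro h5
      apply hmm
      apply Subtype.ext
      have : (m : G) = (m' : G) * ((m' : G)⁻¹ * (m : G)) := by group
      rw [this, h5, mul_one]
    exact hcon _ h4 _ _ (Ne.symm hy) h3 h2
  have h1 := Nat.card_le_card_of_injective f hinj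
  rw [h.card_compl, h.cardM] at h1
  have h2 := h.q_pos
  have h3 : Nat.card Q * 2 ≤ Nat.card Q * Nat.card D := Nat.mul_le_mul_left _ hD
  omega

theorem bz_toPerm_injective [IsSimpleGroup G] (H : Subgroup G) (hH : H ≠ ⊤) :
    Function.Injective (MulAction.toPermHom G (G ⧸ H)) := by
  rw [← MonoidHom.ker_eq_bot_iff, ← Subgroup.normalCore_eq_ker]
  rcases (Subgroup.normalCore_normal H).eq_bot_or_eq_top with h | h
  · exact h
  · exfalso
    apply hH
    rw [eq_top_iff, ← h]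
    exact Subgroup.normalCore_le H

theorem bz_card_dvd_factorial [Finite G] [IsSimpleGroup G] (H : Subgroup G) (hH : H ≠ ⊤) :
    Nat.card G ∣ (H.index).factorial := by
  classical
  haveI : Fintype (G ⧸ H) := Fintype.ofFinite _
  have hinj := bz_toPerm_injective H hH
  have h1 : Nat.card G = Nat.card (MulAction.toPermHom G (G ⧸ H)).range :=
    Nat.card_congr (MonoidHom.ofInjective hinj).toEquiv
  have h2 : Nat.card (MulAction.toPermHom G (G ⧸ H)).range ∣ Nat.card (Equiv.Perm (G ⧸ H)) :=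
    Subgroup.card_subgroup_dvd_card _
  rw [h1]
  refine h2.trans ?_
  rw [Nat.card_eq_fintype_card, Fintype.card_perm, ← Nat.card_eq_fintype_card,
    ← Subgroup.index_eq_card]

theorem bz_not_twelve [Finite G] [IsSimpleGroup G] (h12 : Nat.card G = 12) : False := by
  haveI : Fact (Nat.Prime 2) := ⟨Nat.prime_two⟩
  obtain ⟨P⟩ := (inferInstance : Nonempty (Sylow 2 G))
  have e : (12 : ℕ) = 2 ^ 2 * 3 := by norm_num
  have h2 : (12 : ℕ).factorization 2 = 2 := by
    rw [e, Nat.factorization_mul (by norm_num) (by norm_num), Nat.factorization_pow]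
    simp [Nat.Prime.factorization_self Nat.prime_two,
      Nat.factorization_eq_zero_of_not_dvd (show ¬ 2 ∣ 3 by norm_num)]
  have hc : Nat.card P = 4 := by
    rw [Sylow.card_eq_multiplicity, h12, h2]
    norm_num
  have hi := Subgroup.card_mul_index (P : Subgroup G)
  rw [h12] at hi
  have hc' : Nat.card (P : Subgroup G) = 4 := hc
  rw [hc'] at hi
  have hi3 : (P : Subgroup G).index = 3 := by omega
  have hne : (P : Subgroup G) ≠ ⊤ := by
    intro ht
    rw [ht, Subgroup.index_top] at hi3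
    omega
  have h3 := bz_card_dvd_factorial (P : Subgroup G) hne
  rw [hi3, h12] at h3
  revert h3
  decide

theorem BzHyp.card_D_ge [Finite G] [IsSimpleGroup G] (h : BzHyp Q D M) : 2 ≤ Nat.card D := by
  by_contra hlt
  have h0 : 0 < Nat.card D := Nat.card_pos
  have h1 : Nat.card D = 1 := by omega
  have h2 := h.cardD
  rw [h1] at h2
  have h3 := h.card
  rw [← h2] at h3
  have : Nat.card G = 12 := by omega
  exact bz_not_twelve this

end Cfsg.Agent.Lib.Helper24
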