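import Mathlib
import Cfsg.Prelude.Def_LieExceptional
import Cfsg.Agent.Lib.Helper24.BSWZ3
import Cfsg.Agent.Lib.helper2.BSWDefs
import Cfsg.Agent.S0731

set_option autoImplicit false
set_option linter.style.haveILetI false

namespace Cfsg.Agent.Lib.Helper24

variable {G : Type*} [Group G] {Q D M : Subgroup G}

theorem BzHyp.zass [Finite G] [IsSimpleGroup G] (h : BzHyp Q D M) :
    Cfsg.IsZassenhausGroup G (G ⧸ M) := by
  refine ⟨?_, h.two_trans, h.three_fix, h.exists_two_fix h.card_D_ge, ?_⟩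
  · refine ⟨?_⟩
    intro g1 g2 he
    apply bz_toPerm_injective M h.M_ne_top
    ext a
    exact he a
  · intro N hN hNt
    rcases hN.eq_bot_or_eq_top with hb | ht
    · exfalso
      obtain ⟨y, hy⟩ := h.exists_pt_ne
      obtain ⟨n, hn⟩ := hNt.exists_smul_eq ((1 : G) : G ⧸ M) y
      have hn' : (n : G) • ((1 : G) : G ⧸ M) = y := hn
      have h1 : (n : G) = 1 := by
        have h0 : (n : G) ∈ N := n.2
        have h00 : (n : G) ∈ (⊥ : Subgroup G) := hb ▸ h0
        exact Subgroup.mem_bot.mp h00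
      apply hy
      rw [← hn', h1, one_smul]
    · refine ⟨((1 : G) : G ⧸ M), ?_⟩
      obtain ⟨g, hg1, a, b, hab, hga, hgb⟩ := h.exists_two_fix h.card_D_ge
      have hq := h.q_pos
      have hQ1 : ∃ u ∈ Q, u ≠ 1 := by
        by_contra hcon
        push Not at hcon
        have : Nat.card Q = 1 := by
          rw [Nat.card_eq_one_iff_unique]
          refine ⟨⟨fun x y => ?_⟩, ⟨1⟩⟩
          apply Subtype.ext
          rw [hcon x.1 x.2, hcon y.1 y.2]
        omega
      obtain ⟨u, hu, hu1⟩ := hQ1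
      intro hst
      have h2 : (⟨u, ht ▸ Subgroup.mem_top u⟩ : N) ∈ (⊥ : Subgroup N) := by
        rw [← hst]
        exact h.Q_fix hu
      rw [Subgroup.mem_bot] at h2
      apply hu1
      exact congrArg Subtype.val h2

theorem BzHyp.not_sharp [Finite G] (h : BzHyp Q D M)
    (h3 : MulAction.IsMultiplyPretransitive G (G ⧸ M) 3)
    (hst : ∀ t : Fin 3 ↪ G ⧸ M, MulAction.stabilizer G t = ⊥) : False := by
  classical
  haveI : Fintype (G ⧸ M) := Fintype.ofFinite _
  have hc : Fintype.card (G ⧸ M) = Nat.card Q + 1 := by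
    rw [← Nat.card_eq_fintype_card, ← Subgroup.index_eq_card, h.index]
  have hq := h.q_pos
  have hemb : Fintype.card (Fin 3 ↪ G ⧸ M) = (Nat.card Q + 1) * Nat.card Q * (Nat.card Q - 1) := by
    rw [Fintype.card_embedding_eq, hc, Fintype.card_fin]
    simp only [Nat.descFactorial]
    have e1 : Nat.card Q + 1 - 2 = Nat.card Q - 1 := by omega
    have e2 : Nat.card Q + 1 - 1 = Nat.card Q := by omega
    rw [e1, e2]
    simp
    ring
  have hpos : 0 < Fintype.card (Fin 3 ↪ G ⧸ M) := by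
    rw [hemb]
    have : 0 < Nat.card Q - 1 := by omega
    positivity
  obtain ⟨t0⟩ := Fintype.card_pos_iff.mp hpos
  have hbij : Function.Bijective (fun g : G => g • t0) := by
    constructor
    · intro g1 g2 he
      have h1 : (g2⁻¹ * g1) • t0 = t0 := by
        have he' : g1 • t0 = g2 • t0 := he
        rw [mul_smul, he', inv_smul_smul]
      have h2 : g2⁻¹ * g1 ∈ MulAction.stabilizer G t0 := h1
      rw [hst t0, Subgroup.mem_bot] at h2
      have : g1 = g2 * (g2⁻¹ * g1) := by group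
      rw [this, h2, mul_one]
    · intro t
      exact MulAction.exists_smul_eq G t0 t
  have hG : Nat.card G = Fintype.card (Fin 3 ↪ G ⧸ M) := by
    rw [← Nat.card_eq_fintype_card]
    exact Nat.card_congr (Equiv.ofBijective _ hbij)
  have h1 := h.card
  rw [hG, hemb] at h1
  have h2 : 0 < (Nat.card Q + 1) * Nat.card Q * (Nat.card Q - 1) := by
    rw [← hemb]
    exact hpos
  have h4 : Nat.card Q * (Nat.card Q + 1) * (Nat.card Q - 1) =
      (Nat.card Q + 1) * Nat.card Q * (Nat.card Q - 1) := by ring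
  omega

theorem BzHyp.psl [Finite G] [IsSimpleGroup G] (h : BzHyp Q D M) :
    ∃ (F : Type) (_ : Field F) (_ : Fintype F), Odd (Fintype.card F) ∧
      Nonempty (G ≃* Matrix.ProjectiveSpecialLinearGroup (Fin 2) F) := by
  have hZ := h.zass
  have hstab : MulAction.stabilizer G ((1 : G) : G ⧸ M) = M := MulAction.stabilizer_quotient M
  have hFle : Q ≤ MulAction.stabilizer G ((1 : G) : G ⧸ M) := by
    rw [hstab]
    exact h.QM
  have hFn : (Q.subgroupOf (MulAction.stabilizer G ((1 : G) : G ⧸ M))).Normal := by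
    rw [hstab, ← h.normM]
    exact Subgroup.normal_in_normalizer
  have hFab : IsMulCommutative Q := ⟨⟨fun a b => Subtype.ext (h.comm a.2 b.2)⟩⟩
  have hreg : ∀ y z : G ⧸ M, y ≠ ((1 : G) : G ⧸ M) → z ≠ ((1 : G) : G ⧸ M) →
      ∃! u : Q, (u : G) • y = z := by
    intro y z hy hz
    obtain ⟨u, hu, huy⟩ := h.reg_exists hy hz
    refine ⟨⟨u, hu⟩, huy, ?_⟩
    intro u' hu'
    apply Subtype.ext
    apply h.reg_unique u'.2 hu hy
    rw [hu', huy]
  rcases Cfsg.Agent.S0731.result hZ ((1 : G) : G ⧸ M) Q hFle hFn hFab hreg with hs | hp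
  · exact (h.not_sharp hs.1 hs.2).elim
  · obtain ⟨K, fK, ftK, hchar, hiso⟩ := hp
    refine ⟨K, fK, ftK, ?_, hiso⟩
    rw [Nat.odd_iff]
    exact FiniteField.odd_card_of_char_ne_two hchar

theorem bsw_concl_psl [Finite G] [IsSimpleGroup G] (h : Cfsg.Agent.Lib.helper2.BswConcl G) :
    ∃ (F : Type) (_ : Field F) (_ : Fintype F), Odd (Fintype.card F) ∧
      Nonempty (G ≃* Matrix.ProjectiveSpecialLinearGroup (Fin 2) F) := by
  obtain ⟨Q, D, h1, h2, _, h4, h5, h6, _⟩ := h
  have hb : BzHyp Q D (Q ⊔ D) := ⟨h1, h2, h4, h5, h6, rfl⟩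
  exact hb.psl

end Cfsg.Agent.Lib.Helper24
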