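import Mathlib
import Cfsg.Prelude.Def_Characters
import Cfsg.Prelude.Def_Blocks
import Cfsg.Agent.Lib.Helper25.CharLinear
import Cfsg.Agent.Lib.Helper25.CharOrth
import Cfsg.Agent.Lib.Helper29.LeoOrbit
import Cfsg.Agent.Lib.helper7.BR.Defs
import Cfsg.Agent.Lib.Helper13.BT.Defs
import Cfsg.Agent.Lib.Helper24.BTCSUM
import Cfsg.Agent.S0840

set_option autoImplicit false
set_option linter.unusedVariables false
set_option linter.unusedSectionVars false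
set_option linter.style.haveILetI false

namespace Cfsg.Agent.Lib.Helper13.BT

open Classical
open scoped ComplexConjugate
open Cfsg.Agent.Lib.Helper25 Cfsg.Agent.Lib.Helper29
open Cfsg.Agent.Lib.helper7.BR

universe u

variable {G : Type u} [Group G] [Fintype G] {p : ℕ} [Fact p.Prime]

theorem btbound_core (hodd : p ≠ 2) {P : Sylow p G}
    (hP : Nat.card ↥(P : Subgroup G) = p)
    {f : ℕ} {X Y : Finset (Cfsg.IrrCharacter G)} {a : Cfsg.IrrCharacter G → ℤ}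
    (hB : PB3 p f P X Y a (-1)) (hpf : 2 * f + 1 = p) (b : ℕ)
    (hcard : Nat.card G = p * 2 ^ b * (f + 1))
    (hvan : ∀ ξ : Cfsg.IrrCharacter G, ξ ∉ X → ξ ∉ Y → ∀ x ∈ (P : Subgroup G), x ≠ 1 → (ξ : G → ℂ) x = 0)
    (hdegY : ∀ η ∈ Y, leoDeg η = f + 1)
    (t : G) (ht2 : t * t = 1)
    (hxd : leoDeg (trivIrr G) = 1 ∧ a (trivIrr G) = 1 ∧ (∀ ξ ∈ X, ξ ≠ trivIrr G → 2 ≤ leoDeg ξ) ∧
      (∀ ξ ∈ X, (p : ℤ) ∣ (leoDeg ξ : ℤ) - a ξ) ∧ (∀ ξ : Cfsg.IrrCharacter G, leoDeg ξ ∣ Nat.card G))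
    (hreal : ∀ χ : Cfsg.IrrCharacter G, conj ((χ : G → ℂ) t) = (χ : G → ℂ) t)
    (hcls : Nat.card {x : G // IsConj t x} * Nat.card ↥(Subgroup.centralizer ({t} : Set G)) =
      Nat.card G)
    (hcnt : ∀ x ∈ (P : Subgroup G), x ≠ 1 →
      Nat.card {pr : G × G // IsConj t pr.1 ∧ IsConj t pr.2 ∧ pr.1 * pr.2 = x} = p) :
    2 * Nat.card ↥(Subgroup.centralizer ({t} : Set G)) ^ 2 ≤
      2 ^ b * (p + Nat.card ↥(Subgroup.centralizer ({t} : Set G))) := by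
  letI : Fintype (Cfsg.IrrCharacter G) := Fintype.ofFinite _
  have hp : p.Prime := Fact.out
  obtain ⟨hd0, ha0, hd2, hcong, -⟩ := hxd
  have hPne : (P : Subgroup G) ≠ ⊥ := by
    intro h
    rw [h, Subgroup.card_bot] at hP
    exact hp.one_lt.ne hP
  obtain ⟨⟨x, hx⟩, hx1'⟩ := (Subgroup.ne_bot_iff_exists_ne_one).mp hPne
  have hx1 : x ≠ 1 := fun h => hx1' (Subtype.ext h)
  set c := Nat.card ↥(Subgroup.centralizer ({t} : Set G)) with hc
  set k := Nat.card {x : G // IsConj t x} with hk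
  have hf1 : 1 ≤ f := by
    have h1 := hB.cardX
    have h2 : 0 < X.card := Finset.card_pos.mpr ⟨_, hB.triv_mem⟩
    omega
  have hYcard : Y.card = 2 := by
    have h1 := hB.cardY
    have h2 : p - 1 = 2 * f := by omega
    rw [h2] at h1
    exact Nat.eq_of_mul_eq_mul_right (by omega) h1
  obtain ⟨η₀, hη₀⟩ : Y.Nonempty := by
    rw [← Finset.card_pos, hYcard]; norm_num
  have hpu : ¬ p ∣ orderOf t := btcsum_reg hodd t ht2
  set r : Cfsg.IrrCharacter G → ℝ := fun χ => ((χ : G → ℂ) t).re with hr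
  have hrv : ∀ χ : Cfsg.IrrCharacter G, (χ : G → ℂ) t = (r χ : ℂ) := fun χ =>
    (Complex.conj_eq_iff_re.mp (hreal χ)).symm
  have hrT : r (trivIrr G) = 1 := by simp [hr]
  have hrY : ∀ η ∈ Y, r η = r η₀ := fun η hη => by
    simp only [hr]; rw [hB.agree η hη η₀ hη₀ t hpu]
  have h840 := Cfsg.Agent.S0840.result t t x
  rw [hcnt x hx hx1, class_sum hodd hB hvan (f + 1) hdegY η₀ hη₀ t ht2 x hx hx1] at h840
  set Sr : ℝ := ∑ ξ ∈ X, (a ξ : ℝ) * (r ξ * r ξ) / (leoDeg ξ : ℝ) +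
    r η₀ * r η₀ / ((f + 1 : ℕ) : ℝ) with hSr
  have hSc : (∑ ξ ∈ X, (a ξ : ℂ) * ((ξ : G → ℂ) t * (ξ : G → ℂ) t) / (leoDeg ξ : ℂ) +
        (η₀ : G → ℂ) t * (η₀ : G → ℂ) t / ((f + 1 : ℕ) : ℂ)) = (Sr : ℂ) := by
    rw [hSr]
    push_cast
    simp only [hrv]
  rw [hSc] at h840
  have h1 : (p : ℝ) = (k : ℝ) * (k : ℝ) / (Nat.card G : ℝ) * Sr := by
    have h2 : ((p : ℝ) : ℂ) = (((k : ℝ) * (k : ℝ) / (Nat.card G : ℝ) * Sr : ℝ) : ℂ) := by
      push_cast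
      exact h840
    exact Complex.ofReal_injective h2
  have hcol := irr_column_orthogonality (G := G) t t
  rw [if_pos (IsConj.refl t)] at hcol
  have hcol' : ∑ χ : Cfsg.IrrCharacter G, r χ * r χ = (c : ℝ) := by
    have h2 : ∑ χ : Cfsg.IrrCharacter G, (χ : G → ℂ) t * conj ((χ : G → ℂ) t) =
        ((∑ χ : Cfsg.IrrCharacter G, r χ * r χ : ℝ) : ℂ) := by
      push_cast
      apply Finset.sum_congr rfl
      intro χ _
      rw [hreal χ, hrv χ]
    rw [h2] at hcol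
    exact_mod_cast hcol
  have hXsplit : ∑ ξ ∈ X, (a ξ : ℝ) * (r ξ * r ξ) / (leoDeg ξ : ℝ) =
      1 + ∑ ξ ∈ X.erase (trivIrr G), (a ξ : ℝ) * (r ξ * r ξ) / (leoDeg ξ : ℝ) := by
    rw [← Finset.add_sum_erase X _ hB.triv_mem, ha0, hd0, hrT]
    norm_num
  have hppos : (0 : ℝ) < p := by exact_mod_cast hp.pos
  have hterm : ∀ ξ ∈ X.erase (trivIrr G),
      (a ξ : ℝ) * (r ξ * r ξ) / (leoDeg ξ : ℝ) ≤ r ξ * r ξ / ((p : ℝ) + 1) := by
    intro ξ hξ
    obtain ⟨hne, hξX⟩ := Finset.mem_erase.mp hξ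
    have hdpos : (0 : ℝ) < leoDeg ξ := by exact_mod_cast leoDeg_pos ξ
    have hsq : 0 ≤ r ξ * r ξ := mul_self_nonneg _
    rcases hB.a_pm ξ hξX with h | h
    · have hdeg : p + 1 ≤ leoDeg ξ := by
        have h2 := hd2 ξ hξX hne
        have h3 := hcong ξ hξX
        rw [h] at h3
        have h4 : (p : ℤ) ≤ (leoDeg ξ : ℤ) - 1 := Int.le_of_dvd (by omega) h3
        omega
      have hdeg' : (p : ℝ) + 1 ≤ leoDeg ξ := by exact_mod_cast hdeg
      rw [h]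
      push_cast
      rw [one_mul]
      exact div_le_div_of_nonneg_left hsq (by positivity) hdeg'
    · rw [h]
      push_cast
      have h2 : -1 * (r ξ * r ξ) / (leoDeg ξ : ℝ) ≤ 0 :=
        div_nonpos_of_nonpos_of_nonneg (by linarith) hdpos.le
      have h3 : 0 ≤ r ξ * r ξ / ((p : ℝ) + 1) := by positivity
      linarith
  have hsumXY : 1 + ∑ ξ ∈ X.erase (trivIrr G), r ξ * r ξ + 2 * (r η₀ * r η₀) ≤ (c : ℝ) := by
    rw [← hcol']
    have h2 : ∑ ξ ∈ X ∪ Y, r ξ * r ξ ≤ ∑ χ : Cfsg.IrrCharacter G, r χ * r χ :=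
      Finset.sum_le_sum_of_subset_of_nonneg (Finset.subset_univ _)
        (fun _ _ _ => mul_self_nonneg _)
    rw [Finset.sum_union hB.disj, ← Finset.add_sum_erase X _ hB.triv_mem, hrT] at h2
    have h3 : ∑ η ∈ Y, r η * r η = 2 * (r η₀ * r η₀) := by
      rw [Finset.sum_congr rfl (fun η hη => by rw [hrY η hη]), Finset.sum_const, hYcard]
      simp
    rw [h3] at h2
    linarith
  have hp1 : (p : ℝ) + 1 = 2 * ((f : ℝ) + 1) := by
    rw [← hpf]; push_cast; ring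
  have hfpos : (0 : ℝ) < (f : ℝ) + 1 := by positivity
  have hSle : Sr ≤ 1 + ((c : ℝ) - 1) / ((p : ℝ) + 1) := by
    rw [hSr, hXsplit]
    have h2 := Finset.sum_le_sum hterm
    rw [← Finset.sum_div] at h2
    have h3 : r η₀ * r η₀ / ((f + 1 : ℕ) : ℝ) = 2 * (r η₀ * r η₀) / ((p : ℝ) + 1) := by
      rw [hp1]
      push_cast
      field_simp
    rw [h3]
    have h4 : (∑ ξ ∈ X.erase (trivIrr G), r ξ * r ξ + 2 * (r η₀ * r η₀)) / ((p : ℝ) + 1) ≤
        ((c : ℝ) - 1) / ((p : ℝ) + 1) := by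
      apply div_le_div_of_nonneg_right _ (by positivity)
      linarith
    rw [add_div] at h4
    linarith
  have hcpos : (0 : ℝ) < c := by exact_mod_cast Nat.card_pos
  have hNpos : (0 : ℝ) < Nat.card G := by exact_mod_cast Nat.card_pos
  have hkc : (k : ℝ) * c = Nat.card G := by exact_mod_cast hcls
  have hk' : (k : ℝ) = Nat.card G / c := by
    rw [eq_div_iff hcpos.ne']; exact hkc
  have hmain : (p : ℝ) * (c : ℝ) ^ 2 = Nat.card G * Sr := by
    rw [h1, hk']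
    field_simp
  have hN : (Nat.card G : ℝ) = p * 2 ^ b * ((f : ℝ) + 1) := by
    rw [hcard]; push_cast; ring
  have hfin : (2 : ℝ) * (c : ℝ) ^ 2 ≤ 2 ^ b * ((p : ℝ) + c) := by
    have h5 : (p : ℝ) * (c : ℝ) ^ 2 ≤
        p * 2 ^ b * ((f : ℝ) + 1) * (1 + ((c : ℝ) - 1) / ((p : ℝ) + 1)) := by
      rw [hmain, hN]
      exact mul_le_mul_of_nonneg_left hSle (by positivity)
    have h6 : (p : ℝ) * 2 ^ b * ((f : ℝ) + 1) * (1 + ((c : ℝ) - 1) / ((p : ℝ) + 1)) =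
        p * (2 ^ b * ((p : ℝ) + c) / 2) := by
      rw [hp1]
      field_simp
      rw [← hpf]
      push_cast
      ring
    rw [h6] at h5
    have h7 := le_of_mul_le_mul_left h5 hppos
    linarith
  exact_mod_cast hfin

end Cfsg.Agent.Lib.Helper13.BT
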