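import Cfsg.Agent.Lib.Helper24.BlockDefClass

set_option autoImplicit false
open scoped ComplexConjugate

namespace Cfsg.Agent.Lib.Helper24

open Cfsg.Agent.Lib.helper2 Cfsg.Agent.Lib.helper7 Cfsg.Agent.Lib.Helper11 Cfsg.Agent.Lib.Helper25

section bd2

variable {G : Type*} [Group G] [Fintype G]

theorem bd_sameBlock_iff (p : ℕ) [hp : Fact p.Prime] (M : Ideal Cfsg.AlgInt)
    (hM : Cfsg.IsPModular p M) (d : ℕ) (χ ψ : Cfsg.IrrCharacter G)
    (hχ : Cfsg.blockDefect p (Cfsg.blockOf M (χ : G → ℂ)) = d)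
    (hψ : Cfsg.blockDefect p (Cfsg.blockOf M (ψ : G → ℂ)) = d) :
    Cfsg.SameBlock M (χ : G → ℂ) (ψ : G → ℂ) ↔
      ∀ x : G, ¬ p ∣ orderOf x →
        (Nat.card (Subgroup.centralizer ({x} : Set G))).factorization p = d →
        Cfsg.MemLocalIdeal M (Cfsg.centralChar (χ : G → ℂ) x - Cfsg.centralChar (ψ : G → ℂ) x) := by
  classical
  haveI : Fintype (Cfsg.IrrCharacter G) := Fintype.ofFinite _
  haveI : Fintype (ConjClasses G) := Fintype.ofFinite _
  have hMp := hM.2.1.isPrime
  constructor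
  · intro h x _ _
    exact h x
  · intro h
    set B := Cfsg.blockOf M (χ : G → ℂ) with hB
    set c : Cfsg.IrrCharacter G → ℂ := fun φ => if φ ∈ B then (1 : ℂ) else 0 with hc
    have hχB : χ ∈ B := h7_sameBlock_refl hMp _
    have hdiff : Cfsg.MemLocalIdeal M (c χ - c ψ) := by
      rw [h7_eval_expand c χ, h7_eval_expand c ψ, ← Finset.sum_sub_distrib]
      apply h7_memLocalIdeal_sum hMp
      intro K _
      rw [h7_coef_indicator]
      by_cases hK : ¬ p ∣ orderOf (Quotient.out K) ∧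
          (Nat.card (Subgroup.centralizer ({Quotient.out K} : Set G))).factorization p = d
      · rw [← mul_sub]
        exact h7_memLocalIdeal_mul_left hMp (h7_osima hMp χ _) (h _ hK.1 hK.2)
      · exact h7_memLocalIdeal_sub hMp (bd_term p M hM χ χ d hχ hχ _ hK)
          (bd_term p M hM χ ψ d hχ hψ _ hK)
    by_contra hne
    have hψB : ψ ∉ B := hne
    simp only [hc, if_pos hχB, if_neg hψB, sub_zero] at hdiff
    exact h7_not_memLocalIdeal_one hMp hdiff

end bd2

end Cfsg.Agent.Lib.Helper24
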