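import Cfsg.Agent.Lib.Helper24.BlockDefClass

set_option autoImplicit false
open scoped ComplexConjugate

namespace Cfsg.Agent.Lib.Helper24

open Cfsg.Agent.Lib.helper2 Cfsg.Agent.Lib.helper7 Cfsg.Agent.Lib.Helper11 Cfsg.Agent.Lib.Helper25

section bd3

def bd_locIdeal (M : Ideal Cfsg.AlgInt) (hM : M.IsPrime) : Ideal (h7_locSubring M hM) where
  carrier := {z | Cfsg.MemLocalIdeal M (z : ℂ)}
  add_mem' := by
    intro a b ha hb
    exact h7_memLocalIdeal_add hM ha hb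
  zero_mem' := h7_memLocalIdeal_zero hM
  smul_mem' := by
    intro c x hx
    exact h7_memLocalIdeal_mul_left hM c.2 hx

theorem bd_mem_locIdeal (M : Ideal Cfsg.AlgInt) (hM : M.IsPrime) (z : h7_locSubring M hM) :
    z ∈ bd_locIdeal M hM ↔ Cfsg.MemLocalIdeal M (z : ℂ) := Iff.rfl

theorem bd_locIdeal_ne_top (M : Ideal Cfsg.AlgInt) (hM : M.IsPrime) : bd_locIdeal M hM ≠ ⊤ := by
  rw [Ideal.ne_top_iff_one]
  intro h
  exact h7_not_memLocalIdeal_one hM h

instance bd_nontrivial (M : Ideal Cfsg.AlgInt) (hM : M.IsPrime) :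
    Nontrivial (h7_locSubring M hM ⧸ bd_locIdeal M hM) :=
  Ideal.Quotient.nontrivial_iff.mpr (bd_locIdeal_ne_top M hM)

end bd3

end Cfsg.Agent.Lib.Helper24
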