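import Cfsg.Agent.Lib.Helper24.BlockDefClass3

set_option autoImplicit false
open scoped ComplexConjugate

namespace Cfsg.Agent.Lib.Helper24

open Cfsg.Agent.Lib.helper2 Cfsg.Agent.Lib.helper7 Cfsg.Agent.Lib.Helper11 Cfsg.Agent.Lib.Helper25

section bd4

variable {G : Type*} [Group G] [Fintype G]

theorem bd_blockOf_eq [Fintype (Cfsg.IrrCharacter G)] (M : Ideal Cfsg.AlgInt) (hM : M.IsPrime) (χ ψ : Cfsg.IrrCharacter G)
    (h : ψ ∈ Cfsg.blockOf M (χ : G → ℂ)) :
    Cfsg.blockOf M (χ : G → ℂ) = Cfsg.blockOf M (ψ : G → ℂ) := by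
  ext φ
  constructor
  · intro hφ
    exact h7_sameBlock_trans hM (h7_sameBlock_symm h) hφ
  · intro hφ
    exact h7_sameBlock_trans hM h hφ

theorem bd_count (p : ℕ) [hp : Fact p.Prime] (M : Ideal Cfsg.AlgInt)
    (hM : Cfsg.IsPModular p M) (σ : ℕ) :
    Nat.card {B : Set (Cfsg.IrrCharacter G) // Cfsg.IsPBlock M B ∧ Cfsg.blockDefect p B = σ} ≤
      Nat.card {C : ConjClasses G // ∃ g : G, ConjClasses.mk g = C ∧ ¬ p ∣ orderOf g ∧
        (Nat.card (Subgroup.centralizer ({g} : Set G))).factorization p = σ} := by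
  classical
  haveI : Fintype (Cfsg.IrrCharacter G) := Fintype.ofFinite _
  haveI : Fintype (ConjClasses G) := Fintype.ofFinite _
  have hMp := hM.2.1.isPrime
  set 𝔅 := {B : Set (Cfsg.IrrCharacter G) // Cfsg.IsPBlock M B ∧ Cfsg.blockDefect p B = σ} with h𝔅
  set PC : ConjClasses G → Prop := fun C => ∃ g : G, ConjClasses.mk g = C ∧ ¬ p ∣ orderOf g ∧
        (Nat.card (Subgroup.centralizer ({g} : Set G))).factorization p = σ with hPC
  haveI : Fintype 𝔅 := Fintype.ofFinite _
  haveI : Fintype {C : ConjClasses G // PC C} := Fintype.ofFinite _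
  rw [Nat.card_eq_fintype_card, Nat.card_eq_fintype_card]
  have hrep : ∀ B : 𝔅, ∃ χ : Cfsg.IrrCharacter G, B.1 = Cfsg.blockOf M (χ : G → ℂ) := fun B => B.2.1
  choose rep hrepB using hrep
  have hdef : ∀ B : 𝔅, Cfsg.blockDefect p (Cfsg.blockOf M (rep B : G → ℂ)) = σ := by
    intro B
    rw [← hrepB B]
    exact B.2.2
  set R := h7_locSubring M hMp with hR
  set I := bd_locIdeal M hMp with hI
  let q : R →+* R ⧸ I := Ideal.Quotient.mk I
  let aR : 𝔅 → ConjClasses G → R := fun B K =>
    ⟨Cfsg.blockCoeff (Cfsg.blockOf M (rep B : G → ℂ)) (Quotient.out K), h7_osima hMp (rep B) _⟩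
  let wR : ConjClasses G → 𝔅 → R := fun K B =>
    ⟨Cfsg.centralChar (rep B : G → ℂ) (Quotient.out K), h7_memLocalRing_centralChar hMp (rep B) _⟩
  let A : Matrix 𝔅 {C : ConjClasses G // PC C} (R ⧸ I) := fun B C => q (aR B C.1)
  let W : Matrix {C : ConjClasses G // PC C} 𝔅 (R ⧸ I) := fun C B => q (wR C.1 B)
  have hAW : A * W = 1 := by
    ext B B'
    rw [Matrix.mul_apply]
    have h1 : ∑ C : {C : ConjClasses G // PC C}, A B C * W C B' =
        q (∑ C : {C : ConjClasses G // PC C}, aR B C.1 * wR C.1 B') := by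
      rw [map_sum]
      refine Finset.sum_congr rfl fun C _ => ?_
      rw [map_mul]
    rw [h1]
    have hexp := h7_eval_expand (fun φ : Cfsg.IrrCharacter G =>
      if φ ∈ Cfsg.blockOf M (rep B : G → ℂ) then (1 : ℂ) else 0) (rep B')
    have hδ : (if rep B' ∈ Cfsg.blockOf M (rep B : G → ℂ) then (1 : ℂ) else 0) =
        if B = B' then (1 : ℂ) else 0 := by
      by_cases hBB : B = B'
      · rw [if_pos hBB, hBB, if_pos (show rep B' ∈ Cfsg.blockOf M (rep B' : G → ℂ) from
          h7_sameBlock_refl hMp _)]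
      · rw [if_neg hBB, if_neg]
        intro hmem
        apply hBB
        apply Subtype.ext
        rw [hrepB B, hrepB B']
        exact bd_blockOf_eq M hMp _ _ hmem
    have hone : (1 : Matrix 𝔅 𝔅 (R ⧸ I)) B B' = q (if B = B' then (1 : R) else 0) := by
      rw [Matrix.one_apply]
      split_ifs <;> simp
    rw [hone]
    apply (Ideal.Quotient.eq).mpr
    rw [hI, bd_mem_locIdeal]
    have hcoe : ((∑ C : {C : ConjClasses G // PC C}, aR B C.1 * wR C.1 B' -
        (if B = B' then (1 : R) else 0) : R) : ℂ) =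
        ∑ C : {C : ConjClasses G // PC C},
          Cfsg.blockCoeff (Cfsg.blockOf M (rep B : G → ℂ)) (Quotient.out C.1) *
            Cfsg.centralChar (rep B' : G → ℂ) (Quotient.out C.1) -
          (if B = B' then (1 : ℂ) else 0) := by
      rw [AddSubgroupClass.coe_sub]
      congr 1
      · rw [← Subring.subtype_apply, map_sum]
        refine Finset.sum_congr rfl fun C _ => ?_
        rfl
      · split_ifs <;> simp
    rw [hcoe, ← hδ, hexp]
    rw [← Finset.sum_filter_add_sum_filter_not Finset.univ PC]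
    have hsub : ∑ C : {C : ConjClasses G // PC C},
          Cfsg.blockCoeff (Cfsg.blockOf M (rep B : G → ℂ)) (Quotient.out C.1) *
            Cfsg.centralChar (rep B' : G → ℂ) (Quotient.out C.1) =
        ∑ K ∈ Finset.univ.filter PC,
          h7_coef (fun φ : Cfsg.IrrCharacter G =>
            if φ ∈ Cfsg.blockOf M (rep B : G → ℂ) then (1 : ℂ) else 0) (Quotient.out K) *
            Cfsg.centralChar (rep B' : G → ℂ) (Quotient.out K) := by
      rw [← Finset.sum_subtype (Finset.univ.filter PC) (by simp)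
        (fun K : ConjClasses G => Cfsg.blockCoeff (Cfsg.blockOf M (rep B : G → ℂ)) (Quotient.out K) *
            Cfsg.centralChar (rep B' : G → ℂ) (Quotient.out K))]
      refine Finset.sum_congr rfl fun K _ => ?_
      rw [h7_coef_indicator]
    rw [hsub, sub_add_cancel_left]
    apply h7_memLocalIdeal_neg
    apply h7_memLocalIdeal_sum hMp
    intro K hK
    rw [h7_coef_indicator]
    have hK' : ¬ PC K := (Finset.mem_filter.mp hK).2
    apply bd_term p M hM (rep B) (rep B') σ (hdef B) (hdef B')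
    intro hcon
    apply hK'
    exact ⟨Quotient.out K, Quotient.out_eq K, hcon.1, hcon.2⟩
  have hinj : Function.Injective (Matrix.toLin' W) := by
    have hcomp : (Matrix.toLin' A).comp (Matrix.toLin' W) = LinearMap.id := by
      rw [← Matrix.toLin'_mul, hAW, Matrix.toLin'_one]
    intro v w hvw
    have := congrArg (Matrix.toLin' A) hvw
    rw [← LinearMap.comp_apply, ← LinearMap.comp_apply, hcomp] at this
    exact this
  exact card_le_of_injective (R ⧸ I) (Matrix.toLin' W) hinj

end bd4

end Cfsg.Agent.Lib.Helper24
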