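import Mathlib

set_option autoImplicit false

namespace Cfsg.Agent.Lib.Helper24.Br

theorem fact2_sq (n : ℕ) : (n ^ 2).factorization 2 = 2 * n.factorization 2 := by
  rw [Nat.factorization_pow]; simp

theorem arith_final (p d s t m f : ℕ) (hp : p.Prime) (hst : Nat.Coprime s t)
    (h1 : s ^ 2 + t ^ 2 = p ^ d) (hm : 0 < m) (h2 : (s ^ 2 + t ^ 2) * m ^ 2 = 2 * f ^ 2) :
    p ^ d = 2 := by
  rw [h1] at h2
  have hpd : p ^ d ≠ 0 := pow_ne_zero _ hp.ne_zero
  have hm2 : m ^ 2 ≠ 0 := pow_ne_zero _ hm.ne'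
  have hf : f ≠ 0 := by
    rintro rfl
    have : p ^ d * m ^ 2 ≠ 0 := mul_ne_zero hpd hm2
    rw [h2] at this
    simp at this
  have hf2 : f ^ 2 ≠ 0 := pow_ne_zero _ hf
  have hval : (p ^ d * m ^ 2).factorization 2 = (2 * f ^ 2).factorization 2 := by rw [h2]
  rw [Nat.factorization_mul hpd hm2, Nat.factorization_mul (by norm_num) hf2] at hval
  simp only [Finsupp.add_apply] at hval
  rw [fact2_sq, fact2_sq, Nat.factorization_pow] at hval
  simp only [Finsupp.smul_apply, smul_eq_mul] at hval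
  have h22 : (2 : ℕ).factorization 2 = 1 := Nat.Prime.factorization_self Nat.prime_two
  rw [h22] at hval
  have hp2 : p = 2 := by
    by_contra hne
    have : p.factorization 2 = 0 := by
      rw [Nat.Prime.factorization hp]
      simp [hne]
    rw [this] at hval
    omega
  subst hp2
  rw [h22] at hval
  have hdodd : d % 2 = 1 := by omega
  have hd1 : d ≤ 1 := by
    by_contra hd
    push Not at hd
    have h4 : 4 ∣ s ^ 2 + t ^ 2 := by
      rw [h1]
      have : (2 : ℕ) ^ d = 2 ^ 2 * 2 ^ (d - 2) := by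
        rw [← pow_add]; congr 1; omega
      rw [this]; exact Dvd.intro _ rfl
    have hs : s % 2 = 0 ∨ s % 2 = 1 := by omega
    have ht : t % 2 = 0 ∨ t % 2 = 1 := by omega
    have sqmod : ∀ n : ℕ, (n % 2 = 0 → n ^ 2 % 4 = 0) ∧ (n % 2 = 1 → n ^ 2 % 4 = 1) := by
      intro n
      constructor
      · intro h
        obtain ⟨k, rfl⟩ : ∃ k, n = 2 * k := ⟨n / 2, by omega⟩
        have : (2 * k) ^ 2 = 4 * k ^ 2 := by ring
        rw [this]; simp
      · intro h
        obtain ⟨k, rfl⟩ : ∃ k, n = 2 * k + 1 := ⟨n / 2, by omega⟩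
        have : (2 * k + 1) ^ 2 = 4 * (k ^ 2 + k) + 1 := by ring
        rw [this]; omega
    have h4' : (s ^ 2 + t ^ 2) % 4 = 0 := Nat.mod_eq_zero_of_dvd h4
    rcases hs with hs | hs <;> rcases ht with ht | ht
    · have h2s : 2 ∣ s := Nat.dvd_of_mod_eq_zero hs
      have h2t : 2 ∣ t := Nat.dvd_of_mod_eq_zero ht
      have := Nat.dvd_gcd h2s h2t
      rw [hst] at this
      omega
    · have a := (sqmod s).1 hs
      have b := (sqmod t).2 ht
      omega
    · have a := (sqmod s).2 hs
      have b := (sqmod t).1 ht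
      omega
    · have a := (sqmod s).2 hs
      have b := (sqmod t).2 ht
      omega
  have : d = 1 := by omega
  rw [this]; norm_num

end Cfsg.Agent.Lib.Helper24.Br
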