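import Mathlib
import Cfsg.Agent.Lib.helper7.Br.Defs

set_option autoImplicit false

namespace Cfsg.Agent.Lib.Helper24.Br

open Cfsg.Agent.Lib.helper7 Cfsg.Agent.Lib.helper7.Br

section algstmts

variable {F A : Type*} [Field F] [Ring A] [Algebra F A]

theorem nil_descend {Λ : Type*} [Ring Λ] [Algebra F Λ] (N : Ideal Λ)
    (hsq : ∀ x ∈ N, x ∈ Submodule.span F {z : Λ | ∃ a ∈ N, ∃ b ∈ N, z = a * b})
    (j : ℕ)
    (hj : ∀ l : List Λ, l.length = j + 2 → (∀ x ∈ l, x ∈ N) → l.prod = 0) :
    ∀ l : List Λ, l.length = j + 1 → (∀ x ∈ l, x ∈ N) → l.prod = 0 := by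
  intro l hl hlN
  match l, hl with
  | n₁ :: l', hl =>
    have hl' : l'.length = j := by simpa using hl
    have hn₁ : n₁ ∈ N := hlN n₁ (by simp)
    have hl'N : ∀ x ∈ l', x ∈ N := fun x hx => hlN x (by simp [hx])
    rw [List.prod_cons]
    have key : ∀ z ∈ Submodule.span F {z : Λ | ∃ a ∈ N, ∃ b ∈ N, z = a * b}, z * l'.prod = 0 := by
      intro z hz
      induction hz using Submodule.span_induction with
      | mem z hz =>
        obtain ⟨a, ha, b, hb, rfl⟩ := hz
        have := hj (a :: b :: l') (by simp [hl']) (by
          intro x hx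
          simp only [List.mem_cons] at hx
          rcases hx with rfl | rfl | hx
          · exact ha
          · exact hb
          · exact hl'N x hx)
        rw [List.prod_cons, List.prod_cons, ← mul_assoc] at this
        exact this
      | zero => simp
      | add x y _ _ hx hy => rw [add_mul, hx, hy, add_zero]
      | smul c x _ hx => rw [smul_mul_assoc, hx, smul_zero]
    exact key n₁ (hsq n₁ hn₁)

theorem nil_all_zero {Λ : Type*} [Ring Λ] [Algebra F Λ] [Nontrivial Λ] (N : Ideal Λ)
    (hsq : ∀ x ∈ N, x ∈ Submodule.span F {z : Λ | ∃ a ∈ N, ∃ b ∈ N, z = a * b})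
    (hNnil : NilSet (N : Set Λ)) : ∀ x ∈ N, x = 0 := by
  obtain ⟨m, hm⟩ := hNnil
  have hm' : ∀ l : List Λ, l.length = m → (∀ x ∈ l, x ∈ N) → l.prod = 0 := by
    intro l hl hlN
    exact hm l hl (fun x hx => hlN x hx)
  have step : ∀ j : ℕ, (∀ l : List Λ, l.length = j + 1 → (∀ x ∈ l, x ∈ N) → l.prod = 0) →
      ∀ l : List Λ, l.length = 1 → (∀ x ∈ l, x ∈ N) → l.prod = 0 := by
    intro j
    induction j with
    | zero => intro h; exact h
    | succ j ih =>
      intro h
      exact ih (nil_descend N hsq j h)
  cases m with
  | zero =>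
    exfalso
    have := hm' [] rfl (by simp)
    simp at this
  | succ j =>
    intro x hx
    have := step j hm' [x] rfl (by simpa using hx)
    simpa using this

theorem local_sym_le_two {Λ : Type*} [Ring Λ] [Algebra F Λ] [FiniteDimensional F Λ]
    (lam : Λ →ₗ[F] F) (hlam : IsSymForm lam)
    (N : Ideal Λ) (hNr : ∀ x ∈ N, ∀ y : Λ, x * y ∈ N) (hNnil : NilSet (N : Set Λ))
    (hloc : ∀ x : Λ, ∃ α : F, x - algebraMap F Λ α ∈ N)
    (hZ : Module.finrank F (Subalgebra.center F Λ) ≤ 2) :
    Module.finrank F Λ ≤ 2 := by
  rcases subsingleton_or_nontrivial Λ with hsub | hnt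
  · rw [Module.finrank_zero_of_subsingleton]; norm_num
  set W : Submodule F Λ := Submodule.span F {z : Λ | ∃ a ∈ N, ∃ b ∈ N, z = a * b} with hW
  set Nf : Submodule F Λ := N.restrictScalars F with hNf
  have hmemNf : ∀ x, x ∈ Nf ↔ x ∈ N := fun x => Iff.rfl
  have hWN : W ≤ Nf := by
    rw [hW, Submodule.span_le]
    rintro z ⟨a, _, b, hb, rfl⟩
    exact N.mul_mem_left a hb
  have hcomm : ∀ a b : Λ, a * b - b * a ∈ W := by
    intro a b
    obtain ⟨α, hα⟩ := hloc a
    obtain ⟨β, hβ⟩ := hloc b
    set n := a - algebraMap F Λ α with hn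
    set n' := b - algebraMap F Λ β with hn'
    have ha : a = algebraMap F Λ α + n := by rw [hn]; abel
    have hb : b = algebraMap F Λ β + n' := by rw [hn']; abel
    have : a * b - b * a = n * n' - n' * n := by
      rw [ha, hb]
      have c1 := Algebra.commutes α n'
      have c2 := Algebra.commutes β n
      have c3 := Algebra.commutes α (algebraMap F Λ β)
      simp only [add_mul, mul_add]
      rw [c1, ← c2, c3]
      abel
    rw [this]
    exact W.sub_mem (Submodule.subset_span ⟨n, hα, n', hβ, rfl⟩)
      (Submodule.subset_span ⟨n', hβ, n, hα, rfl⟩)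
  have hfinle : Module.finrank F Λ ≤ Module.finrank F (Subalgebra.center F Λ) →
      Module.finrank F Λ ≤ 2 := fun h => le_trans h hZ
  by_cases hW0 : W = ⊥
  · apply hfinle
    have hc : ∀ a b : Λ, a * b = b * a := by
      intro a b
      have := hcomm a b
      rw [hW0, Submodule.mem_bot] at this
      exact sub_eq_zero.mp this
    let f : Λ →ₗ[F] (Subalgebra.center F Λ) :=
      { toFun := fun a => ⟨a, by
          rw [Subalgebra.mem_center_iff]
          intro b
          exact hc b a⟩
        map_add' := fun a b => rfl
        map_smul' := fun c a => rfl }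
    have hf : Function.Injective f := by
      intro a b hab
      exact congrArg Subtype.val hab
    exact LinearMap.finrank_le_finrank_of_injective hf
  · exfalso
    set B : LinearMap.BilinForm F Λ := (LinearMap.mul F Λ).compr₂ lam with hB
    have hBapp : ∀ a b, B a b = lam (a * b) := fun a b => rfl
    have hBnd : B.Nondegenerate := by
      constructor
      · intro x hx
        exact hlam.2 x (fun y => by rw [← hBapp]; exact hx y)
      · intro y hy
        exact hlam.2 y (fun x => by rw [hlam.1, ← hBapp]; exact hy x)
    set O : Submodule F Λ := B.orthogonal W with hO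
    have hOmem : ∀ y, y ∈ O ↔ ∀ w ∈ W, lam (w * y) = 0 := by
      intro y
      rw [hO, LinearMap.BilinForm.mem_orthogonal_iff]
      rfl
    have hOcen : ∀ y ∈ O, ∀ a : Λ, a * y = y * a := by
      intro y hy a
      have hy' := (hOmem y).mp hy
      have : y * a - a * y = 0 := by
        apply hlam.2
        intro b
        have h1 : lam ((y * a - a * y) * b) = lam ((a * b - b * a) * y) := by
          rw [sub_mul, sub_mul, map_sub, map_sub]
          have e1 : lam (y * a * b) = lam (a * b * y) := by
            rw [mul_assoc, hlam.1]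
          have e2 : lam (a * y * b) = lam (b * a * y) := by
            rw [hlam.1, ← mul_assoc]
          rw [e1, e2]
        rw [h1]
        exact hy' _ (hcomm a b)
      exact (sub_eq_zero.mp this).symm
    have hWr : ∀ w ∈ W, ∀ b : Λ, w * b ∈ W := by
      intro w hw b
      induction hw using Submodule.span_induction with
      | mem z hz =>
        obtain ⟨a, ha, c, hc, rfl⟩ := hz
        rw [mul_assoc]
        exact Submodule.subset_span ⟨a, ha, c * b, hNr c hc b, rfl⟩
      | zero => rw [zero_mul]; exact W.zero_mem
      | add x y _ _ hx hy => rw [add_mul]; exact W.add_mem hx hy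
      | smul c x _ hx => rw [smul_mul_assoc]; exact W.smul_mem c hx
    have hone : (1 : Λ) ∉ O := by
      intro h1
      have h1' := (hOmem 1).mp h1
      apply hW0
      rw [eq_bot_iff]
      intro w hw
      rw [Submodule.mem_bot]
      apply hlam.2
      intro b
      have := h1' (w * b) (hWr w hw b)
      rwa [mul_one] at this
    have hdisj : Disjoint (Submodule.span F {(1 : Λ)}) O := by
      rw [Submodule.disjoint_def]
      intro x hx hxO
      rw [Submodule.mem_span_singleton] at hx
      obtain ⟨c, rfl⟩ := hx
      by_cases hc : c = 0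
      · rw [hc, zero_smul]
      · exfalso
        apply hone
        have := O.smul_mem c⁻¹ hxO
        rwa [smul_smul, inv_mul_cancel₀ hc, one_smul] at this
    have hsup : Submodule.span F {(1 : Λ)} ⊔ O ≤ Subalgebra.toSubmodule (Subalgebra.center F Λ) := by
      rw [sup_le_iff]
      constructor
      · rw [Submodule.span_le]
        intro x hx
        rw [Set.mem_singleton_iff] at hx
        rw [hx]
        exact (Subalgebra.center F Λ).one_mem
      · intro y hy
        show y ∈ Subalgebra.center F Λ
        rw [Subalgebra.mem_center_iff]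
        intro a
        exact hOcen y hy a
    have hfsup : Module.finrank F ↥(Submodule.span F {(1 : Λ)} ⊔ O) = 1 + Module.finrank F O := by
      have h := Submodule.finrank_sup_add_finrank_inf_eq (Submodule.span F {(1 : Λ)}) O
      rw [disjoint_iff.mp hdisj, finrank_bot, add_zero,
        finrank_span_singleton (one_ne_zero)] at h
      exact h
    have hle1 : 1 + Module.finrank F O ≤ 2 := by
      rw [← hfsup]
      exact le_trans (Submodule.finrank_mono hsup) hZ
    have hforth : Module.finrank F O = Module.finrank F Λ - Module.finrank F W :=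
      LinearMap.BilinForm.finrank_orthogonal hBnd W
    have h1N : (1 : Λ) ∉ Nf := by
      intro h1
      obtain ⟨m, hm⟩ := hNnil
      have := hm (List.replicate m 1) (by simp) (by
        intro x hx
        rw [List.mem_replicate] at hx
        rw [hx.2]; exact h1)
      simp at this
    have hNlt : Module.finrank F Nf < Module.finrank F Λ := by
      apply Submodule.finrank_lt
      intro h
      apply h1N
      rw [h]; trivial
    have hWle : Module.finrank F W ≤ Module.finrank F Nf := Submodule.finrank_mono hWN
    have hWeq : W = Nf := by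
      apply Submodule.eq_of_le_of_finrank_le hWN
      omega
    have hsq : ∀ x ∈ N, x ∈ Submodule.span F {z : Λ | ∃ a ∈ N, ∃ b ∈ N, z = a * b} := by
      intro x hx
      have : x ∈ Nf := hx
      rw [← hWeq] at this
      exact this
    have hzero := nil_all_zero (F := F) N hsq hNnil
    apply hW0
    rw [eq_bot_iff, hW, Submodule.span_le]
    rintro z ⟨a, ha, b, _, rfl⟩
    rw [hzero a ha, zero_mul]
    exact Submodule.zero_mem _

end algstmts

end Cfsg.Agent.Lib.Helper24.Br
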