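import Mathlib
import Cfsg.Prelude.Def_Blocks
import Cfsg.Agent.Lib.Helper24.FSCount
import Cfsg.Agent.Lib.helper7.ClassSum

set_option autoImplicit false
set_option linter.style.haveILetI false

namespace Cfsg.Agent.Lib.Helper24

open scoped ComplexConjugate
open Cfsg.Agent.Lib.Helper25 Cfsg.Agent.Lib.helper7

variable {G : Type*} [Group G]

theorem bf_centralizer_inv (x : G) :
    Subgroup.centralizer ({x⁻¹} : Set G) = Subgroup.centralizer ({x} : Set G) := by
  ext y
  simp only [Subgroup.mem_centralizer_iff, Set.mem_singleton_iff, forall_eq]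
  constructor
  · intro h
    have : x * y = x * (x⁻¹ * y) * x := by rw [h]; group
    rw [this]; group
  · intro h
    have : x⁻¹ * y = x⁻¹ * (y * x) * x⁻¹ := by group
    rw [this, ← h]; group

theorem bf_irr_real_iff [Finite G] (χ : Cfsg.IrrCharacter G) :
    χ = irrConj χ ↔ ∀ g : G, ((χ : G → ℂ) g).im = 0 := by
  constructor
  · intro h g
    have h1 : (χ : G → ℂ) g = conj ((χ : G → ℂ) g) := by
      conv_lhs => rw [h]
      rfl
    exact Complex.conj_eq_iff_im.mp h1.symm
  · intro h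
    apply Subtype.ext
    funext g
    rw [irrConj_apply]
    exact (Complex.conj_eq_iff_im.mpr (h g)).symm

theorem bf_real_count [Fintype G] [Fintype (Cfsg.IrrCharacter G)] [DecidableEq G]
    [DecidableRel (IsConj : G → G → Prop)]
    [DecidablePred (fun χ : Cfsg.IrrCharacter G => ∀ g : G, ((χ : G → ℂ) g).im = 0)] :
    (Nat.card G : ℤ) *
      ((Finset.univ.filter
        (fun χ : Cfsg.IrrCharacter G => ∀ g : G, ((χ : G → ℂ) g).im = 0)).card : ℤ) =
      ∑ x ∈ Finset.univ.filter (fun x : G => IsConj x⁻¹ x),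
        (Nat.card (Subgroup.centralizer ({x} : Set G)) : ℤ) := by
  have hne : (Nat.card G : ℂ) ≠ 0 := by exact_mod_cast Nat.card_pos.ne'
  have h1 : ∀ χ : Cfsg.IrrCharacter G,
      ∑ x : G, (χ : G → ℂ) x * (χ : G → ℂ) x =
        (Nat.card G : ℂ) * (if (∀ g : G, ((χ : G → ℂ) g).im = 0) then 1 else 0) := by
    intro χ
    have h := irr_classInner χ (irrConj χ)
    simp only [Cfsg.classInner, irrConj_apply, Complex.conj_conj] at h
    have h2 : ∑ x : G, (χ : G → ℂ) x * (χ : G → ℂ) x =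
        (Nat.card G : ℂ) * (if χ = irrConj χ then 1 else 0) := by
      rw [← h, ← mul_assoc, mul_inv_cancel₀ hne, one_mul]
    rw [h2]
    congr 1
    by_cases hr : ∀ g : G, ((χ : G → ℂ) g).im = 0
    · rw [if_pos hr, if_pos ((bf_irr_real_iff χ).mpr hr)]
    · rw [if_neg hr, if_neg (fun h => hr ((bf_irr_real_iff χ).mp h))]
  have h3 : ∀ x : G, ∑ χ : Cfsg.IrrCharacter G, (χ : G → ℂ) x * (χ : G → ℂ) x =
      if IsConj x⁻¹ x then (Nat.card (Subgroup.centralizer ({x} : Set G)) : ℂ) else 0 := by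
    intro x
    have h := irr_column_orthogonality (G := G) x x⁻¹
    rw [bf_centralizer_inv] at h
    rw [← h]
    apply Finset.sum_congr rfl
    intro χ _
    rw [irr_inv, Complex.conj_conj]
  have h4 : ((Nat.card G : ℤ) *
      ((Finset.univ.filter
        (fun χ : Cfsg.IrrCharacter G => ∀ g : G, ((χ : G → ℂ) g).im = 0)).card : ℤ) : ℂ) =
      ((∑ x ∈ Finset.univ.filter (fun x : G => IsConj x⁻¹ x),
        (Nat.card (Subgroup.centralizer ({x} : Set G)) : ℤ) : ℤ) : ℂ) := by
    push_cast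
    rw [Finset.card_filter]
    push_cast
    rw [Finset.mul_sum, Finset.sum_filter]
    calc ∑ χ : Cfsg.IrrCharacter G,
          (Nat.card G : ℂ) * (if (∀ g : G, ((χ : G → ℂ) g).im = 0) then 1 else 0)
        = ∑ χ : Cfsg.IrrCharacter G, ∑ x : G, (χ : G → ℂ) x * (χ : G → ℂ) x := by
          apply Finset.sum_congr rfl
          intro χ _
          rw [h1 χ]
      _ = ∑ x : G, ∑ χ : Cfsg.IrrCharacter G, (χ : G → ℂ) x * (χ : G → ℂ) x := Finset.sum_comm
      _ = ∑ x : G, if IsConj x⁻¹ x then (Nat.card (Subgroup.centralizer ({x} : Set G)) : ℂ) else 0 := by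
          apply Finset.sum_congr rfl
          intro x _
          rw [h3 x]
  exact_mod_cast h4

def bfExt (x : G) : Subgroup G where
  carrier := {y | y * x * y⁻¹ = x ∨ y * x * y⁻¹ = x⁻¹}
  one_mem' := by left; simp
  mul_mem' := by
    intro a b ha hb
    have key : (a * b) * x * (a * b)⁻¹ = a * (b * x * b⁻¹) * a⁻¹ := by group
    rcases hb with hb | hb
    · rcases ha with ha | ha
      · left; rw [key, hb, ha]
      · right; rw [key, hb, ha]
    · have hinv : a * x⁻¹ * a⁻¹ = (a * x * a⁻¹)⁻¹ := by group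
      rcases ha with ha | ha
      · right; rw [key, hb, hinv, ha]
      · left; rw [key, hb, hinv, ha, inv_inv]
  inv_mem' := by
    intro a ha
    rcases ha with ha | ha
    · left
      calc a⁻¹ * x * a⁻¹⁻¹ = a⁻¹ * (a * x * a⁻¹) * a := by rw [ha, inv_inv]
        _ = x := by group
    · right
      have hx' : a * x⁻¹ * a⁻¹ = x := by
        have : a * x⁻¹ * a⁻¹ = (a * x * a⁻¹)⁻¹ := by group
        rw [this, ha, inv_inv]
      calc a⁻¹ * x * a⁻¹⁻¹ = a⁻¹ * (a * x⁻¹ * a⁻¹) * a := by rw [hx', inv_inv]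
        _ = x⁻¹ := by group

theorem mem_bfExt (x y : G) : y ∈ bfExt x ↔ y * x * y⁻¹ = x ∨ y * x * y⁻¹ = x⁻¹ := Iff.rfl

theorem bf_mem_centralizer (x y : G) :
    y ∈ Subgroup.centralizer ({x} : Set G) ↔ y * x * y⁻¹ = x := by
  rw [Subgroup.mem_centralizer_iff]
  simp only [Set.mem_singleton_iff, forall_eq]
  constructor
  · intro h; rw [← h, mul_inv_cancel_right]
  · intro h
    calc x * y = (y * x * y⁻¹) * y := by rw [h]
      _ = y * x := by group

theorem bf_centralizer_le_ext (x : G) : Subgroup.centralizer ({x} : Set G) ≤ bfExt x := by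
  intro y hy
  rw [mem_bfExt]
  left
  exact (bf_mem_centralizer x y).mp hy

theorem bfExt_index [Finite G] (x : G) (hreal : IsConj x⁻¹ x) (hne : x ≠ x⁻¹) :
    (Subgroup.centralizer ({x} : Set G)).index = 2 * (bfExt x).index := by
  obtain ⟨c, hc⟩ := isConj_iff.mp hreal
  have hc' : c * x * c⁻¹ = x⁻¹ := by
    have : c * x * c⁻¹ = (c * x⁻¹ * c⁻¹)⁻¹ := by group
    rw [this, hc]
  have hcE : c ∈ bfExt x := by rw [mem_bfExt]; right; exact hc'
  have hrel : (Subgroup.centralizer ({x} : Set G)).relIndex (bfExt x) = 2 := by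
    rw [Subgroup.relIndex, Subgroup.index_eq_two_iff]
    refine ⟨⟨c, hcE⟩, ?_⟩
    intro b
    have hb := b.2
    rw [mem_bfExt] at hb
    simp only [Subgroup.mem_subgroupOf, Subgroup.coe_mul]
    rw [bf_mem_centralizer, bf_mem_centralizer]
    have key : ((b : G) * c) * x * ((b : G) * c)⁻¹ = (b : G) * (c * x * c⁻¹) * (b : G)⁻¹ := by group
    have hinv : (b : G) * x⁻¹ * (b : G)⁻¹ = ((b : G) * x * (b : G)⁻¹)⁻¹ := by group
    rw [key, hc', hinv]
    rcases hb with hb | hb
    · rw [hb]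
      right
      exact ⟨rfl, fun h => hne h.symm⟩
    · rw [hb, inv_inv]
      left
      exact ⟨rfl, fun h => hne h.symm⟩
  have := Subgroup.relIndex_mul_index (bf_centralizer_le_ext x)
  rw [hrel] at this
  exact this.symm


theorem bf_per_element [Finite G] (n : ℕ)
    (hno : ∀ H : Subgroup G, H ≠ ⊤ → H.index ≠ 2 ∧
      Nat.card G * (Nat.card G + n) ≤ 2 * H.index * n ^ 2)
    (hZ : Odd (Nat.card (Subgroup.center G))) (x : G) (hx1 : x ≠ 1) (hreal : IsConj x⁻¹ x) :
    (Nat.card G + n) * Nat.card (Subgroup.centralizer ({x} : Set G)) ≤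
      (if orderOf x = 2 then 2 else 1) * n ^ 2 := by
  set C := Subgroup.centralizer ({x} : Set G) with hC
  have hCI := Subgroup.card_mul_index C
  have hgpos : 0 < Nat.card G := Nat.card_pos
  by_cases h2 : orderOf x = 2
  · rw [if_pos h2]
    have hCtop : C ≠ ⊤ := by
      intro htop
      have hxZ : x ∈ Subgroup.center G := by
        rw [Subgroup.mem_center_iff]
        intro g
        have hg : g ∈ C := by rw [htop]; exact Subgroup.mem_top g
        rw [hC, Subgroup.mem_centralizer_iff] at hg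
        exact (hg x rfl).symm
      have hdvd : 2 ∣ Nat.card (Subgroup.center G) := by
        have h := orderOf_dvd_natCard (⟨x, hxZ⟩ : Subgroup.center G)
        have h' : orderOf (⟨x, hxZ⟩ : Subgroup.center G) = 2 := by
          rw [← h2]; exact Subgroup.orderOf_mk x hxZ
        rw [h'] at h
        exact h
      exact (Nat.not_even_iff_odd.mpr hZ) (even_iff_two_dvd.mpr hdvd)
    have hb := (hno C hCtop).2
    have h3 : Nat.card C * (Nat.card G * (Nat.card G + n)) ≤ Nat.card C * (2 * C.index * n ^ 2) :=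
      Nat.mul_le_mul_left _ hb
    have h4 : Nat.card C * (2 * C.index * n ^ 2) = Nat.card G * (2 * n ^ 2) := by
      rw [← hCI]; ring
    have h5 : Nat.card G * ((Nat.card G + n) * Nat.card C) ≤ Nat.card G * (2 * n ^ 2) := by
      calc Nat.card G * ((Nat.card G + n) * Nat.card C)
          = Nat.card C * (Nat.card G * (Nat.card G + n)) := by ring
        _ ≤ Nat.card C * (2 * C.index * n ^ 2) := h3
        _ = Nat.card G * (2 * n ^ 2) := h4
    exact le_of_mul_le_mul_left h5 hgpos
  · rw [if_neg h2, one_mul]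
    have hne : x ≠ x⁻¹ := by
      intro h
      apply h2
      have hxx : x * x = 1 := by
        nth_rewrite 2 [h]
        exact mul_inv_cancel x
      exact orderOf_eq_prime (by rw [pow_two]; exact hxx) hx1
    have hidx := bfExt_index x hreal hne
    have hEtop : bfExt x ≠ ⊤ := by
      intro htop
      rw [htop, Subgroup.index_top, mul_one] at hidx
      have hCtop : C ≠ ⊤ := by
        intro h
        rw [← hC, h, Subgroup.index_top] at hidx
        omega
      exact (hno C hCtop).1 hidx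
    have hb := (hno (bfExt x) hEtop).2
    rw [← hidx] at hb
    have h3 : Nat.card C * (Nat.card G * (Nat.card G + n)) ≤ Nat.card C * (C.index * n ^ 2) :=
      Nat.mul_le_mul_left _ hb
    have h4 : Nat.card C * (C.index * n ^ 2) = Nat.card G * n ^ 2 := by
      rw [← hCI]; ring
    have h5 : Nat.card G * ((Nat.card G + n) * Nat.card C) ≤ Nat.card G * n ^ 2 := by
      calc Nat.card G * ((Nat.card G + n) * Nat.card C)
          = Nat.card C * (Nat.card G * (Nat.card G + n)) := by ring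
        _ ≤ Nat.card C * (C.index * n ^ 2) := h3
        _ = Nat.card G * n ^ 2 := h4
    exact le_of_mul_le_mul_left h5 hgpos


theorem bf_index_bound [Finite G] (heven : Even (Nat.card G))
    (hZ : Odd (Nat.card (Subgroup.center G))) :
    ∃ H : Subgroup G, H ≠ ⊤ ∧ (H.index = 2 ∨
      2 * H.index * (Nat.card {t : G // orderOf t = 2}) ^ 2 <
        Nat.card G * (Nat.card G + Nat.card {t : G // orderOf t = 2})) := by
  classical
  by_contra hcon
  haveI : Fintype G := Fintype.ofFinite G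
  haveI : Fintype (Cfsg.IrrCharacter G) := Fintype.ofFinite _
  set n := Nat.card {t : G // orderOf t = 2} with hn
  have hno : ∀ H : Subgroup G, H ≠ ⊤ → H.index ≠ 2 ∧
      Nat.card G * (Nat.card G + n) ≤ 2 * H.index * n ^ 2 := by
    intro H hH
    constructor
    · intro h2
      exact hcon ⟨H, hH, Or.inl h2⟩
    · by_contra hlt
      exact hcon ⟨H, hH, Or.inr (not_le.mp hlt)⟩
  have h2dvd : 2 ∣ Nat.card G := heven.two_dvd
  haveI : Fact (Nat.Prime 2) := ⟨Nat.prime_two⟩
  obtain ⟨u₀, hu₀⟩ := exists_prime_orderOf_dvd_card' (G := G) 2 h2dvd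
  have hnpos : 0 < n := Nat.card_pos_iff.mpr ⟨⟨⟨u₀, hu₀⟩⟩, inferInstance⟩
  set Rset := Finset.univ.filter (fun x : G => IsConj x⁻¹ x) with hRset
  have h1R : (1 : G) ∈ Rset := by
    rw [hRset, Finset.mem_filter]
    refine ⟨Finset.mem_univ _, ?_⟩
    rw [inv_one]
  have hA := bf_real_count (G := G)
  rw [← hRset, ← Finset.add_sum_erase Rset _ h1R] at hA
  have hc1 : (Nat.card (Subgroup.centralizer ({(1 : G)} : Set G)) : ℤ) = (Nat.card G : ℤ) := by
    have : Subgroup.centralizer ({(1 : G)} : Set G) = ⊤ := by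
      rw [Subgroup.centralizer_eq_top_iff_subset]
      intro x hx
      rw [Set.mem_singleton_iff] at hx
      rw [hx]
      exact Subgroup.one_mem _
    rw [this, Subgroup.card_top]
  rw [hc1] at hA
  set Rc := (Finset.univ.erase (trivIrr G)).filter
    (fun χ : Cfsg.IrrCharacter G => ∀ g : G, ((χ : G → ℂ) g).im = 0) with hRc
  have hrealcard : (Finset.univ.filter
      (fun χ : Cfsg.IrrCharacter G => ∀ g : G, ((χ : G → ℂ) g).im = 0)).card = Rc.card + 1 := by
    have htriv : trivIrr G ∈ Finset.univ.filter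
        (fun χ : Cfsg.IrrCharacter G => ∀ g : G, ((χ : G → ℂ) g).im = 0) := by
      rw [Finset.mem_filter]
      refine ⟨Finset.mem_univ _, ?_⟩
      intro g
      rw [trivIrr_apply]
      simp
    have : Rc = (Finset.univ.filter
        (fun χ : Cfsg.IrrCharacter G => ∀ g : G, ((χ : G → ℂ) g).im = 0)).erase (trivIrr G) := by
      rw [hRc, Finset.filter_erase]
    rw [this, Finset.card_erase_of_mem htriv]
    have hpos : 0 < (Finset.univ.filter
        (fun χ : Cfsg.IrrCharacter G => ∀ g : G, ((χ : G → ℂ) g).im = 0)).card :=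
      Finset.card_pos.mpr ⟨_, htriv⟩
    omega
  rw [hrealcard] at hA
  have hgr : (Nat.card G : ℤ) * (Rc.card : ℤ) =
      ∑ x ∈ Rset.erase 1, (Nat.card (Subgroup.centralizer ({x} : Set G)) : ℤ) := by
    push_cast at hA
    linarith
  have hper : ∀ x ∈ Rset.erase 1,
      ((Nat.card G + n : ℕ) : ℤ) * (Nat.card (Subgroup.centralizer ({x} : Set G)) : ℤ) ≤
        ((if orderOf x = 2 then 2 else 1 : ℕ) : ℤ) * (n : ℤ) ^ 2 := by
    intro x hx
    have hx' := Finset.mem_erase.mp hx
    have hreal : IsConj x⁻¹ x := (Finset.mem_filter.mp hx'.2).2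
    have := bf_per_element n hno hZ x hx'.1 hreal
    exact_mod_cast this
  have hsum : ((Nat.card G + n : ℕ) : ℤ) * ((Nat.card G : ℤ) * (Rc.card : ℤ)) ≤
      ∑ x ∈ Rset.erase 1, ((if orderOf x = 2 then 2 else 1 : ℕ) : ℤ) * (n : ℤ) ^ 2 := by
    rw [hgr, Finset.mul_sum]
    exact Finset.sum_le_sum hper
  have hcount : ∑ x ∈ Rset.erase 1, ((if orderOf x = 2 then 2 else 1 : ℕ) : ℤ) ≤
      ((Nat.card G : ℤ) - 1) + (n : ℤ) := by
    have h1 : ∑ x ∈ Rset.erase 1, ((if orderOf x = 2 then 2 else 1 : ℕ) : ℤ) =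
        ((Rset.erase 1).card : ℤ) + (((Rset.erase 1).filter (fun x : G => orderOf x = 2)).card : ℤ) := by
      rw [Finset.card_filter]
      push_cast
      rw [Finset.card_eq_sum_ones]
      push_cast
      rw [← Finset.sum_add_distrib]
      apply Finset.sum_congr rfl
      intro x _
      by_cases h : orderOf x = 2
      · simp [h]
      · simp [h]
    rw [h1]
    have h2 : ((Rset.erase 1).card : ℤ) ≤ (Nat.card G : ℤ) - 1 := by
      have : (Rset.erase 1).card ≤ (Finset.univ.erase (1 : G)).card :=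
        Finset.card_le_card (Finset.erase_subset_erase _ (Finset.subset_univ _))
      rw [Finset.card_erase_of_mem (Finset.mem_univ _), Finset.card_univ,
        ← Nat.card_eq_fintype_card] at this
      have hg1 : 1 ≤ Nat.card G := Nat.card_pos
      have : ((Rset.erase 1).card : ℤ) ≤ ((Nat.card G - 1 : ℕ) : ℤ) := by exact_mod_cast this
      rw [Nat.cast_sub hg1] at this
      simpa using this
    have h3 : (((Rset.erase 1).filter (fun x : G => orderOf x = 2)).card : ℤ) ≤ (n : ℤ) := by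
      have : ((Rset.erase 1).filter (fun x : G => orderOf x = 2)).card ≤
          (Finset.univ.filter (fun x : G => orderOf x = 2)).card :=
        Finset.card_le_card (Finset.filter_subset_filter _ (Finset.subset_univ _))
      rw [← Fintype.card_subtype, ← Nat.card_eq_fintype_card, ← hn] at this
      exact_mod_cast this
    linarith
  have hsum2 : ((Nat.card G + n : ℕ) : ℤ) * ((Nat.card G : ℤ) * (Rc.card : ℤ)) ≤
      (((Nat.card G : ℤ) - 1) + (n : ℤ)) * (n : ℤ) ^ 2 := by
    refine le_trans hsum ?_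
    rw [← Finset.sum_mul]
    exact mul_le_mul_of_nonneg_right hcount (by positivity)
  have hn_le : (n : ℤ) ≤ ∑ χ ∈ Rc, (Cfsg.charDegree (χ : G → ℂ) : ℤ) := by
    rw [hn]; exact fs_t_le
  have hcs : (∑ χ ∈ Rc, (Cfsg.charDegree (χ : G → ℂ) : ℤ)) ^ 2 ≤
      (Rc.card : ℤ) * ∑ χ ∈ Rc, ((Cfsg.charDegree (χ : G → ℂ) : ℤ)) ^ 2 :=
    sq_sum_le_card_mul_sum_sq
  have hsq : ∑ χ ∈ Rc, ((Cfsg.charDegree (χ : G → ℂ) : ℤ)) ^ 2 ≤ (Nat.card G : ℤ) - 1 := by
    rw [← fs_sum_sq_erase]
    apply Finset.sum_le_sum_of_subset_of_nonneg (Finset.filter_subset _ _)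
    intro χ _ _
    positivity
  have hnZ : (0 : ℤ) < (n : ℤ) := by exact_mod_cast hnpos
  have hn2 : (n : ℤ) ^ 2 ≤ (Rc.card : ℤ) * ((Nat.card G : ℤ) - 1) := by
    have h1 : (n : ℤ) ^ 2 ≤ (∑ χ ∈ Rc, (Cfsg.charDegree (χ : G → ℂ) : ℤ)) ^ 2 :=
      pow_le_pow_left₀ hnZ.le hn_le 2
    have hr0 : (0 : ℤ) ≤ (Rc.card : ℤ) := by positivity
    calc (n : ℤ) ^ 2 ≤ (∑ χ ∈ Rc, (Cfsg.charDegree (χ : G → ℂ) : ℤ)) ^ 2 := h1
      _ ≤ (Rc.card : ℤ) * ∑ χ ∈ Rc, ((Cfsg.charDegree (χ : G → ℂ) : ℤ)) ^ 2 := hcs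
      _ ≤ (Rc.card : ℤ) * ((Nat.card G : ℤ) - 1) := mul_le_mul_of_nonneg_left hsq hr0
  set g : ℤ := (Nat.card G : ℤ) with hgdef
  set r : ℤ := (Rc.card : ℤ) with hrdef
  have hg2 : (2 : ℤ) ≤ g := by
    have : 2 ≤ Nat.card G := Nat.le_of_dvd Nat.card_pos h2dvd
    rw [hgdef]
    exact_mod_cast this
  have hr1 : (1 : ℤ) ≤ r := by
    have hr0 : (0 : ℤ) ≤ r := by positivity
    by_contra hlt
    have : r = 0 := by omega
    rw [this, zero_mul] at hn2
    nlinarith
  push_cast at hsum2
  have hfinal : (g + n) * (g * r) ≤ (g - 1 + n) * (r * (g - 1)) := by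
    have hpos : (0 : ℤ) ≤ g - 1 + n := by linarith
    calc (g + n) * (g * r) ≤ (g - 1 + n) * (n : ℤ) ^ 2 := hsum2
      _ ≤ (g - 1 + n) * (r * (g - 1)) := mul_le_mul_of_nonneg_left hn2 hpos
  have hcontra : (g - 1 + n) * (r * (g - 1)) < (g + n) * (g * r) := by
    have e1 : (g + n) * (g * r) - (g - 1 + n) * (r * (g - 1)) = r * (2 * g + n - 1) := by ring
    have : 0 < r * (2 * g + n - 1) := by
      apply mul_pos (by linarith)
      linarith
    linarith
  linarith

end Cfsg.Agent.Lib.Helper24
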