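import Mathlib
import Cfsg.Agent.Lib.Helper10.C3OKSG

set_option autoImplicit false
set_option linter.unusedVariables false
set_option linter.unusedSectionVars false
set_option linter.unusedSimpArgs false

namespace Cfsg.Agent.Lib.Helper10.C3O

open Module Cfsg.Agent.Lib.Helper22.C3L

variable {F K V : Type*} [Field F] [Field K] [Algebra F K] [AddCommGroup V] [Module F V] [Module K V]
  [IsScalarTower F K V]

theorem c3oorb_perp_dim [FiniteDimensional K V] (B : V →ₗ[K] V →ₗ[K] K) {x : V} (hx : B x x ≠ 0) :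
    finrank K V ≤ finrank K (LinearMap.ker (B x)) + 1 := by
  have h := LinearMap.finrank_range_add_finrank_ker (B x)
  have h1 : finrank K (LinearMap.range (B x)) ≤ 1 := by
    have := Submodule.finrank_le (LinearMap.range (B x))
    rwa [finrank_self] at this
  omega

theorem c3oorb_nd (B : V →ₗ[K] V →ₗ[K] K) (hBs : ∀ x y, B x y = B y x)
    (hBn : ∀ x, x ≠ 0 → ∃ y, B x y ≠ 0) {x : V} (hx : B x x ≠ 0) {v : V} (hv : B x v = 0)
    (hv0 : v ≠ 0) : ∃ t, B x t = 0 ∧ B v t ≠ 0 := by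
  obtain ⟨y, hy⟩ := hBn v hv0
  refine ⟨y - (B x y / B x x) • x, ?_, ?_⟩
  · rw [map_sub, map_smul, smul_eq_mul, div_mul_cancel₀ _ hx, sub_self]
  · rw [map_sub, map_smul, smul_eq_mul, hBs v x, hv, mul_zero, sub_zero]
    exact hy

theorem c3oorb_sing (h2 : (2 : K) ≠ 0) (B : V →ₗ[K] V →ₗ[K] K) (hBs : ∀ x y, B x y = B y x)
    (hBn : ∀ x, x ≠ 0 → ∃ y, B x y ≠ 0) {x : V} (hx : B x x ≠ 0) {u₀ : V} (hu₀x : B x u₀ = 0)
    (hu₀0 : u₀ ≠ 0) (hu₀ : B u₀ u₀ = 0) {w : V} (hwx : B x w = 0) (hw0 : w ≠ 0) :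
    ∃ u, B x u = 0 ∧ B u u = 0 ∧ B w u ≠ 0 := by
  by_cases h0 : B w u₀ ≠ 0
  · exact ⟨u₀, hu₀x, hu₀, h0⟩
  push Not at h0
  obtain ⟨t, htx, hwt⟩ := c3oorb_nd B hBs hBn hx hwx hw0
  obtain ⟨t', ht'x, hut'⟩ := c3oorb_nd B hBs hBn hx hu₀x hu₀0
  have hex : ∃ t₁, B x t₁ = 0 ∧ B w t₁ ≠ 0 ∧ B u₀ t₁ ≠ 0 := by
    by_cases h1 : B u₀ t ≠ 0
    · exact ⟨t, htx, hwt, h1⟩
    push Not at h1
    by_cases h3 : B w (t + t') ≠ 0
    · refine ⟨t + t', by rw [map_add, htx, ht'x, add_zero], h3, ?_⟩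
      rw [map_add, h1, zero_add]
      exact hut'
    push Not at h3
    refine ⟨t - t', by rw [map_sub, htx, ht'x, sub_zero], ?_, ?_⟩
    · intro h4
      rw [map_add] at h3
      rw [map_sub] at h4
      have : (2 : K) * B w t = 0 := by linear_combination h3 + h4
      rcases mul_eq_zero.mp this with h5 | h5
      · exact h2 h5
      · exact hwt h5
    · rw [map_sub, h1, zero_sub]
      exact neg_ne_zero.mpr hut'
  obtain ⟨t₁, ht₁x, hwt₁, hut₁⟩ := hex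
  refine ⟨t₁ - (B t₁ t₁ / (2 * B u₀ t₁)) • u₀, ?_, ?_, ?_⟩
  · rw [map_sub, map_smul, ht₁x, hu₀x, smul_zero, sub_zero]
  · simp only [map_sub, map_smul, LinearMap.sub_apply, LinearMap.smul_apply, smul_eq_mul, hu₀,
      hBs t₁ u₀]
    field_simp
    ring
  · rw [map_sub, map_smul, h0, smul_zero, sub_zero]
    exact hwt₁

theorem c3oorb_partner (h2 : (2 : K) ≠ 0) (B : V →ₗ[K] V →ₗ[K] K) (hBs : ∀ x y, B x y = B y x)
    (hBn : ∀ x, x ≠ 0 → ∃ y, B x y ≠ 0) {x : V} (hx : B x x ≠ 0) {u : V} (hux : B x u = 0)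
    (hu0 : u ≠ 0) (hu : B u u = 0) : ∃ u', B x u' = 0 ∧ B u' u' = 0 ∧ B u u' = 1 := by
  obtain ⟨t, htx, hut⟩ := c3oorb_nd B hBs hBn hx hux hu0
  obtain ⟨t₁, ht₁⟩ : ∃ t₁ : V, t₁ = (B u t)⁻¹ • t := ⟨_, rfl⟩
  have h1 : B u t₁ = 1 := by rw [ht₁, map_smul, smul_eq_mul, inv_mul_cancel₀ hut]
  have h1x : B x t₁ = 0 := by rw [ht₁, map_smul, htx, smul_zero]
  refine ⟨t₁ - (B t₁ t₁ / 2) • u, ?_, ?_, ?_⟩
  · rw [map_sub, map_smul, h1x, hux, smul_zero, sub_zero]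
  · simp only [map_sub, map_smul, LinearMap.sub_apply, LinearMap.smul_apply, smul_eq_mul, hu,
      hBs t₁ u, h1]
    field_simp
    ring
  · rw [map_sub, map_smul, hu, smul_zero, sub_zero, h1]

theorem c3oorb_third [FiniteDimensional K V] (B : V →ₗ[K] V →ₗ[K] K) (hd : 4 ≤ finrank K V)
    (x u u' : V) : ∃ y, y ≠ 0 ∧ B x y = 0 ∧ B u y = 0 ∧ B u' y = 0 := by
  let Φ : V →ₗ[K] (Fin 3 → K) := LinearMap.pi ![B x, B u, B u']
  have h := LinearMap.finrank_range_add_finrank_ker Φ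
  have h1 : finrank K (LinearMap.range Φ) ≤ 3 := by
    have := Submodule.finrank_le (LinearMap.range Φ)
    rwa [Module.finrank_fin_fun] at this
  have h3 : LinearMap.ker Φ ≠ ⊥ := by
    intro hb
    rw [hb, finrank_bot] at h
    omega
  obtain ⟨y, hy, hy0⟩ := Submodule.exists_mem_ne_zero_of_ne_bot h3
  have hΦ : Φ y = 0 := LinearMap.mem_ker.mp hy
  refine ⟨y, hy0, ?_, ?_, ?_⟩
  · simpa [Φ] using congrFun hΦ 0
  · simpa [Φ] using congrFun hΦ 1
  · simpa [Φ] using congrFun hΦ 2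

theorem c3oorb_core [Finite K] [FiniteDimensional K V] (h2 : (2 : F) ≠ 0) (B : V →ₗ[K] V →ₗ[K] K)
    (hBs : ∀ x y, B x y = B y x) (hBn : ∀ x, x ≠ 0 → ∃ y, B x y ≠ 0) (hd : 4 ≤ finrank K V)
    (hiso : ∀ W : Submodule K V, 3 ≤ finrank K W → ∃ u ∈ W, u ≠ 0 ∧ B u u = 0)
    {x x' : V} (hx : B x x ≠ 0) (hx' : x' ∉ Kl F K x) (L : Submodule F V) (hxL : x ∈ L)
    (hx'L : x' ∈ L) (hL : finrank F L ≤ finrank F K) : ∃ g ∈ OmB F B, g x = x ∧ g x' ∉ L := by
  have h2K : (2 : K) ≠ 0 := c3oksg_two h2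
  have : Module.Finite F K := Module.Finite.of_finite
  have : Module.Finite F V := Module.Finite.trans K V
  have hP : 3 ≤ finrank K (LinearMap.ker (B x)) := by
    have := c3oorb_perp_dim B hx
    omega
  obtain ⟨u₀, hu₀P, hu₀0, hu₀⟩ := hiso _ hP
  have hu₀x : B x u₀ = 0 := LinearMap.mem_ker.mp hu₀P
  obtain ⟨w, hw⟩ : ∃ w : V, w = x' - (B x x' / B x x) • x := ⟨_, rfl⟩
  have hwx : B x w = 0 := by
    rw [hw, map_sub, map_smul, smul_eq_mul, div_mul_cancel₀ _ hx, sub_self]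
  have hw0 : w ≠ 0 := by
    intro h
    apply hx'
    rw [mem_Kl]
    rw [hw] at h
    exact ⟨B x x' / B x x, (sub_eq_zero.mp h).symm⟩
  obtain ⟨u, hux, hu, hwu⟩ := c3oorb_sing h2K B hBs hBn hx hu₀x hu₀0 hu₀ hwx hw0
  have hu0 : u ≠ 0 := by
    rintro rfl
    exact hwu (map_zero _)
  have hc : B x' u ≠ 0 := by
    intro h
    apply hwu
    rw [hw, map_sub, map_smul, LinearMap.sub_apply, LinearMap.smul_apply, h, hux, smul_zero,
      sub_zero]
  obtain ⟨u', hu'x, hu', huu'⟩ := c3oorb_partner h2K B hBs hBn hx hux hu0 hu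
  obtain ⟨y, hy0, hxy, huy, hu'y⟩ := c3oorb_third B hd x u u'
  obtain ⟨v₀, hv₀⟩ := hBn y hy0
  obtain ⟨v', hv'⟩ : ∃ v' : V, v' = v₀ - (B x v₀ / B x x) • x - B u v₀ • u' := ⟨_, rfl⟩
  have hxv' : B x v' = 0 := by
    rw [hv', map_sub, map_sub, map_smul, map_smul, hu'x, smul_zero, smul_eq_mul,
      div_mul_cancel₀ _ hx, sub_self, sub_zero]
  have huv' : B u v' = 0 := by
    rw [hv', map_sub, map_sub, map_smul, map_smul, huu', hBs u x, hux, smul_zero, smul_eq_mul,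
      mul_one, sub_zero, sub_self]
  have hyv' : B y v' ≠ 0 := by
    rw [hv', map_sub, map_sub, map_smul, map_smul, hBs y x, hxy, hBs y u', hu'y, smul_zero,
      smul_zero, sub_zero, sub_zero]
    exact hv₀
  by_contra hcon
  push Not at hcon
  have hk : ∀ k : K, ksg B u (k • y) x' ∈ L := by
    intro k
    obtain ⟨g, hg, hgx⟩ := ksg_mem h2 B hBs hBn (u := u) (y := k • y) hu
      (by rw [map_smul, huy, smul_zero])
    have hgx0 : g x = x := by
      rw [hgx, ksg, hux, map_smul, hxy, smul_zero]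
      simp
    have := hcon g hg hgx0
    rwa [hgx] at this
  let φ : V →ₗ[F] K := (B.flip v').restrictScalars F
  have hφ : ∀ v, φ v = B v v' := fun v => rfl
  let ψ : L →ₗ[F] K := φ.domRestrict L
  have hψ : ∀ v : L, ψ v = B (v : V) v' := fun v => rfl
  have hsurj : LinearMap.range ψ = ⊤ := by
    rw [eq_top_iff]
    intro κ _
    refine ⟨⟨ksg B u ((κ / (B x' u * B y v')) • y) x', hk _⟩ - ⟨x', hx'L⟩, ?_⟩
    rw [map_sub, hψ, hψ]
    simp only [ksg, map_sub, map_add, map_smul, LinearMap.sub_apply, LinearMap.add_apply,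
      LinearMap.smul_apply, smul_eq_mul, huv']
    field_simp
    ring
  have hker : LinearMap.ker ψ ≠ ⊥ := by
    intro hb
    have hmem : (⟨x, hxL⟩ : L) ∈ LinearMap.ker ψ := by
      rw [LinearMap.mem_ker, hψ]
      exact hxv'
    rw [hb, Submodule.mem_bot] at hmem
    have hx0 : x = 0 := congrArg Subtype.val hmem
    rw [hx0, map_zero] at hx
    exact hx rfl
  have hrk := LinearMap.finrank_range_add_finrank_ker ψ
  rw [hsurj, finrank_top] at hrk
  have hpos : 0 < finrank F (LinearMap.ker ψ) := by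
    rw [Module.finrank_pos_iff_exists_ne_zero]
    obtain ⟨z, hz, hz0⟩ := Submodule.exists_mem_ne_zero_of_ne_bot hker
    exact ⟨⟨z, hz⟩, fun h => hz0 (congrArg Subtype.val h)⟩
  omega

end Cfsg.Agent.Lib.Helper10.C3O
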