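import Mathlib
import Cfsg.Agent.Lib.helper3.C6U.Defs
import Cfsg.Agent.Lib.helper15.C6UW1

set_option autoImplicit false
set_option linter.unusedVariables false
set_option linter.unusedSectionVars false
set_option linter.unusedSimpArgs false

namespace Cfsg.Agent.Lib.helper3.C6U

open Polynomial Matrix
open Cfsg.Agent.Lib.Helper10.C6P
open scoped MatrixGroups

variable {F : Type*} [Field F]

section fin

variable [Fintype F] {p : ℕ} [Fact p.Prime] [CharP F p]

theorem c6ub4h24_neg_one : ((-1 : F)) ^ p = -1 := by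
  have h := map_neg (frobenius F p) 1
  rw [map_one, frobenius_def] at h
  exact h

theorem c6ub4h24_one : IsU p (1 : M4 F) := by
  have hp0 : p ≠ 0 := (Fact.out : p.Prime).ne_zero
  unfold IsU gram
  rw [Matrix.transpose_one, Matrix.one_mul]
  ext j k
  by_cases hjk : j = k
  · subst hjk
    simp
  · simp [Matrix.one_apply_ne hjk, hp0]

theorem c6ub4h24_gens : IsU p (pD1 : M4 F) ∧ IsU p (pX1 : M4 F) ∧ IsU p (pD2 : M4 F) ∧ IsU p (pX2 : M4 F) := by
  have hp0 : p ≠ 0 := (Fact.out : p.Prime).ne_zero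
  have hn1 : ((-1 : F)) ^ p = -1 := c6ub4h24_neg_one
  refine ⟨?_, ?_, ?_, ?_⟩
  · unfold IsU gram pD1
    ext j k
    fin_cases j <;> fin_cases k <;>
      simp [Matrix.mul_apply, Fin.sum_univ_four, Matrix.diagonal, hp0, hn1]
  · unfold IsU gram pX1
    ext j k
    fin_cases j <;> fin_cases k <;>
      simp [Matrix.mul_apply, Fin.sum_univ_four, hp0, hn1]
  · unfold IsU gram pD2
    ext j k
    fin_cases j <;> fin_cases k <;>
      simp [Matrix.mul_apply, Fin.sum_univ_four, Matrix.diagonal, hp0, hn1]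
  · unfold IsU gram pX2
    ext j k
    fin_cases j <;> fin_cases k <;>
      simp [Matrix.mul_apply, Fin.sum_univ_four, hp0, hn1]

theorem c6ub4h24_pow (A : M4 F) (hA : IsU p A) (n : ℕ) : IsU p (A ^ n) := by
  induction n with
  | zero =>
    rw [pow_zero]
    exact c6ub4h24_one
  | succ n ih =>
    rw [pow_succ]
    exact c6uw1_isU_mul _ _ ih hA

theorem c6ub4h24_smul (z : F) (hz : z * z ^ p = 1) (A : M4 F) (hA : IsU p A) : IsU p (z • A) := by
  unfold IsU gram at hA ⊢
  have hmap : (z • A).map (fun t => t ^ p) = z ^ p • A.map (fun t => t ^ p) := by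
    ext j k
    simp [mul_pow]
  rw [hmap, Matrix.transpose_smul, Matrix.smul_mul, Matrix.mul_smul, hA, smul_smul, hz, one_smul]

theorem c6ub4_h24 (i : F) (hi : i * i = -1) (hip : i ^ p = -i) (a b c d e : ℕ) : IsU p (pauliM i a b c d e) := by
  obtain ⟨h1, h2, h3, h4⟩ := c6ub4h24_gens (F := F) (p := p)
  unfold pauliM
  apply c6ub4h24_smul
  · rw [← pow_mul, mul_comm a p, pow_mul, hip, ← mul_pow]
    have e : i * -i = 1 := by
      rw [mul_neg, hi, neg_neg]
    rw [e, one_pow]
  · exact c6uw1_isU_mul _ _ (c6uw1_isU_mul _ _ (c6uw1_isU_mul _ _ (c6ub4h24_pow _ h1 b)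
      (c6ub4h24_pow _ h2 c)) (c6ub4h24_pow _ h3 d)) (c6ub4h24_pow _ h4 e)

end fin

end Cfsg.Agent.Lib.helper3.C6U
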