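import Mathlib
import Cfsg.Agent.Lib.helper3.C6U.Defs
import Cfsg.Agent.Lib.Helper5.C6PG0
import Cfsg.Agent.Lib.Helper10.C6PNTF
import Cfsg.Agent.Lib.helper6.C6PNFIX
import Cfsg.Agent.Lib.helper6.C6PNCEN
import Cfsg.Agent.Lib.Helper29.C6PNSCAL
import Cfsg.Agent.Lib.Lead.Unitary

set_option autoImplicit false
set_option linter.unusedVariables false
set_option linter.unusedSectionVars false
set_option linter.unnecessarySeqFocus false

namespace Cfsg.Agent.Lib.helper3.C6U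

open Polynomial Matrix
open Cfsg.Agent.Lib.Helper10.C6P
open scoped MatrixGroups

variable {F : Type*} [Field F]

def c6ug4_X (a b c : F) : M4 F := !![a, b, 0, 0; -c, a, 0, 0; 0, 0, 1, 0; 0, 0, 0, 1]
def c6ug4_X2 (a b c : F) : M4 F :=
  !![2 * a ^ 2 - 1, 2 * a * b, 0, 0; -(2 * a * c), 2 * a ^ 2 - 1, 0, 0; 0, 0, 1, 0; 0, 0, 0, 1]
def c6ug4_Xi (a b c : F) : M4 F := !![a, -b, 0, 0; c, a, 0, 0; 0, 0, 1, 0; 0, 0, 0, 1]
def c6ug4_Xs (a b c : F) : M4 F := !![a, c, 0, 0; -b, a, 0, 0; 0, 0, 1, 0; 0, 0, 0, 1]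

theorem c6ug4_det (a b c : F) (h1 : a ^ 2 + b * c = 1) : (c6ug4_X a b c).det = 1 := by
  unfold c6ug4_X
  rw [Matrix.det_succ_row_zero]
  simp [Fin.sum_univ_succ, Matrix.det_fin_three, Fin.succAbove]
  linear_combination h1

theorem c6ug4_mul_inv (a b c : F) (h1 : a ^ 2 + b * c = 1) : c6ug4_X a b c * c6ug4_Xi a b c = 1 := by
  unfold c6ug4_X c6ug4_Xi
  ext j k
  fin_cases j <;> fin_cases k <;> simp [Matrix.mul_apply, Fin.sum_univ_four] <;>
    first | linear_combination h1 | ring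

theorem c6ug4_inv_mul (a b c : F) (h1 : a ^ 2 + b * c = 1) : c6ug4_Xi a b c * c6ug4_X a b c = 1 := by
  unfold c6ug4_X c6ug4_Xi
  ext j k
  fin_cases j <;> fin_cases k <;> simp [Matrix.mul_apply, Fin.sum_univ_four] <;>
    first | linear_combination h1 | ring

theorem c6ug4_sq (a b c : F) (h1 : a ^ 2 + b * c = 1) : c6ug4_X a b c * c6ug4_X a b c = c6ug4_X2 a b c := by
  unfold c6ug4_X c6ug4_X2
  ext j k
  fin_cases j <;> fin_cases k <;> simp [Matrix.mul_apply, Fin.sum_univ_four] <;>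
    first | linear_combination (-1 : F) * h1 | ring

theorem c6ug4_four (a b c : F) (h1 : a ^ 2 + b * c = 1) (hτ : 4 * a ^ 2 + 2 * a = 1) :
    c6ug4_X2 a b c * c6ug4_X2 a b c = c6ug4_Xi a b c := by
  unfold c6ug4_X2 c6ug4_Xi
  ext j k
  fin_cases j <;> fin_cases k <;> simp [Matrix.mul_apply, Fin.sum_univ_four] <;>
    first
    | linear_combination (-4 * a ^ 2) * h1 + (2 * a ^ 2 - a - 1) * hτ
    | linear_combination (b * (2 * a - 1)) * hτ
    | linear_combination (-c * (2 * a - 1)) * hτ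

theorem c6ug4_pow (a b c : F) (h1 : a ^ 2 + b * c = 1) (hτ : 4 * a ^ 2 + 2 * a = 1) :
    c6ug4_X a b c ^ 5 = 1 := by
  have e : c6ug4_X a b c ^ 5 =
      (c6ug4_X a b c * c6ug4_X a b c) * (c6ug4_X a b c * c6ug4_X a b c) * c6ug4_X a b c := by
    rw [pow_succ, pow_succ, pow_succ, pow_succ, pow_one]
    simp only [Matrix.mul_assoc]
  rw [e, c6ug4_sq a b c h1, c6ug4_four a b c h1 hτ, c6ug4_inv_mul a b c h1]

theorem c6ug4_trace (a b c : F) : Matrix.trace (c6ug4_X a b c) = 2 * a + 2 := by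
  unfold c6ug4_X
  simp [Matrix.trace, Fin.sum_univ_four]
  ring

theorem c6ug4_trace_inv (a b c : F) : Matrix.trace (c6ug4_Xi a b c) = 2 * a + 2 := by
  unfold c6ug4_Xi
  simp [Matrix.trace, Fin.sum_univ_four]
  ring

theorem c6ug4_gram (a b c : F) (h1 : a ^ 2 + b * c = 1) :
    (c6ug4_X a b c).transpose * c6ug4_Xs a b c = 1 := by
  unfold c6ug4_X c6ug4_Xs
  ext j k
  fin_cases j <;> fin_cases k <;> simp [Matrix.mul_apply, Fin.sum_univ_four] <;>
    first | linear_combination h1 | ring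

theorem c6ug4_map (p : ℕ) (hp0 : p ≠ 0) (hodd : Odd p) (a b c : F) (ha : a ^ p = a) (hb : b ^ p = c)
    (hc : c ^ p = b) : (c6ug4_X a b c).map (fun t => t ^ p) = c6ug4_Xs a b c := by
  unfold c6ug4_X c6ug4_Xs
  ext j k
  fin_cases j <;> fin_cases k <;> simp [ha, hb, hc, hp0, hodd.neg_pow]

section fin

variable [Fintype F] {p : ℕ} [Fact p.Prime] [CharP F p]

theorem c6ug4_gu (hF : Fintype.card F = p ^ 2) (g : GL (Fin 4) F) :
    g ∈ Cfsg.GU 4 F p ↔ IsU p (g : M4 F) := by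
  obtain ⟨σ, hσ⟩ := Cfsg.Agent.Lib.Lead.exists_frob hF
  have hmap : (g : M4 F).map (fun a => a ^ p) = (g : M4 F).map σ := by
    ext j k
    simp [Matrix.map_apply, hσ]
  unfold IsU gram
  rw [hmap]
  exact Cfsg.Agent.Lib.Lead.preserves_iff σ hσ (g : M4 F)

theorem c6ug4_core (hF : Fintype.card F = p ^ 2) (hp4 : p % 4 = 3) {i : F}
    {R : Subgroup (GL (Fin 4) F)} (hctx : RCtx i R)
    (hτ : ∃ τ : F, τ ^ 2 + τ = 1 ∧ τ ^ p = τ) : ¬ AllFixU p R 5 := by
  classical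
  have hpp : p.Prime := Fact.out
  have : Fact (Nat.Prime 5) := ⟨by norm_num⟩
  have h2 := hctx.two
  have hp0 : p ≠ 0 := hpp.ne_zero
  have hodd : Odd p := by
    rw [Nat.odd_iff]
    omega
  obtain ⟨τ, hτ1, hτp⟩ := hτ
  have h2p : (2 : F) ^ p = 2 := by
    have h := map_natCast (frobenius F p) 2
    rw [frobenius_def] at h
    exact_mod_cast h
  obtain ⟨a, ha_def⟩ : ∃ a : F, a = τ / 2 := ⟨_, rfl⟩
  have h2a : 2 * a = τ := by
    rw [ha_def]
    field_simp
  have ha : a ^ p = a := by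
    rw [ha_def, div_pow, hτp, h2p]
  have hτ' : 4 * a ^ 2 + 2 * a = 1 := by
    have e : 4 * a ^ 2 + 2 * a = (2 * a) ^ 2 + 2 * a := by ring
    rw [e, h2a]
    exact hτ1
  have hbc : ∃ b c : F, b ^ p = c ∧ c ^ p = b ∧ a ^ 2 + b * c = 1 := by
    by_cases h0 : 1 - a ^ 2 = 0
    · refine ⟨0, 0, zero_pow hp0, zero_pow hp0, ?_⟩
      linear_combination (-1 : F) * h0
    · have hc0p : (1 - a ^ 2) ^ p = 1 - a ^ 2 := by
        have h := map_sub (frobenius F p) 1 (a ^ 2)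
        simp only [frobenius_def, one_pow] at h
        rw [h, ← pow_mul, mul_comm, pow_mul, ha]
      have hcard := Cfsg.Agent.Lib.Lead.card_norm_fiber hF (1 - a ^ 2) h0 hc0p
      have hne : (Finset.univ.filter (fun t : F => t ^ (p + 1) = 1 - a ^ 2)).Nonempty := by
        rw [← Finset.card_pos, hcard]
        omega
      obtain ⟨b, hb⟩ := hne
      rw [Finset.mem_filter] at hb
      refine ⟨b, b ^ p, rfl, ?_, ?_⟩
      · rw [← pow_mul, ← sq, ← hF, FiniteField.pow_card]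
      · rw [← pow_succ', hb.2]
        ring
  obtain ⟨b, c, hb, hc, h1⟩ := hbc
  obtain ⟨x, hx⟩ : ∃ x : GL (Fin 4) F, x =
      ⟨c6ug4_X a b c, c6ug4_Xi a b c, c6ug4_mul_inv a b c h1, c6ug4_inv_mul a b c h1⟩ := ⟨_, rfl⟩
  have hxval : (x : M4 F) = c6ug4_X a b c := by rw [hx]
  have hxinv : ((x⁻¹ : GL (Fin 4) F) : M4 F) = c6ug4_Xi a b c := by rw [hx]; rfl
  have hxSL : x ∈ Cfsg.Geo.specialLinear (Fin 4) F := by
    apply c6pg_mem_of_det
    rw [hxval]
    exact c6ug4_det a b c h1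
  have hxGU : x ∈ Cfsg.GU 4 F p := by
    rw [c6ug4_gu hF]
    unfold IsU gram
    rw [hxval, c6ug4_map p hp0 hodd a b c ha hb hc]
    exact c6ug4_gram a b c h1
  have hx5 : x ^ 5 = 1 := by
    apply Units.ext
    rw [Units.val_pow_eq_pow_val, hxval, Units.val_one]
    exact c6ug4_pow a b c h1 hτ'
  have hp5ne : p ≠ 5 := by omega
  have h5F : (5 : F) ≠ 0 := by
    intro h
    have h' : ((5 : ℕ) : F) = 0 := by exact_mod_cast h
    have hdvd := (CharP.cast_eq_zero_iff F p 5).mp h'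
    exact hp5ne ((Nat.prime_dvd_prime_iff_eq hpp (by norm_num)).mp hdvd)
  have hns : ∀ z : F, (x : M4 F) ≠ z • (1 : M4 F) := by
    intro z hz
    have e22 := congrFun (congrFun hz 2) 2
    have e00 := congrFun (congrFun hz 0) 0
    rw [hxval] at e22 e00
    simp [c6ug4_X] at e22 e00
    apply h5F
    have ha1 : a = 1 := by rw [e00, ← e22]
    rw [ha1] at hτ'
    linear_combination hτ'
  intro hall
  obtain ⟨g, -, hgN⟩ := hall x ⟨hxGU, hxSL⟩ ⟨1, by rw [hx5, one_smul]; rfl⟩ hns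
  obtain ⟨y, hy⟩ : ∃ y : GL (Fin 4) F, y = g⁻¹ * x * g := ⟨_, rfl⟩
  rw [← hy] at hgN
  have hyr : y ^ 5 = 1 := by
    rw [hy, c6pg_pow_conj, hx5]
    group
  have hyns : ∀ z : F, (y : M4 F) ≠ z • (1 : M4 F) := by
    intro z hz
    rw [hy] at hz
    exact hns z (c6pg_scalar_of_conj g x z hz)
  have htr : Matrix.trace (y : M4 F) = 2 * a + 2 := by
    rw [hy, c6pg_trace_conj, hxval, c6ug4_trace]
  have htri : Matrix.trace ((y⁻¹ : GL (Fin 4) F) : M4 F) = 2 * a + 2 := by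
    rw [hy, c6pg_inv_conj, c6pg_trace_conj, hxinv, c6ug4_trace_inv]
  have htf := trace_formula hctx y hgN 5 (by decide) hyr
  have hfc := fix_count hctx y hgN 5 ⟨1, by rw [hyr, one_smul]; rfl⟩
  obtain ⟨k, hk2, hk6, hk⟩ := cent_card hctx y
  rw [htr, htri, hk] at htf
  rw [hk] at hfc
  have hk26 : k = 2 ∨ k = 6 := by
    interval_cases k <;> simp [Nat.ModEq] at hfc <;> simp
  rcases hk26 with rfl | rfl
  · apply h5F
    have e : (4 : F) * (2 * a + 2) * (2 * a + 2) = 4 := by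
      rw [htf]
      norm_num
    have h4 : (4 : F) ≠ 0 := by
      have e4 : (4 : F) = 2 * 2 := by norm_num
      rw [e4]
      exact mul_ne_zero h2 h2
    have h20 : (4 : F) * 5 = 0 := by
      linear_combination (6 * a - 1) * e - (24 * a + 32) * hτ'
    rcases mul_eq_zero.mp h20 with h | h
    · exact absurd h h4
    · exact h
  · obtain ⟨z, hz⟩ := cent_top hctx y (by rw [hk]; norm_num)
    exact hyns z hz

end fin

end Cfsg.Agent.Lib.helper3.C6U
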