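import Mathlib
import Cfsg.Agent.Lib.helper3.C6U.Defs
import Cfsg.Agent.Lib.Helper24.C6UG4core
import Cfsg.Agent.Lib.helper23.C6UA7

set_option autoImplicit false
set_option linter.unusedVariables false
set_option linter.unusedSectionVars false

namespace Cfsg.Agent.Lib.helper3.C6U

open Polynomial Matrix
open Cfsg.Agent.Lib.Helper10.C6P
open scoped MatrixGroups

variable {F : Type*} [Field F]

section fin

variable [Fintype F] {p : ℕ} [Fact p.Prime] [CharP F p]

theorem nec_five_u (hF : Fintype.card F = p ^ 2) (hp4 : p % 4 = 3) (hp5 : p % 5 = 1 ∨ p % 5 = 4) {i : F}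
    {R : Subgroup (GL (Fin 4) F)} (hctx : RCtx i R) : ¬ AllFixU p R 5 :=
  c6ug4_core hF hp4 hctx (tau_prime hF hp5)

end fin

end Cfsg.Agent.Lib.helper3.C6U
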