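import Mathlib
import Cfsg.Agent.Lib.helper3.C6U.Defs
import Cfsg.Agent.Lib.helper15.C6UW1
import Cfsg.Agent.Lib.helper7.C6PWSMUL
import Cfsg.Agent.Lib.helper7.C6PWCZ
import Cfsg.Agent.Lib.Helper24.C6UB4h24

set_option autoImplicit false
set_option linter.unusedVariables false
set_option linter.unusedSectionVars false
set_option linter.unusedSimpArgs false

namespace Cfsg.Agent.Lib.helper3.C6U

open Polynomial Matrix
open Cfsg.Agent.Lib.Helper10.C6P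
open scoped MatrixGroups

variable {F : Type*} [Field F]

theorem c6uw2h24_nrm_mul (R : Subgroup (GL (Fin 4) F)) (A B : M4 F) (hA : Nrm R A) (hB : Nrm R B) :
    Nrm R (A * B) := by
  obtain ⟨a, ha, haN⟩ := hA
  obtain ⟨b, hb, hbN⟩ := hB
  exact ⟨a * b, by rw [Units.val_mul, ha, hb], Subgroup.mul_mem _ haN hbN⟩

theorem c6uw2h24_d2sq : (pD2 : M4 F) * pD2 = 1 := by
  ext j k
  fin_cases j <;> fin_cases k <;> simp [pD2, Matrix.mul_apply, Fin.sum_univ_four, Matrix.diagonal]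

theorem c6uw2h24_nrm_d2 {i : F} {R : Subgroup (GL (Fin 4) F)} (h : IsStd i R) : Nrm R (pD2 : M4 F) := by
  refine ⟨⟨pD2, pD2, c6uw2h24_d2sq, c6uw2h24_d2sq⟩, rfl, ?_⟩
  apply Subgroup.le_normalizer
  rw [h.2]
  refine ⟨0, 0, 0, 1, 0, ?_⟩
  show (pD2 : M4 F) = pauliM i 0 0 0 1 0
  unfold pauliM
  rw [pow_zero, pow_zero, pow_zero, pow_zero, pow_one, one_smul, mul_one, one_mul, one_mul]

theorem c6uw2h24_eq : D2 F 2 = (pD1 : M4 F) ∧ D2 F 3 = CZ F ∧ D2 F 1 = (pD1 : M4 F) * (pD2 * CZ F) := by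
  refine ⟨?_, ?_, ?_⟩
  · ext j k
    fin_cases j <;> fin_cases k <;> simp [D2, pD1, Matrix.diagonal]
  · ext j k
    fin_cases j <;> fin_cases k <;> simp [D2, CZ, Matrix.diagonal]
  · ext j k
    fin_cases j <;> fin_cases k <;>
      simp [D2, pD1, pD2, CZ, Matrix.mul_apply, Fin.sum_univ_four, Matrix.diagonal]

section fin

variable [Fintype F] {p : ℕ} [Fact p.Prime] [CharP F p]

theorem c6uw2h24_cz : IsU p (CZ F) := by
  have hp0 : p ≠ 0 := (Fact.out : p.Prime).ne_zero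
  have hn1 : ((-1 : F)) ^ p = -1 := c6ub4h24_neg_one
  unfold IsU gram CZ
  ext j k
  fin_cases j <;> fin_cases k <;> simp [Matrix.mul_apply, Fin.sum_univ_four, hp0, hn1]

theorem c6uw2_h24 {i : F} {R : Subgroup (GL (Fin 4) F)} (h : IsStd i R) (h2 : (2 : F) ≠ 0) (j : ℕ) (hj1 : 1 ≤ j) (hj3 : j ≤ 3) :
    NrmU p R (D2 F j) := by
  obtain ⟨e2, e3, e1⟩ := c6uw2h24_eq (F := F)
  obtain ⟨u1, _, u3, _⟩ := c6ub4h24_gens (F := F) (p := p)
  interval_cases j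
  · rw [e1]
    exact ⟨c6uw2h24_nrm_mul R _ _ (nrm_Z1 h) (c6uw2h24_nrm_mul R _ _ (c6uw2h24_nrm_d2 h) (nrm_CZ h)),
      c6uw1_isU_mul _ _ u1 (c6uw1_isU_mul _ _ u3 c6uw2h24_cz)⟩
  · rw [e2]
    exact ⟨nrm_Z1 h, u1⟩
  · rw [e3]
    exact ⟨nrm_CZ h, c6uw2h24_cz⟩

end fin

end Cfsg.Agent.Lib.helper3.C6U
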