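import Mathlib
import Cfsg.Agent.Lib.helper3.C6U.Defs
import Cfsg.Agent.Lib.Helper24.C6UW2h24

set_option autoImplicit false
set_option linter.unusedVariables false
set_option linter.unusedSectionVars false

namespace Cfsg.Agent.Lib.helper3.C6U

open Polynomial Matrix
open Cfsg.Agent.Lib.Helper10.C6P
open scoped MatrixGroups

variable {F : Type*} [Field F]

section fin

variable [Fintype F] {p : ℕ} [Fact p.Prime] [CharP F p]

theorem wit_two_u {i : F} {R : Subgroup (GL (Fin 4) F)} (h : IsStd i R) (h2 : (2 : F) ≠ 0) (j : ℕ) (hj1 : 1 ≤ j) (hj3 : j ≤ 3) :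
    NrmU p R (D2 F j) :=
  c6uw2_h24 h h2 j hj1 hj3

end fin

end Cfsg.Agent.Lib.helper3.C6U
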