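import Mathlib
import Cfsg.Agent.Lib.helper6.CEB.Defs
import Cfsg.Agent.Lib.Helper24.STCI1
import Cfsg.Agent.Lib.Helper20.STBH2
import Cfsg.Agent.Lib.helper6.STBW9

set_option autoImplicit false

namespace Cfsg.Agent.Lib.helper6.CEB

open Cfsg.Agent.Lib.helper15.St2 Cfsg.Agent.Lib.helper7.Ce Cfsg.Agent.Lib.helper3.STC Cfsg.Agent.Lib.Lead.STD
  Cfsg.Agent.Lib.helper7.CED Cfsg.Agent.Lib.Lead.STB
open Cfsg.Agent.Lib.helper7.CEC (I2 I3 I4 U3)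

section G

variable {K : Type*} [Field K] {ι : Type*} {Γ G : Type*} [Group Γ] [Group G] {S : SysB K ι G} {σ : Γ →* G}

theorem CL_ws (h : IsCE σ) {a : ι ⊕ ι} {y : G} (hp : ∀ t, CL σ (S.xs a t) y) (hn : ∀ t, CL σ (S.xs (ng a) t) y) (u : K) :
    CL σ (S.ws a u) y := by
  unfold SysB.ws
  exact h.CL_mul_left (h.CL_mul_left (hp u) (hn _)) (hp u)

theorem CL_hs (h : IsCE σ) {a : ι ⊕ ι} {y : G} (hp : ∀ t, CL σ (S.xs a t) y) (hn : ∀ t, CL σ (S.xs (ng a) t) y) (u : K) :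
    CL σ (S.hs a u) y := by
  unfold SysB.hs
  exact h.CL_mul_left (CL_ws h hp hn u) (CL_ws h hp hn (-1))

theorem CL_tor_s (h : IsCE σ) {a c d : ι ⊕ ι} (hcd : c ≠ d) (g : G) (dd : ι ⊕ ι → K) (d0 : K) (hg : S.IsMon g 1 dd d0)
    (hfix : dd c * (dd d)⁻¹ = 1) (hsc : dd a * d0 ≠ 1)
    (hcomm : ∀ t u, S.xs a t * S.x c d u = S.x c d u * S.xs a t) (t u : K) :
    CL σ (S.xs a t) (S.x c d u) := by
  have key := h.torus (fun t' => S.xs a t') (fun s t' => (S.adds a s t').symm) (S.x c d u) g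
    (dd a * d0) hsc (fun t' => hcomm t' u)
    (fun t' => by
      have := hg.2.2.2.2 a t'
      simpa using this)
    (by
      have := hg.1.2 c d hcd u
      rw [hfix, one_mul] at this
      simpa using this)
  exact key t

end G

section T

variable {K : Type*} [Field K] {ι : Type*} {Γ G : Type*} [Group Γ] [Group G] {S : SysB K ι G} {σ : Γ →* G}

theorem cebg1_ne {a b : ι ⊕ ι} (h : ab a ≠ ab b) : a ≠ b ∧ a ≠ ng b ∧ b ≠ a ∧ b ≠ ng a := by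
  refine ⟨?_, ?_, ?_, ?_⟩
  · intro e; exact h (by rw [e])
  · intro e; exact h (by rw [e, ab_ng])
  · intro e; exact h (by rw [e])
  · intro e; exact h (by rw [e, ab_ng])

theorem ts_45 (h : IsCE σ) (h3 : I3 ι) :
    ∀ a d : ι ⊕ ι, ab a ≠ ab d → ∀ t u : K, CL σ (S.xs a t) (S.x a d u) := by
  intro a d had t u
  obtain ⟨e, hea, hed⟩ := h3 a d
  obtain ⟨ad1, ad2, da1, da2⟩ := cebg1_ne had
  obtain ⟨ea1, ea2, ae1, ae2⟩ := cebg1_ne hea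
  obtain ⟨ed1, ed2, de1, de2⟩ := cebg1_ne hed
  have h3' := S.comm3 a e d ae1 ae2 ed1 ed2 ad1 ad2 u 1
  rw [mul_one] at h3'
  have e1 : S.x a d u = cm (S.x a e u) (S.x e d 1) := h3'.symm
  rw [e1]
  apply CL.symm
  apply h.milnor
  · exact (S.comm_ls a a e ae1 ae2 ea1 (ne_ng a) t u).symm
  · exact (S.comm_ls a e d ed1 ed2 da1 ea2 t 1).symm

theorem ts_orth_milnor (h : IsCE σ) (h4 : I4 ι) :
    ∀ a c d : ι ⊕ ι, ab c ≠ ab d → ab a ≠ ab c → ab a ≠ ab d → ∀ t u : K, CL σ (S.xs a t) (S.x c d u) := by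
  intro a c d hcd hac had t u
  obtain ⟨e, hea, hec, hed⟩ := h4 a c d
  obtain ⟨cd1, cd2, dc1, dc2⟩ := cebg1_ne hcd
  obtain ⟨ac1, ac2, ca1, ca2⟩ := cebg1_ne hac
  obtain ⟨ad1, ad2, da1, da2⟩ := cebg1_ne had
  obtain ⟨ea1, ea2, ae1, ae2⟩ := cebg1_ne hea
  obtain ⟨ec1, ec2, ce1, ce2⟩ := cebg1_ne hec
  obtain ⟨ed1, ed2, de1, de2⟩ := cebg1_ne hed
  have h3' := S.comm3 c e d ce1 ce2 ed1 ed2 cd1 cd2 u 1
  rw [mul_one] at h3'
  have e1 : S.x c d u = cm (S.x c e u) (S.x e d 1) := h3'.symm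
  rw [e1]
  apply CL.symm
  apply h.milnor
  · exact (S.comm_ls a c e ce1 ce2 ea1 ca2 t u).symm
  · exact (S.comm_ls a e d ed1 ed2 da1 ea2 t 1).symm

theorem ts_orth_torus [DecidableEq ι] [Finite K] (h : IsCE σ) (v : K) (hv0 : v ≠ 0) (hv2 : v ^ 2 ≠ 1) :
    ∀ a c d : ι ⊕ ι, ab c ≠ ab d → ab a ≠ ab c → ab a ≠ ab d → ∀ t u : K, CL σ (S.xs a t) (S.x c d u) := by
  intro a c d hcd hac had t u
  obtain ⟨cd1, cd2, dc1, dc2⟩ := cebg1_ne hcd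
  obtain ⟨ac1, ac2, ca1, ca2⟩ := cebg1_ne hac
  obtain ⟨ad1, ad2, da1, da2⟩ := cebg1_ne had
  refine CL_tor_s h cd1 (S.hs a v) (dhb a v) 1 (S.isMon_hs a v hv0) ?_ ?_ ?_ t u
  · rw [stbw9_dhb_of_ne ca1 ca2, stbw9_dhb_of_ne da1 da2, inv_one, mul_one]
  · rw [stbw9_dhb_a, mul_one]
    exact hv2
  · intro t' u'
    exact S.comm_ls a c d cd1 cd2 da1 ca2 t' u'

end T

end Cfsg.Agent.Lib.helper6.CEB
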