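import Cfsg.Agent.Lib.helper7.CEC.Defs
import Cfsg.Agent.Lib.Helper24.STCI1

set_option autoImplicit false

namespace Cfsg.Agent.Lib.helper7.CEC

open Cfsg.Agent.Lib.helper15.St2 Cfsg.Agent.Lib.helper7.Ce Cfsg.Agent.Lib.helper3.STC

section T

variable {K : Type*} [Field K] {ι : Type*} {Γ G : Type*} [Group Γ] [Group G] {S : SysC K ι G}
  {σ : Γ →* G}

theorem cect10_sw {a b : ι ⊕ ι} (h : a ≠ ng b) : b ≠ ng a := by
  intro h'
  apply h
  rw [h', ng_ng]

theorem cect10_ne {a b : ι ⊕ ι} (h1 : a ≠ b) (h2 : a ≠ ng b) : ab a ≠ ab b :=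
  fun h => (ab_eq_iff.1 h).elim h1 h2

theorem cect10_ne' {a b : ι ⊕ ι} (h1 : a ≠ b) (h2 : a ≠ ng b) : ab a ≠ ab (ng b) := by
  rw [ab_ng]
  exact cect10_ne h1 h2

theorem cect10_ls (hT : HT S σ) {a c d : ι ⊕ ι} (hcd : c ≠ d) (hcd' : d ≠ ng c) (hc : c ≠ ng a)
    (hd : d ≠ a) (t u : K) : CL σ (S.x a (ng a) t) (S.x c d u) := by
  by_cases hca : c = a
  · subst hca
    exact hT.t5 c d (cect10_ne hcd (cect10_sw hcd')) t u
  · by_cases hda : d = ng a
    · subst hda
      rw [S.sym c (ng a) hcd u, ng_ng]
      exact hT.t5 a (ng c) (cect10_ne' (Ne.symm hca) (cect10_sw hc)) t _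
    · exact hT.t6 a c d (cect10_ne hcd (cect10_sw hcd')) (cect10_ne (Ne.symm hca) (cect10_sw hc))
        (cect10_ne (Ne.symm hd) (cect10_sw hda)) t u

theorem HC_of_HT (hT : HT S σ) : HC S σ := by
  intro a b c d hab hcd hbc had hbd hac t u
  have hc' : c ≠ ng a := cect10_sw hac
  by_cases hb : b = ng a
  · subst hb
    by_cases hd : d = ng c
    · subst hd
      by_cases hca : c = a
      · subst hca
        exact hT.t2 c t u
      · exact hT.t7 a c (cect10_ne (Ne.symm hca) hac) t u
    · exact cect10_ls hT hcd hd hc' (Ne.symm had) t u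
  · by_cases hd : d = ng c
    · subst hd
      exact (cect10_ls hT hab hb hac hbc u t).symm
    · have hab' : a ≠ ng b := cect10_sw hb
      have hcd' : c ≠ ng d := cect10_sw hd
      have hdb' : d ≠ ng b := cect10_sw hbd
      have sAB := cect10_ne hab hab'
      by_cases hca : c = a
      · subst hca
        by_cases hdb : d = b
        · subst hdb
          exact hT.t1 c d sAB t u
        · exact hT.t3r c b d sAB (cect10_ne hcd hcd') (cect10_ne (Ne.symm hdb) hbd) t u
      · by_cases hcb : c = ng b
        · subst hcb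
          rw [S.sym (ng b) d hcd u, ng_ng]
          have hdb : d ≠ b := fun h => hd (by rw [h, ng_ng])
          by_cases hda : d = ng a
          · subst hda
            rw [ng_ng]
            exact hT.t1 a b sAB t _
          · refine hT.t3c a b (ng d) sAB ?_ ?_ t _
            · rw [ab_ng]
              exact cect10_ne hdb hdb'
            · rw [ab_ng]
              exact cect10_ne had (cect10_sw hda)
        · have sAC := cect10_ne (Ne.symm hca) hac
          have sBC := cect10_ne hbc (cect10_sw hcb)
          by_cases hda : d = ng a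
          · subst hda
            rw [S.sym c (ng a) hcd u, ng_ng]
            refine hT.t3r a b (ng c) sAB ?_ ?_ t _
            · rw [ab_ng]; exact sAC
            · rw [ab_ng]; exact sBC
          · by_cases hdb : d = b
            · subst hdb
              exact hT.t3c a d c sAB (Ne.symm sBC) sAC t u
            · exact hT.t4 a b c d sAB (cect10_ne hcd hcd') sAC
                (cect10_ne had (cect10_sw hda)) sBC
                (cect10_ne (Ne.symm hdb) hbd) t u

end T

end Cfsg.Agent.Lib.helper7.CEC
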