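import Cfsg.Agent.Lib.helper7.CEC.Defs
import Cfsg.Agent.Lib.Helper24.STCI1
import Cfsg.Agent.Lib.Helper24.CECT10
import Cfsg.Agent.Lib.Helper22.STCF1

set_option autoImplicit false

namespace Cfsg.Agent.Lib.helper7.CEC

open Cfsg.Agent.Lib.helper15.St2 Cfsg.Agent.Lib.helper7.Ce Cfsg.Agent.Lib.helper3.STC

section Y

variable {K : Type*} [Field K] {ι : Type*} {Γ G : Type*} [Group Γ] [Group G] {S : SysC K ι G}
  {σ : Γ →* G}

theorem cecy6_cj_eq_of_CL {g y : G} (hgy : CL σ g y) {e X : Γ} (he : σ e = g) (hX : σ X = y) :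
    cj e X = X := by
  unfold cj
  rw [hgy e X he hX, mul_inv_cancel_right]

theorem cecy6_CL_w (h : IsCE σ) {c d : ι ⊕ ι} {y : G} (hcd : ∀ t, CL σ (S.x c d t) y)
    (hdc : ∀ t, CL σ (S.x d c t) y) (u : K) : CL σ (S.w c d u) y := by
  unfold SysC.w
  exact h.CL_mul_left (h.CL_mul_left (hcd u) (hdc _)) (hcd u)

theorem cecy6_Ys_map (h : IsCE σ) {a c b : ι ⊕ ι} (hac : ab a ≠ ab c) (hcb : ab c ≠ ab b)
    (hab : ab a ≠ ab b) (t u : K) : σ (Ys S h a c b t u) = S.x a b (t * u) := by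
  have h1 : a ≠ c := fun e => hac (by rw [e])
  have h2 : a ≠ ng c := fun e => hac (by rw [e, ab_ng])
  have h3 : c ≠ b := fun e => hcb (by rw [e])
  have h4 : c ≠ ng b := fun e => hcb (by rw [e, ab_ng])
  have h5 : a ≠ b := fun e => hab (by rw [e])
  have h6 : a ≠ ng b := fun e => hab (by rw [e, ab_ng])
  unfold Ys
  rw [map_cm, map_lf, map_lf]
  exact S.comm3 a c b h1 h2 h3 h4 h5 h6 t u

theorem cecy6_Ys_eq (h : IsCE σ) {a c b : ι ⊕ ι} {t u : K} {p q : Γ} (hp : σ p = S.x a c t)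
    (hq : σ q = S.x c b u) : cm p q = Ys S h a c b t u := by
  unfold Ys
  exact h.cm_congr (by rw [hp, map_lf]) (by rw [hq, map_lf])

theorem cecy6_Ys_cj (h : IsCE σ) {g : G} {π : Equiv.Perm (ι ⊕ ι)} {d : ι ⊕ ι → K}
    (hg : S.IsMon g π d) {e : Γ} (he : σ e = g) {a c b : ι ⊕ ι} (hac : a ≠ c) (hcb : c ≠ b)
    (t u : K) :
    cj e (Ys S h a c b t u) =
      Ys S h (π a) (π c) (π b) (d a * (d c)⁻¹ * t) (d c * (d b)⁻¹ * u) := by
  unfold Ys
  rw [cj_cm]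
  refine cecy6_Ys_eq h ?_ ?_
  · rw [map_cj, he, map_lf]
    exact hg.2 a c hac t
  · rw [map_cj, he, map_lf]
    exact hg.2 c b hcb u

theorem Ys_flip [DecidableEq ι] (h : IsCE σ) (hC : HC S σ) (hW : S.HW) (hB : PB S h)
    {a c b : ι ⊕ ι} (hac : ab a ≠ ab c) (hcb : ab c ≠ ab b)
    (hab : ab a ≠ ab b) (t : K) : Ys S h a c b t 1 = Ys S h a (ng c) b t 1 := by
  have h1 : a ≠ c := fun e => hac (by rw [e])
  have h2 : a ≠ ng c := fun e => hac (by rw [e, ab_ng])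
  have h3 : c ≠ b := fun e => hcb (by rw [e])
  have h4 : c ≠ ng b := fun e => hcb (by rw [e, ab_ng])
  have h5 : a ≠ b := fun e => hab (by rw [e])
  have h3' : b ≠ c := Ne.symm h3
  have h4' : b ≠ ng c := cect10_sw h4
  have h2' : c ≠ ng a := cect10_sw h2
  have hmon := SysC.HW.long S hW c (1 : K) one_ne_zero
  set e : Γ := lf h (S.w c (ng c) 1) with he
  have hσe : σ e = S.w c (ng c) 1 := map_lf h _
  have hy : σ (Ys S h a c b t 1) = S.x a b (t * 1) := cecy6_Ys_map h hac hcb hab t 1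
  have hCL : CL σ (S.w c (ng c) 1) (S.x a b (t * 1)) := by
    apply cecy6_CL_w h
    · intro s
      exact hC c (ng c) a b (ne_ng c) h5 (Ne.symm h2) h3 (fun e => h3 (ng_inj.1 e)) h2' s _
    · intro s
      refine hC (ng c) c a b (ng_ne c) h5 (Ne.symm h1) (Ne.symm h4') h4 ?_ s _
      intro e
      exact h1 (ng_inj.1 e).symm
  have e1 : cj e (Ys S h a c b t 1) = Ys S h a c b t 1 := cecy6_cj_eq_of_CL hCL hσe hy
  have e2 := cecy6_Ys_cj h hmon hσe h1 h3 t (1 : K)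
  rw [e1, Equiv.swap_apply_of_ne_of_ne h1 h2, Equiv.swap_apply_left,
    Equiv.swap_apply_of_ne_of_ne h3' h4'] at e2
  have da : dwl c (1 : K) a = 1 := by
    unfold dwl
    rw [if_neg h1, if_neg h2]
  have dc : dwl c (1 : K) c = -(1 : K)⁻¹ := by
    unfold dwl
    rw [if_pos rfl]
  have db : dwl c (1 : K) b = 1 := by
    unfold dwl
    rw [if_neg h3', if_neg h4']
  rw [da, dc, db] at e2
  have hac' : ab a ≠ ab (ng c) := by rw [ab_ng]; exact hac
  have hcb' : ab (ng c) ≠ ab b := by rw [ab_ng]; exact hcb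
  rw [e2, hB a (ng c) b hac' hcb' hab]
  congr 1
  simp

end Y

end Cfsg.Agent.Lib.helper7.CEC
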