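import Cfsg.Agent.Lib.Helper24.CECY6

set_option autoImplicit false

namespace Cfsg.Agent.Lib.helper7.CEC

open Cfsg.Agent.Lib.helper15.St2 Cfsg.Agent.Lib.helper7.Ce Cfsg.Agent.Lib.helper3.STC

section Y

variable {K : Type*} [Field K] {ι : Type*} {Γ G : Type*} [Group Γ] [Group G] {S : SysC K ι G}
  {σ : Γ →* G}

theorem Ys_I_three [DecidableEq ι] (h : IsCE σ) (hC : HC S σ) (hW : S.HW) (u3 : U3 ι)
    (hB : PB S h) : PI S h := by
  intro a c c' b hac hcb hac' hcb' hab t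
  have hcc : ab c = ab c' := u3 a b c c' hab (Ne.symm hac) hcb (Ne.symm hac') hcb'
  rcases ab_eq_iff.1 hcc with e | e
  · rw [e]
  · rw [e]
    exact (Ys_flip h hC hW hB hac' hcb' hab t).symm

end Y

end Cfsg.Agent.Lib.helper7.CEC
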