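import Mathlib
import Cfsg.Agent.Lib.Lead.Co2Inv.Defs
import Cfsg.Agent.Lib.Helper12.Golay.OctadStab
import Cfsg.Agent.Lib.Helper12.Golay.Flags2
import Cfsg.Agent.Lib.Helper12.Golay.DStab

set_option autoImplicit false

namespace Cfsg.Agent.Lib.Helper24.CI

open Cfsg Cfsg.Agent.Lib.Lead.CI Cfsg.Agent.Lib.Helper12.Golay
open scoped Pointwise

def mO : ℕ := 12656663

theorem inO_iff (p : GolayPt) : inO p ↔ p ∈ fs mO := by
  rw [mem_fs]
  revert p
  decide

theorem fs_mO_mem : fs mO ∈ octads := by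
  rw [fs_mem_octads_iff (by decide)]
  decide +kernel

theorem none_mem : (none : GolayPt) ∈ fs mO := (inO_iff _).mp (by decide)

theorem zero_mem : (some 0 : GolayPt) ∈ fs mO := (inO_iff _).mp (by decide)

theorem none_ne_zero : (none : GolayPt) ≠ some 0 := by decide

theorem orbit_sub :
    (((fs mO).offDiag : Finset (GolayPt × GolayPt)) : Set (GolayPt × GolayPt)) ⊆
      MulAction.orbit (octStab (fs mO)) ((none, some 0) : GolayPt × GolayPt) := by
  intro a ha
  rw [Finset.mem_coe, Finset.mem_offDiag] at ha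
  obtain ⟨hp, hq, hpq⟩ := ha
  obtain ⟨k1, hk1⟩ := flag_in_in (fs mO) fs_mO_mem none (some 0) none_mem zero_mem none_ne_zero
  obtain ⟨k2, hk2⟩ := flag_in_in (fs mO) fs_mO_mem a.1 a.2 hp hq hpq
  have hκ : (k2 * k1⁻¹) • ((((fs mO, none), some 0)) : (Finset GolayPt × GolayPt) × GolayPt) =
      ((fs mO, a.1), a.2) := by
    rw [mul_smul, ← hk1, inv_smul_smul, hk2]
  rw [smul_flag2] at hκ
  simp only [Prod.mk.injEq] at hκ
  obtain ⟨⟨h1, h2⟩, h3⟩ := hκ
  refine ⟨⟨((k2 * k1⁻¹ : M24) : Equiv.Perm GolayPt), (k2 * k1⁻¹ : M24).2, ?_⟩, ?_⟩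
  · exact MulAction.mem_stabilizer_iff.mpr h1
  · exact Prod.ext h2 h3

theorem card_offDiag : ((fs mO).offDiag).card = 56 := by
  rw [Finset.offDiag_card, fs_mO_mem.2]

theorem orbit_ncard_ge :
    56 ≤ (MulAction.orbit (octStab (fs mO)) ((none, some 0) : GolayPt × GolayPt)).ncard := by
  have h := Set.ncard_le_ncard orbit_sub (Set.toFinite _)
  rw [Set.ncard_coe_finset, card_offDiag] at h
  exact h

theorem card_stab_le :
    Nat.card ↥(octStab (fs mO) ⊓
      MulAction.stabilizer (Equiv.Perm GolayPt) ((none, some 0) : GolayPt × GolayPt)) ≤ 5760 := by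
  have h := card_inf_stabilizer_mul (octStab (fs mO)) ((none, some 0) : GolayPt × GolayPt)
  rw [card_octStab (fs mO) fs_mO_mem] at h
  have h2 := orbit_ncard_ge
  by_contra hcon
  push Not at hcon
  have : 5761 * 56 ≤ Nat.card ↥(octStab (fs mO) ⊓
      MulAction.stabilizer (Equiv.Perm GolayPt) ((none, some 0) : GolayPt × GolayPt)) *
      (MulAction.orbit (octStab (fs mO)) ((none, some 0) : GolayPt × GolayPt)).ncard :=
    Nat.mul_le_mul hcon h2
  omega

theorem mem_stab_of_maps (g : Equiv.Perm GolayPt) (h : ∀ p, inO p → inO (g p)) :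
    g ∈ MulAction.stabilizer (Equiv.Perm GolayPt) (fs mO) := by
  rw [MulAction.mem_stabilizer_iff]
  apply Finset.eq_of_subset_of_card_le
  · intro y hy
    rw [Finset.mem_smul_finset] at hy
    obtain ⟨x, hx, rfl⟩ := hy
    exact (inO_iff _).mp (h x ((inO_iff _).mpr hx))
  · rw [Finset.card_smul_finset]

theorem p4b2 : {π : ↥M24 | π.1 none = none ∧ π.1 (some 0) = some 0 ∧
    ∀ p, inO p → inO (π.1 p)}.ncard ≤ 5760 := by
  have hinj : Function.Injective (fun π : ↥M24 => (π.1 : Equiv.Perm GolayPt)) :=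
    Subtype.val_injective
  rw [← Set.ncard_image_of_injective _ hinj]
  have hsub : (fun π : ↥M24 => (π.1 : Equiv.Perm GolayPt)) '' {π : ↥M24 | π.1 none = none ∧
      π.1 (some 0) = some 0 ∧ ∀ p, inO p → inO (π.1 p)} ⊆
      ((octStab (fs mO) ⊓
      MulAction.stabilizer (Equiv.Perm GolayPt) ((none, some 0) : GolayPt × GolayPt) :
        Subgroup (Equiv.Perm GolayPt)) : Set (Equiv.Perm GolayPt)) := by
    rintro g ⟨π, ⟨h1, h2, h3⟩, rfl⟩
    rw [SetLike.mem_coe]
    refine Subgroup.mem_inf.mpr ⟨⟨π.2, mem_stab_of_maps π.1 h3⟩, ?_⟩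
    exact MulAction.mem_stabilizer_iff.mpr (Prod.ext h1 h2)
  refine le_trans (Set.ncard_le_ncard hsub (Set.toFinite _)) ?_
  rw [← Nat.card_coe_set_eq]
  exact card_stab_le

end Cfsg.Agent.Lib.Helper24.CI
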