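import Cfsg.Agent.Lib.Helper24.CTEXACTcore
import Cfsg.Agent.Lib.Helper20.CTPI
import Cfsg.Agent.Lib.Helper20.CTSTF

set_option autoImplicit false
set_option linter.unusedVariables false

namespace Cfsg.Agent.Lib.helper14.CT

open Cfsg.Lie Cfsg.Lie.ChevalleyDatum Cfsg.Agent.Lib.helper8

universe u

variable {D : ChevalleyDatum} {K : Type u} [Field K]

theorem exact_conj (hD : D ∈ [chevD4, chevF4, chevE6, chevE7, chevE8])
    (π : D.CurtisTitsGroup K →* D.SteinbergGroup K)
    (hπ : ∀ (r : ℕ) (t : K), InR2 D r → π (xh D K r t) = D.stGen K r t)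
    (X' : ℕ → K → D.CurtisTitsGroup K)
    (hb : ∀ r < D.nroots, ∀ t : K, π (X' r t) = D.stGen K r t)
    (hc : ∀ i < D.rank, ∀ r < D.nroots,
      H8ActX X' (h8nS D (xh D K) (D.simple i) 1) r (D.reflectRoot i r))
    (i : ℕ) (hi : i < D.rank) (eta : List ℤ) (hN : h8nChk D i eta = true)
    (hE : h8etaChk D i eta = true) (hRc : h8reflChk D i eta = true) (r : ℕ) (hr : r < D.nroots)
    (t : K) :
    h8nS D (xh D K) (D.simple i) 1 * X' r t * (h8nS D (xh D K) (D.simple i) 1)⁻¹ =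
      X' (D.reflectRoot i r) (((eta.getD r 0 : ℤ) : K) * t) :=
  ctexact_core hD π (fun s hs t t' h => st_inj_t hD s hs t t' h) X' hb i hi (pi_nS hD π hπ i hi 1)
    _ r hr (hc i hi r hr) (fun t => st_n_exact hD i hi eta hN hE hRc r hr t) t

end Cfsg.Agent.Lib.helper14.CT
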