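import Mathlib
import Cfsg.Prelude.Def_OddOrderLocal

set_option autoImplicit false

namespace Cfsg.Agent.Lib.Helper24.CTI

variable {G : Type*} [Group G]

def IsCTI (G : Type*) [Group G] : Prop :=
  ∀ x : G, Cfsg.IsTISubset (Subgroup.centralizer ({x} : Set G) : Set G)

theorem mem_cent {x y : G} : y ∈ Subgroup.centralizer ({x} : Set G) ↔ x * y = y * x := by
  rw [Subgroup.mem_centralizer_iff]
  constructor
  · intro h
    exact h x rfl
  · intro h z hz
    rw [Set.mem_singleton_iff] at hz
    rw [hz]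
    exact h

theorem mem_normalizer_of_ti (h : IsCTI G) {x y g : G} (hy : x * y = y * x) (hy1 : y ≠ 1)
    (hg : x * (g * y * g⁻¹) = (g * y * g⁻¹) * x) :
    g ∈ Subgroup.normalizer (Subgroup.centralizer ({x} : Set G) : Set G) := by
  by_contra hn
  exact hy1 (h x g hn y (mem_cent.2 hy) (mem_cent.2 hg))

theorem conj_comm_of_mem_normalizer {x g : G}
    (hg : g ∈ Subgroup.normalizer (Subgroup.centralizer ({x} : Set G) : Set G)) {y : G}
    (hy : x * y = y * x) : x * (g * y * g⁻¹) = (g * y * g⁻¹) * x := by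
  rw [Subgroup.mem_set_normalizer_iff] at hg
  have := (hg y).1 (mem_cent.2 hy)
  exact mem_cent.1 this

theorem conj_comm (h : IsCTI G) {x z g : G} (hz1 : z ≠ 1) (hz : x * z = z * x)
    (hz' : x * (g * z * g⁻¹) = (g * z * g⁻¹) * x) {y : G} (hy : x * y = y * x) :
    x * (g * y * g⁻¹) = (g * y * g⁻¹) * x :=
  conj_comm_of_mem_normalizer (mem_normalizer_of_ti h hz hz1 hz') hy

theorem conj_self_comm (h : IsCTI G) {x z g : G} (hz1 : z ≠ 1) (hz : x * z = z * x)
    (hz' : x * (g * z * g⁻¹) = (g * z * g⁻¹) * x) :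
    x * (g * x * g⁻¹) = (g * x * g⁻¹) * x :=
  conj_comm h hz1 hz hz' rfl

theorem IsCTI.of_injective {K : Type*} [Group K] (h : IsCTI G) (f : K →* G)
    (hf : Function.Injective f) : IsCTI K := by
  intro x g hn y hy hgy
  by_contra hy1
  apply hn
  have hy' : f x * f y = f y * f x := by
    rw [← map_mul, ← map_mul, mem_cent.1 hy]
  have hfy1 : f y ≠ 1 := by
    intro h1
    apply hy1
    apply hf
    rw [h1, map_one]
  have hgy' : f x * (f g * f y * (f g)⁻¹) = (f g * f y * (f g)⁻¹) * f x := by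
    have := mem_cent.1 hgy
    have h2 := congrArg f this
    simpa [map_mul, map_inv] using h2
  have hN := mem_normalizer_of_ti h hy' hfy1 hgy'
  rw [Subgroup.mem_set_normalizer_iff]
  intro w
  rw [SetLike.mem_coe, SetLike.mem_coe, mem_cent, mem_cent]
  constructor
  · intro hw
    have hw' : f x * f w = f w * f x := by rw [← map_mul, ← map_mul, hw]
    have h3 := conj_comm_of_mem_normalizer hN hw'
    apply hf
    simpa [map_mul, map_inv] using h3
  · intro hw
    have hw' : f x * (f g * f w * (f g)⁻¹) = (f g * f w * (f g)⁻¹) * f x := by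
      have h2 := congrArg f hw
      simpa [map_mul, map_inv] using h2
    rw [Subgroup.mem_set_normalizer_iff] at hN
    have h3 := (hN (f w)).2 (mem_cent.2 hw')
    have h4 := mem_cent.1 h3
    apply hf
    rw [map_mul, map_mul, h4]

theorem IsCTI.subgroup (h : IsCTI G) (K : Subgroup G) : IsCTI K :=
  h.of_injective K.subtype K.subtype_injective

theorem IsCTI.of_mulEquiv {K : Type*} [Group K] (h : IsCTI G) (e : K ≃* G) : IsCTI K :=
  h.of_injective e.toMonoidHom e.injective

theorem commute_conj_of_central (h : IsCTI G) {z : G} (hz1 : z ≠ 1) (hz : ∀ g : G, z * g = g * z)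
    (x g : G) : x * (g * x * g⁻¹) = (g * x * g⁻¹) * x := by
  apply conj_self_comm h hz1 (hz x).symm
  have : g * z * g⁻¹ = z := by
    rw [← hz g, mul_inv_cancel_right]
  rw [this]
  exact (hz x).symm

theorem normalClosure_comm_of_conj_comm (hE : ∀ x g : G, x * (g * x * g⁻¹) = (g * x * g⁻¹) * x)
    (y : G) : ∀ a ∈ Subgroup.normalClosure ({y} : Set G), ∀ b ∈ Subgroup.normalClosure ({y} : Set G),
      a * b = b * a := by
  have hS : ∀ a ∈ Group.conjugatesOfSet ({y} : Set G), ∀ b ∈ Group.conjugatesOfSet ({y} : Set G),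
      a * b = b * a := by
    intro a ha b hb
    rw [Group.mem_conjugatesOfSet_iff] at ha hb
    obtain ⟨y1, hy1, hc1⟩ := ha
    obtain ⟨y2, hy2, hc2⟩ := hb
    rw [Set.mem_singleton_iff] at hy1 hy2
    rw [hy1, isConj_iff] at hc1
    rw [hy2, isConj_iff] at hc2
    obtain ⟨c1, hc1⟩ := hc1
    obtain ⟨c2, hc2⟩ := hc2
    rw [← hc1, ← hc2]
    have key := hE y (c1⁻¹ * c2)
    calc c1 * y * c1⁻¹ * (c2 * y * c2⁻¹)
        = c1 * (y * ((c1⁻¹ * c2) * y * (c1⁻¹ * c2)⁻¹)) * c1⁻¹ := by group
      _ = c1 * (((c1⁻¹ * c2) * y * (c1⁻¹ * c2)⁻¹) * y) * c1⁻¹ := by rw [key]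
      _ = c2 * y * c2⁻¹ * (c1 * y * c1⁻¹) := by group
  intro a ha b hb
  have hcomm := Subgroup.isMulCommutative_closure hS
  have := hcomm.is_comm.comm ⟨a, ha⟩ ⟨b, hb⟩
  exact congrArg Subtype.val this

theorem isNilpotent_of_conj_comm [Finite G]
    (hE : ∀ x g : G, x * (g * x * g⁻¹) = (g * x * g⁻¹) * x) : Group.IsNilpotent G := by
  apply (Group.isNilpotent_of_finite_tfae.out 0 3 rfl rfl).mpr
  intro p hp P
  constructor
  intro y hy g
  have hcomm := normalClosure_comm_of_conj_comm hE y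
  obtain ⟨k, hk⟩ := P.isPGroup' ⟨y, hy⟩
  have hyk : y ^ p ^ k = 1 := by
    have := congrArg Subtype.val hk
    simpa using this
  have hpow : ∀ a ∈ Subgroup.normalClosure ({y} : Set G), a ^ p ^ k = 1 := by
    intro a ha
    induction ha using Subgroup.closure_induction with
    | mem a ha =>
      rw [Group.mem_conjugatesOfSet_iff] at ha
      obtain ⟨y1, hy1, hc1⟩ := ha
      rw [Set.mem_singleton_iff] at hy1
      rw [hy1, isConj_iff] at hc1
      obtain ⟨c1, hc1⟩ := hc1
      rw [← hc1, conj_pow, hyk]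
      group
    | one => exact one_pow _
    | mul a b ha hb iha ihb =>
      have hab : Commute a b := hcomm a ha b hb
      rw [hab.mul_pow, iha, ihb, one_mul]
    | inv a ha iha => rw [inv_pow, iha, inv_one]
  have hA : IsPGroup p (Subgroup.normalClosure ({y} : Set G)) := by
    rintro ⟨a, ha⟩
    refine ⟨k, ?_⟩
    apply Subtype.ext
    simpa using hpow a ha
  have hle := hA.le_sylow_of_normal P
  apply hle
  exact Subgroup.normalClosure_normal.conj_mem y (Subgroup.subset_normalClosure (Set.mem_singleton y)) g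

theorem isNilpotent_of_central [Finite G] (h : IsCTI G) {z : G} (hz1 : z ≠ 1)
    (hz : ∀ g : G, z * g = g * z) : Group.IsNilpotent G :=
  isNilpotent_of_conj_comm (commute_conj_of_central h hz1 hz)

theorem isNilpotent_centralizer [Finite G] (h : IsCTI G) {x : G} (hx : x ≠ 1) :
    Group.IsNilpotent (Subgroup.centralizer ({x} : Set G)) := by
  have hx' : x ∈ Subgroup.centralizer ({x} : Set G) := mem_cent.2 rfl
  apply isNilpotent_of_central (h.subgroup _) (z := ⟨x, hx'⟩)
  · intro h1
    exact hx (congrArg Subtype.val h1)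
  · rintro ⟨g, hg⟩
    apply Subtype.ext
    exact mem_cent.1 hg

end Cfsg.Agent.Lib.Helper24.CTI
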