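import Mathlib
import Cfsg.Agent.Lib.helper6.CTa

set_option autoImplicit false

namespace Cfsg.Agent.Lib.Helper24.CTI

open Cfsg.Agent.Lib.helper6.CT

variable {G : Type*} [Group G]

structure CTIData (G : Type*) [Group G] (A N : Subgroup G) : Prop where
  cent : ∀ a ∈ A, a ≠ 1 → ∀ x : G, x * a = a * x → x ∈ A
  le : A ≤ N
  norm : ∀ n ∈ N, ∀ a ∈ A, n * a * n⁻¹ ∈ A
  ti : ∀ g : G, g ∉ N → ∀ a ∈ A, g * a * g⁻¹ ∈ A → a = 1
  invN : ∀ u ∈ N, u * u = 1 → u ∈ A
  invConj : ∀ u : G, u * u = 1 → ∃ g : G, g⁻¹ * u * g ∈ A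
  invol : ∃ t ∈ A, t ≠ 1 ∧ t * t = 1
  lt : ∃ n ∈ N, n ∉ A
  ne_top : ∃ g : G, g ∉ N

theorem invol_dichotomy [Finite G] {u v : G} (hu : u * u = 1) (hv : v * v = 1) :
    (∃ s : G, s * s = 1 ∧ s * u * s⁻¹ = v) ∨
      ∃ w : G, w ≠ 1 ∧ w * w = 1 ∧ w * u = u * w ∧ w * v = v * w := by
  have hui : u⁻¹ = u := inv_eq_of_sq hu
  have hvi : v⁻¹ = v := inv_eq_of_sq hv
  set y := u * v with hy
  have hyi : y⁻¹ = v * u := by rw [hy, mul_inv_rev, hui, hvi]
  have hyu : u * y * u⁻¹ = y⁻¹ := by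
    rw [hyi, hy, hui]
    calc u * (u * v) * u = (u * u) * v * u := by group
      _ = v * u := by rw [hu, one_mul]
  have hyv : v * y * v⁻¹ = y⁻¹ := by
    rw [hyi, hy, hvi]
    calc v * (u * v) * v = v * u * (v * v) := by group
      _ = v * u := by rw [hv, mul_one]
  have hyuk : ∀ k : ℕ, u * y ^ k * u⁻¹ = (y ^ k)⁻¹ := by
    intro k
    rw [← conj_pow, hyu, inv_pow]
  have hyvk : ∀ k : ℕ, v * y ^ k * v⁻¹ = (y ^ k)⁻¹ := by
    intro k
    rw [← conj_pow, hyv, inv_pow]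
  have hm : 0 < orderOf y := orderOf_pos y
  rcases Nat.even_or_odd' (orderOf y) with ⟨k, hk | hk⟩
  · right
    have hk0 : k ≠ 0 := by omega
    have hklt : k < orderOf y := by omega
    have hz1 : y ^ k ≠ 1 := pow_ne_one_of_lt_orderOf hk0 hklt
    have hzz : y ^ k * y ^ k = 1 := by
      rw [← pow_add, ← two_mul, ← hk, pow_orderOf_eq_one]
    have hzi : (y ^ k)⁻¹ = y ^ k := inv_eq_of_sq hzz
    have h1 : y ^ k * u = u * y ^ k := by
      have := hyuk k
      rw [hzi] at this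
      calc y ^ k * u = (u * y ^ k * u⁻¹) * u := by rw [this]
        _ = u * y ^ k := by group
    have h2 : y ^ k * v = v * y ^ k := by
      have := hyvk k
      rw [hzi] at this
      calc y ^ k * v = (v * y ^ k * v⁻¹) * v := by rw [this]
        _ = v * y ^ k := by group
    exact ⟨y ^ k, hz1, hzz, h1, h2⟩
  · left
    have hy2k : y ^ (2 * k) = y⁻¹ := by
      have : y ^ (2 * k) * y = 1 := by
        rw [← pow_succ, ← hk, pow_orderOf_eq_one]
      exact eq_inv_of_mul_eq_one_left this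
    have hss : (y ^ k * u) * (y ^ k * u) = 1 := by
      have := hyuk k
      rw [hui] at this
      calc (y ^ k * u) * (y ^ k * u) = y ^ k * (u * y ^ k * u) := by group
        _ = 1 := by rw [this, mul_inv_cancel]
    refine ⟨y ^ k * u, hss, ?_⟩
    rw [inv_eq_of_sq hss]
    calc y ^ k * u * u * (y ^ k * u) = y ^ k * (u * u) * y ^ k * u := by group
      _ = y ^ (2 * k) * u := by rw [hu, mul_one, ← pow_add, two_mul]
      _ = v := by rw [hy2k, hyi]; calc v * u * u = v * (u * u) := by group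
                                    _ = v := by rw [hu, mul_one]

end Cfsg.Agent.Lib.Helper24.CTI
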