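import Mathlib
import Cfsg.Agent.Lib.Helper24.CTIBasic
import Cfsg.Agent.Lib.Helper24.CTIData
import Cfsg.Agent.Lib.Helper11.CNConj
import Cfsg.Agent.Lib.Helper1.CFitting
import Cfsg.Agent.Lib.Helper1.Fitting
import Cfsg.Agent.S0183
import Cfsg.Agent.S0035

set_option autoImplicit false

namespace Cfsg.Agent.Lib.Helper24.CTI

open Cfsg.Agent.Lib.helper6.CT
open Cfsg.Agent.Lib.Helper11

variable {G : Type*} [Group G]

theorem even_card_of_fitting_bot [Finite G] [Nontrivial G] (h : IsCTI G)
    (hF : Cfsg.fittingSubgroup G = ⊥) : 2 ∣ Nat.card G := by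
  by_contra hodd
  have hodd' : Odd (Nat.card G) := by
    rw [← Nat.not_even_iff_odd, even_iff_two_dvd]
    exact hodd
  have hcn : Cfsg.IsCNGroup G := fun g hg => isNilpotent_centralizer h hg
  haveI : Group.IsSolvable G := Cfsg.Agent.S0183.result hodd' hcn
  have h1 := Cfsg.Agent.Lib.Helper1.centralizer_fittingSubgroup_le (G := G)
  rw [hF] at h1
  obtain ⟨g, hg⟩ := exists_ne (1 : G)
  apply hg
  have h2 : g ∈ Subgroup.centralizer ((⊥ : Subgroup G) : Set G) := by
    rw [Subgroup.mem_centralizer_iff]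
    intro y hy
    have h3 : y = 1 := hy
    rw [h3]
    simp
  exact Subgroup.mem_bot.1 (h1 h2)

theorem isNilpotent_of_comm (K : Subgroup G) (hK : ∀ a ∈ K, ∀ b ∈ K, a * b = b * a) :
    Group.IsNilpotent K := by
  refine ⟨⟨1, ?_⟩⟩
  rw [Subgroup.upperCentralSeries_one_eq_top_iff]
  exact ⟨⟨fun a b => Subtype.ext (hK a a.2 b b.2)⟩⟩

theorem comm_of_inverts (K : Subgroup G) {s : G} (hinv : ∀ d ∈ K, s * d * s⁻¹ = d⁻¹) :
    ∀ a ∈ K, ∀ b ∈ K, a * b = b * a := by
  intro a ha b hb
  have h1 := hinv (a * b) (K.mul_mem ha hb)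
  have h2 : s * (a * b) * s⁻¹ = (s * a * s⁻¹) * (s * b * s⁻¹) := by group
  rw [h2, hinv a ha, hinv b hb, mul_inv_rev] at h1
  have h3 : (a⁻¹ * b⁻¹)⁻¹ = (b⁻¹ * a⁻¹)⁻¹ := by rw [h1]
  simpa using h3.symm

theorem exists_ctidata [Finite G] [Nontrivial G] (h : IsCTI G)
    (hF : Cfsg.fittingSubgroup G = ⊥) :
    ∃ A N : Subgroup G, CTIData G A N ∧ Group.IsNilpotent A := by
  haveI : Fact (Nat.Prime 2) := ⟨Nat.prime_two⟩
  have hcn : ∀ g : G, g ≠ 1 → Group.IsNilpotent (Subgroup.centralizer ({g} : Set G)) :=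
    fun g hg => isNilpotent_centralizer h hg
  have heven := even_card_of_fitting_bot h hF
  obtain ⟨t, ht⟩ := exists_prime_orderOf_dvd_card' (G := G) 2 heven
  have ht1 : t ≠ 1 := by
    intro h1
    rw [h1, orderOf_one] at ht
    omega
  have htt : t * t = 1 := by
    have := pow_orderOf_eq_one t
    rwa [ht, pow_two] at this
  obtain ⟨A, hCA, hM⟩ := exists_maxNilp_ge hcn _ (hcn t ht1)
  have htA : t ∈ A := hCA (mem_cent.2 rfl)
  have h2A : 2 ∣ Nat.card A := by
    have h1 : orderOf (⟨t, htA⟩ : A) = 2 := by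
      rw [← ht]
      exact Subgroup.orderOf_mk t htA
    rw [← h1]
    exact orderOf_dvd_natCard _
  obtain ⟨u, huA, hu1, -, -, hCu⟩ := hM.exists_central 2 h2A
  set N : Subgroup G := Subgroup.normalizer (A : Set G) with hNdef
  have hti : ∀ g : G, g ∉ N → ∀ a ∈ A, g * a * g⁻¹ ∈ A → a = 1 := by
    have := h u
    rw [hCu] at this
    exact this
  have hnorm : ∀ n ∈ N, ∀ a ∈ A, n * a * n⁻¹ ∈ A := by
    intro n hn a ha
    exact ((Subgroup.mem_set_normalizer_iff).1 hn a).1 ha
  have hTI' : ∀ g : G, A.map (MulAut.conj g).toMonoidHom ≠ A →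
      A ⊓ A.map (MulAut.conj g).toMonoidHom = ⊥ := by
    intro g hg
    have hgN : g ∉ N := by
      intro hgN
      apply hg
      apply le_antisymm
      · rintro y ⟨x, hx, rfl⟩
        exact hnorm g hgN x hx
      · intro y hy
        refine ⟨g⁻¹ * y * g, ?_, ?_⟩
        · have := hnorm g⁻¹ (N.inv_mem hgN) y hy
          rwa [inv_inv] at this
        · simp only [MulEquiv.coe_toMonoidHom, MulAut.conj_apply]
          group
    rw [eq_bot_iff]
    intro y hy
    obtain ⟨hy1, x, hx, hxy⟩ := Subgroup.mem_inf.1 hy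
    simp only [MulEquiv.coe_toMonoidHom, MulAut.conj_apply] at hxy
    rw [Subgroup.mem_bot, ← hxy]
    have hx1 : x = 1 := hti g hgN x hx (by rw [hxy]; exact hy1)
    rw [hx1]
    group
  have hcent : ∀ a ∈ A, a ≠ 1 → ∀ x : G, x * a = a * x → x ∈ A := by
    intro a ha ha1 x hx
    exact hM.centralizer_le_of_ti hTI' a ha ha1 (mem_cent.2 hx.symm)
  obtain ⟨S, hSA⟩ := hM.exists_sylow_le 2 h2A
  have hoddidx : ¬ 2 ∣ A.relIndex N := by
    intro h'
    have h1 : A.relIndex N ∣ A.index := Subgroup.relIndex_dvd_index_of_le Subgroup.le_normalizer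
    have h2 : A.index ∣ (S : Subgroup G).index := Subgroup.index_dvd_of_le hSA
    exact S.not_dvd_index (h'.trans (h1.trans h2))
  have hne_top : ∃ g : G, g ∉ N := by
    by_contra hcon
    push Not at hcon
    have hNtop : N = ⊤ := by
      rw [eq_top_iff]
      intro g _
      exact hcon g
    have hnormal : A.Normal := Subgroup.normalizer_eq_top_iff.1 hNtop
    have hle := Cfsg.Agent.Lib.Helper1.le_fittingSubgroup hnormal hM.nil
    rw [hF] at hle
    exact ht1 (Subgroup.mem_bot.1 (hle htA))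
  refine ⟨A, N, ?_, hM.nil⟩
  refine
    { cent := hcent
      le := Subgroup.le_normalizer
      norm := hnorm
      ti := hti
      invN := ?_
      invConj := ?_
      invol := ⟨t, htA, ht1, htt⟩
      lt := ?_
      ne_top := hne_top }
  · intro u hu huu
    haveI : (A.subgroupOf N).Normal := Subgroup.normal_in_normalizer
    let q : N →* N ⧸ A.subgroupOf N := QuotientGroup.mk' _
    have h1 : q ⟨u, hu⟩ ^ 2 = 1 := by
      rw [← map_pow]
      have : (⟨u, hu⟩ : N) ^ 2 = 1 := by
        apply Subtype.ext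
        rw [pow_two]
        exact huu
      rw [this, map_one]
    have h2 : orderOf (q ⟨u, hu⟩) ∣ 2 := orderOf_dvd_of_pow_eq_one h1
    have h3 : orderOf (q ⟨u, hu⟩) ∣ Nat.card (N ⧸ A.subgroupOf N) := orderOf_dvd_natCard _
    have h4 : Nat.card (N ⧸ A.subgroupOf N) = A.relIndex N := rfl
    rw [h4] at h3
    have h5 : orderOf (q ⟨u, hu⟩) = 1 := by
      rcases (Nat.dvd_prime Nat.prime_two).1 h2 with h' | h'
      · exact h'
      · exfalso
        rw [h'] at h3
        exact hoddidx h3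
    have h6 : q ⟨u, hu⟩ = 1 := orderOf_eq_one_iff.1 h5
    have h7 : (⟨u, hu⟩ : N) ∈ A.subgroupOf N := (QuotientGroup.eq_one_iff _).1 h6
    exact Subgroup.mem_subgroupOf.1 h7
  · intro u huu
    by_cases hu1 : u = 1
    · refine ⟨1, ?_⟩
      rw [hu1]
      simp
    have hord : orderOf u = 2 := orderOf_eq_prime (by rw [pow_two]; exact huu) hu1
    have hpg : IsPGroup 2 (Subgroup.zpowers u) := by
      apply IsPGroup.of_card (n := 1)
      rw [Nat.card_zpowers, hord, pow_one]
    obtain ⟨T, hT⟩ := hpg.exists_le_sylow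
    obtain ⟨g, hg⟩ := MulAction.exists_smul_eq G S T
    have huT : u ∈ (T : Subgroup G) := hT (Subgroup.mem_zpowers u)
    rw [← hg, Sylow.smul_def, Sylow.pointwise_smul_def,
      Subgroup.mem_pointwise_smul_iff_inv_smul_mem] at huT
    refine ⟨g, hSA ?_⟩
    have : (MulAut.conj g)⁻¹ • u = g⁻¹ * u * g := by
      rw [MulAut.smul_def, MulAut.conj_inv_apply]
    rwa [this] at huT
  · by_contra hcon
    push Not at hcon
    have hNA : N = A := le_antisymm hcon Subgroup.le_normalizer
    have hAbot : A ≠ ⊥ := by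
      intro hb
      rw [hb] at htA
      exact ht1 (Subgroup.mem_bot.1 htA)
    have hAtop : A ≠ ⊤ := by
      intro htop
      obtain ⟨g, hg⟩ := hne_top
      apply hg
      rw [hNA, htop]
      trivial
    have hfrob : Cfsg.IsFrobeniusComplement A := by
      refine ⟨hAbot, hAtop, ?_⟩
      intro g hg
      rw [eq_bot_iff]
      intro y hy
      obtain ⟨hy1, hy2⟩ := Subgroup.mem_inf.1 hy
      rw [Subgroup.mem_pointwise_smul_iff_inv_smul_mem] at hy2
      have hy3 : g⁻¹ * y * g ∈ A := by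
        have : (MulAut.conj g)⁻¹ • y = g⁻¹ * y * g := by
          rw [MulAut.smul_def, MulAut.conj_inv_apply]
        rwa [this] at hy2
      rw [Subgroup.mem_bot]
      have hgN : g ∉ N := by rw [hNA]; exact hg
      have h1 := hti g hgN (g⁻¹ * y * g) hy3 (by
        have : g * (g⁻¹ * y * g) * g⁻¹ = y := by group
        rw [this]
        exact hy1)
      calc y = g * (g⁻¹ * y * g) * g⁻¹ := by group
        _ = 1 := by rw [h1]; group
    obtain ⟨K, hK, hKn, hKc⟩ := Cfsg.Agent.S0035.result A hfrob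
    have hdisj : ∀ x ∈ K, x ∈ A → x = 1 := by
      intro x hxK hxA
      have := hKc.disjoint
      rw [Subgroup.disjoint_def] at this
      exact this hxK hxA
    have hinv : ∀ d ∈ K, t * d * t⁻¹ = d⁻¹ := by
      apply inverts_of_fpf K htt
      · intro d hd
        exact hKn.conj_mem d hd t
      · intro d hd hfix
        by_contra hd1
        have hcomm : t * d = d * t := by
          calc t * d = (t * d * t⁻¹) * t := by group
            _ = d * t := by rw [hfix]
        exact hd1 (hdisj d hd (hcent t htA ht1 d hcomm.symm))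
    have hKcomm := comm_of_inverts K hinv
    have hKnil := isNilpotent_of_comm K hKcomm
    have hle := Cfsg.Agent.Lib.Helper1.le_fittingSubgroup hKn hKnil
    rw [hF] at hle
    have hKbot : K = ⊥ := le_bot_iff.1 hle
    rw [hKbot] at hKc
    exact hAtop (Subgroup.isComplement'_bot_left.1 hKc)

end Cfsg.Agent.Lib.Helper24.CTI
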