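import Mathlib

set_option autoImplicit false

namespace Cfsg.Agent.Lib.Helper24.CTI

variable {G : Type*} [Group G]

@[reducible] def freeConjAct (K X : Subgroup G)
    (hnorm : ∀ k ∈ K, ∀ y ∈ X, k * y * k⁻¹ ∈ X) :
    MulAction K ↥((X : Set G) \ {1}) where
  smul k y := ⟨(k : G) * (y : G) * (k : G)⁻¹, hnorm k k.2 y y.2.1, by
    intro h
    apply y.2.2
    have h1 : (k : G) * (y : G) * (k : G)⁻¹ = 1 := h
    have h2 : (y : G) = (k : G)⁻¹ * ((k : G) * (y : G) * (k : G)⁻¹) * k := by group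
    rw [Set.mem_singleton_iff, h2, h1]
    group⟩
  one_smul y := by
    apply Subtype.ext
    show ((1 : K) : G) * (y : G) * ((1 : K) : G)⁻¹ = y
    simp
  mul_smul k l y := by
    apply Subtype.ext
    show ((k * l : K) : G) * (y : G) * ((k * l : K) : G)⁻¹ =
      (k : G) * ((l : G) * (y : G) * (l : G)⁻¹) * (k : G)⁻¹
    simp [mul_assoc]

theorem card_dvd_pred_of_free_conj [Finite G] (K X : Subgroup G)
    (hnorm : ∀ k ∈ K, ∀ y ∈ X, k * y * k⁻¹ ∈ X)
    (hfree : ∀ k ∈ K, k ≠ 1 → ∀ y ∈ X, y ≠ 1 → k * y * k⁻¹ ≠ y) :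
    Nat.card K ∣ Nat.card X - 1 := by
  letI := freeConjAct K X hnorm
  have hst : ∀ b : ↥((X : Set G) \ {1}), MulAction.stabilizer K b = ⊥ := by
    intro b
    rw [eq_bot_iff]
    intro k hk
    rw [Subgroup.mem_bot]
    by_contra hk1
    have hk1' : (k : G) ≠ 1 := fun h => hk1 (Subtype.ext h)
    have h1 : k • b = b := MulAction.mem_stabilizer_iff.1 hk
    have h2 : (k : G) * (b : G) * (k : G)⁻¹ = b := congrArg Subtype.val h1
    exact hfree k k.2 hk1' b b.2.1 (fun h => b.2.2 h) h2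
  have e := MulAction.selfEquivOrbitsQuotientProd hst
  have h1 : Nat.card ↥((X : Set G) \ {1}) = Nat.card X - 1 := by
    rw [Nat.card_coe_set_eq, Set.ncard_sdiff_singleton_of_mem X.one_mem]
    rfl
  rw [← h1, Nat.card_congr e, Nat.card_prod]
  exact Dvd.intro_left _ rfl

theorem pow_two_dvd_contra {r k : ℕ} (hr : 1 ≤ r) (hrk : r < k) (hk : k < 2 * r)
    (hdvd : 2 ^ r - 1 ∣ 2 ^ k - 1) : False := by
  have h1 := Nat.pow_sub_one_gcd_pow_sub_one 2 r k
  rw [Nat.gcd_eq_left hdvd] at h1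
  have h2 : 2 ^ r = 2 ^ Nat.gcd r k := by
    have h3 : 1 ≤ 2 ^ r := Nat.one_le_two_pow
    have h4 : 1 ≤ 2 ^ Nat.gcd r k := Nat.one_le_two_pow
    omega
  have h5 : r = Nat.gcd r k := Nat.pow_right_injective (le_refl 2) h2
  have h6 : r ∣ k := by
    rw [h5]
    exact Nat.gcd_dvd_right r k
  obtain ⟨c, hc⟩ := h6
  have hc2 : c < 2 := by
    by_contra hge
    push Not at hge
    have : r * 2 ≤ r * c := Nat.mul_le_mul_left r hge
    omega
  interval_cases c
  · omega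
  · omega

end Cfsg.Agent.Lib.Helper24.CTI
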