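import Mathlib
import Cfsg.Agent.Lib.Helper24.CTIBasic

set_option autoImplicit false

namespace Cfsg.Agent.Lib.Helper24.CTI

open QuaternionGroup

theorem quat_inv_a {N : ℕ} (i : ZMod (2 * N)) : (a i : QuaternionGroup N)⁻¹ = a (-i) := by
  apply inv_eq_of_mul_eq_one_right
  rw [a_mul_a, add_neg_cancel, a_zero]

theorem not_isCTI_quaternion (n : ℕ) (hn : 2 ≤ n) : ¬ IsCTI (QuaternionGroup (2 ^ n)) := by
  intro h
  set N : ℕ := 2 ^ n with hN
  have hN4 : 4 ≤ N := by
    calc 4 = 2 ^ 2 := by norm_num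
      _ ≤ 2 ^ n := Nat.pow_le_pow_right (by norm_num) hn
  have hNN : (N : ZMod (2 * N)) + N = 0 := by
    have : ((2 * N : ℕ) : ZMod (2 * N)) = 0 := ZMod.natCast_self _
    rw [← this]
    push_cast
    ring
  have hz1 : (a (N : ZMod (2 * N)) : QuaternionGroup N) ≠ 1 := by
    rw [one_def]
    intro h1
    have h2 : (N : ZMod (2 * N)) = 0 := by
      injection h1
    rw [ZMod.natCast_eq_zero_iff] at h2
    have := Nat.le_of_dvd (by omega) h2
    omega
  have hxz : (xa 0 : QuaternionGroup N) * a (N : ZMod (2 * N)) = a (N : ZMod (2 * N)) * xa 0 := by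
    rw [xa_mul_a, a_mul_xa]
    congr 1
    linear_combination hNN
  have hconj : (a 1 : QuaternionGroup N) * a (N : ZMod (2 * N)) * (a 1)⁻¹ = a (N : ZMod (2 * N)) := by
    rw [quat_inv_a, a_mul_a, a_mul_a]
    congr 1
    ring
  have key := conj_self_comm h (x := (xa 0 : QuaternionGroup N)) (z := a (N : ZMod (2 * N)))
    (g := a 1) hz1 hxz (by rw [hconj]; exact hxz)
  rw [quat_inv_a, a_mul_xa, xa_mul_a, xa_mul_xa, xa_mul_xa] at key
  have h4 : (4 : ZMod (2 * N)) = 0 := by
    have h5 : (N : ZMod (2 * N)) + (0 - 1 + -1) - 0 = (N : ZMod (2 * N)) + 0 - (0 - 1 + -1) := by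
      injection key
    linear_combination -h5
  have h6 : ((4 : ℕ) : ZMod (2 * N)) = 0 := by
    push_cast
    exact h4
  rw [ZMod.natCast_eq_zero_iff] at h6
  have := Nat.le_of_dvd (by norm_num) h6
  omega

end Cfsg.Agent.Lib.Helper24.CTI
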