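import Mathlib
import Cfsg.Agent.Lib.Helper24.CTIBasic
import Cfsg.Agent.Lib.Helper24.CTIQuat
import Cfsg.Agent.Lib.Helper1.Cores
import Cfsg.Agent.Lib.Helper1.Fitting
import Cfsg.Agent.Lib.Helper11.FpfAction
import Cfsg.Agent.Lib.Helper11.FrobComplStructure
import Cfsg.Agent.S0039

set_option autoImplicit false

namespace Cfsg.Agent.Lib.Helper24.CTI

variable {G : Type*} [Group G]

theorem coprime_index_of_cc [Finite G] (K : Subgroup G)
    (hcc : ∀ x ∈ K, x ≠ 1 → Subgroup.centralizer ({x} : Set G) ≤ K) :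
    (Nat.card K).Coprime K.index := by
  apply Nat.coprime_of_dvd
  intro p hp hpK hpI
  have : Fact p.Prime := ⟨hp⟩
  obtain ⟨⟨x, hxK⟩, hx⟩ := exists_prime_orderOf_dvd_card' (G := K) p hpK
  have hxo : orderOf x = p := by
    rw [← hx]
    exact (Subgroup.orderOf_mk x hxK).symm
  have hx1 : x ≠ 1 := by
    intro h1
    rw [h1, orderOf_one] at hxo
    exact hp.one_lt.ne hxo
  have hT : IsPGroup p (Subgroup.zpowers x) := by
    apply IsPGroup.of_card (n := 1)
    rw [Nat.card_zpowers, hxo, pow_one]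
  obtain ⟨P, hP⟩ := hT.exists_le_sylow
  have hxP : x ∈ (P : Subgroup G) := hP (Subgroup.mem_zpowers x)
  have hP1 : (P : Subgroup G) ≠ ⊥ := by
    intro h1
    rw [h1, Subgroup.mem_bot] at hxP
    exact hx1 hxP
  have : Nontrivial (P : Subgroup G) := (Subgroup.nontrivial_iff_ne_bot _).mpr hP1
  have := IsPGroup.center_nontrivial P.isPGroup'
  obtain ⟨⟨z, hz⟩, hz1⟩ := exists_ne (1 : Subgroup.center (P : Subgroup G))
  have hz1' : (z : G) ≠ 1 := by
    intro h
    apply hz1
    apply Subtype.ext
    apply Subtype.ext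
    simpa using h
  have hzc : ∀ t ∈ (P : Subgroup G), (z : G) * t = t * (z : G) := by
    intro t ht
    have := Subgroup.mem_center_iff.mp hz ⟨t, ht⟩
    have h2 := congrArg Subtype.val this
    simp only [Subgroup.coe_mul] at h2
    exact h2.symm
  have hzK : (z : G) ∈ K := by
    apply hcc x hxK hx1
    rw [mem_cent]
    exact (hzc x hxP).symm
  have hPK : (P : Subgroup G) ≤ K := by
    intro t ht
    apply hcc (z : G) hzK hz1'
    rw [mem_cent]
    exact hzc t ht
  have h2 : ¬ p ∣ (P : Subgroup G).index := P.not_dvd_index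
  apply h2
  exact hpI.trans (Subgroup.index_dvd_of_le hPK)

theorem centralizer_le_fitting [Finite G] (h : IsCTI G) (hF : Cfsg.fittingSubgroup G ≠ ⊥)
    {x : G} (hx : x ∈ Cfsg.fittingSubgroup G) (hx1 : x ≠ 1) :
    Subgroup.centralizer ({x} : Set G) ≤ Cfsg.fittingSubgroup G := by
  set F := Cfsg.fittingSubgroup G with hFdef
  have hFn : F.Normal := Cfsg.Agent.Lib.Helper1.fittingSubgroup_normal
  have hFnil : Group.IsNilpotent F := Cfsg.Agent.Lib.Helper1.fittingSubgroup_nilpotent
  have : Nontrivial F := (Subgroup.nontrivial_iff_ne_bot _).mpr hF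
  have hc := Group.IsNilpotent.center_ne_bot (G := F)
  obtain ⟨⟨z, hz⟩, hz1⟩ := (Subgroup.ne_bot_iff_exists_ne_one).mp hc
  have hz1' : (z : G) ≠ 1 := by
    intro h1
    apply hz1
    apply Subtype.ext
    apply Subtype.ext
    simpa using h1
  have hzc : ∀ t ∈ F, (z : G) * t = t * (z : G) := by
    intro t ht
    have := Subgroup.mem_center_iff.mp hz ⟨t, ht⟩
    have h2 := congrArg Subtype.val this
    simp only [Subgroup.coe_mul] at h2
    exact h2.symm
  have hnorm : (Subgroup.centralizer ({x} : Set G)).Normal := by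
    constructor
    intro n hn g
    have hconj : x * (g * (z : G) * g⁻¹) = (g * (z : G) * g⁻¹) * x := by
      have hx' : g⁻¹ * x * g ∈ F := by
        have := hFn.conj_mem x hx g⁻¹
        simpa using this
      have h3 := hzc _ hx'
      calc x * (g * (z : G) * g⁻¹) = g * ((g⁻¹ * x * g) * (z : G)) * g⁻¹ := by group
        _ = g * ((z : G) * (g⁻¹ * x * g)) * g⁻¹ := by rw [h3]
        _ = (g * (z : G) * g⁻¹) * x := by group
    have hg := mem_normalizer_of_ti h (x := x) (y := (z : G)) (g := g) (hzc x hx).symm hz1' hconj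
    rw [Subgroup.mem_set_normalizer_iff] at hg
    exact (hg n).1 hn
  exact Cfsg.Agent.Lib.Helper1.le_fittingSubgroup hnorm (isNilpotent_centralizer h hx1)

theorem sup_equiv_prod (C Q : Subgroup G) (hcomm : ∀ a ∈ C, ∀ b ∈ Q, a * b = b * a)
    (hdisj : C ⊓ Q = ⊥) : Nonempty (C × Q ≃* (C ⊔ Q : Subgroup G)) := by
  have hc' : ∀ (m : C) (n : Q), Commute (C.subtype m) (Q.subtype n) :=
    fun m n => hcomm m m.2 n n.2
  have hinj : Function.Injective (MonoidHom.noncommCoprod C.subtype Q.subtype hc') := by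
    rw [MonoidHom.noncommCoprod_injective]
    refine ⟨C.subtype_injective, Q.subtype_injective, ?_⟩
    rw [Subgroup.range_subtype, Subgroup.range_subtype, disjoint_iff, hdisj]
  have hrange : (MonoidHom.noncommCoprod C.subtype Q.subtype hc').range = C ⊔ Q := by
    rw [MonoidHom.noncommCoprod_range, Subgroup.range_subtype, Subgroup.range_subtype]
  exact ⟨(MonoidHom.ofInjective hinj).trans (MulEquiv.subgroupCongr hrange)⟩

theorem frobenius_case [Finite G] (h : IsCTI G) (hnil : ¬ Group.IsNilpotent G)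
    (hF : Cfsg.fittingSubgroup G ≠ ⊥) :
    ∃ H : Subgroup G, Cfsg.IsFrobeniusComplement H ∧
      (IsCyclic H ∨ ∃ m : ℕ, Odd m ∧
        Nonempty (H ≃* Multiplicative (ZMod m) × QuaternionGroup 2)) := by
  set F := Cfsg.fittingSubgroup G with hFdef
  have hFn : F.Normal := Cfsg.Agent.Lib.Helper1.fittingSubgroup_normal
  have hFnil : Group.IsNilpotent F := Cfsg.Agent.Lib.Helper1.fittingSubgroup_nilpotent
  have hcc : ∀ x ∈ F, x ≠ 1 → Subgroup.centralizer ({x} : Set G) ≤ F :=
    fun x hx hx1 => centralizer_le_fitting h hF hx hx1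
  have hcop := coprime_index_of_cc F hcc
  obtain ⟨H, hc⟩ := Subgroup.exists_right_complement'_of_coprime hcop
  have hdisj : F ⊓ H = ⊥ := hc.disjoint.eq_bot
  have hfix : ∀ e ∈ H, e ≠ 1 → ∀ u ∈ F, e * u = u * e → u = 1 := by
    intro e he he1 u huF huc
    by_contra hu1
    have h1 : e ∈ F := hcc u huF hu1 (mem_cent.2 huc.symm)
    have h2 : e ∈ F ⊓ H := ⟨h1, he⟩
    rw [hdisj, Subgroup.mem_bot] at h2
    exact he1 h2
  have hfpf : ∀ e ∈ H, e ≠ 1 → F ⊓ Subgroup.centralizer ({e} : Set G) = ⊥ := by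
    intro e he he1
    rw [eq_bot_iff]
    rintro u ⟨huF, huc⟩
    rw [Subgroup.mem_bot]
    exact hfix e he he1 u huF (mem_cent.1 huc)
  have hH1 : H ≠ ⊥ := by
    intro hb
    rw [hb] at hc
    have htop : F = ⊤ := Subgroup.isComplement'_bot_right.mp hc
    apply hnil
    have hsurj : Function.Surjective F.subtype := by
      intro g
      exact ⟨⟨g, by rw [htop]; exact Subgroup.mem_top g⟩, rfl⟩
    exact Group.nilpotent_of_surjective F.subtype hsurj
  have hfrob : Cfsg.IsFrobeniusComplement H :=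
    (Cfsg.Agent.S0039.result F H hc hF hH1).mpr hfpf
  have hfp : Cfsg.Agent.Lib.Helper11.FpfOn H (F ⊓ Subgroup.centralizer (F : Set G)) := by
    refine ⟨fun g hg => isNilpotent_centralizer h hg, inferInstance, ?_, ?_, ?_, ?_⟩
    · rintro a ⟨haF, -⟩ b ⟨-, hbc⟩
      have hbc' : b ∈ Subgroup.centralizer (F : Set G) := hbc
      rw [Subgroup.mem_centralizer_iff] at hbc'
      exact hbc' a haF
    · have : Nontrivial F := (Subgroup.nontrivial_iff_ne_bot _).mpr hF
      have hcen := Group.IsNilpotent.center_ne_bot (G := F)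
      obtain ⟨⟨z, hz⟩, hz1⟩ := (Subgroup.ne_bot_iff_exists_ne_one).mp hcen
      intro hbot
      apply hz1
      apply Subtype.ext
      apply Subtype.ext
      have hmem : (z : G) ∈ F ⊓ Subgroup.centralizer (F : Set G) := by
        refine ⟨z.2, ?_⟩
        show (z : G) ∈ Subgroup.centralizer (F : Set G)
        rw [Subgroup.mem_centralizer_iff]
        intro t ht
        have := Subgroup.mem_center_iff.mp hz ⟨t, ht⟩
        have h2 := congrArg Subtype.val this
        simp only [Subgroup.coe_mul] at h2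
        exact h2
      rw [hbot, Subgroup.mem_bot] at hmem
      simpa using hmem
    · intro e he he1 u hu hfixu
      apply hfix e he he1 u hu.1
      calc e * u = (e * u * e⁻¹) * e := by group
        _ = u * e := by rw [hfixu]
    · have h1 : Nat.card H = F.index := hc.symm.index_eq_card.symm
      have h2 : Nat.card (F ⊓ Subgroup.centralizer (F : Set G) : Subgroup G) ∣ Nat.card F :=
        Subgroup.card_dvd_of_le inf_le_left
      rw [h1]
      exact (Nat.Coprime.coprime_dvd_left h2 hcop).symm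
  have hHnil : Group.IsNilpotent H := hfp.isNilpotent
  rcases Cfsg.Agent.Lib.Helper11.nilpotent_frobenius_complement_structure F H hc hF hfpf hHnil with
    hcyc | ⟨C, Q, hCQ, hcomm, hCc, hCodd, n, ⟨e⟩⟩
  · exact ⟨H, hfrob, Or.inl hcyc⟩
  · have : NeZero (2 ^ n) := ⟨by positivity⟩
    have hQcard : Nat.card Q = 4 * 2 ^ n := by
      rw [Nat.card_congr e.toEquiv, Nat.card_eq_fintype_card, QuaternionGroup.card]
    have hcopCQ : (Nat.card C).Coprime (Nat.card Q) := by
      rw [hQcard]
      have h4 : (4 : ℕ) * 2 ^ n = 2 ^ (n + 2) := by ring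
      rw [h4]
      apply Nat.Coprime.pow_right
      exact Nat.coprime_two_right.mpr hCodd
    have hdisjCQ : C ⊓ Q = ⊥ := (Subgroup.disjoint_of_coprime_natCard hcopCQ).eq_bot
    obtain ⟨φ⟩ := sup_equiv_prod C Q hcomm hdisjCQ
    have φ' : C × Q ≃* H := φ.trans (MulEquiv.subgroupCongr hCQ)
    refine ⟨H, hfrob, ?_⟩
    rcases Nat.lt_or_ge n 2 with hn | hn
    · interval_cases n
      · left
        have hQc : IsCyclic Q := by
          have := QuaternionGroup.quaternionGroup_one_isCyclic
          exact (MulEquiv.isCyclic e).mpr (by simpa using this)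
        have : IsCyclic (C × Q) := Group.isCyclic_prod_iff.mpr ⟨hCc, hQc, hcopCQ⟩
        exact (MulEquiv.isCyclic φ').mp this
      · right
        refine ⟨Nat.card C, hCodd, ⟨?_⟩⟩
        have e1 : C ≃* Multiplicative (ZMod (Nat.card C)) := (zmodCyclicMulEquiv hCc).symm
        have e2 : Q ≃* QuaternionGroup 2 := by simpa using e
        exact φ'.symm.trans (MulEquiv.prodCongr e1 e2)
    · exfalso
      apply not_isCTI_quaternion n hn
      exact h.of_injective (Q.subtype.comp e.symm.toMonoidHom)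
        (Q.subtype_injective.comp e.symm.injective)

end Cfsg.Agent.Lib.Helper24.CTI
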