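import Mathlib
import Cfsg.Agent.Lib.Helper24.CTIPermB
import Cfsg.Agent.Lib.helper6.OrbitTools


set_option autoImplicit false

namespace Cfsg.Agent.Lib.Helper24.CTI

open Cfsg.Agent.Lib.helper6.CT

open MulAction Finset

variable {G : Type*} [Group G] [Fintype G] [DecidableEq G] {A N : Subgroup G}
  {Ω : Type*} [MulAction G Ω] [IsPretransitive G Ω] [Fintype Ω] [DecidableEq Ω] {o : Ω}

section

variable (D : CTIData G A N) (ho : ∀ g : G, g • o = o ↔ g ∈ N)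
include D ho

theorem stab_transfer {d : G} (hd : d ≠ 1) {ω₁ ω : Ω} (h1 : ω₁ ≠ o) (hω : ω ≠ o)
    (hdo : d • o = o) (hd1 : d • ω₁ = ω₁) (hdω : d • ω = ω) :
    ∀ x : G, x • o = o → x • ω₁ = ω₁ → x • ω = ω := by
  intro x hxo hx1
  set E : Subgroup G := stabilizer G o ⊓ Subgroup.centralizer ({d} : Set G) with hE
  have hEN : E ≤ N := by
    intro y hy
    exact (ho y).1 (mem_stabilizer_iff.1 (Subgroup.mem_inf.1 hy).1)
  have hEA : ∀ y ∈ E, y ∈ A → y = 1 := by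
    intro y hy hyA
    by_contra hy1
    have hc : d * y = y * d := by
      have := (Subgroup.mem_inf.1 hy).2
      rw [Subgroup.mem_centralizer_iff] at this
      exact this d (Set.mem_singleton d)
    have hdA : d ∈ A := D.cent y hyA hy1 d hc
    exact kfpf D ho d hdA hd ω₁ h1 hd1
  have hcard := (card_le_invFix D ho E hEN hEA).1
  rw [← card_stab_eq D ho hω] at hcard
  have hle : (stabilizer G o ⊓ stabilizer G ω : Subgroup G) ≤ E := by
    intro y hy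
    obtain ⟨hy1, hy2⟩ := Subgroup.mem_inf.1 hy
    refine Subgroup.mem_inf.2 ⟨hy1, ?_⟩
    rw [Subgroup.mem_centralizer_iff]
    intro z hz
    rw [Set.mem_singleton_iff] at hz
    rw [hz]
    exact stab_comm D ho hω hdo hdω (mem_stabilizer_iff.1 hy1) (mem_stabilizer_iff.1 hy2)
  have heq := Subgroup.eq_of_le_of_card_ge hle hcard
  have hxE : x ∈ E := by
    refine Subgroup.mem_inf.2 ⟨mem_stabilizer_iff.2 hxo, ?_⟩
    rw [Subgroup.mem_centralizer_iff]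
    intro z hz
    rw [Set.mem_singleton_iff] at hz
    rw [hz]
    exact stab_comm D ho h1 hdo hd1 hxo hx1
  rw [← heq] at hxE
  exact mem_stabilizer_iff.1 (Subgroup.mem_inf.1 hxE).2

theorem three_base {d : G} {ω₁ ω₂ : Ω} (h1 : ω₁ ≠ o) (h2 : ω₂ ≠ o) (h12 : ω₁ ≠ ω₂)
    (hdo : d • o = o) (hd1 : d • ω₁ = ω₁) (hd2 : d • ω₂ = ω₂) : d = 1 := by
  by_contra hd
  obtain ⟨s₁, hss₁, hso₁⟩ := exists_swap D ho h1
  obtain ⟨s₂, hss₂, hso₂⟩ := exists_swap D ho h2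
  have hsi₁ : s₁⁻¹ = s₁ := inv_eq_of_sq hss₁
  have hsi₂ : s₂⁻¹ = s₂ := inv_eq_of_sq hss₂
  have inv₁ := swap_inverts D ho h1 hss₁ hso₁
  have inv₂ := swap_inverts D ho h2 hss₂ hso₂
  have T12 := stab_transfer D ho hd h1 h2 hdo hd1 hd2
  set ω₃ := s₁ • ω₂ with hω₃
  have h3 : ω₃ ≠ o := by
    intro h
    apply h12
    have : s₁ • ω₁ = o := swap_back D ho hss₁ hso₁
    rw [← this, hω₃] at h
    exact (MulAction.injective s₁ h).symm
  have hdi2 : d⁻¹ • ω₂ = ω₂ := by rw [inv_smul_eq_iff, hd2]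
  have hdio : d⁻¹ • o = o := by rw [inv_smul_eq_iff, hdo]
  have hdi1 : d⁻¹ • ω₁ = ω₁ := by rw [inv_smul_eq_iff, hd1]
  have hds : d * s₁ = s₁ * d⁻¹ := by
    have := inv₁ d⁻¹ hdio hdi1
    rw [inv_inv] at this
    calc d * s₁ = (s₁ * d⁻¹ * s₁⁻¹) * s₁ := by rw [this]
      _ = s₁ * d⁻¹ := by group
  have hd3 : d • ω₃ = ω₃ := by
    rw [hω₃, ← mul_smul, hds, mul_smul, hdi2]
  have T13 := stab_transfer D ho hd h1 h3 hdo hd1 hd3
  obtain ⟨q, hqq, hqo⟩ := exists_swap D ho h3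
  have hqi : q⁻¹ = q := inv_eq_of_sq hqq
  have inv₃ := swap_inverts D ho h3 hqq hqo
  have hmo : (q * (s₁ * s₂)) • o = o := by
    rw [mul_smul, mul_smul, hso₂, ← hω₃]
    exact swap_back D ho hqq hqo
  have hmN : q * (s₁ * s₂) ∈ N := (ho _).1 hmo
  have hxd : (s₁ * s₂) * d * (s₁ * s₂)⁻¹ = d := by
    have e2 := inv₂ d hdo hd2
    have e1 := inv₁ d⁻¹ hdio hdi1
    rw [inv_inv] at e1
    calc (s₁ * s₂) * d * (s₁ * s₂)⁻¹ = s₁ * (s₂ * d * s₂⁻¹) * s₁⁻¹ := by group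
      _ = d := by rw [e2, e1]
  have hmd : (q * (s₁ * s₂)) * d * (q * (s₁ * s₂))⁻¹ = d⁻¹ := by
    have e3 := inv₃ d hdo hd3
    calc (q * (s₁ * s₂)) * d * (q * (s₁ * s₂))⁻¹
        = q * ((s₁ * s₂) * d * (s₁ * s₂)⁻¹) * q⁻¹ := by group
      _ = d⁻¹ := by rw [hxd, e3]
  obtain ⟨d₁, hd₁o, hd₁1, a₁, ha₁, hfac⟩ := exists_factor D ho h1 _ hmN
  have hcomm : d₁ * d = d * d₁ := stab_comm D ho h1 hd₁o hd₁1 hdo hd1
  have ha₁d : a₁ * d * a₁⁻¹ = d⁻¹ := by
    have ha : a₁ = d₁⁻¹ * (q * (s₁ * s₂)) := by rw [hfac]; group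
    have hcomm' : d₁⁻¹ * d⁻¹ * d₁ = d⁻¹ := by
      calc d₁⁻¹ * d⁻¹ * d₁ = (d * d₁)⁻¹ * d₁ := by group
        _ = (d₁ * d)⁻¹ * d₁ := by rw [hcomm]
        _ = d⁻¹ := by group
    calc a₁ * d * a₁⁻¹ = d₁⁻¹ * ((q * (s₁ * s₂)) * d * (q * (s₁ * s₂))⁻¹) * d₁ := by
          rw [ha]; group
      _ = d⁻¹ := by rw [hmd, hcomm']
  have hdN : d ∈ N := (ho d).1 hdo
  have heA : d⁻¹ * d⁻¹ ∈ A := by
    have h : d * a₁⁻¹ * d⁻¹ ∈ A := D.norm d hdN a₁⁻¹ (A.inv_mem ha₁)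
    have : d⁻¹ * d⁻¹ = a₁ * (d * a₁⁻¹ * d⁻¹) := by
      calc d⁻¹ * d⁻¹ = (a₁ * d * a₁⁻¹) * d⁻¹ := by rw [ha₁d]
        _ = a₁ * (d * a₁⁻¹ * d⁻¹) := by group
    rw [this]
    exact A.mul_mem ha₁ h
  have he1 : d⁻¹ * d⁻¹ = 1 := by
    by_contra hne
    apply kfpf D ho _ heA hne ω₁ h1
    rw [mul_smul, hdi1, hdi1]
  have hdd : d * d = 1 := by
    calc d * d = (d⁻¹ * d⁻¹)⁻¹ := by rw [mul_inv_rev, inv_inv]
      _ = 1 := by rw [he1, inv_one]
  have hdA : d ∈ A := D.invN d hdN hdd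
  exact kfpf D ho d hdA hd ω₁ h1 hd1

theorem three : ∀ g : G, ∀ a b c : Ω, a ≠ b → b ≠ c → a ≠ c → g • a = a → g • b = b →
    g • c = c → g = 1 := by
  intro g a b c hab hbc hac hga hgb hgc
  obtain ⟨h, hh⟩ := exists_smul_eq G o a
  have key := three_base D ho (d := h⁻¹ * g * h) (ω₁ := h⁻¹ • b) (ω₂ := h⁻¹ • c) ?_ ?_ ?_ ?_ ?_ ?_
  · calc g = h * (h⁻¹ * g * h) * h⁻¹ := by group
      _ = 1 := by rw [key]; group
  · intro hb
    apply hab
    rw [inv_smul_eq_iff, hh] at hb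
    exact hb.symm
  · intro hc
    apply hac
    rw [inv_smul_eq_iff, hh] at hc
    exact hc.symm
  · intro hbc'
    exact hbc (MulAction.injective h⁻¹ hbc')
  · rw [mul_smul, mul_smul, hh, hga, ← hh, inv_smul_smul]
  · rw [mul_smul, mul_smul, smul_inv_smul, hgb]
  · rw [mul_smul, mul_smul, smul_inv_smul, hgc]

theorem stab_nontrivial {ω : Ω} (hω : ω ≠ o) : ∃ d : G, d ≠ 1 ∧ d • o = o ∧ d • ω = ω := by
  obtain ⟨n, hn, hnA⟩ := D.lt
  obtain ⟨d, hdo, hdω, a, ha, hfac⟩ := exists_factor D ho hω n hn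
  refine ⟨d, ?_, hdo, hdω⟩
  intro h
  apply hnA
  rw [hfac, h, one_mul]
  exact ha

theorem ktr_base {ω₁ ω₂ : Ω} (h1 : ω₁ ≠ o) (h2 : ω₂ ≠ o) : ∃ k ∈ A, k • ω₁ = ω₂ := by
  classical
  by_contra hcon
  push Not at hcon
  set Q : Subgroup G := stabilizer G o ⊓ stabilizer G ω₁ with hQ
  have hQo : ∀ q : Q, (q : G) • o = o := fun q => mem_stabilizer_iff.1 (Subgroup.mem_inf.1 q.2).1
  have hQ1 : ∀ q : Q, (q : G) • ω₁ = ω₁ := fun q => mem_stabilizer_iff.1 (Subgroup.mem_inf.1 q.2).2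
  have hQN : ∀ q : Q, (q : G) ∈ N := fun q => (ho _).1 (hQo q)
  have hAo : ∀ k ∈ A, k • o = o := fun k hk => (ho k).2 (D.le hk)
  have hfree : ∀ ω : Ω, ω ≠ o → Function.Injective (fun k : A => (k : G) • ω) := by
    intro ω hω k k' hkk
    simp only at hkk
    by_contra hne
    have hne' : (k' : G)⁻¹ * (k : G) ≠ 1 := by
      intro h
      apply hne
      apply Subtype.ext
      calc (k : G) = (k' : G) * ((k' : G)⁻¹ * (k : G)) := by group
        _ = k' := by rw [h, mul_one]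
    apply kfpf D ho _ (A.mul_mem (A.inv_mem k'.2) k.2) hne' ω hω
    rw [mul_smul, hkk, inv_smul_smul]
  have hstab : ∀ x : Ω, x ≠ o → x ≠ ω₁ → (orbit Q x).ncard = Nat.card Q := by
    intro x hxo hx1
    have h := Cfsg.Agent.Lib.helper6.ncard_orbit_mul_card_stabilizer (Q := Q) x
    have hbot : stabilizer Q x = ⊥ := by
      rw [eq_bot_iff]
      intro q hq
      rw [mem_stabilizer_iff] at hq
      have hq' : (q : G) • x = x := hq
      have := three D ho (q : G) o ω₁ x (Ne.symm h1) (Ne.symm hx1) (Ne.symm hxo) (hQo q) (hQ1 q) hq'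
      rw [Subgroup.mem_bot]
      exact Subtype.ext this
    rw [hbot, Subgroup.card_bot, mul_one] at h
    exact h
  have hdvd2 : Nat.card Q ∣ Nat.card A := by
    have hcard : (Set.range (fun k : A => (k : G) • ω₂)).ncard = Nat.card A :=
      Set.ncard_range_of_injective (hfree ω₂ h2)
    refine Cfsg.Agent.Lib.helper6.dvd_ncard_of_invariant (Q := Q) (Nat.card Q) _
      (Set.range (fun k : A => (k : G) • ω₂)) (Set.toFinite _) hcard ?_ ?_
    · rintro q x ⟨k, rfl⟩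
      obtain ⟨d₂, hd₂o, hd₂2, a₂, ha₂, hfac⟩ := exists_factor D ho h2 ((q : G)⁻¹) (N.inv_mem (hQN q))
      have hq : (q : G) = a₂⁻¹ * d₂⁻¹ := by
        calc (q : G) = ((q : G)⁻¹)⁻¹ := by group
          _ = a₂⁻¹ * d₂⁻¹ := by rw [hfac]; group
      have hqk : (q : G) * (k : G) * (q : G)⁻¹ ∈ A := D.norm _ (hQN q) _ k.2
      refine ⟨⟨(q : G) * (k : G) * (q : G)⁻¹ * a₂⁻¹, A.mul_mem hqk (A.inv_mem ha₂)⟩, ?_⟩
      show ((q : G) * (k : G) * (q : G)⁻¹ * a₂⁻¹) • ω₂ = (q : G) • ((k : G) • ω₂)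
      have hd₂i : d₂⁻¹ • ω₂ = ω₂ := by rw [inv_smul_eq_iff, hd₂2]
      have e1 : (q : G) • ω₂ = a₂⁻¹ • ω₂ := by
        rw [hq, mul_smul, hd₂i]
      calc ((q : G) * (k : G) * (q : G)⁻¹ * a₂⁻¹) • ω₂
          = ((q : G) * (k : G) * (q : G)⁻¹) • (a₂⁻¹ • ω₂) := by rw [mul_smul]
        _ = ((q : G) * (k : G) * (q : G)⁻¹) • ((q : G) • ω₂) := by rw [e1]
        _ = (q : G) • ((k : G) • ω₂) := by
            rw [← mul_smul, ← mul_smul]
            congr 1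
            group
    · rintro x ⟨k, rfl⟩
      apply hstab
      · intro h
        apply h2
        have : (k : G) • ω₂ = (k : G) • o := by
          simp only at h
          rw [h, hAo k k.2]
        exact MulAction.injective (k : G) this
      · intro h
        simp only at h
        apply hcon ((k : G)⁻¹) (A.inv_mem k.2)
        rw [inv_smul_eq_iff, h]
  have hdvd1 : Nat.card Q ∣ Nat.card A - 1 := by
    have hcard : ((fun k : A => (k : G) • ω₁) '' ({1}ᶜ : Set A)).ncard = Nat.card A - 1 := by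
      rw [Set.ncard_image_of_injective _ (hfree ω₁ h1), Set.ncard_compl, Set.ncard_singleton]
    refine Cfsg.Agent.Lib.helper6.dvd_ncard_of_invariant (Q := Q) (Nat.card Q) _
      ((fun k : A => (k : G) • ω₁) '' ({1}ᶜ : Set A)) (Set.toFinite _) hcard ?_ ?_
    · rintro q x ⟨k, hk, rfl⟩
      have hqk : (q : G) * (k : G) * (q : G)⁻¹ ∈ A := D.norm _ (hQN q) _ k.2
      refine ⟨⟨(q : G) * (k : G) * (q : G)⁻¹, hqk⟩, ?_, ?_⟩
      · simp only [Set.mem_compl_iff, Set.mem_singleton_iff] at hk ⊢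
        intro h
        apply hk
        apply Subtype.ext
        have h' : (q : G) * (k : G) * (q : G)⁻¹ = 1 := congrArg Subtype.val h
        calc (k : G) = (q : G)⁻¹ * ((q : G) * (k : G) * (q : G)⁻¹) * (q : G) := by group
          _ = 1 := by rw [h']; group
      · show ((q : G) * (k : G) * (q : G)⁻¹) • ω₁ = (q : G) • ((k : G) • ω₁)
        have : (q : G)⁻¹ • ω₁ = ω₁ := by rw [inv_smul_eq_iff, hQ1 q]
        rw [mul_smul, mul_smul, this]
    · rintro x ⟨k, hk, rfl⟩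
      simp only [Set.mem_compl_iff, Set.mem_singleton_iff] at hk
      have hk1 : (k : G) ≠ 1 := fun h => hk (Subtype.ext h)
      apply hstab
      · intro h
        simp only at h
        apply h1
        have : (k : G) • ω₁ = (k : G) • o := by rw [h, hAo k k.2]
        exact MulAction.injective (k : G) this
      · exact kfpf D ho _ k.2 hk1 ω₁ h1
  have hApos : 0 < Nat.card A := Nat.card_pos
  have h1' : Nat.card Q ∣ 1 := by
    have := (Nat.dvd_sub_iff_right hApos hdvd2).mp hdvd1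
    exact this
  have hQ1' : Nat.card Q = 1 := Nat.dvd_one.1 h1'
  obtain ⟨d, hd1, hdo, hdω⟩ := stab_nontrivial D ho h1
  have hdQ : d ∈ Q := Subgroup.mem_inf.2 ⟨mem_stabilizer_iff.2 hdo, mem_stabilizer_iff.2 hdω⟩
  have := (Subgroup.card_eq_one.1 hQ1')
  rw [this] at hdQ
  exact hd1 (Subgroup.mem_bot.1 hdQ)

end

end Cfsg.Agent.Lib.Helper24.CTI
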