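import Mathlib
import Cfsg.Agent.Lib.Helper24.CTIPermC
import Cfsg.Agent.Lib.helper6.ZassFeitC
import Cfsg.Agent.Lib.helper6.ZassFeitE
import Cfsg.Agent.Lib.helper6.ZassInvol
import Cfsg.Agent.Lib.helper6.SuzClass

set_option autoImplicit false

namespace Cfsg.Agent.Lib.Helper24.CTI

open Cfsg.Agent.Lib.helper6.CT

open MulAction Finset

section

variable {G : Type*} [Group G] [Finite G] {A N : Subgroup G}
  {Ω : Type*} [MulAction G Ω] [IsPretransitive G Ω] [Fintype Ω] {o : Ω}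
variable (D : CTIData G A N) (ho : ∀ g : G, g • o = o ↔ g ∈ N)
include D ho

theorem cti_ktr : ∀ x y : Ω, x ≠ o → y ≠ o → ∃ k ∈ A, k • x = y := by
  classical
  haveI : Fintype G := Fintype.ofFinite G
  intro x y hx hy
  exact ktr_base D ho hx hy

theorem cti_three : ∀ g : G, ∀ a b c : Ω, a ≠ b → b ≠ c → a ≠ c → g • a = a → g • b = b →
    g • c = c → g = 1 := by
  classical
  haveI : Fintype G := Fintype.ofFinite G
  exact three D ho

theorem cti_two : ∀ {a b c d : Ω}, a ≠ b → c ≠ d → ∃ g : G, g • a = c ∧ g • b = d := by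
  intro a b c d hab hcd
  obtain ⟨g₁, hg₁⟩ := exists_smul_eq G a o
  obtain ⟨g₂, hg₂⟩ := exists_smul_eq G c o
  have h1 : g₁ • b ≠ o := by
    intro h
    apply hab
    rw [← hg₁] at h
    exact (MulAction.injective g₁ h).symm
  have h2 : g₂ • d ≠ o := by
    intro h
    apply hcd
    rw [← hg₂] at h
    exact (MulAction.injective g₂ h).symm
  obtain ⟨k, hk, hkb⟩ := cti_ktr D ho _ _ h1 h2
  have hko : k • o = o := (ho k).2 (D.le hk)
  refine ⟨g₂⁻¹ * k * g₁, ?_, ?_⟩
  · rw [mul_smul, mul_smul, hg₁, hko, inv_smul_eq_iff, hg₂]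
  · rw [mul_smul, mul_smul, hkb, inv_smul_smul]

theorem cti_zk {p0 : Ω} (hp0 : o ≠ p0) : Cfsg.Agent.Lib.helper6.ZassPSL3.ZK G Ω o p0 A :=
  { two := fun h1 h2 => cti_two D ho h1 h2
    three := cti_three D ho
    hi0 := hp0
    kfix := fun k hk => (ho k).2 (D.le hk)
    kfpf := fun k hk hk1 x hx => kfpf D ho k hk hk1 x hx
    ktr := cti_ktr D ho
    knorm := fun g hg k hk => D.norm g ((ho g).1 hg) k hk }

theorem cti_stab_odd {p0 : Ω} (hp0 : o ≠ p0) :
    Odd (Nat.card ↥(stabilizer G o ⊓ stabilizer G p0 : Subgroup G)) := by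
  rw [← Nat.not_even_iff_odd]
  intro heven
  haveI : Fact (Nat.Prime 2) := ⟨Nat.prime_two⟩
  obtain ⟨u, hu⟩ := exists_prime_orderOf_dvd_card' (G := ↥(stabilizer G o ⊓ stabilizer G p0 : Subgroup G))
    2 heven.two_dvd
  have hu1 : (u : G) ≠ 1 := by
    intro h
    have : u = 1 := Subtype.ext h
    rw [this, orderOf_one] at hu
    omega
  have huu : (u : G) * (u : G) = 1 := by
    have := pow_orderOf_eq_one u
    rw [hu, pow_two] at this
    exact congrArg Subtype.val this
  obtain ⟨h1, h2⟩ := Subgroup.mem_inf.1 u.2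
  rw [mem_stabilizer_iff] at h1 h2
  have huN : (u : G) ∈ N := (ho _).1 h1
  have huA : (u : G) ∈ A := D.invN _ huN huu
  exact kfpf D ho _ huA hu1 p0 (Ne.symm hp0) h2

theorem cti_card_even : Even (Nat.card A) := by
  obtain ⟨t, htA, ht1, htt⟩ := D.invol
  have hord : orderOf (⟨t, htA⟩ : A) = 2 := by
    apply orderOf_eq_prime
    · apply Subtype.ext
      rw [pow_two]
      exact htt
    · intro h
      exact ht1 (congrArg Subtype.val h)
  have := orderOf_dvd_natCard (⟨t, htA⟩ : A)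
  rw [hord] at this
  exact even_iff_two_dvd.2 this

end

end Cfsg.Agent.Lib.Helper24.CTI
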