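import Mathlib
import Cfsg.Agent.Lib.Helper24.CTIPermD

set_option autoImplicit false

namespace Cfsg.Agent.Lib.Helper24.CTI

open Cfsg.Agent.Lib.helper6.CT

open MulAction Finset

section

variable {G : Type*} [Group G] [Finite G] {A N : Subgroup G}
  {Ω : Type*} [MulAction G Ω] [IsPretransitive G Ω] [Fintype Ω] {o : Ω}
variable (D : CTIData G A N) (ho : ∀ g : G, g • o = o ↔ g ∈ N)
include D ho

theorem cti_le_commutator : A ≤ commutator G := by
  classical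
  haveI : Fintype G := Fintype.ofFinite G
  obtain ⟨g0, hg0⟩ := D.ne_top
  have hp0 : g0 • o ≠ o := fun h => hg0 ((ho g0).1 h)
  obtain ⟨d0, hd01, hd0o, hd0p⟩ := stab_nontrivial D ho hp0
  have hd0N : d0 ∈ N := (ho d0).1 hd0o
  let f : A → A := fun a => ⟨d0 * a * d0⁻¹ * (a : G)⁻¹,
    A.mul_mem (D.norm d0 hd0N a a.2) (A.inv_mem a.2)⟩
  have hinj : Function.Injective f := by
    intro a b hab
    have h1 : d0 * a * d0⁻¹ * (a : G)⁻¹ = d0 * b * d0⁻¹ * (b : G)⁻¹ := congrArg Subtype.val hab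
    have h2 : d0 * ((b : G)⁻¹ * a) = ((b : G)⁻¹ * a) * d0 := by
      have h3 : (a : G) * d0⁻¹ * (a : G)⁻¹ = b * d0⁻¹ * (b : G)⁻¹ := by
        calc (a : G) * d0⁻¹ * (a : G)⁻¹ = d0⁻¹ * (d0 * a * d0⁻¹ * (a : G)⁻¹) := by group
          _ = d0⁻¹ * (d0 * b * d0⁻¹ * (b : G)⁻¹) := by rw [h1]
          _ = b * d0⁻¹ * (b : G)⁻¹ := by group
      have h4 : ((b : G)⁻¹ * a) * d0⁻¹ = d0⁻¹ * ((b : G)⁻¹ * a) := by
        calc ((b : G)⁻¹ * a) * d0⁻¹ = (b : G)⁻¹ * ((a : G) * d0⁻¹ * (a : G)⁻¹) * a := by group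
          _ = (b : G)⁻¹ * (b * d0⁻¹ * (b : G)⁻¹) * a := by rw [h3]
          _ = d0⁻¹ * ((b : G)⁻¹ * a) := by group
      calc d0 * ((b : G)⁻¹ * a) = d0 * (((b : G)⁻¹ * a) * d0⁻¹) * d0 := by group
        _ = d0 * (d0⁻¹ * ((b : G)⁻¹ * a)) * d0 := by rw [h4]
        _ = ((b : G)⁻¹ * a) * d0 := by group
    have hc : (b : G)⁻¹ * a = 1 := by
      by_contra hc1
      have hcA : (b : G)⁻¹ * a ∈ A := A.mul_mem (A.inv_mem b.2) a.2
      have hd0A : d0 ∈ A := D.cent _ hcA hc1 d0 h2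
      exact kfpf D ho d0 hd0A hd01 _ hp0 hd0p
    apply Subtype.ext
    calc (a : G) = b * ((b : G)⁻¹ * a) := by group
      _ = b := by rw [hc, mul_one]
  have hsurj := Finite.surjective_of_injective hinj
  intro a ha
  obtain ⟨a', ha'⟩ := hsurj ⟨a, ha⟩
  have h1 : a = d0 * a' * d0⁻¹ * (a' : G)⁻¹ := (congrArg Subtype.val ha').symm
  rw [h1, commutator_def, ← commutatorElement_def]
  exact Subgroup.commutator_mem_commutator (Subgroup.mem_top _) (Subgroup.mem_top _)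

theorem cti_faith : ∀ g : G, (∀ x : Ω, g • x = x) → g = 1 := by
  intro g hg
  obtain ⟨g0, hg0⟩ := D.ne_top
  have hp0 : g0 • o ≠ o := fun h => hg0 ((ho g0).1 h)
  obtain ⟨t, htA, ht1, htt⟩ := D.invol
  have htp0 : t • (g0 • o) ≠ g0 • o := kfpf D ho t htA ht1 _ hp0
  have htp0o : t • (g0 • o) ≠ o := by
    intro h
    have h2 : t • o = o := (ho t).2 (D.le htA)
    have h3 : t • (g0 • o) = t • o := h.trans h2.symm
    exact hp0 (MulAction.injective t h3)
  exact cti_three D ho g o (g0 • o) (t • (g0 • o)) (Ne.symm hp0) (Ne.symm htp0) (Ne.symm htp0o)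
    (hg _) (hg _) (hg _)

theorem cti_normal_top (hnil : Group.IsNilpotent A) (M : Subgroup G) (hM : M.Normal)
    (hMbot : M ≠ ⊥) : M = ⊤ := by
  classical
  haveI : Fintype G := Fintype.ofFinite G
  obtain ⟨g0, hg0⟩ := D.ne_top
  have hp0 : g0 • o ≠ o := fun h => hg0 ((ho g0).1 h)
  obtain ⟨m, hmM, hm1⟩ : ∃ m ∈ M, m ≠ 1 := by
    by_contra hcon
    push Not at hcon
    apply hMbot
    rw [eq_bot_iff]
    intro x hx
    rw [Subgroup.mem_bot]
    exact hcon x hx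
  obtain ⟨a, hma⟩ : ∃ a : Ω, m • a ≠ a := by
    by_contra hcon
    push Not at hcon
    exact hm1 (cti_faith D ho m hcon)
  have hMtr : ∀ c d : Ω, c ≠ d → ∃ m' ∈ M, m' • c = d := by
    intro c d hcd
    obtain ⟨g, hga, hgb⟩ := cti_two D ho (Ne.symm hma) hcd
    refine ⟨g * m * g⁻¹, hM.conj_mem m hmM g, ?_⟩
    rw [mul_smul, mul_smul, ← hga, inv_smul_smul, hgb]
  have hfrat : ∀ g : G, ∃ m' ∈ M, m'⁻¹ * g ∈ N := by
    intro g
    by_cases hgo : g • o = o
    · exact ⟨1, M.one_mem, by simpa using (ho g).1 hgo⟩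
    · obtain ⟨m', hm', hm'o⟩ := hMtr o (g • o) (Ne.symm hgo)
      refine ⟨m', hm', (ho _).1 ?_⟩
      rw [mul_smul, ← hm'o, inv_smul_smul]
  have hAL : A ≤ A ⊔ M := le_sup_left
  have hML : M ≤ A ⊔ M := le_sup_right
  have hLconj : ∀ g : G, ∀ x ∈ A ⊔ M, g * x * g⁻¹ ∈ A ⊔ M := by
    intro g x hx
    obtain ⟨y, hy, z, hz, rfl⟩ := Subgroup.mem_sup_of_normal_right.1 hx
    obtain ⟨m', hm', hn'⟩ := hfrat g
    have h1 : g * (y * z) * g⁻¹ =
        m' * ((m'⁻¹ * g) * y * (m'⁻¹ * g)⁻¹) * m'⁻¹ * (g * z * g⁻¹) := by group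
    rw [h1]
    apply Subgroup.mul_mem _ _ (hML (hM.conj_mem z hz g))
    apply Subgroup.mul_mem _ _ (hML (M.inv_mem hm'))
    apply Subgroup.mul_mem _ (hML hm')
    exact hAL (D.norm _ hn' y hy)
  have hinvL : ∀ u : G, u * u = 1 → u ∈ A ⊔ M := by
    intro u huu
    obtain ⟨g, hg⟩ := D.invConj u huu
    have := hLconj g _ (hAL hg)
    have h1 : g * (g⁻¹ * u * g) * g⁻¹ = u := by group
    rwa [h1] at this
  have hstabL : ∀ d : G, d • o = o → d • (g0 • o) = g0 • o → d ∈ A ⊔ M := by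
    intro d hdo hdp
    obtain ⟨s, hss, hso⟩ := exists_swap D ho hp0
    have hinv := swap_inverts D ho hp0 hss hso d hdo hdp
    have hsi : s⁻¹ = s := inv_eq_of_sq hss
    have h1 : (s * d) * (s * d) = 1 := by
      calc (s * d) * (s * d) = (s * d * s) * d := by group
        _ = (s * d * s⁻¹) * d := by rw [hsi]
        _ = 1 := by rw [hinv, inv_mul_cancel]
    have h2 := hinvL _ h1
    have h3 := hinvL _ hss
    have h4 : d = s⁻¹ * (s * d) := by group
    rw [h4]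
    exact Subgroup.mul_mem _ (Subgroup.inv_mem _ h3) h2
  have hNL : N ≤ A ⊔ M := by
    intro n hn
    obtain ⟨d, hdo, hdp, a', ha', hnda⟩ := exists_factor D ho hp0 n hn
    rw [hnda]
    exact Subgroup.mul_mem _ (hstabL d hdo hdp) (hAL ha')
  have hLtop : ∀ g : G, g ∈ A ⊔ M := by
    intro g
    obtain ⟨m', hm', hn'⟩ := hfrat g
    have h1 : g = m' * (m'⁻¹ * g) := by group
    rw [h1]
    exact Subgroup.mul_mem _ (hML hm') (hNL hn')
  by_contra hMtop
  haveI := hM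
  haveI : Nontrivial (G ⧸ M) := by
    rw [← not_subsingleton_iff_nontrivial]
    intro hsub
    exact hMtop (QuotientGroup.subgroup_eq_top_of_subsingleton M hsub)
  have hsurj : Function.Surjective ((QuotientGroup.mk' M).comp A.subtype) := by
    intro q
    obtain ⟨g, rfl⟩ := QuotientGroup.mk'_surjective M q
    obtain ⟨y, hy, z, hz, rfl⟩ := Subgroup.mem_sup_of_normal_right.1 (hLtop g)
    refine ⟨⟨y, hy⟩, ?_⟩
    simp only [MonoidHom.coe_comp, Function.comp_apply, Subgroup.subtype_apply,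
      QuotientGroup.mk'_apply]
    rw [QuotientGroup.eq]
    have h1 : y⁻¹ * (y * z) = z := by group
    rw [h1]
    exact hz
  haveI : Group.IsNilpotent (G ⧸ M) := Group.nilpotent_of_surjective _ hsurj
  have hlt := Group.IsSolvable.commutator_lt_top_of_nontrivial (G ⧸ M)
  apply hlt.ne
  rw [eq_top_iff]
  intro q _
  obtain ⟨⟨y, hy⟩, rfl⟩ := hsurj q
  have hyc : y ∈ commutator G := cti_le_commutator D ho hy
  rw [commutator_def] at hyc ⊢
  have h2 : (QuotientGroup.mk' M) y ∈ Subgroup.map (QuotientGroup.mk' M) ⁅(⊤ : Subgroup G), ⊤⁆ :=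
    Subgroup.mem_map_of_mem _ hyc
  rw [Subgroup.map_commutator] at h2
  exact Subgroup.commutator_mono le_top le_top h2

theorem cti_simple (hnil : Group.IsNilpotent A) : IsSimpleGroup G := by
  obtain ⟨g0, hg0⟩ := D.ne_top
  haveI : Nontrivial G := ⟨⟨g0, 1, fun h => hg0 (by rw [h]; exact N.one_mem)⟩⟩
  refine ⟨?_⟩
  intro M hM
  by_cases hMbot : M = ⊥
  · exact Or.inl hMbot
  · exact Or.inr (cti_normal_top D ho hnil M hM hMbot)

end

end Cfsg.Agent.Lib.Helper24.CTI
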