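import Mathlib
import Cfsg.Agent.Lib.Helper24.CTIBasic
import Cfsg.Agent.Lib.Helper24.CTIPermD
import Cfsg.Agent.Lib.Helper24.CTIFree

set_option autoImplicit false

namespace Cfsg.Agent.Lib.Helper24.CTI

open Cfsg.Agent.Lib.helper6.CT

open MulAction Finset

section

variable {G : Type*} [Group G] [Finite G] {A N : Subgroup G}
  {Ω : Type*} [MulAction G Ω] [IsPretransitive G Ω] [Fintype Ω] {o : Ω}
variable (D : CTIData G A N) (ho : ∀ g : G, g • o = o ↔ g ∈ N)
include D ho

theorem cti_suz_false (h : IsCTI G) {p0 : Ω} (hp0 : o ≠ p0) (r : ℕ) (hr : 1 ≤ r)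
    (he : Nat.card ↥(stabilizer G o ⊓ stabilizer G p0 : Subgroup G) + 1 = 2 ^ r)
    (hA : Nat.card A = (2 ^ r) ^ 2)
    (hZA : Nat.card (Subgroup.center A) = 2 ^ r)
    (hna : ∃ u v : A, u * v ≠ v * u) : False := by
  classical
  obtain ⟨u, v, huv⟩ := hna
  set x : G := (u : G) with hx
  have hxA : x ∈ A := u.2
  have hx1 : x ≠ 1 := by
    intro h1
    apply huv
    have : u = 1 := Subtype.ext h1
    rw [this, one_mul, mul_one]
  set X : Subgroup G := Subgroup.centralizer ({x} : Set G) with hX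
  set Z : Subgroup G := (Subgroup.center A).map A.subtype with hZ
  have hXA : X ≤ A := by
    intro y hy
    exact D.cent x hxA hx1 y (mem_cent.1 hy).symm
  have hZmem : ∀ z : G, z ∈ Z ↔ z ∈ A ∧ ∀ a ∈ A, a * z = z * a := by
    intro z
    constructor
    · rintro ⟨z', hz', rfl⟩
      refine ⟨z'.2, ?_⟩
      intro a ha
      have := Subgroup.mem_center_iff.1 hz' ⟨a, ha⟩
      exact congrArg Subtype.val this
    · rintro ⟨hzA, hz⟩
      refine ⟨⟨z, hzA⟩, ?_, rfl⟩
      show (⟨z, hzA⟩ : A) ∈ Subgroup.center A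
      rw [Subgroup.mem_center_iff]
      intro a
      apply Subtype.ext
      exact hz a a.2
  have hZX : Z ≤ X := by
    intro z hz
    rw [hX, mem_cent]
    exact ((hZmem z).1 hz).2 x hxA
  have hxZ : x ∉ Z := by
    intro hxz
    apply huv
    apply Subtype.ext
    exact (((hZmem x).1 hxz).2 v v.2).symm
  have hxX : x ∈ X := mem_cent.2 rfl
  have hZcard : Nat.card Z = 2 ^ r := by
    rw [← hZA]
    exact Nat.card_congr
      ((Subgroup.center A).equivMapOfInjective A.subtype A.subtype_injective).symm.toEquiv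
  have hvX : (v : G) ∉ X := by
    intro hv
    apply huv
    apply Subtype.ext
    exact mem_cent.1 hv
  have hZXne : Nat.card Z ≠ Nat.card X := by
    intro hc
    have := Subgroup.eq_of_le_of_card_ge hZX (le_of_eq hc.symm)
    rw [this] at hxZ
    exact hxZ hxX
  have hXAne : Nat.card X ≠ Nat.card A := by
    intro hc
    have := Subgroup.eq_of_le_of_card_ge hXA (le_of_eq hc.symm)
    rw [this] at hvX
    exact hvX v.2
  have hXdvd : Nat.card X ∣ 2 ^ (2 * r) := by
    have := Subgroup.card_dvd_of_le hXA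
    rwa [hA, ← pow_mul, mul_comm] at this
  obtain ⟨k, hk2r, hXk⟩ := (Nat.dvd_prime_pow Nat.prime_two).1 hXdvd
  have hrk : r ≤ k := by
    have := Subgroup.card_dvd_of_le hZX
    rw [hZcard, hXk] at this
    exact (Nat.pow_dvd_pow_iff_le_right (le_refl 2)).1 this
  have hrk' : r < k := by
    rcases Nat.lt_or_ge r k with h1 | h1
    · exact h1
    · exfalso
      have : r = k := le_antisymm hrk h1
      apply hZXne
      rw [hZcard, hXk, this]
  have hk2r' : k < 2 * r := by
    rcases Nat.lt_or_ge k (2 * r) with h1 | h1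
    · exact h1
    · exfalso
      have : k = 2 * r := le_antisymm hk2r h1
      apply hXAne
      rw [hXk, hA, this, ← pow_mul, mul_comm]
  obtain ⟨z, hzZ, hz1⟩ : ∃ z ∈ Z, z ≠ 1 := by
    by_contra hcon
    push Not at hcon
    have hZbot : Z = ⊥ := by
      rw [eq_bot_iff]
      intro y hy
      rw [Subgroup.mem_bot]
      exact hcon y hy
    rw [hZbot, Subgroup.card_bot] at hZcard
    have : 2 ^ 1 ≤ 2 ^ r := Nat.pow_le_pow_right (by norm_num) hr
    omega
  set K : Subgroup G := (stabilizer G o ⊓ stabilizer G p0 : Subgroup G) with hK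
  have hKN : K ≤ N := by
    intro d hd
    exact (ho d).1 (mem_stabilizer_iff.1 (Subgroup.mem_inf.1 hd).1)
  have hZconj : ∀ n ∈ N, ∀ y ∈ Z, n * y * n⁻¹ ∈ Z := by
    intro n hn y hy
    obtain ⟨hyA, hyc⟩ := (hZmem y).1 hy
    rw [hZmem]
    refine ⟨D.norm n hn y hyA, ?_⟩
    intro a ha
    have ha' : n⁻¹ * a * n ∈ A := by
      have := D.norm n⁻¹ (N.inv_mem hn) a ha
      rwa [inv_inv] at this
    have h1 := hyc _ ha'
    calc a * (n * y * n⁻¹) = n * ((n⁻¹ * a * n) * y) * n⁻¹ := by group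
      _ = n * (y * (n⁻¹ * a * n)) * n⁻¹ := by rw [h1]
      _ = (n * y * n⁻¹) * a := by group
  have hnormX : ∀ d ∈ K, ∀ y ∈ X, d * y * d⁻¹ ∈ X := by
    intro d hd y hy
    have hxz : x * z = z * x := ((hZmem z).1 hzZ).2 x hxA
    have hz' : d * z * d⁻¹ ∈ Z := hZconj d (hKN hd) z hzZ
    have hxz' : x * (d * z * d⁻¹) = (d * z * d⁻¹) * x := ((hZmem _).1 hz').2 x hxA
    rw [hX, mem_cent]
    exact conj_comm h hz1 hxz hxz' (mem_cent.1 hy)
  have hfree : ∀ d ∈ K, d ≠ 1 → ∀ y ∈ X, y ≠ 1 → d * y * d⁻¹ ≠ y := by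
    intro d hd hd1 y hy hy1 hfix
    have hcomm : d * y = y * d := by
      calc d * y = (d * y * d⁻¹) * d := by group
        _ = y * d := by rw [hfix]
    have hdA : d ∈ A := D.cent y (hXA hy) hy1 d hcomm
    have hdp : d • p0 = p0 := mem_stabilizer_iff.1 (Subgroup.mem_inf.1 hd).2
    exact kfpf D ho d hdA hd1 p0 (Ne.symm hp0) hdp
  have hdvd := card_dvd_pred_of_free_conj K X hnormX hfree
  rw [hXk] at hdvd
  have hKcard : Nat.card K = 2 ^ r - 1 := by
    omega
  rw [hKcard] at hdvd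
  exact pow_two_dvd_contra hr hrk' hk2r' hdvd

end

end Cfsg.Agent.Lib.Helper24.CTI
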