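import Mathlib
import Cfsg.Agent.Lib.Helper24.CTIExist
import Cfsg.Agent.Lib.Helper24.CTISimple
import Cfsg.Agent.Lib.Helper24.CTISuz
import Cfsg.Agent.Lib.helper6.ZassFeitNB
import Cfsg.Agent.Lib.helper6.SuzMainE
import Cfsg.Agent.Lib.helper6.SylowPSL

set_option autoImplicit false

namespace Cfsg.Agent.Lib.Helper24.CTI

open Cfsg.Agent.Lib.helper6.CT

open MulAction Finset

universe u

theorem psl_case {G : Type u} [Group G] [Finite G] [Nontrivial G] (h : IsCTI G)
    (hF : Cfsg.fittingSubgroup G = ⊥) :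
    ∃ (F : Type) (_ : Field F) (_ : Fintype F) (f : ℕ), 2 ≤ f ∧ Fintype.card F = 2 ^ f ∧
      Nonempty (G ≃* Matrix.ProjectiveSpecialLinearGroup (Fin 2) F) := by
  classical
  obtain ⟨A, N, D, hnil⟩ := exists_ctidata h hF
  let Ω := G ⧸ N
  haveI : Fintype Ω := Fintype.ofFinite Ω
  let o : Ω := ((1 : G) : G ⧸ N)
  have ho : ∀ g : G, g • o = o ↔ g ∈ N := by
    intro g
    rw [← mem_stabilizer_iff, MulAction.stabilizer_quotient]
  haveI : IsSimpleGroup G := cti_simple D ho hnil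
  obtain ⟨g0, hg0⟩ := D.ne_top
  have hp0 : o ≠ g0 • o := by
    intro h
    exact hg0 ((ho g0).1 h.symm)
  set p0 : Ω := g0 • o with hp0def
  have Z := cti_zk D ho hp0
  obtain ⟨t, htA, ht1, htt⟩ := D.invol
  have htp0 : t • p0 ≠ p0 := kfpf D ho t htA ht1 p0 (Ne.symm hp0)
  have htp0o : t • p0 ≠ o := by
    intro h
    have h2 : t • o = o := (ho t).2 (D.le htA)
    have h3 : t • p0 = t • o := h.trans h2.symm
    exact hp0 (MulAction.injective t h3).symm
  haveI : Fintype G := Fintype.ofFinite G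
  obtain ⟨d0, hd01, hd0o, hd0p⟩ := stab_nontrivial D ho (Ne.symm hp0)
  have hfaith : FaithfulSMul G Ω := by
    constructor
    intro g₁ g₂ h
    have h1 : g₂⁻¹ * g₁ = 1 := by
      apply cti_three D ho _ o p0 (t • p0) hp0 (Ne.symm htp0) (Ne.symm htp0o)
      · rw [mul_smul, h, inv_smul_smul]
      · rw [mul_smul, h, inv_smul_smul]
      · rw [mul_smul, h, inv_smul_smul]
    calc g₁ = g₂ * (g₂⁻¹ * g₁) := by group
      _ = g₂ := by rw [h1, mul_one]
  have h2tr : IsMultiplyPretransitive G Ω 2 :=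
    MulAction.is_two_pretransitive_iff.2 (fun h1 h2 => cti_two D ho h1 h2)
  have hsimple : ∀ N : Subgroup G, N.Normal → N = ⊥ ∨ N = ⊤ := fun N hN => hN.eq_bot_or_eq_top
  have hZ : Cfsg.IsZassenhausGroup G Ω := by
    refine ⟨hfaith, h2tr, cti_three D ho, ⟨d0, hd01, o, p0, hp0, hd0o, hd0p⟩, ?_⟩
    intro N' hN' htr
    rcases hsimple N' hN' with h | h
    · exfalso
      subst h
      obtain ⟨n, hn⟩ := htr.exists_smul_eq o p0
      have : (n : G) = 1 := Subgroup.mem_bot.1 n.2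
      apply hp0
      rw [← hn, Subgroup.smul_def, this, one_smul]
    · subst h
      refine ⟨o, ?_⟩
      intro hbot
      have hmem : (⟨d0, trivial⟩ : (⊤ : Subgroup G)) ∈ (⊥ : Subgroup (⊤ : Subgroup G)) := by
        rw [← hbot, mem_stabilizer_iff]
        exact hd0o
      rw [Subgroup.mem_bot] at hmem
      exact hd01 (congrArg Subtype.val hmem)
  set e := Nat.card ↥(stabilizer G o ⊓ stabilizer G p0 : Subgroup G) with he
  have hodd : Odd e := cti_stab_odd D ho hp0
  have hcardA : Nat.card A + 1 = Fintype.card Ω := Cfsg.Agent.Lib.helper6.ZassFeit.card_KG Z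
  have hAle : A ≤ stabilizer G o := by
    intro a ha
    exact mem_stabilizer_iff.2 ((ho a).2 (D.le ha))
  have hbound : Fintype.card Ω - 2 ≤ 2 * e := by
    by_contra hd
    exfalso
    push Not at hd
    have hh : Fintype.card Ω = (Fintype.card Ω - 1) + 1 := by omega
    have hlt : 2 * e < (Fintype.card Ω - 1) - 1 := by omega
    have hHfix : ∀ u ∈ A, u ≠ 1 → ∀ c : Ω, u • c = c → c = o := by
      intro u hu hu1 c hc
      by_contra hne
      exact kfpf D ho u hu hu1 c hne hc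
    obtain ⟨hP, hna, -⟩ := Cfsg.Agent.Lib.helper6.ZassFeitNA.feit_simple hZ hp0
      (Fintype.card Ω - 1) e hh he.symm hodd hlt A hAle hcardA hHfix
    have hreg : ∀ y z : Ω, y ≠ o → z ≠ o → ∃! u : A, (u : G) • y = z := by
      intro y z hy hz
      obtain ⟨k, hk, hkyz⟩ := cti_ktr D ho y z hy hz
      refine ⟨⟨k, hk⟩, hkyz, ?_⟩
      intro u hu
      by_contra hne
      have h1 : ((k : G)⁻¹ * (u : G)) • y = y := by
        rw [mul_smul, hu, ← hkyz, inv_smul_smul]
      have h2 : (k : G)⁻¹ * (u : G) ≠ 1 := by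
        intro h
        apply hne
        apply Subtype.ext
        have : (u : G) = k * (k⁻¹ * (u : G)) := by group
        rw [this, h, mul_one]
      exact kfpf D ho _ (A.mul_mem (A.inv_mem hk) u.2) h2 y hy h1
    obtain ⟨r, -, hr1, hq, hcard, -, -, hcen⟩ :=
      Cfsg.Agent.Lib.helper6.SuzGrp.suz_main hZ hp0 A hAle hreg hP hna
    exact cti_suz_false D ho h hp0 r (by omega) hq hcard hcen hna
  have hEd : e ∣ Fintype.card Ω - 2 := Cfsg.Agent.Lib.helper6.ZassFeit.E_dvd (cti_three D ho) hp0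
  have hAeven : Even (Nat.card A) := cti_card_even D ho
  have hA2 : 2 ≤ Nat.card A := by
    obtain ⟨k, hk⟩ := hAeven
    have : 0 < Nat.card A := Nat.card_pos
    omega
  have he2 : 2 ≤ e := by
    have hpos : 0 < e := Nat.card_pos
    by_contra hlt
    have he1 : e = 1 := by omega
    have := Subgroup.card_eq_one.1 he1
    have hmem : d0 ∈ (stabilizer G o ⊓ stabilizer G p0 : Subgroup G) :=
      Subgroup.mem_inf.2 ⟨mem_stabilizer_iff.2 hd0o, mem_stabilizer_iff.2 hd0p⟩
    rw [this, Subgroup.mem_bot] at hmem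
    exact hd01 hmem
  have hcard_e : Fintype.card Ω - 2 = e := by
    obtain ⟨k, hk⟩ := hEd
    obtain ⟨j, hj⟩ := hAeven
    obtain ⟨l, hl⟩ := hodd
    have hk1 : 1 ≤ k := by
      rcases Nat.eq_zero_or_pos k with h | h
      · rw [h, mul_zero] at hk; omega
      · exact h
    have hk2 : k ≤ 2 := by
      by_contra hlt
      push Not at hlt
      have : e * 3 ≤ e * k := Nat.mul_le_mul_left e hlt
      omega
    interval_cases k
    · omega
    · exfalso
      omega
  have hpair : ∀ a b : Ω, a ≠ b →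
      Nat.card ↥(stabilizer G a ⊓ stabilizer G b : Subgroup G) + 2 = Fintype.card Ω := by
    intro a b hab
    rw [Cfsg.Agent.Lib.helper6.ZassInvol.card_pair hZ hp0 hab]
    omega
  obtain ⟨h3, hsharp⟩ := Cfsg.Agent.Lib.helper6.ZassFeit.sharp3_of_card
    (fun h1 h2 => cti_two D ho h1 h2) (cti_three D ho) hpair
  have hoddΩ : Odd (Fintype.card Ω) := by
    obtain ⟨j, hj⟩ := hAeven
    exact ⟨j, by omega⟩
  obtain ⟨F, iF, iFin, hcardF, ⟨hiso⟩⟩ :=
    Cfsg.Agent.Lib.helper6.Sharp3.sharp3_odd (G := G) (α := Ω) hoddΩ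
      (Cfsg.Agent.Lib.helper6.SuzGrp.sharp_T3 h3) (Cfsg.Agent.Lib.helper6.SuzGrp.sharp_S3 hsharp)
      (Ne.symm htp0) hp0 (Ne.symm htp0o)
  have hFeven : Fintype.card F % 2 = 0 := by
    obtain ⟨j, hj⟩ := hAeven
    omega
  have hchar : ringChar F = 2 := FiniteField.even_card_iff_char_two.mpr hFeven
  have h2F : (2 : F) = 0 := by
    have := CharP.cast_eq_zero F (ringChar F)
    rw [hchar] at this
    exact_mod_cast this
  obtain ⟨e'⟩ := Cfsg.Agent.Lib.helper6.SuzGrp.pgl_psl_char_two (F := F) h2F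
  obtain ⟨n, _, hn⟩ := FiniteField.card F (ringChar F)
  rw [hchar] at hn
  refine ⟨F, iF, iFin, (n : ℕ), ?_, hn, ⟨hiso.trans e'⟩⟩
  by_contra hlt
  have hn1 : (n : ℕ) = 1 := by
    have := n.pos
    omega
  rw [hn1, pow_one] at hn
  omega

end Cfsg.Agent.Lib.Helper24.CTI
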