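import Mathlib
import Cfsg.Agent.Lib.Helper24.Cdc1
import Cfsg.Agent.Lib.helper7.ExtUnique

set_option autoImplicit false

namespace Cfsg.Agent.Lib.Helper24

open Cfsg.Agent.Lib.helper7 Cfsg.Agent.Lib.Helper11
open scoped ComplexConjugate

variable {G : Type*} [Group G] [Fintype G]

theorem cdc_lin_inj (K : Subgroup G) [hK : K.Normal] (θ : Cfsg.IrrCharacter K)
    (hinv : ∀ (g : G) (n : K), (θ : K → ℂ) ⟨g * n * g⁻¹, hK.conj_mem (n : G) n.2 g⟩ = (θ : K → ℂ) n)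
    (χ : Cfsg.IrrCharacter G) (hext : ∀ n : K, (χ : G → ℂ) n = (θ : K → ℂ) n)
    (β β' : G →* ℂˣ) (hβ : ∀ n : K, β n = 1) (hβ' : ∀ n : K, β' n = 1)
    (h : ∀ g, ((β g : ℂˣ) : ℂ) * (χ : G → ℂ) g = ((β' g : ℂˣ) : ℂ) * (χ : G → ℂ) g) : β = β' := by
  classical
  haveI : Fintype K := Fintype.ofFinite _
  have hone : Cfsg.IsIrrCharacter K (fun _ : K => (1 : ℂ)) :=
    (Cfsg.Agent.Lib.Helper25.trivIrr K).2
  have hprod : Cfsg.IsIrrCharacter K ((fun _ : K => (1 : ℂ)) * (θ : K → ℂ)) := by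
    have : (fun _ : K => (1 : ℂ)) * (θ : K → ℂ) = (θ : K → ℂ) := by
      funext n
      simp
    rw [this]
    exact θ.2
  have hbij := Cfsg.Agent.S0856.result K (fun _ : K => (1 : ℂ)) (θ : K → ℂ) hone θ.2
    (fun _ _ => rfl) hinv hprod (χ : G → ℂ) χ.2 hext
  have hmem : ∀ η : G →* ℂˣ, (∀ n : K, η n = 1) → (afLin η : G → ℂ) ∈
      {β : G → ℂ | Cfsg.IsIrrCharacter G β ∧
        Cfsg.classInner (Cfsg.indFun K (fun _ : K => (1 : ℂ))) β ≠ 0} := by
    intro η hη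
    refine ⟨(afLin η).2, ?_⟩
    rw [h7_frobenius_irr K _ (h7_irr_isClassFunction (afLin η).2)]
    have h1 : (fun n : K => (afLin η : G → ℂ) n) = fun _ : K => (1 : ℂ) := by
      funext n
      rw [afLin_apply, hη n, Units.val_one]
    rw [h1]
    have h2 := h7_irr_norm hone
    rw [h2, map_one]
    exact one_ne_zero
  have h3 := hbij.injOn (hmem β hβ) (hmem β' hβ') (by
    funext g
    exact h g)
  apply MonoidHom.ext
  intro g
  apply Units.ext
  exact congrFun h3 g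

theorem cdc_count (K : Subgroup G) [hK : K.Normal] (hcop : (Nat.card K).Coprime K.index) :
    Nat.card {χ : Cfsg.IrrCharacter G // (Cfsg.charDegree (χ : G → ℂ)).Coprime K.index} =
      Nat.card {θ : Cfsg.IrrCharacter K // ∀ (g : G) (n : K),
        (θ : K → ℂ) ⟨g * n * g⁻¹, hK.conj_mem (n : G) n.2 g⟩ = (θ : K → ℂ) n} *
      Nat.card {β : G →* ℂˣ // ∀ n : K, β n = 1} := by
  classical
  haveI : Fintype K := Fintype.ofFinite _
  rw [← Nat.card_prod]
  symm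
  have hex := fun θ : {θ : Cfsg.IrrCharacter K // ∀ (g : G) (n : K),
        (θ : K → ℂ) ⟨g * n * g⁻¹, hK.conj_mem (n : G) n.2 g⟩ = (θ : K → ℂ) n} =>
    cdc_ext_exists K hcop θ.1 θ.2
  choose ext hext using hex
  have hdeg : ∀ (θ : {θ : Cfsg.IrrCharacter K // ∀ (g : G) (n : K),
        (θ : K → ℂ) ⟨g * n * g⁻¹, hK.conj_mem (n : G) n.2 g⟩ = (θ : K → ℂ) n}) (β : G →* ℂˣ),
      (Cfsg.charDegree (afSmul β (ext θ) : G → ℂ)).Coprime K.index := by
    intro θ β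
    rw [afSmul_degree]
    have h1 : Cfsg.charDegree (ext θ : G → ℂ) = Cfsg.charDegree (θ.1 : K → ℂ) := by
      unfold Cfsg.charDegree
      have := hext θ 1
      rw [OneMemClass.coe_one] at this
      rw [this]
    rw [h1]
    exact Nat.Coprime.coprime_dvd_left (cdc_degree_dvd θ.1) hcop
  apply Nat.card_congr
  refine Equiv.ofBijective (fun x => ⟨afSmul x.2.1 (ext x.1), hdeg x.1 x.2.1⟩) ⟨?_, ?_⟩
  · rintro ⟨θ, β⟩ ⟨θ', β'⟩ h
    have h1 : ∀ g, (afSmul β.1 (ext θ) : G → ℂ) g = (afSmul β'.1 (ext θ') : G → ℂ) g := by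
      intro g
      exact congrFun (congrArg Subtype.val (congrArg Subtype.val h)) g
    have hθ : θ = θ' := by
      apply Subtype.ext
      apply Subtype.ext
      funext n
      have := h1 n
      rw [afSmul_apply, afSmul_apply, β.2 n, β'.2 n, Units.val_one, one_mul, one_mul, hext, hext] at this
      exact this
    subst hθ
    have hβ : β = β' := by
      apply Subtype.ext
      apply cdc_lin_inj K θ.1 θ.2 (ext θ) (hext θ) β.1 β'.1 β.2 β'.2
      intro g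
      exact h1 g
    rw [hβ]
  · intro χ
    have hθirr := cdc_restrict_irr K χ.1 χ.2
    have hθinv : ∀ (g : G) (n : K),
        (fun n : K => (χ.1 : G → ℂ) n) ⟨g * n * g⁻¹, hK.conj_mem (n : G) n.2 g⟩ =
        (fun n : K => (χ.1 : G → ℂ) n) n := by
      intro g n
      exact Cfsg.Agent.Lib.Helper25.irr_conj_invariant χ.1 n g
    let θ : {θ : Cfsg.IrrCharacter K // ∀ (g : G) (n : K),
        (θ : K → ℂ) ⟨g * n * g⁻¹, hK.conj_mem (n : G) n.2 g⟩ = (θ : K → ℂ) n} :=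
      ⟨⟨fun n : K => (χ.1 : G → ℂ) n, hθirr⟩, hθinv⟩
    obtain ⟨n₀, ρ, hρirr, hρ⟩ := hθirr
    obtain ⟨n₁, σ₁, _, hσ₁⟩ := (ext θ).2
    obtain ⟨n₂, σ₂, _, hσ₂⟩ := χ.1.2
    haveI := hρirr
    have e1 : ∀ n : K, σ₁.character (n : G) = ρ.character n := by
      intro n
      rw [hσ₁, hρ]
      exact hext θ n
    have e2 : ∀ n : K, σ₂.character (n : G) = ρ.character n := by
      intro n
      rw [hσ₂, hρ]
    obtain ⟨β, hβK, hβ, _⟩ := h7_extensions_differ K ρ σ₁ σ₂ e1 e2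
    refine ⟨(θ, ⟨β, hβK⟩), ?_⟩
    apply Subtype.ext
    apply Subtype.ext
    funext g
    show (afSmul β (ext θ) : G → ℂ) g = (χ.1 : G → ℂ) g
    rw [afSmul_apply, ← hσ₁, ← hσ₂]
    exact (hβ g).symm

end Cfsg.Agent.Lib.Helper24
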