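import Mathlib
import Cfsg.Agent.Lib.Helper24.Cdc2

set_option autoImplicit false

namespace Cfsg.Agent.Lib.Helper24

open Cfsg.Agent.Lib.helper7 Cfsg.Agent.Lib.Helper11
open scoped ComplexConjugate Pointwise

variable {G : Type*} [Group G]

theorem cdc_mul_eq (K H : Subgroup G) [hK : K.Normal] (hsup : K ⊔ H = ⊤) (g : G) :
    ∃ k ∈ K, ∃ h ∈ H, k * h = g := by
  have h1 : g ∈ ((K ⊔ H : Subgroup G) : Set G) := by
    rw [hsup]
    exact Set.mem_univ g
  rw [Subgroup.normal_mul] at h1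
  obtain ⟨k, hk, h, hh, rfl⟩ := Set.mem_mul.mp h1
  exact ⟨k, hk, h, hh, rfl⟩

theorem cdc_index (K H : Subgroup G) [hK : K.Normal] (hinf : K ⊓ H = ⊥) (hsup : K ⊔ H = ⊤) :
    K.index = Nat.card H := by
  have hc : Subgroup.IsComplement' H K := by
    apply Subgroup.isComplement'_of_disjoint_and_mul_eq_univ
    · rw [disjoint_iff, inf_comm]
      exact hinf
    · rw [← Subgroup.mul_normal, sup_comm, hsup]
      rfl
  exact hc.index_eq_card

noncomputable def cdcQuotEquiv (K H : Subgroup G) [hK : K.Normal] (hinf : K ⊓ H = ⊥)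
    (hsup : K ⊔ H = ⊤) : H ≃* G ⧸ K :=
  MulEquiv.ofBijective ((QuotientGroup.mk' K).comp H.subtype) (by
    constructor
    · rw [injective_iff_map_eq_one]
      intro h hh
      have h1 : (h : G) ∈ K := by
        have : ((h : G) : G ⧸ K) = 1 := hh
        exact (QuotientGroup.eq_one_iff _).mp this
      have h2 : (h : G) ∈ K ⊓ H := ⟨h1, h.2⟩
      rw [hinf, Subgroup.mem_bot] at h2
      exact Subtype.ext h2
    · intro q
      obtain ⟨g, rfl⟩ := QuotientGroup.mk_surjective q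
      obtain ⟨k, hk, h, hh, rfl⟩ := cdc_mul_eq K H hsup g
      refine ⟨⟨h, hh⟩, ?_⟩
      show ((h : G) : G ⧸ K) = ((k * h : G) : G ⧸ K)
      rw [QuotientGroup.mk_mul, (QuotientGroup.eq_one_iff k).mpr hk, one_mul])

theorem cdcQuotEquiv_apply (K H : Subgroup G) [hK : K.Normal] (hinf : K ⊓ H = ⊥)
    (hsup : K ⊔ H = ⊤) (h : H) : cdcQuotEquiv K H hinf hsup h = ((h : G) : G ⧸ K) := rfl

theorem cdc_lin_card (K H : Subgroup G) [hK : K.Normal] (hinf : K ⊓ H = ⊥) (hsup : K ⊔ H = ⊤) :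
    Nat.card {β : G →* ℂˣ // ∀ n : K, β n = 1} = Nat.card (H →* ℂˣ) := by
  apply Nat.card_congr
  refine Equiv.ofBijective (fun β => β.1.comp H.subtype) ⟨?_, ?_⟩
  · intro β β' h
    apply Subtype.ext
    apply MonoidHom.ext
    intro g
    obtain ⟨k, hk, h', hh, rfl⟩ := cdc_mul_eq K H hsup g
    rw [map_mul, map_mul, β.2 ⟨k, hk⟩, β'.2 ⟨k, hk⟩]
    have := congrArg (fun f : H →* ℂˣ => f ⟨h', hh⟩) h
    simp only [MonoidHom.comp_apply, Subgroup.subtype_apply] at this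
    rw [this]
  · intro μ
    let e := cdcQuotEquiv K H hinf hsup
    let β : G →* ℂˣ := (μ.comp e.symm.toMonoidHom).comp (QuotientGroup.mk' K)
    have hβK : ∀ n : K, β n = 1 := by
      intro n
      show μ (e.symm ((n : G) : G ⧸ K)) = 1
      rw [(QuotientGroup.eq_one_iff (n : G)).mpr n.2, map_one, map_one]
    refine ⟨⟨β, hβK⟩, ?_⟩
    apply MonoidHom.ext
    intro h
    show μ (e.symm ((h : G) : G ⧸ K)) = μ h
    rw [← cdcQuotEquiv_apply K H hinf hsup h]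
    show μ (e.symm (e h)) = μ h
    rw [MulEquiv.symm_apply_apply]

theorem cdc_inv_iff (K H : Subgroup G) [hK : K.Normal] (hsup : K ⊔ H = ⊤) (θ : Cfsg.IrrCharacter K) :
    (∀ (g : G) (n : K), (θ : K → ℂ) ⟨g * n * g⁻¹, hK.conj_mem (n : G) n.2 g⟩ = (θ : K → ℂ) n) ↔
    (∀ (h : H) (n : K), (θ : K → ℂ) ⟨(h : G) * n * (h : G)⁻¹, hK.conj_mem (n : G) n.2 h⟩ =
      (θ : K → ℂ) n) := by
  constructor
  · intro h1 h n
    exact h1 h n
  · intro h1 g n
    obtain ⟨k, hk, h, hh, rfl⟩ := cdc_mul_eq K H hsup g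
    have h2 := h1 ⟨h, hh⟩ n
    rw [← h2]
    have h3 := Cfsg.Agent.Lib.Helper25.irr_conj_invariant θ
      ⟨h * n * h⁻¹, hK.conj_mem (n : G) n.2 h⟩ ⟨k, hk⟩
    rw [← h3]
    refine congrArg (θ : K → ℂ) (Subtype.ext ?_)
    simp only [Subgroup.coe_mul, Subgroup.coe_inv]
    group

theorem cdc_main [Fintype G] (K H : Subgroup G) [hK : K.Normal] (hinf : K ⊓ H = ⊥)
    (hsup : K ⊔ H = ⊤) (hcop : (Nat.card K).Coprime (Nat.card H)) :
    Nat.card {χ : Cfsg.IrrCharacter G // (Cfsg.charDegree (χ : G → ℂ)).Coprime (Nat.card H)} =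
      Nat.card {θ : Cfsg.IrrCharacter K // ∀ (h : H) (n : K),
        (θ : K → ℂ) ⟨(h : G) * n * (h : G)⁻¹, hK.conj_mem (n : G) n.2 h⟩ = (θ : K → ℂ) n} *
      Nat.card (H →* ℂˣ) := by
  have hidx := cdc_index K H hinf hsup
  have h1 := cdc_count K (by rw [hidx]; exact hcop)
  rw [hidx] at h1
  rw [h1, cdc_lin_card K H hinf hsup]
  congr 1
  apply Nat.card_congr
  apply Equiv.subtypeEquivRight
  intro θ
  exact cdc_inv_iff K H hsup θ

end Cfsg.Agent.Lib.Helper24
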