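import Mathlib

set_option autoImplicit false

namespace Cfsg.Agent.Lib.Helper24

variable (p : ℕ) [NeZero p]

def glcD (v : ZMod p → ℤ) : ℤ := (p : ℤ) * ∑ j : ZMod p, v j ^ 2 - (∑ j : ZMod p, v j) ^ 2

theorem glcD_const (v : ZMod p → ℤ) (t : ℤ) (h : ∀ j, v j = t) : glcD p v = 0 := by
  unfold glcD
  simp_rw [h]
  rw [Finset.sum_const, Finset.sum_const, Finset.card_univ, ZMod.card]
  simp only [nsmul_eq_mul]
  ring

theorem glcD_eq (v : ZMod p → ℤ) (t : ℤ) :
    glcD p v = (p : ℤ) * ∑ j : ZMod p, (v j - t) ^ 2 - (∑ j : ZMod p, (v j - t)) ^ 2 := by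
  unfold glcD
  have h1 : ∑ j : ZMod p, (v j - t) = ∑ j : ZMod p, v j - (p : ℤ) * t := by
    rw [Finset.sum_sub_distrib, Finset.sum_const, Finset.card_univ, ZMod.card, nsmul_eq_mul]
  have h2 : ∑ j : ZMod p, (v j - t) ^ 2 =
      ∑ j : ZMod p, v j ^ 2 - 2 * t * ∑ j : ZMod p, v j + (p : ℤ) * t ^ 2 := by
    have : ∀ j : ZMod p, (v j - t) ^ 2 = v j ^ 2 - 2 * t * v j + t ^ 2 := by
      intro j; ring
    simp_rw [this]
    rw [Finset.sum_add_distrib, Finset.sum_sub_distrib, ← Finset.mul_sum, Finset.sum_const,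
      Finset.card_univ, ZMod.card, nsmul_eq_mul]
  rw [h1, h2]
  ring

theorem glcD_nonneg (v : ZMod p → ℤ) : 0 ≤ glcD p v := by
  unfold glcD
  have := sq_sum_le_card_mul_sum_sq (s := (Finset.univ : Finset (ZMod p))) (f := v)
  rw [Finset.card_univ, ZMod.card] at this
  linarith

theorem glcD_ge (v : ZMod p → ℤ) (j₀ j₁ : ZMod p) (h : v j₀ ≠ v j₁) : (p : ℤ) - 1 ≤ glcD p v := by
  classical
  rw [glcD_eq p v (v j₀)]
  set w : ZMod p → ℤ := fun j => v j - v j₀ with hw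
  set s : Finset (ZMod p) := Finset.univ.filter (fun j => w j ≠ 0) with hs
  have h0 : w j₀ = 0 := by simp [hw]
  have h1 : w j₁ ≠ 0 := by
    simp only [hw]
    intro h'
    exact h (sub_eq_zero.mp h').symm
  have hS1 : ∑ j : ZMod p, w j = ∑ j ∈ s, w j := by
    rw [hs, Finset.sum_filter_ne_zero]
  have hS2 : ∑ j : ZMod p, w j ^ 2 = ∑ j ∈ s, w j ^ 2 := by
    symm
    apply Finset.sum_subset (Finset.subset_univ s)
    intro j _ hj
    rw [hs, Finset.mem_filter] at hj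
    have : w j = 0 := by
      by_contra h'
      exact hj ⟨Finset.mem_univ _, h'⟩
    rw [this]
    ring
  have hcs := sq_sum_le_card_mul_sum_sq (s := s) (f := w)
  have hk1 : 1 ≤ s.card := by
    apply Finset.card_pos.mpr
    exact ⟨j₁, by rw [hs, Finset.mem_filter]; exact ⟨Finset.mem_univ _, h1⟩⟩
  have hk2 : s.card + 1 ≤ p := by
    have : s ⊂ Finset.univ := by
      rw [Finset.ssubset_univ_iff]
      intro h'
      have : j₀ ∈ s := by rw [h']; exact Finset.mem_univ _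
      rw [hs, Finset.mem_filter] at this
      exact this.2 h0
    have := Finset.card_lt_card this
    rw [Finset.card_univ, ZMod.card] at this
    omega
  have hge : (s.card : ℤ) ≤ ∑ j ∈ s, w j ^ 2 := by
    have : ∀ j ∈ s, (1 : ℤ) ≤ w j ^ 2 := by
      intro j hj
      rw [hs, Finset.mem_filter] at hj
      have := hj.2
      have h2 : 0 < w j ^ 2 := by positivity
      omega
    have := Finset.card_nsmul_le_sum s (fun j => w j ^ 2) 1 this
    simpa using this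
  show (p : ℤ) - 1 ≤ (p : ℤ) * ∑ j : ZMod p, w j ^ 2 - (∑ j : ZMod p, w j) ^ 2
  rw [hS1, hS2]
  set S2 := ∑ j ∈ s, w j ^ 2 with hS2def
  set S1 := ∑ j ∈ s, w j with hS1def
  have hk1' : (1 : ℤ) ≤ (s.card : ℤ) := by exact_mod_cast hk1
  have hk2' : (s.card : ℤ) + 1 ≤ (p : ℤ) := by exact_mod_cast hk2
  have hcs' : S1 ^ 2 ≤ (s.card : ℤ) * S2 := by exact_mod_cast hcs
  nlinarith [mul_nonneg (sub_nonneg.mpr hk1') (sub_nonneg.mpr hk2'),
    mul_nonneg (sub_nonneg.mpr hk2') (sub_nonneg.mpr hge)]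

end Cfsg.Agent.Lib.Helper24
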