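import Mathlib
import Cfsg.Agent.Lib.Helper24.Glc4

set_option autoImplicit false

namespace Cfsg.Agent.Lib.Helper24

theorem glc_comb_main {B : Type*} [Fintype B] [DecidableEq B] (p : ℕ) [hp : Fact p.Prime]
    (a : B → ZMod p → ℕ)
    (hsum : ∑ β : B, glcD p (fun j => (a β j : ℤ)) = (p : ℤ) - 1) :
    ∃ β₀ : B, (¬ (p : ℤ) ∣ ∑ j : ZMod p, (a β₀ j : ℤ)) ∧
      ((∑ j : ZMod p, (a β₀ j : ℤ)) ≡ 1 [ZMOD p] ∨ (∑ j : ZMod p, (a β₀ j : ℤ)) ≡ -1 [ZMOD p]) ∧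
      (∀ β, β ≠ β₀ → ∃ t : ℕ, ∀ j, a β j = t) := by
  have hp2 : (2 : ℤ) ≤ (p : ℤ) := by exact_mod_cast hp.out.two_le
  have hnonconst : ∀ β : B, glcD p (fun j => (a β j : ℤ)) ≠ 0 →
      (p : ℤ) - 1 ≤ glcD p (fun j => (a β j : ℤ)) := by
    intro β hβ
    by_contra hlt
    apply hβ
    apply glcD_const p _ ((a β 0 : ℕ) : ℤ)
    intro j
    by_contra hj
    exact hlt (glcD_ge p (fun j => (a β j : ℤ)) j 0 hj)
  have hex : ∃ β₀ : B, glcD p (fun j => (a β₀ j : ℤ)) ≠ 0 := by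
    by_contra hcon
    push Not at hcon
    rw [Finset.sum_congr rfl (fun β _ => hcon β), Finset.sum_const_zero] at hsum
    omega
  obtain ⟨β₀, hβ₀⟩ := hex
  have h1 := hnonconst β₀ hβ₀
  rw [← Finset.add_sum_erase Finset.univ _ (Finset.mem_univ β₀)] at hsum
  have hnn : 0 ≤ ∑ β ∈ Finset.univ.erase β₀, glcD p (fun j => (a β j : ℤ)) :=
    Finset.sum_nonneg (fun β _ => glcD_nonneg p _)
  have hD0 : glcD p (fun j => (a β₀ j : ℤ)) = (p : ℤ) - 1 := by omega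
  have hrest : ∑ β ∈ Finset.univ.erase β₀, glcD p (fun j => (a β j : ℤ)) = 0 := by omega
  have hzero : ∀ β, β ≠ β₀ → glcD p (fun j => (a β j : ℤ)) = 0 := by
    intro β hβ
    exact (Finset.sum_eq_zero_iff_of_nonneg (fun β _ => glcD_nonneg p _)).mp hrest β
      (Finset.mem_erase.mpr ⟨hβ, Finset.mem_univ _⟩)
  refine ⟨β₀, ?_, ?_, ?_⟩
  · intro hdvd
    unfold glcD at hD0
    have h2 : (p : ℤ) ∣ (∑ j : ZMod p, (a β₀ j : ℤ)) ^ 2 := dvd_pow hdvd (by norm_num)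
    have h3 : (p : ℤ) ∣ (p : ℤ) * ∑ j : ZMod p, (a β₀ j : ℤ) ^ 2 := dvd_mul_right _ _
    have h4 : (p : ℤ) ∣ (p : ℤ) - 1 := by
      rw [← hD0]
      exact dvd_sub h3 h2
    have h5 : (p : ℤ) ∣ 1 := by
      have := dvd_sub (dvd_refl (p : ℤ)) h4
      simpa using this
    have := Int.le_of_dvd (by norm_num) h5
    omega
  · unfold glcD at hD0
    set m := ∑ j : ZMod p, (a β₀ j : ℤ) with hm
    have h2 : (p : ℤ) ∣ (m - 1) * (m + 1) := by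
      refine ⟨∑ j : ZMod p, (a β₀ j : ℤ) ^ 2 - 1, ?_⟩
      linarith
    have hprime : Prime (p : ℤ) := Nat.prime_iff_prime_int.mp hp.out
    rcases hprime.dvd_or_dvd h2 with h3 | h3
    · left
      exact (Int.modEq_iff_dvd.mpr (by
        have : (1 : ℤ) - m = -(m - 1) := by ring
        rw [this]
        exact (dvd_neg.mpr h3)))
    · right
      exact (Int.modEq_iff_dvd.mpr (by
        have : (-1 : ℤ) - m = -(m + 1) := by ring
        rw [this]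
        exact (dvd_neg.mpr h3)))
  · intro β hβ
    refine ⟨a β 0, ?_⟩
    intro j
    by_contra hj
    have hj' : (fun j => (a β j : ℤ)) j ≠ (fun j => (a β j : ℤ)) 0 := by
      simp only
      exact_mod_cast hj
    have := glcD_ge p (fun j => (a β j : ℤ)) j 0 hj'
    rw [hzero β hβ] at this
    omega

theorem glc_comb_pair {B : Type*} [Fintype B] [DecidableEq B] (p : ℕ) [hp : Fact p.Prime]
    (a a' : B → ZMod p → ℕ) (β₀ : B)
    (hc : ∀ β, β ≠ β₀ → ∃ t : ℕ, ∀ j, a β j = t) (hc' : ∀ β, β ≠ β₀ → ∃ t : ℕ, ∀ j, a' β j = t)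
    (hm : ¬ (p : ℤ) ∣ ∑ j : ZMod p, (a β₀ j : ℤ)) (hm' : ¬ (p : ℤ) ∣ ∑ j : ZMod p, (a' β₀ j : ℤ)) :
    ∑ β : B, ((p : ℤ) * ∑ j : ZMod p, (a β j : ℤ) * (a' β j : ℤ) -
      (∑ j : ZMod p, (a β j : ℤ)) * (∑ j : ZMod p, (a' β j : ℤ))) ≠ 0 := by
  intro h0
  rw [← Finset.add_sum_erase Finset.univ _ (Finset.mem_univ β₀)] at h0
  have hrest : ∑ β ∈ Finset.univ.erase β₀, ((p : ℤ) * ∑ j : ZMod p, (a β j : ℤ) * (a' β j : ℤ) -
      (∑ j : ZMod p, (a β j : ℤ)) * (∑ j : ZMod p, (a' β j : ℤ))) = 0 := by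
    apply Finset.sum_eq_zero
    intro β hβ
    have hne := Finset.ne_of_mem_erase hβ
    obtain ⟨t, ht⟩ := hc β hne
    obtain ⟨t', ht'⟩ := hc' β hne
    simp_rw [ht, ht']
    rw [Finset.sum_const, Finset.sum_const, Finset.sum_const, Finset.card_univ, ZMod.card]
    simp only [nsmul_eq_mul]
    ring
  rw [hrest, add_zero] at h0
  have h1 : (p : ℤ) ∣ (∑ j : ZMod p, (a β₀ j : ℤ)) * (∑ j : ZMod p, (a' β₀ j : ℤ)) := by
    refine ⟨∑ j : ZMod p, (a β₀ j : ℤ) * (a' β₀ j : ℤ), ?_⟩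
    linarith
  have hprime : Prime (p : ℤ) := Nat.prime_iff_prime_int.mp hp.out
  rcases hprime.dvd_or_dvd h1 with h | h
  · exact hm h
  · exact hm' h

end Cfsg.Agent.Lib.Helper24
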