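import Mathlib

set_option autoImplicit false

namespace Cfsg.Agent.Lib.Helper24

variable {G : Type*} [Group G]

def glcFix (γ : MulAut G) : Subgroup G where
  carrier := {g | γ g = g}
  one_mem' := map_one γ
  mul_mem' := by
    intro a b ha hb
    show γ (a * b) = a * b
    rw [map_mul, ha, hb]
  inv_mem' := by
    intro a ha
    show γ a⁻¹ = a⁻¹
    rw [map_inv, ha]

theorem glc_mem_fix (γ : MulAut G) (g : G) : g ∈ glcFix γ ↔ γ g = g := Iff.rfl

theorem glc_pow_fix (γ : MulAut G) (g : G) (h : γ g = g) (k : ℕ) : (γ ^ k) g = g := by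
  induction k with
  | zero => simp
  | succ k ih => rw [pow_succ, MulAut.mul_apply, h, ih]

theorem glc_fix_pow_eq (p : ℕ) [hp : Fact p.Prime] (α : MulAut G) (hα : α ^ p = 1) (i : ℕ)
    (hi : ¬ p ∣ i) : glcFix (α ^ i) = glcFix α := by
  ext g
  rw [glc_mem_fix, glc_mem_fix]
  constructor
  · intro h
    have hcop : Nat.Coprime i p := ((Nat.Prime.coprime_iff_not_dvd hp.out).mpr hi).symm
    obtain ⟨m, hm⟩ := Nat.exists_mul_mod_eq_one_of_coprime hcop hp.out.one_lt
    have h1 : (α ^ i) ^ m = α := by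
      rw [← pow_mul]
      have : i * m = 1 + p * (i * m / p) := by
        have := Nat.mod_add_div (i * m) p
        omega
      rw [this, pow_add, pow_mul, hα, one_pow, mul_one, pow_one]
    have h2 := glc_pow_fix (α ^ i) g h m
    rwa [h1] at h2
  · intro h
    exact glc_pow_fix α g h i

theorem glc_stab [Finite G] (p : ℕ) [hp : Fact p.Prime] (hpG : ¬ p ∣ Nat.card G) (γ : MulAut G)
    (hγ : γ ^ p = 1) (c h : G) (hc : γ c = c) (hh : h * c * (γ h)⁻¹ = c) : γ h = h := by
  have h1 : γ h = c⁻¹ * h * c := by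
    have : h * c = c * γ h := by
      have := congrArg (· * γ h) hh
      simpa [mul_assoc] using this
    rw [mul_assoc, this]
    group
  have h2 : ∀ k : ℕ, (γ ^ k) h = (c ^ k)⁻¹ * h * c ^ k := by
    intro k
    induction k with
    | zero => simp
    | succ k ih =>
      rw [pow_succ', MulAut.mul_apply, ih, map_mul, map_mul, map_inv, map_pow, hc, h1, pow_succ]
      group
  have h3 := h2 p
  rw [hγ, MulAut.one_apply] at h3
  have h4 : Commute h (c ^ p) := by
    have : c ^ p * h = h * c ^ p := by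
      have := congrArg (c ^ p * ·) h3
      simpa [mul_assoc] using this
    exact this.symm
  have hcop : Nat.Coprime (orderOf c) p := by
    have hd : orderOf c ∣ Nat.card G := orderOf_dvd_natCard c
    have : Nat.Coprime (Nat.card G) p := ((Nat.Prime.coprime_iff_not_dvd hp.out).mpr hpG).symm
    exact Nat.Coprime.coprime_dvd_left hd this
  have h5 : Commute h c := by
    obtain ⟨m, hm⟩ := exists_pow_eq_self_of_coprime hcop.symm
    have := h4.pow_right m
    rwa [hm] at this
  rw [h1, mul_assoc, h5.eq, ← mul_assoc, inv_mul_cancel, one_mul]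

theorem glc_tw_fix [Finite G] (p : ℕ) [hp : Fact p.Prime] (hpG : ¬ p ∣ Nat.card G) (γ : MulAut G)
    (hγ : γ ^ p = 1) (c c₀ k : G) (hc : γ c = c) (hc₀ : γ c₀ = c₀)
    (hk : k * c * (γ k)⁻¹ = c₀) : γ k = k := by
  set w := (γ k)⁻¹ * k with hw
  have h1 : γ k * c * (γ (γ k))⁻¹ = c₀ := by
    have := congrArg γ hk
    rwa [map_mul, map_mul, map_inv, hc, hc₀] at this
  have h2 : w * c * (γ w)⁻¹ = c := by
    have e1 : c = k⁻¹ * c₀ * γ k := by rw [← hk]; group
    have e2 : c = (γ k)⁻¹ * c₀ * γ (γ k) := by rw [← h1]; group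
    rw [hw, map_mul, map_inv]
    calc (γ k)⁻¹ * k * c * ((γ (γ k))⁻¹ * γ k)⁻¹ = (γ k)⁻¹ * (k * c * (γ k)⁻¹) * γ (γ k) := by group
      _ = (γ k)⁻¹ * c₀ * γ (γ k) := by rw [hk]
      _ = c := e2.symm
  have h3 : γ w = w := glc_stab p hpG γ hγ c w hc h2
  have h4 : ∀ n : ℕ, (γ ^ n) k = k * (w ^ n)⁻¹ := by
    intro n
    induction n with
    | zero => simp
    | succ n ih =>
      rw [pow_succ', MulAut.mul_apply, ih, map_mul, map_inv, map_pow, h3]
      have : γ k = k * w⁻¹ := by rw [hw]; group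
      rw [this, pow_succ]
      group
  have h5 := h4 p
  rw [hγ, MulAut.one_apply] at h5
  have h6 : w ^ p = 1 := by
    have := congrArg (k⁻¹ * ·) h5
    simp only [inv_mul_cancel, inv_mul_cancel_left] at this
    exact inv_eq_one.mp this.symm
  have hcop : Nat.Coprime (orderOf w) p := by
    have hd : orderOf w ∣ Nat.card G := orderOf_dvd_natCard w
    have : Nat.Coprime (Nat.card G) p := ((Nat.Prime.coprime_iff_not_dvd hp.out).mpr hpG).symm
    exact Nat.Coprime.coprime_dvd_left hd this
  have h7 : w = 1 := by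
    have hd : orderOf w ∣ p := orderOf_dvd_of_pow_eq_one h6
    have : orderOf w = 1 := Nat.eq_one_of_dvd_coprimes hcop dvd_rfl hd
    exact orderOf_eq_one_iff.mp this
  rw [hw] at h7
  have := congrArg (γ k * ·) h7
  simpa using this.symm

end Cfsg.Agent.Lib.Helper24
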