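import Mathlib
import Cfsg.Agent.Lib.Helper24.Glc1

set_option autoImplicit false

namespace Cfsg.Agent.Lib.Helper24

variable {G : Type*} [Group G]

def glcPhi (γ : MulAut G) (x : G × glcFix γ) : G := x.1 * (x.2 : G) * (γ x.1)⁻¹

theorem glc_fiber_card [Fintype G] [DecidableEq G] (p : ℕ) [hp : Fact p.Prime] (hpG : ¬ p ∣ Nat.card G)
    (γ : MulAut G) (hγ : γ ^ p = 1) [Fintype (glcFix γ)] (h₀ : G) (c₀ : glcFix γ) :
    (Finset.univ.filter (fun x : G × glcFix γ => glcPhi γ x = glcPhi γ (h₀, c₀))).card =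
      Fintype.card (glcFix γ) := by
  symm
  rw [← Finset.card_univ]
  apply Finset.card_bij (fun (k : glcFix γ) _ => ((h₀ * (k : G)⁻¹, k * c₀ * k⁻¹) : G × glcFix γ))
  · intro k _
    rw [Finset.mem_filter]
    refine ⟨Finset.mem_univ _, ?_⟩
    unfold glcPhi
    have hk : γ (k : G) = k := k.2
    simp only [Subgroup.coe_mul, Subgroup.coe_inv, map_mul, map_inv, hk]
    group
  · intro k₁ _ k₂ _ h
    have h1 := congrArg Prod.fst h
    simp only at h1
    have h2 : ((k₁ : G))⁻¹ = (k₂ : G)⁻¹ := mul_left_cancel h1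
    exact Subtype.ext (inv_injective h2)
  · intro x hx
    rw [Finset.mem_filter] at hx
    have hx2 := hx.2
    unfold glcPhi at hx2
    obtain ⟨h, c⟩ := x
    simp only at hx2
    have hc : γ (c : G) = c := c.2
    have hc₀ : γ (c₀ : G) = c₀ := c₀.2
    have hk1 : (h⁻¹ * h₀) * (c₀ : G) * (γ (h⁻¹ * h₀))⁻¹ = c := by
      rw [map_mul, map_inv]
      calc h⁻¹ * h₀ * (c₀ : G) * ((γ h)⁻¹ * γ h₀)⁻¹
          = h⁻¹ * (h₀ * (c₀ : G) * (γ h₀)⁻¹) * γ h := by group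
        _ = h⁻¹ * (h * (c : G) * (γ h)⁻¹) * γ h := by rw [hx2]
        _ = c := by group
    have hk : γ (h⁻¹ * h₀) = h⁻¹ * h₀ := glc_tw_fix p hpG γ hγ c₀ c (h⁻¹ * h₀) hc₀ hc hk1
    refine ⟨⟨h⁻¹ * h₀, hk⟩, Finset.mem_univ _, ?_⟩
    apply Prod.ext
    · simp
    · apply Subtype.ext
      simp only [Subgroup.coe_mul, Subgroup.coe_inv]
      rw [hk] at hk1
      exact hk1

end Cfsg.Agent.Lib.Helper24
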