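import Mathlib
import Cfsg.Agent.Lib.Helper24.Glc1b

set_option autoImplicit false

namespace Cfsg.Agent.Lib.Helper24

variable {G : Type*} [Group G]

theorem glc_phi_surj [Fintype G] [DecidableEq G] (p : ℕ) [hp : Fact p.Prime] (hpG : ¬ p ∣ Nat.card G)
    (γ : MulAut G) (hγ : γ ^ p = 1) [Fintype (glcFix γ)] (g₀ : G) :
    ∃ x : G × glcFix γ, glcPhi γ x = g₀ := by
  by_contra hcon
  have hcon' : ∀ x : G × glcFix γ, glcPhi γ x ≠ g₀ := fun x hx => hcon ⟨x, hx⟩
  have hle : ∀ g : G, (Finset.univ.filter (fun x : G × glcFix γ => glcPhi γ x = g)).card ≤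
      Fintype.card (glcFix γ) := by
    intro g
    by_cases hg : ∃ x : G × glcFix γ, glcPhi γ x = g
    · obtain ⟨⟨h₀, c₀⟩, hx⟩ := hg
      rw [← hx, glc_fiber_card p hpG γ hγ h₀ c₀]
    · have : (Finset.univ.filter (fun x : G × glcFix γ => glcPhi γ x = g)) = ∅ := by
        apply Finset.filter_eq_empty_iff.mpr
        intro x _ hx
        exact hg ⟨x, hx⟩
      rw [this, Finset.card_empty]
      exact Nat.zero_le _
  have h0 : (Finset.univ.filter (fun x : G × glcFix γ => glcPhi γ x = g₀)).card = 0 := by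
    rw [Finset.card_eq_zero]
    apply Finset.filter_eq_empty_iff.mpr
    intro x _ hx
    exact hcon' x hx
  have hsum : (Finset.univ : Finset (G × glcFix γ)).card =
      ∑ g : G, (Finset.univ.filter (fun x : G × glcFix γ => glcPhi γ x = g)).card :=
    Finset.card_eq_sum_card_fiberwise (fun x _ => Finset.mem_univ _)
  rw [← Finset.sum_erase (s := Finset.univ) (f := fun g : G => (Finset.univ.filter (fun x : G × glcFix γ => glcPhi γ x = g)).card) (a := g₀) h0] at hsum
  have hb : ∑ g ∈ (Finset.univ : Finset G).erase g₀,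
      (Finset.univ.filter (fun x : G × glcFix γ => glcPhi γ x = g)).card ≤
      ((Finset.univ : Finset G).erase g₀).card • Fintype.card (glcFix γ) :=
    Finset.sum_le_card_nsmul _ _ _ (fun g _ => hle g)
  rw [Finset.card_erase_of_mem (Finset.mem_univ _), Finset.card_univ, smul_eq_mul] at hb
  rw [Finset.card_univ, Fintype.card_prod] at hsum
  have hG : 0 < Fintype.card G := Fintype.card_pos
  have hF : 0 < Fintype.card (glcFix γ) := Fintype.card_pos
  have : Fintype.card G * Fintype.card (glcFix γ) ≤ (Fintype.card G - 1) * Fintype.card (glcFix γ) := by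
    rw [hsum]; exact hb
  have h2 : Fintype.card G ≤ Fintype.card G - 1 := Nat.le_of_mul_le_mul_right this hF
  omega

theorem glc_twist_sum [Fintype G] (p : ℕ) [hp : Fact p.Prime] (hpG : ¬ p ∣ Nat.card G)
    (γ : MulAut G) (hγ : γ ^ p = 1) [Fintype (glcFix γ)] (f : G → ℂ)
    (hf : ∀ g h : G, f (h * g * (γ h)⁻¹) = f g) :
    (Fintype.card (glcFix γ) : ℂ) * ∑ g, f g = (Fintype.card G : ℂ) * ∑ c : glcFix γ, f c := by
  classical
  have hA : ∑ x : G × glcFix γ, f (glcPhi γ x) = (Fintype.card G : ℂ) * ∑ c : glcFix γ, f c := by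
    rw [Fintype.sum_prod_type]
    simp only [glcPhi, hf]
    rw [Finset.sum_const, Finset.card_univ, nsmul_eq_mul]
  have hB : ∑ x : G × glcFix γ, f (glcPhi γ x) =
      ∑ g : G, ∑ x ∈ Finset.univ.filter (fun x : G × glcFix γ => glcPhi γ x = g), f (glcPhi γ x) :=
    (Finset.sum_fiberwise _ _ _).symm
  have hC : ∀ g : G, ∑ x ∈ Finset.univ.filter (fun x : G × glcFix γ => glcPhi γ x = g), f (glcPhi γ x) =
      (Fintype.card (glcFix γ) : ℂ) * f g := by
    intro g
    have h1 : ∀ x ∈ Finset.univ.filter (fun x : G × glcFix γ => glcPhi γ x = g), f (glcPhi γ x) = f g := by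
      intro x hx
      rw [(Finset.mem_filter.mp hx).2]
    rw [Finset.sum_congr rfl h1, Finset.sum_const, nsmul_eq_mul]
    obtain ⟨⟨h₀, c₀⟩, hx⟩ := glc_phi_surj p hpG γ hγ g
    rw [← hx, glc_fiber_card p hpG γ hγ h₀ c₀]
  rw [← hA, hB, Finset.mul_sum]
  exact (Finset.sum_congr rfl (fun g _ => hC g)).symm

end Cfsg.Agent.Lib.Helper24
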