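import Mathlib
import Cfsg.Agent.Lib.Helper24.Glc1c

set_option autoImplicit false

namespace Cfsg.Agent.Lib.Helper24

variable {G : Type*} [Group G]

theorem glc_twist_sum' [Fintype G] (p : ℕ) [hp : Fact p.Prime] (hpG : ¬ p ∣ Nat.card G)
    (γ : MulAut G) (hγ : γ ^ p = 1) {C : Type*} [Fintype C] (j : C → G)
    (hj : Function.Injective j) (hr : ∀ g, γ g = g ↔ ∃ c, j c = g) (f : G → ℂ)
    (hf : ∀ g h : G, f (h * g * (γ h)⁻¹) = f g) :
    (Fintype.card C : ℂ) * ∑ g, f g = (Fintype.card G : ℂ) * ∑ c : C, f (j c) := by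
  classical
  haveI : Fintype (glcFix γ) := Fintype.ofFinite _
  let e : C ≃ glcFix γ := Equiv.ofBijective (fun c => ⟨j c, (hr (j c)).mpr ⟨c, rfl⟩⟩) (by
    constructor
    · intro a b hab
      exact hj (congrArg Subtype.val hab)
    · intro x
      obtain ⟨c, hc⟩ := (hr x.1).mp x.2
      exact ⟨c, Subtype.ext hc⟩)
  have h1 := glc_twist_sum p hpG γ hγ f hf
  rw [← Fintype.card_congr e, ← Fintype.sum_equiv e (fun c => f (j c)) (fun x => f x) (fun c => rfl)] at h1
  exact h1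

end Cfsg.Agent.Lib.Helper24
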