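import Mathlib
import Cfsg.Agent.Lib.Helper24.FrobSchurForm
import Cfsg.Agent.Lib.helper7.ProjExt

set_option autoImplicit false

namespace Cfsg.Agent.Lib.Helper24

open Matrix

variable {G : Type*} [Group G] {n : ℕ}

theorem glc_T_pow (ρ : Representation ℂ G (Fin n → ℂ)) (α : MulAut G)
    (T : Matrix (Fin n) (Fin n) ℂ) (hT : ∀ g, T * fsX ρ g = fsX ρ (α g) * T) (k : ℕ) (g : G) :
    T ^ k * fsX ρ g = fsX ρ ((α ^ k) g) * T ^ k := by
  induction k generalizing g with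
  | zero => simp
  | succ k ih =>
    rw [pow_succ, Matrix.mul_assoc, hT g, ← Matrix.mul_assoc, ih (α g), Matrix.mul_assoc]
    rfl

theorem glc_exists_T [Fintype G] (ρ : Representation ℂ G (Fin n → ℂ)) [ρ.IsIrreducible]
    (α : MulAut G) (p : ℕ) (hp : 0 < p) (hα : α ^ p = 1)
    (hinv : ∀ g, ρ.character (α g) = ρ.character g) :
    ∃ T : Matrix (Fin n) (Fin n) ℂ, (∀ g, T * fsX ρ g = fsX ρ (α g) * T) ∧ T ^ p = 1 := by
  let τ : Representation ℂ G (Fin n → ℂ) := ρ.comp α.toMonoidHom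
  have hchar : τ.character = ρ.character := by
    funext g
    exact hinv g
  obtain ⟨E, hE⟩ := Cfsg.Agent.Lib.helper7.h7_equiv_of_char_eq ρ τ hchar
  set T₀ : Matrix (Fin n) (Fin n) ℂ := LinearMap.toMatrix' (E : (Fin n → ℂ) →ₗ[ℂ] (Fin n → ℂ)) with hT₀
  have h1 : ∀ g, T₀ * fsX ρ g = fsX ρ (α g) * T₀ := by
    intro g
    unfold fsX
    rw [hT₀, ← LinearMap.toMatrix'_comp, ← LinearMap.toMatrix'_comp, hE g]
    rfl
  have hn : n ≠ 0 := fs_n_ne_zero ρ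
  haveI : Nonempty (Fin n) := ⟨⟨0, Nat.pos_of_ne_zero hn⟩⟩
  have hinvT : T₀ * LinearMap.toMatrix' (E.symm : (Fin n → ℂ) →ₗ[ℂ] (Fin n → ℂ)) = 1 := by
    rw [hT₀, ← LinearMap.toMatrix'_comp]
    have : (E : (Fin n → ℂ) →ₗ[ℂ] (Fin n → ℂ)) ∘ₗ (E.symm : (Fin n → ℂ) →ₗ[ℂ] (Fin n → ℂ)) = LinearMap.id := by
      ext v
      simp
    rw [this, LinearMap.toMatrix'_id]
  have hcomm : ∀ g, T₀ ^ p * fsX ρ g = fsX ρ g * T₀ ^ p := by
    intro g
    rw [glc_T_pow ρ α T₀ h1 p g, hα]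
    rfl
  obtain ⟨c, hc⟩ := fs_schur ρ (T₀ ^ p) hcomm
  have hc0 : c ≠ 0 := by
    intro h0
    rw [h0, zero_smul] at hc
    have hu : IsUnit T₀ := ⟨⟨T₀, _, hinvT, mul_eq_one_comm.mp hinvT⟩, rfl⟩
    have hu2 : IsUnit (T₀ ^ p) := hu.pow p
    rw [hc] at hu2
    exact not_isUnit_zero hu2
  obtain ⟨d, hd⟩ := IsAlgClosed.exists_pow_nat_eq c hp
  have hd0 : d ≠ 0 := by
    intro h0
    rw [h0, zero_pow (Nat.pos_iff_ne_zero.mp hp)] at hd
    exact hc0 hd.symm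
  refine ⟨d⁻¹ • T₀, ?_, ?_⟩
  · intro g
    rw [Matrix.smul_mul, Matrix.mul_smul, h1 g]
  · rw [smul_pow, hc, smul_smul, inv_pow, hd, inv_mul_cancel₀ hc0, one_smul]

theorem glc_tw_inv1 (ρ : Representation ℂ G (Fin n → ℂ)) (α : MulAut G)
    (T : Matrix (Fin n) (Fin n) ℂ) (hT : ∀ g, T * fsX ρ g = fsX ρ (α g) * T) (i : ℕ) (g h : G) :
    (fsX ρ (h * g * ((α ^ i) h)⁻¹) * T ^ i).trace = (fsX ρ g * T ^ i).trace := by
  have h1 : fsX ρ ((α ^ i) h)⁻¹ * T ^ i = T ^ i * fsX ρ h⁻¹ := by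
    rw [glc_T_pow ρ α T hT i h⁻¹, map_inv]
  rw [fsX_mul, fsX_mul, Matrix.mul_assoc, h1, Matrix.mul_assoc, Matrix.trace_mul_comm,
    Matrix.mul_assoc, Matrix.mul_assoc, fsX_inv_mul, Matrix.mul_one]

theorem glc_tw_inv2 (ρ : Representation ℂ G (Fin n → ℂ)) (α : MulAut G)
    (T : Matrix (Fin n) (Fin n) ℂ) (hT : ∀ g, T * fsX ρ g = fsX ρ (α g) * T) (i i' : ℕ)
    (hii : α ^ (i' + i) = 1) (g h : G) :
    (fsX ρ (h * g * ((α ^ i) h)⁻¹)⁻¹ * T ^ i').trace = (fsX ρ g⁻¹ * T ^ i').trace := by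
  have h1 : fsX ρ h⁻¹ * T ^ i' = T ^ i' * fsX ρ ((α ^ i) h)⁻¹ := by
    rw [glc_T_pow ρ α T hT i' ((α ^ i) h)⁻¹, map_inv, ← MulAut.mul_apply, ← pow_add, hii]
    rfl
  have h2 : (h * g * ((α ^ i) h)⁻¹)⁻¹ = (α ^ i) h * g⁻¹ * h⁻¹ := by group
  have h3 : fsX ρ ((α ^ i) h)⁻¹ * (fsX ρ ((α ^ i) h) * fsX ρ g⁻¹) = fsX ρ g⁻¹ := by
    rw [← Matrix.mul_assoc, fsX_inv_mul, Matrix.one_mul]
  rw [h2, fsX_mul, fsX_mul, Matrix.mul_assoc, h1, Matrix.trace_mul_comm,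
    Matrix.mul_assoc, h3, Matrix.trace_mul_comm]

theorem glc_schur_same [Fintype G] (ρ : Representation ℂ G (Fin n → ℂ)) [ρ.IsIrreducible]
    (A B : Matrix (Fin n) (Fin n) ℂ) :
    ∑ g : G, (fsX ρ g * A).trace * (fsX ρ g⁻¹ * B).trace =
      (Fintype.card G : ℂ) / (n : ℂ) * (A * B).trace := by
  simp only [Matrix.trace, Matrix.diag_apply, Matrix.mul_apply]
  have : ∀ g : G, (∑ x, ∑ x_1, fsX ρ g x x_1 * A x_1 x) * (∑ x, ∑ x_1, fsX ρ g⁻¹ x x_1 * B x_1 x)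
      = ∑ i, ∑ j, ∑ k, ∑ l, A j i * B l k * (fsX ρ g i j * fsX ρ g⁻¹ k l) := by
    intro g
    rw [Finset.sum_mul_sum]
    refine Finset.sum_congr rfl fun i _ => ?_
    rw [Finset.sum_comm]
    simp_rw [Finset.sum_mul, Finset.mul_sum]
    refine Finset.sum_congr rfl fun j _ => ?_
    refine Finset.sum_congr rfl fun k _ => ?_
    refine Finset.sum_congr rfl fun l _ => ?_
    ring
  simp_rw [this]
  rw [Finset.sum_comm]
  simp_rw [Finset.sum_comm (s := (Finset.univ : Finset G)), ← Finset.mul_sum, fs_orth_entry]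
  have h2 : ∀ i j : Fin n, ∑ k, ∑ l, A j i * B l k *
      (if j = k ∧ i = l then (Fintype.card G : ℂ) / (n : ℂ) else 0) =
      (Fintype.card G : ℂ) / (n : ℂ) * (A j i * B i j) := by
    intro i j
    rw [Finset.sum_eq_single j]
    · rw [Finset.sum_eq_single i]
      · rw [if_pos ⟨rfl, rfl⟩]
        ring
      · intro l _ hl
        rw [if_neg (fun h => hl h.2.symm), mul_zero]
      · intro h; exact absurd (Finset.mem_univ i) h
    · intro k _ hk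
      apply Finset.sum_eq_zero
      intro l _
      rw [if_neg (fun h => hk h.1.symm), mul_zero]
    · intro h; exact absurd (Finset.mem_univ j) h
  simp_rw [h2]
  rw [Finset.sum_comm]
  simp_rw [← Finset.mul_sum]

end Cfsg.Agent.Lib.Helper24
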