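import Mathlib
import Cfsg.Agent.Lib.Helper24.Glc2
import Cfsg.Agent.Lib.helper7.CharTools

set_option autoImplicit false

namespace Cfsg.Agent.Lib.Helper24

open Matrix

variable {G : Type*} [Group G] {n n' : ℕ}

theorem glc_orth_cross [Fintype G] (ρ : Representation ℂ G (Fin n → ℂ)) [ρ.IsIrreducible]
    (ρ' : Representation ℂ G (Fin n' → ℂ)) [ρ'.IsIrreducible] (hne : ρ.character ≠ ρ'.character)
    (M : Matrix (Fin n) (Fin n') ℂ) :
    ∑ s : G, fsX ρ s * M * fsX ρ' s⁻¹ = 0 := by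
  set S : Matrix (Fin n) (Fin n') ℂ := ∑ s : G, fsX ρ s * M * fsX ρ' s⁻¹ with hS
  have hcomm : ∀ h : G, fsX ρ h * S = S * fsX ρ' h := by
    intro h
    rw [hS, Matrix.sum_mul, Matrix.mul_sum]
    rw [← Equiv.sum_comp (Equiv.mulLeft h) (fun s => fsX ρ s * M * fsX ρ' s⁻¹ * fsX ρ' h)]
    apply Finset.sum_congr rfl
    intro s _
    rw [Equiv.coe_mulLeft]
    have e1 : fsX ρ' (h * s)⁻¹ * fsX ρ' h = fsX ρ' s⁻¹ := by
      rw [← fsX_mul]
      congr 1
      group
    rw [Matrix.mul_assoc _ (fsX ρ' (h * s)⁻¹), e1, fsX_mul, Matrix.mul_assoc, Matrix.mul_assoc,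
      Matrix.mul_assoc]
  let f : Representation.IntertwiningMap ρ' ρ :=
    { Matrix.toLin' S with
      isIntertwining' := by
        intro g
        show Matrix.toLin' S ∘ₗ ρ' g = ρ g ∘ₗ Matrix.toLin' S
        rw [← fs_toLin ρ g, ← fs_toLin ρ' g, ← Matrix.toLin'_mul, ← Matrix.toLin'_mul, hcomm g] }
  have h1 := Cfsg.Agent.Lib.helper2.classInner_rep_eq_finrank ρ' ρ
  have h2 : Cfsg.classInner ρ.character ρ'.character = 0 :=
    Cfsg.Agent.Lib.helper7.h7_irr_inner_ne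
      (Cfsg.Agent.Lib.Helper25.isIrrCharacter_of_irreducible ρ)
      (Cfsg.Agent.Lib.Helper25.isIrrCharacter_of_irreducible ρ') hne
  rw [h2] at h1
  have h3 : Module.finrank ℂ (Representation.IntertwiningMap ρ' ρ) = 0 := by exact_mod_cast h1.symm
  have h4 : f = 0 := by
    by_contra hf
    have : Nontrivial (Representation.IntertwiningMap ρ' ρ) := ⟨⟨f, 0, hf⟩⟩
    have := Module.finrank_pos (R := ℂ) (M := Representation.IntertwiningMap ρ' ρ)
    omega
  have h5 : Matrix.toLin' S = 0 := by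
    have := congrArg Representation.IntertwiningMap.toLinearMap h4
    exact this
  have := congrArg LinearMap.toMatrix' h5
  rw [LinearMap.toMatrix'_toLin', map_zero] at this
  exact this

theorem glc_orth_cross_entry [Fintype G] (ρ : Representation ℂ G (Fin n → ℂ)) [ρ.IsIrreducible]
    (ρ' : Representation ℂ G (Fin n' → ℂ)) [ρ'.IsIrreducible] (hne : ρ.character ≠ ρ'.character)
    (i j : Fin n) (k l : Fin n') :
    ∑ s : G, fsX ρ s i j * fsX ρ' s⁻¹ k l = 0 := by
  have h := congrFun (congrFun (glc_orth_cross ρ ρ' hne (Matrix.single j k (1 : ℂ))) i) l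
  rw [Matrix.sum_apply] at h
  have h' : ∑ c, (fsX ρ c * Matrix.single j k (1 : ℂ) * fsX ρ' c⁻¹) i l = 0 := h
  rw [← h']
  refine Finset.sum_congr rfl fun s _ => ?_
  rw [Matrix.mul_apply, Finset.sum_eq_single k]
  · rw [Matrix.mul_single_apply_same, mul_one]
  · intro b _ hb
    rw [Matrix.mul_single_apply_of_ne (1 : ℂ) j k i b hb (fsX ρ s), zero_mul]
  · intro h; exact absurd (Finset.mem_univ k) h

theorem glc_schur_cross [Fintype G] (ρ : Representation ℂ G (Fin n → ℂ)) [ρ.IsIrreducible]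
    (ρ' : Representation ℂ G (Fin n' → ℂ)) [ρ'.IsIrreducible] (hne : ρ.character ≠ ρ'.character)
    (A : Matrix (Fin n) (Fin n) ℂ) (B : Matrix (Fin n') (Fin n') ℂ) :
    ∑ g : G, (fsX ρ g * A).trace * (fsX ρ' g⁻¹ * B).trace = 0 := by
  simp only [Matrix.trace, Matrix.diag_apply, Matrix.mul_apply]
  have : ∀ g : G, (∑ x, ∑ x_1, fsX ρ g x x_1 * A x_1 x) * (∑ x, ∑ x_1, fsX ρ' g⁻¹ x x_1 * B x_1 x)
      = ∑ i, ∑ j, ∑ k, ∑ l, A j i * B l k * (fsX ρ g i j * fsX ρ' g⁻¹ k l) := by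
    intro g
    rw [Finset.sum_mul_sum]
    refine Finset.sum_congr rfl fun i _ => ?_
    rw [Finset.sum_comm]
    simp_rw [Finset.sum_mul, Finset.mul_sum]
    refine Finset.sum_congr rfl fun j _ => ?_
    refine Finset.sum_congr rfl fun k _ => ?_
    refine Finset.sum_congr rfl fun l _ => ?_
    ring
  simp_rw [this]
  rw [Finset.sum_comm]
  simp_rw [Finset.sum_comm (s := (Finset.univ : Finset G)), ← Finset.mul_sum,
    glc_orth_cross_entry ρ ρ' hne, mul_zero, Finset.sum_const_zero]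

end Cfsg.Agent.Lib.Helper24
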