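import Mathlib
import Cfsg.Agent.Lib.Helper24.Glc1d
import Cfsg.Agent.Lib.Helper24.Glc2b

set_option autoImplicit false

namespace Cfsg.Agent.Lib.Helper24

open Matrix
open scoped ComplexConjugate

variable {G C : Type*} [Group G] [Group C] {n : ℕ}

noncomputable def fsXHom (ρ : Representation ℂ G (Fin n → ℂ)) : G →* Matrix (Fin n) (Fin n) ℂ where
  toFun := fsX ρ
  map_one' := fsX_one ρ
  map_mul' := fsX_mul ρ

noncomputable def glcPowHom (p : ℕ) [NeZero p] (T : Matrix (Fin n) (Fin n) ℂ) (hT : T ^ p = 1) :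
    Multiplicative (ZMod p) →* Matrix (Fin n) (Fin n) ℂ where
  toFun k := T ^ (Multiplicative.toAdd k).val
  map_one' := by
    rw [toAdd_one, ZMod.val_zero, pow_zero]
  map_mul' a b := by
    rw [toAdd_mul, ZMod.val_add, ← pow_eq_pow_mod _ hT, pow_add]

noncomputable def glcW (p : ℕ) [NeZero p] (ρ : Representation ℂ G (Fin n → ℂ)) (ι : C →* G)
    (T : Matrix (Fin n) (Fin n) ℂ) (hT : T ^ p = 1) (hcomm : ∀ c : C, Commute (fsX ρ (ι c)) T) :
    C × Multiplicative (ZMod p) →* Matrix (Fin n) (Fin n) ℂ :=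
  MonoidHom.noncommCoprod ((fsXHom ρ).comp ι) (glcPowHom p T hT)
    (fun c k => (hcomm c).pow_right _)

theorem glcW_apply (p : ℕ) [NeZero p] (ρ : Representation ℂ G (Fin n → ℂ)) (ι : C →* G)
    (T : Matrix (Fin n) (Fin n) ℂ) (hT : T ^ p = 1) (hcomm : ∀ c : C, Commute (fsX ρ (ι c)) T)
    (c : C) (k : Multiplicative (ZMod p)) :
    glcW p ρ ι T hT hcomm (c, k) = fsX ρ (ι c) * T ^ (Multiplicative.toAdd k).val := rfl

theorem glc_comm_of_fix (ρ : Representation ℂ G (Fin n → ℂ)) (ι : C →* G) (α : MulAut G)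
    (T : Matrix (Fin n) (Fin n) ℂ) (hT : ∀ g, T * fsX ρ g = fsX ρ (α g) * T)
    (hfix : ∀ c : C, α (ι c) = ι c) (c : C) : Commute (fsX ρ (ι c)) T := by
  have := hT (ι c)
  rw [hfix c] at this
  exact this.symm

end Cfsg.Agent.Lib.Helper24
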