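import Mathlib
import Cfsg.Agent.Lib.Helper24.Glc5

set_option autoImplicit false

namespace Cfsg.Agent.Lib.Helper24

open Matrix
open scoped ComplexConjugate

variable {G C : Type*} [Group G] [Group C] {n n' : ℕ}

theorem glc_R_gen [Fintype G] [Fintype C] (p : ℕ) [hp : Fact p.Prime] (hpG : ¬ p ∣ Nat.card G)
    (α : MulAut G) (hα : α ^ p = 1) (ι : C →* G) (hι : Function.Injective ι)
    (hr : ∀ g, α g = g ↔ ∃ c, ι c = g)
    (ρ : Representation ℂ G (Fin n → ℂ)) (T : Matrix (Fin n) (Fin n) ℂ)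
    (hT : ∀ g, T * fsX ρ g = fsX ρ (α g) * T) (hTp : T ^ p = 1)
    (hcomm : ∀ c : C, Commute (fsX ρ (ι c)) T)
    (ρ' : Representation ℂ G (Fin n' → ℂ)) (T' : Matrix (Fin n') (Fin n') ℂ)
    (hT' : ∀ g, T' * fsX ρ' g = fsX ρ' (α g) * T') (hTp' : T' ^ p = 1)
    (hcomm' : ∀ c : C, Commute (fsX ρ' (ι c)) T') (δ : ℂ)
    (hS : ∀ i i' : ℕ, i + i' = p → ∑ g : G, (fsX ρ g * T ^ i).trace * (fsX ρ' g⁻¹ * T' ^ i').trace =
      (Fintype.card G : ℂ) * δ)
    (k : ZMod p) (hk : k ≠ 0) :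
    ∑ c : C, (glcW p ρ ι T hTp hcomm (c, Multiplicative.ofAdd k)).trace *
      conj ((glcW p ρ' ι T' hTp' hcomm' (c, Multiplicative.ofAdd k)).trace) =
      (Fintype.card C : ℂ) * δ := by
  classical
  have hkv : k.val ≠ 0 := by
    intro h
    exact hk ((ZMod.val_eq_zero k).mp h)
  have hklt : k.val < p := ZMod.val_lt k
  have hnd : ¬ p ∣ k.val := Nat.not_dvd_of_pos_of_lt (Nat.pos_of_ne_zero hkv) hklt
  have hneg : (-k).val = p - k.val := by
    rw [ZMod.neg_val, if_neg hk]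
  have hsum : k.val + (p - k.val) = p := by omega
  have hconj : ∀ c : C, conj ((glcW p ρ' ι T' hTp' hcomm' (c, Multiplicative.ofAdd k)).trace) =
      (fsX ρ' (ι c)⁻¹ * T' ^ (p - k.val)).trace := by
    intro c
    rw [← Cfsg.Agent.Lib.Helper25.matrix_trace_inv_of_group (glcW p ρ' ι T' hTp' hcomm')
      (c, Multiplicative.ofAdd k)]
    rw [Prod.inv_mk, ← ofAdd_neg, glcW_apply, toAdd_ofAdd, hneg, map_inv]
  simp_rw [hconj, glcW_apply, toAdd_ofAdd]
  set f : G → ℂ := fun g => (fsX ρ g * T ^ k.val).trace * (fsX ρ' g⁻¹ * T' ^ (p - k.val)).trace with hf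
  have hγ : (α ^ k.val) ^ p = 1 := by
    rw [← pow_mul, mul_comm, pow_mul, hα, one_pow]
  have hr' : ∀ g, (α ^ k.val) g = g ↔ ∃ c, ι c = g := by
    intro g
    rw [← hr g, ← glc_mem_fix, ← glc_mem_fix, glc_fix_pow_eq p α hα k.val hnd]
  have hii : α ^ ((p - k.val) + k.val) = 1 := by
    rw [add_comm, hsum, hα]
  have hfinv : ∀ g h : G, f (h * g * ((α ^ k.val) h)⁻¹) = f g := by
    intro g h
    simp only [hf]
    rw [glc_tw_inv1 ρ α T hT k.val g h, glc_tw_inv2 ρ' α T' hT' k.val (p - k.val) hii g h]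
  have h1 := glc_twist_sum' p hpG (α ^ k.val) hγ (fun c : C => ι c) hι hr' f hfinv
  have h2 : ∑ g : G, f g = (Fintype.card G : ℂ) * δ := hS k.val (p - k.val) hsum
  rw [h2] at h1
  have hG : (Fintype.card G : ℂ) ≠ 0 := Nat.cast_ne_zero.mpr Fintype.card_ne_zero
  have h3 : (Fintype.card G : ℂ) * ((Fintype.card C : ℂ) * δ) = (Fintype.card G : ℂ) * ∑ c : C, f (ι c) := by
    rw [← h1]; ring
  exact (mul_left_cancel₀ hG h3).symm

end Cfsg.Agent.Lib.Helper24
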