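import Mathlib

set_option autoImplicit false

namespace Cfsg.Agent.Lib.Helper24

open scoped ComplexConjugate

variable (p : ℕ) [NeZero p]

noncomputable def glcE (j k : ZMod p) : ℂ := ZMod.stdAddChar (j * k)

theorem glc_sum_E (t : ZMod p) : ∑ i : ZMod p, glcE p i t = if t = 0 then (p : ℂ) else 0 := by
  unfold glcE
  split_ifs with h
  · simp only [h, mul_zero, AddChar.map_zero_eq_one, Finset.sum_const, Finset.card_univ, ZMod.card,
      nsmul_eq_mul, mul_one]
  · simp_rw [mul_comm _ t]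
    exact AddChar.sum_eq_zero_of_ne_one (ZMod.isPrimitive_stdAddChar p h)

theorem glcE_conj (j k : ZMod p) : conj (glcE p j k) = glcE p j (-k) := by
  unfold glcE
  rw [← AddChar.map_neg_eq_conj, mul_neg]

theorem glcE_add (j k k' : ZMod p) : glcE p j (k + k') = glcE p j k * glcE p j k' := by
  unfold glcE
  rw [mul_add, AddChar.map_add_eq_mul]

theorem glcE_zero (j : ZMod p) : glcE p j 0 = 1 := by
  unfold glcE
  rw [mul_zero, AddChar.map_zero_eq_one]

noncomputable def glcCoef (b : ZMod p → ℂ) (j : ZMod p) : ℂ :=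
  (p : ℂ)⁻¹ * ∑ k : ZMod p, conj (glcE p j k) * b k

theorem glc_F1 (b : ZMod p → ℂ) : ∑ j : ZMod p, glcCoef p b j = b 0 := by
  unfold glcCoef
  have hp : (p : ℂ) ≠ 0 := Nat.cast_ne_zero.mpr (NeZero.ne p)
  rw [← Finset.mul_sum, Finset.sum_comm]
  simp_rw [← Finset.sum_mul, glcE_conj, glc_sum_E]
  rw [Finset.sum_eq_single 0]
  · rw [if_pos neg_zero, ← mul_assoc, inv_mul_cancel₀ hp, one_mul]
  · intro k _ hk
    rw [if_neg (fun h => hk (neg_eq_zero.mp h)), zero_mul]
  · intro h; exact absurd (Finset.mem_univ _) h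

theorem glc_F2 (b b' : ZMod p → ℂ) :
    ∑ j : ZMod p, glcCoef p b j * conj (glcCoef p b' j) =
      (p : ℂ)⁻¹ * ∑ k : ZMod p, b k * conj (b' k) := by
  unfold glcCoef
  have hp : (p : ℂ) ≠ 0 := Nat.cast_ne_zero.mpr (NeZero.ne p)
  have h1 : ∀ j : ZMod p, (p : ℂ)⁻¹ * (∑ k : ZMod p, conj (glcE p j k) * b k) *
      conj ((p : ℂ)⁻¹ * ∑ k : ZMod p, conj (glcE p j k) * b' k) =
      (p : ℂ)⁻¹ * (p : ℂ)⁻¹ * ∑ k : ZMod p, ∑ k' : ZMod p,
        b k * conj (b' k') * glcE p j (k' + -k) := by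
    intro j
    rw [map_mul, map_inv₀, Complex.conj_natCast, map_sum]
    rw [mul_mul_mul_comm, Finset.sum_mul_sum]
    congr 1
    refine Finset.sum_congr rfl fun k _ => ?_
    refine Finset.sum_congr rfl fun k' _ => ?_
    rw [map_mul, Complex.conj_conj, glcE_add, glcE_conj]
    ring
  simp_rw [h1]
  rw [← Finset.mul_sum, Finset.sum_comm]
  have h2 : ∀ k : ZMod p, ∑ j : ZMod p, ∑ k' : ZMod p, b k * conj (b' k') * glcE p j (k' + -k) =
      (p : ℂ) * (b k * conj (b' k)) := by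
    intro k
    rw [Finset.sum_comm]
    simp_rw [← Finset.mul_sum, glc_sum_E]
    rw [Finset.sum_eq_single k]
    · rw [if_pos (add_neg_cancel k)]
      ring
    · intro k' _ hk'
      rw [if_neg (fun h => hk' (add_neg_eq_zero.mp h)), mul_zero]
    · intro h; exact absurd (Finset.mem_univ _) h
  simp_rw [h2]
  rw [← Finset.mul_sum, ← mul_assoc, mul_assoc (p : ℂ)⁻¹, inv_mul_cancel₀ hp, mul_one]

end Cfsg.Agent.Lib.Helper24
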