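import Mathlib
import Cfsg.Agent.Lib.Helper24.Glc3
import Cfsg.Agent.Lib.Helper24.AFT1

set_option autoImplicit false

namespace Cfsg.Agent.Lib.Helper24

open scoped ComplexConjugate

theorem glc_isChar_matHom {H : Type*} [Group H] {n : ℕ} (A : H →* Matrix (Fin n) (Fin n) ℂ) :
    Cfsg.IsCharacter H (fun h => (A h).trace) := by
  refine ⟨n, ((Matrix.toLinAlgEquiv' : Matrix (Fin n) (Fin n) ℂ ≃ₐ[ℂ] _) : _ →* _).comp A, ?_⟩
  funext h
  show LinearMap.trace ℂ _ (Matrix.toLin' (A h)) = (A h).trace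
  exact Matrix.trace_toLin'_eq (A h)

theorem glc_parseval {C : Type*} [Group C] [Fintype C] [Fintype (Cfsg.IrrCharacter C)]
    (φ φ' : C → ℂ) (hφ' : ∀ g h : C, φ' (h * g * h⁻¹) = φ' g) :
    Cfsg.classInner φ φ' =
      ∑ β : Cfsg.IrrCharacter C, Cfsg.classInner φ (β : C → ℂ) * conj (Cfsg.classInner φ' (β : C → ℂ)) := by
  have h := Cfsg.Agent.Lib.Helper25.classFunction_expansion φ' hφ'
  calc Cfsg.classInner φ φ'
      = Cfsg.classInner φ (∑ β : Cfsg.IrrCharacter C, Cfsg.classInner φ' (β : C → ℂ) • (β : C → ℂ)) := by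
        rw [← h]
    _ = _ := by
        rw [Cfsg.Agent.Lib.helper7.h7_classInner_sum_right]
        refine Finset.sum_congr rfl fun β _ => ?_
        rw [Cfsg.Agent.Lib.helper7.h7_classInner_smul_right, mul_comm]

variable {C : Type*} [Group C] (p : ℕ) [NeZero p]

noncomputable def glcPsi (β : C → ℂ) (j : ZMod p) : C × Multiplicative (ZMod p) → ℂ :=
  fun w => β w.1 * glcE p j (Multiplicative.toAdd w.2)

noncomputable def glcLamHom (j : ZMod p) : Multiplicative (ZMod p) →* ℂˣ :=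
  ((ZMod.stdAddChar (N := p)).mulShift j).toMonoidHom.toHomUnits

theorem glcLamHom_apply (j : ZMod p) (k : Multiplicative (ZMod p)) :
    ((glcLamHom p j k : ℂˣ) : ℂ) = glcE p j (Multiplicative.toAdd k) := by
  unfold glcLamHom glcE
  rw [MonoidHom.coe_toHomUnits, AddChar.toMonoidHom_apply, AddChar.mulShift_apply]

theorem glcPsi_isChar (β : Cfsg.IrrCharacter C) (j : ZMod p) :
    Cfsg.IsCharacter (C × Multiplicative (ZMod p)) (glcPsi p (β : C → ℂ) j) := by
  have h1 : Cfsg.IsCharacter (C × Multiplicative (ZMod p)) (fun w => (β : C → ℂ) w.1) :=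
    Cfsg.Agent.Lib.helper2.isCharacter_comp_hom (Cfsg.Agent.Lib.helper2.isCharacter_of_irr β)
      (MonoidHom.fst C (Multiplicative (ZMod p)))
  have h2 : Cfsg.IsCharacter (C × Multiplicative (ZMod p))
      (fun w => (afLin (glcLamHom p j) : Multiplicative (ZMod p) → ℂ) w.2) :=
    Cfsg.Agent.Lib.helper2.isCharacter_comp_hom
      (Cfsg.Agent.Lib.helper2.isCharacter_of_irr (afLin (glcLamHom p j)))
      (MonoidHom.snd C (Multiplicative (ZMod p)))
  have h3 := Cfsg.Agent.Lib.helper7.h7_isCharacter_mul h1 h2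
  have h4 : glcPsi p (β : C → ℂ) j = (fun w : C × Multiplicative (ZMod p) => (β : C → ℂ) w.1) *
      (fun w => (afLin (glcLamHom p j) : Multiplicative (ZMod p) → ℂ) w.2) := by
    funext w
    simp only [glcPsi, Pi.mul_apply, afLin_apply, glcLamHom_apply]
  rw [h4]
  exact h3

theorem glc_inner_W [Fintype C] (Θ : C × Multiplicative (ZMod p) → ℂ) (β : C → ℂ) (j : ZMod p) :
    Cfsg.classInner Θ (glcPsi p β j) =
      glcCoef p (fun k => Cfsg.classInner (fun c => Θ (c, Multiplicative.ofAdd k)) β) j := by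
  unfold Cfsg.classInner glcCoef glcPsi
  have hp : (p : ℂ) ≠ 0 := Nat.cast_ne_zero.mpr (NeZero.ne p)
  have hcard : (Nat.card (C × Multiplicative (ZMod p)) : ℂ) = (Nat.card C : ℂ) * (p : ℂ) := by
    rw [Nat.card_prod, Nat.cast_mul]
    congr 1
    rw [Nat.card_eq_fintype_card, Fintype.card_multiplicative, ZMod.card]
  rw [hcard, Fintype.sum_prod_type, Finset.sum_comm]
  rw [← Equiv.sum_comp (Multiplicative.ofAdd : ZMod p ≃ Multiplicative (ZMod p))]
  rw [mul_inv, mul_comm (Nat.card C : ℂ)⁻¹, mul_assoc]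
  congr 1
  rw [Finset.mul_sum]
  refine Finset.sum_congr rfl fun k _ => ?_
  beta_reduce
  rw [Finset.mul_sum, Finset.mul_sum, Finset.mul_sum]
  refine Finset.sum_congr rfl fun c _ => ?_
  simp only [toAdd_ofAdd, map_mul]
  ring

end Cfsg.Agent.Lib.Helper24
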