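import Mathlib
import Cfsg.Agent.Lib.Helper24.Glc6

set_option autoImplicit false

namespace Cfsg.Agent.Lib.Helper24

open scoped ComplexConjugate

variable {C : Type*} [Group C] (p : ℕ) [NeZero p]

noncomputable def glcA [Fintype C] (Θ : C × Multiplicative (ZMod p) → ℂ) (β : C → ℂ) (j : ZMod p) : ℕ :=
  ⌊(Cfsg.classInner Θ (glcPsi p β j)).re⌋₊

theorem glcA_spec [Fintype C] (Θ : C × Multiplicative (ZMod p) → ℂ)
    (hΘ : Cfsg.IsCharacter (C × Multiplicative (ZMod p)) Θ) (β : Cfsg.IrrCharacter C) (j : ZMod p) :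
    Cfsg.classInner Θ (glcPsi p (β : C → ℂ) j) = (glcA p Θ (β : C → ℂ) j : ℂ) := by
  obtain ⟨m, hm⟩ := Cfsg.Agent.Lib.helper2.classInner_character_nat hΘ (glcPsi_isChar p β j)
  unfold glcA
  rw [hm, Complex.natCast_re, Nat.floor_natCast]

theorem glcA_coef [Fintype C] (Θ : C × Multiplicative (ZMod p) → ℂ)
    (hΘ : Cfsg.IsCharacter (C × Multiplicative (ZMod p)) Θ) (β : Cfsg.IrrCharacter C) (j : ZMod p) :
    (glcA p Θ (β : C → ℂ) j : ℂ) =
      glcCoef p (fun k => Cfsg.classInner (fun c => Θ (c, Multiplicative.ofAdd k)) (β : C → ℂ)) j := by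
  rw [← glcA_spec p Θ hΘ β j, glc_inner_W]

theorem glc_m [Fintype C] (Θ : C × Multiplicative (ZMod p) → ℂ)
    (hΘ : Cfsg.IsCharacter (C × Multiplicative (ZMod p)) Θ) (β : Cfsg.IrrCharacter C) :
    Cfsg.classInner (fun c => Θ (c, 1)) (β : C → ℂ) = ∑ j : ZMod p, (glcA p Θ (β : C → ℂ) j : ℂ) := by
  simp_rw [glcA_coef p Θ hΘ β]
  rw [glc_F1]
  rfl

theorem glc_slice_class (Θ : C × Multiplicative (ZMod p) → ℂ)
    (hΘ : Cfsg.IsCharacter (C × Multiplicative (ZMod p)) Θ) (k : Multiplicative (ZMod p)) (g h : C) :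
    Θ (h * g * h⁻¹, k) = Θ (g, k) := by
  have := Cfsg.Agent.Lib.helper2.isCharacter_isClassFunction hΘ (g, k) (h, 1)
  rw [← this]
  congr 1
  simp

theorem glc_K [Fintype C] [Fintype (Cfsg.IrrCharacter C)] (Θ Θ' : C × Multiplicative (ZMod p) → ℂ)
    (hΘ : Cfsg.IsCharacter (C × Multiplicative (ZMod p)) Θ)
    (hΘ' : Cfsg.IsCharacter (C × Multiplicative (ZMod p)) Θ') (δ : ℂ)
    (hR : ∀ k : ZMod p, k ≠ 0 → ∑ c : C, Θ (c, Multiplicative.ofAdd k) *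
      conj (Θ' (c, Multiplicative.ofAdd k)) = (Fintype.card C : ℂ) * δ) :
    (∑ β : Cfsg.IrrCharacter C, (p : ℂ) * ∑ j : ZMod p,
        (glcA p Θ (β : C → ℂ) j : ℂ) * (glcA p Θ' (β : C → ℂ) j : ℂ)) =
      (∑ β : Cfsg.IrrCharacter C, (∑ j : ZMod p, (glcA p Θ (β : C → ℂ) j : ℂ)) *
        (∑ j : ZMod p, (glcA p Θ' (β : C → ℂ) j : ℂ))) + ((p : ℂ) - 1) * δ := by
  classical
  have hp : (p : ℂ) ≠ 0 := Nat.cast_ne_zero.mpr (NeZero.ne p)
  set b : Cfsg.IrrCharacter C → ZMod p → ℂ := fun β k =>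
    Cfsg.classInner (fun c => Θ (c, Multiplicative.ofAdd k)) (β : C → ℂ) with hb
  set b' : Cfsg.IrrCharacter C → ZMod p → ℂ := fun β k =>
    Cfsg.classInner (fun c => Θ' (c, Multiplicative.ofAdd k)) (β : C → ℂ) with hb'
  have h1 : ∀ β : Cfsg.IrrCharacter C, (p : ℂ) * ∑ j : ZMod p,
      (glcA p Θ (β : C → ℂ) j : ℂ) * (glcA p Θ' (β : C → ℂ) j : ℂ) =
      ∑ k : ZMod p, b β k * conj (b' β k) := by
    intro β
    have e1 : ∀ j : ZMod p, (glcA p Θ (β : C → ℂ) j : ℂ) * (glcA p Θ' (β : C → ℂ) j : ℂ) =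
        glcCoef p (b β) j * conj (glcCoef p (b' β) j) := by
      intro j
      rw [← glcA_coef p Θ hΘ β j, ← glcA_coef p Θ' hΘ' β j, Complex.conj_natCast]
    simp_rw [e1]
    rw [glc_F2, ← mul_assoc, mul_inv_cancel₀ hp, one_mul]
  simp_rw [h1]
  rw [Finset.sum_comm]
  have h2 : ∀ k : ZMod p, k ≠ 0 → ∑ β : Cfsg.IrrCharacter C, b β k * conj (b' β k) = δ := by
    intro k hk
    rw [← glc_parseval (fun c => Θ (c, Multiplicative.ofAdd k)) (fun c => Θ' (c, Multiplicative.ofAdd k))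
      (fun g h => glc_slice_class p Θ' hΘ' _ g h)]
    unfold Cfsg.classInner
    rw [hR k hk, Nat.card_eq_fintype_card, ← mul_assoc, inv_mul_cancel₀, one_mul]
    exact Nat.cast_ne_zero.mpr Fintype.card_ne_zero
  have h3 : ∀ β : Cfsg.IrrCharacter C, b β 0 * conj (b' β 0) =
      (∑ j : ZMod p, (glcA p Θ (β : C → ℂ) j : ℂ)) * (∑ j : ZMod p, (glcA p Θ' (β : C → ℂ) j : ℂ)) := by
    intro β
    have e1 : b β 0 = ∑ j : ZMod p, (glcA p Θ (β : C → ℂ) j : ℂ) := glc_m p Θ hΘ β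
    have e2 : b' β 0 = ∑ j : ZMod p, (glcA p Θ' (β : C → ℂ) j : ℂ) := glc_m p Θ' hΘ' β
    rw [e1, e2, map_sum]
    simp_rw [Complex.conj_natCast]
  rw [← Finset.add_sum_erase Finset.univ _ (Finset.mem_univ (0 : ZMod p))]
  simp_rw [h3]
  congr 1
  rw [Finset.sum_congr rfl (fun k hk => h2 k (Finset.ne_of_mem_erase hk))]
  rw [Finset.sum_const, Finset.card_erase_of_mem (Finset.mem_univ _), Finset.card_univ, ZMod.card,
    nsmul_eq_mul, Nat.cast_sub (Nat.one_le_iff_ne_zero.mpr (NeZero.ne p)), Nat.cast_one]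

end Cfsg.Agent.Lib.Helper24
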