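import Mathlib
import Cfsg.Agent.Lib.Helper24.Glc5b
import Cfsg.Agent.Lib.Helper24.Glc6b
import Cfsg.Agent.Lib.Helper24.Glc4b

set_option autoImplicit false

namespace Cfsg.Agent.Lib.Helper24

open Matrix
open scoped ComplexConjugate

variable {G C : Type*} [Group G] [Group C]

structure GlcDatum (p : ℕ) (α : MulAut G) (ι : C →* G) (χ : G → ℂ) where
  n : ℕ
  ρ : Representation ℂ G (Fin n → ℂ)
  irr : ρ.IsIrreducible
  hχ : ρ.character = χ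
  T : Matrix (Fin n) (Fin n) ℂ
  hT : ∀ g, T * fsX ρ g = fsX ρ (α g) * T
  hTp : T ^ p = 1
  hcomm : ∀ c : C, Commute (fsX ρ (ι c)) T

theorem glc_datum_nonempty [Fintype G] (p : ℕ) (hp : 0 < p) (α : MulAut G) (hα : α ^ p = 1)
    (ι : C →* G) (hfix : ∀ c : C, α (ι c) = ι c) (χ : Cfsg.IrrCharacter G)
    (hinv : ∀ g, (χ : G → ℂ) (α g) = (χ : G → ℂ) g) :
    Nonempty (GlcDatum p α ι (χ : G → ℂ)) := by
  obtain ⟨n, ρ, hirr, hχ⟩ := χ.2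
  haveI := hirr
  have hinv' : ∀ g, ρ.character (α g) = ρ.character g := by
    intro g
    rw [hχ]
    exact hinv g
  obtain ⟨T, hT, hTp⟩ := glc_exists_T ρ α p hp hα hinv'
  exact ⟨⟨n, ρ, hirr, hχ, T, hT, hTp, glc_comm_of_fix ρ ι α T hT hfix⟩⟩

noncomputable def GlcDatum.theta {p : ℕ} [NeZero p] {α : MulAut G} {ι : C →* G} {χ : G → ℂ}
    (D : GlcDatum p α ι χ) : C × Multiplicative (ZMod p) → ℂ :=
  fun w => (glcW p D.ρ ι D.T D.hTp D.hcomm w).trace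

theorem GlcDatum.theta_isChar {p : ℕ} [NeZero p] {α : MulAut G} {ι : C →* G} {χ : G → ℂ}
    (D : GlcDatum p α ι χ) : Cfsg.IsCharacter (C × Multiplicative (ZMod p)) D.theta :=
  glc_isChar_matHom (glcW p D.ρ ι D.T D.hTp D.hcomm)

theorem GlcDatum.theta_one {p : ℕ} [NeZero p] {α : MulAut G} {ι : C →* G} {χ : G → ℂ}
    (D : GlcDatum p α ι χ) (c : C) : D.theta (c, 1) = χ (ι c) := by
  unfold GlcDatum.theta
  rw [glcW_apply, toAdd_one, ZMod.val_zero, pow_zero, Matrix.mul_one, ← fs_char, D.hχ]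

theorem GlcDatum.m_eq {p : ℕ} [NeZero p] [Fintype C] {α : MulAut G} {ι : C →* G} {χ : G → ℂ}
    (D : GlcDatum p α ι χ) (β : Cfsg.IrrCharacter C) :
    Cfsg.classInner (fun c => χ (ι c)) (β : C → ℂ) =
      ∑ j : ZMod p, (glcA p D.theta (β : C → ℂ) j : ℂ) := by
  rw [← glc_m p D.theta D.theta_isChar β]
  congr 1
  funext c
  exact (D.theta_one c).symm

theorem GlcDatum.self_sum [Fintype G] [Fintype C] [Fintype (Cfsg.IrrCharacter C)] {p : ℕ}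
    [hp : Fact p.Prime] (hpG : ¬ p ∣ Nat.card G)
    {α : MulAut G} (hα : α ^ p = 1) {ι : C →* G} (hι : Function.Injective ι)
    (hr : ∀ g, α g = g ↔ ∃ c, ι c = g) {χ : G → ℂ}
    (D : GlcDatum p α ι χ) :
    ∑ β : Cfsg.IrrCharacter C, glcD p (fun j => (glcA p D.theta (β : C → ℂ) j : ℤ)) = (p : ℤ) - 1 := by
  haveI := D.irr
  have hn : (D.n : ℂ) ≠ 0 := Nat.cast_ne_zero.mpr (fs_n_ne_zero D.ρ)
  have hS : ∀ i i' : ℕ, i + i' = p →
      ∑ g : G, (fsX D.ρ g * D.T ^ i).trace * (fsX D.ρ g⁻¹ * D.T ^ i').trace =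
      (Fintype.card G : ℂ) * 1 := by
    intro i i' hii
    rw [glc_schur_same, ← pow_add, hii, D.hTp, Matrix.trace_one, Fintype.card_fin, mul_one,
      div_mul_cancel₀ _ hn]
  have hR := glc_R_gen p hpG α hα ι hι hr D.ρ D.T D.hT D.hTp D.hcomm D.ρ D.T D.hT D.hTp D.hcomm 1 hS
  have hK := glc_K p D.theta D.theta D.theta_isChar D.theta_isChar 1 hR
  unfold glcD
  rw [Finset.sum_sub_distrib]
  have : ((∑ β : Cfsg.IrrCharacter C, (p : ℤ) * ∑ j : ZMod p, ((glcA p D.theta (β : C → ℂ) j : ℤ)) ^ 2 : ℤ) : ℂ) =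
      ((∑ β : Cfsg.IrrCharacter C, (∑ j : ZMod p, (glcA p D.theta (β : C → ℂ) j : ℤ)) ^ 2 : ℤ) : ℂ) +
        (((p : ℤ) - 1 : ℤ) : ℂ) := by
    push_cast
    simp_rw [sq]
    rw [hK, mul_one]
  have h2 : (∑ β : Cfsg.IrrCharacter C, (p : ℤ) * ∑ j : ZMod p, ((glcA p D.theta (β : C → ℂ) j : ℤ)) ^ 2 : ℤ) =
      (∑ β : Cfsg.IrrCharacter C, (∑ j : ZMod p, (glcA p D.theta (β : C → ℂ) j : ℤ)) ^ 2 : ℤ) +
        ((p : ℤ) - 1) := by exact_mod_cast this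
  linarith

theorem GlcDatum.cross_sum [Fintype G] [Fintype C] [Fintype (Cfsg.IrrCharacter C)] {p : ℕ}
    [hp : Fact p.Prime] (hpG : ¬ p ∣ Nat.card G)
    {α : MulAut G} (hα : α ^ p = 1) {ι : C →* G} (hι : Function.Injective ι)
    (hr : ∀ g, α g = g ↔ ∃ c, ι c = g) {χ χ' : G → ℂ} (hne : χ ≠ χ')
    (D : GlcDatum p α ι χ) (D' : GlcDatum p α ι χ') :
    ∑ β : Cfsg.IrrCharacter C, ((p : ℤ) * ∑ j : ZMod p,
        (glcA p D.theta (β : C → ℂ) j : ℤ) * (glcA p D'.theta (β : C → ℂ) j : ℤ) -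
      (∑ j : ZMod p, (glcA p D.theta (β : C → ℂ) j : ℤ)) *
        (∑ j : ZMod p, (glcA p D'.theta (β : C → ℂ) j : ℤ))) = 0 := by
  haveI := D.irr
  haveI := D'.irr
  have hne' : D.ρ.character ≠ D'.ρ.character := by
    rw [D.hχ, D'.hχ]
    exact hne
  have hS : ∀ i i' : ℕ, i + i' = p →
      ∑ g : G, (fsX D.ρ g * D.T ^ i).trace * (fsX D'.ρ g⁻¹ * D'.T ^ i').trace =
      (Fintype.card G : ℂ) * 0 := by
    intro i i' _
    rw [glc_schur_cross D.ρ D'.ρ hne', mul_zero]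
  have hR := glc_R_gen p hpG α hα ι hι hr D.ρ D.T D.hT D.hTp D.hcomm D'.ρ D'.T D'.hT D'.hTp D'.hcomm 0 hS
  have hK := glc_K p D.theta D'.theta D.theta_isChar D'.theta_isChar 0 hR
  rw [Finset.sum_sub_distrib]
  have : ((∑ β : Cfsg.IrrCharacter C, (p : ℤ) * ∑ j : ZMod p,
      (glcA p D.theta (β : C → ℂ) j : ℤ) * (glcA p D'.theta (β : C → ℂ) j : ℤ) : ℤ) : ℂ) =
      ((∑ β : Cfsg.IrrCharacter C, (∑ j : ZMod p, (glcA p D.theta (β : C → ℂ) j : ℤ)) *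
        (∑ j : ZMod p, (glcA p D'.theta (β : C → ℂ) j : ℤ)) : ℤ) : ℂ) := by
    push_cast
    rw [hK, mul_zero, add_zero]
  have h2 : (∑ β : Cfsg.IrrCharacter C, (p : ℤ) * ∑ j : ZMod p,
      (glcA p D.theta (β : C → ℂ) j : ℤ) * (glcA p D'.theta (β : C → ℂ) j : ℤ) : ℤ) =
      (∑ β : Cfsg.IrrCharacter C, (∑ j : ZMod p, (glcA p D.theta (β : C → ℂ) j : ℤ)) *
        (∑ j : ZMod p, (glcA p D'.theta (β : C → ℂ) j : ℤ)) : ℤ) := by exact_mod_cast this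
  linarith

end Cfsg.Agent.Lib.Helper24
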