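import Mathlib
import Cfsg.Agent.Lib.Helper24.Glc1
import Cfsg.Agent.Lib.Helper25.RealOrbits
import Cfsg.Agent.S0133
import Cfsg.Agent.Lib.helper7.CliffordSub

set_option autoImplicit false

namespace Cfsg.Agent.Lib.Helper24

variable {G C : Type*} [Group G] [Group C]

theorem glc_fixed_in_subset [Finite G] (p : ℕ) [hp : Fact p.Prime] (α : MulAut G) (hα : α ^ p = 1)
    (X : Set G) (hX : ∀ g, α g ∈ X ↔ g ∈ X) (hcard : ¬ p ∣ Nat.card X) : ∃ g ∈ X, α g = g := by
  classical
  haveI := Fintype.ofFinite G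
  have hX' : ∀ x : G, (MulAut.toPerm G α) x ∈ X ↔ x ∈ X := hX
  let σ : Equiv.Perm X := (MulAut.toPerm G α).subtypePerm hX'
  have hσ : σ ^ p ^ 1 = 1 := by
    rw [pow_one]
    ext x
    show (((MulAut.toPerm G α).subtypePerm hX' ^ p) x : G) = x
    rw [Equiv.Perm.subtypePerm_pow, Equiv.Perm.subtypePerm_apply]
    show ((MulAut.toPerm G α) ^ p) (x : G) = x
    rw [← map_pow, hα, map_one]
    rfl
  rw [Nat.card_eq_fintype_card] at hcard
  obtain ⟨a, ha⟩ := Equiv.Perm.exists_fixed_point_of_prime hcard hσ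
  refine ⟨a.1, a.2, ?_⟩
  exact congrArg Subtype.val ha

def glcTau (α : MulAut G) : Equiv.Perm (ConjClasses G) where
  toFun := ConjClasses.map α.toMonoidHom
  invFun := ConjClasses.map α.symm.toMonoidHom
  left_inv := by
    intro K
    obtain ⟨g, rfl⟩ := ConjClasses.mk_surjective K
    show ConjClasses.mk (α.symm (α g)) = ConjClasses.mk g
    rw [MulEquiv.symm_apply_apply]
  right_inv := by
    intro K
    obtain ⟨g, rfl⟩ := ConjClasses.mk_surjective K
    show ConjClasses.mk (α (α.symm g)) = ConjClasses.mk g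
    rw [MulEquiv.apply_symm_apply]

theorem glcTau_mk (α : MulAut G) (g : G) : glcTau α (ConjClasses.mk g) = ConjClasses.mk (α g) := rfl

theorem glc_brauer [Finite G] (α : MulAut G) :
    Nat.card {χ : Cfsg.IrrCharacter G // ∀ g, (χ : G → ℂ) (α g) = (χ : G → ℂ) g} =
      Nat.card {K : ConjClasses G // glcTau α K = K} := by
  let π : Cfsg.IrrCharacter G → Cfsg.IrrCharacter G := fun χ =>
    ⟨fun g => (χ : G → ℂ) (α.symm g), Cfsg.Agent.Lib.helper7.h7_isIrr_comp_equiv α.symm _ χ.2⟩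
  have hcompat : ∀ (χ : Cfsg.IrrCharacter G) (g g' : G),
      ConjClasses.mk g' = glcTau α (ConjClasses.mk g) →
      ((π χ : Cfsg.IrrCharacter G) : G → ℂ) g' = (χ : G → ℂ) g := by
    intro χ g g' h
    rw [glcTau_mk, ConjClasses.mk_eq_mk_iff_isConj] at h
    obtain ⟨c, hc⟩ := isConj_iff.mp h
    show (χ : G → ℂ) (α.symm g') = (χ : G → ℂ) g
    have h2 : g = α.symm c * α.symm g' * (α.symm c)⁻¹ := by
      rw [← map_inv, ← map_mul, ← map_mul, hc, MulEquiv.symm_apply_apply]
    rw [h2]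
    exact (Cfsg.Agent.Lib.Helper25.irr_conj_invariant χ _ _).symm
  rw [← Cfsg.Agent.Lib.Helper25.brauer_perm_pair π (glcTau α) hcompat]
  apply Nat.card_congr
  apply Equiv.subtypeEquivRight
  intro χ
  constructor
  · intro h
    apply Subtype.ext
    funext g
    show (χ : G → ℂ) (α.symm g) = (χ : G → ℂ) g
    have := h (α.symm g)
    rw [MulEquiv.apply_symm_apply] at this
    exact this.symm
  · intro h g
    have h1 := congrFun (congrArg Subtype.val h) (α g)
    have h2 : (χ : G → ℂ) (α.symm (α g)) = (χ : G → ℂ) (α g) := h1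
    rw [MulEquiv.symm_apply_apply] at h2
    exact h2.symm

end Cfsg.Agent.Lib.Helper24
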