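import Mathlib
import Cfsg.Agent.Lib.Helper24.Glc9

set_option autoImplicit false

namespace Cfsg.Agent.Lib.Helper24

variable {G C : Type*} [Group G] [Group C]

theorem glc_conj_fixed [Finite G] (p : ℕ) [hp : Fact p.Prime] (hpG : ¬ p ∣ Nat.card G)
    (α : MulAut G) (hα : α ^ p = 1) (a b : G) (ha : α a = a) (hb : α b = b) (hab : IsConj a b) :
    ∃ g : G, α g = g ∧ g * a * g⁻¹ = b := by
  obtain ⟨g₁, hg₁⟩ := isConj_iff.mp hab
  let X : Set G := {g | g * a * g⁻¹ = b}
  have hX : ∀ g, α g ∈ X ↔ g ∈ X := by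
    intro g
    show α g * a * (α g)⁻¹ = b ↔ g * a * g⁻¹ = b
    constructor
    · intro h
      apply α.injective
      rw [map_mul, map_mul, map_inv, ha, hb]
      exact h
    · intro h
      have := congrArg α h
      rw [map_mul, map_mul, map_inv, ha, hb] at this
      exact this
  have hcard : Nat.card X = Nat.card (Subgroup.centralizer ({a} : Set G)) := by
    apply Nat.card_congr
    refine Equiv.symm (Equiv.ofBijective (fun z => ⟨g₁ * z.1, ?_⟩) ⟨?_, ?_⟩)
    · show g₁ * z.1 * a * (g₁ * z.1)⁻¹ = b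
      have hz := Subgroup.mem_centralizer_iff.mp z.2 a (Set.mem_singleton a)
      rw [_root_.mul_inv_rev, ← hg₁]
      have : g₁ * z.1 * a * (z.1⁻¹ * g₁⁻¹) = g₁ * (z.1 * a * z.1⁻¹) * g₁⁻¹ := by group
      rw [this, ← hz]
      group
    · intro z z' h
      have := congrArg Subtype.val h
      simp only at this
      exact Subtype.ext (mul_left_cancel this)
    · intro x
      have hx : x.1 * a * x.1⁻¹ = b := x.2
      refine ⟨⟨g₁⁻¹ * x.1, ?_⟩, ?_⟩
      · rw [Subgroup.mem_centralizer_iff]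
        intro y hy
        rw [Set.mem_singleton_iff] at hy
        subst hy
        have h1 : g₁⁻¹ * (x.1 * y * x.1⁻¹) * g₁ = y := by
          rw [hx, ← hg₁]; group
        calc y * (g₁⁻¹ * x.1) = g₁⁻¹ * (x.1 * y * x.1⁻¹) * g₁ * (g₁⁻¹ * x.1) := by rw [h1]
          _ = g₁⁻¹ * x.1 * y := by group
      · apply Subtype.ext
        show g₁ * (g₁⁻¹ * x.1) = x.1
        group
  have hnd : ¬ p ∣ Nat.card X := by
    rw [hcard]
    intro h
    exact hpG (dvd_trans h (Subgroup.card_subgroup_dvd_card _))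
  obtain ⟨g, hgX, hg⟩ := glc_fixed_in_subset p α hα X hX hnd
  exact ⟨g, hg, hgX⟩

theorem glc_class_fixed [Finite G] (p : ℕ) [hp : Fact p.Prime] (hpG : ¬ p ∣ Nat.card G)
    (α : MulAut G) (hα : α ^ p = 1) (K : ConjClasses G) (hK : glcTau α K = K) :
    ∃ g : G, α g = g ∧ ConjClasses.mk g = K := by
  obtain ⟨g₁, rfl⟩ := ConjClasses.mk_surjective K
  let X : Set G := {g | ConjClasses.mk g = ConjClasses.mk g₁}
  have hX : ∀ g, α g ∈ X ↔ g ∈ X := by
    intro g
    show ConjClasses.mk (α g) = ConjClasses.mk g₁ ↔ ConjClasses.mk g = ConjClasses.mk g₁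
    rw [← glcTau_mk]
    constructor
    · intro h
      apply (glcTau α).injective
      rw [h, hK]
    · intro h
      rw [h, hK]
  have hcard : Nat.card X = Nat.card {x : G // IsConj g₁ x} := by
    apply Nat.card_congr
    apply Equiv.subtypeEquivRight
    intro x
    show ConjClasses.mk x = ConjClasses.mk g₁ ↔ IsConj g₁ x
    rw [ConjClasses.mk_eq_mk_iff_isConj]
    exact isConj_comm
  have hnd : ¬ p ∣ Nat.card X := by
    rw [hcard]
    intro h
    apply hpG
    rw [← Cfsg.Agent.Lib.Helper25.card_conj_mul_card_centralizer g₁]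
    exact dvd_mul_of_dvd_left h _
  obtain ⟨g, hgX, hg⟩ := glc_fixed_in_subset p α hα X hX hnd
  exact ⟨g, hg, hgX⟩

theorem glc_class_count [Finite G] [Finite C] (p : ℕ) [hp : Fact p.Prime] (hpG : ¬ p ∣ Nat.card G)
    (α : MulAut G) (hα : α ^ p = 1) (ι : C →* G) (hι : Function.Injective ι)
    (hr : ∀ g, α g = g ↔ ∃ c, ι c = g) :
    Nat.card {K : ConjClasses G // glcTau α K = K} = Nat.card (ConjClasses C) := by
  symm
  apply Nat.card_congr
  refine Equiv.ofBijective (fun K => ⟨ConjClasses.map ι K, ?_⟩) ⟨?_, ?_⟩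
  · obtain ⟨c, rfl⟩ := ConjClasses.mk_surjective K
    show glcTau α (ConjClasses.mk (ι c)) = ConjClasses.mk (ι c)
    rw [glcTau_mk, (hr (ι c)).mpr ⟨c, rfl⟩]
  · intro K K' h
    obtain ⟨c, rfl⟩ := ConjClasses.mk_surjective K
    obtain ⟨c', rfl⟩ := ConjClasses.mk_surjective K'
    have h1 : ConjClasses.mk (ι c) = ConjClasses.mk (ι c') := congrArg Subtype.val h
    rw [ConjClasses.mk_eq_mk_iff_isConj] at h1
    obtain ⟨g, hg, hgc⟩ := glc_conj_fixed p hpG α hα (ι c) (ι c') ((hr _).mpr ⟨c, rfl⟩)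
      ((hr _).mpr ⟨c', rfl⟩) h1
    obtain ⟨d, rfl⟩ := (hr g).mp hg
    rw [ConjClasses.mk_eq_mk_iff_isConj, isConj_iff]
    refine ⟨d, hι ?_⟩
    rw [map_mul, map_mul, map_inv]
    exact hgc
  · intro K
    obtain ⟨g, hg, hgK⟩ := glc_class_fixed p hpG α hα K.1 K.2
    obtain ⟨c, rfl⟩ := (hr g).mp hg
    exact ⟨ConjClasses.mk c, Subtype.ext hgK⟩

theorem glc_count [Finite G] [Finite C] (p : ℕ) [hp : Fact p.Prime] (hpG : ¬ p ∣ Nat.card G)
    (α : MulAut G) (hα : α ^ p = 1) (ι : C →* G) (hι : Function.Injective ι)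
    (hr : ∀ g, α g = g ↔ ∃ c, ι c = g) :
    Nat.card {χ : Cfsg.IrrCharacter G // ∀ g, (χ : G → ℂ) (α g) = (χ : G → ℂ) g} =
      Nat.card (Cfsg.IrrCharacter C) := by
  rw [glc_brauer α, glc_class_count p hpG α hα ι hι hr, Cfsg.Agent.S0133.result]

end Cfsg.Agent.Lib.Helper24
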