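import Mathlib
import Cfsg.Agent.Lib.Helper24.Glc7
import Cfsg.Agent.Lib.Helper24.Glc9b

set_option autoImplicit false

namespace Cfsg.Agent.Lib.Helper24

open scoped ComplexConjugate

def GlcCore (p : ℕ) {G C : Type*} [Group G] [Group C] [Fintype C] (ι : C →* G)
    (Inv : Cfsg.IrrCharacter G → Prop) : Prop :=
  ∃ f : {χ : Cfsg.IrrCharacter G // Inv χ} → Cfsg.IrrCharacter C, Function.Bijective f ∧
    ∀ (χ : {χ : Cfsg.IrrCharacter G // Inv χ}) (β : Cfsg.IrrCharacter C), ∃ m : ℕ,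
      Cfsg.classInner (fun c => (χ.1 : G → ℂ) (ι c)) (β : C → ℂ) = (m : ℂ) ∧
      (β = f χ → ((m : ℤ) ≡ 1 [ZMOD p] ∨ (m : ℤ) ≡ -1 [ZMOD p])) ∧ (β ≠ f χ → p ∣ m)

variable {G C : Type*} [Group G] [Group C]

theorem glc_base [Fintype G] [Fintype C] (p : ℕ) [hp : Fact p.Prime] (hpG : ¬ p ∣ Nat.card G)
    (α : MulAut G) (hα : α ^ p = 1) (ι : C →* G) (hι : Function.Injective ι)
    (hr : ∀ g, α g = g ↔ ∃ c, ι c = g) :
    GlcCore p ι (fun χ => ∀ g, (χ : G → ℂ) (α g) = (χ : G → ℂ) g) := by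
  classical
  haveI : Fintype (Cfsg.IrrCharacter C) := Fintype.ofFinite _
  have hfix : ∀ c : C, α (ι c) = ι c := fun c => (hr _).mpr ⟨c, rfl⟩
  let Inv : Cfsg.IrrCharacter G → Prop := fun χ => ∀ g, (χ : G → ℂ) (α g) = (χ : G → ℂ) g
  let D : ∀ χ : {χ : Cfsg.IrrCharacter G // Inv χ}, GlcDatum p α ι (χ.1 : G → ℂ) := fun χ =>
    Classical.choice (glc_datum_nonempty p hp.out.pos α hα ι hfix χ.1 χ.2)
  let a : {χ : Cfsg.IrrCharacter G // Inv χ} → Cfsg.IrrCharacter C → ZMod p → ℕ := fun χ β j =>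
    glcA p (D χ).theta (β : C → ℂ) j
  have hmain : ∀ χ : {χ : Cfsg.IrrCharacter G // Inv χ}, ∃ β₀ : Cfsg.IrrCharacter C,
      (¬ (p : ℤ) ∣ ∑ j : ZMod p, (a χ β₀ j : ℤ)) ∧
      ((∑ j : ZMod p, (a χ β₀ j : ℤ)) ≡ 1 [ZMOD p] ∨ (∑ j : ZMod p, (a χ β₀ j : ℤ)) ≡ -1 [ZMOD p]) ∧
      (∀ β, β ≠ β₀ → ∃ t : ℕ, ∀ j, a χ β j = t) := by
    intro χ
    exact glc_comb_main p (a χ) ((D χ).self_sum hpG hα hι hr)
  choose f hf1 hf2 hf3 using hmain
  have hinj : Function.Injective f := by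
    intro χ χ' hff
    by_contra hne
    have hne' : (χ.1 : G → ℂ) ≠ (χ'.1 : G → ℂ) := by
      intro h
      exact hne (Subtype.ext (Subtype.ext h))
    have hcross := GlcDatum.cross_sum hpG hα hι hr hne' (D χ) (D χ')
    have hf3' : ∀ β, β ≠ f χ → ∃ t : ℕ, ∀ j, a χ' β j = t := by
      rw [hff]
      exact hf3 χ'
    have hf1' : ¬ (p : ℤ) ∣ ∑ j : ZMod p, (a χ' (f χ) j : ℤ) := by
      rw [hff]
      exact hf1 χ'
    exact glc_comb_pair p (a χ) (a χ') (f χ) (hf3 χ) hf3' (hf1 χ) hf1' hcross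
  have hcardeq : Nat.card {χ : Cfsg.IrrCharacter G // Inv χ} = Nat.card (Cfsg.IrrCharacter C) :=
    glc_count p hpG α hα ι hι hr
  haveI : Finite {χ : Cfsg.IrrCharacter G // Inv χ} := Subtype.finite
  have hbij : Function.Bijective f :=
    (Nat.bijective_iff_injective_and_card f).mpr ⟨hinj, hcardeq⟩
  refine ⟨f, hbij, ?_⟩
  intro χ β
  refine ⟨∑ j : ZMod p, a χ β j, ?_, ?_, ?_⟩
  · rw [(D χ).m_eq β]
    push_cast
    rfl
  · intro hβ
    subst hβ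
    have := hf2 χ
    push_cast
    exact this
  · intro hβ
    obtain ⟨t, ht⟩ := hf3 χ β hβ
    simp_rw [ht]
    rw [Finset.sum_const, Finset.card_univ, ZMod.card, smul_eq_mul]
    exact dvd_mul_right p t

end Cfsg.Agent.Lib.Helper24
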