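import Mathlib
import Cfsg.Agent.Lib.Helper24.Glc8

set_option autoImplicit false

namespace Cfsg.Agent.Lib.Helper24

open scoped ComplexConjugate

variable {G G₁ C : Type*} [Group G] [Group G₁] [Group C]

theorem GlcCore_congr [Fintype C] (p : ℕ) (ι : C →* G) (Inv Inv' : Cfsg.IrrCharacter G → Prop)
    (h : ∀ χ, Inv χ ↔ Inv' χ) (hc : GlcCore p ι Inv) : GlcCore p ι Inv' := by
  have : Inv = Inv' := funext (fun χ => propext (h χ))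
  rw [← this]
  exact hc

theorem glc_pm_not_dvd (p : ℕ) [hp : Fact p.Prime] (m : ℕ)
    (h : (m : ℤ) ≡ 1 [ZMOD p] ∨ (m : ℤ) ≡ -1 [ZMOD p]) : ¬ p ∣ m := by
  intro hd
  have hd' : (p : ℤ) ∣ (m : ℤ) := by exact_mod_cast hd
  have hp2 : (2 : ℤ) ≤ p := by exact_mod_cast hp.out.two_le
  rcases h with h | h
  · have h1 := (Int.modEq_iff_dvd.mp h)
    have h2 : (p : ℤ) ∣ 1 := by
      have := dvd_add h1 hd'
      simpa using this
    have := Int.le_of_dvd (by norm_num) h2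
    omega
  · have h1 := (Int.modEq_iff_dvd.mp h)
    have h2 : (p : ℤ) ∣ -1 := by
      have := dvd_add h1 hd'
      simpa using this
    have h3 : (p : ℤ) ∣ 1 := (dvd_neg.mp h2)
    have := Int.le_of_dvd (by norm_num) h3
    omega

theorem glc_compose [Fintype G₁] [Fintype C] (p : ℕ) [hp : Fact p.Prime]
    (ι₁ : G₁ →* G) (ι' : C →* G₁) (ι : C →* G) (hιι : ∀ c, ι c = ι₁ (ι' c))
    (Inv₁ Inv : Cfsg.IrrCharacter G → Prop) (Inv₂ : Cfsg.IrrCharacter G₁ → Prop)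
    (hc₁ : GlcCore p ι₁ Inv₁) (hc₂ : GlcCore p ι' Inv₂)
    (hInv : ∀ χ, Inv χ → Inv₁ χ)
    (hE : ∀ χ : Cfsg.IrrCharacter G, Inv₁ χ → ∀ ψ : Cfsg.IrrCharacter G₁,
      (∃ m : ℕ, Cfsg.classInner (fun g => (χ : G → ℂ) (ι₁ g)) (ψ : G₁ → ℂ) = (m : ℂ) ∧ ¬ p ∣ m) →
      (Inv χ ↔ Inv₂ ψ)) :
    GlcCore p ι Inv := by
  classical
  haveI : Fintype (Cfsg.IrrCharacter G₁) := Fintype.ofFinite _
  obtain ⟨f₁, hb₁, hm₁⟩ := hc₁
  obtain ⟨f₂, hb₂, hm₂⟩ := hc₂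
  have hnd₁ : ∀ χ : {χ : Cfsg.IrrCharacter G // Inv₁ χ}, ∃ m : ℕ,
      Cfsg.classInner (fun g => (χ.1 : G → ℂ) (ι₁ g)) ((f₁ χ : Cfsg.IrrCharacter G₁) : G₁ → ℂ) = (m : ℂ) ∧
      ¬ p ∣ m := by
    intro χ
    obtain ⟨m, hm, h1, _⟩ := hm₁ χ (f₁ χ)
    exact ⟨m, hm, glc_pm_not_dvd p m (h1 rfl)⟩
  have hInv₂ : ∀ χ : {χ : Cfsg.IrrCharacter G // Inv χ}, Inv₂ (f₁ ⟨χ.1, hInv χ.1 χ.2⟩) := by
    intro χ
    exact (hE χ.1 (hInv χ.1 χ.2) _ (hnd₁ ⟨χ.1, hInv χ.1 χ.2⟩)).mp χ.2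
  let f : {χ : Cfsg.IrrCharacter G // Inv χ} → Cfsg.IrrCharacter C := fun χ =>
    f₂ ⟨f₁ ⟨χ.1, hInv χ.1 χ.2⟩, hInv₂ χ⟩
  refine ⟨f, ⟨?_, ?_⟩, ?_⟩
  · intro χ χ' h
    have h1 := hb₂.1 h
    have h2 : f₁ ⟨χ.1, hInv χ.1 χ.2⟩ = f₁ ⟨χ'.1, hInv χ'.1 χ'.2⟩ := congrArg Subtype.val h1
    have h3 := hb₁.1 h2
    have h4 : χ.1 = χ'.1 := congrArg (Subtype.val : {χ : Cfsg.IrrCharacter G // Inv₁ χ} → _) h3
    exact Subtype.ext h4
  · intro β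
    obtain ⟨ψ, hψ⟩ := hb₂.2 β
    obtain ⟨χ, hχ⟩ := hb₁.2 ψ.1
    have hI : Inv χ.1 := by
      apply (hE χ.1 χ.2 ψ.1 _).mpr ψ.2
      rw [← hχ]
      exact hnd₁ χ
    refine ⟨⟨χ.1, hI⟩, ?_⟩
    show f₂ ⟨f₁ ⟨χ.1, _⟩, _⟩ = β
    rw [← hψ]
    congr 1
    exact Subtype.ext hχ
  · intro χ β
    set χ₁ : {χ : Cfsg.IrrCharacter G // Inv₁ χ} := ⟨χ.1, hInv χ.1 χ.2⟩ with hχ₁
    set ψ₀ : {ψ : Cfsg.IrrCharacter G₁ // Inv₂ ψ} := ⟨f₁ χ₁, hInv₂ χ⟩ with hψ₀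
    have hmψ : ∀ ψ : Cfsg.IrrCharacter G₁, ∃ m : ℕ,
        Cfsg.classInner (fun g => (χ.1 : G → ℂ) (ι₁ g)) (ψ : G₁ → ℂ) = (m : ℂ) ∧
        (ψ = f₁ χ₁ → ((m : ℤ) ≡ 1 [ZMOD p] ∨ (m : ℤ) ≡ -1 [ZMOD p])) ∧ (ψ ≠ f₁ χ₁ → p ∣ m) :=
      fun ψ => hm₁ χ₁ ψ
    choose mm hmm1 hmm2 hmm3 using hmψ
    have hkψ : ∀ ψ : Cfsg.IrrCharacter G₁, ∃ k : ℕ,
        Cfsg.classInner (fun c => (ψ : G₁ → ℂ) (ι' c)) (β : C → ℂ) = (k : ℂ) := by
      intro ψ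
      exact Cfsg.Agent.Lib.helper2.classInner_character_nat
        (Cfsg.Agent.Lib.helper2.isCharacter_comp_hom (Cfsg.Agent.Lib.helper2.isCharacter_of_irr ψ) ι')
        (Cfsg.Agent.Lib.helper2.isCharacter_of_irr β)
    choose kk hkk using hkψ
    have hexp : Cfsg.classInner (fun c => (χ.1 : G → ℂ) (ι c)) (β : C → ℂ) =
        ((∑ ψ : Cfsg.IrrCharacter G₁, mm ψ * kk ψ : ℕ) : ℂ) := by
      have hcl : ∀ g h : G₁, (fun g => (χ.1 : G → ℂ) (ι₁ g)) (h * g * h⁻¹) =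
          (fun g => (χ.1 : G → ℂ) (ι₁ g)) g := by
        intro g h
        simp only [map_mul, map_inv]
        exact Cfsg.Agent.Lib.Helper25.irr_conj_invariant χ.1 _ _
      have h1 := Cfsg.Agent.Lib.Helper25.classFunction_expansion (fun g => (χ.1 : G → ℂ) (ι₁ g)) hcl
      have h2 : (fun c => (χ.1 : G → ℂ) (ι c)) =
          ∑ ψ : Cfsg.IrrCharacter G₁, (mm ψ : ℂ) • (fun c => (ψ : G₁ → ℂ) (ι' c)) := by
        funext c
        rw [hιι c]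
        have := congrFun h1 (ι' c)
        rw [this]
        simp only [Finset.sum_apply, Pi.smul_apply, hmm1]
      rw [h2, Cfsg.Agent.Lib.Helper25.classInner_sum_left]
      push_cast
      refine Finset.sum_congr rfl fun ψ _ => ?_
      rw [Cfsg.Agent.Lib.Helper25.classInner_smul_left, hkk]
    refine ⟨∑ ψ : Cfsg.IrrCharacter G₁, mm ψ * kk ψ, hexp, ?_, ?_⟩
    · intro hβ
      have hsplit : (∑ ψ : Cfsg.IrrCharacter G₁, mm ψ * kk ψ) =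
          mm (f₁ χ₁) * kk (f₁ χ₁) + ∑ ψ ∈ Finset.univ.erase (f₁ χ₁), mm ψ * kk ψ :=
        (Finset.add_sum_erase Finset.univ _ (Finset.mem_univ _)).symm
      have hdvd : (p : ℤ) ∣ ((∑ ψ ∈ Finset.univ.erase (f₁ χ₁), mm ψ * kk ψ : ℕ) : ℤ) := by
        have : p ∣ ∑ ψ ∈ Finset.univ.erase (f₁ χ₁), mm ψ * kk ψ := by
          apply Finset.dvd_sum
          intro ψ hψ
          exact dvd_mul_of_dvd_left (hmm3 ψ (Finset.ne_of_mem_erase hψ)) _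
        exact_mod_cast this
      have hm0 := hmm2 (f₁ χ₁) rfl
      obtain ⟨k, hk, hk1, _⟩ := hm₂ ψ₀ β
      have hkeq : kk (f₁ χ₁) = k := by
        have := hkk (f₁ χ₁)
        rw [show (fun c => ((f₁ χ₁ : Cfsg.IrrCharacter G₁) : G₁ → ℂ) (ι' c)) =
          (fun c => ((ψ₀.1 : Cfsg.IrrCharacter G₁) : G₁ → ℂ) (ι' c)) from rfl, hk] at this
        exact_mod_cast this.symm
      have hk0 := hk1 hβ
      rw [← hkeq] at hk0
      have hmod : ((∑ ψ : Cfsg.IrrCharacter G₁, mm ψ * kk ψ : ℕ) : ℤ) ≡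
          (mm (f₁ χ₁) : ℤ) * (kk (f₁ χ₁) : ℤ) [ZMOD p] := by
        rw [hsplit]
        push_cast
        have := (Int.modEq_zero_iff_dvd.mpr hdvd)
        push_cast at this
        calc (mm (f₁ χ₁) : ℤ) * (kk (f₁ χ₁) : ℤ) + ∑ ψ ∈ Finset.univ.erase (f₁ χ₁), (mm ψ : ℤ) * (kk ψ : ℤ)
            ≡ (mm (f₁ χ₁) : ℤ) * (kk (f₁ χ₁) : ℤ) + 0 [ZMOD p] := Int.ModEq.add_left _ this
          _ = (mm (f₁ χ₁) : ℤ) * (kk (f₁ χ₁) : ℤ) := add_zero _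
      rcases hm0 with h1 | h1 <;> rcases hk0 with h2 | h2
      · left
        have := Int.ModEq.mul h1 h2
        rw [mul_one] at this
        exact hmod.trans this
      · right
        have := Int.ModEq.mul h1 h2
        rw [one_mul] at this
        exact hmod.trans this
      · right
        have := Int.ModEq.mul h1 h2
        rw [mul_one] at this
        exact hmod.trans this
      · left
        have := Int.ModEq.mul h1 h2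
        rw [neg_mul_neg, mul_one] at this
        exact hmod.trans this
    · intro hβ
      apply Finset.dvd_sum
      intro ψ _
      by_cases hψ : ψ = f₁ χ₁
      · obtain ⟨k, hk, _, hk2⟩ := hm₂ ψ₀ β
        have hkeq : kk (f₁ χ₁) = k := by
          have := hkk (f₁ χ₁)
          rw [show (fun c => ((f₁ χ₁ : Cfsg.IrrCharacter G₁) : G₁ → ℂ) (ι' c)) =
            (fun c => ((ψ₀.1 : Cfsg.IrrCharacter G₁) : G₁ → ℂ) (ι' c)) from rfl, hk] at this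
          exact_mod_cast this.symm
        rw [hψ, hkeq]
        exact dvd_mul_of_dvd_right (hk2 hβ) _
      · exact dvd_mul_of_dvd_left (hmm3 ψ hψ) _

end Cfsg.Agent.Lib.Helper24
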