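import Mathlib
import Cfsg.Agent.Lib.Helper24.Glc10

set_option autoImplicit false

namespace Cfsg.Agent.Lib.Helper24

open scoped ComplexConjugate

variable {G : Type*} [Group G] {A : Type*} [Group A]

def glcResHom (φ : A →* MulAut G) (H : Subgroup G) (hA : ∀ a : A, ∀ h ∈ H, φ a h ∈ H) :
    A →* MulAut H where
  toFun a :=
    { toFun := fun h => ⟨φ a h, hA a h h.2⟩
      invFun := fun h => ⟨φ a⁻¹ h, hA a⁻¹ h h.2⟩
      left_inv := by
        intro h
        apply Subtype.ext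
        show φ a⁻¹ (φ a h) = h
        rw [← MulAut.mul_apply, ← map_mul, inv_mul_cancel, map_one]
        rfl
      right_inv := by
        intro h
        apply Subtype.ext
        show φ a (φ a⁻¹ h) = h
        rw [← MulAut.mul_apply, ← map_mul, mul_inv_cancel, map_one]
        rfl
      map_mul' := by
        intro x y
        apply Subtype.ext
        show φ a (x * y : G) = φ a x * φ a y
        rw [map_mul] }
  map_one' := by
    ext h
    show φ 1 h = h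
    rw [map_one]
    rfl
  map_mul' := by
    intro a b
    ext h
    show φ (a * b) h = φ a (φ b h)
    rw [map_mul]
    rfl

theorem glcResHom_apply (φ : A →* MulAut G) (H : Subgroup G) (hA : ∀ a : A, ∀ h ∈ H, φ a h ∈ H)
    (a : A) (h : H) : ((glcResHom φ H hA a) h : G) = φ a h := rfl

theorem glc_fix_stable (φ : A →* MulAut G) (z : A) (hz : ∀ a : A, a * z = z * a) (a : A) (h : G)
    (hh : h ∈ glcFix (φ z)) : φ a h ∈ glcFix (φ z) := by
  rw [glc_mem_fix] at hh ⊢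
  rw [← MulAut.mul_apply, ← map_mul, ← hz a, map_mul, MulAut.mul_apply, hh]

theorem glc_E [Fintype G] (p : ℕ) [hp : Fact p.Prime] (φ : A →* MulAut G) (z : A)
    (hz : ∀ a : A, a * z = z * a) [Fintype (glcFix (φ z))]
    (hc₁ : GlcCore p (glcFix (φ z)).subtype
      (fun χ : Cfsg.IrrCharacter G => ∀ g, (χ : G → ℂ) (φ z g) = (χ : G → ℂ) g))
    (χ : Cfsg.IrrCharacter G) (hχ : ∀ g, (χ : G → ℂ) (φ z g) = (χ : G → ℂ) g)
    (ψ : Cfsg.IrrCharacter (glcFix (φ z)))
    (hψ : ∃ m : ℕ, Cfsg.classInner (fun g => (χ : G → ℂ) ((glcFix (φ z)).subtype g))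
      (ψ : glcFix (φ z) → ℂ) = (m : ℂ) ∧ ¬ p ∣ m) :
    (∀ a g, (χ : G → ℂ) (φ a g) = (χ : G → ℂ) g) ↔
      (∀ a g, (ψ : glcFix (φ z) → ℂ) (glcResHom φ (glcFix (φ z)) (glc_fix_stable φ z hz) a g) =
        (ψ : glcFix (φ z) → ℂ) g) := by
  obtain ⟨f₁, hb₁, hm₁⟩ := hc₁
  obtain ⟨m, hm, hpm⟩ := hψ
  have hU : ∀ (χ' : {χ : Cfsg.IrrCharacter G // ∀ g, (χ : G → ℂ) (φ z g) = (χ : G → ℂ) g})
      (ψ' : Cfsg.IrrCharacter (glcFix (φ z))) (m' : ℕ),
      Cfsg.classInner (fun g => (χ'.1 : G → ℂ) ((glcFix (φ z)).subtype g))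
        (ψ' : glcFix (φ z) → ℂ) = (m' : ℂ) → ¬ p ∣ m' → ψ' = f₁ χ' := by
    intro χ' ψ' m' hm' hpm'
    by_contra hne
    obtain ⟨m'', hm'', _, h3⟩ := hm₁ χ' ψ'
    have : m'' = m' := by
      have := hm''.symm.trans hm'
      exact_mod_cast this
    rw [this] at h3
    exact hpm' (h3 hne)
  set F : glcFix (φ z) → ℂ := fun g => (χ : G → ℂ) ((glcFix (φ z)).subtype g) with hF
  constructor
  · intro hI a g
    set e : glcFix (φ z) ≃* glcFix (φ z) := glcResHom φ (glcFix (φ z)) (glc_fix_stable φ z hz) a with he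
    let ψ' : Cfsg.IrrCharacter (glcFix (φ z)) :=
      ⟨fun g => (ψ : glcFix (φ z) → ℂ) (e g), Cfsg.Agent.Lib.helper7.h7_isIrr_comp_equiv e _ ψ.2⟩
    have hFe : (fun g => F (e g)) = F := by
      funext g
      show (χ : G → ℂ) (φ a g) = (χ : G → ℂ) g
      exact hI a g
    have h1 : Cfsg.classInner F (ψ' : glcFix (φ z) → ℂ) = (m : ℂ) := by
      have := Cfsg.Agent.Lib.helper7.h7_classInner_comp_equiv e F (ψ : glcFix (φ z) → ℂ)
      rw [hFe] at this
      rw [← hm]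
      exact this
    have h2 := hU ⟨χ, hχ⟩ ψ' m h1 hpm
    have h3 := hU ⟨χ, hχ⟩ ψ m hm hpm
    have h4 : ψ' = ψ := h2.trans h3.symm
    exact congrFun (congrArg Subtype.val h4) g
  · intro hI₂ a
    set e : glcFix (φ z) ≃* glcFix (φ z) := glcResHom φ (glcFix (φ z)) (glc_fix_stable φ z hz) a with he
    let χ' : Cfsg.IrrCharacter G :=
      ⟨fun g => (χ : G → ℂ) (φ a g), Cfsg.Agent.Lib.helper7.h7_isIrr_comp_equiv (φ a) _ χ.2⟩
    have hχ' : ∀ g, (χ' : G → ℂ) (φ z g) = (χ' : G → ℂ) g := by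
      intro g
      show (χ : G → ℂ) (φ a (φ z g)) = (χ : G → ℂ) (φ a g)
      rw [← MulAut.mul_apply, ← map_mul, hz a, map_mul, MulAut.mul_apply, hχ]
    have hψe : (fun g => (ψ : glcFix (φ z) → ℂ) (e g)) = (ψ : glcFix (φ z) → ℂ) := by
      funext g
      exact hI₂ a g
    have h1 : Cfsg.classInner (fun g => (χ' : G → ℂ) ((glcFix (φ z)).subtype g))
        (ψ : glcFix (φ z) → ℂ) = (m : ℂ) := by
      have := Cfsg.Agent.Lib.helper7.h7_classInner_comp_equiv e F (ψ : glcFix (φ z) → ℂ)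
      rw [hψe, hm] at this
      exact this
    have h2 := hU ⟨χ', hχ'⟩ ψ m h1 hpm
    have h3 := hU ⟨χ, hχ⟩ ψ m hm hpm
    have h4 := hb₁.1 (h2.symm.trans h3)
    have h5 : χ' = χ := congrArg
      (Subtype.val : {χ : Cfsg.IrrCharacter G // ∀ g, (χ : G → ℂ) (φ z g) = (χ : G → ℂ) g} → _) h4
    intro g
    exact congrFun (congrArg Subtype.val h5) g

end Cfsg.Agent.Lib.Helper24
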