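import Mathlib
import Cfsg.Agent.Lib.Helper24.Glc11

set_option autoImplicit false

namespace Cfsg.Agent.Lib.Helper24

open scoped ComplexConjugate

universe u v

theorem glc_zpowers_normal {A : Type*} [Group A] (z : A) (hz : ∀ a : A, a * z = z * a) :
    (Subgroup.zpowers z).Normal := by
  constructor
  intro x hx g
  obtain ⟨k, rfl⟩ := Subgroup.mem_zpowers_iff.mp hx
  have hc : Commute g z := hz g
  have : g * z ^ k * g⁻¹ = z ^ k := by
    rw [(hc.zpow_right k).eq, mul_inv_cancel_right]
  rw [this]
  exact Subgroup.zpow_mem_zpowers z k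

theorem glc_pgroup_aux (p : ℕ) [hp : Fact p.Prime] : ∀ (n : ℕ) (A : Type v) [Group A] [Finite A],
    Nat.card A = p ^ n →
    ∀ (G : Type u) [Group G] [Fintype G], ¬ p ∣ Nat.card G → ∀ (φ : A →* MulAut G)
      (C : Type u) [Group C] [Fintype C] (ι : C →* G), Function.Injective ι →
      (∀ g, (∀ a, φ a g = g) ↔ ∃ c, ι c = g) →
      GlcCore p ι (fun χ => ∀ a g, (χ : G → ℂ) (φ a g) = (χ : G → ℂ) g) := by
  intro n
  induction n with
  | zero =>
    intro A _ _ hA G _ _ hpG φ C _ _ ι hι hr
    rw [pow_zero] at hA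
    have hsub : ∀ a : A, a = 1 := by
      intro a
      have := (Nat.card_eq_one_iff_unique.mp hA).1
      exact Subsingleton.elim a 1
    have hφ : ∀ a : A, φ a = 1 := by
      intro a
      rw [hsub a, map_one]
    have hr1 : ∀ g, (1 : MulAut G) g = g ↔ ∃ c, ι c = g := by
      intro g
      rw [← hr g]
      constructor
      · intro _ a
        rw [hφ a]
        rfl
      · intro _
        rfl
    have hbase := glc_base p hpG (1 : MulAut G) (one_pow p) ι hι hr1
    refine GlcCore_congr p ι _ _ ?_ hbase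
    intro χ
    constructor
    · intro _ a g
      rw [hφ a]
      rfl
    · intro _ g
      rfl
  | succ n ih =>
    intro A _ _ hA G _ _ hpG φ C _ _ ι hι hr
    classical
    have hPA : IsPGroup p A := IsPGroup.of_card hA
    haveI : Nontrivial A := by
      apply Finite.one_lt_card_iff_nontrivial.mp
      rw [hA]
      exact Nat.one_lt_pow (Nat.succ_ne_zero n) hp.out.one_lt
    haveI : Nontrivial (Subgroup.center A) := hPA.center_nontrivial
    have hPZ : IsPGroup p (Subgroup.center A) := hPA.to_subgroup _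
    obtain ⟨k, hk⟩ := IsPGroup.iff_card.mp hPZ
    have hk0 : k ≠ 0 := by
      intro h0
      rw [h0, pow_zero] at hk
      have := Finite.one_lt_card_iff_nontrivial.mpr (inferInstance : Nontrivial (Subgroup.center A))
      omega
    have hdvd : p ∣ Nat.card (Subgroup.center A) := by
      rw [hk]
      exact dvd_pow_self p hk0
    obtain ⟨z', hz'⟩ := exists_prime_orderOf_dvd_card' p hdvd
    set z : A := z'.1 with hzdef
    have hzord : orderOf z = p := by
      rw [hzdef, Subgroup.orderOf_coe, hz']
    have hz : ∀ a : A, a * z = z * a := fun a => Subgroup.mem_center_iff.mp z'.2 a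
    have hzp : z ^ p = 1 := by
      rw [← hzord]
      exact pow_orderOf_eq_one z
    have hα : (φ z) ^ p = 1 := by
      rw [← map_pow, hzp, map_one]
    haveI : Fintype (glcFix (φ z)) := Fintype.ofFinite _
    have hr₁ : ∀ g, (φ z) g = g ↔ ∃ c : glcFix (φ z), (glcFix (φ z)).subtype c = g := by
      intro g
      constructor
      · intro h
        exact ⟨⟨g, h⟩, rfl⟩
      · rintro ⟨c, rfl⟩
        exact c.2
    have hc₁ := glc_base p hpG (φ z) hα (glcFix (φ z)).subtype Subtype.val_injective hr₁
    haveI hZn : (Subgroup.zpowers z).Normal := glc_zpowers_normal z hz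
    have hcardQ : Nat.card (A ⧸ Subgroup.zpowers z) = p ^ n := by
      have h1 := Subgroup.card_eq_card_quotient_mul_card_subgroup (Subgroup.zpowers z)
      rw [Nat.card_zpowers, hzord, hA, pow_succ] at h1
      exact (Nat.eq_of_mul_eq_mul_right hp.out.pos h1).symm
    set φ₁' : A →* MulAut (glcFix (φ z)) := glcResHom φ (glcFix (φ z)) (glc_fix_stable φ z hz) with hφ₁'
    have hker : Subgroup.zpowers z ≤ φ₁'.ker := by
      rw [Subgroup.zpowers_le, MonoidHom.mem_ker]
      ext g
      show φ z g = g
      exact g.2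
    set φ₁ : A ⧸ Subgroup.zpowers z →* MulAut (glcFix (φ z)) :=
      QuotientGroup.lift (Subgroup.zpowers z) φ₁' hker with hφ₁
    have hmemC : ∀ c : C, ι c ∈ glcFix (φ z) := fun c => (hr (ι c)).mpr ⟨c, rfl⟩ z
    set ι' : C →* glcFix (φ z) := ι.codRestrict (glcFix (φ z)) hmemC with hι'def
    have hι' : Function.Injective ι' := by
      intro c c' h
      apply hι
      exact congrArg Subtype.val h
    have hr' : ∀ g : glcFix (φ z), (∀ a₁ : A ⧸ Subgroup.zpowers z, φ₁ a₁ g = g) ↔ ∃ c, ι' c = g := by
      intro g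
      constructor
      · intro h
        have h1 : ∀ a : A, φ a g = g := by
          intro a
          have := h (QuotientGroup.mk a)
          exact congrArg Subtype.val this
        obtain ⟨c, hc⟩ := (hr g.1).mp h1
        exact ⟨c, Subtype.ext hc⟩
      · rintro ⟨c, rfl⟩ a₁
        obtain ⟨a, rfl⟩ := QuotientGroup.mk_surjective a₁
        apply Subtype.ext
        show φ a (ι c) = ι c
        exact (hr (ι c)).mpr ⟨c, rfl⟩ a
    have hpG₁ : ¬ p ∣ Nat.card (glcFix (φ z)) := by
      intro h
      exact hpG (dvd_trans h (Subgroup.card_subgroup_dvd_card _))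
    have hc₂' := ih (A ⧸ Subgroup.zpowers z) hcardQ (glcFix (φ z)) hpG₁ φ₁ C ι' hι' hr'
    have hc₂ : GlcCore p ι' (fun ψ : Cfsg.IrrCharacter (glcFix (φ z)) =>
        ∀ a g, (ψ : glcFix (φ z) → ℂ) (φ₁' a g) = (ψ : glcFix (φ z) → ℂ) g) := by
      refine GlcCore_congr p ι' _ _ ?_ hc₂'
      intro ψ
      constructor
      · intro h a g
        exact h (QuotientGroup.mk a) g
      · intro h a₁ g
        obtain ⟨a, rfl⟩ := QuotientGroup.mk_surjective a₁
        exact h a g
    refine glc_compose p (glcFix (φ z)).subtype ι' ι (fun c => rfl)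
      (fun χ : Cfsg.IrrCharacter G => ∀ g, (χ : G → ℂ) (φ z g) = (χ : G → ℂ) g) _ _ hc₁ hc₂ ?_ ?_
    · intro χ h g
      exact h z g
    · intro χ hχ ψ hψ
      exact glc_E p φ z hz hc₁ χ hχ ψ hψ

end Cfsg.Agent.Lib.Helper24
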