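import Mathlib
import Cfsg.Agent.Lib.Helper24.Glc12

set_option autoImplicit false

namespace Cfsg.Agent.Lib.Helper24

open scoped ComplexConjugate

variable {G C : Type*} [Group G] [Group C]

theorem glc_trivial [Fintype C] (p : ℕ) (ι : C →* G) (hι : Function.Bijective ι)
    (Inv : Cfsg.IrrCharacter G → Prop) (hInv : ∀ χ, Inv χ) :
    GlcCore p ι Inv := by
  classical
  let e : C ≃* G := MulEquiv.ofBijective ι hι
  let f : {χ : Cfsg.IrrCharacter G // Inv χ} → Cfsg.IrrCharacter C := fun χ =>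
    ⟨fun c => (χ.1 : G → ℂ) (ι c), Cfsg.Agent.Lib.helper7.h7_isIrr_comp_equiv e _ χ.1.2⟩
  refine ⟨f, ⟨?_, ?_⟩, ?_⟩
  · intro χ χ' h
    apply Subtype.ext
    apply Subtype.ext
    funext g
    obtain ⟨c, rfl⟩ := hι.2 g
    exact congrFun (congrArg Subtype.val h) c
  · intro β
    let χ : Cfsg.IrrCharacter G :=
      ⟨fun g => (β : C → ℂ) (e.symm g), Cfsg.Agent.Lib.helper7.h7_isIrr_comp_equiv e.symm _ β.2⟩
    refine ⟨⟨χ, hInv χ⟩, ?_⟩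
    apply Subtype.ext
    funext c
    show (β : C → ℂ) (e.symm (ι c)) = (β : C → ℂ) c
    have : e.symm (ι c) = c := e.symm_apply_apply c
    rw [this]
  · intro χ β
    by_cases hβ : β = f χ
    · refine ⟨1, ?_, fun _ => Or.inl (by norm_num), fun h => absurd hβ h⟩
      have := Cfsg.Agent.Lib.Helper25.irr_classInner (f χ) β
      rw [if_pos hβ.symm] at this
      rw [Nat.cast_one]
      exact this
    · refine ⟨0, ?_, fun h => absurd h hβ, fun _ => dvd_zero p⟩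
      have := Cfsg.Agent.Lib.Helper25.irr_classInner (f χ) β
      rw [if_neg (fun h => hβ h.symm)] at this
      rw [Nat.cast_zero]
      exact this

theorem glc_core_consequences [Fintype C] (p : ℕ) [hp : Fact p.Prime] (ι : C →* G)
    (Inv : Cfsg.IrrCharacter G → Prop) (hc : GlcCore p ι Inv) :
    (∀ χ : Cfsg.IrrCharacter G, Inv χ → ∃! β : Cfsg.IrrCharacter C, ∃ m : ℕ,
      Cfsg.classInner (fun c => (χ : G → ℂ) (ι c)) (β : C → ℂ) = (m : ℂ) ∧ ¬ p ∣ m) ∧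
    (∀ χ : Cfsg.IrrCharacter G, Inv χ → ∀ β : Cfsg.IrrCharacter C, ∀ m : ℕ,
      Cfsg.classInner (fun c => (χ : G → ℂ) (ι c)) (β : C → ℂ) = (m : ℂ) → ¬ p ∣ m →
      ((m : ℤ) ≡ 1 [ZMOD p] ∨ (m : ℤ) ≡ -1 [ZMOD p])) ∧
    (∀ χ χ' : Cfsg.IrrCharacter G, Inv χ → Inv χ' → ∀ β : Cfsg.IrrCharacter C, ∀ m m' : ℕ,
      Cfsg.classInner (fun c => (χ : G → ℂ) (ι c)) (β : C → ℂ) = (m : ℂ) → ¬ p ∣ m →
      Cfsg.classInner (fun c => (χ' : G → ℂ) (ι c)) (β : C → ℂ) = (m' : ℂ) → ¬ p ∣ m' → χ = χ') ∧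
    (∀ β : Cfsg.IrrCharacter C, ∃ χ : Cfsg.IrrCharacter G, Inv χ ∧ ∃ m : ℕ,
      Cfsg.classInner (fun c => (χ : G → ℂ) (ι c)) (β : C → ℂ) = (m : ℂ) ∧ ¬ p ∣ m) := by
  obtain ⟨f, hb, hm⟩ := hc
  have hU : ∀ (χ : {χ : Cfsg.IrrCharacter G // Inv χ}) (β : Cfsg.IrrCharacter C) (m : ℕ),
      Cfsg.classInner (fun c => (χ.1 : G → ℂ) (ι c)) (β : C → ℂ) = (m : ℂ) → ¬ p ∣ m → β = f χ := by
    intro χ β m hm' hpm
    by_contra hne
    obtain ⟨m'', hm'', _, h3⟩ := hm χ β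
    have : m'' = m := by
      have := hm''.symm.trans hm'
      exact_mod_cast this
    rw [this] at h3
    exact hpm (h3 hne)
  have hV : ∀ (χ : {χ : Cfsg.IrrCharacter G // Inv χ}), ∃ m : ℕ,
      Cfsg.classInner (fun c => (χ.1 : G → ℂ) (ι c)) ((f χ : Cfsg.IrrCharacter C) : C → ℂ) = (m : ℂ) ∧
      ¬ p ∣ m := by
    intro χ
    obtain ⟨m, hm', h1, _⟩ := hm χ (f χ)
    exact ⟨m, hm', glc_pm_not_dvd p m (h1 rfl)⟩
  refine ⟨?_, ?_, ?_, ?_⟩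
  · intro χ hχ
    refine ⟨f ⟨χ, hχ⟩, hV ⟨χ, hχ⟩, ?_⟩
    rintro β ⟨m, hm', hpm⟩
    exact hU ⟨χ, hχ⟩ β m hm' hpm
  · intro χ hχ β m hm' hpm
    have hβ := hU ⟨χ, hχ⟩ β m hm' hpm
    obtain ⟨m'', hm'', h1, _⟩ := hm ⟨χ, hχ⟩ β
    have : m'' = m := by
      have := hm''.symm.trans hm'
      exact_mod_cast this
    rw [this] at h1
    exact h1 hβ
  · intro χ χ' hχ hχ' β m m' hm1 hpm hm2 hpm'
    have h1 := hU ⟨χ, hχ⟩ β m hm1 hpm
    have h2 := hU ⟨χ', hχ'⟩ β m' hm2 hpm'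
    have h3 := hb.1 (h1.symm.trans h2)
    exact congrArg Subtype.val h3
  · intro β
    obtain ⟨χ, hχ⟩ := hb.2 β
    refine ⟨χ.1, χ.2, ?_⟩
    rw [← hχ]
    exact hV χ

end Cfsg.Agent.Lib.Helper24
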