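import Mathlib
import Cfsg.Agent.Lib.Helper24.Glc13

set_option autoImplicit false

namespace Cfsg.Agent.Lib.Helper24

open scoped ComplexConjugate

universe u v

theorem glc_pgroup (p : ℕ) [hp : Fact p.Prime] (A : Type v) [Group A] [Finite A] (hA : IsPGroup p A)
    (G : Type u) [Group G] [Fintype G] (hcop : (Nat.card G).Coprime (Nat.card A))
    (φ : A →* MulAut G) (C : Type u) [Group C] [Fintype C] (ι : C →* G)
    (hι : Function.Injective ι) (hr : ∀ g, (∀ a, φ a g = g) ↔ ∃ c, ι c = g) :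
    GlcCore p ι (fun χ => ∀ a g, (χ : G → ℂ) (φ a g) = (χ : G → ℂ) g) := by
  obtain ⟨n, hn⟩ := IsPGroup.iff_card.mp hA
  cases n with
  | zero =>
    rw [pow_zero] at hn
    have hsub : ∀ a : A, a = 1 := by
      intro a
      have := (Nat.card_eq_one_iff_unique.mp hn).1
      exact Subsingleton.elim a 1
    have hφ : ∀ a : A, φ a = 1 := by
      intro a
      rw [hsub a, map_one]
    apply glc_trivial p ι
    · refine ⟨hι, ?_⟩
      intro g
      apply (hr g).mp
      intro a
      rw [hφ a]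
      rfl
    · intro χ a g
      rw [hφ a]
      rfl
  | succ n =>
    have hpG : ¬ p ∣ Nat.card G := by
      intro h
      have h2 : p ∣ Nat.card A := by
        rw [hn]
        exact dvd_pow_self p (Nat.succ_ne_zero n)
      have := Nat.dvd_gcd h h2
      rw [hcop] at this
      exact hp.out.one_lt.ne' (Nat.dvd_one.mp this)
    exact glc_pgroup_aux p (n + 1) A hn G hpG φ C ι hι hr

theorem glc_subgroup {Γ : Type u} [Group Γ] (G S : Subgroup Γ) [Fintype G] [Finite S]
    (hnorm : ∀ s ∈ S, ∀ g ∈ G, s * g * s⁻¹ ∈ G) (hcop : (Nat.card G).Coprime (Nat.card S))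
    (p : ℕ) [hp : Fact p.Prime] (hS : IsPGroup p S) (C : Subgroup Γ) [Fintype C]
    (hC : C = G ⊓ Subgroup.centralizer (S : Set Γ)) (hCG : C ≤ G) :
    GlcCore p (Subgroup.inclusion hCG) (fun χ : Cfsg.IrrCharacter G =>
      ∀ s ∈ S, ∀ g g' : G, (g' : Γ) = s * g * s⁻¹ → (χ : G → ℂ) g' = (χ : G → ℂ) g) := by
  let φ₀ : S →* MulAut Γ := (MulAut.conj).comp S.subtype
  have hA : ∀ a : S, ∀ h ∈ G, φ₀ a h ∈ G := by
    intro a h hh
    exact hnorm a.1 a.2 h hh
  let φ : S →* MulAut G := glcResHom φ₀ G hA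
  have hφ : ∀ (a : S) (g : G), ((φ a g : G) : Γ) = a.1 * g.1 * a.1⁻¹ := fun a g => rfl
  have hr : ∀ g : G, (∀ a : S, φ a g = g) ↔ ∃ c : C, Subgroup.inclusion hCG c = g := by
    intro g
    constructor
    · intro h
      have hmem : g.1 ∈ C := by
        rw [hC, Subgroup.mem_inf]
        refine ⟨g.2, ?_⟩
        rw [Subgroup.mem_centralizer_iff]
        intro s hs
        have := congrArg Subtype.val (h ⟨s, hs⟩)
        rw [hφ] at this
        have h2 : s * g.1 = s * g.1 * s⁻¹ * s := by group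
        rw [h2]
        exact congrArg (· * s) this
      exact ⟨⟨g.1, hmem⟩, Subtype.ext rfl⟩
    · rintro ⟨c, rfl⟩ a
      apply Subtype.ext
      rw [hφ]
      have hc : c.1 ∈ G ⊓ Subgroup.centralizer (S : Set Γ) := hC ▸ c.2
      have hcen := Subgroup.mem_centralizer_iff.mp (Subgroup.mem_inf.mp hc).2 a.1 a.2
      show a.1 * c.1 * a.1⁻¹ = c.1
      rw [hcen]
      group
  have hcore := glc_pgroup p S hS G hcop φ C (Subgroup.inclusion hCG)
    (Subgroup.inclusion_injective hCG) hr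
  refine GlcCore_congr p _ _ _ ?_ hcore
  intro χ
  constructor
  · intro h s hs g g' hg'
    have := h ⟨s, hs⟩ g
    have e : φ ⟨s, hs⟩ g = g' := Subtype.ext (by rw [hφ, hg'])
    rw [e] at this
    exact this
  · intro h a g
    exact h a.1 a.2 g (φ a g) (hφ a g)

end Cfsg.Agent.Lib.Helper24
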