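import Mathlib
import Cfsg.Agent.Lib.Helper24.Glc14

set_option autoImplicit false

namespace Cfsg.Agent.Lib.Helper24

variable {G : Type*} [Group G]

theorem glc_pfix_subset [Finite G] (p : ℕ) [hp : Fact p.Prime] {M : Type*} [Group M] [Finite M]
    (hM : IsPGroup p M) (φ : M →* MulAut G) (X : Set G) (hX : ∀ m g, φ m g ∈ X ↔ g ∈ X)
    (hcard : ¬ p ∣ Nat.card X) : ∃ g ∈ X, ∀ m, φ m g = g := by
  have hX' : ∀ m : M, ∀ x : G, (MulAut.toPerm G (φ m)) x ∈ X ↔ x ∈ X := fun m x => hX m x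
  let hom : M →* Equiv.Perm X :=
    { toFun := fun m => (MulAut.toPerm G (φ m)).subtypePerm (hX' m)
      map_one' := by
        ext x
        show ((φ 1) (x : G)) = x
        rw [map_one]
        rfl
      map_mul' := by
        intro a b
        ext x
        show ((φ (a * b)) (x : G)) = (φ a) ((φ b) (x : G))
        rw [map_mul]
        rfl }
  letI : MulAction M X := MulAction.compHom X hom
  obtain ⟨x, hx⟩ := hM.nonempty_fixed_point_of_prime_not_dvd_card X hcard
  refine ⟨x.1, x.2, ?_⟩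
  intro m
  have := hx m
  exact congrArg Subtype.val this

def glcFixAll {A : Type*} [Group A] (φ : A →* MulAut G) (M : Subgroup A) : Subgroup G where
  carrier := {g | ∀ m ∈ M, φ m g = g}
  one_mem' := fun m _ => map_one (φ m)
  mul_mem' := by
    intro a b ha hb m hm
    rw [map_mul, ha m hm, hb m hm]
  inv_mem' := by
    intro a ha m hm
    rw [map_inv, ha m hm]

theorem glc_mem_fixAll {A : Type*} [Group A] (φ : A →* MulAut G) (M : Subgroup A) (g : G) :
    g ∈ glcFixAll φ M ↔ ∀ m ∈ M, φ m g = g := Iff.rfl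

theorem glc_fixAll_stable {A : Type*} [Group A] (φ : A →* MulAut G) (M : Subgroup A) [hM : M.Normal]
    (a : A) (h : G) (hh : h ∈ glcFixAll φ M) : φ a h ∈ glcFixAll φ M := by
  intro m hm
  have h1 : a⁻¹ * m * a ∈ M := by
    have := hM.conj_mem m hm a⁻¹
    rwa [inv_inv] at this
  have h2 := hh (a⁻¹ * m * a) h1
  have h3 : m * a = a * (a⁻¹ * m * a) := by group
  rw [← MulAut.mul_apply, ← map_mul, h3, map_mul, MulAut.mul_apply, h2]

theorem glc_conj_pfixed [Finite G] (p : ℕ) [hp : Fact p.Prime] (hpG : ¬ p ∣ Nat.card G)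
    {M : Type*} [Group M] [Finite M] (hM : IsPGroup p M) (φ : M →* MulAut G)
    (a b : G) (ha : ∀ m, φ m a = a) (hb : ∀ m, φ m b = b) (hab : IsConj a b) :
    ∃ g : G, (∀ m, φ m g = g) ∧ g * a * g⁻¹ = b := by
  obtain ⟨g₁, hg₁⟩ := isConj_iff.mp hab
  let X : Set G := {g | g * a * g⁻¹ = b}
  have hX : ∀ m g, φ m g ∈ X ↔ g ∈ X := by
    intro m g
    show φ m g * a * (φ m g)⁻¹ = b ↔ g * a * g⁻¹ = b
    constructor
    · intro h
      apply (φ m).injective
      rw [map_mul, map_mul, map_inv, ha, hb]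
      exact h
    · intro h
      have := congrArg (φ m) h
      rw [map_mul, map_mul, map_inv, ha, hb] at this
      exact this
  have hcard : Nat.card X = Nat.card (Subgroup.centralizer ({a} : Set G)) := by
    apply Nat.card_congr
    refine Equiv.symm (Equiv.ofBijective (fun z => ⟨g₁ * z.1, ?_⟩) ⟨?_, ?_⟩)
    · show g₁ * z.1 * a * (g₁ * z.1)⁻¹ = b
      have hz := Subgroup.mem_centralizer_iff.mp z.2 a (Set.mem_singleton a)
      rw [_root_.mul_inv_rev, ← hg₁]
      have : g₁ * z.1 * a * (z.1⁻¹ * g₁⁻¹) = g₁ * (z.1 * a * z.1⁻¹) * g₁⁻¹ := by group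
      rw [this, ← hz]
      group
    · intro z z' h
      have := congrArg Subtype.val h
      simp only at this
      exact Subtype.ext (mul_left_cancel this)
    · intro x
      have hx : x.1 * a * x.1⁻¹ = b := x.2
      refine ⟨⟨g₁⁻¹ * x.1, ?_⟩, ?_⟩
      · rw [Subgroup.mem_centralizer_iff]
        intro y hy
        rw [Set.mem_singleton_iff] at hy
        subst hy
        have h1 : g₁⁻¹ * (x.1 * y * x.1⁻¹) * g₁ = y := by
          rw [hx, ← hg₁]; group
        calc y * (g₁⁻¹ * x.1) = g₁⁻¹ * (x.1 * y * x.1⁻¹) * g₁ * (g₁⁻¹ * x.1) := by rw [h1]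
          _ = g₁⁻¹ * x.1 * y := by group
      · apply Subtype.ext
        show g₁ * (g₁⁻¹ * x.1) = x.1
        group
  have hnd : ¬ p ∣ Nat.card X := by
    rw [hcard]
    intro h
    exact hpG (dvd_trans h (Subgroup.card_subgroup_dvd_card _))
  obtain ⟨g, hgX, hg⟩ := glc_pfix_subset p hM φ X hX hnd
  exact ⟨g, hg, hgX⟩

theorem glc_class_pfixed [Finite G] (p : ℕ) [hp : Fact p.Prime] (hpG : ¬ p ∣ Nat.card G)
    {M : Type*} [Group M] [Finite M] (hM : IsPGroup p M) (φ : M →* MulAut G)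
    (K : ConjClasses G) (hK : ∀ m, glcTau (φ m) K = K) :
    ∃ g : G, (∀ m, φ m g = g) ∧ ConjClasses.mk g = K := by
  obtain ⟨g₁, rfl⟩ := ConjClasses.mk_surjective K
  let X : Set G := {g | ConjClasses.mk g = ConjClasses.mk g₁}
  have hX : ∀ m g, φ m g ∈ X ↔ g ∈ X := by
    intro m g
    show ConjClasses.mk (φ m g) = ConjClasses.mk g₁ ↔ ConjClasses.mk g = ConjClasses.mk g₁
    rw [← glcTau_mk]
    constructor
    · intro h
      apply (glcTau (φ m)).injective
      rw [h, hK m]
    · intro h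
      rw [h, hK m]
  have hcard : Nat.card X = Nat.card {x : G // IsConj g₁ x} := by
    apply Nat.card_congr
    apply Equiv.subtypeEquivRight
    intro x
    show ConjClasses.mk x = ConjClasses.mk g₁ ↔ IsConj g₁ x
    rw [ConjClasses.mk_eq_mk_iff_isConj]
    exact isConj_comm
  have hnd : ¬ p ∣ Nat.card X := by
    rw [hcard]
    intro h
    apply hpG
    rw [← Cfsg.Agent.Lib.Helper25.card_conj_mul_card_centralizer g₁]
    exact dvd_mul_of_dvd_left h _
  obtain ⟨g, hgX, hg⟩ := glc_pfix_subset p hM φ X hX hnd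
  exact ⟨g, hg, hgX⟩

end Cfsg.Agent.Lib.Helper24
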