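import Mathlib
import Cfsg.Agent.Lib.Helper24.Gls1

set_option autoImplicit false

namespace Cfsg.Agent.Lib.Helper24

open scoped ComplexConjugate

variable {G G₁ : Type*} [Group G] [Group G₁]

noncomputable def glcTwist (σ : G ≃* G) (χ : Cfsg.IrrCharacter G) : Cfsg.IrrCharacter G :=
  ⟨fun g => (χ : G → ℂ) (σ g), Cfsg.Agent.Lib.helper7.h7_isIrr_comp_equiv σ _ χ.2⟩

theorem glcTwist_apply (σ : G ≃* G) (χ : Cfsg.IrrCharacter G) (g : G) :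
    (glcTwist σ χ : G → ℂ) g = (χ : G → ℂ) (σ g) := rfl

theorem glc_E_abs [Fintype G₁] (p : ℕ) (ι₁ : G₁ →* G) (Inv₁ : Cfsg.IrrCharacter G → Prop)
    (hc₁ : GlcCore p ι₁ Inv₁) {I : Type*} (σ : I → (G ≃* G)) (e : I → (G₁ ≃* G₁))
    (hσe : ∀ i g, ι₁ (e i g) = σ i (ι₁ g))
    (hst : ∀ i χ, Inv₁ χ → Inv₁ (glcTwist (σ i) χ))
    (χ : Cfsg.IrrCharacter G) (hχ : Inv₁ χ) (ψ : Cfsg.IrrCharacter G₁)
    (hψ : ∃ m : ℕ, Cfsg.classInner (fun g => (χ : G → ℂ) (ι₁ g)) (ψ : G₁ → ℂ) = (m : ℂ) ∧ ¬ p ∣ m) :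
    (∀ i g, (χ : G → ℂ) (σ i g) = (χ : G → ℂ) g) ↔
      (∀ i g, (ψ : G₁ → ℂ) (e i g) = (ψ : G₁ → ℂ) g) := by
  obtain ⟨f₁, hb₁, hm₁⟩ := hc₁
  obtain ⟨m, hm, hpm⟩ := hψ
  have hU : ∀ (χ' : {χ : Cfsg.IrrCharacter G // Inv₁ χ}) (ψ' : Cfsg.IrrCharacter G₁) (m' : ℕ),
      Cfsg.classInner (fun g => (χ'.1 : G → ℂ) (ι₁ g)) (ψ' : G₁ → ℂ) = (m' : ℂ) → ¬ p ∣ m' →
      ψ' = f₁ χ' := by
    intro χ' ψ' m' hm' hpm'
    by_contra hne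
    obtain ⟨m'', hm'', _, h3⟩ := hm₁ χ' ψ'
    have : m'' = m' := by
      have := hm''.symm.trans hm'
      exact_mod_cast this
    rw [this] at h3
    exact hpm' (h3 hne)
  set F : G₁ → ℂ := fun g => (χ : G → ℂ) (ι₁ g) with hF
  constructor
  · intro hI i g
    let ψ' : Cfsg.IrrCharacter G₁ := glcTwist (e i) ψ
    have hFe : (fun g => F (e i g)) = F := by
      funext g
      show (χ : G → ℂ) (ι₁ (e i g)) = (χ : G → ℂ) (ι₁ g)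
      rw [hσe]
      exact hI i _
    have h1 : Cfsg.classInner F (ψ' : G₁ → ℂ) = (m : ℂ) := by
      have := Cfsg.Agent.Lib.helper7.h7_classInner_comp_equiv (e i) F (ψ : G₁ → ℂ)
      rw [hFe] at this
      rw [← hm]
      exact this
    have h2 := hU ⟨χ, hχ⟩ ψ' m h1 hpm
    have h3 := hU ⟨χ, hχ⟩ ψ m hm hpm
    have h4 : ψ' = ψ := h2.trans h3.symm
    exact congrFun (congrArg Subtype.val h4) g
  · intro hI₂ i
    let χ' : Cfsg.IrrCharacter G := glcTwist (σ i) χ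
    have hχ' : Inv₁ χ' := hst i χ hχ
    have hψe : (fun g => (ψ : G₁ → ℂ) (e i g)) = (ψ : G₁ → ℂ) := by
      funext g
      exact hI₂ i g
    have h1 : Cfsg.classInner (fun g => (χ' : G → ℂ) (ι₁ g)) (ψ : G₁ → ℂ) = (m : ℂ) := by
      have := Cfsg.Agent.Lib.helper7.h7_classInner_comp_equiv (e i) F (ψ : G₁ → ℂ)
      rw [hψe, hm] at this
      rw [← this]
      congr 1
      funext g
      show (χ : G → ℂ) (σ i (ι₁ g)) = (χ : G → ℂ) (ι₁ (e i g))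
      rw [hσe]
    have h2 := hU ⟨χ', hχ'⟩ ψ m h1 hpm
    have h3 := hU ⟨χ, hχ⟩ ψ m hm hpm
    have h4 := hb₁.1 (h2.symm.trans h3)
    have h5 : χ' = χ := congrArg (Subtype.val : {χ : Cfsg.IrrCharacter G // Inv₁ χ} → _) h4
    intro g
    exact congrFun (congrArg Subtype.val h5) g

theorem glc_inv_card [Fintype G₁] (p : ℕ) [hp : Fact p.Prime] (ι₁ : G₁ →* G)
    (Inv₁ Inv : Cfsg.IrrCharacter G → Prop) (Inv₂ : Cfsg.IrrCharacter G₁ → Prop)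
    (hc₁ : GlcCore p ι₁ Inv₁) (hInv : ∀ χ, Inv χ → Inv₁ χ)
    (hE : ∀ χ : Cfsg.IrrCharacter G, Inv₁ χ → ∀ ψ : Cfsg.IrrCharacter G₁,
      (∃ m : ℕ, Cfsg.classInner (fun g => (χ : G → ℂ) (ι₁ g)) (ψ : G₁ → ℂ) = (m : ℂ) ∧ ¬ p ∣ m) →
      (Inv χ ↔ Inv₂ ψ)) :
    Nat.card {χ : Cfsg.IrrCharacter G // Inv χ} = Nat.card {ψ : Cfsg.IrrCharacter G₁ // Inv₂ ψ} := by
  obtain ⟨f₁, hb₁, hm₁⟩ := hc₁
  have hnd₁ : ∀ χ : {χ : Cfsg.IrrCharacter G // Inv₁ χ}, ∃ m : ℕ,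
      Cfsg.classInner (fun g => (χ.1 : G → ℂ) (ι₁ g)) ((f₁ χ : Cfsg.IrrCharacter G₁) : G₁ → ℂ) = (m : ℂ) ∧
      ¬ p ∣ m := by
    intro χ
    obtain ⟨m, hm, h1, _⟩ := hm₁ χ (f₁ χ)
    exact ⟨m, hm, glc_pm_not_dvd p m (h1 rfl)⟩
  have hInv₂ : ∀ χ : {χ : Cfsg.IrrCharacter G // Inv χ}, Inv₂ (f₁ ⟨χ.1, hInv χ.1 χ.2⟩) := by
    intro χ
    exact (hE χ.1 (hInv χ.1 χ.2) _ (hnd₁ ⟨χ.1, hInv χ.1 χ.2⟩)).mp χ.2
  apply Nat.card_congr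
  refine Equiv.ofBijective (fun χ => ⟨f₁ ⟨χ.1, hInv χ.1 χ.2⟩, hInv₂ χ⟩) ⟨?_, ?_⟩
  · intro χ χ' h
    have h2 : f₁ ⟨χ.1, hInv χ.1 χ.2⟩ = f₁ ⟨χ'.1, hInv χ'.1 χ'.2⟩ := congrArg Subtype.val h
    have h3 := hb₁.1 h2
    have h4 : χ.1 = χ'.1 := congrArg (Subtype.val : {χ : Cfsg.IrrCharacter G // Inv₁ χ} → _) h3
    exact Subtype.ext h4
  · intro ψ
    obtain ⟨χ, hχ⟩ := hb₁.2 ψ.1
    have hI : Inv χ.1 := by
      apply (hE χ.1 χ.2 ψ.1 _).mpr ψ.2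
      rw [← hχ]
      exact hnd₁ χ
    refine ⟨⟨χ.1, hI⟩, ?_⟩
    apply Subtype.ext
    show f₁ ⟨χ.1, _⟩ = ψ.1
    rw [← hχ]

theorem glc_class_card (ι₁ : G₁ →* G) (hι₁ : Function.Injective ι₁) {I : Type*} (σ : I → (G ≃* G))
    (e : I → (G₁ ≃* G₁)) (hσe : ∀ i g, ι₁ (e i g) = σ i (ι₁ g))
    (h1 : ∀ K : ConjClasses G, (∀ i, glcTau (σ i) K = K) → ∃ c : G₁, ConjClasses.mk (ι₁ c) = K)
    (h2 : ∀ c c' : G₁, IsConj (ι₁ c) (ι₁ c') → IsConj c c') :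
    Nat.card {K : ConjClasses G // ∀ i, glcTau (σ i) K = K} =
      Nat.card {L : ConjClasses G₁ // ∀ i, glcTau (e i) L = L} := by
  symm
  apply Nat.card_congr
  refine Equiv.ofBijective (fun L => ⟨ConjClasses.map ι₁ L.1, ?_⟩) ⟨?_, ?_⟩
  · intro i
    obtain ⟨L, hL⟩ := L
    obtain ⟨c, rfl⟩ := ConjClasses.mk_surjective L
    show glcTau (σ i) (ConjClasses.mk (ι₁ c)) = ConjClasses.mk (ι₁ c)
    rw [glcTau_mk, ← hσe]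
    have := hL i
    rw [glcTau_mk, ConjClasses.mk_eq_mk_iff_isConj] at this
    rw [ConjClasses.mk_eq_mk_iff_isConj]
    obtain ⟨d, hd⟩ := isConj_iff.mp this
    rw [isConj_iff]
    refine ⟨ι₁ d, ?_⟩
    rw [← map_inv, ← map_mul, ← map_mul, hd]
  · intro L L' h
    obtain ⟨L, hL⟩ := L
    obtain ⟨L', hL'⟩ := L'
    obtain ⟨c, rfl⟩ := ConjClasses.mk_surjective L
    obtain ⟨c', rfl⟩ := ConjClasses.mk_surjective L'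
    have h3 : ConjClasses.mk (ι₁ c) = ConjClasses.mk (ι₁ c') := congrArg Subtype.val h
    rw [ConjClasses.mk_eq_mk_iff_isConj] at h3
    apply Subtype.ext
    show ConjClasses.mk c = ConjClasses.mk c'
    rw [ConjClasses.mk_eq_mk_iff_isConj]
    exact h2 c c' h3
  · intro K
    obtain ⟨c, hc⟩ := h1 K.1 K.2
    have hL : ∀ i, glcTau (e i) (ConjClasses.mk c) = ConjClasses.mk c := by
      intro i
      rw [glcTau_mk, ConjClasses.mk_eq_mk_iff_isConj]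
      apply h2
      rw [hσe, ← ConjClasses.mk_eq_mk_iff_isConj, ← glcTau_mk, hc]
      exact K.2 i
    exact ⟨⟨ConjClasses.mk c, hL⟩, Subtype.ext hc⟩

end Cfsg.Agent.Lib.Helper24
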