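import Mathlib
import Cfsg.Agent.Lib.Helper24.Gls2
import Cfsg.Agent.Lib.Helper1.MinNormal

set_option autoImplicit false

namespace Cfsg.Agent.Lib.Helper24

open scoped ComplexConjugate

universe u v

theorem glc_solv_aux : ∀ (n : ℕ) (A : Type v) [Group A] [Finite A] [Group.IsSolvable A],
    Nat.card A ≤ n →
    ∀ (G : Type u) [Group G] [Finite G], (Nat.card G).Coprime (Nat.card A) →
    ∀ (φ : A →* MulAut G),
      Nat.card {χ : Cfsg.IrrCharacter G // ∀ a g, (χ : G → ℂ) (φ a g) = (χ : G → ℂ) g} =
        Nat.card {K : ConjClasses G // ∀ a, glcTau (φ a) K = K} := by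
  intro n
  induction n with
  | zero =>
    intro A _ _ _ hA
    have := Nat.card_pos (α := A)
    omega
  | succ n ih =>
    intro A _ _ _ hA G _ _ hcop φ
    classical
    by_cases htriv : Subsingleton A
    · have hφ : ∀ a : A, φ a = 1 := by
        intro a
        rw [Subsingleton.elim a 1, map_one]
      have e1 : Nat.card {χ : Cfsg.IrrCharacter G // ∀ a g, (χ : G → ℂ) (φ a g) = (χ : G → ℂ) g} =
          Nat.card (Cfsg.IrrCharacter G) := by
        apply Nat.card_congr
        apply Equiv.subtypeUnivEquiv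
        intro χ a g
        rw [hφ a]
        rfl
      have e2 : Nat.card {K : ConjClasses G // ∀ a, glcTau (φ a) K = K} = Nat.card (ConjClasses G) := by
        apply Nat.card_congr
        apply Equiv.subtypeUnivEquiv
        intro K a
        rw [hφ a]
        obtain ⟨g, rfl⟩ := ConjClasses.mk_surjective K
        rfl
      rw [e1, e2, Cfsg.Agent.S0133.result]
    · haveI : Nontrivial A := not_subsingleton_iff_nontrivial.mp htriv
      obtain ⟨M, hMn, hMne, hmin⟩ := Cfsg.Agent.Lib.Helper1.exists_minimal_normal (G := A)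
      haveI := hMn
      obtain ⟨_, p, hp, hexp⟩ := Cfsg.Agent.Lib.Helper1.minimal_normal_of_solvable M hMne hmin
      haveI : Fact p.Prime := ⟨hp⟩
      have hMp : IsPGroup p M := by
        intro g
        refine ⟨1, ?_⟩
        rw [pow_one]
        exact Subtype.ext (hexp g.1 g.2)
      haveI : Fintype G := Fintype.ofFinite G
      haveI : Fintype (glcFixAll φ M) := Fintype.ofFinite _
      have hcopM : (Nat.card G).Coprime (Nat.card M) :=
        Nat.Coprime.coprime_dvd_right (Subgroup.card_subgroup_dvd_card M) hcop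
      have hMcard : 1 < Nat.card M := by
        apply Finite.one_lt_card_iff_nontrivial.mpr
        exact (Subgroup.nontrivial_iff_ne_bot M).mpr hMne
      have hpM : p ∣ Nat.card M := by
        obtain ⟨k, hk⟩ := IsPGroup.iff_card.mp hMp
        rw [hk]
        apply dvd_pow_self
        intro h0
        rw [h0, pow_zero] at hk
        omega
      have hpG : ¬ p ∣ Nat.card G := by
        intro h
        have := Nat.dvd_gcd h hpM
        rw [hcopM] at this
        exact hp.one_lt.ne' (Nat.dvd_one.mp this)
      let φM : M →* MulAut G := φ.comp M.subtype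
      have hr₁ : ∀ g, (∀ m : M, φM m g = g) ↔
          ∃ c : glcFixAll φ M, (glcFixAll φ M).subtype c = g := by
        intro g
        constructor
        · intro h
          exact ⟨⟨g, fun m hm => h ⟨m, hm⟩⟩, rfl⟩
        · rintro ⟨c, rfl⟩ m
          exact c.2 m.1 m.2
      have hc₁ := glc_pgroup p M hMp G hcopM φM (glcFixAll φ M) (glcFixAll φ M).subtype
        Subtype.val_injective hr₁
      set φ₁' : A →* MulAut (glcFixAll φ M) :=
        glcResHom φ (glcFixAll φ M) (glc_fixAll_stable φ M) with hφ₁'
      have hker : M ≤ φ₁'.ker := by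
        intro m hm
        rw [MonoidHom.mem_ker]
        ext g
        show φ m g = g
        exact g.2 m hm
      set φ₁ : A ⧸ M →* MulAut (glcFixAll φ M) := QuotientGroup.lift M φ₁' hker with hφ₁
      have hcardQ : Nat.card (A ⧸ M) ≤ n := by
        have h1 := Subgroup.card_eq_card_quotient_mul_card_subgroup M
        have h2 : 0 < Nat.card (A ⧸ M) := Nat.card_pos
        nlinarith
      have hcopQ : (Nat.card (glcFixAll φ M)).Coprime (Nat.card (A ⧸ M)) := by
        have h1 : Nat.card (A ⧸ M) ∣ Nat.card A :=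
          ⟨Nat.card M, Subgroup.card_eq_card_quotient_mul_card_subgroup M⟩
        exact Nat.Coprime.coprime_dvd_left (Subgroup.card_subgroup_dvd_card _)
          (Nat.Coprime.coprime_dvd_right h1 hcop)
      have hIH := ih (A ⧸ M) hcardQ (glcFixAll φ M) hcopQ φ₁
      have e1 : Nat.card {ψ : Cfsg.IrrCharacter (glcFixAll φ M) //
          ∀ a₁ g, (ψ : glcFixAll φ M → ℂ) (φ₁ a₁ g) = (ψ : glcFixAll φ M → ℂ) g} =
          Nat.card {ψ : Cfsg.IrrCharacter (glcFixAll φ M) //
          ∀ a g, (ψ : glcFixAll φ M → ℂ) (φ₁' a g) = (ψ : glcFixAll φ M → ℂ) g} := by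
        apply Nat.card_congr
        apply Equiv.subtypeEquivRight
        intro ψ
        constructor
        · intro h a g
          exact h (QuotientGroup.mk a) g
        · intro h a₁ g
          obtain ⟨a, rfl⟩ := QuotientGroup.mk_surjective a₁
          exact h a g
      have e2 : Nat.card {L : ConjClasses (glcFixAll φ M) // ∀ a₁, glcTau (φ₁ a₁) L = L} =
          Nat.card {L : ConjClasses (glcFixAll φ M) // ∀ a, glcTau (φ₁' a) L = L} := by
        apply Nat.card_congr
        apply Equiv.subtypeEquivRight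
        intro L
        constructor
        · intro h a
          exact h (QuotientGroup.mk a)
        · intro h a₁
          obtain ⟨a, rfl⟩ := QuotientGroup.mk_surjective a₁
          exact h a
      have hσe : ∀ (a : A) (g : glcFixAll φ M),
          (glcFixAll φ M).subtype ((fun a => (φ₁' a : glcFixAll φ M ≃* glcFixAll φ M)) a g) =
          (fun a => (φ a : G ≃* G)) a ((glcFixAll φ M).subtype g) := fun a g => rfl
      have hX1 : Nat.card {χ : Cfsg.IrrCharacter G // ∀ a g, (χ : G → ℂ) (φ a g) = (χ : G → ℂ) g} =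
          Nat.card {ψ : Cfsg.IrrCharacter (glcFixAll φ M) //
          ∀ a g, (ψ : glcFixAll φ M → ℂ) (φ₁' a g) = (ψ : glcFixAll φ M → ℂ) g} := by
        apply glc_inv_card p (glcFixAll φ M).subtype
          (fun χ : Cfsg.IrrCharacter G => ∀ (m : M) g, (χ : G → ℂ) (φM m g) = (χ : G → ℂ) g) _ _ hc₁
        · intro χ h m g
          exact h m.1 g
        · intro χ hχ ψ hψ
          apply glc_E_abs p (glcFixAll φ M).subtype _ hc₁ (fun a => (φ a : G ≃* G))
            (fun a => (φ₁' a : glcFixAll φ M ≃* glcFixAll φ M)) hσe _ χ hχ ψ hψ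
          intro a χ' hχ' m g
          show (χ' : G → ℂ) (φ a (φ m.1 g)) = (χ' : G → ℂ) (φ a g)
          have h1 : a * m.1 * a⁻¹ ∈ M := hMn.conj_mem m.1 m.2 a
          have h3 : a * m.1 = (a * m.1 * a⁻¹) * a := by group
          rw [← MulAut.mul_apply, ← map_mul, h3, map_mul, MulAut.mul_apply]
          exact hχ' ⟨a * m.1 * a⁻¹, h1⟩ (φ a g)
      have hX2 : Nat.card {K : ConjClasses G // ∀ a, glcTau (φ a) K = K} =
          Nat.card {L : ConjClasses (glcFixAll φ M) // ∀ a, glcTau (φ₁' a) L = L} := by
        apply glc_class_card (glcFixAll φ M).subtype Subtype.val_injective (fun a => (φ a : G ≃* G))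
          (fun a => (φ₁' a : glcFixAll φ M ≃* glcFixAll φ M)) hσe
        · intro K hK
          obtain ⟨g, hg, hgK⟩ := glc_class_pfixed p hpG hMp φM K (fun m => hK m.1)
          exact ⟨⟨g, fun m hm => hg ⟨m, hm⟩⟩, hgK⟩
        · intro c c' hcc
          obtain ⟨g, hg, hgc⟩ := glc_conj_pfixed p hpG hMp φM c.1 c'.1
            (fun m => c.2 m.1 m.2) (fun m => c'.2 m.1 m.2) hcc
          rw [isConj_iff]
          refine ⟨⟨g, fun m hm => hg ⟨m, hm⟩⟩, ?_⟩
          apply Subtype.ext
          exact hgc
      rw [hX1, ← e1, hIH, e2, ← hX2]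

end Cfsg.Agent.Lib.Helper24
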