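import Mathlib
import Cfsg.Agent.Lib.Helper24.Cdc3
import Cfsg.Agent.Lib.Helper24.Gls5

set_option autoImplicit false

namespace Cfsg.Agent.Lib.Helper24

open Cfsg.Agent.Lib.helper7 Cfsg.Agent.Lib.Helper11
open scoped ComplexConjugate Pointwise

universe u

variable {G : Type u} [Group G]

theorem cdc_comm_of_normalizer (K H : Subgroup G) [hK : K.Normal] (hinf : K ⊓ H = ⊥)
    (c : G) (hcK : c ∈ K) (hcN : c ∈ Subgroup.normalizer (H : Set G)) (h : G) (hh : h ∈ H) :
    h * c * h⁻¹ = c := by
  have h1 : c * h⁻¹ * c⁻¹ ∈ H := by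
    have := (Subgroup.mem_normalizer_iff.mp hcN h⁻¹).mp (H.inv_mem hh)
    exact this
  have h2 : h * (c * h⁻¹ * c⁻¹) ∈ H := H.mul_mem hh h1
  have h3 : h * c * h⁻¹ ∈ K := hK.conj_mem c hcK h
  have h4 : h * (c * h⁻¹ * c⁻¹) ∈ K := by
    have : h * (c * h⁻¹ * c⁻¹) = (h * c * h⁻¹) * c⁻¹ := by group
    rw [this]
    exact K.mul_mem h3 (K.inv_mem hcK)
  have h5 : h * (c * h⁻¹ * c⁻¹) ∈ K ⊓ H := ⟨h4, h2⟩
  rw [hinf, Subgroup.mem_bot] at h5
  have : h * c * h⁻¹ = (h * (c * h⁻¹ * c⁻¹)) * c := by group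
  rw [this, h5, one_mul]

theorem cdc_normalizer_main [Finite G] (K H : Subgroup G) [hK : K.Normal] (hKH : K ⊔ H = ⊤)
    (hcop : (Nat.card K).Coprime (Nat.card H)) (hsolv : Group.IsSolvable H) :
    Nat.card {χ : Cfsg.IrrCharacter G // (Cfsg.charDegree (χ : G → ℂ)).Coprime (Nat.card H)} =
      Nat.card {η : Cfsg.IrrCharacter (Subgroup.normalizer (H : Set G)) //
        (Cfsg.charDegree (η : Subgroup.normalizer (H : Set G) → ℂ)).Coprime (Nat.card H)} := by
  classical
  haveI : Fintype G := Fintype.ofFinite G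
  set N : Subgroup G := Subgroup.normalizer (H : Set G) with hN
  haveI : Fintype N := Fintype.ofFinite N
  have hHN : H ≤ N := Subgroup.le_normalizer
  have hinf : K ⊓ H = ⊥ := by
    rw [inf_comm]
    exact (Subgroup.disjoint_of_coprime_natCard hcop.symm).eq_bot
  have hL := cdc_main K H hinf hKH hcop
  set K' : Subgroup N := K.subgroupOf N with hK'
  set H' : Subgroup N := H.subgroupOf N with hH'
  haveI : K'.Normal := Subgroup.normal_subgroupOf
  have hinf' : K' ⊓ H' = ⊥ := by
    rw [eq_bot_iff]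
    intro x hx
    rw [Subgroup.mem_bot]
    have h1 : (x : G) ∈ K ⊓ H := ⟨Subgroup.mem_subgroupOf.mp hx.1, Subgroup.mem_subgroupOf.mp hx.2⟩
    rw [hinf, Subgroup.mem_bot] at h1
    exact Subtype.ext h1
  have hsup' : K' ⊔ H' = ⊤ := by
    rw [eq_top_iff]
    intro x _
    obtain ⟨k, hk, h, hh, hkh⟩ := cdc_mul_eq K H hKH (x : G)
    have hhN : h ∈ N := hHN hh
    have hkN : k ∈ N := by
      have : k = (x : G) * h⁻¹ := by rw [← hkh]; group
      rw [this]
      exact N.mul_mem x.2 (N.inv_mem hhN)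
    have hx : x = (⟨k, hkN⟩ : N) * ⟨h, hhN⟩ := Subtype.ext hkh.symm
    rw [hx]
    exact Subgroup.mul_mem_sup (Subgroup.mem_subgroupOf.mpr hk) (Subgroup.mem_subgroupOf.mpr hh)
  let eH : H' ≃* H := Subgroup.subgroupOfEquivOfLe hHN
  have hcardH' : Nat.card H' = Nat.card H := Nat.card_congr eH.toEquiv
  have hcardK' : Nat.card K' ∣ Nat.card K := by
    have h1 : Nat.card K' = Nat.card (K ⊓ N : Subgroup G) := by
      rw [hK']
      exact Nat.card_congr (Subgroup.subgroupOfEquivOfLe (inf_le_right : K ⊓ N ≤ N)).toEquiv |>.symm ▸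
        (by rw [Subgroup.inf_subgroupOf_right])
    rw [h1]
    exact Subgroup.card_dvd_of_le inf_le_left
  have hcop' : (Nat.card K').Coprime (Nat.card H') := by
    rw [hcardH']
    exact Nat.Coprime.coprime_dvd_left hcardK' hcop
  have hR := cdc_main K' H' hinf' hsup' hcop'
  rw [hcardH'] at hR
  rw [hL, hR]
  have hX : Nat.card (H' →* ℂˣ) = Nat.card (H →* ℂˣ) :=
    Nat.card_congr (MulEquiv.monoidHomCongrLeftEquiv eH)
  rw [hX]
  congr 1
  have hA2 : Nat.card {θ : Cfsg.IrrCharacter K' // ∀ (h : H') (n : K'),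
        (θ : K' → ℂ) ⟨(h : N) * n * (h : N)⁻¹,
          (inferInstance : K'.Normal).conj_mem (n : N) n.2 h⟩ = (θ : K' → ℂ) n} =
      Nat.card (Cfsg.IrrCharacter K') := by
    apply Nat.card_congr
    apply Equiv.subtypeUnivEquiv
    intro θ h n
    refine congrArg (θ : K' → ℂ) (Subtype.ext (Subtype.ext ?_))
    show ((h : N) : G) * ((n : N) : G) * ((h : N) : G)⁻¹ = ((n : N) : G)
    exact cdc_comm_of_normalizer K H hinf _ (Subgroup.mem_subgroupOf.mp n.2) (n : N).2 _
      (Subgroup.mem_subgroupOf.mp h.2)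
  rw [hA2]
  let φ₀ : H →* MulAut G := (MulAut.conj).comp H.subtype
  have hA : ∀ a : H, ∀ k ∈ K, φ₀ a k ∈ K := by
    intro a k hk
    exact hK.conj_mem k hk a
  let φ : H →* MulAut K := glcResHom φ₀ K hA
  have hφ : ∀ (a : H) (k : K), ((φ a k : K) : G) = a.1 * k.1 * a.1⁻¹ := fun a k => rfl
  let ι : K' →* K :=
    { toFun := fun c => ⟨((c : N) : G), Subgroup.mem_subgroupOf.mp c.2⟩
      map_one' := rfl
      map_mul' := fun _ _ => rfl }
  have hι : Function.Injective ι := by
    intro c c' h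
    apply Subtype.ext
    apply Subtype.ext
    exact congrArg (Subtype.val : K → G) h
  have hr : ∀ k : K, (∀ a : H, φ a k = k) ↔ ∃ c : K', ι c = k := by
    intro k
    constructor
    · intro h
      have hkN : (k : G) ∈ N := by
        rw [hN, Subgroup.mem_normalizer_iff]
        intro x
        have hcomm : ∀ y ∈ H, y * (k : G) = (k : G) * y := by
          intro y hy
          have := congrArg Subtype.val (h ⟨y, hy⟩)
          rw [hφ] at this
          have e : y * (k : G) = y * (k : G) * y⁻¹ * y := by group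
          rw [e]
          exact congrArg (· * y) this
        constructor
        · intro hx
          have : (k : G) * x * (k : G)⁻¹ = x := by
            rw [← hcomm x hx]; group
          rw [this]
          exact hx
        · intro hx
          have h2 := hcomm _ hx
          have e : (k : G) * x * (k : G)⁻¹ = x := by
            calc (k : G) * x * (k : G)⁻¹ = (k : G)⁻¹ * ((k : G) * ((k : G) * x * (k : G)⁻¹)) := by group
              _ = (k : G)⁻¹ * (((k : G) * x * (k : G)⁻¹) * (k : G)) := by rw [h2]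
              _ = x := by group
          rw [e] at hx
          exact hx
      exact ⟨⟨⟨(k : G), hkN⟩, Subgroup.mem_subgroupOf.mpr k.2⟩, Subtype.ext rfl⟩
    · rintro ⟨c, rfl⟩ a
      apply Subtype.ext
      rw [hφ]
      exact cdc_comm_of_normalizer K H hinf _ (Subgroup.mem_subgroupOf.mp c.2) (c : N).2 _ a.2
  have hcard := glc_solv_card H K hcop φ K' ι hι hr
  rw [← hcard]
  apply Nat.card_congr
  apply Equiv.subtypeEquivRight
  intro θ
  constructor
  · intro h a g
    exact h a g
  · intro h a g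
    exact h a g

end Cfsg.Agent.Lib.Helper24
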