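import Cfsg.Agent.Lib.Helper24.SigmaParity2
import Cfsg.Agent.Lib.Helper25.ExtraspecialUnique
import Cfsg.Agent.S0188

set_option autoImplicit false
open scoped ComplexConjugate

namespace Cfsg.Agent.Lib.Helper24

open Cfsg.Agent.Lib.helper2 Cfsg.Agent.Lib.helper7 Cfsg.Agent.Lib.Helper11 Cfsg.Agent.Lib.Helper25

section cp1

variable {G : Type*} [Group G]

def cp_pi (U₁ U₂ : Subgroup G) (hcomm : ∀ u ∈ U₁, ∀ v ∈ U₂, u * v = v * u) : U₁ × U₂ →* G where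
  toFun x := (x.1 : G) * (x.2 : G)
  map_one' := by simp
  map_mul' x y := by
    have h := hcomm y.1 y.1.2 x.2 x.2.2
    simp only [Prod.fst_mul, Prod.snd_mul, Subgroup.coe_mul]
    calc (x.1 : G) * y.1 * (x.2 * y.2) = x.1 * (y.1 * x.2) * y.2 := by group
      _ = x.1 * (x.2 * y.1) * y.2 := by rw [h]
      _ = x.1 * x.2 * (y.1 * y.2) := by group

theorem cp_pi_apply (U₁ U₂ : Subgroup G) (hcomm : ∀ u ∈ U₁, ∀ v ∈ U₂, u * v = v * u)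
    (x : U₁ × U₂) : cp_pi U₁ U₂ hcomm x = (x.1 : G) * (x.2 : G) := rfl

theorem cp_pi_surj (U₁ U₂ : Subgroup G) (hcomm : ∀ u ∈ U₁, ∀ v ∈ U₂, u * v = v * u)
    (hgen : U₁ ⊔ U₂ = ⊤) : Function.Surjective (cp_pi U₁ U₂ hcomm) := by
  rw [← MonoidHom.range_eq_top, eq_top_iff, ← hgen, sup_le_iff]
  constructor
  · intro u hu
    exact ⟨(⟨u, hu⟩, 1), by simp [cp_pi_apply]⟩
  · intro u hu
    exact ⟨(1, ⟨u, hu⟩), by simp [cp_pi_apply]⟩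

theorem cp_char_prod [Fintype G] (U₁ U₂ : Subgroup G) [Fintype U₁] [Fintype U₂]
    (hcomm : ∀ u ∈ U₁, ∀ v ∈ U₂, u * v = v * u) (hgen : U₁ ⊔ U₂ = ⊤)
    (χ : Cfsg.IrrCharacter G) (ψ₁ : Cfsg.IrrCharacter U₁) (ψ₂ : Cfsg.IrrCharacter U₂)
    (h₁ : Cfsg.classInner (fun u : U₁ => (χ : G → ℂ) u) (ψ₁ : U₁ → ℂ) ≠ 0)
    (h₂ : Cfsg.classInner (fun u : U₂ => (χ : G → ℂ) u) (ψ₂ : U₂ → ℂ) ≠ 0) :
    ∀ (u₁ : U₁) (u₂ : U₂), (χ : G → ℂ) ((u₁ : G) * (u₂ : G)) =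
      (ψ₁ : U₁ → ℂ) u₁ * (ψ₂ : U₂ → ℂ) u₂ := by
  classical
  have hirr := xs_inflate (cp_pi U₁ U₂ hcomm) (cp_pi_surj U₁ U₂ hcomm hgen) χ
  obtain ⟨φ₁, φ₂, hφ₁, hφ₂, hprod⟩ := (Cfsg.Agent.S0188.result _).mp hirr
  have hval : ∀ (u₁ : U₁) (u₂ : U₂), (χ : G → ℂ) ((u₁ : G) * (u₂ : G)) = φ₁ u₁ * φ₂ u₂ := by
    intro u₁ u₂
    have := congrFun hprod (u₁, u₂)
    simpa [cp_pi_apply] using this
  have hφ₂1 : φ₂ 1 ≠ 0 := irr_one_ne_zero ⟨φ₂, hφ₂⟩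
  have hφ₁1 : φ₁ 1 ≠ 0 := irr_one_ne_zero ⟨φ₁, hφ₁⟩
  have e1 : (⟨φ₁, hφ₁⟩ : Cfsg.IrrCharacter U₁) = ψ₁ := by
    by_contra hne
    apply h₁
    have h3 : (fun u : U₁ => (χ : G → ℂ) u) = fun u : U₁ => φ₂ 1 * φ₁ u := by
      funext u
      have := hval u 1
      rw [OneMemClass.coe_one, mul_one] at this
      rw [this, mul_comm]
    rw [h3]
    have h4 := irr_classInner (⟨φ₁, hφ₁⟩ : Cfsg.IrrCharacter U₁) ψ₁
    rw [if_neg hne] at h4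
    have h5 : Cfsg.classInner (fun u : U₁ => φ₂ 1 * φ₁ u) (ψ₁ : U₁ → ℂ) =
        φ₂ 1 * Cfsg.classInner φ₁ (ψ₁ : U₁ → ℂ) := by
      unfold Cfsg.classInner
      rw [Finset.mul_sum, Finset.mul_sum, Finset.mul_sum]
      refine Finset.sum_congr rfl fun u _ => ?_
      ring
    rw [h5, h4, mul_zero]
  have e2 : (⟨φ₂, hφ₂⟩ : Cfsg.IrrCharacter U₂) = ψ₂ := by
    by_contra hne
    apply h₂
    have h3 : (fun u : U₂ => (χ : G → ℂ) u) = fun u : U₂ => φ₁ 1 * φ₂ u := by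
      funext u
      have := hval 1 u
      rw [OneMemClass.coe_one, one_mul] at this
      rw [this]
    rw [h3]
    have h4 := irr_classInner (⟨φ₂, hφ₂⟩ : Cfsg.IrrCharacter U₂) ψ₂
    rw [if_neg hne] at h4
    have h5 : Cfsg.classInner (fun u : U₂ => φ₁ 1 * φ₂ u) (ψ₂ : U₂ → ℂ) =
        φ₁ 1 * Cfsg.classInner φ₂ (ψ₂ : U₂ → ℂ) := by
      unfold Cfsg.classInner
      rw [Finset.mul_sum, Finset.mul_sum, Finset.mul_sum]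
      refine Finset.sum_congr rfl fun u _ => ?_
      ring
    rw [h5, h4, mul_zero]
  intro u₁ u₂
  rw [hval, ← e1, ← e2]

end cp1

end Cfsg.Agent.Lib.Helper24
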