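import Cfsg.Agent.Lib.Helper24.CentralProd

set_option autoImplicit false
open scoped ComplexConjugate

namespace Cfsg.Agent.Lib.Helper24

open Cfsg.Agent.Lib.helper2 Cfsg.Agent.Lib.helper7 Cfsg.Agent.Lib.Helper11 Cfsg.Agent.Lib.Helper25

section cp2

variable {G : Type*} [Group G] [Finite G]

theorem cp_decomp (U₁ U₂ : Subgroup G) (hcomm : ∀ u ∈ U₁, ∀ v ∈ U₂, u * v = v * u)
    (hgen : U₁ ⊔ U₂ = ⊤) (g : G) : ∃ (u₁ : U₁) (u₂ : U₂), g = (u₁ : G) * (u₂ : G) := by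
  obtain ⟨x, hx⟩ := cp_pi_surj U₁ U₂ hcomm hgen g
  exact ⟨x.1, x.2, hx.symm⟩

theorem cp_conj_aux (a b w : G) (h : w * b = b * w) : a * b * w * (a * b)⁻¹ = a * w * a⁻¹ := by
  calc a * b * w * (a * b)⁻¹ = a * (b * w) * b⁻¹ * a⁻¹ := by group
    _ = a * (w * b) * b⁻¹ * a⁻¹ := by rw [h]
    _ = a * w * a⁻¹ := by group

theorem cp_index_left (U₁ U₂ : Subgroup G) (hcomm : ∀ u ∈ U₁, ∀ v ∈ U₂, u * v = v * u)
    (hgen : U₁ ⊔ U₂ = ⊤) (u : U₁) :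
    (Subgroup.centralizer ({(u : G)} : Set G)).index =
      (Subgroup.centralizer ({u} : Set U₁)).index := by
  rw [h7_index_centralizer_eq_card_class, h7_index_centralizer_eq_card_class]
  symm
  refine Nat.card_congr (Equiv.ofBijective
    (fun y : {y : U₁ // IsConj u y} => (⟨(y.1 : G), by
      obtain ⟨c, hc⟩ := isConj_iff.mp y.2
      rw [isConj_iff]
      refine ⟨(c : G), ?_⟩
      rw [← hc]
      simp⟩ : {x : G // IsConj (u : G) x})) ⟨?_, ?_⟩)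
  · intro y y' h
    apply Subtype.ext
    apply Subtype.ext
    exact congrArg (fun z : {x : G // IsConj (u : G) x} => (z.1 : G)) h
  · intro x
    obtain ⟨c, hc⟩ := isConj_iff.mp x.2
    obtain ⟨v₁, v₂, hv⟩ := cp_decomp U₁ U₂ hcomm hgen c
    have h1 : (x.1 : G) = ((v₁ * u * v₁⁻¹ : U₁) : G) := by
      rw [← hc, hv]
      have h2 := hcomm u u.2 v₂ v₂.2
      push_cast
      exact cp_conj_aux _ _ _ h2
    refine ⟨⟨v₁ * u * v₁⁻¹, isConj_iff.mpr ⟨v₁, rfl⟩⟩, ?_⟩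
    apply Subtype.ext
    exact h1.symm

theorem cp_conj_aux2 (a b w v : G) (hwb : w * b = b * w) (hab : a * b = b * a)
    (hav : a * v = v * a) :
    a * b * (w * v) * (a * b)⁻¹ = (a * w * a⁻¹) * (b * v * b⁻¹) := by
  have h1 : Commute a b := hab
  have h2 : Commute a v := hav
  have h3 : Commute a (b * v * b⁻¹) := (h1.mul_right h2).mul_right h1.inv_right
  have h4 : Commute a⁻¹ (b * v * b⁻¹) := h3.inv_left
  calc a * b * (w * v) * (a * b)⁻¹ = a * (b * w) * v * b⁻¹ * a⁻¹ := by group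
    _ = a * (w * b) * v * b⁻¹ * a⁻¹ := by rw [hwb]
    _ = a * w * ((b * v * b⁻¹) * a⁻¹) := by group
    _ = a * w * (a⁻¹ * (b * v * b⁻¹)) := by rw [h4.eq]
    _ = (a * w * a⁻¹) * (b * v * b⁻¹) := by group

theorem cp_index_prod (p : ℕ) [hp : Fact p.Prime] (U₁ U₂ : Subgroup G)
    (hcomm : ∀ u ∈ U₁, ∀ v ∈ U₂, u * v = v * u)
    (hgen : U₁ ⊔ U₂ = ⊤) (hZ : IsPGroup p ↥(U₁ ⊓ U₂)) (t₁ : U₁) (t₂ : U₂)
    (ht₁ : ¬ p ∣ orderOf t₁) :
    (Subgroup.centralizer ({(t₁ : G) * (t₂ : G)} : Set G)).index =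
      (Subgroup.centralizer ({t₁} : Set U₁)).index *
        (Subgroup.centralizer ({t₂} : Set U₂)).index := by
  rw [h7_index_centralizer_eq_card_class, h7_index_centralizer_eq_card_class,
    h7_index_centralizer_eq_card_class, ← Nat.card_prod]
  symm
  refine Nat.card_congr (Equiv.ofBijective
    (fun y : {y : U₁ // IsConj t₁ y} × {y : U₂ // IsConj t₂ y} =>
      (⟨(y.1.1 : G) * (y.2.1 : G), by
        obtain ⟨c₁, hc₁⟩ := isConj_iff.mp y.1.2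
        obtain ⟨c₂, hc₂⟩ := isConj_iff.mp y.2.2
        rw [isConj_iff]
        refine ⟨(c₁ : G) * (c₂ : G), ?_⟩
        rw [cp_conj_aux2 _ _ _ _ (hcomm t₁ t₁.2 c₂ c₂.2) (hcomm c₁ c₁.2 c₂ c₂.2)
          (hcomm c₁ c₁.2 t₂ t₂.2), ← hc₁, ← hc₂]
        simp⟩ : {x : G // IsConj ((t₁ : G) * (t₂ : G)) x})) ⟨?_, ?_⟩)
  · rintro ⟨⟨y₁, hy₁⟩, ⟨y₂, hy₂⟩⟩ ⟨⟨y₁', hy₁'⟩, ⟨y₂', hy₂'⟩⟩ h
    have h0 : (y₁ : G) * (y₂ : G) = (y₁' : G) * (y₂' : G) :=
      congrArg (fun z : {x : G // IsConj ((t₁ : G) * (t₂ : G)) x} => (z.1 : G)) h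
    have hz : (y₁' : G)⁻¹ * (y₁ : G) = (y₂' : G) * (y₂ : G)⁻¹ := by
      have : (y₁ : G) = (y₁' : G) * (y₂' : G) * (y₂ : G)⁻¹ := by
        rw [← h0]
        group
      rw [this]
      group
    set z : G := (y₁' : G)⁻¹ * (y₁ : G) with hzdef
    have hz1 : z ∈ U₁ := U₁.mul_mem (U₁.inv_mem y₁'.2) y₁.2
    have hz2 : z ∈ U₂ := by
      rw [hz]
      exact U₂.mul_mem y₂'.2 (U₂.inv_mem y₂.2)
    have hy1 : (y₁ : G) = (y₁' : G) * z := by
      rw [hzdef]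
      group
    have ho1 : orderOf (y₁ : G) = orderOf t₁ := by
      rw [Subgroup.orderOf_coe]
      obtain ⟨c, hc⟩ := isConj_iff.mp hy₁
      rw [← hc]
      have := orderOf_injective (MulAut.conj c).toMonoidHom (MulAut.conj c).injective t₁
      simpa using this
    have ho1' : orderOf (y₁' : G) = orderOf t₁ := by
      rw [Subgroup.orderOf_coe]
      obtain ⟨c, hc⟩ := isConj_iff.mp hy₁'
      rw [← hc]
      have := orderOf_injective (MulAut.conj c).toMonoidHom (MulAut.conj c).injective t₁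
      simpa using this
    have hcz : Commute (y₁' : G) z := hcomm y₁' y₁'.2 z hz2
    have hzn : z ^ orderOf t₁ = 1 := by
      have h1 : ((y₁' : G) * z) ^ orderOf t₁ = 1 := by
        rw [← hy1, ← ho1]
        exact pow_orderOf_eq_one _
      rw [hcz.mul_pow, ← ho1', pow_orderOf_eq_one, one_mul] at h1
      rw [← ho1']
      exact h1
    have hzdvd : orderOf z ∣ orderOf t₁ := orderOf_dvd_of_pow_eq_one hzn
    obtain ⟨k, hk⟩ := hZ ⟨z, ⟨hz1, hz2⟩⟩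
    have hzk : z ^ p ^ k = 1 := by
      have := congrArg (fun w : ↥(U₁ ⊓ U₂) => (w : G)) hk
      simpa using this
    have hzdvd2 : orderOf z ∣ p ^ k := orderOf_dvd_of_pow_eq_one hzk
    have hcop : Nat.Coprime (orderOf t₁) (p ^ k) :=
      Nat.Coprime.pow_right _ ((Nat.Prime.coprime_iff_not_dvd hp.out).mpr ht₁).symm
    have hz1' : orderOf z = 1 := Nat.eq_one_of_dvd_coprimes hcop hzdvd hzdvd2
    have hzone : z = 1 := orderOf_eq_one_iff.mp hz1'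
    have e1 : y₁ = y₁' := by
      apply Subtype.ext
      rw [hy1, hzone, mul_one]
    have e2 : y₂ = y₂' := by
      apply Subtype.ext
      have : (y₂' : G) * (y₂ : G)⁻¹ = 1 := by rw [← hz, hzone]
      rw [mul_inv_eq_one] at this
      exact this.symm
    subst e1
    subst e2
    rfl
  · intro x
    obtain ⟨c, hc⟩ := isConj_iff.mp x.2
    obtain ⟨c₁, c₂, hv⟩ := cp_decomp U₁ U₂ hcomm hgen c
    refine ⟨(⟨c₁ * t₁ * c₁⁻¹, isConj_iff.mpr ⟨c₁, rfl⟩⟩,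
      ⟨c₂ * t₂ * c₂⁻¹, isConj_iff.mpr ⟨c₂, rfl⟩⟩), ?_⟩
    apply Subtype.ext
    change ((c₁ * t₁ * c₁⁻¹ : U₁) : G) * ((c₂ * t₂ * c₂⁻¹ : U₂) : G) = x.1
    rw [← hc, hv, cp_conj_aux2 _ _ _ _ (hcomm t₁ t₁.2 c₂ c₂.2) (hcomm c₁ c₁.2 c₂ c₂.2)
      (hcomm c₁ c₁.2 t₂ t₂.2)]
    simp

end cp2

end Cfsg.Agent.Lib.Helper24
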