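import Mathlib
import Cfsg.Prelude.Def_Solvable
import Cfsg.Agent.Lib.Helper1.Cores
import Cfsg.Agent.Lib.Helper24.CycSylow1

set_option autoImplicit false

namespace Cfsg.Agent.Lib.Helper24

open scoped Pointwise

theorem cs_conj_orderOf {G : Type*} [Group G] (k x : G) : orderOf (k * x * k⁻¹) = orderOf x := by
  have := orderOf_injective (MulAut.conj k).toMonoidHom (MulAut.conj k).injective x
  rw [← this]
  rfl

theorem cs_zpowers_normal {K : Type*} [Group K] [Finite K] {p : ℕ} [Fact p.Prime] (P : Sylow p K)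
    (hP : IsCyclic (P : Subgroup K)) (R : Subgroup K) (hRn : R.Normal) (hRP : R ≤ P) (z : K)
    (hz : z ∈ R) (hzo : orderOf z = p) : (Subgroup.zpowers z).Normal := by
  have hcyc := cs_cycProp P hP
  constructor
  intro n hn k
  obtain ⟨i, rfl⟩ := Subgroup.mem_zpowers_iff.mp hn
  have h1 : k * z * k⁻¹ ∈ Subgroup.zpowers z := by
    apply hcyc z (k * z * k⁻¹) hzo (by rw [cs_conj_orderOf, hzo])
    exact cs_comm (P : Subgroup K) hP z (hRP hz) _ (hRP (hRn.conj_mem z hz k))
  have h2 : k * z ^ i * k⁻¹ = (k * z * k⁻¹) ^ i := by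
    have := map_zpow (MulAut.conj k).toMonoidHom z i
    simpa [MulAut.conj_apply] using this
  rw [h2]
  exact Subgroup.zpow_mem _ h1 i

theorem cs_transfer_inj {K : Type*} [Group K] [Finite K] {p : ℕ} [Fact p.Prime] (P : Sylow p K)
    (hP : IsCyclic (P : Subgroup K)) (hO : Cfsg.pPrimeCore p K = ⊥) (z : K) (hzP : z ∈ (P : Subgroup K))
    (hzo : orderOf z = p) (hZn : (Subgroup.zpowers z).Normal) :
    Subgroup.centralizer ((Subgroup.zpowers z : Subgroup K) : Set K) ≤ (P : Subgroup K) := by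
  classical
  haveI := hZn
  set C := Subgroup.centralizer ((Subgroup.zpowers z : Subgroup K) : Set K) with hC
  have hCn : C.Normal := Subgroup.normal_centralizer
  have hcyc := cs_cycProp P hP
  have hcz : ∀ c ∈ C, c * z = z * c := by
    intro c hc
    rw [hC, Subgroup.mem_centralizer_iff] at hc
    exact (hc z (Subgroup.mem_zpowers z)).symm
  have hPC : (P : Subgroup K) ≤ C := by
    intro x hx
    rw [hC, Subgroup.mem_centralizer_iff]
    intro w hw
    obtain ⟨i, rfl⟩ := Subgroup.mem_zpowers_iff.mp hw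
    exact cs_comm (P : Subgroup K) hP _ (Subgroup.zpow_mem _ hzP i) x hx
  set PC : Sylow p ↥C := P.subtype hPC with hPCdef
  have hPCcoe : (PC : Subgroup ↥C) = (P : Subgroup K).subgroupOf C := Sylow.coe_subtype P hPC
  have hmemPC : ∀ c : ↥C, c ∈ (PC : Subgroup ↥C) ↔ (c : K) ∈ (P : Subgroup K) := by
    intro c
    rw [hPCcoe, Subgroup.mem_subgroupOf]
  haveI hPCcyc : IsCyclic ↥(PC : Subgroup ↥C) := by
    rw [hPCcoe]
    haveI := hP
    exact isCyclic_of_surjective (Subgroup.subgroupOfEquivOfLe hPC).symm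
      (Subgroup.subgroupOfEquivOfLe hPC).symm.surjective
  letI : CommGroup ↥(PC : Subgroup ↥C) := IsCyclic.commGroup
  set V : ↥C →* ↥(PC : Subgroup ↥C) := MonoidHom.transfer (MonoidHom.id ↥(PC : Subgroup ↥C)) with hV
  have hzC : z ∈ C := hPC hzP
  set zc : ↥C := ⟨z, hzC⟩ with hzc
  have hzco : orderOf zc = p := by
    rw [← hzo]
    exact Subgroup.orderOf_mk z hzC
  have hidx : ¬ p ∣ (PC : Subgroup ↥C).index := Sylow.not_dvd_index PC
  have hVz : V zc ≠ 1 := by
    have key : ∀ (k : ℕ) (g₀ : ↥C), g₀⁻¹ * zc ^ k * g₀ ∈ (PC : Subgroup ↥C) →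
        g₀⁻¹ * zc ^ k * g₀ = zc ^ k := by
      intro k g₀ _
      have h1 : g₀ * zc = zc * g₀ := Subtype.ext (hcz g₀ g₀.2)
      have h2 : Commute g₀ (zc ^ k) := (show Commute g₀ zc from h1).pow_right k
      rw [mul_assoc, ← h2.eq, ← mul_assoc, inv_mul_cancel, one_mul]
    have h1 := MonoidHom.transfer_eq_pow (MonoidHom.id ↥(PC : Subgroup ↥C)) zc key
    intro h
    rw [hV] at h
    rw [h] at h1
    have h2 : zc ^ (PC : Subgroup ↥C).index = 1 := by
      have := congrArg Subtype.val h1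
      simpa using this.symm
    rw [← orderOf_dvd_iff_pow_eq_one, hzco] at h2
    exact hidx h2
  set U := V.ker with hU
  have hUn : U.Normal := MonoidHom.normal_ker V
  have hUP : ∀ x : ↥C, x ∈ U → x ∈ (PC : Subgroup ↥C) → x = 1 := by
    intro x hxU hxP
    by_contra hx1
    have hpx : IsPGroup p (PC : Subgroup ↥C) := PC.2
    obtain ⟨i, hi⟩ := (IsPGroup.iff_orderOf.mp hpx) ⟨x, hxP⟩
    rw [Subgroup.orderOf_mk] at hi
    have hi1 : i ≠ 0 := by
      rintro rfl
      rw [pow_zero, orderOf_eq_one_iff] at hi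
      exact hx1 hi
    have hdvd : p ∣ orderOf x := by
      rw [hi]
      exact dvd_pow_self p hi1
    have hw := orderOf_pow_orderOf_div (orderOf_pos x).ne' hdvd
    set w := x ^ (orderOf x / p) with hwdef
    have hwU : w ∈ U := Subgroup.pow_mem U hxU _
    have hwP : (w : K) ∈ (P : Subgroup K) := (hmemPC w).mp (Subgroup.pow_mem _ hxP _)
    have hwo : orderOf (w : K) = p := by
      rw [← hw]
      exact (Subgroup.orderOf_coe w)
    have h1 := hcyc (w : K) z hwo hzo (cs_comm (P : Subgroup K) hP _ hwP z hzP)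
    obtain ⟨k, hk⟩ := Subgroup.mem_zpowers_iff.mp h1
    have h2 : zc = w ^ k := by
      apply Subtype.ext
      rw [Subgroup.coe_zpow]
      exact hk.symm
    apply hVz
    have : zc ∈ U := by
      rw [h2]
      exact Subgroup.zpow_mem U hwU k
    exact this
  have hUcop : (Nat.card U).Coprime p := by
    apply Nat.Coprime.symm
    rw [Nat.Prime.coprime_iff_not_dvd (Fact.out : p.Prime)]
    intro hdvd
    obtain ⟨y, hy⟩ := exists_prime_orderOf_dvd_card' p hdvd
    have hyo : orderOf (y : ↥C) = p := by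
      rw [← hy]
      exact (Subgroup.orderOf_coe y)
    have hyp := cs_isPGroup_zpowers (p := p) (y : ↥C) hyo
    obtain ⟨Q, hQ⟩ := hyp.exists_le_sylow
    obtain ⟨g, rfl⟩ := MulAction.exists_smul_eq ↥C PC Q
    have hyQ : (y : ↥C) ∈ MulAut.conj g • (PC : Subgroup ↥C) := hQ (Subgroup.mem_zpowers _)
    rw [Subgroup.mem_pointwise_smul_iff_inv_smul_mem] at hyQ
    have e : (MulAut.conj g)⁻¹ • (y : ↥C) = g⁻¹ * y * g := by
      simp only [MulAut.smul_def, ← map_inv, MulAut.conj_apply, inv_inv]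
    rw [e] at hyQ
    have h1 : g⁻¹ * (y : ↥C) * g ∈ U := by
      have := hUn.conj_mem (y : ↥C) y.2 g⁻¹
      simpa using this
    have h2 := hUP _ h1 hyQ
    have h3 : (y : ↥C) = 1 := by
      have : (y : ↥C) = g * (g⁻¹ * (y : ↥C) * g) * g⁻¹ := by group
      rw [this, h2]
      group
    rw [h3, orderOf_one] at hyo
    exact (Fact.out : p.Prime).one_lt.ne hyo
  have hU'n : (U.map C.subtype).Normal := by
    constructor
    rintro _ ⟨u, hu, rfl⟩ k
    have hkC : k * (u : K) * k⁻¹ ∈ C := hCn.conj_mem (u : K) u.2 k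
    refine ⟨⟨k * (u : K) * k⁻¹, hkC⟩, ?_, rfl⟩
    show V ⟨k * (u : K) * k⁻¹, hkC⟩ = 1
    set c : ↥C := ⟨k * (u : K) * k⁻¹, hkC⟩ with hc
    have hco : orderOf c = orderOf u := by
      have h1 : orderOf c = orderOf (k * (u : K) * k⁻¹) := Subgroup.orderOf_mk _ hkC
      rw [h1, cs_conj_orderOf]
      exact (Subgroup.orderOf_coe u)
    have hou : (orderOf u).Coprime p := by
      have h1 : orderOf u ∣ Nat.card U := by
        have := orderOf_dvd_natCard (⟨u, hu⟩ : U)
        rwa [Subgroup.orderOf_mk] at this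
      exact Nat.Coprime.coprime_dvd_left h1 hUcop
    have h1 : orderOf (V c) ∣ orderOf c := orderOf_map_dvd V c
    obtain ⟨j, hj⟩ := (IsPGroup.iff_orderOf.mp PC.2) (V c)
    rw [hco] at h1
    have h2 : (p ^ j).Coprime p := by
      rw [← hj]
      exact Nat.Coprime.coprime_dvd_left h1 hou
    have hj0 : j = 0 := by
      by_contra hj0
      have := (Nat.coprime_pow_left_iff (Nat.pos_of_ne_zero hj0) p p).mp h2
      rw [Nat.coprime_self] at this
      exact (Fact.out : p.Prime).one_lt.ne' this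
    rw [hj0, pow_zero, orderOf_eq_one_iff] at hj
    exact hj
  have hU'c : (Nat.card (U.map C.subtype)).Coprime p := by
    rw [Subgroup.card_map_of_injective C.subtype_injective]
    exact hUcop
  have hU'bot : U.map C.subtype = ⊥ := by
    have := Cfsg.Agent.Lib.Helper1.le_pPrimeCore hU'n hU'c
    rw [hO] at this
    exact le_bot_iff.mp this
  have hUbot : U = ⊥ := (Subgroup.map_eq_bot_iff_of_injective U C.subtype_injective).mp hU'bot
  have hVinj : Function.Injective V := (MonoidHom.ker_eq_bot_iff V).mp hUbot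
  have hcard : Nat.card ↥C ≤ Nat.card (P : Subgroup K) := by
    have h1 := Nat.card_le_card_of_injective V hVinj
    have h2 : Nat.card ↥(PC : Subgroup ↥C) = Nat.card (P : Subgroup K) := by
      rw [hPCcoe]
      exact Nat.card_congr (Subgroup.subgroupOfEquivOfLe hPC).toEquiv
    rw [h2] at h1
    exact h1
  have := Subgroup.eq_of_le_of_card_ge hPC hcard
  rw [this]

end Cfsg.Agent.Lib.Helper24
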