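import Mathlib
import Cfsg.Prelude.Def_Solvable
import Cfsg.Agent.Lib.Helper1.Cores
import Cfsg.Agent.Lib.Helper24.CycSylowA

set_option autoImplicit false

namespace Cfsg.Agent.Lib.Helper24

open scoped Pointwise

theorem cs_caseA {K : Type*} [Group K] [Finite K] (p : ℕ) [Fact p.Prime] (P : Sylow p K)
    (hP : IsCyclic (P : Subgroup K)) (hO : Cfsg.pPrimeCore p K = ⊥) (hR : Cfsg.pCore p K ≠ ⊥) :
    (P : Subgroup K).Normal ∧ Subgroup.centralizer ((P : Subgroup K) : Set K) = (P : Subgroup K) ∧
      (∀ (_ : (P : Subgroup K).Normal), IsCyclic (K ⧸ (P : Subgroup K))) ∧ (P : Subgroup K).index ∣ p - 1 := by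
  classical
  have hp : p.Prime := Fact.out
  set R := Cfsg.pCore p K with hRdef
  have hRn : R.Normal := Cfsg.Agent.Lib.Helper1.pCore_normal p
  have hRp : IsPGroup p R := Cfsg.Agent.Lib.Helper1.pCore_isPGroup p
  have hRP : R ≤ (P : Subgroup K) := Cfsg.Agent.Lib.Helper1.pCore_le_sylow p P
  have hRcard : p ∣ Nat.card R := by
    obtain ⟨n, hn⟩ := IsPGroup.iff_card.mp hRp
    have hn0 : n ≠ 0 := by
      rintro rfl
      rw [pow_zero] at hn
      exact hR (Subgroup.card_eq_one.mp hn)
    rw [hn]
    exact dvd_pow_self p hn0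
  obtain ⟨z0, hz0⟩ := exists_prime_orderOf_dvd_card' p hRcard
  set z : K := (z0 : K) with hzdef
  have hzR : z ∈ R := z0.2
  have hzo : orderOf z = p := by
    rw [← hz0]
    exact (Subgroup.orderOf_coe z0)
  have hzP : z ∈ (P : Subgroup K) := hRP hzR
  have hZn : (Subgroup.zpowers z).Normal := cs_zpowers_normal P hP R hRn hRP z hzR hzo
  haveI := hZn
  set Z := Subgroup.zpowers z with hZ
  set C := Subgroup.centralizer (Z : Set K) with hC
  have hCP : C ≤ (P : Subgroup K) := cs_transfer_inj P hP hO z hzP hzo hZn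
  have hZP : Z ≤ (P : Subgroup K) := by
    rw [hZ, Subgroup.zpowers_le]
    exact hzP
  have hPC : (P : Subgroup K) ≤ C := by
    intro x hx
    rw [hC, Subgroup.mem_centralizer_iff]
    intro w hw
    exact cs_comm (P : Subgroup K) hP _ (hZP hw) x hx
  have hCeq : C = (P : Subgroup K) := le_antisymm hCP hPC
  have hCn : C.Normal := Subgroup.normal_centralizer
  set f : K →* MulAut ↥Z := MulAut.conjNormal with hf
  have hker : f.ker = (P : Subgroup K) := by
    rw [← hCeq]
    ext g
    rw [MonoidHom.mem_ker, hC, Subgroup.mem_centralizer_iff]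
    constructor
    · intro h w hw
      have h1 := congrArg (fun φ : MulAut ↥Z => ((φ ⟨w, hw⟩ : ↥Z) : K)) h
      simp only [hf, MulAut.conjNormal_apply, MulAut.one_apply] at h1
      calc w * g = (g * w * g⁻¹) * g := by rw [h1]
        _ = g * w := by group
    · intro h
      ext w
      simp only [hf, MulAut.conjNormal_apply, MulAut.one_apply]
      rw [← h w w.2]
      group
  have hZcard : Nat.card ↥Z = p := by rw [hZ, Nat.card_zpowers, hzo]
  haveI : Fact (Nat.card ↥Z).Prime := ⟨by rw [hZcard]; exact hp⟩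
  haveI hZcyc : IsCyclic ↥Z := by
    rw [hZ]
    infer_instance
  have hAcyc : IsCyclic (MulAut ↥Z) := by
    have e := IsCyclic.mulAutMulEquiv ↥Z
    haveI : IsCyclic (ZMod (Nat.card ↥Z))ˣ := inferInstance
    exact isCyclic_of_surjective e.symm e.symm.surjective
  have hAcard : Nat.card (MulAut ↥Z) = p - 1 := by
    rw [IsCyclic.card_mulAut, hZcard, Nat.totient_prime hp]
  have hrcyc : IsCyclic ↥f.range := by
    haveI := hAcyc
    infer_instance
  have hPn : (P : Subgroup K).Normal := by
    rw [← hCeq]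
    exact hCn
  refine ⟨hPn, ?_, ?_, ?_⟩
  · apply le_antisymm
    · intro x hx
      apply hCP
      rw [hC, Subgroup.mem_centralizer_iff]
      intro w hw
      rw [Subgroup.mem_centralizer_iff] at hx
      exact hx w (hZP hw)
    · intro x hx
      rw [Subgroup.mem_centralizer_iff]
      intro w hw
      exact cs_comm (P : Subgroup K) hP w hw x hx
  · intro hn
    have e1 : K ⧸ f.ker ≃* ↥f.range := QuotientGroup.quotientKerEquivRange f
    have e2 : K ⧸ f.ker ≃* K ⧸ (P : Subgroup K) := QuotientGroup.quotientMulEquivOfEq hker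
    haveI := hrcyc
    have e3 : ↥f.range ≃* K ⧸ (P : Subgroup K) := e1.symm.trans e2
    exact isCyclic_of_surjective e3 e3.surjective
  · have h1 : (P : Subgroup K).index = Nat.card ↥f.range := by
      rw [← hker, Subgroup.index_eq_card]
      exact Nat.card_congr (QuotientGroup.quotientKerEquivRange f).toEquiv
    rw [h1, ← hAcard]
    exact Subgroup.card_subgroup_dvd_card _

end Cfsg.Agent.Lib.Helper24
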