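import Mathlib
import Cfsg.Prelude.Def_Solvable
import Cfsg.Agent.Lib.Helper1.Fitting
import Cfsg.Agent.Lib.Helper1.Cores
import Cfsg.Agent.Lib.Helper1.MinNormal
import Cfsg.Agent.Lib.Helper18.PCore
import Cfsg.Agent.Lib.Helper24.SelfCentCore

set_option autoImplicit false

namespace Cfsg.Agent.Lib.Helper24

open scoped Pointwise

def TIAll (p : ℕ) (X : Type*) [Group X] : Prop :=
  ∀ (P' : Sylow p X) (t : X), t ∉ Subgroup.normalizer ((P' : Subgroup X) : Set X) →
    (P' : Subgroup X) ⊓ (MulAut.conj t • (P' : Subgroup X)) = ⊥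

def NoNormalP (p : ℕ) (X : Type*) [Group X] : Prop :=
  ∀ K : Subgroup X, K.Normal → IsPGroup p K → K = ⊥

def NoNormalP' (p : ℕ) (X : Type*) [Group X] : Prop :=
  ∀ K : Subgroup X, K.Normal → (Nat.card K).Coprime p → K = ⊥

theorem ti_noNormalP {p : ℕ} {X : Type*} [Group X] (h : Cfsg.pCore p X = ⊥) : NoNormalP p X := by
  intro K hK hp
  have := Cfsg.Agent.Lib.Helper18.le_pCore hK hp
  rw [h] at this
  exact le_bot_iff.mp this

theorem ti_noNormalP' {p : ℕ} {X : Type*} [Group X] (h : Cfsg.pPrimeCore p X = ⊥) : NoNormalP' p X := by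
  intro K hK hp
  have := Cfsg.Agent.Lib.Helper1.le_pPrimeCore hK hp
  rw [h] at this
  exact le_bot_iff.mp this

theorem ti_all_of_one {p : ℕ} [Fact p.Prime] {X : Type*} [Group X] [Finite X] (P : Sylow p X)
    (hTI : ∀ g : X, g ∉ Subgroup.normalizer ((P : Subgroup X) : Set X) →
      (P : Subgroup X) ⊓ (MulAut.conj g • (P : Subgroup X)) = ⊥) : TIAll p X := by
  intro P' t ht
  obtain ⟨h, rfl⟩ := MulAction.exists_smul_eq X P P'
  have h1 : h⁻¹ * t * h ∉ Subgroup.normalizer ((P : Subgroup X) : Set X) := by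
    intro hn
    apply ht
    have hn' : (h⁻¹ * t * h) • P = P := Sylow.smul_eq_iff_mem_normalizer.mpr hn
    apply Sylow.smul_eq_iff_mem_normalizer.mp
    rw [← mul_smul]
    have : t * h = h * (h⁻¹ * t * h) := by group
    rw [this, mul_smul, hn']
  have h2 := hTI _ h1
  rw [eq_bot_iff]
  intro x hx
  rw [Subgroup.mem_inf] at hx
  obtain ⟨hx1, hx2⟩ := hx
  change x ∈ MulAut.conj h • (P : Subgroup X) at hx1
  change x ∈ MulAut.conj t • (MulAut.conj h • (P : Subgroup X)) at hx2
  rw [Subgroup.mem_pointwise_smul_iff_inv_smul_mem] at hx1 hx2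
  rw [Subgroup.mem_pointwise_smul_iff_inv_smul_mem] at hx2
  have h3 : h⁻¹ * x * h ∈ (P : Subgroup X) ⊓ (MulAut.conj (h⁻¹ * t * h) • (P : Subgroup X)) := by
    rw [Subgroup.mem_inf]
    refine ⟨?_, ?_⟩
    · simpa [MulAut.smul_def] using hx1
    · rw [Subgroup.mem_pointwise_smul_iff_inv_smul_mem]
      have : (MulAut.conj (h⁻¹ * t * h))⁻¹ • (h⁻¹ * x * h) = (MulAut.conj h)⁻¹ • ((MulAut.conj t)⁻¹ • x) := by
        simp only [MulAut.smul_def, ← map_inv, MulAut.conj_apply]
        group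
      rw [this]
      exact hx2
  rw [h2, Subgroup.mem_bot] at h3
  rw [Subgroup.mem_bot]
  have : x = h * (h⁻¹ * x * h) * h⁻¹ := by group
  rw [this, h3]
  group

theorem ti_mem_normalizer {p : ℕ} {X : Type*} [Group X] (hTI : TIAll p X) (P' : Sylow p X) (t x : X)
    (hx : x ∈ (P' : Subgroup X)) (hx1 : x ≠ 1) (hc : t * x = x * t) :
    t ∈ Subgroup.normalizer ((P' : Subgroup X) : Set X) := by
  by_contra hn
  have h := hTI P' t hn
  have : x ∈ (P' : Subgroup X) ⊓ (MulAut.conj t • (P' : Subgroup X)) := by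
    rw [Subgroup.mem_inf]
    refine ⟨hx, ?_⟩
    rw [Subgroup.mem_pointwise_smul_iff_inv_smul_mem]
    have : (MulAut.conj t)⁻¹ • x = x := by
      simp only [MulAut.smul_def, ← map_inv, MulAut.conj_apply, inv_inv]
      rw [mul_assoc, ← hc, ← mul_assoc, inv_mul_cancel, one_mul]
    rw [this]
    exact hx
  rw [h, Subgroup.mem_bot] at this
  exact hx1 this

theorem ti_exists_order_p {p : ℕ} [Fact p.Prime] {X : Type*} [Group X] [Finite X] (hp' : NoNormalP' p X)
    (T : Subgroup X) (hT : T.Normal) (hT1 : T ≠ ⊥) : ∃ x ∈ T, orderOf x = p := by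
  have h1 : ¬ (Nat.card T).Coprime p := fun h => hT1 (hp' T hT h)
  have h2 : p ∣ Nat.card T := by
    by_contra h
    apply h1
    exact ((Nat.Prime.coprime_iff_not_dvd (Fact.out : p.Prime)).mpr h).symm
  obtain ⟨x, hx⟩ := exists_prime_orderOf_dvd_card' p h2
  refine ⟨x, x.2, ?_⟩
  rw [← hx]
  exact (Subgroup.orderOf_coe x)

theorem ti_mem_sylow_of_normalizes {p : ℕ} [Fact p.Prime] {X : Type*} [Group X] [Finite X] (P' : Sylow p X)
    (z : X) (hz : orderOf z = p) (hn : z ∈ Subgroup.normalizer ((P' : Subgroup X) : Set X)) :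
    z ∈ (P' : Subgroup X) := by
  have h1 : IsPGroup p (Subgroup.zpowers z) := by
    apply IsPGroup.of_card (n := 1)
    rw [Nat.card_zpowers, hz, pow_one]
  have h2 : Subgroup.zpowers z ≤ Subgroup.normalizer ((P' : Subgroup X) : Set X) := by
    rw [Subgroup.zpowers_le]
    exact hn
  have h3 := IsPGroup.to_sup_of_normal_right' h1 P'.2 h2
  have h4 := P'.is_maximal' h3 le_sup_right
  have : z ∈ Subgroup.zpowers z ⊔ (P' : Subgroup X) :=
    (le_sup_left : Subgroup.zpowers z ≤ _) (Subgroup.mem_zpowers z)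
  rw [h4] at this
  exact this

theorem ti_centralizer_eq_bot {p : ℕ} [Fact p.Prime] {X : Type*} [Group X] [Finite X]
    (hp : NoNormalP p X) (hp' : NoNormalP' p X) (hTI : TIAll p X)
    (T : Subgroup X) (hT : T.Normal) (hT1 : T ≠ ⊥) : Subgroup.centralizer (T : Set X) = ⊥ := by
  by_contra hC
  haveI := hT
  have hCn : (Subgroup.centralizer (T : Set X)).Normal := Subgroup.normal_centralizer
  obtain ⟨x, hxC, hxo⟩ := ti_exists_order_p hp' _ hCn hC
  obtain ⟨z, hzT, hzo⟩ := ti_exists_order_p hp' T hT hT1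
  have hx1 : x ≠ 1 := by
    intro h
    rw [h, orderOf_one] at hxo
    exact (Fact.out : p.Prime).one_lt.ne hxo
  have hz1 : z ≠ 1 := by
    intro h
    rw [h, orderOf_one] at hzo
    exact (Fact.out : p.Prime).one_lt.ne hzo
  have hxp : IsPGroup p (Subgroup.zpowers x) := by
    apply IsPGroup.of_card (n := 1)
    rw [Nat.card_zpowers, hxo, pow_one]
  obtain ⟨P₀, hP₀⟩ := hxp.exists_le_sylow
  have hxP₀ : x ∈ (P₀ : Subgroup X) := hP₀ (Subgroup.mem_zpowers x)
  have hall : ∀ P' : Sylow p X, z ∈ (P' : Subgroup X) := by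
    intro P'
    obtain ⟨g, rfl⟩ := MulAction.exists_smul_eq X P₀ P'
    apply ti_mem_sylow_of_normalizes _ z hzo
    apply ti_mem_normalizer hTI _ z (g * x * g⁻¹)
    · change g * x * g⁻¹ ∈ MulAut.conj g • (P₀ : Subgroup X)
      rw [Subgroup.mem_pointwise_smul_iff_inv_smul_mem]
      have : (MulAut.conj g)⁻¹ • (g * x * g⁻¹) = x := by
        simp only [MulAut.smul_def, ← map_inv, MulAut.conj_apply, inv_inv]
        group
      rw [this]
      exact hxP₀
    · intro h
      apply hx1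
      have : x = g⁻¹ * (g * x * g⁻¹) * g := by group
      rw [this, h]
      group
    · have hm : g * x * g⁻¹ ∈ Subgroup.centralizer (T : Set X) := hCn.conj_mem x hxC g
      rw [Subgroup.mem_centralizer_iff] at hm
      exact hm z hzT
  have hinf : z ∈ ⨅ P' : Sylow p X, (P' : Subgroup X) := by
    rw [Subgroup.mem_iInf]
    exact hall
  have hbot : (⨅ P' : Sylow p X, (P' : Subgroup X)) = ⊥ := by
    apply hp _ (Cfsg.Agent.Lib.Helper1.iInf_sylow_normal p)
    obtain ⟨P₁⟩ : Nonempty (Sylow p X) := inferInstance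
    exact P₁.2.to_le (iInf_le _ P₁)
  rw [hbot, Subgroup.mem_bot] at hinf
  exact hz1 hinf

theorem ti_min_le {p : ℕ} [Fact p.Prime] {X : Type*} [Group X] [Finite X]
    (hp : NoNormalP p X) (hp' : NoNormalP' p X) (hTI : TIAll p X)
    (N : Subgroup X) (hN : N.Normal) (hN1 : N ≠ ⊥)
    (hmin : ∀ M : Subgroup X, M.Normal → M ≤ N → M = ⊥ ∨ M = N)
    (K : Subgroup X) (hK : K.Normal) (hK1 : K ≠ ⊥) : N ≤ K := by
  haveI := hN
  haveI := hK
  have hKN : (K ⊓ N).Normal := inferInstance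
  rcases hmin (K ⊓ N) hKN inf_le_right with h | h
  · exfalso
    have hdis : Disjoint K N := disjoint_iff.mpr h
    have hcomm := Subgroup.commute_of_normal_of_disjoint K N hK hN hdis
    have hle : K ≤ Subgroup.centralizer (N : Set X) := by
      intro k hk
      rw [Subgroup.mem_centralizer_iff]
      intro n hn
      exact ((hcomm k n hk hn).eq).symm
    rw [ti_centralizer_eq_bot hp hp' hTI N hN hN1] at hle
    exact hK1 (le_bot_iff.mp hle)
  · rw [← h]
    exact inf_le_left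

end Cfsg.Agent.Lib.Helper24
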