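import Mathlib
import Cfsg.Agent.Lib.Helper24.TISylow

set_option autoImplicit false

namespace Cfsg.Agent.Lib.Helper24

open scoped Pointwise

theorem ti_sub_noNormalP {p : ℕ} [Fact p.Prime] {X : Type*} [Group X] [Finite X] (hp : NoNormalP p X)
    (N : Subgroup X) [hN : N.Normal] : NoNormalP p ↥N := by
  apply ti_noNormalP
  haveI : (Cfsg.pCore p ↥N).Characteristic := Cfsg.Agent.Lib.Helper18.pCore_characteristic p ↥N
  have h1 : ((Cfsg.pCore p ↥N).map N.subtype).Normal := ConjAct.normal_of_characteristic_of_normal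
  have h2 : IsPGroup p ((Cfsg.pCore p ↥N).map N.subtype) :=
    (Cfsg.Agent.Lib.Helper18.pCore_isPGroup p ↥N).map _
  have h3 := hp _ h1 h2
  exact (Subgroup.map_eq_bot_iff_of_injective _ N.subtype_injective).mp h3

theorem ti_sub_noNormalP' {p : ℕ} [Fact p.Prime] {X : Type*} [Group X] [Finite X] (hp : NoNormalP' p X)
    (N : Subgroup X) [hN : N.Normal] : NoNormalP' p ↥N := by
  apply ti_noNormalP'
  haveI : (Cfsg.pPrimeCore p ↥N).Characteristic := pPrimeCore_characteristic p
  have h1 : ((Cfsg.pPrimeCore p ↥N).map N.subtype).Normal := ConjAct.normal_of_characteristic_of_normal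
  have h2 : (Nat.card ((Cfsg.pPrimeCore p ↥N).map N.subtype)).Coprime p := by
    rw [Subgroup.card_map_of_injective N.subtype_injective]
    exact Cfsg.Agent.Lib.Helper1.pPrimeCore_card_coprime p
  have h3 := hp _ h1 h2
  exact (Subgroup.map_eq_bot_iff_of_injective _ N.subtype_injective).mp h3

theorem ti_sub_all {p : ℕ} [Fact p.Prime] {X : Type*} [Group X] [Finite X] (hTI : TIAll p X)
    (N : Subgroup X) [hN : N.Normal] : TIAll p ↥N := by
  intro Q n hn
  have hQm : IsPGroup p ((Q : Subgroup N).map N.subtype) := Q.2.map _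
  obtain ⟨P', hP'⟩ := hQm.exists_le_sylow
  have hQ : ∀ y : N, y ∈ (Q : Subgroup N) ↔ (y : X) ∈ (P' : Subgroup X) := by
    intro y
    constructor
    · intro hy
      exact hP' (Subgroup.mem_map_of_mem N.subtype hy)
    · intro hy
      have hR : IsPGroup p ((P' : Subgroup X).subgroupOf N) := P'.2.comap_subtype
      have hle : (Q : Subgroup N) ≤ (P' : Subgroup X).subgroupOf N := by
        intro w hw
        rw [Subgroup.mem_subgroupOf]
        exact hP' (Subgroup.mem_map_of_mem N.subtype hw)
      have := Q.is_maximal' hR hle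
      rw [← this, Subgroup.mem_subgroupOf]
      exact hy
  have hn' : (n : X) ∉ Subgroup.normalizer ((P' : Subgroup X) : Set X) := by
    intro h
    apply hn
    rw [Subgroup.mem_normalizer_iff] at h ⊢
    intro y
    rw [hQ, hQ]
    exact h (y : X)
  have h0 := hTI P' (n : X) hn'
  rw [eq_bot_iff]
  intro y hy
  rw [Subgroup.mem_inf] at hy
  obtain ⟨hy1, hy2⟩ := hy
  rw [Subgroup.mem_pointwise_smul_iff_inv_smul_mem] at hy2
  rw [hQ] at hy1 hy2
  have : (y : X) ∈ (P' : Subgroup X) ⊓ (MulAut.conj (n : X) • (P' : Subgroup X)) := by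
    rw [Subgroup.mem_inf]
    refine ⟨hy1, ?_⟩
    rw [Subgroup.mem_pointwise_smul_iff_inv_smul_mem]
    have e : (MulAut.conj (n : X))⁻¹ • (y : X) = (((MulAut.conj n)⁻¹ • y : N) : X) := by
      simp only [MulAut.smul_def, ← map_inv, MulAut.conj_apply, inv_inv]
      push_cast
      rfl
    rw [e]
    exact hy2
  rw [h0, Subgroup.mem_bot] at this
  rw [Subgroup.mem_bot]
  exact Subtype.ext this

theorem ti_simple {p : ℕ} [Fact p.Prime] {X : Type*} [Group X] [Finite X]
    (hp : NoNormalP p X) (hp' : NoNormalP' p X) (hTI : TIAll p X)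
    (N : Subgroup X) (hN : N.Normal) (hN1 : N ≠ ⊥)
    (hmin : ∀ M : Subgroup X, M.Normal → M ≤ N → M = ⊥ ∨ M = N) : IsSimpleGroup ↥N := by
  haveI := hN
  have hpN := ti_sub_noNormalP hp N
  have hp'N := ti_sub_noNormalP' hp' N
  have hTIN := ti_sub_all hTI N
  haveI : Nontrivial ↥N := by
    rw [Subgroup.nontrivial_iff_ne_bot]
    exact hN1
  obtain ⟨T, hTn, hT1, hTmin⟩ := Cfsg.Agent.Lib.Helper1.exists_minimal_normal (G := ↥N)
  have hle := ti_min_le hpN hp'N hTIN T hTn hT1 hTmin
  haveI hTc : T.Characteristic := by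
    rw [Subgroup.characteristic_iff_le_map]
    intro ϕ
    apply hle
    · exact hTn.map ϕ.toMonoidHom ϕ.surjective
    · intro h
      apply hT1
      exact (Subgroup.map_eq_bot_iff_of_injective T ϕ.injective).mp h
  have h1 : (T.map N.subtype).Normal := ConjAct.normal_of_characteristic_of_normal
  have h2 : T.map N.subtype ≤ N := by
    rintro _ ⟨y, -, rfl⟩
    exact y.2
  have hTtop : T = ⊤ := by
    rcases hmin _ h1 h2 with h | h
    · exact absurd ((Subgroup.map_eq_bot_iff_of_injective T N.subtype_injective).mp h) hT1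
    · rw [eq_top_iff]
      intro y _
      have : (y : X) ∈ T.map N.subtype := by
        rw [h]
        exact y.2
      obtain ⟨w, hw, hwy⟩ := this
      have : w = y := Subtype.ext hwy
      rw [← this]
      exact hw
  refine ⟨fun K hK => ?_⟩
  by_cases hK1 : K = ⊥
  · exact Or.inl hK1
  · right
    have := hle K hK hK1
    rw [hTtop] at this
    exact top_le_iff.mp this

theorem ti_not_comm {p : ℕ} [Fact p.Prime] {X : Type*} [Group X] [Finite X]
    (hp : NoNormalP p X) (hp' : NoNormalP' p X) (hTI : TIAll p X)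
    (N : Subgroup X) (hN : N.Normal) (hN1 : N ≠ ⊥) : ¬ IsMulCommutative ↥N := by
  intro hc
  apply hN1
  have h := ti_centralizer_eq_bot hp hp' hTI N hN hN1
  have hle : N ≤ Subgroup.centralizer (N : Set X) := by
    intro a ha
    rw [Subgroup.mem_centralizer_iff]
    intro b hb
    have := hc.is_comm.comm (⟨b, hb⟩ : N) ⟨a, ha⟩
    exact congrArg Subtype.val this
  rw [h] at hle
  exact le_bot_iff.mp hle

end Cfsg.Agent.Lib.Helper24
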