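import Mathlib
import Cfsg.Prelude.Def_Solvable
import Cfsg.Prelude.Def_Local
import Cfsg.Agent.Lib.Helper1.Cores
import Cfsg.Agent.Lib.Helper1.MinNormal
import Cfsg.Agent.Lib.Helper24.CycSylow1
import Cfsg.Agent.Lib.Helper24.TISylow2

set_option autoImplicit false

namespace Cfsg.Agent.Lib.Helper24

open scoped Pointwise

def CentFree (X : Type*) [Group X] : Prop :=
  ∀ T : Subgroup X, T.Normal → T ≠ ⊥ → Subgroup.centralizer (T : Set X) = ⊥

theorem cf_min_le {X : Type*} [Group X] (hcf : CentFree X)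
    (N : Subgroup X) (hN : N.Normal) (hN1 : N ≠ ⊥)
    (hmin : ∀ M : Subgroup X, M.Normal → M ≤ N → M = ⊥ ∨ M = N)
    (K : Subgroup X) (hK : K.Normal) (hK1 : K ≠ ⊥) : N ≤ K := by
  haveI := hN
  haveI := hK
  have hKN : (K ⊓ N).Normal := inferInstance
  rcases hmin (K ⊓ N) hKN inf_le_right with h | h
  · exfalso
    have hdis : Disjoint K N := disjoint_iff.mpr h
    have hcomm := Subgroup.commute_of_normal_of_disjoint K N hK hN hdis
    have hle : K ≤ Subgroup.centralizer (N : Set X) := by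
      intro k hk
      rw [Subgroup.mem_centralizer_iff]
      intro n hn
      exact ((hcomm k n hk hn).eq).symm
    rw [hcf N hN hN1] at hle
    exact hK1 (le_bot_iff.mp hle)
  · rw [← h]
    exact inf_le_left

theorem cf_simple {X : Type*} [Group X] [Finite X]
    (N : Subgroup X) (hN : N.Normal) (hN1 : N ≠ ⊥) (hcfN : CentFree ↥N)
    (hmin : ∀ M : Subgroup X, M.Normal → M ≤ N → M = ⊥ ∨ M = N) : IsSimpleGroup ↥N := by
  haveI := hN
  haveI : Nontrivial ↥N := by
    rw [Subgroup.nontrivial_iff_ne_bot]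
    exact hN1
  obtain ⟨T, hTn, hT1, hTmin⟩ := Cfsg.Agent.Lib.Helper1.exists_minimal_normal (G := ↥N)
  have hle := cf_min_le hcfN T hTn hT1 hTmin
  haveI hTc : T.Characteristic := by
    rw [Subgroup.characteristic_iff_le_map]
    intro ϕ
    apply hle
    · exact hTn.map ϕ.toMonoidHom ϕ.surjective
    · intro h
      apply hT1
      exact (Subgroup.map_eq_bot_iff_of_injective T ϕ.injective).mp h
  have h1 : (T.map N.subtype).Normal := ConjAct.normal_of_characteristic_of_normal
  have h2 : T.map N.subtype ≤ N := by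
    rintro _ ⟨y, -, rfl⟩
    exact y.2
  have hTtop : T = ⊤ := by
    rcases hmin _ h1 h2 with h | h
    · exact absurd ((Subgroup.map_eq_bot_iff_of_injective T N.subtype_injective).mp h) hT1
    · rw [eq_top_iff]
      intro y _
      have : (y : X) ∈ T.map N.subtype := by
        rw [h]
        exact y.2
      obtain ⟨w, hw, hwy⟩ := this
      have : w = y := Subtype.ext hwy
      rw [← this]
      exact hw
  refine ⟨fun K hK => ?_⟩
  by_cases hK1 : K = ⊥
  · exact Or.inl hK1
  · right
    have := hle K hK hK1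
    rw [hTtop] at this
    exact top_le_iff.mp this

theorem cf_not_comm {X : Type*} [Group X] (hcf : CentFree X)
    (N : Subgroup X) (hN : N.Normal) (hN1 : N ≠ ⊥) : ¬ IsMulCommutative ↥N := by
  intro hc
  apply hN1
  have h := hcf N hN hN1
  have hle : N ≤ Subgroup.centralizer (N : Set X) := by
    intro a ha
    rw [Subgroup.mem_centralizer_iff]
    intro b hb
    have := hc.is_comm.comm (⟨b, hb⟩ : N) ⟨a, ha⟩
    exact congrArg Subtype.val this
  rw [h] at hle
  exact le_bot_iff.mp hle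

theorem cs_cycProp_sub {p : ℕ} {X : Type*} [Group X] (h : CycProp p X) (N : Subgroup X) :
    CycProp p ↥N := by
  intro x y hx hy hc
  have h1 := h (x : X) (y : X) (by rw [← hx]; exact (Subgroup.orderOf_coe x))
    (by rw [← hy]; exact (Subgroup.orderOf_coe y)) (congrArg Subtype.val hc)
  obtain ⟨k, hk⟩ := Subgroup.mem_zpowers_iff.mp h1
  rw [Subgroup.mem_zpowers_iff]
  refine ⟨k, ?_⟩
  apply Subtype.ext
  rw [Subgroup.coe_zpow]
  exact hk

theorem cs_centFree {p : ℕ} [Fact p.Prime] {X : Type*} [Group X] [Finite X]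
    (hp : NoNormalP p X) (hp' : NoNormalP' p X) (hcyc : CycProp p X) : CentFree X := by
  intro T hT hT1
  by_contra hC
  haveI := hT
  have hCn : (Subgroup.centralizer (T : Set X)).Normal := Subgroup.normal_centralizer
  obtain ⟨x, hxC, hxo⟩ := ti_exists_order_p hp' _ hCn hC
  obtain ⟨y, hyT, hyo⟩ := ti_exists_order_p hp' T hT hT1
  have hxy : x * y = y * x := by
    rw [Subgroup.mem_centralizer_iff] at hxC
    exact (hxC y hyT).symm
  have hyx := hcyc x y hxo hyo hxy
  have hyC : y ∈ Subgroup.centralizer (T : Set X) := by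
    obtain ⟨k, rfl⟩ := Subgroup.mem_zpowers_iff.mp hyx
    exact Subgroup.zpow_mem _ hxC k
  set A := T ⊓ Subgroup.centralizer (T : Set X) with hA
  have hAn : A.Normal := inferInstance
  have hAcomm : ∀ a ∈ A, ∀ b ∈ A, a * b = b * a := by
    intro a ha b hb
    have h1 : a ∈ Subgroup.centralizer (T : Set X) := (Subgroup.mem_inf.mp ha).2
    rw [Subgroup.mem_centralizer_iff] at h1
    exact (h1 b (Subgroup.mem_inf.mp hb).1).symm
  let Ω : Subgroup X :=
    { carrier := {a | a ∈ A ∧ a ^ p = 1}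
      one_mem' := ⟨A.one_mem, one_pow p⟩
      mul_mem' := by
        rintro a b ⟨ha, hap⟩ ⟨hb, hbp⟩
        refine ⟨A.mul_mem ha hb, ?_⟩
        rw [(show Commute a b from hAcomm a ha b hb).mul_pow, hap, hbp, one_mul]
      inv_mem' := by
        rintro a ⟨ha, hap⟩
        exact ⟨A.inv_mem ha, by rw [inv_pow, hap, inv_one]⟩ }
  have hΩn : Ω.Normal := by
    constructor
    rintro a ⟨ha, hap⟩ g
    refine ⟨hAn.conj_mem a ha g, ?_⟩
    have : (g * a * g⁻¹) ^ p = g * a ^ p * g⁻¹ := by
      have := map_pow (MulAut.conj g).toMonoidHom a p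
      simpa [MulAut.conj_apply] using this.symm
    rw [this, hap]
    group
  have hΩp : IsPGroup p Ω := by
    rintro ⟨a, ha, hap⟩
    refine ⟨1, ?_⟩
    apply Subtype.ext
    rw [pow_one]
    simpa using hap
  have hΩbot := hp Ω hΩn hΩp
  have hyΩ : y ∈ Ω := ⟨⟨hyT, hyC⟩, by rw [← hyo, pow_orderOf_eq_one]⟩
  rw [hΩbot, Subgroup.mem_bot] at hyΩ
  rw [hyΩ, orderOf_one] at hyo
  exact (Fact.out : p.Prime).one_lt.ne hyo

end Cfsg.Agent.Lib.Helper24
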