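import Mathlib
import Cfsg.Agent.Lib.Helper24.CycSylowB

set_option autoImplicit false

namespace Cfsg.Agent.Lib.Helper24

open scoped Pointwise

theorem cs_pow_mem_sylow {K : Type*} [Group K] [Finite K] {p : ℕ} [Fact p.Prime] (P : Sylow p K)
    (y : K) (s : ℕ) (hy : orderOf y = p ^ s) (hn : y ∈ Subgroup.normalizer ((P : Subgroup K) : Set K)) :
    y ∈ (P : Subgroup K) := by
  have h1 : IsPGroup p (Subgroup.zpowers y) := by
    apply IsPGroup.of_card (n := s)
    rw [Nat.card_zpowers, hy]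
  have h2 : Subgroup.zpowers y ≤ Subgroup.normalizer ((P : Subgroup K) : Set K) := by
    rw [Subgroup.zpowers_le]
    exact hn
  have h3 := IsPGroup.to_sup_of_normal_right' h1 P.2 h2
  have h4 := P.is_maximal' h3 le_sup_right
  have : y ∈ Subgroup.zpowers y ⊔ (P : Subgroup K) :=
    (le_sup_left : Subgroup.zpowers y ≤ _) (Subgroup.mem_zpowers y)
  rw [h4] at this
  exact this

theorem cs_conj_zpow {K : Type*} [Group K] (m g : K) (k : ℤ) (h : m * g * m⁻¹ = g ^ k) (j : ℕ) :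
    m ^ j * g * (m ^ j)⁻¹ = g ^ (k ^ j) := by
  induction j with
  | zero => simp
  | succ j ih =>
    have e : m ^ (j + 1) * g * (m ^ (j + 1))⁻¹ = m * (m ^ j * g * (m ^ j)⁻¹) * m⁻¹ := by
      rw [pow_succ']
      group
    rw [e, ih]
    have e2 : m * g ^ (k ^ j) * m⁻¹ = (m * g * m⁻¹) ^ (k ^ j) := by
      have := map_zpow (MulAut.conj m).toMonoidHom g (k ^ j)
      simpa [MulAut.conj_apply] using this
    rw [e2, h, ← zpow_mul, pow_succ']

theorem cs_normalizer_le_centralizer {K : Type*} [Group K] [Finite K] {p : ℕ} [Fact p.Prime]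
    (P : Sylow p K) (hP : IsCyclic (P : Subgroup K)) (N : Subgroup K) (hN : N.Normal)
    (hPN : ¬ (P : Subgroup K) ≤ N) (m : K) (hm : m ∈ N ⊔ (P : Subgroup K))
    (hmn : m ∈ Subgroup.normalizer ((P : Subgroup K) : Set K)) :
    m ∈ Subgroup.centralizer ((P : Subgroup K) : Set K) := by
  have hp : p.Prime := Fact.out
  haveI := hN
  obtain ⟨g0, hg0⟩ := hP.exists_generator
  set g : K := (g0 : K) with hg
  have hgP : g ∈ (P : Subgroup K) := g0.2
  have hgen : ∀ x ∈ (P : Subgroup K), ∃ k : ℤ, g ^ k = x := by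
    intro x hx
    obtain ⟨k, hk⟩ := Subgroup.mem_zpowers_iff.mp (hg0 ⟨x, hx⟩)
    refine ⟨k, ?_⟩
    have := congrArg Subtype.val hk
    simpa using this
  obtain ⟨a, ha⟩ := IsPGroup.iff_card.mp P.2
  have hgo : orderOf g = p ^ a := by
    rw [← ha, ← Nat.card_zpowers]
    have h1 : orderOf g0 = orderOf g := (Subgroup.orderOf_coe g0).symm
    rw [Nat.card_zpowers, ← h1, ← Nat.card_zpowers]
    have : Subgroup.zpowers g0 = ⊤ := by
      rw [eq_top_iff]
      intro x _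
      exact hg0 x
    rw [this, Subgroup.card_top]
  have ha0 : a ≠ 0 := by
    rintro rfl
    apply hPN
    intro x hx
    obtain ⟨k, rfl⟩ := hgen x hx
    rw [pow_zero, orderOf_eq_one_iff] at hgo
    rw [hgo, one_zpow]
    exact N.one_mem
  have hcomm_of : ∀ w : K, w * g = g * w → w ∈ Subgroup.centralizer ((P : Subgroup K) : Set K) := by
    intro w hw
    rw [Subgroup.mem_centralizer_iff]
    intro x hx
    obtain ⟨k, rfl⟩ := hgen x hx
    exact ((Commute.zpow_right (show Commute w g from hw) k).eq).symm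
  have hmgP : m * g * m⁻¹ ∈ (P : Subgroup K) := by
    rw [Subgroup.mem_normalizer_iff] at hmn
    exact (hmn g).mp hgP
  obtain ⟨k, hk⟩ := hgen _ hmgP
  have hcN : g⁻¹ * (m * g * m⁻¹) ∈ N := by
    have hm' : m ∈ ((N ⊔ (P : Subgroup K) : Subgroup K) : Set K) := hm
    rw [Subgroup.normal_mul] at hm'
    obtain ⟨n, hn, x, hx, rfl⟩ := Set.mem_mul.mp hm'
    have hxg : x * g = g * x := cs_comm (P : Subgroup K) hP x hx g hgP
    have e : g⁻¹ * (n * x * g * (n * x)⁻¹) = (g⁻¹ * n * g⁻¹⁻¹) * n⁻¹ := by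
      have : n * x * g * (n * x)⁻¹ = n * (x * g) * x⁻¹ * n⁻¹ := by group
      rw [this, hxg]
      group
    rw [e]
    exact N.mul_mem (hN.conj_mem n hn g⁻¹) (N.inv_mem hn)
  have hc : g⁻¹ * (m * g * m⁻¹) = g ^ (k - 1) := by
    have e : k - 1 = -1 + k := by ring
    rw [← hk, e, zpow_add, zpow_neg_one]
  rw [hc] at hcN
  have hdvd : (p : ℤ) ∣ k - 1 := by
    by_contra hnd
    apply hPN
    have hcop : IsCoprime (k - 1) ((p : ℤ) ^ a) := by
      apply IsCoprime.pow_right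
      exact ((Prime.coprime_iff_not_dvd (Nat.prime_iff_prime_int.mp hp)).mpr hnd).symm
    obtain ⟨u, v, huv⟩ := hcop
    have hgN : g ∈ N := by
      have e : g = (g ^ (k - 1)) ^ u * (g ^ ((p : ℤ) ^ a)) ^ v := by
        rw [← zpow_mul, ← zpow_mul, ← zpow_add, mul_comm (k - 1) u, mul_comm ((p : ℤ) ^ a) v, huv, zpow_one]
      have e2 : g ^ ((p : ℤ) ^ a) = 1 := by
        have : ((p : ℤ) ^ a) = ((p ^ a : ℕ) : ℤ) := by push_cast; rfl
        rw [this, zpow_natCast, ← hgo, pow_orderOf_eq_one]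
      rw [e, e2, one_zpow, mul_one]
      exact N.zpow_mem hcN u
    intro x hx
    obtain ⟨j, rfl⟩ := hgen x hx
    exact N.zpow_mem hgN j
  obtain ⟨b, rfl⟩ := Nat.exists_eq_succ_of_ne_zero ha0
  have hpow : ((p : ℤ) ^ (b + 1)) ∣ k ^ (p ^ b) - 1 := by
    have := dvd_sub_pow_of_dvd_sub (R := ℤ) (p := p) (a := k) (b := 1) hdvd b
    simpa using this
  have h1 : m ^ (p ^ b) * g = g * m ^ (p ^ b) := by
    have h2 := cs_conj_zpow m g k hk.symm (p ^ b)
    obtain ⟨s, hs⟩ := hpow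
    have e : k ^ (p ^ b) = 1 + (p : ℤ) ^ (b + 1) * s := by linarith
    have e2 : g ^ ((p : ℤ) ^ (b + 1)) = 1 := by
      have : ((p : ℤ) ^ (b + 1)) = ((p ^ (b + 1) : ℕ) : ℤ) := by push_cast; rfl
      rw [this, zpow_natCast, ← hgo, pow_orderOf_eq_one]
    rw [e, zpow_add, zpow_one, zpow_mul, e2, one_zpow, mul_one] at h2
    calc m ^ (p ^ b) * g = (m ^ (p ^ b) * g * (m ^ (p ^ b))⁻¹) * m ^ (p ^ b) := by group
      _ = g * m ^ (p ^ b) := by rw [h2]
  obtain ⟨s, t, ht, hst⟩ := Nat.exists_eq_pow_mul_and_not_dvd (orderOf_pos m).ne' p hp.ne_one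
  have ht0 : t ≠ 0 := by
    rintro rfl
    exact ht (dvd_zero p)
  have hmt : orderOf (m ^ t) = p ^ s := by
    rw [orderOf_pow' m ht0, hst, Nat.gcd_eq_right (dvd_mul_left _ _)]
    exact Nat.mul_div_cancel _ (Nat.pos_of_ne_zero ht0)
  have hmtP : m ^ t ∈ (P : Subgroup K) :=
    cs_pow_mem_sylow P (m ^ t) s hmt (Subgroup.pow_mem _ hmn t)
  have h2 : m ^ t * g = g * m ^ t := cs_comm (P : Subgroup K) hP _ hmtP g hgP
  have hcop : IsCoprime (t : ℤ) ((p ^ b : ℕ) : ℤ) := by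
    rw [Nat.isCoprime_iff_coprime]
    apply Nat.Coprime.pow_right
    exact ((Nat.Prime.coprime_iff_not_dvd hp).mpr ht).symm
  obtain ⟨u, v, huv⟩ := hcop
  have hm_eq : m = (m ^ t) ^ u * (m ^ (p ^ b)) ^ v := by
    rw [← zpow_natCast m t, ← zpow_natCast m (p ^ b), ← zpow_mul, ← zpow_mul, ← zpow_add,
      mul_comm (t : ℤ) u, mul_comm ((p ^ b : ℕ) : ℤ) v, huv, zpow_one]
  apply hcomm_of
  rw [hm_eq]
  have c1 : Commute ((m ^ t) ^ u) g := Commute.zpow_left (show Commute (m ^ t) g from h2) u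
  have c2 : Commute ((m ^ (p ^ b)) ^ v) g := Commute.zpow_left (show Commute (m ^ (p ^ b)) g from h1) v
  exact (c1.mul_left c2).eq

end Cfsg.Agent.Lib.Helper24
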