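import Mathlib
import Cfsg.Agent.Lib.Helper24.CycSylowB2

set_option autoImplicit false

namespace Cfsg.Agent.Lib.Helper24

open scoped Pointwise

theorem cs_sylow_le {K : Type*} [Group K] [Finite K] {p : ℕ} [Fact p.Prime]
    (P : Sylow p K) (hP : IsCyclic (P : Subgroup K)) (N : Subgroup K) (hN : N.Normal)
    (hNs : IsSimpleGroup ↥N) (hNc : ¬ IsMulCommutative ↥N) (hpN : p ∣ Nat.card N) :
    (P : Subgroup K) ≤ N := by
  by_contra hPN
  haveI := hN
  set M := N ⊔ (P : Subgroup K) with hM
  have hPM : (P : Subgroup K) ≤ M := le_sup_right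
  have hNM : N ≤ M := le_sup_left
  set PM : Sylow p ↥M := P.subtype hPM with hPMdef
  have hPMcoe : (PM : Subgroup ↥M) = (P : Subgroup K).subgroupOf M := Sylow.coe_subtype P hPM
  have hmemPM : ∀ c : ↥M, c ∈ (PM : Subgroup ↥M) ↔ (c : K) ∈ (P : Subgroup K) := by
    intro c
    rw [hPMcoe, Subgroup.mem_subgroupOf]
  have hyp : Subgroup.normalizer ((PM : Subgroup ↥M) : Set ↥M) ≤
      Subgroup.centralizer ((PM : Subgroup ↥M) : Set ↥M) := by
    intro m hm
    have h1 : (m : K) ∈ Subgroup.normalizer ((P : Subgroup K) : Set K) := by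
      rw [Subgroup.mem_normalizer_iff] at hm ⊢
      intro x
      constructor
      · intro hx
        have := (hm ⟨x, hPM hx⟩).mp ((hmemPM _).mpr hx)
        exact (hmemPM _).mp this
      · intro hx
        have hxM : x ∈ M := by
          have h2 : (m : K)⁻¹ * ((m : K) * x * (m : K)⁻¹) * (m : K) ∈ M :=
            M.mul_mem (M.mul_mem (M.inv_mem m.2) (hPM hx)) m.2
          have e : (m : K)⁻¹ * ((m : K) * x * (m : K)⁻¹) * (m : K) = x := by group
          rw [e] at h2
          exact h2
        have := (hm ⟨x, hxM⟩).mpr ((hmemPM _).mpr hx)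
        exact (hmemPM _).mp this
    have h2 := cs_normalizer_le_centralizer P hP N hN hPN (m : K) m.2 h1
    rw [Subgroup.mem_centralizer_iff] at h2 ⊢
    intro x hx
    apply Subtype.ext
    exact h2 (x : K) ((hmemPM x).mp hx)
  set f := MonoidHom.transferSylow PM hyp with hf
  have hcompl := MonoidHom.ker_transferSylow_isComplement' PM hyp
  set U := f.ker with hU
  have hUn : U.Normal := MonoidHom.normal_ker f
  have hUcard : ¬ p ∣ Nat.card U := by
    have h1 : (PM : Subgroup ↥M).index = Nat.card U := hcompl.index_eq_card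
    rw [← h1]
    exact Sylow.not_dvd_index PM
  have hfcomm : ∀ a b : ↥M, f (a * b * a⁻¹ * b⁻¹) = 1 := by
    intro a b
    have hc : f a * f b = f b * f a := by
      apply Subtype.ext
      have ha : ((f a : ↥M) : K) ∈ (P : Subgroup K) := (hmemPM _).mp (f a).2
      have hb : ((f b : ↥M) : K) ∈ (P : Subgroup K) := (hmemPM _).mp (f b).2
      apply Subtype.ext
      exact cs_comm (P : Subgroup K) hP _ ha _ hb
    rw [map_mul, map_mul, map_mul, map_inv, map_inv, hc, mul_inv_cancel_right, mul_inv_cancel]
  set ι : ↥N →* ↥M := Subgroup.inclusion hNM with hι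
  have hWn : (U.comap ι).Normal := hUn.comap ι
  rcases hNs.eq_bot_or_eq_top_of_normal (U.comap ι) hWn with h | h
  · apply hNc
    constructor
    constructor
    intro a b
    have h1 : a * b * a⁻¹ * b⁻¹ ∈ U.comap ι := by
      rw [Subgroup.mem_comap]
      show f (ι (a * b * a⁻¹ * b⁻¹)) = 1
      have e : ι (a * b * a⁻¹ * b⁻¹) = ι a * ι b * (ι a)⁻¹ * (ι b)⁻¹ := by
        simp only [map_mul, map_inv]
      rw [e]
      exact hfcomm (ι a) (ι b)
    rw [h, Subgroup.mem_bot] at h1
    calc a * b = (a * b * a⁻¹ * b⁻¹) * (b * a) := by group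
      _ = b * a := by rw [h1, one_mul]
  · apply hUcard
    have hall : ∀ a : ↥N, ι a ∈ U := by
      intro a
      have : a ∈ U.comap ι := by rw [h]; exact Subgroup.mem_top a
      exact this
    let φ : ↥N →* U := ι.codRestrict U hall
    have hφ : Function.Injective φ := by
      intro a b hab
      have h1 : ι a = ι b := congrArg Subtype.val hab
      exact Subgroup.inclusion_injective hNM h1
    have h1 : Nat.card ↥N = Nat.card φ.range := Nat.card_congr (MonoidHom.ofInjective hφ).toEquiv
    have h2 : Nat.card φ.range ∣ Nat.card U := Subgroup.card_subgroup_dvd_card _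
    rw [← h1] at h2
    exact hpN.trans h2

end Cfsg.Agent.Lib.Helper24
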