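import Mathlib
import Cfsg.Agent.Lib.Helper1.Fitting
import Cfsg.Agent.Lib.Helper10.Components
import Cfsg.Agent.Lib.Helper24.CycSylowB3

set_option autoImplicit false

namespace Cfsg.Agent.Lib.Helper24

open scoped Pointwise commutatorElement

theorem cs_subnormal_simple {G : Type*} [Group G] [IsSimpleGroup G] (H : Subgroup G)
    (h : H.IsSubnormal) : H = ⊥ ∨ H = ⊤ := by
  induction h with
  | top => exact Or.inr rfl
  | step H K hHK _ hn ih =>
    rcases ih with hK | hK
    · left
      rw [hK] at hHK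
      exact le_bot_iff.mp hHK
    · have hHn : H.Normal := by
        constructor
        intro a ha g
        have hgK : g ∈ K := by rw [hK]; exact Subgroup.mem_top g
        have h1 : (⟨a, hHK ha⟩ : K) ∈ H.subgroupOf K := by
          rw [Subgroup.mem_subgroupOf]
          exact ha
        have h2 := hn.conj_mem _ h1 ⟨g, hgK⟩
        rw [Subgroup.mem_subgroupOf] at h2
        exact h2
      exact hHn.eq_bot_or_eq_top

theorem cs_fitting_bot {K : Type*} [Group K] [Finite K] {p : ℕ} [Fact p.Prime]
    (hp : NoNormalP p K) (hp' : NoNormalP' p K) : Cfsg.fittingSubgroup K = ⊥ := by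
  have hpp : p.Prime := Fact.out
  rw [Cfsg.Agent.Lib.Helper1.fittingSubgroup_eq_iSup_pCore, eq_bot_iff]
  apply iSup_le
  intro q
  have hq : Fact (q : ℕ).Prime := ⟨q.2⟩
  have hqn : (Cfsg.pCore (q : ℕ) K).Normal := Cfsg.Agent.Lib.Helper1.pCore_normal _
  have hqq : IsPGroup (q : ℕ) (Cfsg.pCore (q : ℕ) K) := Cfsg.Agent.Lib.Helper1.pCore_isPGroup _
  by_cases hqp : (q : ℕ) = p
  · rw [hqp] at hqn hqq ⊢
    rw [hp _ hqn hqq]
  · obtain ⟨k, hk⟩ := IsPGroup.iff_card.1 hqq
    have hcop : (Nat.card (Cfsg.pCore (q : ℕ) K)).Coprime p := by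
      rw [hk]
      exact Nat.Coprime.pow_left k ((Nat.coprime_primes q.2 hpp).2 hqp)
    rw [hp' _ hqn hcop]

theorem cs_isComponent {K : Type*} [Group K] (N : Subgroup K) (hN : N.Normal)
    (hNs : IsSimpleGroup ↥N) (hNc : ¬ IsMulCommutative ↥N) : Cfsg.IsComponent N := by
  refine ⟨hN.isSubnormal, ⟨⟨?_⟩, ?_⟩⟩
  · rcases (inferInstance : (commutator ↥N).Normal).eq_bot_or_eq_top with h | h
    · exfalso
      apply hNc
      constructor
      constructor
      intro a b
      have h1 : ⁅a, b⁆ ∈ commutator ↥N :=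
        Subgroup.commutator_mem_commutator (Subgroup.mem_top a) (Subgroup.mem_top b)
      rw [h, Subgroup.mem_bot, commutatorElement_eq_one_iff_mul_comm] at h1
      exact h1
    · exact h
  · have hc : Subgroup.center ↥N = ⊥ := by
      rcases (inferInstance : (Subgroup.center ↥N).Normal).eq_bot_or_eq_top with h | h
      · exact h
      · exfalso
        apply hNc
        constructor
        constructor
        intro a b
        have : a ∈ Subgroup.center ↥N := by
          rw [h]
          exact Subgroup.mem_top a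
        rw [Subgroup.mem_center_iff] at this
        exact (this b).symm
    have e : ↥N ⧸ Subgroup.center ↥N ≃* ↥N :=
      (QuotientGroup.quotientMulEquivOfEq hc).trans QuotientGroup.quotientBot
    exact e.isSimpleGroup

theorem cs_layer_eq {K : Type*} [Group K] [Finite K] (hcf : CentFree K) (N : Subgroup K) (hN : N.Normal)
    (hN1 : N ≠ ⊥) (hNs : IsSimpleGroup ↥N) (hNc : ¬ IsMulCommutative ↥N) : Cfsg.layer K = N := by
  unfold Cfsg.layer
  apply le_antisymm
  · apply sSup_le
    intro L hL
    have hL' : Cfsg.IsComponent L := hL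
    rcases Cfsg.Agent.Lib.Helper10.component_le_or_commutator_eq_bot L N hL' hN.isSubnormal with h | h
    · exact h
    · exfalso
      rw [Subgroup.commutator_eq_bot_iff_le_centralizer, hcf N hN hN1] at h
      exact Cfsg.Agent.Lib.Helper10.isComponent_ne_bot hL' (le_bot_iff.mp h)
  · exact le_sSup (cs_isComponent N hN hNs hNc)

end Cfsg.Agent.Lib.Helper24

namespace Cfsg.Agent.Lib.Helper24

theorem cs_caseB {K : Type*} [Group K] [Finite K] (p : ℕ) [Fact p.Prime] (hpK : p ∣ Nat.card K)
    (P : Sylow p K) (hP : IsCyclic (P : Subgroup K)) (hO : Cfsg.pPrimeCore p K = ⊥)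
    (hR : Cfsg.pCore p K = ⊥) :
    IsSimpleGroup ↥(Cfsg.generalizedFittingSubgroup K) ∧
      ¬ IsMulCommutative ↥(Cfsg.generalizedFittingSubgroup K) ∧
      ¬ p ∣ (Cfsg.generalizedFittingSubgroup K).index := by
  have hpp : p.Prime := Fact.out
  have hp0 := ti_noNormalP hR
  have hp0' := ti_noNormalP' hO
  have hcyc := cs_cycProp P hP
  have hcf := cs_centFree hp0 hp0' hcyc
  haveI : Nontrivial K := by
    rw [← Finite.one_lt_card_iff_nontrivial]
    have := Nat.le_of_dvd Nat.card_pos hpK
    have := hpp.two_le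
    omega
  obtain ⟨N, hNn, hN1, hmin⟩ := Cfsg.Agent.Lib.Helper1.exists_minimal_normal (G := K)
  haveI := hNn
  have hcfN : CentFree ↥N :=
    cs_centFree (ti_sub_noNormalP hp0 N) (ti_sub_noNormalP' hp0' N) (cs_cycProp_sub hcyc N)
  have hNs := cf_simple N hNn hN1 hcfN hmin
  have hNc := cf_not_comm hcf N hNn hN1
  have hpN : p ∣ Nat.card N := by
    by_contra h
    apply hN1
    apply hp0' N hNn
    exact ((Nat.Prime.coprime_iff_not_dvd hpp).mpr h).symm
  have hPN := cs_sylow_le P hP N hNn hNs hNc hpN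
  have hgfs : Cfsg.generalizedFittingSubgroup K = N := by
    unfold Cfsg.generalizedFittingSubgroup
    rw [cs_layer_eq hcf N hNn hN1 hNs hNc, cs_fitting_bot hp0 hp0', sup_bot_eq]
  rw [hgfs]
  refine ⟨hNs, hNc, ?_⟩
  intro h
  exact Sylow.not_dvd_index P (h.trans (Subgroup.index_dvd_of_le hPN))

end Cfsg.Agent.Lib.Helper24
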