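import Mathlib
import Cfsg.Agent.Lib.Helper24.CyclicInertial3

set_option autoImplicit false

namespace Cfsg.Agent.Lib.Helper24

open Cfsg.Agent.Lib.helper7 Cfsg.Agent.Lib.Helper25

variable {G : Type*} [Group G]

theorem ci_final [Finite G] (p : ℕ) [hp : Fact p.Prime] (M : Ideal Cfsg.AlgInt) (hM : Cfsg.IsPModular p M)
    (B : Set (Cfsg.IrrCharacter G)) (P : Subgroup G)
    (hPD : Cfsg.IsDefectGroup p M B P) (hP1 : P ≠ ⊥) (hcyc : IsCyclic P)
    (c : Set (Cfsg.IrrCharacter (Subgroup.centralizer (P : Set G))))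
    (hc : Cfsg.IsInducedBlock M (Subgroup.centralizer (P : Set G)) c B) (T : Subgroup G)
    (hT : ∀ g : G, g ∈ T ↔ (g ∈ Subgroup.normalizer (P : Set G) ∧
      Cfsg.StabilizesBlock (Subgroup.centralizer (P : Set G)) c g))
    [hn : ((Subgroup.centralizer (P : Set G)).subgroupOf T).Normal] :
    IsCyclic (T ⧸ (Subgroup.centralizer (P : Set G)).subgroupOf T) ∧
      (Subgroup.centralizer (P : Set G)).relIndex T ∣ p - 1 ∧
      ∀ g ∈ T, ∀ x ∈ P, x ≠ 1 → g * x * g⁻¹ = x → g ∈ Subgroup.centralizer (P : Set G) := by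
  classical
  haveI : Fintype G := Fintype.ofFinite _
  haveI : Fintype (Subgroup.centralizer (P : Set G)) := Fintype.ofFinite _
  have hPg : IsPGroup p P := ef_isPGroup_of_defect hPD
  have hPC : P ≤ Subgroup.centralizer (P : Set G) := by
    haveI := hcyc
    intro x hx
    rw [Subgroup.mem_centralizer_iff]
    intro y hy
    have h1 : (⟨y, hy⟩ : P) * ⟨x, hx⟩ = ⟨x, hx⟩ * ⟨y, hy⟩ := by
      letI : CommGroup P := IsCyclic.commGroup
      exact mul_comm _ _
    exact congrArg Subtype.val h1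
  have hdef := ci_defect hM B P hPD hPg _ hPC le_rfl c hc
  have hH : Subgroup.centralizer (P : Set G) = P ⊔ Subgroup.centralizer (P : Set G) :=
    (sup_eq_right.mpr hPC).symm
  have hT' : ∀ g : G, g ∈ T ↔ (g ∈ Subgroup.normalizer (P : Set G) ∧ ∀ θ ∈ c,
      ∀ θ' : Cfsg.IrrCharacter (Subgroup.centralizer (P : Set G)),
      (∀ h h' : Subgroup.centralizer (P : Set G), (h' : G) = g * h * g⁻¹ →
        (θ' : Subgroup.centralizer (P : Set G) → ℂ) h' =
          (θ : Subgroup.centralizer (P : Set G) → ℂ) h) → θ' ∈ c) := by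
    intro g
    rw [hT g]
    constructor
    · rintro ⟨hgN, hgC, hst⟩
      refine ⟨hgN, fun θ hθ θ' hθ' => ?_⟩
      obtain ⟨χ', hχ', hconj⟩ := hst θ hθ
      have e1 := bq_conjIrr_unique _ g hgC θ χ' hconj
      have e2 := bq_conjIrr_unique _ g hgC θ θ' hθ'
      rw [e2, ← e1]
      exact hχ'
    · rintro ⟨hgN, hst⟩
      have hgC := ci_normalizer_le P hgN
      refine ⟨hgN, hgC, fun θ hθ => ⟨bq_conjIrr _ g hgC θ, ?_, bq_isConjCharOf _ g hgC θ⟩⟩
      exact hst θ hθ _ (bq_isConjCharOf _ g hgC θ)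
  have hidx : ¬ p ∣ (Subgroup.centralizer (P : Set G)).relIndex T :=
    (si_main p M hM P hPg _ hH c hc.1 hdef B hc T hT').mp hPD
  have hTN : T ≤ Subgroup.normalizer (P : Set G) := fun g hg => ((hT g).mp hg).1
  exact ci_main p P hPg hP1 hcyc T hTN hidx

end Cfsg.Agent.Lib.Helper24
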