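import Mathlib
import Cfsg.Agent.Lib.helper14.OBNd
import Cfsg.Agent.Lib.helper14.DBN.Defs
import Cfsg.Agent.Lib.Helper25.DBNQBASIC

set_option autoImplicit false
set_option linter.unusedVariables false

namespace Cfsg.Agent.Lib.helper14.DBN

open Matrix DoubleCoset
open Cfsg.Agent.Lib.helper3 Cfsg.Agent.Lib.helper14
open Cfsg.Agent.Lib.helper14.UBN Cfsg.Agent.Lib.helper14.OBN

universe u
variable {F : Type u} [Field F] {n : ℕ}

theorem isXL_mem_BU (x : GS n F) (hx : IsXL x) : x ∈ BU n (Sid F) := by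
  obtain ⟨c, hc, hm⟩ := hx
  rw [mem_BU_iff]
  intro i j hij
  rw [hm i j]
  have hne : i ≠ j := by
    rintro rfl
    exact lt_irrefl _ hij
  rw [if_neg hne, zero_add]
  by_cases hj : j = rv i
  · rw [if_pos hj]
    apply hc
    have h1 := rk_add_rv i
    rw [← hj] at h1
    have h2 := rk_lt i
    omega
  · rw [if_neg hj]

theorem isXL_inv (h2 : (2 : F) = 0) (x : GS n F) (hx : IsXL x) : IsXL x⁻¹ := by
  obtain ⟨c, hc, hm⟩ := hx
  refine ⟨c, hc, ?_⟩
  intro i j
  rw [inv_apply, Sid_apply, hm (rv j) (rv i)]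
  have e1 : (if rv j = rv i then (1 : F) else 0) = if i = j then 1 else 0 := by
    by_cases h : i = j
    · rw [if_pos h, if_pos (by rw [h])]
    · rw [if_neg h, if_neg (fun h' => h (rv_inj h').symm)]
  have e2 : (if rv i = rv (rv j) then c (rv j) else 0) = if j = rv i then c i else 0 := by
    rw [rv_rv]
    by_cases h : j = rv i
    · rw [if_pos h, if_pos h.symm, h, rv_rv]
    · rw [if_neg h, if_neg (fun h' => h h'.symm)]
  rw [e1, e2]

def dbnxl1_M (c : Fin n → F) : Matrix (Fin n) (Fin n) F :=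
  Matrix.of fun i j => (if i = j then 1 else 0) + (if j = rv i then c i else 0)

theorem dbnxl1_M_mulVec (c : Fin n → F) (u : Fin n → F) (i : Fin n) :
    (dbnxl1_M c *ᵥ u) i = u i + c i * u (rv i) := by
  unfold dbnxl1_M
  simp only [Matrix.mulVec, dotProduct, Matrix.of_apply, add_mul, ite_mul, one_mul, zero_mul]
  rw [Finset.sum_add_distrib, Finset.sum_ite_eq, Finset.sum_ite_eq']
  simp

theorem dbnxl1_M_form (hn : n % 2 = 0) (h2 : (2 : F) = 0) (c : Fin n → F)
    (hc : ∀ i, n / 2 ≤ rk i → c i = 0) (u v : Fin n → F) :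
    hJ (Sid F) (dbnxl1_M c *ᵥ u) (dbnxl1_M c *ᵥ v) = hJ (Sid F) u v := by
  have hcc : ∀ i, c i * c (rv i) = 0 := by
    intro i
    by_cases h : n / 2 ≤ rk i
    · rw [hc i h, zero_mul]
    · rw [hc (rv i) (by have h3 := rk_add_rv i; have h4 := rk_lt i; omega), mul_zero]
  unfold hJ
  simp only [Sid_apply, dbnxl1_M_mulVec, rv_rv]
  have key : ∀ i, (u i + c i * u (rv i)) * (v (rv i) + c (rv i) * v i) =
      u i * v (rv i) + (c (rv i) * (u i * v i) + c (rv (rv i)) * (u (rv i) * v (rv i))) := by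
    intro i
    rw [rv_rv]
    have h5 := hcc i
    linear_combination (u (rv i) * v i) * h5
  rw [Finset.sum_congr rfl (fun i _ => key i)]
  rw [Finset.sum_add_distrib, Finset.sum_add_distrib]
  have hre : ∑ i, c (rv (rv i)) * (u (rv i) * v (rv i)) = ∑ i, c (rv i) * (u i * v i) :=
    Equiv.sum_comp (rvPerm n) (fun i => c (rv i) * (u i * v i))
  rw [hre]
  have h6 : ∑ i, c (rv i) * (u i * v i) + ∑ i, c (rv i) * (u i * v i) = 0 := by
    rw [← two_mul, h2, zero_mul]
  rw [h6, add_zero]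

theorem dbnxl1_Qh_upper (b : GS n F) (hb : b ∈ BU n (Sid F)) (y : Fin n) (hy : rk y < n / 2) :
    Qh n (mt b *ᵥ bV y) = 0 := by
  unfold Qh
  apply Finset.sum_eq_zero
  intro k _
  rw [mulVec_bV, mulVec_bV]
  have h1 : mt b (rv (pa k)) y = 0 := by
    apply (mem_BU_iff b).mp hb
    have h2 := rk_add_rv (pa k)
    rw [rk_pa] at h2
    have h3 := k.2
    omega
  rw [h1, mul_zero]

theorem dbnxl1_col (x : GS n F) (c : Fin n → F)
    (hm : ∀ i j, mt x i j = (if i = j then 1 else 0) + (if j = rv i then c i else 0)) (y : Fin n) :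
    mt x *ᵥ (bV y : Fin n → F) = bV y + c (rv y) • bV (rv y) := by
  funext i
  rw [mulVec_bV, hm, Pi.add_apply, Pi.smul_apply, bV_apply, bV_apply, smul_eq_mul]
  congr 1
  by_cases h : y = rv i
  · rw [if_pos h, if_pos (by rw [h, rv_rv]), mul_one, h, rv_rv]
  · rw [if_neg h, if_neg (fun h' => h (by rw [h', rv_rv])), mul_zero]

theorem exists_xl_right (hn : n % 2 = 0) (h2 : (2 : F) = 0) (b : GS n F)
    (hb : b ∈ BU n (Sid F)) : ∃ x : GS n F, IsXL x ∧ b * x ∈ BO n F := by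
  classical
  let c : Fin n → F := fun a => if rk a < n / 2 then Qh n (mt b *ᵥ bV (rv a)) else 0
  have hc : ∀ i, n / 2 ≤ rk i → c i = 0 := by
    intro i hi
    show (if rk i < n / 2 then _ else _) = _
    rw [if_neg (by omega)]
  let x : GS n F := mkG (dbnxl1_M c) (dbnxl1_M_form hn h2 c hc)
  have hm : ∀ i j, mt x i j = (if i = j then 1 else 0) + (if j = rv i then c i else 0) := by
    intro i j
    rfl
  have hx : IsXL x := ⟨c, hc, hm⟩
  refine ⟨x, hx, ?_⟩
  refine ⟨(BU n (Sid F)).mul_mem hb (isXL_mem_BU x hx), ?_⟩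
  show b * x ∈ OQ n F
  rw [mem_OQ_iff hn]
  intro y
  rw [mt_mul_mulVec, dbnxl1_col x c hm y, Matrix.mulVec_add, Matrix.mulVec_smul, Qh_add hn, Qh_smul,
    hJ_smul_right, Sid_apply, mt_form, hJ_bV_bV, if_pos (rv_rv y).symm, mul_one]
  by_cases hy : rk y < n / 2
  · have h1 : c (rv y) = 0 := hc _ (by have h3 := rk_add_rv y; have h4 := rk_lt y; omega)
    rw [h1, dbnxl1_Qh_upper b hb y hy]
    ring
  · have h1 : c (rv y) = Qh n (mt b *ᵥ bV y) := by
      show (if rk (rv y) < n / 2 then _ else _) = _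
      rw [if_pos (by have h3 := rk_add_rv y; have h4 := rk_lt y; omega), rv_rv]
    have h3 : Qh n (mt b *ᵥ bV (rv y)) = 0 :=
      dbnxl1_Qh_upper b hb (rv y) (by have h3 := rk_add_rv y; have h4 := rk_lt y; omega)
    rw [h3, h1, mul_zero, add_zero, ← two_mul, h2, zero_mul]

theorem exists_xl_left (hn : n % 2 = 0) (h2 : (2 : F) = 0) (b : GS n F)
    (hb : b ∈ BU n (Sid F)) : ∃ x : GS n F, IsXL x ∧ x * b ∈ BO n F := by
  obtain ⟨x, hx, hbx⟩ := exists_xl_right hn h2 b⁻¹ ((BU n (Sid F)).inv_mem hb)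
  refine ⟨x⁻¹, isXL_inv h2 x hx, ?_⟩
  have h := (BO n F).inv_mem hbx
  rwa [_root_.mul_inv_rev, inv_inv] at h

end Cfsg.Agent.Lib.helper14.DBN
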