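import Mathlib

set_option autoImplicit false
set_option linter.style.haveILetI false
set_option linter.unusedSectionVars false
set_option linter.unusedVariables false
set_option maxHeartbeats 1600000

namespace Cfsg.Agent.Lib.Helper24

open DihedralGroup

theorem dh_rot_of_order {m : ℕ} [NeZero m] (hm : 3 ≤ m) (d : DihedralGroup m)
    (hd : orderOf d = m) :
    ∃ i : ZMod m, d = r i ∧ ∀ k : ZMod m, r k ∈ Subgroup.zpowers d := by
  cases d with
  | r i =>
    refine ⟨i, rfl, ?_⟩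
    rw [orderOf_r] at hd
    have hmpos : 0 < m := by omega
    have hg : Nat.gcd m i.val = 1 := by
      obtain ⟨g, hgdef⟩ : ∃ g, g = Nat.gcd m i.val := ⟨_, rfl⟩
      rw [← hgdef] at hd ⊢
      have hdvd : g ∣ m := hgdef ▸ Nat.gcd_dvd_left _ _
      have hgpos : 0 < g := hgdef ▸ Nat.gcd_pos_of_pos_left _ hmpos
      have h1 := Nat.div_mul_cancel hdvd
      rw [hd] at h1
      have : m * g = m * 1 := by rw [mul_one]; exact h1
      exact Nat.eq_of_mul_eq_mul_left hmpos this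
    have hcop : Nat.Coprime i.val m := by
      rw [Nat.coprime_comm]
      exact hg
    obtain ⟨u, hu⟩ : ∃ u : ZMod m, i * u = 1 := by
      have h2 : ((ZMod.unitOfCoprime i.val hcop : (ZMod m)ˣ) : ZMod m) = i := by
        rw [ZMod.coe_unitOfCoprime, ZMod.natCast_zmod_val]
      obtain ⟨v, hv⟩ : ∃ v : (ZMod m)ˣ, (v : ZMod m) = i := ⟨_, h2⟩
      refine ⟨((v⁻¹ : (ZMod m)ˣ) : ZMod m), ?_⟩
      rw [← hv]
      exact Units.mul_inv v
    intro k
    rw [Subgroup.mem_zpowers_iff]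
    refine ⟨((u * k).val : ℤ), ?_⟩
    rw [zpow_natCast, r_pow, ZMod.natCast_zmod_val, ← mul_assoc, hu, one_mul]
  | sr i =>
    rw [orderOf_sr] at hd
    omega

variable {G : Type*} [Group G]

theorem dh_nonrot {m : ℕ} [NeZero m] (hm : 3 ≤ m) (P : Subgroup G) (e : P ≃* DihedralGroup m)
    (σ : G) (hσ : σ ∈ P) (hσo : orderOf σ = m) (y : G) (hy : y ∈ P)
    (hyn : y ∉ Subgroup.zpowers σ) : y * y = 1 ∧ y * σ * y⁻¹ = σ⁻¹ := by
  have hso : orderOf (e ⟨σ, hσ⟩) = m := by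
    rw [MulEquiv.orderOf_eq, ← hσo]
    exact Subgroup.orderOf_mk σ hσ
  obtain ⟨i, hi, hall⟩ := dh_rot_of_order hm (e ⟨σ, hσ⟩) hso
  have hcase : ∃ k : ZMod m, e ⟨y, hy⟩ = sr k := by
    rcases hey : e ⟨y, hy⟩ with k | k
    · exfalso
      have := hall k
      rw [Subgroup.mem_zpowers_iff] at this
      obtain ⟨n, hn⟩ := this
      rw [← map_zpow, ← hey] at hn
      have h2 := e.injective hn
      apply hyn
      rw [Subgroup.mem_zpowers_iff]
      refine ⟨n, ?_⟩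
      have h3 := congrArg Subtype.val h2
      simpa using h3
    · exact ⟨k, rfl⟩
  obtain ⟨k, hk⟩ := hcase
  constructor
  · have h1 : (⟨y, hy⟩ : P) * ⟨y, hy⟩ = 1 := by
      apply e.injective
      rw [map_mul, hk, sr_mul_self, map_one]
    have := congrArg Subtype.val h1
    simpa using this
  · have h1 : (⟨y, hy⟩ : P) * ⟨σ, hσ⟩ * (⟨y, hy⟩ : P)⁻¹ = (⟨σ, hσ⟩ : P)⁻¹ := by
      apply e.injective
      rw [map_mul, map_mul, map_inv, map_inv, hk, hi, inv_sr, sr_mul_r, sr_mul_sr, inv_r]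
      congr 1
      ring
    have := congrArg Subtype.val h1
    simpa using this

theorem dh_card {m : ℕ} (P : Subgroup G) (e : P ≃* DihedralGroup m) :
    Nat.card P = 2 * m := by
  rw [Nat.card_congr e.toEquiv, DihedralGroup.nat_card]

theorem dh_conj_pow {σ y : G} (h : y * σ * y⁻¹ = σ⁻¹) (k : ℤ) :
    y * σ ^ k * y⁻¹ = (σ ^ k)⁻¹ := by
  have h1 : y * σ ^ k * y⁻¹ = (y * σ * y⁻¹) ^ k := by
    rw [conj_zpow]
  rw [h1, h, inv_zpow]

theorem dh_cent_rot {m : ℕ} [NeZero m] (hm : 3 ≤ m) (P : Subgroup G) (e : P ≃* DihedralGroup m)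
    (σ : G) (hσ : σ ∈ P) (hσo : orderOf σ = m) (x : G) (hx : x ∈ Subgroup.zpowers σ)
    (hx2 : x * x ≠ 1) (y : G) (hy : y ∈ P) (hyx : y * x = x * y) :
    y ∈ Subgroup.zpowers σ := by
  by_contra hyn
  obtain ⟨-, hinv⟩ := dh_nonrot hm P e σ hσ hσo y hy hyn
  rw [Subgroup.mem_zpowers_iff] at hx
  obtain ⟨k, rfl⟩ := hx
  have h1 := dh_conj_pow hinv k
  rw [hyx, mul_assoc, mul_inv_cancel, mul_one] at h1
  apply hx2
  nth_rewrite 2 [h1]
  exact mul_inv_cancel _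

theorem dh_sq_ne_one_mem {m : ℕ} [NeZero m] (hm : 3 ≤ m) (P : Subgroup G)
    (e : P ≃* DihedralGroup m)
    (σ : G) (hσ : σ ∈ P) (hσo : orderOf σ = m) (y : G) (hy : y ∈ P) (hy2 : y * y ≠ 1) :
    y ∈ Subgroup.zpowers σ := by
  by_contra hyn
  exact hy2 (dh_nonrot hm P e σ hσ hσo y hy hyn).1

end Cfsg.Agent.Lib.Helper24
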