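import Mathlib

set_option autoImplicit false
set_option linter.style.haveILetI false
set_option linter.unusedVariables false
set_option maxHeartbeats 1600000

namespace Cfsg.Agent.Lib.Helper24

section
variable {L : Type*} [Group L]

theorem hc_conj_pow (g y v : L) (hy : g * y * g⁻¹ = v * y) (hv : g * v * g⁻¹ = v) (i : ℕ) :
    g ^ i * y * (g ^ i)⁻¹ = v ^ i * y := by
  induction i with
  | zero => simp
  | succ i ih =>
    have h1 : g ^ (i + 1) * y * (g ^ (i + 1))⁻¹ = g * (g ^ i * y * (g ^ i)⁻¹) * g⁻¹ := by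
      rw [pow_succ']
      group
    rw [h1, ih]
    have h2 : g * (v ^ i * y) * g⁻¹ = (g * v * g⁻¹) ^ i * (g * y * g⁻¹) := by
      rw [conj_pow]
      group
    rw [h2, hv, hy, pow_succ, mul_assoc]

theorem hc_cent_of_fix_invol (Q : Subgroup L) (hab : ∀ x ∈ Q, ∀ y ∈ Q, x * y = y * x)
    (h2 : ∀ y ∈ Q, ∃ r : ℕ, orderOf y = 2 ^ r)
    (g : L) (hg : ∀ y ∈ Q, g * y * g⁻¹ ∈ Q) (k : ℕ) (hk : Odd k)
    (hgk : ∀ y ∈ Q, g ^ k * y * (g ^ k)⁻¹ = y)
    (hfix : ∀ t ∈ Q, t ^ 2 = 1 → g * t * g⁻¹ = t) : ∀ y ∈ Q, g * y * g⁻¹ = y := by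
  have key : ∀ n : ℕ, ∀ y ∈ Q, orderOf y = n → g * y * g⁻¹ = y := by
    intro n
    induction n using Nat.strong_induction_on with
    | _ n ih =>
      intro y hy hn
      by_cases hy2 : y ^ 2 = 1
      · exact hfix y hy hy2
      · obtain ⟨r, hr⟩ := h2 y hy
        have hr2 : 2 ≤ r := by
          by_contra h
          push Not at h
          apply hy2
          have : orderOf y ∣ 2 := by
            rw [hr]
            interval_cases r
            · simp
            · simp
          exact orderOf_dvd_iff_pow_eq_one.mp this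
        have hlt : orderOf (y ^ 2) < n := by
          rw [orderOf_pow' y (by norm_num : (2:ℕ) ≠ 0), hr, ← hn, hr]
          have : Nat.gcd (2 ^ r) 2 = 2 := by
            apply Nat.gcd_eq_right
            exact dvd_pow_self 2 (by omega)
          rw [this]
          apply Nat.div_lt_self (by positivity) (by norm_num)
        have hsq : g * y ^ 2 * g⁻¹ = y ^ 2 := ih _ hlt (y ^ 2) (Q.pow_mem hy 2) rfl
        set v := g * y * g⁻¹ * y⁻¹ with hv
        have hgy : g * y * g⁻¹ ∈ Q := hg y hy
        have hvQ : v ∈ Q := Q.mul_mem hgy (Q.inv_mem hy)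
        have hv2 : v ^ 2 = 1 := by
          have hc : Commute (g * y * g⁻¹) y⁻¹ := hab _ hgy _ (Q.inv_mem hy)
          rw [hv, hc.mul_pow, conj_pow, hsq]
          group
        have hvfix : g * v * g⁻¹ = v := hfix v hvQ hv2
        have hyv : g * y * g⁻¹ = v * y := by rw [hv]; group
        have h3 := hc_conj_pow g y v hyv hvfix k
        rw [hgk y hy] at h3
        have hvk : v ^ k = 1 := by
          have : v ^ k * y = 1 * y := by rw [← h3, one_mul]
          exact mul_right_cancel this
        obtain ⟨j, hj⟩ := hk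
        have hv1 : v = 1 := by
          rw [hj, pow_succ, pow_mul, hv2, one_pow, one_mul] at hvk
          exact hvk
        rw [hyv, hv1, one_mul]
  intro y hy
  exact key _ y hy rfl

end
end Cfsg.Agent.Lib.Helper24
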