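import Mathlib
import Cfsg.Agent.Lib.Helper24.HC1

set_option autoImplicit false
set_option linter.style.haveILetI false
set_option linter.unusedVariables false
set_option maxHeartbeats 1600000

namespace Cfsg.Agent.Lib.Helper24

section
variable {L : Type*} [Group L]

theorem hc_conj_iff_commute (g y : L) : g * y * g⁻¹ = y ↔ Commute g y := by
  rw [mul_inv_eq_iff_eq_mul]
  exact Iff.rfl

theorem hc_omega_eq (Q : Subgroup L)
    (hΩ : Set.ncard {y : L | y ∈ Q ∧ y ^ 2 = 1} = 4)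
    (t t' : L) (ht : t ∈ Q) (ht' : t' ∈ Q) (ht1 : t ≠ 1) (ht'1 : t' ≠ 1) (htt' : t ≠ t')
    (ht2 : t ^ 2 = 1) (ht'2 : t' ^ 2 = 1) (hc : t * t' = t' * t) :
    ∀ y ∈ Q, y ^ 2 = 1 → y = 1 ∨ y = t ∨ y = t' ∨ y = t * t' := by
  classical
  have hfin : {y : L | y ∈ Q ∧ y ^ 2 = 1}.Finite := Set.finite_of_ncard_ne_zero (by omega)
  have hsub : (({1, t, t', t * t'} : Finset L) : Set L) ⊆ {y : L | y ∈ Q ∧ y ^ 2 = 1} := by
    intro y hy
    simp only [Finset.coe_insert, Finset.coe_singleton, Set.mem_insert_iff,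
      Set.mem_singleton_iff] at hy
    rcases hy with rfl | rfl | rfl | rfl
    · exact ⟨Q.one_mem, one_pow 2⟩
    · exact ⟨ht, ht2⟩
    · exact ⟨ht', ht'2⟩
    · refine ⟨Q.mul_mem ht ht', ?_⟩
      have : Commute t t' := hc
      rw [this.mul_pow, ht2, ht'2, one_mul]
  have htinv : t⁻¹ = t := by
    rw [inv_eq_iff_mul_eq_one, ← pow_two, ht2]
  have hcard : ({1, t, t', t * t'} : Finset L).card = 4 := by
    rw [Finset.card_insert_of_notMem, Finset.card_insert_of_notMem, Finset.card_insert_of_notMem,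
      Finset.card_singleton]
    · simp only [Finset.mem_singleton]
      intro h
      exact ht1 (by simpa using h)
    · simp only [Finset.mem_insert, Finset.mem_singleton, not_or]
      refine ⟨htt', ?_⟩
      intro h
      exact ht'1 (by simpa using h)
    · simp only [Finset.mem_insert, Finset.mem_singleton, not_or]
      refine ⟨ht1.symm, ht'1.symm, ?_⟩
      intro h
      apply htt'
      have : t' = t⁻¹ := by
        rw [eq_comm, inv_eq_iff_mul_eq_one]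
        exact h.symm
      rw [this, htinv]
  have heq : (({1, t, t', t * t'} : Finset L) : Set L) = {y : L | y ∈ Q ∧ y ^ 2 = 1} := by
    apply Set.eq_of_subset_of_ncard_le hsub _ hfin
    rw [hΩ, Set.ncard_coe_finset, hcard]
  intro y hy hy2
  have : y ∈ (({1, t, t', t * t'} : Finset L) : Set L) := by
    rw [heq]
    exact ⟨hy, hy2⟩
  simpa using this

theorem hc_no_fixed_invol (Q : Subgroup L) (hab : ∀ x ∈ Q, ∀ y ∈ Q, x * y = y * x)
    (h2 : ∀ y ∈ Q, ∃ r : ℕ, orderOf y = 2 ^ r)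
    (hΩ : Set.ncard {y : L | y ∈ Q ∧ y ^ 2 = 1} = 4)
    (g : L) (hg : ∀ y ∈ Q, g * y * g⁻¹ ∈ Q) (k : ℕ) (hk : Odd k)
    (hgk : ∀ y ∈ Q, g ^ k * y * (g ^ k)⁻¹ = y)
    (hnc : ∃ y ∈ Q, g * y * g⁻¹ ≠ y) :
    ∀ t ∈ Q, t ≠ 1 → t ^ 2 = 1 → g * t * g⁻¹ ≠ t := by
  intro t ht ht1 ht2 hfixt
  have hex : ∃ t' ∈ Q, t' ^ 2 = 1 ∧ g * t' * g⁻¹ ≠ t' := by
    by_contra h
    push Not at h
    obtain ⟨y, hy, hne⟩ := hnc
    exact hne (hc_cent_of_fix_invol Q hab h2 g hg k hk hgk (fun t ht ht2 => h t ht ht2) y hy)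
  obtain ⟨t', ht', ht'2, hne'⟩ := hex
  have ht'1 : t' ≠ 1 := by
    intro h
    apply hne'
    rw [h]
    group
  have htt' : t ≠ t' := by
    intro h
    apply hne'
    rw [← h]
    exact hfixt
  have hom := hc_omega_eq Q hΩ t t' ht ht' ht1 ht'1 htt' ht2 ht'2 (hab t ht t' ht')
  have ht''Q : g * t' * g⁻¹ ∈ Q := hg t' ht'
  have ht''2 : (g * t' * g⁻¹) ^ 2 = 1 := by
    rw [conj_pow, ht'2]
    group
  have ht'' : g * t' * g⁻¹ = t * t' := by
    rcases hom _ ht''Q ht''2 with h | h | h | h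
    · exfalso
      apply ht'1
      have : t' = g⁻¹ * (g * t' * g⁻¹) * g := by group
      rw [this, h]
      group
    · exfalso
      apply htt'
      have h3 : g * t' * g⁻¹ = g * t * g⁻¹ := by rw [h, hfixt]
      have : t' = g⁻¹ * (g * t' * g⁻¹) * g := by group
      rw [this, h3]
      group
    · exact absurd h hne'
    · exact h
  have hgtt' : g * (t * t') * g⁻¹ = t' := by
    have : g * (t * t') * g⁻¹ = (g * t * g⁻¹) * (g * t' * g⁻¹) := by group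
    rw [this, hfixt, ht'', ← mul_assoc, ← pow_two, ht2, one_mul]
  have hg2 : ∀ y ∈ Q, g ^ 2 * y * (g ^ 2)⁻¹ ∈ Q := by
    intro y hy
    have : g ^ 2 * y * (g ^ 2)⁻¹ = g * (g * y * g⁻¹) * g⁻¹ := by
      rw [pow_two, mul_inv_rev]
      simp only [mul_assoc]
    rw [this]
    exact hg _ (hg y hy)
  have hg2k : ∀ y ∈ Q, (g ^ 2) ^ k * y * ((g ^ 2) ^ k)⁻¹ = y := by
    intro y hy
    have : (g ^ 2) ^ k * y * ((g ^ 2) ^ k)⁻¹ = g ^ k * (g ^ k * y * (g ^ k)⁻¹) * (g ^ k)⁻¹ := by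
      rw [← pow_mul, mul_comm 2 k, pow_mul]
      group
    rw [this, hgk y hy, hgk y hy]
  have hg2fix : ∀ s ∈ Q, s ^ 2 = 1 → g ^ 2 * s * (g ^ 2)⁻¹ = s := by
    intro s hs hs2
    have hexp : g ^ 2 * s * (g ^ 2)⁻¹ = g * (g * s * g⁻¹) * g⁻¹ := by
      rw [pow_two, mul_inv_rev]
      simp only [mul_assoc]
    rw [hexp]
    rcases hom s hs hs2 with h | h | h | h
    · rw [h]; group
    · rw [h, hfixt, hfixt]
    · rw [h, ht'', hgtt']
    · rw [h, hgtt', ht'']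
  have hcent2 := hc_cent_of_fix_invol Q hab h2 (g ^ 2) hg2 k hk hg2k hg2fix
  obtain ⟨y, hy, hney⟩ := hnc
  apply hney
  obtain ⟨j, hj⟩ := hk
  have c1 : Commute (g ^ 2) y := (hc_conj_iff_commute _ _).mp (hcent2 y hy)
  have c2 : Commute (g ^ k) y := (hc_conj_iff_commute _ _).mp (hgk y hy)
  have c3 : Commute ((g ^ 2) ^ j) y := c1.pow_left j
  rw [hc_conj_iff_commute]
  have hgk' : g ^ k = (g ^ 2) ^ j * g := by
    rw [hj, pow_succ, pow_mul]
  rw [hgk'] at c2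
  have h4 : (g ^ 2) ^ j * g * y = (g ^ 2) ^ j * (y * g) := by
    rw [c2.eq, ← mul_assoc, ← c3.eq, mul_assoc]
  have h5 : (g ^ 2) ^ j * (g * y) = (g ^ 2) ^ j * (y * g) := by
    rw [← mul_assoc]
    exact h4
  exact mul_left_cancel h5

theorem hc_fpf (Q : Subgroup L) (hab : ∀ x ∈ Q, ∀ y ∈ Q, x * y = y * x)
    (h2 : ∀ y ∈ Q, ∃ r : ℕ, orderOf y = 2 ^ r)
    (hΩ : Set.ncard {y : L | y ∈ Q ∧ y ^ 2 = 1} = 4)
    (g : L) (hg : ∀ y ∈ Q, g * y * g⁻¹ ∈ Q) (k : ℕ) (hk : Odd k)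
    (hgk : ∀ y ∈ Q, g ^ k * y * (g ^ k)⁻¹ = y)
    (hnc : ∃ y ∈ Q, g * y * g⁻¹ ≠ y) :
    ∀ y ∈ Q, y ≠ 1 → g * y * g⁻¹ ≠ y := by
  intro y hy hy1 hfix
  obtain ⟨r, hr⟩ := h2 y hy
  have hr1 : 1 ≤ r := by
    by_contra h
    have : r = 0 := by omega
    rw [this, pow_zero, orderOf_eq_one_iff] at hr
    exact hy1 hr
  have ht2 : (y ^ 2 ^ (r - 1)) ^ 2 = 1 := by
    rw [← pow_mul, ← pow_succ, Nat.sub_add_cancel hr1, ← hr, pow_orderOf_eq_one]
  have ht1 : y ^ 2 ^ (r - 1) ≠ 1 := by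
    intro h
    have := orderOf_dvd_of_pow_eq_one h
    rw [hr, Nat.pow_dvd_pow_iff_le_right (by norm_num)] at this
    omega
  apply hc_no_fixed_invol Q hab h2 hΩ g hg k hk hgk hnc _ (Q.pow_mem hy _) ht1 ht2
  rw [← conj_pow, hfix]

end
end Cfsg.Agent.Lib.Helper24
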