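import Mathlib
import Cfsg.Agent.Lib.Helper24.HC2

set_option autoImplicit false
set_option linter.style.haveILetI false
set_option linter.unusedVariables false
set_option maxHeartbeats 1600000

namespace Cfsg.Agent.Lib.Helper24

section
variable {L : Type*} [Group L]

theorem hc_mem_cent_iff (Q : Subgroup L) (x : L) :
    x ∈ Subgroup.centralizer (Q : Set L) ↔ ∀ y ∈ Q, x * y * x⁻¹ = y := by
  rw [Subgroup.mem_centralizer_iff]
  constructor
  · intro h y hy
    rw [mul_inv_eq_iff_eq_mul]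
    exact (h y hy).symm
  · intro h y hy
    have := h y hy
    rw [mul_inv_eq_iff_eq_mul] at this
    exact this.symm

theorem hc_mem_norm (Q : Subgroup L) (x : L) (hx : x ∈ Subgroup.normalizer (Q : Set L)) :
    ∀ y ∈ Q, x * y * x⁻¹ ∈ Q := by
  intro y hy
  exact (Subgroup.mem_normalizer_iff.mp hx y).mp hy

theorem hc_exists_invol (Q : Subgroup L)
    (hΩ : Set.ncard {y : L | y ∈ Q ∧ y ^ 2 = 1} = 4) : ∃ t ∈ Q, t ≠ 1 ∧ t ^ 2 = 1 := by
  by_contra h
  push Not at h
  have hsub : {y : L | y ∈ Q ∧ y ^ 2 = 1} ⊆ {1} := by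
    intro y hy
    by_contra hne
    exact h y hy.1 hne hy.2
  have := Set.ncard_le_ncard hsub (Set.finite_singleton 1)
  rw [hΩ, Set.ncard_singleton] at this
  omega

theorem hc_relIndex (Q : Subgroup L) (hab : ∀ x ∈ Q, ∀ y ∈ Q, x * y = y * x)
    (h2 : ∀ y ∈ Q, ∃ r : ℕ, orderOf y = 2 ^ r)
    (hΩ : Set.ncard {y : L | y ∈ Q ∧ y ^ 2 = 1} = 4)
    (k : ℕ) (hk : Odd k)
    (hNk : ∀ x ∈ Subgroup.normalizer (Q : Set L), x ^ k ∈ Subgroup.centralizer (Q : Set L)) :
    (Subgroup.centralizer (Q : Set L)).relIndex (Subgroup.normalizer (Q : Set L)) = 1 ∨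
    (Subgroup.centralizer (Q : Set L)).relIndex (Subgroup.normalizer (Q : Set L)) = 3 := by
  by_cases hNC : Subgroup.normalizer (Q : Set L) ≤ Subgroup.centralizer (Q : Set L)
  · left
    exact Subgroup.relIndex_eq_one.mpr hNC
  right
  obtain ⟨g, hgN, hgC⟩ := SetLike.not_le_iff_exists.mp hNC
  have hyp : ∀ x ∈ Subgroup.normalizer (Q : Set L), x ∉ Subgroup.centralizer (Q : Set L) →
      ∀ t ∈ Q, t ≠ 1 → t ^ 2 = 1 → x * t * x⁻¹ ≠ t := by
    intro x hxN hxC
    apply hc_no_fixed_invol Q hab h2 hΩ x (hc_mem_norm Q x hxN) k hk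
    · exact (hc_mem_cent_iff Q _).mp (hNk x hxN)
    · rw [hc_mem_cent_iff] at hxC
      push Not at hxC
      exact hxC
  have hfixC : ∀ x ∈ Subgroup.normalizer (Q : Set L), ∀ t ∈ Q, t ≠ 1 → t ^ 2 = 1 →
      x * t * x⁻¹ = t → x ∈ Subgroup.centralizer (Q : Set L) := by
    intro x hxN t ht ht1 ht2 hfix
    by_contra hxC
    exact hyp x hxN hxC t ht ht1 ht2 hfix
  obtain ⟨j, hj⟩ := hk
  have hg2C : g ^ 2 ∉ Subgroup.centralizer (Q : Set L) := by
    intro h
    apply hgC
    have h1 := hNk g hgN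
    rw [hj, pow_succ, pow_mul] at h1
    have h3 := (Subgroup.centralizer (Q : Set L)).mul_mem
      ((Subgroup.centralizer (Q : Set L)).inv_mem
        ((Subgroup.centralizer (Q : Set L)).pow_mem h j)) h1
    simpa using h3
  have hg2N : g ^ 2 ∈ Subgroup.normalizer (Q : Set L) :=
    (Subgroup.normalizer (Q : Set L)).pow_mem hgN 2
  obtain ⟨t, ht, ht1, ht2⟩ := hc_exists_invol Q hΩ
  have hconj_mem : ∀ x ∈ Subgroup.normalizer (Q : Set L), x * t * x⁻¹ ∈ Q ∧
      x * t * x⁻¹ ≠ 1 ∧ (x * t * x⁻¹) ^ 2 = 1 := by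
    intro x hxN
    refine ⟨hc_mem_norm Q x hxN t ht, ?_, ?_⟩
    · intro h
      apply ht1
      have : t = x⁻¹ * (x * t * x⁻¹) * x := by group
      rw [this, h]
      group
    · rw [conj_pow, ht2]
      group
  obtain ⟨h1Q, h11, h12⟩ := hconj_mem g hgN
  obtain ⟨h2Q, h21, h22⟩ := hconj_mem (g ^ 2) hg2N
  have hne1 : t ≠ g * t * g⁻¹ := fun h => hyp g hgN hgC t ht ht1 ht2 h.symm
  have hom := hc_omega_eq Q hΩ t (g * t * g⁻¹) ht h1Q ht1 h11 hne1 ht2 h12 (hab _ ht _ h1Q)
  have ht2eq : g ^ 2 * t * (g ^ 2)⁻¹ = t * (g * t * g⁻¹) := by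
    rcases hom _ h2Q h22 with h | h | h | h
    · exact absurd h h21
    · exact absurd h (hyp (g ^ 2) hg2N hg2C t ht ht1 ht2)
    · exfalso
      apply hne1
      have h3 : g * (g * t * g⁻¹) * g⁻¹ = g * t * g⁻¹ := by
        have e : g * (g * t * g⁻¹) * g⁻¹ = g ^ 2 * t * (g ^ 2)⁻¹ := by
          rw [pow_two, mul_inv_rev]
          simp only [mul_assoc]
        rw [e, h]
      have : g * t * g⁻¹ = g⁻¹ * (g * (g * t * g⁻¹) * g⁻¹) * g := by group
      rw [this, h3]
      group
    · exact h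
  have hcover : ∀ x ∈ Subgroup.normalizer (Q : Set L),
      x ∈ Subgroup.centralizer (Q : Set L) ∨ g⁻¹ * x ∈ Subgroup.centralizer (Q : Set L) ∨
      (g ^ 2)⁻¹ * x ∈ Subgroup.centralizer (Q : Set L) := by
    intro x hxN
    obtain ⟨hxQ, hx1, hx2⟩ := hconj_mem x hxN
    rcases hom _ hxQ hx2 with h | h | h | h
    · exact absurd h hx1
    · left
      exact hfixC x hxN t ht ht1 ht2 h
    · right; left
      apply hfixC (g⁻¹ * x) ((Subgroup.normalizer (Q : Set L)).mul_mem
        ((Subgroup.normalizer (Q : Set L)).inv_mem hgN) hxN) t ht ht1 ht2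
      have : g⁻¹ * x * t * (g⁻¹ * x)⁻¹ = g⁻¹ * (x * t * x⁻¹) * g := by group
      rw [this, h]
      group
    · right; right
      apply hfixC ((g ^ 2)⁻¹ * x) ((Subgroup.normalizer (Q : Set L)).mul_mem
        ((Subgroup.normalizer (Q : Set L)).inv_mem hg2N) hxN) t ht ht1 ht2
      have : (g ^ 2)⁻¹ * x * t * ((g ^ 2)⁻¹ * x)⁻¹ = (g ^ 2)⁻¹ * (x * t * x⁻¹) * (g ^ 2) := by
        group
      rw [this, h, ← ht2eq]
      group
  unfold Subgroup.relIndex Subgroup.index
  let f : Fin 3 → (Subgroup.normalizer (Q : Set L)) ⧸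
      (Subgroup.centralizer (Q : Set L)).subgroupOf (Subgroup.normalizer (Q : Set L)) :=
    fun i => QuotientGroup.mk ⟨g ^ (i : ℕ), (Subgroup.normalizer (Q : Set L)).pow_mem hgN _⟩
  have hf : Function.Bijective f := by
    constructor
    · intro a b hab'
      have h1 := QuotientGroup.eq.mp hab'
      rw [Subgroup.mem_subgroupOf] at h1
      simp only [Subgroup.coe_mul, InvMemClass.coe_inv] at h1
      fin_cases a <;> fin_cases b <;> simp at h1 ⊢ <;>
        first
        | exact absurd h1 hgC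
        | exact absurd h1 hg2C
        | (apply hgC
           have e : g⁻¹ * g ^ 2 = g := by group
           rw [e] at h1
           exact h1)
        | (apply hgC
           have h3 := (Subgroup.centralizer (Q : Set L)).inv_mem h1
           have e : ((g ^ 2)⁻¹ * g)⁻¹ = g := by group
           rw [e] at h3
           exact h3)
    · intro q
      induction q using QuotientGroup.induction_on with
      | H x =>
        obtain ⟨x, hxN⟩ := x
        rcases hcover x hxN with h | h | h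
        · refine ⟨0, ?_⟩
          apply QuotientGroup.eq.mpr
          rw [Subgroup.mem_subgroupOf]
          simpa using h
        · refine ⟨1, ?_⟩
          apply QuotientGroup.eq.mpr
          rw [Subgroup.mem_subgroupOf]
          simpa using h
        · refine ⟨2, ?_⟩
          apply QuotientGroup.eq.mpr
          rw [Subgroup.mem_subgroupOf]
          simpa using h
  rw [← Nat.card_eq_of_bijective f hf]
  simp

end
end Cfsg.Agent.Lib.Helper24
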