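import Mathlib
import Cfsg.Agent.Lib.Helper24.HC3

set_option autoImplicit false
set_option linter.style.haveILetI false
set_option linter.unusedVariables false
set_option maxHeartbeats 1600000

namespace Cfsg.Agent.Lib.Helper24

section
variable {L : Type*} [Group L]

theorem hc_card_mod3 (R : Subgroup L) [Finite R] (g : L) (hgR : ∀ y ∈ R, g * y * g⁻¹ ∈ R)
    (hg3 : ∀ y ∈ R, g ^ 3 * y * (g ^ 3)⁻¹ = y) (hfpf : ∀ y ∈ R, y ≠ 1 → g * y * g⁻¹ ≠ y) :
    Nat.card R ≡ 1 [MOD 3] := by
  classical
  haveI : Fintype R := Fintype.ofFinite R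
  haveI : Fact (Nat.Prime 3) := ⟨by norm_num⟩
  let f : Function.End R := fun y => ⟨g * y * g⁻¹, hgR y y.2⟩
  have hf3 : f ^ 3 ^ 1 = 1 := by
    rw [pow_one]
    funext y
    apply Subtype.ext
    show g * (g * (g * (y : L) * g⁻¹) * g⁻¹) * g⁻¹ = y
    have e : g * (g * (g * (y : L) * g⁻¹) * g⁻¹) * g⁻¹ = g ^ 3 * (y : L) * (g ^ 3)⁻¹ := by
      rw [pow_succ, pow_two, mul_inv_rev, mul_inv_rev]
      simp only [mul_assoc]
    rw [e, hg3 y y.2]
  have h := Equiv.Perm.card_fixedPoints_modEq (p := 3) (n := 1) hf3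
  rw [Nat.card_eq_fintype_card]
  refine h.trans ?_
  have hfix : Function.fixedPoints f = {1} := by
    ext y
    simp only [Set.mem_singleton_iff]
    show f y = y ↔ y = 1
    constructor
    · intro hy
      by_contra hne
      apply hfpf y y.2 (fun h => hne (Subtype.ext h))
      exact congrArg Subtype.val hy
    · intro hy
      subst hy
      apply Subtype.ext
      show g * 1 * g⁻¹ = 1
      group
  have : Fintype.card (Function.fixedPoints f) = 1 := by
    rw [Fintype.card_eq_one_iff]
    refine ⟨⟨1, by rw [hfix]; rfl⟩, ?_⟩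
    intro y
    apply Subtype.ext
    have hy : (y : R) ∈ ({1} : Set R) := by
      rw [← hfix]
      exact y.2
    exact hy
  rw [this]

theorem hc_npc [Finite L] (Q : Sylow 2 L)
    (hNC : Subgroup.normalizer ((Q : Subgroup L) : Set L) ≤
      Subgroup.centralizer ((Q : Subgroup L) : Set L)) :
    ∃ T : Subgroup L, T.Normal ∧ Odd (Nat.card T) ∧ Nat.card T * Nat.card Q = Nat.card L := by
  haveI : Fact (Nat.Prime 2) := ⟨Nat.prime_two⟩
  have hc := MonoidHom.ker_transferSylow_isComplement' Q hNC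
  refine ⟨(MonoidHom.transferSylow Q hNC).ker, inferInstance, ?_, hc.card_mul⟩
  have h1 := hc.card_mul
  have h2 := (Q : Subgroup L).card_mul_index
  have h3 : Nat.card (MonoidHom.transferSylow Q hNC).ker = (Q : Subgroup L).index := by
    have hpos : 0 < Nat.card (Q : Subgroup L) := Nat.card_pos
    have : Nat.card (MonoidHom.transferSylow Q hNC).ker * Nat.card (Q : Subgroup L) =
        (Q : Subgroup L).index * Nat.card (Q : Subgroup L) := by
      rw [h1, mul_comm, h2]
    exact Nat.eq_of_mul_eq_mul_right hpos this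
  rw [h3]
  have := Q.not_dvd_index
  exact Nat.odd_iff.mpr (Nat.two_dvd_ne_zero.mp this)

end
end Cfsg.Agent.Lib.Helper24
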