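import Mathlib
import Cfsg.Agent.Lib.Helper24.DH1
import Cfsg.Agent.Lib.Helper24.AF3Group
import Cfsg.Agent.Lib.Helper24.HC4

set_option autoImplicit false
set_option linter.style.haveILetI false
set_option linter.unusedSectionVars false
set_option linter.unusedVariables false
set_option maxHeartbeats 1600000

namespace Cfsg.Agent.Lib.Helper24

variable {G : Type*} [Group G]

theorem dh_conj_mul (c a b : G) : c * (a * b) * c⁻¹ = (c * a * c⁻¹) * (c * b * c⁻¹) := by group

theorem dh_conj_into [Finite G] {m : ℕ} [NeZero m] (hm : 3 ≤ m) (P : Sylow 2 G)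
    (e : (P : Subgroup G) ≃* DihedralGroup m) (σ : G) (hσ : σ ∈ (P : Subgroup G))
    (hσo : orderOf σ = m)
    (T : Subgroup G) (hT : IsPGroup 2 T) (x : G) (hxT : x ∈ T) (hx2 : x * x ≠ 1)
    (hc : ∀ t ∈ T, t * x = x * t) :
    ∃ c : G, ∀ t ∈ T, c * t * c⁻¹ ∈ Subgroup.zpowers σ := by
  haveI : Fact (Nat.Prime 2) := ⟨Nat.prime_two⟩
  obtain ⟨c, hcP⟩ := af3_conj_le_sylow 2 T hT P
  refine ⟨c, ?_⟩
  have hx' : c * x * c⁻¹ ∈ Subgroup.zpowers σ := by
    apply dh_sq_ne_one_mem hm (P : Subgroup G) e σ hσ hσo _ (hcP x hxT)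
    intro h
    apply hx2
    rw [← dh_conj_mul] at h
    have h2 : x * x = c⁻¹ * (c * (x * x) * c⁻¹) * c := by group
    rw [h2, h]
    group
  intro t ht
  apply dh_cent_rot hm (P : Subgroup G) e σ hσ hσo (c * x * c⁻¹) hx' ?_ _ (hcP t ht)
  · rw [← dh_conj_mul, ← dh_conj_mul, hc t ht]
  · intro h
    apply hx2
    rw [← dh_conj_mul] at h
    have h2 : x * x = c⁻¹ * (c * (x * x) * c⁻¹) * c := by group
    rw [h2, h]
    group

theorem dh_zpowers_le_cent (σ x : G) (hx : x ∈ Subgroup.zpowers σ) :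
    Subgroup.zpowers σ ≤ Subgroup.centralizer ({x} : Set G) := by
  intro y hy
  rw [Subgroup.mem_centralizer_singleton_iff]
  rw [Subgroup.mem_zpowers_iff] at hx hy
  obtain ⟨a, rfl⟩ := hx
  obtain ⟨b, rfl⟩ := hy
  rw [← zpow_add, ← zpow_add, add_comm]

theorem dh_cent_sylow [Finite G] {m : ℕ} [NeZero m] (hm : 3 ≤ m) (P : Sylow 2 G)
    (e : (P : Subgroup G) ≃* DihedralGroup m) (σ : G) (hσ : σ ∈ (P : Subgroup G))
    (hσo : orderOf σ = m) (x : G) (hx : x ∈ Subgroup.zpowers σ) (hx2 : x * x ≠ 1)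
    (Q : Sylow 2 (Subgroup.centralizer ({x} : Set G))) :
    IsCyclic (Q : Subgroup (Subgroup.centralizer ({x} : Set G))) ∧
      Nat.card (Q : Subgroup (Subgroup.centralizer ({x} : Set G))) = m := by
  haveI : Fact (Nat.Prime 2) := ⟨Nat.prime_two⟩
  obtain ⟨L, hL⟩ : ∃ L : Subgroup G, L = Subgroup.centralizer ({x} : Set G) := ⟨_, rfl⟩
  subst hL
  have hxP : x ∈ (P : Subgroup G) := by
    have : Subgroup.zpowers σ ≤ (P : Subgroup G) := by
      rw [Subgroup.zpowers_le]
      exact hσ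
    exact this hx
  have hxL : x ∈ Subgroup.centralizer ({x} : Set G) :=
    Subgroup.mem_centralizer_singleton_iff.mpr rfl
  have hcen : ∀ g : Subgroup.centralizer ({x} : Set G),
      g * ⟨x, hxL⟩ = ⟨x, hxL⟩ * g := by
    intro g
    apply Subtype.ext
    have := Subgroup.mem_centralizer_singleton_iff.mp g.2
    simpa using this
  haveI hnorm : (Subgroup.zpowers (⟨x, hxL⟩ : Subgroup.centralizer ({x} : Set G))).Normal := by
    constructor
    intro n hn g
    rw [Subgroup.mem_zpowers_iff] at hn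
    obtain ⟨k, rfl⟩ := hn
    have hcomm : Commute g (⟨x, hxL⟩ : Subgroup.centralizer ({x} : Set G)) := hcen g
    have : g * (⟨x, hxL⟩ : Subgroup.centralizer ({x} : Set G)) ^ k * g⁻¹ =
        (⟨x, hxL⟩ : Subgroup.centralizer ({x} : Set G)) ^ k := by
      rw [(hcomm.zpow_right k).eq, mul_assoc, mul_inv_cancel, mul_one]
    rw [this]
    exact Subgroup.zpow_mem _ (Subgroup.mem_zpowers _) k
  have hxpg : IsPGroup 2 (Subgroup.zpowers (⟨x, hxL⟩ : Subgroup.centralizer ({x} : Set G))) := by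
    obtain ⟨k, hk⟩ := (IsPGroup.iff_orderOf.mp P.isPGroup') ⟨x, hxP⟩
    apply IsPGroup.of_card (n := k)
    rw [Nat.card_zpowers, ← hk]
    rw [Subgroup.orderOf_mk, Subgroup.orderOf_mk]
  have hxQ : (⟨x, hxL⟩ : Subgroup.centralizer ({x} : Set G)) ∈
      (Q : Subgroup (Subgroup.centralizer ({x} : Set G))) :=
    (hxpg.le_sylow_of_normal Q) (Subgroup.mem_zpowers _)
  obtain ⟨T, hTdef⟩ : ∃ T : Subgroup G, T = (Q : Subgroup (Subgroup.centralizer ({x} : Set G))).map
      (Subgroup.centralizer ({x} : Set G)).subtype := ⟨_, rfl⟩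
  have hTp : IsPGroup 2 T := by
    rw [hTdef]
    exact Q.isPGroup'.map _
  have hxT : x ∈ T := by
    rw [hTdef]
    exact ⟨⟨x, hxL⟩, hxQ, rfl⟩
  have hTc : ∀ t ∈ T, t * x = x * t := by
    intro t ht
    rw [hTdef] at ht
    obtain ⟨q, -, rfl⟩ := ht
    exact Subgroup.mem_centralizer_singleton_iff.mp q.2
  obtain ⟨c, hcT⟩ := dh_conj_into hm P e σ hσ hσo T hTp x hxT hx2 hTc
  have hqT : ∀ q : (Q : Subgroup (Subgroup.centralizer ({x} : Set G))), ((q : Subgroup.centralizer ({x} : Set G)) : G) ∈ T := by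
    intro q
    rw [hTdef]
    exact ⟨q.1, q.2, rfl⟩
  obtain ⟨f, hf⟩ : ∃ f : (Q : Subgroup (Subgroup.centralizer ({x} : Set G))) →* Subgroup.zpowers σ,
      ∀ q, ((f q : Subgroup.zpowers σ) : G) = c * ((q : Subgroup.centralizer ({x} : Set G)) : G) * c⁻¹ := by
    refine ⟨{ toFun := fun q => ⟨c * ((q : Subgroup.centralizer ({x} : Set G)) : G) * c⁻¹, hcT _ (hqT q)⟩
              map_one' := ?_
              map_mul' := ?_ }, fun q => rfl⟩
    · apply Subtype.ext
      simp
    · intro a b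
      apply Subtype.ext
      simp only [Subgroup.coe_mul]
      exact dh_conj_mul c _ _
  have hfinj : Function.Injective f := by
    intro a b hab
    have h1 := congrArg Subtype.val hab
    rw [hf, hf] at h1
    have h2 : ((a : Subgroup.centralizer ({x} : Set G)) : G) = ((b : Subgroup.centralizer ({x} : Set G)) : G) := by
      have := congrArg (fun y => c⁻¹ * y * c) h1
      simpa [mul_assoc] using this
    exact Subtype.ext (Subtype.ext h2)
  have hcyc : IsCyclic (Q : Subgroup (Subgroup.centralizer ({x} : Set G))) :=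
    isCyclic_of_injective f hfinj
  refine ⟨hcyc, le_antisymm ?_ ?_⟩
  · have := Nat.card_le_card_of_injective f hfinj
    rwa [Nat.card_zpowers, hσo] at this
  · have hle : Subgroup.zpowers σ ≤ Subgroup.centralizer ({x} : Set G) := dh_zpowers_le_cent σ x hx
    have hpg : IsPGroup 2 ((Subgroup.zpowers σ).subgroupOf (Subgroup.centralizer ({x} : Set G))) := by
      have h1 : IsPGroup 2 (Subgroup.zpowers σ) := by
        apply P.isPGroup'.to_le
        rw [Subgroup.zpowers_le]
        exact hσ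
      exact h1.comap_of_injective _ (Subgroup.subtype_injective _)
    obtain ⟨Q', hQ'⟩ := hpg.exists_le_sylow
    have h1 : Nat.card ((Subgroup.zpowers σ).subgroupOf (Subgroup.centralizer ({x} : Set G))) = m := by
      rw [Nat.card_congr (Subgroup.subgroupOfEquivOfLe hle).toEquiv, Nat.card_zpowers, hσo]
    have h2 := Subgroup.card_le_of_le hQ'
    rw [h1] at h2
    have h3 : Nat.card (Q' : Subgroup (Subgroup.centralizer ({x} : Set G))) =
        Nat.card (Q : Subgroup (Subgroup.centralizer ({x} : Set G))) := by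
      rw [Sylow.card_eq_multiplicity, Sylow.card_eq_multiplicity]
    omega

theorem dh_cent_npc [Finite G] {m : ℕ} [NeZero m] (hm : 3 ≤ m) (P : Sylow 2 G)
    (e : (P : Subgroup G) ≃* DihedralGroup m) (σ : G) (hσ : σ ∈ (P : Subgroup G))
    (hσo : orderOf σ = m) (x : G) (hx : x ∈ Subgroup.zpowers σ) (hx2 : x * x ≠ 1) :
    ∃ K : Subgroup (Subgroup.centralizer ({x} : Set G)), K.Normal ∧ Odd (Nat.card K) ∧
      Nat.card K * m = Nat.card (Subgroup.centralizer ({x} : Set G)) := by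
  haveI : Fact (Nat.Prime 2) := ⟨Nat.prime_two⟩
  obtain ⟨Q⟩ : Nonempty (Sylow 2 (Subgroup.centralizer ({x} : Set G))) := inferInstance
  obtain ⟨hcyc, hcard⟩ := dh_cent_sylow hm P e σ hσ hσo x hx hx2 Q
  have h2m : 2 ∣ m := by
    obtain ⟨k, hk⟩ := Q.isPGroup'.exists_card_eq
    rw [hcard] at hk
    rcases Nat.eq_zero_or_pos k with h0 | h0
    · rw [h0, pow_zero] at hk
      omega
    · rw [hk]
      exact dvd_pow_self 2 h0.ne'
  have hmin : (Nat.card (Subgroup.centralizer ({x} : Set G))).minFac = 2 := by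
    rw [Nat.minFac_eq_two_iff]
    have := (Q : Subgroup (Subgroup.centralizer ({x} : Set G))).card_subgroup_dvd_card
    rw [hcard] at this
    exact h2m.trans this
  have hNC := IsCyclic.normalizer_le_centralizer hmin hcyc
  obtain ⟨K, hKn, hKo, hKc⟩ := hc_npc Q hNC
  exact ⟨K, hKn, hKo, by rw [← hcard]; exact hKc⟩

end Cfsg.Agent.Lib.Helper24
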