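import Mathlib
import Cfsg.Agent.Lib.Helper24.DH2
import Cfsg.Agent.Lib.Helper24.HC1
import Cfsg.Agent.Lib.helper7.SecondMain
import Cfsg.Agent.Lib.helper7.Q8Cent

set_option autoImplicit false
set_option linter.style.haveILetI false
set_option linter.unusedSectionVars false
set_option linter.unusedVariables false
set_option maxHeartbeats 1600000

namespace Cfsg.Agent.Lib.Helper24

open Cfsg.Agent.Lib.helper7

variable {G : Type*} [Group G]

theorem dh_unique_invol [Finite G] (σ a b : G) (ha : a ∈ Subgroup.zpowers σ)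
    (hb : b ∈ Subgroup.zpowers σ) (ha2 : a * a = 1) (hb2 : b * b = 1) (ha1 : a ≠ 1) (hb1 : b ≠ 1) :
    a = b := by
  classical
  by_contra hab
  haveI : Fintype (Subgroup.zpowers σ) := Fintype.ofFinite _
  have h := IsCyclic.card_pow_eq_one_le (α := Subgroup.zpowers σ) (n := 2) (by norm_num)
  have hsub : ({(1 : Subgroup.zpowers σ), ⟨a, ha⟩, ⟨b, hb⟩} : Finset (Subgroup.zpowers σ)) ⊆
      Finset.univ.filter (fun x : Subgroup.zpowers σ => x ^ 2 = 1) := by
    intro x hx
    simp only [Finset.mem_insert, Finset.mem_singleton] at hx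
    simp only [Finset.mem_filter, Finset.mem_univ, true_and]
    rcases hx with rfl | rfl | rfl
    · simp
    · apply Subtype.ext
      simp [pow_two, ha2]
    · apply Subtype.ext
      simp [pow_two, hb2]
  have hcard : ({(1 : Subgroup.zpowers σ), ⟨a, ha⟩, ⟨b, hb⟩} : Finset (Subgroup.zpowers σ)).card = 3 := by
    rw [Finset.card_insert_of_notMem, Finset.card_insert_of_notMem, Finset.card_singleton]
    · simp only [Finset.mem_singleton]
      intro h
      exact hab (congrArg Subtype.val h)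
    · simp only [Finset.mem_insert, Finset.mem_singleton]
      rintro (h | h)
      · exact ha1 (congrArg Subtype.val h).symm
      · exact hb1 (congrArg Subtype.val h).symm
  have := Finset.card_le_card hsub
  omega

theorem dh_conj_sq (w t : G) (h : t * t = 1) : (w * t * w⁻¹) * (w * t * w⁻¹) = 1 := by
  rw [← dh_conj_mul, h]
  group

theorem dh_odd_cent [Finite G] (σ : G) (hσ2 : ∀ y ∈ Subgroup.zpowers σ, ∃ r : ℕ, orderOf y = 2 ^ r)
    (w : G) (hw : ∀ y ∈ Subgroup.zpowers σ, w * y * w⁻¹ ∈ Subgroup.zpowers σ)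
    (hodd : Odd (orderOf w)) : ∀ y ∈ Subgroup.zpowers σ, w * y * w⁻¹ = y := by
  apply hc_cent_of_fix_invol (Subgroup.zpowers σ) ?_ hσ2 w hw (orderOf w) hodd
  · intro y hy
    rw [pow_orderOf_eq_one]
    group
  · intro t ht ht2
    rw [pow_two] at ht2
    by_cases ht1 : t = 1
    · rw [ht1]
      group
    · apply dh_unique_invol σ _ _ (hw t ht) ht (dh_conj_sq w t ht2) ht2 ?_ ht1
      intro h
      apply ht1
      have : t = w⁻¹ * (w * t * w⁻¹) * w := by group
      rw [this, h]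
      group
  · intro x hx y hy
    rw [Subgroup.mem_zpowers_iff] at hx hy
    obtain ⟨a, rfl⟩ := hx
    obtain ⟨b, rfl⟩ := hy
    rw [← zpow_add, ← zpow_add, add_comm]

theorem dh_two_elt_action [Finite G] {m : ℕ} [NeZero m] (hm : 3 ≤ m) (P : Sylow 2 G)
    (e : (P : Subgroup G) ≃* DihedralGroup m) (σ : G) (hσ : σ ∈ (P : Subgroup G))
    (hσo : orderOf σ = m) (v : G) (hv2 : ∃ k : ℕ, orderOf v = 2 ^ k)
    (hv : ∀ y ∈ Subgroup.zpowers σ, v * y * v⁻¹ ∈ Subgroup.zpowers σ) :
    v * σ * v⁻¹ = σ ∨ v * σ * v⁻¹ = σ⁻¹ := by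
  haveI : Fact (Nat.Prime 2) := ⟨Nat.prime_two⟩
  have hRP : Subgroup.zpowers σ ≤ (P : Subgroup G) := by
    rw [Subgroup.zpowers_le]
    exact hσ
  have hR2 : IsPGroup 2 (Subgroup.zpowers σ) := P.isPGroup'.to_le hRP
  have hV2 : IsPGroup 2 (Subgroup.zpowers v) := by
    obtain ⟨k, hk⟩ := hv2
    apply IsPGroup.of_card (n := k)
    rw [Nat.card_zpowers, hk]
  have hVN : Subgroup.zpowers v ≤ Subgroup.normalizer (Subgroup.zpowers σ : Set G) := by
    rw [Subgroup.zpowers_le]
    rw [Subgroup.mem_normalizer_iff]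
    intro y
    constructor
    · intro hy
      exact hv y hy
    · intro hy
      have hinj : Function.Injective (fun y : Subgroup.zpowers σ =>
          (⟨v * (y : G) * v⁻¹, hv y y.2⟩ : Subgroup.zpowers σ)) := by
        intro a b hab
        have h1 := congrArg Subtype.val hab
        simp only at h1
        apply Subtype.ext
        have := congrArg (fun z => v⁻¹ * z * v) h1
        simpa [mul_assoc] using this
      have hsurj := Finite.surjective_of_injective hinj
      obtain ⟨z, hz⟩ := hsurj ⟨v * y * v⁻¹, hy⟩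
      have h1 := congrArg Subtype.val hz
      simp only at h1
      have h2 : (z : G) = y := by
        have := congrArg (fun z => v⁻¹ * z * v) h1
        simpa [mul_assoc] using this
      rw [← h2]
      exact z.2
  have hT := IsPGroup.to_sup_of_normal_right' hV2 hR2 hVN
  obtain ⟨c, hc⟩ := af3_conj_le_sylow 2 _ hT P
  have hσT : σ ∈ Subgroup.zpowers v ⊔ Subgroup.zpowers σ :=
    (le_sup_right : Subgroup.zpowers σ ≤ _) (Subgroup.mem_zpowers σ)
  have hvT : v ∈ Subgroup.zpowers v ⊔ Subgroup.zpowers σ :=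
    (le_sup_left : Subgroup.zpowers v ≤ _) (Subgroup.mem_zpowers v)
  have hσσ : σ * σ ≠ 1 := by
    intro h
    have : orderOf σ ∣ 2 := by
      apply orderOf_dvd_of_pow_eq_one
      rw [pow_two, h]
    have := Nat.le_of_dvd (by norm_num) this
    omega
  have hσ'2 : (c * σ * c⁻¹) * (c * σ * c⁻¹) ≠ 1 := by
    intro h
    apply hσσ
    rw [← dh_conj_mul] at h
    have h2 : σ * σ = c⁻¹ * (c * (σ * σ) * c⁻¹) * c := by group
    rw [h2, h]
    group
  have hσ' : c * σ * c⁻¹ ∈ Subgroup.zpowers σ :=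
    dh_sq_ne_one_mem hm (P : Subgroup G) e σ hσ hσo _ (hc σ hσT) hσ'2
  obtain ⟨j, hj⟩ := Subgroup.mem_zpowers_iff.mp hσ'
  by_cases hv' : c * v * c⁻¹ ∈ Subgroup.zpowers σ
  · left
    obtain ⟨i, hi⟩ := Subgroup.mem_zpowers_iff.mp hv'
    have hcomm : (c * v * c⁻¹) * (c * σ * c⁻¹) = (c * σ * c⁻¹) * (c * v * c⁻¹) := by
      rw [← hi, ← hj, ← zpow_add, ← zpow_add, add_comm]
    rw [← dh_conj_mul, ← dh_conj_mul] at hcomm
    have h2 : v * σ = σ * v := by
      have := congrArg (fun z => c⁻¹ * z * c) hcomm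
      simpa [mul_assoc] using this
    rw [h2, mul_assoc, mul_inv_cancel, mul_one]
  · right
    obtain ⟨-, hinv⟩ := dh_nonrot hm (P : Subgroup G) e σ hσ hσo _ (hc v hvT) hv'
    have h1 := dh_conj_pow hinv j
    rw [hj] at h1
    have h3 : (c * v * c⁻¹) * (c * σ * c⁻¹) * (c * v * c⁻¹)⁻¹ = c * (v * σ * v⁻¹) * c⁻¹ := by group
    have h4 : (c * σ * c⁻¹)⁻¹ = c * σ⁻¹ * c⁻¹ := by group
    rw [h3, h4] at h1
    have := congrArg (fun z => c⁻¹ * z * c) h1
    simpa [mul_assoc] using this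

theorem dh_norm_action [Finite G] {m : ℕ} [NeZero m] (hm : 3 ≤ m) (P : Sylow 2 G)
    (e : (P : Subgroup G) ≃* DihedralGroup m) (σ : G) (hσ : σ ∈ (P : Subgroup G))
    (hσo : orderOf σ = m) (n : G)
    (hn : ∀ y ∈ Subgroup.zpowers σ, n * y * n⁻¹ ∈ Subgroup.zpowers σ) :
    n * σ * n⁻¹ = σ ∨ n * σ * n⁻¹ = σ⁻¹ := by
  haveI : Fact (Nat.Prime 2) := ⟨Nat.prime_two⟩
  obtain ⟨x, hx⟩ := h7_exists_isPPart 2 n
  have hxz : x ∈ Subgroup.zpowers n := by
    have := h7_ppart_mem_zpowers_pow 2 n x hx 1 (by norm_num)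
    rwa [pow_one] at this
  obtain ⟨y, hxy, hcomm, hx2, hy2⟩ := hx
  have hyz : y ∈ Subgroup.zpowers n := by
    have : y = x⁻¹ * n := by rw [← hxy]; group
    rw [this]
    exact Subgroup.mul_mem _ (Subgroup.inv_mem _ hxz) (Subgroup.mem_zpowers n)
  have hpow : ∀ k : ℤ, ∀ r ∈ Subgroup.zpowers σ, n ^ k * r * (n ^ k)⁻¹ ∈ Subgroup.zpowers σ := by
    have hnat : ∀ k : ℕ, ∀ r ∈ Subgroup.zpowers σ, n ^ k * r * (n ^ k)⁻¹ ∈ Subgroup.zpowers σ := by
      intro k
      induction k with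
      | zero => intro r hr; simpa using hr
      | succ k ih =>
        intro r hr
        have : n ^ (k + 1) * r * (n ^ (k + 1))⁻¹ = n * (n ^ k * r * (n ^ k)⁻¹) * n⁻¹ := by
          rw [pow_succ']
          group
        rw [this]
        exact hn _ (ih r hr)
    intro k r hr
    obtain ⟨j, hj⟩ : ∃ j : ℕ, n ^ k = n ^ j := by
      refine ⟨(k % (orderOf n : ℤ)).toNat, ?_⟩
      have hpos : 0 < orderOf n := orderOf_pos n
      have h1 : 0 ≤ k % (orderOf n : ℤ) := Int.emod_nonneg _ (by exact_mod_cast hpos.ne')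
      rw [← zpow_natCast, Int.toNat_of_nonneg h1, zpow_mod_orderOf]
    rw [hj]
    exact hnat j r hr
  have hxn : ∀ r ∈ Subgroup.zpowers σ, x * r * x⁻¹ ∈ Subgroup.zpowers σ := by
    obtain ⟨k, rfl⟩ := Subgroup.mem_zpowers_iff.mp hxz
    exact hpow k
  have hyn : ∀ r ∈ Subgroup.zpowers σ, y * r * y⁻¹ ∈ Subgroup.zpowers σ := by
    obtain ⟨k, rfl⟩ := Subgroup.mem_zpowers_iff.mp hyz
    exact hpow k
  have hRP : Subgroup.zpowers σ ≤ (P : Subgroup G) := by
    rw [Subgroup.zpowers_le]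
    exact hσ
  have hσ2 : ∀ r ∈ Subgroup.zpowers σ, ∃ k : ℕ, orderOf r = 2 ^ k := by
    intro r hr
    obtain ⟨k, hk⟩ := (IsPGroup.iff_orderOf.mp P.isPGroup') ⟨r, hRP hr⟩
    exact ⟨k, by rw [← hk, Subgroup.orderOf_mk]⟩
  have hyodd : Odd (orderOf y) := by
    rw [← Nat.not_even_iff_odd, even_iff_two_dvd]
    exact hy2
  have hyc := dh_odd_cent σ hσ2 y hyn hyodd σ (Subgroup.mem_zpowers σ)
  have hxa := dh_two_elt_action hm P e σ hσ hσo x hx2 hxn
  have key : n * σ * n⁻¹ = x * σ * x⁻¹ := by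
    rw [← hxy]
    have : x * y * σ * (x * y)⁻¹ = x * (y * σ * y⁻¹) * x⁻¹ := by group
    rw [this, hyc]
  rw [key]
  exact hxa

theorem dh_fusion [Finite G] {m : ℕ} [NeZero m] (hm : 3 ≤ m) (P : Sylow 2 G)
    (e : (P : Subgroup G) ≃* DihedralGroup m) (σ : G) (hσ : σ ∈ (P : Subgroup G))
    (hσo : orderOf σ = m) (u : G) (hu : u ∈ Subgroup.zpowers σ) (hu1 : u ≠ 1) (g : G)
    (hg : g * u * g⁻¹ ∈ Subgroup.zpowers σ) :
    ∃ n ∈ (P : Subgroup G), n * u * n⁻¹ = g * u * g⁻¹ := by
  haveI : Fact (Nat.Prime 2) := ⟨Nat.prime_two⟩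
  by_cases hu2 : u * u = 1
  · refine ⟨1, Subgroup.one_mem _, ?_⟩
    have h1 : g * u * g⁻¹ ≠ 1 := by
      intro h
      apply hu1
      have : u = g⁻¹ * (g * u * g⁻¹) * g := by group
      rw [this, h]
      group
    have := dh_unique_invol σ u (g * u * g⁻¹) hu hg hu2 (dh_conj_sq g u hu2) hu1 h1
    rw [← this]
    group
  · obtain ⟨v, hvdef⟩ : ∃ v, v = g * u * g⁻¹ := ⟨_, rfl⟩
    rw [← hvdef] at hg ⊢
    have hv2 : v * v ≠ 1 := by
      intro h
      apply hu2
      rw [hvdef, ← dh_conj_mul] at h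
      have h2 : u * u = g⁻¹ * (g * (u * u) * g⁻¹) * g := by group
      rw [h2, h]
      group
    have hle : Subgroup.zpowers σ ≤ Subgroup.centralizer ({v} : Set G) := dh_zpowers_le_cent σ v hg
    have hle' : (Subgroup.zpowers σ).map (MulAut.conj g).toMonoidHom ≤
        Subgroup.centralizer ({v} : Set G) := by
      rintro _ ⟨r, hr, rfl⟩
      rw [Subgroup.mem_centralizer_singleton_iff]
      have hru : r * u = u * r := by
        obtain ⟨a, rfl⟩ := Subgroup.mem_zpowers_iff.mp hu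
        obtain ⟨b, rfl⟩ := Subgroup.mem_zpowers_iff.mp hr
        rw [← zpow_add, ← zpow_add, add_comm]
      simp only [MulEquiv.coe_toMonoidHom, MulAut.conj_apply]
      rw [hvdef, ← dh_conj_mul, ← dh_conj_mul, hru]
    have hR2 : IsPGroup 2 (Subgroup.zpowers σ) := by
      apply P.isPGroup'.to_le
      rw [Subgroup.zpowers_le]
      exact hσ
    have hpg1 : IsPGroup 2 ((Subgroup.zpowers σ).subgroupOf (Subgroup.centralizer ({v} : Set G))) :=
      hR2.comap_of_injective _ (Subgroup.subtype_injective _)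
    have hpg2 : IsPGroup 2 (((Subgroup.zpowers σ).map (MulAut.conj g).toMonoidHom).subgroupOf
        (Subgroup.centralizer ({v} : Set G))) :=
      (hR2.map _).comap_of_injective _ (Subgroup.subtype_injective _)
    obtain ⟨Q1, hQ1⟩ := hpg1.exists_le_sylow
    obtain ⟨Q2, hQ2⟩ := hpg2.exists_le_sylow
    have hc1 := (dh_cent_sylow hm P e σ hσ hσo v hg hv2 Q1).2
    have hc2 := (dh_cent_sylow hm P e σ hσ hσo v hg hv2 Q2).2
    have hcard1 : Nat.card ((Subgroup.zpowers σ).subgroupOf (Subgroup.centralizer ({v} : Set G))) = m := by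
      rw [Nat.card_congr (Subgroup.subgroupOfEquivOfLe hle).toEquiv, Nat.card_zpowers, hσo]
    have hcard2 : Nat.card (((Subgroup.zpowers σ).map (MulAut.conj g).toMonoidHom).subgroupOf
        (Subgroup.centralizer ({v} : Set G))) = m := by
      rw [Nat.card_congr (Subgroup.subgroupOfEquivOfLe hle').toEquiv]
      rw [Nat.card_congr ((Subgroup.zpowers σ).equivMapOfInjective _ (MulAut.conj g).injective).symm.toEquiv,
        Nat.card_zpowers, hσo]
    have hQ1eq : ((Subgroup.zpowers σ).subgroupOf (Subgroup.centralizer ({v} : Set G))) =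
        (Q1 : Subgroup (Subgroup.centralizer ({v} : Set G))) := by
      apply Subgroup.eq_of_le_of_card_ge hQ1
      rw [hc1, hcard1]
    have hQ2eq : (((Subgroup.zpowers σ).map (MulAut.conj g).toMonoidHom).subgroupOf
        (Subgroup.centralizer ({v} : Set G))) =
        (Q2 : Subgroup (Subgroup.centralizer ({v} : Set G))) := by
      apply Subgroup.eq_of_le_of_card_ge hQ2
      rw [hc2, hcard2]
    obtain ⟨c, hcQ⟩ := MulAction.exists_smul_eq (Subgroup.centralizer ({v} : Set G)) Q2 Q1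
    have hnorm : ∀ r ∈ Subgroup.zpowers σ, ((c : G) * g) * r * ((c : G) * g)⁻¹ ∈ Subgroup.zpowers σ := by
      intro r hr
      have h1 : (⟨g * r * g⁻¹, hle' ⟨r, hr, rfl⟩⟩ : Subgroup.centralizer ({v} : Set G)) ∈
          (Q2 : Subgroup (Subgroup.centralizer ({v} : Set G))) := by
        rw [← hQ2eq, Subgroup.mem_subgroupOf]
        exact ⟨r, hr, rfl⟩
      have h2 : c * (⟨g * r * g⁻¹, hle' ⟨r, hr, rfl⟩⟩ : Subgroup.centralizer ({v} : Set G)) * c⁻¹ ∈
          (Q1 : Subgroup (Subgroup.centralizer ({v} : Set G))) := by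
        rw [← hcQ, Sylow.coe_subgroup_smul, Subgroup.mem_pointwise_smul_iff_inv_smul_mem]
        simp only [MulAut.smul_def, MulAut.conj_inv_apply]
        have : c⁻¹ * (c * (⟨g * r * g⁻¹, hle' ⟨r, hr, rfl⟩⟩ : Subgroup.centralizer ({v} : Set G)) * c⁻¹) * c =
            ⟨g * r * g⁻¹, hle' ⟨r, hr, rfl⟩⟩ := by group
        rw [this]
        exact h1
      rw [← hQ1eq, Subgroup.mem_subgroupOf] at h2
      have h3 : ((c : G) * g) * r * ((c : G) * g)⁻¹ = (c : G) * (g * r * g⁻¹) * (c : G)⁻¹ := by group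
      rw [h3]
      simpa using h2
    have hcv : (c : G) * v * (c : G)⁻¹ = v := by
      have := Subgroup.mem_centralizer_singleton_iff.mp c.2
      rw [this, mul_assoc, mul_inv_cancel, mul_one]
    have hact := dh_norm_action hm P e σ hσ hσo ((c : G) * g) hnorm
    have hcu : ((c : G) * g) * u * ((c : G) * g)⁻¹ = v := by
      have h3 : ((c : G) * g) * u * ((c : G) * g)⁻¹ = (c : G) * (g * u * g⁻¹) * (c : G)⁻¹ := by group
      rw [h3, ← hvdef, hcv]
    obtain ⟨a, rfl⟩ := Subgroup.mem_zpowers_iff.mp hu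
    rcases hact with h | h
    · refine ⟨1, Subgroup.one_mem _, ?_⟩
      rw [← hcu]
      have : ((c : G) * g) * σ ^ a * ((c : G) * g)⁻¹ = (((c : G) * g) * σ * ((c : G) * g)⁻¹) ^ a := by
        rw [conj_zpow]
      rw [this, h]
      group
    · have hcardP := dh_card (P : Subgroup G) e
      have hex : ∃ y ∈ (P : Subgroup G), y ∉ Subgroup.zpowers σ := by
        by_contra hcon
        push Not at hcon
        have hPle : (P : Subgroup G) ≤ Subgroup.zpowers σ := hcon
        have := Subgroup.card_le_of_le hPle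
        rw [hcardP, Nat.card_zpowers, hσo] at this
        omega
      obtain ⟨y, hyP, hyn⟩ := hex
      obtain ⟨-, hinv⟩ := dh_nonrot hm (P : Subgroup G) e σ hσ hσo y hyP hyn
      refine ⟨y, hyP, ?_⟩
      rw [← hcu, dh_conj_pow hinv a]
      have : ((c : G) * g) * σ ^ a * ((c : G) * g)⁻¹ = (((c : G) * g) * σ * ((c : G) * g)⁻¹) ^ a := by
        rw [conj_zpow]
      rw [this, h, inv_zpow]

end Cfsg.Agent.Lib.Helper24
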