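import Mathlib
import Cfsg.Agent.S0925
import Cfsg.Agent.S0967
import Cfsg.Agent.Lib.Helper25.PrincipalNPC
import Cfsg.Agent.Lib.helper7.BSCore
import Cfsg.Agent.Lib.helper7.Q8Cent
import Cfsg.Agent.Lib.Helper29.AbFrobBlock

set_option autoImplicit false
set_option linter.style.haveILetI false
set_option linter.unusedSectionVars false
set_option linter.unusedVariables false
set_option maxHeartbeats 1600000

namespace Cfsg.Agent.Lib.Helper24

open scoped ComplexConjugate
open Cfsg.Agent.Lib.Helper25 Cfsg.Agent.Lib.helper7 Cfsg.Agent.Lib.Helper29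

theorem dh_principal_sq_sum {L : Type*} [Group L] [Finite L] (p : ℕ) [hp : Fact p.Prime]
    (M : Ideal Cfsg.AlgInt) (hM : Cfsg.IsPModular p M) (K : Subgroup L) [hKn : K.Normal]
    (hK : ¬ p ∣ Nat.card K) (k : ℕ) (hidx : K.index = p ^ k) :
    ((∑ᶠ ψ ∈ Cfsg.principalBlock M L, (Cfsg.charDegree (ψ : L → ℂ) : ℚ) ^ 2)) = (p ^ k : ℚ) := by
  classical
  letI : Fintype L := Fintype.ofFinite L
  haveI : Fintype (Cfsg.IrrCharacter L) := Fintype.ofFinite _
  have hPr := hM.2.1.isPrime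
  obtain ⟨Bf, hBf⟩ : ∃ Bf : Finset (Cfsg.IrrCharacter L), Bf = Finset.univ.filter (· ∈ Cfsg.principalBlock M L) :=
    ⟨_, rfl⟩
  have hmemBf : ∀ ψ, ψ ∈ Bf ↔ ψ ∈ Cfsg.principalBlock M L := by
    intro ψ
    rw [hBf]
    simp
  have htriv : trivIrr L ∈ Cfsg.principalBlock M L := h7_sameBlock_refl hPr _
  have hconst : ∀ ψ ∈ Bf, ∀ g : L, ∀ n ∈ K, (ψ : L → ℂ) (g * n) = (ψ : L → ℂ) g := by
    intro ψ hψ g n hn
    have hψ' : ψ ∈ Cfsg.blockOf M (((trivIrr (L ⧸ K) : Cfsg.IrrCharacter (L ⧸ K)) : L ⧸ K → ℂ) ∘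
        QuotientGroup.mk) := (hmemBf ψ).mp hψ
    obtain ⟨ψ', hψ'eq, -⟩ := Cfsg.Agent.S0967.result p M hM K hK (trivIrr (L ⧸ K)) ψ hψ'
    rw [hψ'eq]
    simp only [Function.comp_apply]
    have hq : ((g * n : L) : L ⧸ K) = (g : L ⧸ K) := by
      rw [QuotientGroup.eq]
      have : (g * n)⁻¹ * g = n⁻¹ := by group
      rw [this]
      exact K.inv_mem hn
    rw [hq]
  obtain ⟨f, hf⟩ : ∃ f : L → ℂ, f = fun g => ∑ ψ ∈ Bf, (ψ : L → ℂ) 1 * (ψ : L → ℂ) g := ⟨_, rfl⟩
  have hfK : ∀ g ∈ K, f g = f 1 := by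
    intro g hg
    rw [hf]
    simp only
    apply Finset.sum_congr rfl
    intro ψ hψ
    have := hconst ψ hψ 1 g hg
    rw [one_mul] at this
    rw [this]
  have hfnK : ∀ g : L, g ∉ K → f g = 0 := by
    intro g hg
    have hdvd : p ∣ orderOf g := by
      have hQ : Nat.card (L ⧸ K) = p ^ k := by
        rw [← hidx]
        rfl
      have hne : (QuotientGroup.mk g : L ⧸ K) ≠ 1 := by
        intro h
        apply hg
        rwa [QuotientGroup.eq_one_iff] at h
      have h1 : orderOf (QuotientGroup.mk g : L ⧸ K) ∣ p ^ k := by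
        rw [← hQ]
        exact orderOf_dvd_natCard _
      obtain ⟨j, -, hj⟩ := (Nat.dvd_prime_pow hp.out).mp h1
      have hj0 : j ≠ 0 := by
        intro h0
        rw [h0, pow_zero, orderOf_eq_one_iff] at hj
        exact hne hj
      have h2 : orderOf (QuotientGroup.mk g : L ⧸ K) ∣ orderOf g :=
        orderOf_map_dvd (QuotientGroup.mk' K) g
      rw [hj] at h2
      exact (dvd_pow_self p hj0).trans h2
    obtain ⟨x, hx⟩ := h7_exists_isPPart p g
    have hx1 : x ≠ 1 := by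
      intro h
      obtain ⟨y, hxy, -, -, hy⟩ := hx
      rw [h, one_mul] at hxy
      rw [hxy] at hy
      exact hy hdvd
    have h1 : Cfsg.IsPPart p (1 : L) 1 := by
      refine ⟨1, mul_one 1, Commute.one_right 1, ⟨0, by simp⟩, ?_⟩
      rw [orderOf_one]
      exact hp.out.one_lt.ne' ∘ Nat.dvd_one.mp
    have hnc : ¬ IsConj x 1 := by
      intro h
      apply hx1
      exact isConj_one_left.mp h
    have h2 := (Cfsg.Agent.S0925.result p M hM).2 g 1 x 1 hx h1 hnc _ (af_principal_isPBlock M)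
    rw [hf]
    simp only
    rw [af_finsum_eq (Cfsg.principalBlock M L) Bf hmemBf] at h2
    rw [← h2]
    apply Finset.sum_congr rfl
    intro ψ _
    rw [inv_one, mul_comm]
  have hinner : Cfsg.classInner f (fun _ => (1 : ℂ)) = 1 := by
    have h1 : Cfsg.classInner f (fun _ => (1 : ℂ)) =
        ∑ ψ ∈ Bf, (ψ : L → ℂ) 1 * Cfsg.classInner (ψ : L → ℂ) (fun _ => (1 : ℂ)) := by
      unfold Cfsg.classInner
      rw [hf]
      simp only [map_one, mul_one]
      rw [Finset.sum_comm, Finset.mul_sum]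
      apply Finset.sum_congr rfl
      intro ψ _
      rw [← Finset.mul_sum]
      ring
    rw [h1]
    rw [Finset.sum_eq_single (trivIrr L)]
    · rw [h7_classInner_irr_triv, if_pos rfl]
      simp
    · intro ψ _ hne
      rw [h7_classInner_irr_triv, if_neg hne, mul_zero]
    · intro h
      exact absurd ((hmemBf _).mpr htriv) h
  have hinner2 : Cfsg.classInner f (fun _ => (1 : ℂ)) = (Nat.card L : ℂ)⁻¹ * ((Nat.card K : ℂ) * f 1) := by
    unfold Cfsg.classInner
    congr 1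
    simp only [map_one, mul_one]
    rw [← Finset.sum_filter_add_sum_filter_not Finset.univ (· ∈ K)]
    rw [Finset.sum_congr rfl (fun g hg => hfK g (Finset.mem_filter.mp hg).2)]
    rw [Finset.sum_congr rfl (fun g hg => hfnK g (Finset.mem_filter.mp hg).2)]
    rw [Finset.sum_const, Finset.sum_const_zero, add_zero, nsmul_eq_mul]
    congr 2
    rw [Nat.card_eq_fintype_card, Fintype.card_subtype]
  have hcard : (Nat.card L : ℂ) = (Nat.card K : ℂ) * (p ^ k : ℕ) := by
    rw [← Nat.cast_mul, ← hidx, Subgroup.card_mul_index]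
  have hf1 : f 1 = ((p ^ k : ℕ) : ℂ) := by
    rw [hinner2, hcard] at hinner
    have hK0 : (Nat.card K : ℂ) ≠ 0 := by
      exact_mod_cast (Nat.card_pos (α := K)).ne'
    have hp0 : (((p ^ k : ℕ)) : ℂ) ≠ 0 := by
      exact_mod_cast (pow_pos hp.out.pos k).ne'
    field_simp at hinner
    linear_combination hinner
  have hf1' : f 1 = ((∑ ψ ∈ Bf, (Cfsg.charDegree (ψ : L → ℂ)) ^ 2 : ℕ) : ℂ) := by
    rw [hf]
    simp only
    rw [Nat.cast_sum]
    apply Finset.sum_congr rfl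
    intro ψ _
    rw [pq_degree_cast]
    push_cast
    ring
  rw [hf1'] at hf1
  have hnat : ∑ ψ ∈ Bf, (Cfsg.charDegree (ψ : L → ℂ)) ^ 2 = p ^ k := by
    exact_mod_cast hf1
  rw [af_finsum_eq (Cfsg.principalBlock M L) Bf hmemBf]
  have : ((∑ ψ ∈ Bf, (Cfsg.charDegree (ψ : L → ℂ)) ^ 2 : ℕ) : ℚ) = ((p ^ k : ℕ) : ℚ) := by
    rw [hnat]
  push_cast at this
  exact this

end Cfsg.Agent.Lib.Helper24
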