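import Mathlib
import Cfsg.Agent.Lib.Helper24.DH3
import Cfsg.Agent.Lib.Helper24.DH4
import Cfsg.Agent.S0514

set_option autoImplicit false
set_option linter.style.haveILetI false
set_option linter.unusedSectionVars false
set_option linter.unusedVariables false
set_option maxHeartbeats 1600000

namespace Cfsg.Agent.Lib.Helper24

variable {G : Type*} [Group G]

theorem dh_order_two_pow [Finite G] {m : ℕ} (P : Sylow 2 G) (σ : G) (hσ : σ ∈ (P : Subgroup G))
    (hσo : orderOf σ = m) : ∃ a : ℕ, m = 2 ^ a := by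
  haveI : Fact (Nat.Prime 2) := ⟨Nat.prime_two⟩
  obtain ⟨k, hk⟩ := (IsPGroup.iff_orderOf.mp P.isPGroup') ⟨σ, hσ⟩
  exact ⟨k, by rw [← hσo, ← hk, Subgroup.orderOf_mk]⟩

theorem dh_invol_central {m : ℕ} [NeZero m] (hm : 3 ≤ m) (P : Subgroup G)
    (e : P ≃* DihedralGroup m) (σ : G) (hσ : σ ∈ P)
    (hσo : orderOf σ = m) (y : G) (hy : y ∈ Subgroup.zpowers σ) (hy2 : y * y = 1) (t : G)
    (ht : t ∈ P) : t * y = y * t := by
  by_cases htz : t ∈ Subgroup.zpowers σ
  · obtain ⟨a, rfl⟩ := Subgroup.mem_zpowers_iff.mp hy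
    obtain ⟨b, rfl⟩ := Subgroup.mem_zpowers_iff.mp htz
    rw [← zpow_add, ← zpow_add, add_comm]
  · obtain ⟨-, hinv⟩ := dh_nonrot hm P e σ hσ hσo t ht htz
    obtain ⟨a, rfl⟩ := Subgroup.mem_zpowers_iff.mp hy
    have h1 := dh_conj_pow hinv a
    have h2 : (σ ^ a)⁻¹ = σ ^ a := by
      rw [inv_eq_iff_mul_eq_one]
      exact hy2
    rw [h2] at h1
    have : t * σ ^ a = (t * σ ^ a * t⁻¹) * t := by group
    rw [this, h1]

theorem dh_weight [Finite G] {m : ℕ} [NeZero m] (hm : 3 ≤ m) (P : Sylow 2 G)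
    (e : (P : Subgroup G) ≃* DihedralGroup m) (σ : G) (hσ : σ ∈ (P : Subgroup G))
    (hσo : orderOf σ = m) (M : Ideal Cfsg.AlgInt) (hM : Cfsg.IsPModular 2 M)
    (y : G) (hy : y ∈ Subgroup.zpowers σ) (hy1 : y ≠ 1) :
    ((∑ᶠ ψ ∈ Cfsg.principalBlock M ↥(Subgroup.centralizer ({y} : Set G)),
      (Cfsg.charDegree (ψ : ↥(Subgroup.centralizer ({y} : Set G)) → ℂ) : ℚ) ^ 2)) =
        (1 : ℚ) * Nat.card ↥((P : Subgroup G) ⊓ Subgroup.centralizer ({y} : Set G)) := by
  haveI : Fact (Nat.Prime 2) := ⟨Nat.prime_two⟩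
  obtain ⟨a, ha⟩ := dh_order_two_pow P σ hσ hσo
  have hRP : Subgroup.zpowers σ ≤ (P : Subgroup G) := by
    rw [Subgroup.zpowers_le]
    exact hσ
  rw [one_mul]
  by_cases hy2 : y * y = 1
  · have hyo : orderOf y = 2 := by
      apply orderOf_eq_prime
      · rw [pow_two, hy2]
      · exact hy1
    obtain ⟨N, hNn, hNodd, k, hk⟩ := Cfsg.Agent.S0514.result P m (by omega) ⟨e⟩ y hyo
    haveI := hNn
    have hN2 : ¬ 2 ∣ Nat.card N := by
      rw [← even_iff_two_dvd, Nat.not_even_iff_odd]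
      exact hNodd
    rw [dh_principal_sq_sum 2 M hM N hN2 k hk]
    have hPle : (P : Subgroup G) ≤ Subgroup.centralizer ({y} : Set G) := by
      intro t ht
      rw [Subgroup.mem_centralizer_singleton_iff]
      exact dh_invol_central hm (P : Subgroup G) e σ hσ hσo y hy hy2 t ht
    have hinf : (P : Subgroup G) ⊓ Subgroup.centralizer ({y} : Set G) = (P : Subgroup G) :=
      inf_eq_left.mpr hPle
    rw [hinf]
    have hcardP := dh_card (P : Subgroup G) e
    have hCcard : Nat.card (Subgroup.centralizer ({y} : Set G)) = Nat.card N * 2 ^ k := by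
      rw [← hk, Subgroup.card_mul_index]
    have h1 : Nat.card (P : Subgroup G) ∣ Nat.card N * 2 ^ k := by
      rw [← hCcard]
      exact Subgroup.card_dvd_of_le hPle
    have hPpow : Nat.card (P : Subgroup G) = 2 ^ (a + 1) := by
      rw [hcardP, ha, pow_succ]
      ring
    have hcopN : Nat.Coprime (2 ^ (a + 1)) (Nat.card N) := by
      apply Nat.Coprime.pow_left
      rw [Nat.coprime_comm, Nat.coprime_two_right]
      exact hNodd
    have h2 : 2 ^ (a + 1) ∣ 2 ^ k := by
      rw [hPpow] at h1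
      exact hcopN.dvd_of_dvd_mul_left h1
    have h3 : 2 ^ k ∣ 2 ^ (a + 1) := by
      have hdvdG : 2 ^ k ∣ Nat.card G := by
        have : 2 ^ k ∣ Nat.card (Subgroup.centralizer ({y} : Set G)) := by
          rw [hCcard]
          exact Dvd.intro_left _ rfl
        exact this.trans (Subgroup.card_subgroup_dvd_card _)
      have hidx : ¬ 2 ∣ (P : Subgroup G).index := P.not_dvd_index
      have hG : Nat.card G = 2 ^ (a + 1) * (P : Subgroup G).index := by
        rw [← hPpow, Subgroup.card_mul_index]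
      rw [hG] at hdvdG
      have hcop : Nat.Coprime (2 ^ k) (P : Subgroup G).index := by
        apply Nat.Coprime.pow_left
        rw [Nat.Prime.coprime_iff_not_dvd Nat.prime_two]
        exact hidx
      exact hcop.dvd_of_dvd_mul_right hdvdG
    have h4 : 2 ^ k = 2 ^ (a + 1) := Nat.dvd_antisymm h3 h2
    rw [hPpow]
    push_cast
    have : ((2 : ℚ) ^ k) = ((2 ^ k : ℕ) : ℚ) := by push_cast; rfl
    rw [this, h4]
    push_cast
    rfl
  · obtain ⟨K, hKn, hKodd, hKc⟩ := dh_cent_npc hm P e σ hσ hσo y hy hy2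
    haveI := hKn
    have hK2 : ¬ 2 ∣ Nat.card K := by
      rw [← even_iff_two_dvd, Nat.not_even_iff_odd]
      exact hKodd
    have hidx : K.index = 2 ^ a := by
      have h1 := K.card_mul_index
      rw [← hKc] at h1
      have hpos : 0 < Nat.card K := Nat.card_pos
      rw [← ha]
      exact Nat.eq_of_mul_eq_mul_left hpos h1
    rw [dh_principal_sq_sum 2 M hM K hK2 a hidx]
    have hinf : (P : Subgroup G) ⊓ Subgroup.centralizer ({y} : Set G) = Subgroup.zpowers σ := by
      apply le_antisymm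
      · intro t ht
        obtain ⟨htP, htC⟩ := ht
        exact dh_cent_rot hm (P : Subgroup G) e σ hσ hσo y hy hy2 t htP
          (Subgroup.mem_centralizer_singleton_iff.mp htC)
      · exact le_inf hRP (dh_zpowers_le_cent σ y hy)
    rw [hinf, Nat.card_zpowers, hσo, ha]
    push_cast
    rfl

end Cfsg.Agent.Lib.Helper24
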