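import Mathlib
import Cfsg.Agent.Lib.Helper24.DH5
import Cfsg.Agent.Lib.Helper24.PrincCol5
import Cfsg.Agent.Lib.Helper29.AbFrobGram

set_option autoImplicit false
set_option linter.style.haveILetI false
set_option linter.unusedSectionVars false
set_option linter.unusedVariables false
set_option maxHeartbeats 1600000

namespace Cfsg.Agent.Lib.Helper24

open scoped ComplexConjugate
open Cfsg.Agent.Lib.Helper25 Cfsg.Agent.Lib.helper7 Cfsg.Agent.Lib.Helper29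

variable {G : Type*} [Group G]

theorem dh_psi_exists (σ : G) (m : ℕ) (hσo : orderOf σ = m) (ζ : ℂ)
    (hζ : IsPrimitiveRoot ζ m) (hm0 : m ≠ 0) :
    ∃ ψ : ↥(Subgroup.zpowers σ) →* ℂˣ,
      (∀ l : ℤ, ∀ h : σ ^ l ∈ Subgroup.zpowers σ, ((ψ ⟨σ ^ l, h⟩ : ℂˣ) : ℂ) = ζ ^ l) ∧
      ∀ k : ℤ, ψ ^ k = 1 ↔ (m : ℤ) ∣ k := by
  have hζ0 : ζ ≠ 0 := hζ.ne_zero hm0
  obtain ⟨ζu, hζu⟩ : ∃ ζu : ℂˣ, (ζu : ℂ) = ζ := ⟨Units.mk0 ζ hζ0, rfl⟩
  have hord : orderOf ζu = m := by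
    rw [← orderOf_units, hζu]
    exact hζ.eq_orderOf.symm
  obtain ⟨s, hs⟩ : ∃ s : ↥(Subgroup.zpowers σ), (s : G) = σ := ⟨⟨σ, Subgroup.mem_zpowers σ⟩, rfl⟩
  have hso : orderOf s = m := by
    rw [← hσo, ← Subgroup.orderOf_coe s, hs]
  have hg : ∀ x : ↥(Subgroup.zpowers σ), x ∈ Subgroup.zpowers s := by
    intro x
    obtain ⟨k, hk⟩ := Subgroup.mem_zpowers_iff.mp x.2
    rw [Subgroup.mem_zpowers_iff]
    refine ⟨k, ?_⟩
    apply Subtype.ext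
    rw [Subgroup.coe_zpow, hs, hk]
  have hdvd : orderOf ζu ∣ orderOf s := by rw [hord, hso]
  refine ⟨monoidHomOfForallMemZpowers hg hdvd, ?_, ?_⟩
  · intro l h
    have h1 : (⟨σ ^ l, h⟩ : ↥(Subgroup.zpowers σ)) = s ^ l := by
      apply Subtype.ext
      rw [Subgroup.coe_zpow, hs]
    rw [h1, map_zpow, monoidHomOfForallMemZpowers_apply_gen, Units.val_zpow_eq_zpow_val, hζu]
  · intro k
    constructor
    · intro h
      have h1 := DFunLike.congr_fun h s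
      rw [MonoidHom.zpow_apply, monoidHomOfForallMemZpowers_apply_gen, MonoidHom.one_apply] at h1
      rw [← hord]
      exact orderOf_dvd_iff_zpow_eq_one.mpr h1
    · intro h
      ext x
      obtain ⟨l, hl⟩ := Subgroup.mem_zpowers_iff.mp (hg x)
      rw [MonoidHom.zpow_apply, ← hl, map_zpow, monoidHomOfForallMemZpowers_apply_gen,
        MonoidHom.one_apply, Units.val_one, ← zpow_mul]
      have h2 : (ζu ^ (l * k)) = 1 := by
        rw [← orderOf_dvd_iff_zpow_eq_one, hord]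
        exact Dvd.dvd.mul_left h l
      rw [h2, Units.val_one]


theorem dh_P_norm {m : ℕ} [NeZero m] (hm : 3 ≤ m) (P : Subgroup G) (e : P ≃* DihedralGroup m)
    (σ : G) (hσ : σ ∈ P) (hσo : orderOf σ = m) (t : G) (ht : t ∈ P) (r : G)
    (hr : r ∈ Subgroup.zpowers σ) :
    (t ∈ Subgroup.zpowers σ ∧ t * r * t⁻¹ = r) ∨ (t ∉ Subgroup.zpowers σ ∧ t * r * t⁻¹ = r⁻¹) := by
  by_cases htz : t ∈ Subgroup.zpowers σ
  · left
    refine ⟨htz, ?_⟩
    obtain ⟨a, rfl⟩ := Subgroup.mem_zpowers_iff.mp hr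
    obtain ⟨b, rfl⟩ := Subgroup.mem_zpowers_iff.mp htz
    rw [← zpow_add, ← zpow_neg, ← zpow_add]
    congr 1
    ring
  · right
    refine ⟨htz, ?_⟩
    obtain ⟨-, hinv⟩ := dh_nonrot hm P e σ hσ hσo t ht htz
    obtain ⟨a, rfl⟩ := Subgroup.mem_zpowers_iff.mp hr
    exact dh_conj_pow hinv a

theorem dh_inner_sum [Finite G] {m : ℕ} [NeZero m] (hm : 3 ≤ m) (P : Subgroup G)
    (e : P ≃* DihedralGroup m)
    (σ : G) (hσ : σ ∈ P) (hσo : orderOf σ = m) (η : ↥(Subgroup.zpowers σ) → ℂ)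
    (y : ↥(Subgroup.zpowers σ)) :
    ∑ᶠ x : ↥P, Cfsg.extendByZero (Subgroup.zpowers σ) η ((x : G) * (y : G) * (x : G)⁻¹) =
      (m : ℂ) * η y + (m : ℂ) * η y⁻¹ := by
  classical
  letI : Fintype ↥P := Fintype.ofFinite _
  rw [finsum_eq_sum_of_fintype]
  have hRP : Subgroup.zpowers σ ≤ P := by
    rw [Subgroup.zpowers_le]
    exact hσ
  have hterm : ∀ x : ↥P, Cfsg.extendByZero (Subgroup.zpowers σ) η ((x : G) * (y : G) * (x : G)⁻¹) =
      if (x : G) ∈ Subgroup.zpowers σ then η y else η y⁻¹ := by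
    intro x
    rcases dh_P_norm hm P e σ hσ hσo (x : G) x.2 (y : G) y.2 with ⟨h1, h2⟩ | ⟨h1, h2⟩
    · rw [if_pos h1, h2, h7_extendByZero_coe]
    · rw [if_neg h1, h2]
      have : ((y : G))⁻¹ = ((y⁻¹ : ↥(Subgroup.zpowers σ)) : G) := by simp
      rw [this, h7_extendByZero_coe]
  rw [Finset.sum_congr rfl (fun x _ => hterm x)]
  rw [Finset.sum_ite, Finset.sum_const, Finset.sum_const, nsmul_eq_mul, nsmul_eq_mul]
  have hc1 : (Finset.univ.filter (fun x : ↥P => (x : G) ∈ Subgroup.zpowers σ)).card = m := by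
    have h1 : (Finset.univ.filter (fun x : ↥P => (x : G) ∈ Subgroup.zpowers σ)).card =
        Nat.card ((Subgroup.zpowers σ).subgroupOf P) := by
      rw [Nat.card_eq_fintype_card, Fintype.card_subtype]
      rfl
    rw [h1, Nat.card_congr (Subgroup.subgroupOfEquivOfLe hRP).toEquiv, Nat.card_zpowers, hσo]
  have hc2 : (Finset.univ.filter (fun x : ↥P => ¬ (x : G) ∈ Subgroup.zpowers σ)).card = m := by
    have h2 := Finset.card_filter_add_card_filter_not (s := (Finset.univ : Finset ↥P))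
      (fun x : ↥P => (x : G) ∈ Subgroup.zpowers σ)
    rw [hc1, Finset.card_univ, ← Nat.card_eq_fintype_card, dh_card P e] at h2
    omega
  rw [hc1, hc2]

theorem dh_gram_raw [Finite G] {m : ℕ} [NeZero m] (hm : 3 ≤ m) (P : Sylow 2 G)
    (e : (P : Subgroup G) ≃* DihedralGroup m) (σ : G) (hσ : σ ∈ (P : Subgroup G))
    (hσo : orderOf σ = m) (M : Ideal Cfsg.AlgInt) (hM : Cfsg.IsPModular 2 M)
    (Bf : Finset (Cfsg.IrrCharacter G)) (hBf : ∀ χ, χ ∈ Bf ↔ χ ∈ Cfsg.principalBlock M G)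
    [Fintype ↥(Subgroup.zpowers σ)]
    (ψ ψ' : ↥(Subgroup.zpowers σ) →* ℂˣ) :
    ∑ χ ∈ Bf, ((afMu (Subgroup.zpowers σ) χ ψ : ℂ) - afMu (Subgroup.zpowers σ) χ 1) *
        ((afMu (Subgroup.zpowers σ) χ ψ' : ℂ) - afMu (Subgroup.zpowers σ) χ 1) =
      (m : ℂ)⁻¹ * ∑ y : ↥(Subgroup.zpowers σ), (((ψ y : ℂˣ) : ℂ) - 1) *
        (((ψ' y⁻¹ : ℂˣ) : ℂ) + ((ψ' y : ℂˣ) : ℂ) - 2) := by
  classical
  haveI : Fact (Nat.Prime 2) := ⟨Nat.prime_two⟩
  have hRP : Subgroup.zpowers σ ≤ (P : Subgroup G) := by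
    rw [Subgroup.zpowers_le]
    exact hσ
  have hR2 : IsPGroup 2 (Subgroup.zpowers σ) := P.isPGroup'.to_le hRP
  have hNN : (P : Subgroup G) ≤ Subgroup.normalizer (Subgroup.zpowers σ : Set G) := by
    intro t ht
    rw [Subgroup.mem_normalizer_iff]
    intro r
    constructor
    · intro hr
      rcases dh_P_norm hm (P : Subgroup G) e σ hσ hσo t ht r hr with ⟨-, h2⟩ | ⟨-, h2⟩
      · rw [h2]; exact hr
      · rw [h2]; exact Subgroup.inv_mem _ hr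
    · intro hr
      have ht' : t⁻¹ ∈ (P : Subgroup G) := Subgroup.inv_mem _ ht
      have hrr : r = t⁻¹ * (t * r * t⁻¹) * t⁻¹⁻¹ := by group
      rw [hrr]
      rcases dh_P_norm hm (P : Subgroup G) e σ hσ hσo t⁻¹ ht' _ hr with ⟨-, h2⟩ | ⟨-, h2⟩
      · rw [h2]; exact hr
      · rw [h2]; exact Subgroup.inv_mem _ hr
  obtain ⟨U, hU⟩ : ∃ U : Set G, U = {u | u ∈ Subgroup.zpowers σ ∧ u ≠ 1} := ⟨_, rfl⟩
  have hfus : ∀ u ∈ U, ∀ g : G, g * u * g⁻¹ ∈ ((Subgroup.zpowers σ : Subgroup G) : Set G) →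
      ∃ n ∈ (P : Subgroup G), n * u * n⁻¹ = g * u * g⁻¹ := by
    intro u hu g hg
    rw [hU] at hu
    exact dh_fusion hm P e σ hσ hσo u hu.1 hu.2 g hg
  have hw : ∀ y ∈ U, ((∑ᶠ ψ ∈ Cfsg.principalBlock M ↥(Subgroup.centralizer ({y} : Set G)),
      Cfsg.charDegree (ψ : ↥(Subgroup.centralizer ({y} : Set G)) → ℂ) ^ 2) : ℚ) =
        (1 : ℚ) * Nat.card ↥((P : Subgroup G) ⊓ Subgroup.centralizer ({y} : Set G)) := by
    intro y hy
    rw [hU] at hy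
    exact dh_weight hm P e σ hσ hσo M hM y hy.1 hy.2
  obtain ⟨θ, hθ⟩ : ∃ θ : ↥(Subgroup.zpowers σ) → ℂ, θ = fun y => ((ψ y : ℂˣ) : ℂ) - 1 := ⟨_, rfl⟩
  obtain ⟨η, hη⟩ : ∃ η : ↥(Subgroup.zpowers σ) → ℂ, η = fun y => ((ψ' y : ℂˣ) : ℂ) - 1 := ⟨_, rfl⟩
  have hθU : ∀ y : ↥(Subgroup.zpowers σ), (y : G) ∉ U → θ y = 0 := by
    intro y hy
    rw [hU] at hy
    have hy1 : y = 1 := by
      by_contra hne
      apply hy
      refine ⟨y.2, ?_⟩
      intro h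
      apply hne
      exact Subtype.ext h
    rw [hθ, hy1]
    simp
  have key := pc_main 2 M hM (Subgroup.zpowers σ) hR2 (P : Subgroup G) hNN U hfus 1 hw θ η hθU
  have hcardR : (Nat.card ↥(Subgroup.zpowers σ) : ℂ) = (m : ℂ) := by
    rw [Nat.card_zpowers, hσo]
  have hm0 : (m : ℂ) ≠ 0 := by
    have : m ≠ 0 := by omega
    exact_mod_cast this
  have hcoef : ∀ (φ : ↥(Subgroup.zpowers σ) →* ℂˣ) (χ : Cfsg.IrrCharacter G),
      (Nat.card ↥(Subgroup.zpowers σ) : ℂ)⁻¹ * ∑ᶠ y : ↥(Subgroup.zpowers σ),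
        (χ : G → ℂ) (y : G) * ((fun y => ((φ y : ℂˣ) : ℂ) - 1) y⁻¹) =
      (afMu (Subgroup.zpowers σ) χ φ : ℂ) - afMu (Subgroup.zpowers σ) χ 1 := by
    intro φ χ
    rw [finsum_eq_sum_of_fintype, afMu_spec, afMu_spec, ← mul_sub, ← Finset.sum_sub_distrib]
    congr 1
    apply Finset.sum_congr rfl
    intro y _
    simp only [MonoidHom.one_apply, Units.val_one, map_one, mul_one]
    rw [afd_conj]
    ring
  rw [af_finsum_eq (Cfsg.principalBlock M G) Bf hBf] at key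
  have hL : ∀ χ ∈ Bf, ((Nat.card ↥(Subgroup.zpowers σ) : ℂ)⁻¹ * ∑ᶠ y : ↥(Subgroup.zpowers σ),
        (χ : G → ℂ) (y : G) * θ y⁻¹) *
      (starRingEnd ℂ) ((Nat.card ↥(Subgroup.zpowers σ) : ℂ)⁻¹ * ∑ᶠ y : ↥(Subgroup.zpowers σ),
        (χ : G → ℂ) (y : G) * η y⁻¹) =
      ((afMu (Subgroup.zpowers σ) χ ψ : ℂ) - afMu (Subgroup.zpowers σ) χ 1) *
        ((afMu (Subgroup.zpowers σ) χ ψ' : ℂ) - afMu (Subgroup.zpowers σ) χ 1) := by
    intro χ _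
    rw [hθ, hη, hcoef ψ χ, hcoef ψ' χ, map_sub, Complex.conj_natCast, Complex.conj_natCast]
  rw [Finset.sum_congr rfl hL] at key
  rw [key, finsum_eq_sum_of_fintype, hcardR]
  have hR : ∀ y : ↥(Subgroup.zpowers σ),
      θ y * (starRingEnd ℂ) (∑ᶠ x : ↥(P : Subgroup G),
        Cfsg.extendByZero (Subgroup.zpowers σ) η ((x : G) * (y : G) * (x : G)⁻¹)) =
      (m : ℂ) * ((((ψ y : ℂˣ) : ℂ) - 1) *
        (((ψ' y⁻¹ : ℂˣ) : ℂ) + ((ψ' y : ℂˣ) : ℂ) - 2)) := by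
    intro y
    rw [dh_inner_sum hm (P : Subgroup G) e σ hσ hσo η y, hθ, hη]
    simp only [map_add, map_mul, map_sub, Complex.conj_natCast, map_one]
    rw [afd_conj, afd_conj, inv_inv]
    ring
  rw [Finset.sum_congr rfl (fun y _ => hR y), ← Finset.mul_sum]
  push_cast
  field_simp

end Cfsg.Agent.Lib.Helper24
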