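import Mathlib
import Cfsg.Agent.Lib.Helper24.DH6
import Cfsg.Agent.Lib.Helper24.PrincCol6

set_option autoImplicit false
set_option linter.style.haveILetI false
set_option linter.unusedSectionVars false
set_option linter.unusedVariables false
set_option maxHeartbeats 1600000

namespace Cfsg.Agent.Lib.Helper24

open scoped ComplexConjugate
open Cfsg.Agent.Lib.Helper25 Cfsg.Agent.Lib.helper7 Cfsg.Agent.Lib.Helper29

variable {G : Type*} [Group G]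

noncomputable def dhW [Finite G] (σ : G) (ψ : ↥(Subgroup.zpowers σ) →* ℂˣ)
    (χ : Cfsg.IrrCharacter G) (j : ℤ) : ℤ :=
  (afMu (Subgroup.zpowers σ) χ (ψ ^ j) : ℤ) - (afMu (Subgroup.zpowers σ) χ 1 : ℤ)

theorem dhW_cast [Finite G] (σ : G) (ψ : ↥(Subgroup.zpowers σ) →* ℂˣ)
    (χ : Cfsg.IrrCharacter G) (j : ℤ) :
    ((dhW σ ψ χ j : ℤ) : ℂ) = (afMu (Subgroup.zpowers σ) χ (ψ ^ j) : ℂ) -
      (afMu (Subgroup.zpowers σ) χ 1 : ℂ) := by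
  unfold dhW
  push_cast
  rfl

theorem dh_sum_zpow [Finite G] (σ : G) (m : ℕ) (hσo : orderOf σ = m)
    [Fintype ↥(Subgroup.zpowers σ)]
    (ψ : ↥(Subgroup.zpowers σ) →* ℂˣ)
    (hψ : ∀ k : ℤ, ψ ^ k = 1 ↔ (m : ℤ) ∣ k) (k : ℤ) :
    ∑ y : ↥(Subgroup.zpowers σ), (((ψ y : ℂˣ) : ℂ)) ^ k = if (m : ℤ) ∣ k then (m : ℂ) else 0 := by
  classical
  have h1 : ∀ y : ↥(Subgroup.zpowers σ), (((ψ y : ℂˣ) : ℂ)) ^ k = (((ψ ^ k) y : ℂˣ) : ℂ) := by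
    intro y
    rw [MonoidHom.zpow_apply, Units.val_zpow_eq_zpow_val]
  rw [Finset.sum_congr rfl (fun y _ => h1 y), afd_sum_elems]
  have hc : (Fintype.card ↥(Subgroup.zpowers σ) : ℂ) = (m : ℂ) := by
    rw [← Nat.card_eq_fintype_card, Nat.card_zpowers, hσo]
  by_cases h : (m : ℤ) ∣ k
  · rw [if_pos h, if_pos ((hψ k).mpr h), hc]
  · rw [if_neg h, if_neg (fun hh => h ((hψ k).mp hh))]

theorem dh_gram_eval [Finite G] {m : ℕ} [NeZero m] (hm : 3 ≤ m) (P : Sylow 2 G)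
    (e : (P : Subgroup G) ≃* DihedralGroup m) (σ : G) (hσ : σ ∈ (P : Subgroup G))
    (hσo : orderOf σ = m) (M : Ideal Cfsg.AlgInt) (hM : Cfsg.IsPModular 2 M)
    (Bf : Finset (Cfsg.IrrCharacter G)) (hBf : ∀ χ, χ ∈ Bf ↔ χ ∈ Cfsg.principalBlock M G)
    (ψ : ↥(Subgroup.zpowers σ) →* ℂˣ)
    (hψ : ∀ k : ℤ, ψ ^ k = 1 ↔ (m : ℤ) ∣ k) (j j' : ℤ) :
    ∑ χ ∈ Bf, dhW σ ψ χ j * dhW σ ψ χ j' =
      (if (m : ℤ) ∣ j - j' then 1 else 0) + (if (m : ℤ) ∣ j + j' then 1 else 0)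
        - 2 * (if (m : ℤ) ∣ j then 1 else 0) - 2 * (if (m : ℤ) ∣ j' then 1 else 0) + 2 := by
  classical
  letI : Fintype ↥(Subgroup.zpowers σ) := Fintype.ofFinite _
  have hm0 : (m : ℂ) ≠ 0 := by
    have : m ≠ 0 := by omega
    exact_mod_cast this
  have hraw := dh_gram_raw hm P e σ hσ hσo M hM Bf hBf (ψ ^ j) (ψ ^ j')
  have hterm : ∀ y : ↥(Subgroup.zpowers σ),
      ((((ψ ^ j) y : ℂˣ) : ℂ) - 1) * ((((ψ ^ j') y⁻¹ : ℂˣ) : ℂ) + (((ψ ^ j') y : ℂˣ) : ℂ) - 2) =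
      (((ψ y : ℂˣ) : ℂ)) ^ (j - j') + (((ψ y : ℂˣ) : ℂ)) ^ (j + j') - 2 * (((ψ y : ℂˣ) : ℂ)) ^ j
        - (((ψ y : ℂˣ) : ℂ)) ^ (-j') - (((ψ y : ℂˣ) : ℂ)) ^ j' + 2 := by
    intro y
    have hu0 : (((ψ y : ℂˣ) : ℂ)) ≠ 0 := Units.ne_zero _
    rw [MonoidHom.zpow_apply, MonoidHom.zpow_apply, MonoidHom.zpow_apply, map_inv,
      Units.val_zpow_eq_zpow_val, Units.val_zpow_eq_zpow_val, Units.val_zpow_eq_zpow_val,
      Units.val_inv_eq_inv_val, inv_zpow, zpow_sub₀ hu0, zpow_add₀ hu0, zpow_neg]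
    field_simp
    ring
  rw [Finset.sum_congr rfl (fun y _ => hterm y)] at hraw
  simp only [Finset.sum_add_distrib, Finset.sum_sub_distrib, ← Finset.mul_sum] at hraw
  rw [dh_sum_zpow σ m hσo ψ hψ, dh_sum_zpow σ m hσo ψ hψ, dh_sum_zpow σ m hσo ψ hψ,
    dh_sum_zpow σ m hσo ψ hψ, dh_sum_zpow σ m hσo ψ hψ] at hraw
  have hcardR : (Finset.univ : Finset ↥(Subgroup.zpowers σ)).card = m := by
    rw [Finset.card_univ, ← Nat.card_eq_fintype_card, Nat.card_zpowers, hσo]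
  rw [Finset.sum_const, hcardR] at hraw
  have hneg : ((m : ℤ) ∣ -j') ↔ ((m : ℤ) ∣ j') := dvd_neg
  have hcast : ((∑ χ ∈ Bf, dhW σ ψ χ j * dhW σ ψ χ j' : ℤ) : ℂ) =
      (((if (m : ℤ) ∣ j - j' then 1 else 0) + (if (m : ℤ) ∣ j + j' then 1 else 0)
        - 2 * (if (m : ℤ) ∣ j then 1 else 0) - 2 * (if (m : ℤ) ∣ j' then 1 else 0) + 2 : ℤ) : ℂ) := by
    push_cast
    simp only [dhW_cast]
    rw [hraw]
    simp only [hneg]
    split_ifs <;> field_simp <;> ring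
  exact_mod_cast hcast

theorem dh_afMu_triv [Finite G] (σ : G) [Fintype ↥(Subgroup.zpowers σ)]
    (φ : ↥(Subgroup.zpowers σ) →* ℂˣ) [Decidable (φ = 1)] :
    afMu (Subgroup.zpowers σ) (trivIrr G) φ = if φ = 1 then 1 else 0 := by
  have h := afMu_spec (Subgroup.zpowers σ) (trivIrr G) φ
  have h1 : ∑ w : ↥(Subgroup.zpowers σ), ((trivIrr G : Cfsg.IrrCharacter G) : G → ℂ) w *
      conj ((φ w : ℂˣ) : ℂ) = conj (∑ w : ↥(Subgroup.zpowers σ), ((φ w : ℂˣ) : ℂ)) := by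
    rw [map_sum]
    apply Finset.sum_congr rfl
    intro w _
    rw [trivIrr_apply, one_mul]
  rw [h1, afd_sum_elems] at h
  have hc : (Nat.card ↥(Subgroup.zpowers σ) : ℂ) ≠ 0 := by
    exact_mod_cast (Nat.card_pos (α := ↥(Subgroup.zpowers σ))).ne'
  split_ifs at h ⊢ with hφ
  · rw [Complex.conj_natCast, ← Nat.card_eq_fintype_card, inv_mul_cancel₀ hc] at h
    exact_mod_cast h
  · rw [map_zero, mul_zero] at h
    exact_mod_cast h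

theorem dhW_triv [Finite G] (σ : G) (m : ℕ) (ψ : ↥(Subgroup.zpowers σ) →* ℂˣ)
    (hψ : ∀ k : ℤ, ψ ^ k = 1 ↔ (m : ℤ) ∣ k) (j : ℤ) (hj : ¬ (m : ℤ) ∣ j) :
    dhW σ ψ (trivIrr G) j = -1 := by
  classical
  letI : Fintype ↥(Subgroup.zpowers σ) := Fintype.ofFinite _
  unfold dhW
  rw [dh_afMu_triv, dh_afMu_triv, if_pos rfl, if_neg (fun h => hj ((hψ j).mp h))]
  simp

theorem dh_afMu_inv [Finite G] {m : ℕ} [NeZero m] (hm : 3 ≤ m) (P : Subgroup G)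
    (e : P ≃* DihedralGroup m) (σ : G) (hσ : σ ∈ P) (hσo : orderOf σ = m)
    (χ : Cfsg.IrrCharacter G) (φ : ↥(Subgroup.zpowers σ) →* ℂˣ) :
    afMu (Subgroup.zpowers σ) χ φ⁻¹ = afMu (Subgroup.zpowers σ) χ φ := by
  classical
  letI : Fintype ↥(Subgroup.zpowers σ) := Fintype.ofFinite _
  have h1 := afMu_spec (Subgroup.zpowers σ) χ φ⁻¹
  have h2 := afMu_spec (Subgroup.zpowers σ) χ φ
  have hex : ∃ t ∈ P, t ∉ Subgroup.zpowers σ := by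
    by_contra hcon
    push Not at hcon
    have hPle : P ≤ Subgroup.zpowers σ := hcon
    have := Subgroup.card_le_of_le hPle
    rw [dh_card P e, Nat.card_zpowers, hσo] at this
    omega
  obtain ⟨t, htP, htn⟩ := hex
  have hχinv : ∀ w : ↥(Subgroup.zpowers σ), (χ : G → ℂ) ((w⁻¹ : ↥(Subgroup.zpowers σ)) : G) =
      (χ : G → ℂ) (w : G) := by
    intro w
    rcases dh_P_norm hm P e σ hσ hσo t htP (w : G) w.2 with ⟨h, -⟩ | ⟨-, h⟩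
    · exact absurd h htn
    · have : ((w⁻¹ : ↥(Subgroup.zpowers σ)) : G) = t * (w : G) * t⁻¹ := by
        rw [h]
        simp
      rw [this, irr_conj_invariant]
  have hsum : ∑ w : ↥(Subgroup.zpowers σ), (χ : G → ℂ) w * conj (((φ⁻¹) w : ℂˣ) : ℂ) =
      ∑ w : ↥(Subgroup.zpowers σ), (χ : G → ℂ) w * conj ((φ w : ℂˣ) : ℂ) := by
    rw [← Equiv.sum_comp (Equiv.inv ↥(Subgroup.zpowers σ))]
    apply Finset.sum_congr rfl
    intro w _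
    simp only [Equiv.inv_apply]
    rw [hχinv, MonoidHom.inv_apply, map_inv, inv_inv]
  rw [hsum, ← h2] at h1
  exact_mod_cast h1

theorem dhW_neg [Finite G] {m : ℕ} [NeZero m] (hm : 3 ≤ m) (P : Subgroup G)
    (e : P ≃* DihedralGroup m) (σ : G) (hσ : σ ∈ P) (hσo : orderOf σ = m)
    (ψ : ↥(Subgroup.zpowers σ) →* ℂˣ) (χ : Cfsg.IrrCharacter G) (j : ℤ) :
    dhW σ ψ χ (-j) = dhW σ ψ χ j := by
  unfold dhW
  have h : ψ ^ (-j) = (ψ ^ j)⁻¹ := zpow_neg ψ j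
  rw [h, dh_afMu_inv hm P e σ hσ hσo]

theorem dh_orth_reg [Finite G] (σ : G) (hσ2 : ∃ a : ℕ, orderOf σ = 2 ^ a)
    (M : Ideal Cfsg.AlgInt) (hM : Cfsg.IsPModular 2 M)
    (Bf : Finset (Cfsg.IrrCharacter G)) (hBf : ∀ χ, χ ∈ Bf ↔ χ ∈ Cfsg.principalBlock M G)
    (ψ : ↥(Subgroup.zpowers σ) →* ℂˣ) (j : ℤ) (ρ : G) (hρ : ¬ 2 ∣ orderOf ρ) :
    ∑ χ ∈ Bf, ((dhW σ ψ χ j : ℤ) : ℂ) * (χ : G → ℂ) ρ = 0 := by
  classical
  haveI : Fact (Nat.Prime 2) := ⟨Nat.prime_two⟩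
  letI : Fintype ↥(Subgroup.zpowers σ) := Fintype.ofFinite _
  obtain ⟨U, hU⟩ : ∃ U : Set G, U = {u | u ∈ Subgroup.zpowers σ ∧ u ≠ 1} := ⟨_, rfl⟩
  obtain ⟨θ, hθ⟩ : ∃ θ : ↥(Subgroup.zpowers σ) → ℂ, θ = fun y => (((ψ ^ j) y : ℂˣ) : ℂ) - 1 :=
    ⟨_, rfl⟩
  have hθU : ∀ y : ↥(Subgroup.zpowers σ), (y : G) ∉ U → θ y = 0 := by
    intro y hy
    rw [hU] at hy
    have hy1 : y = 1 := by
      by_contra hne
      apply hy
      refine ⟨y.2, ?_⟩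
      intro h
      apply hne
      exact Subtype.ext h
    rw [hθ, hy1]
    simp
  have hF : ∀ u ∈ U, ∑ᶠ χ ∈ Cfsg.principalBlock M G, (χ : G → ℂ) u⁻¹ * (χ : G → ℂ) ρ = 0 := by
    intro u hu
    rw [hU] at hu
    obtain ⟨huR, hu1⟩ := hu
    have hu2 : ∃ k : ℕ, orderOf u⁻¹ = 2 ^ k := by
      obtain ⟨a, ha⟩ := hσ2
      have hdvd : orderOf u ∣ 2 ^ a := by
        rw [← ha]
        have h1 : orderOf u ∣ Nat.card ↥(Subgroup.zpowers σ) := by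
          have := orderOf_dvd_natCard (⟨u, huR⟩ : ↥(Subgroup.zpowers σ))
          rwa [Subgroup.orderOf_mk] at this
        rwa [Nat.card_zpowers] at h1
      obtain ⟨k, -, hk⟩ := (Nat.dvd_prime_pow Nat.prime_two).mp hdvd
      exact ⟨k, by rw [orderOf_inv, hk]⟩
    have hp1 : Cfsg.IsPPart 2 u⁻¹ u⁻¹ := pc_isPPart_self 2 u⁻¹ hu2
    have hp2 : Cfsg.IsPPart 2 ρ⁻¹ 1 := by
      refine ⟨ρ⁻¹, one_mul _, Commute.one_left _, ⟨0, by simp⟩, ?_⟩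
      rw [orderOf_inv]
      exact hρ
    have hnc : ¬ IsConj u⁻¹ 1 := by
      intro h
      apply hu1
      have := isConj_one_left.mp h
      rwa [inv_eq_one] at this
    have := (Cfsg.Agent.S0925.result 2 M hM).2 u⁻¹ ρ⁻¹ u⁻¹ 1 hp1 hp2 hnc _ (af_principal_isPBlock M)
    rw [inv_inv] at this
    exact this
  have key := pc_col_vanish (Cfsg.principalBlock M G) (Subgroup.zpowers σ) U θ hθU
    (fun χ => (χ : G → ℂ) ρ) hF
  rw [af_finsum_eq (Cfsg.principalBlock M G) Bf hBf] at key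
  rw [← key]
  apply Finset.sum_congr rfl
  intro χ _
  congr 1
  rw [dhW_cast, finsum_eq_sum_of_fintype, afMu_spec, afMu_spec, ← mul_sub, ← Finset.sum_sub_distrib]
  congr 1
  apply Finset.sum_congr rfl
  intro y _
  rw [hθ]
  simp only [MonoidHom.one_apply, Units.val_one, map_one, mul_one]
  rw [afd_conj]
  ring

end Cfsg.Agent.Lib.Helper24
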