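import Mathlib
import Cfsg.Agent.Lib.Helper24.DH7
import Cfsg.Agent.Lib.helper7.BlockInd2

set_option autoImplicit false
set_option linter.style.haveILetI false
set_option linter.unusedSectionVars false
set_option linter.unusedVariables false
set_option maxHeartbeats 1600000

namespace Cfsg.Agent.Lib.Helper24

open scoped ComplexConjugate
open Cfsg.Agent.Lib.Helper25 Cfsg.Agent.Lib.helper7 Cfsg.Agent.Lib.Helper29

variable {G : Type*} [Group G]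

theorem dh_nonvanish [Finite G] (M : Ideal Cfsg.AlgInt) (hM : Cfsg.IsPModular 2 M)
    (χ : Cfsg.IrrCharacter G) (hχ : χ ∈ Cfsg.principalBlock M G) (z : G)
    (hz : ¬ 2 ∣ (Subgroup.centralizer ({z} : Set G)).index) : (χ : G → ℂ) z ≠ 0 := by
  haveI : Fact (Nat.Prime 2) := ⟨Nat.prime_two⟩
  intro h0
  have h := hχ z
  unfold Cfsg.centralChar at h
  rw [h0, mul_zero, zero_div, sub_zero, mul_one, div_one] at h
  exact hz ((h7_memLocalIdeal_natCast_iff hM _).mp h)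

theorem dh_zpowers_comm (σ : G) (a b : ↥(Subgroup.zpowers σ)) : a * b = b * a := by
  obtain ⟨a, ha⟩ := a
  obtain ⟨b, hb⟩ := b
  obtain ⟨i, rfl⟩ := Subgroup.mem_zpowers_iff.mp ha
  obtain ⟨j, rfl⟩ := Subgroup.mem_zpowers_iff.mp hb
  apply Subtype.ext
  show σ ^ i * σ ^ j = σ ^ j * σ ^ i
  rw [← zpow_add, ← zpow_add, add_comm]

theorem dh_sum_homs [Finite G] (σ : G) (m : ℕ) (hm0 : m ≠ 0) (hσo : orderOf σ = m)
    (ψ : ↥(Subgroup.zpowers σ) →* ℂˣ) (hψ : ∀ k : ℤ, ψ ^ k = 1 ↔ (m : ℤ) ∣ k)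
    [Fintype (↥(Subgroup.zpowers σ) →* ℂˣ)] (F : (↥(Subgroup.zpowers σ) →* ℂˣ) → ℂ) :
    ∑ φ, F φ = ∑ j ∈ Finset.range m, F (ψ ^ (j : ℤ)) := by
  classical
  have hinj : Set.InjOn (fun j : ℕ => ψ ^ (j : ℤ)) (Finset.range m : Set ℕ) := by
    intro j hj j' hj' hjj
    simp only [Finset.coe_range, Set.mem_Iio] at hj hj'
    simp only at hjj
    have h1 : ψ ^ ((j : ℤ) - (j' : ℤ)) = 1 := by
      have e : ψ ^ ((j : ℤ) - (j' : ℤ)) = ψ ^ (j : ℤ) * (ψ ^ (j' : ℤ))⁻¹ := zpow_sub ψ _ _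
      rw [e, hjj]
      exact mul_inv_cancel (ψ ^ (j' : ℤ))
    have h2 := (hψ _).mp h1
    obtain ⟨t, ht⟩ := h2
    have : t = 0 := by
      by_contra hne
      have : (m : ℤ) ≤ |(m : ℤ) * t| := by
        rw [abs_mul]
        have h3 : 1 ≤ |t| := Int.one_le_abs hne
        have h4 : |(m : ℤ)| = m := abs_of_nonneg (by positivity)
        rw [h4]
        nlinarith
      rw [← ht] at this
      have h5 : |(j : ℤ) - (j' : ℤ)| < m := by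
        rw [abs_lt]
        constructor <;> omega
      omega
    rw [this, mul_zero] at ht
    omega
  have himg : (Finset.range m).image (fun j : ℕ => ψ ^ (j : ℤ)) = Finset.univ := by
    apply Finset.eq_univ_of_card
    rw [Finset.card_image_of_injOn hinj, Finset.card_range, ← Nat.card_eq_fintype_card,
      afd_card_dual (dh_zpowers_comm σ), Nat.card_zpowers, hσo]
  rw [← himg, Finset.sum_image hinj]

theorem dhW_zero [Finite G] (σ : G) (ψ : ↥(Subgroup.zpowers σ) →* ℂˣ)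
    (χ : Cfsg.IrrCharacter G) : dhW σ ψ χ 0 = 0 := by
  unfold dhW
  have e : ψ ^ (0 : ℤ) = 1 := zpow_zero ψ
  rw [e, sub_self]

theorem dhW_add_period [Finite G] (σ : G) (m : ℕ) (ψ : ↥(Subgroup.zpowers σ) →* ℂˣ)
    (hψ : ∀ k : ℤ, ψ ^ k = 1 ↔ (m : ℤ) ∣ k) (χ : Cfsg.IrrCharacter G) (j : ℤ) :
    dhW σ ψ χ (j + m) = dhW σ ψ χ j := by
  unfold dhW
  have h : ψ ^ (j + (m : ℤ)) = ψ ^ j := by
    have e : ψ ^ (j + (m : ℤ)) = ψ ^ j * ψ ^ (m : ℤ) := zpow_add ψ j m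
    rw [e, (hψ (m : ℤ)).mpr dvd_rfl]
    exact mul_one (ψ ^ j)
  rw [h]

theorem dhW_reflect [Finite G] {m : ℕ} [NeZero m] (hm : 3 ≤ m) (P : Subgroup G)
    (e : P ≃* DihedralGroup m) (σ : G) (hσ : σ ∈ P) (hσo : orderOf σ = m)
    (ψ : ↥(Subgroup.zpowers σ) →* ℂˣ) (hψ : ∀ k : ℤ, ψ ^ k = 1 ↔ (m : ℤ) ∣ k)
    (χ : Cfsg.IrrCharacter G) (j : ℤ) :
    dhW σ ψ χ ((m : ℤ) - j) = dhW σ ψ χ j := by
  have h1 : (m : ℤ) - j = -j + m := by ring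
  rw [h1, dhW_add_period σ m ψ hψ, dhW_neg hm P e σ hσ hσo]

theorem dh_inversion [Finite G] (σ : G) (m : ℕ) (hm0 : m ≠ 0) (hσo : orderOf σ = m)
    (ζ : ℂ) (ψ : ↥(Subgroup.zpowers σ) →* ℂˣ)
    (hψζ : ∀ l : ℤ, ∀ h : σ ^ l ∈ Subgroup.zpowers σ, ((ψ ⟨σ ^ l, h⟩ : ℂˣ) : ℂ) = ζ ^ l)
    (hψ : ∀ k : ℤ, ψ ^ k = 1 ↔ (m : ℤ) ∣ k) (χ : Cfsg.IrrCharacter G) (l : ℕ)
    (hl : ¬ m ∣ l) :
    (χ : G → ℂ) (σ ^ l) = ∑ j ∈ Finset.range m, ((dhW σ ψ χ (j : ℤ) : ℤ) : ℂ) * ζ ^ (j * l) := by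
  classical
  letI : Fintype ↥(Subgroup.zpowers σ) := Fintype.ofFinite _
  letI : Fintype (↥(Subgroup.zpowers σ) →* ℂˣ) := Fintype.ofFinite _
  have hmem : σ ^ l ∈ Subgroup.zpowers σ := Subgroup.pow_mem _ (Subgroup.mem_zpowers σ) l
  have hmem' : σ ^ (l : ℤ) ∈ Subgroup.zpowers σ := by
    rw [zpow_natCast]
    exact hmem
  obtain ⟨y, hy⟩ : ∃ y : ↥(Subgroup.zpowers σ), y = ⟨σ ^ l, hmem⟩ := ⟨_, rfl⟩
  have hy1 : y ≠ 1 := by
    intro h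
    rw [hy] at h
    have h2 : σ ^ l = 1 := congrArg Subtype.val h
    apply hl
    rw [← hσo]
    exact orderOf_dvd_of_pow_eq_one h2
  have hψy : ((ψ y : ℂˣ) : ℂ) = ζ ^ l := by
    have := hψζ (l : ℤ) hmem'
    have hyy : (⟨σ ^ (l : ℤ), hmem'⟩ : ↥(Subgroup.zpowers σ)) = y := by
      rw [hy]
      exact Subtype.ext (zpow_natCast σ l)
    rw [hyy] at this
    rw [this, zpow_natCast]
  have h1 := afMu_inversion (Subgroup.zpowers σ) (dh_zpowers_comm σ) χ y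
  have h2 := afd_sum_chars (dh_zpowers_comm σ) y
  rw [if_neg hy1] at h2
  have h3 : ∑ φ : ↥(Subgroup.zpowers σ) →* ℂˣ,
      ((afMu (Subgroup.zpowers σ) χ φ : ℂ) - (afMu (Subgroup.zpowers σ) χ 1 : ℂ)) *
        ((φ y : ℂˣ) : ℂ) = (χ : G → ℂ) (σ ^ l) := by
    simp only [sub_mul]
    rw [Finset.sum_sub_distrib, h1, ← Finset.mul_sum, h2, mul_zero, sub_zero, hy]
  rw [← h3, dh_sum_homs σ m hm0 hσo ψ hψ]
  apply Finset.sum_congr rfl
  intro j _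
  rw [dhW_cast, MonoidHom.zpow_apply, Units.val_zpow_eq_zpow_val, hψy, zpow_natCast, ← pow_mul,
    mul_comm l j]

end Cfsg.Agent.Lib.Helper24
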