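import Mathlib

set_option autoImplicit false
set_option linter.style.haveILetI false
set_option linter.unusedSectionVars false
set_option linter.unusedVariables false
set_option maxHeartbeats 1600000

namespace Cfsg.Agent.Lib.Helper24

theorem dhl_entry_bound {ι : Type*} (S : Finset ι) (f : ι → ℤ) (k : ℤ) (hk : k ≤ 3)
    (hsum : ∑ x ∈ S, f x * f x = k) (x : ι) (hx : x ∈ S) :
    f x = 0 ∨ f x = 1 ∨ f x = -1 := by
  have h1 : f x * f x ≤ ∑ y ∈ S, f y * f y :=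
    Finset.single_le_sum (f := fun y => f y * f y) (fun y _ => mul_self_nonneg (f y)) hx
  rw [hsum] at h1
  have h2 : f x * f x ≤ 3 := le_trans h1 hk
  have h3 : -1 ≤ f x := by nlinarith
  have h4 : f x ≤ 1 := by nlinarith
  omega

theorem dhl_supp_card {ι : Type*} [DecidableEq ι] (S : Finset ι) (f : ι → ℤ) (k : ℕ)
    (hk : k ≤ 3) (hsum : ∑ x ∈ S, f x * f x = (k : ℤ)) :
    (S.filter (fun x => f x ≠ 0)).card = k := by
  have hk' : (k : ℤ) ≤ 3 := by exact_mod_cast hk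
  have h1 : ∀ x ∈ S, f x * f x = if f x ≠ 0 then 1 else 0 := by
    intro x hx
    rcases dhl_entry_bound S f k hk' hsum x hx with h | h | h <;> rw [h] <;> simp
  rw [Finset.sum_congr rfl h1, Finset.sum_ite, Finset.sum_const_zero, add_zero,
    Finset.sum_const] at hsum
  have h2 : ((S.filter (fun x => f x ≠ 0)).card : ℤ) = k := by
    rw [← hsum]
    simp
  exact_mod_cast h2

theorem dhl_supp2 {ι : Type*} [DecidableEq ι] (S : Finset ι) (f : ι → ℤ)
    (hsum : ∑ x ∈ S, f x * f x = 2) :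
    ∃ a b, a ∈ S ∧ b ∈ S ∧ a ≠ b ∧ (f a = 1 ∨ f a = -1) ∧ (f b = 1 ∨ f b = -1) ∧
      ∀ x ∈ S, x ≠ a → x ≠ b → f x = 0 := by
  have hc := dhl_supp_card S f 2 (by norm_num) (by exact_mod_cast hsum)
  obtain ⟨a, b, hab, hT⟩ := Finset.card_eq_two.mp hc
  have ha : a ∈ S.filter (fun x => f x ≠ 0) := by rw [hT]; simp
  have hb : b ∈ S.filter (fun x => f x ≠ 0) := by rw [hT]; simp
  rw [Finset.mem_filter] at ha hb
  refine ⟨a, b, ha.1, hb.1, hab, ?_, ?_, ?_⟩
  · rcases dhl_entry_bound S f 2 (by norm_num) hsum a ha.1 with h | h | h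
    · exact absurd h ha.2
    · exact Or.inl h
    · exact Or.inr h
  · rcases dhl_entry_bound S f 2 (by norm_num) hsum b hb.1 with h | h | h
    · exact absurd h hb.2
    · exact Or.inl h
    · exact Or.inr h
  · intro x hx hxa hxb
    by_contra hne
    have : x ∈ S.filter (fun x => f x ≠ 0) := Finset.mem_filter.mpr ⟨hx, hne⟩
    rw [hT] at this
    simp at this
    rcases this with h | h
    · exact hxa h
    · exact hxb h

theorem dhl_sum2 {ι : Type*} [DecidableEq ι] (S : Finset ι) (g : ι → ℤ) (a b : ι)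
    (ha : a ∈ S) (hb : b ∈ S) (hab : a ≠ b) (h0 : ∀ x ∈ S, x ≠ a → x ≠ b → g x = 0) :
    ∑ x ∈ S, g x = g a + g b := by
  have hsub : ({a, b} : Finset ι) ⊆ S := by
    intro x hx
    simp at hx
    rcases hx with rfl | rfl
    · exact ha
    · exact hb
  rw [← Finset.sum_subset hsub]
  · rw [Finset.sum_pair hab]
  · intro x hx hxn
    simp at hxn
    exact h0 x hx hxn.1 hxn.2

theorem dhl_sum3 {ι : Type*} [DecidableEq ι] (S : Finset ι) (g : ι → ℤ) (a b c : ι)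
    (ha : a ∈ S) (hb : b ∈ S) (hc : c ∈ S) (hab : a ≠ b) (hac : a ≠ c) (hbc : b ≠ c)
    (h0 : ∀ x ∈ S, x ≠ a → x ≠ b → x ≠ c → g x = 0) :
    ∑ x ∈ S, g x = g a + g b + g c := by
  have hsub : ({a, b, c} : Finset ι) ⊆ S := by
    intro x hx
    simp at hx
    rcases hx with rfl | rfl | rfl
    · exact ha
    · exact hb
    · exact hc
  rw [← Finset.sum_subset hsub]
  · rw [Finset.sum_insert (by simp [hab, hac]), Finset.sum_pair hbc]
    ring
  · intro x hx hxn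
    simp at hxn
    exact h0 x hx hxn.1 hxn.2.1 hxn.2.2

theorem dhl_short_shape {ι : Type*} [DecidableEq ι] (S : Finset ι) (f v : ι → ℤ)
    (hff : ∑ x ∈ S, f x * f x = 2) (hvv : ∑ x ∈ S, v x * v x = 3)
    (hfv : ∑ x ∈ S, f x * v x = 1) :
    ∃ c b, c ∈ S ∧ b ∈ S ∧ c ≠ b ∧ (f c = 1 ∨ f c = -1) ∧ (f b = 1 ∨ f b = -1) ∧
      v c = f c ∧ v b = 0 ∧ ∀ x ∈ S, x ≠ c → x ≠ b → f x = 0 := by
  obtain ⟨a, b, ha, hb, hab, hfa, hfb, h0⟩ := dhl_supp2 S f hff
  have hs : ∑ x ∈ S, f x * v x = f a * v a + f b * v b := by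
    apply dhl_sum2 S (fun x => f x * v x) a b ha hb hab
    intro x hx hxa hxb
    rw [h0 x hx hxa hxb, zero_mul]
  rw [hs] at hfv
  have hva := dhl_entry_bound S v 3 le_rfl hvv a ha
  have hvb := dhl_entry_bound S v 3 le_rfl hvv b hb
  have hcase : (v a = f a ∧ v b = 0) ∨ (v a = 0 ∧ v b = f b) := by
    rcases hfa with h1 | h1 <;> rcases hfb with h2 | h2 <;> rcases hva with h3 | h3 | h3 <;>
      rcases hvb with h4 | h4 | h4 <;> rw [h1, h2, h3, h4] at hfv <;> simp at hfv <;>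
      simp [h1, h2, h3, h4]
  rcases hcase with ⟨h1, h2⟩ | ⟨h1, h2⟩
  · exact ⟨a, b, ha, hb, hab, hfa, hfb, h1, h2, h0⟩
  · exact ⟨b, a, hb, ha, hab.symm, hfb, hfa, h2, h1, fun x hx hxb hxa => h0 x hx hxa hxb⟩

end Cfsg.Agent.Lib.Helper24
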