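import Mathlib
import Cfsg.Agent.Lib.Helper24.DH9

set_option autoImplicit false
set_option linter.style.haveILetI false
set_option linter.unusedSectionVars false
set_option linter.unusedVariables false
set_option maxHeartbeats 1600000

namespace Cfsg.Agent.Lib.Helper24

theorem dhl_pair {ι : Type*} [DecidableEq ι] (S : Finset ι) (f f' v : ι → ℤ)
    (c b c' b' : ι)
    (hc : c ∈ S) (hb : b ∈ S) (hcb : c ≠ b) (hfc : f c = 1 ∨ f c = -1)
    (hfb : f b = 1 ∨ f b = -1)
    (hvc : v c = f c) (hvb : v b = 0) (h0 : ∀ x ∈ S, x ≠ c → x ≠ b → f x = 0)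
    (hc' : c' ∈ S) (hb' : b' ∈ S) (hcb' : c' ≠ b') (hfc' : f' c' = 1 ∨ f' c' = -1)
    (hfb' : f' b' = 1 ∨ f' b' = -1)
    (hvc' : v c' = f' c') (hvb' : v b' = 0) (h0' : ∀ x ∈ S, x ≠ c' → x ≠ b' → f' x = 0)
    (hff' : ∑ x ∈ S, f x * f' x = 1) :
    (c = c' ∧ b ≠ b') ∨ (c ≠ c' ∧ b = b' ∧ f b = f' b') := by
  have hs : ∑ x ∈ S, f x * f' x = f c * f' c + f b * f' b := by
    apply dhl_sum2 S (fun x => f x * f' x) c b hc hb hcb
    intro x hx hxa hxb
    rw [h0 x hx hxa hxb, zero_mul]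
  rw [hs] at hff'
  have hvc0 : v c ≠ 0 := by
    rw [hvc]
    rcases hfc with h | h <;> rw [h] <;> norm_num
  have hvc0' : v c' ≠ 0 := by
    rw [hvc']
    rcases hfc' with h | h <;> rw [h] <;> norm_num
  have hcb'' : c ≠ b' := by
    intro h
    rw [h] at hvc0
    exact hvc0 hvb'
  have hbc'' : b ≠ c' := by
    intro h
    rw [← h] at hvc0'
    exact hvc0' hvb
  by_cases h1 : c = c'
  · by_cases h2 : b = b'
    · exfalso
      have e1 : f' c = f c := by
        rw [h1, ← hvc', ← h1, hvc]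
      rw [e1, h2] at hff'
      rw [h2] at hfb
      rcases hfc with h | h <;> rcases hfb with h' | h' <;> rcases hfb' with h'' | h'' <;>
        rw [h, h', h''] at hff' <;> norm_num at hff'
    · exact Or.inl ⟨h1, h2⟩
  · by_cases h2 : b = b'
    · refine Or.inr ⟨h1, h2, ?_⟩
      have e1 : f' c = 0 := h0' c hc h1 hcb''
      rw [e1, mul_zero, zero_add, h2] at hff'
      rw [h2] at hfb ⊢
      rcases hfb with h' | h' <;> rcases hfb' with h'' | h'' <;>
        rw [h', h''] at hff' <;> norm_num at hff' <;> rw [h', h'']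
    · exfalso
      have e1 : f' c = 0 := h0' c hc h1 hcb''
      have e2 : f' b = 0 := h0' b hb hbc'' h2
      rw [e1, e2] at hff'
      norm_num at hff'

theorem dh_lattice {ι J : Type*} [DecidableEq ι] [Nonempty J] (B : Finset ι) (o : ι)
    (ho : o ∈ B) (d : ι → ℤ) (hd : ∀ x ∈ B, 0 < d x) (hdo : d o = 1)
    (w : J → ι → ℤ) (v : ι → ℤ)
    (hJ : ∀ j j' : J, j ≠ j' → ∃ j'', j'' ≠ j ∧ j'' ≠ j')
    (hwo : ∀ j, w j o = -1) (hvo : v o = -1)
    (hww : ∀ j, ∑ x ∈ B, w j x * w j x = 3)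
    (hww' : ∀ j j', j ≠ j' → ∑ x ∈ B, w j x * w j' x = 2)
    (hwv : ∀ j, ∑ x ∈ B, w j x * v x = 2)
    (hvv : ∑ x ∈ B, v x * v x = 4)
    (hwd : ∀ j, ∑ x ∈ B, w j x * d x = 0)
    (hvd : ∑ x ∈ B, v x * d x = 0) :
    ∃ (s γ δ : ℤ) (c x2 x3 : ι) (b : J → ι), (s = 1 ∨ s = -1) ∧ (γ = 1 ∨ γ = -1) ∧
      (δ = 1 ∨ δ = -1) ∧ c ∈ B ∧ x2 ∈ B ∧ x3 ∈ B ∧ (∀ j, b j ∈ B) ∧ Function.Injective b ∧
      c ≠ o ∧ x2 ≠ o ∧ x3 ≠ o ∧ c ≠ x2 ∧ c ≠ x3 ∧ x2 ≠ x3 ∧
      (∀ j, b j ≠ o ∧ b j ≠ c ∧ b j ≠ x2 ∧ b j ≠ x3) ∧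
      (∀ j, ∀ x ∈ B, w j x =
        if x = o then -1 else if x = c then s else if x = b j then -s else 0) ∧
      (∀ x ∈ B, v x =
        if x = o then -1 else if x = c then s else if x = x2 then γ else
          if x = x3 then δ else 0) := by
  classical
  obtain ⟨S, hS⟩ : ∃ S : Finset ι, S = B.erase o := ⟨_, rfl⟩
  have hsplit : ∀ g : ι → ℤ, ∑ x ∈ B, g x = g o + ∑ x ∈ S, g x := by
    intro g
    rw [hS, Finset.add_sum_erase B g ho]
  have hSB : ∀ x, x ∈ S ↔ x ≠ o ∧ x ∈ B := by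
    intro x
    rw [hS, Finset.mem_erase]
  have hwwS : ∀ j, ∑ x ∈ S, w j x * w j x = 2 := by
    intro j
    have := hww j
    rw [hsplit, hwo] at this
    linarith
  have hwwS' : ∀ j j', j ≠ j' → ∑ x ∈ S, w j x * w j' x = 1 := by
    intro j j' hjj
    have := hww' j j' hjj
    rw [hsplit, hwo, hwo] at this
    linarith
  have hwvS : ∀ j, ∑ x ∈ S, w j x * v x = 1 := by
    intro j
    have := hwv j
    rw [hsplit, hwo, hvo] at this
    linarith
  have hvvS : ∑ x ∈ S, v x * v x = 3 := by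
    have := hvv
    rw [hsplit, hvo] at this
    linarith
  have hwdS : ∀ j, ∑ x ∈ S, w j x * d x = 1 := by
    intro j
    have := hwd j
    rw [hsplit, hwo, hdo] at this
    linarith
  have hvdS : ∑ x ∈ S, v x * d x = 1 := by
    have := hvd
    rw [hsplit, hvo, hdo] at this
    linarith
  have shape := fun j => dhl_short_shape S (w j) v (hwwS j) hvvS (hwvS j)
  choose c b hc hb hcb hfc hfb hvc hvb h0 using shape
  have pair : ∀ j j', j ≠ j' →
      (c j = c j' ∧ b j ≠ b j') ∨ (c j ≠ c j' ∧ b j = b j' ∧ w j (b j) = w j' (b j')) := by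
    intro j j' hjj
    exact dhl_pair S (w j) (w j') v (c j) (b j) (c j') (b j') (hc j) (hb j) (hcb j) (hfc j)
      (hfb j) (hvc j) (hvb j) (h0 j) (hc j') (hb j') (hcb j') (hfc j') (hfb j') (hvc j')
      (hvb j') (h0 j') (hwwS' j j' hjj)
  have hdeg : ∀ j, w j (c j) * d (c j) + w j (b j) * d (b j) = 1 := by
    intro j
    rw [← hwdS j]
    symm
    apply dhl_sum2 S (fun x => w j x * d x) (c j) (b j) (hc j) (hb j) (hcb j)
    intro x hx hxa hxb
    rw [h0 j x hx hxa hxb, zero_mul]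
  have hvcard : (S.filter (fun x => v x ≠ 0)).card = 3 :=
    dhl_supp_card S v 3 le_rfl (by exact_mod_cast hvvS)
  have hvc0 : ∀ j, v (c j) ≠ 0 := by
    intro j
    rw [hvc]
    rcases hfc j with h | h <;> rw [h] <;> norm_num
  have hcc : ∀ j j', c j = c j' := by
    by_contra hcon
    push Not at hcon
    obtain ⟨j, j', hne⟩ := hcon
    have hjj : j ≠ j' := by
      rintro rfl
      exact hne rfl
    obtain ⟨j'', hj1, hj2⟩ := hJ j j' hjj
    rcases pair j j' hjj with ⟨h, -⟩ | ⟨-, hb1, hs1⟩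
    · exact hne h
    rcases pair j j'' hj1.symm with ⟨h2, hb2⟩ | ⟨hc2, hb2, hs2⟩
    · rcases pair j' j'' hj2.symm with ⟨h3, hb3⟩ | ⟨hc3, hb3, hs3⟩
      · exact hne (h2.trans h3.symm)
      · exact hb2 (hb1.trans hb3)
    · rcases pair j' j'' hj2.symm with ⟨h3, hb3⟩ | ⟨hc3, hb3, hs3⟩
      · exact hb3 (hb1.symm.trans hb2)
      · have hsub : ({c j, c j', c j''} : Finset ι) ⊆ S.filter (fun x => v x ≠ 0) := by
          intro x hx
          simp only [Finset.mem_insert, Finset.mem_singleton] at hx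
          rcases hx with rfl | rfl | rfl
          · exact Finset.mem_filter.mpr ⟨hc j, hvc0 j⟩
          · exact Finset.mem_filter.mpr ⟨hc j', hvc0 j'⟩
          · exact Finset.mem_filter.mpr ⟨hc j'', hvc0 j''⟩
        have hcard3 : ({c j, c j', c j''} : Finset ι).card = 3 := by
          rw [Finset.card_insert_of_notMem (by simp [hne, hc2]), Finset.card_pair hc3]
        have heq : ({c j, c j', c j''} : Finset ι) = S.filter (fun x => v x ≠ 0) :=
          Finset.eq_of_subset_of_card_le hsub (by rw [hcard3, hvcard])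
        have hv0 : ∀ x ∈ S, x ≠ c j → x ≠ c j' → x ≠ c j'' → v x * d x = 0 := by
          intro x hx h1 h2 h3
          by_contra hh
          have hvx : v x ≠ 0 := by
            intro h
            apply hh
            rw [h, zero_mul]
          have : x ∈ S.filter (fun x => v x ≠ 0) := Finset.mem_filter.mpr ⟨hx, hvx⟩
          rw [← heq] at this
          simp only [Finset.mem_insert, Finset.mem_singleton] at this
          rcases this with h | h | h
          · exact h1 h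
          · exact h2 h
          · exact h3 h
        have hvsum := dhl_sum3 S (fun x => v x * d x) (c j) (c j') (c j'') (hc j) (hc j')
          (hc j'') hne hc2 hc3 hv0
        rw [hvdS] at hvsum
        have e1 := hdeg j
        have e2 := hdeg j'
        have e3 := hdeg j''
        rw [← hvc] at e1 e2 e3
        rw [← hs2, ← hb2] at e3
        rw [← hs1, ← hb1] at e2
        have hdb : 0 < d (b j) := hd _ ((hSB _).mp (hb j)).2
        rcases hfb j with h | h <;> rw [h] at e1 e2 e3 <;> omega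
  obtain ⟨j₀⟩ := ‹Nonempty J›
  obtain ⟨c₀, hc₀⟩ : ∃ c₀, c₀ = c j₀ := ⟨_, rfl⟩
  have hcj : ∀ j, c j = c₀ := fun j => (hcc j j₀).trans hc₀.symm
  obtain ⟨s, hs⟩ : ∃ s, s = v c₀ := ⟨_, rfl⟩
  have hws : ∀ j, w j c₀ = s := by
    intro j
    rw [hs, ← hcj j, hvc]
  have hs1 : s = 1 ∨ s = -1 := by
    rw [← hws j₀, ← hcj j₀]
    exact hfc j₀
  have hbinj : Function.Injective b := by
    intro j j' hbb
    by_contra hjj
    rcases pair j j' hjj with ⟨-, h⟩ | ⟨h, -, -⟩
    · exact h hbb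
    · exact h (hcc j j')
  have hc₀S : c₀ ∈ S := by
    rw [hc₀]
    exact hc j₀
  have hc₀f : c₀ ∈ S.filter (fun x => v x ≠ 0) := by
    refine Finset.mem_filter.mpr ⟨hc₀S, ?_⟩
    rw [hc₀]
    exact hvc0 j₀
  have hcard2 : ((S.filter (fun x => v x ≠ 0)).erase c₀).card = 2 := by
    rw [Finset.card_erase_of_mem hc₀f, hvcard]
  obtain ⟨x2, x3, hx23, hT⟩ := Finset.card_eq_two.mp hcard2
  have hx2m : x2 ∈ (S.filter (fun x => v x ≠ 0)).erase c₀ := by rw [hT]; simp
  have hx3m : x3 ∈ (S.filter (fun x => v x ≠ 0)).erase c₀ := by rw [hT]; simp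
  rw [Finset.mem_erase, Finset.mem_filter] at hx2m hx3m
  have hvx2 : v x2 = 1 ∨ v x2 = -1 := by
    rcases dhl_entry_bound S v 3 le_rfl hvvS x2 hx2m.2.1 with h | h | h
    · exact absurd h hx2m.2.2
    · exact Or.inl h
    · exact Or.inr h
  have hvx3 : v x3 = 1 ∨ v x3 = -1 := by
    rcases dhl_entry_bound S v 3 le_rfl hvvS x3 hx3m.2.1 with h | h | h
    · exact absurd h hx3m.2.2
    · exact Or.inl h
    · exact Or.inr h
  have hvrest : ∀ x ∈ S, x ≠ c₀ → x ≠ x2 → x ≠ x3 → v x = 0 := by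
    intro x hx h1 h2 h3
    by_contra hh
    have : x ∈ (S.filter (fun x => v x ≠ 0)).erase c₀ :=
      Finset.mem_erase.mpr ⟨h1, Finset.mem_filter.mpr ⟨hx, hh⟩⟩
    rw [hT] at this
    simp only [Finset.mem_insert, Finset.mem_singleton] at this
    rcases this with h | h
    · exact h2 h
    · exact h3 h
  have hwb : ∀ j, w j (b j) = -s := by
    intro j
    have e1 := hdeg j
    rw [hcj j, hws j] at e1
    have hd1 : 0 < d c₀ := hd _ ((hSB _).mp hc₀S).2
    have hd2 : 0 < d (b j) := hd _ ((hSB _).mp (hb j)).2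
    rcases hs1 with h | h <;> rcases hfb j with h' | h' <;> rw [h] at e1 ⊢ <;>
      rw [h'] at e1 ⊢ <;> first | rfl | omega
  refine ⟨s, v x2, v x3, c₀, x2, x3, b, hs1, hvx2, hvx3, ((hSB _).mp hc₀S).2,
    ((hSB _).mp hx2m.2.1).2, ((hSB _).mp hx3m.2.1).2, fun j => ((hSB _).mp (hb j)).2, hbinj,
    ((hSB _).mp hc₀S).1, ((hSB _).mp hx2m.2.1).1, ((hSB _).mp hx3m.2.1).1,
    fun h => hx2m.1 h.symm, fun h => hx3m.1 h.symm, hx23, ?_, ?_, ?_⟩
  · intro j
    refine ⟨((hSB _).mp (hb j)).1, ?_, ?_, ?_⟩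
    · rw [← hcj j]
      exact (hcb j).symm
    · intro h
      apply hx2m.2.2
      rw [← h]
      exact hvb j
    · intro h
      apply hx3m.2.2
      rw [← h]
      exact hvb j
  · intro j x hx
    by_cases h1 : x = o
    · rw [if_pos h1, h1, hwo]
    · rw [if_neg h1]
      by_cases h2 : x = c₀
      · rw [if_pos h2, h2, hws]
      · rw [if_neg h2]
        by_cases h3 : x = b j
        · rw [if_pos h3, h3, hwb]
        · rw [if_neg h3]
          apply h0 j x ((hSB x).mpr ⟨h1, hx⟩) _ h3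
          rw [hcj j]
          exact h2
  · intro x hx
    by_cases h1 : x = o
    · rw [if_pos h1, h1, hvo]
    · rw [if_neg h1]
      by_cases h2 : x = c₀
      · rw [if_pos h2, h2, hs]
      · rw [if_neg h2]
        by_cases h3 : x = x2
        · rw [if_pos h3, h3]
        · rw [if_neg h3]
          by_cases h4 : x = x3
          · rw [if_pos h4, h4]
          · rw [if_neg h4]
            exact hvrest x ((hSB x).mpr ⟨h1, hx⟩) h2 h3 h4

end Cfsg.Agent.Lib.Helper24
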