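import Mathlib
import Cfsg.Agent.Lib.Helper24.DH8
import Cfsg.Agent.Lib.Helper24.DH9b

set_option autoImplicit false
set_option linter.style.haveILetI false
set_option linter.unusedSectionVars false
set_option linter.unusedVariables false
set_option maxHeartbeats 1600000

namespace Cfsg.Agent.Lib.Helper24

open scoped ComplexConjugate
open Cfsg.Agent.Lib.Helper25 Cfsg.Agent.Lib.helper7 Cfsg.Agent.Lib.Helper29

variable {G : Type*} [Group G]

theorem dh_int_not_dvd (m : ℕ) (k : ℤ) (h1 : 0 < k) (h2 : k < m) : ¬ (m : ℤ) ∣ k :=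
  fun hd => absurd (Int.le_of_dvd h1 hd) (not_le.mpr h2)

theorem dh_int_not_dvd_sub (m : ℕ) (a b : ℤ) (hab : a ≠ b) (ha0 : 0 ≤ a) (ha : a < m)
    (hb0 : 0 ≤ b) (hb : b < m) : ¬ (m : ℤ) ∣ a - b := by
  rcases lt_or_gt_of_ne hab with h | h
  · intro hd
    have h3 : (m : ℤ) ∣ b - a := (dvd_sub_comm).mp hd
    exact dh_int_not_dvd m (b - a) (by omega) (by omega) h3
  · exact dh_int_not_dvd m (a - b) (by omega) (by omega)

theorem dh_cover [Finite G] {h : ℕ} (hh : 2 ≤ h) [NeZero (2 * h)] (P : Sylow 2 G)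
    (e : (P : Subgroup G) ≃* DihedralGroup (2 * h)) (σ : G) (hσ : σ ∈ (P : Subgroup G))
    (hσo : orderOf σ = 2 * h) (M : Ideal Cfsg.AlgInt) (hM : Cfsg.IsPModular 2 M)
    (ζ : ℂ) (ψ : ↥(Subgroup.zpowers σ) →* ℂˣ)
    (hψζ : ∀ l : ℤ, ∀ h : σ ^ l ∈ Subgroup.zpowers σ, ((ψ ⟨σ ^ l, h⟩ : ℂˣ) : ℂ) = ζ ^ l)
    (hψ : ∀ k : ℤ, ψ ^ k = 1 ↔ ((2 * h : ℕ) : ℤ) ∣ k)
    (χ : Cfsg.IrrCharacter G) (hχ : χ ∈ Cfsg.principalBlock M G) :
    (∃ j : Fin (h - 1), dhW σ ψ χ (((j : ℕ) : ℤ) + 1) ≠ 0) ∨ dhW σ ψ χ (h : ℤ) ≠ 0 := by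
  classical
  haveI : Fact (Nat.Prime 2) := ⟨Nat.prime_two⟩
  by_contra hcon
  push Not at hcon
  obtain ⟨h1, h2⟩ := hcon
  have hm : 3 ≤ 2 * h := by omega
  have hlow : ∀ a : ℕ, 1 ≤ a → a ≤ h → dhW σ ψ χ (a : ℤ) = 0 := by
    intro a ha1 hah
    rcases Nat.lt_or_ge a h with hlt | hge
    · have := h1 ⟨a - 1, by omega⟩
      simp only at this
      have e1 : (((a - 1 : ℕ) : ℤ) + 1) = (a : ℤ) := by omega
      rwa [e1] at this
    · have : a = h := le_antisymm hah hge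
      rw [this]
      exact h2
  have hall : ∀ a ∈ Finset.range (2 * h), dhW σ ψ χ (a : ℤ) = 0 := by
    intro a ha
    rw [Finset.mem_range] at ha
    rcases Nat.eq_zero_or_pos a with h0 | hpos
    · rw [h0]
      exact dhW_zero σ ψ χ
    · rcases Nat.lt_or_ge h a with hlt | hge
      · have hr := dhW_reflect hm (P : Subgroup G) e σ hσ hσo ψ hψ χ ((2 * h - a : ℕ) : ℤ)
        have e1 : ((2 * h : ℕ) : ℤ) - ((2 * h - a : ℕ) : ℤ) = (a : ℤ) := by omega
        rw [e1] at hr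
        rw [hr]
        exact hlow _ (by omega) (by omega)
      · exact hlow a hpos hge
  have hinv := dh_inversion σ (2 * h) (by omega) hσo ζ ψ hψζ hψ χ h
    (fun hd => by have := Nat.le_of_dvd (by omega) hd; omega)
  rw [Finset.sum_eq_zero (fun a ha => by rw [hall a ha]; simp)] at hinv
  have hz2 : σ ^ h * σ ^ h = 1 := by
    rw [← pow_add, ← two_mul, ← hσo, pow_orderOf_eq_one]
  have hPle : (P : Subgroup G) ≤ Subgroup.centralizer ({σ ^ h} : Set G) := by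
    intro t ht
    rw [Subgroup.mem_centralizer_iff]
    intro y hy
    rw [Set.mem_singleton_iff] at hy
    rw [hy]
    exact (dh_invol_central hm (P : Subgroup G) e σ hσ hσo (σ ^ h)
      (Subgroup.pow_mem _ (Subgroup.mem_zpowers σ) h) hz2 t ht).symm
  have hidx : ¬ 2 ∣ (Subgroup.centralizer ({σ ^ h} : Set G)).index := by
    intro hd
    exact P.not_dvd_index (dvd_trans hd (Subgroup.index_dvd_of_le hPle))
  exact dh_nonvanish M hM χ hχ (σ ^ h) hidx hinv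

theorem dh_fin_third (k : ℕ) (j j' : Fin k) (hjj : j ≠ j') (hk : 3 ≤ k) :
    ∃ j'' : Fin k, j'' ≠ j ∧ j'' ≠ j' := by
  have hv : (j : ℕ) ≠ (j' : ℕ) := fun h => hjj (Fin.ext h)
  by_cases h0 : (j : ℕ) ≠ 0 ∧ (j' : ℕ) ≠ 0
  · refine ⟨⟨0, by omega⟩, ?_, ?_⟩
    · intro h
      exact h0.1 (congrArg Fin.val h).symm
    · intro h
      exact h0.2 (congrArg Fin.val h).symm
  · by_cases h1 : (j : ℕ) ≠ 1 ∧ (j' : ℕ) ≠ 1
    · refine ⟨⟨1, by omega⟩, ?_, ?_⟩
      · intro h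
        exact h1.1 (congrArg Fin.val h).symm
      · intro h
        exact h1.2 (congrArg Fin.val h).symm
    · refine ⟨⟨2, by omega⟩, ?_, ?_⟩
      · intro h
        have := congrArg Fin.val h
        simp only at this
        omega
      · intro h
        have := congrArg Fin.val h
        simp only at this
        omega

theorem dh_struct [Finite G] [DecidableEq (Cfsg.IrrCharacter G)] {h : ℕ} (hh : 2 ≤ h)
    (hh3 : h ≠ 3) [NeZero (2 * h)] (P : Sylow 2 G)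
    (e : (P : Subgroup G) ≃* DihedralGroup (2 * h)) (σ : G) (hσ : σ ∈ (P : Subgroup G))
    (hσo : orderOf σ = 2 * h) (M : Ideal Cfsg.AlgInt) (hM : Cfsg.IsPModular 2 M)
    (Bf : Finset (Cfsg.IrrCharacter G)) (hBf : ∀ χ, χ ∈ Bf ↔ χ ∈ Cfsg.principalBlock M G)
    (ψ : ↥(Subgroup.zpowers σ) →* ℂˣ)
    (hψ : ∀ k : ℤ, ψ ^ k = 1 ↔ ((2 * h : ℕ) : ℤ) ∣ k) :
    ∃ (s γ δ : ℤ) (c x2 x3 : Cfsg.IrrCharacter G) (b : Fin (h - 1) → Cfsg.IrrCharacter G),
      (s = 1 ∨ s = -1) ∧ (γ = 1 ∨ γ = -1) ∧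
      (δ = 1 ∨ δ = -1) ∧ c ∈ Bf ∧ x2 ∈ Bf ∧ x3 ∈ Bf ∧ (∀ j, b j ∈ Bf) ∧ Function.Injective b ∧
      c ≠ trivIrr G ∧ x2 ≠ trivIrr G ∧ x3 ≠ trivIrr G ∧ c ≠ x2 ∧ c ≠ x3 ∧ x2 ≠ x3 ∧
      (∀ j, b j ≠ trivIrr G ∧ b j ≠ c ∧ b j ≠ x2 ∧ b j ≠ x3) ∧
      (∀ j : Fin (h - 1), ∀ x ∈ Bf, dhW σ ψ x (((j : ℕ) : ℤ) + 1) =
        if x = trivIrr G then -1 else if x = c then s else if x = b j then -s else 0) ∧
      (∀ x ∈ Bf, dhW σ ψ x (h : ℤ) =
        if x = trivIrr G then -1 else if x = c then s else if x = x2 then γ else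
          if x = x3 then δ else 0) := by
  haveI : Fact (Nat.Prime 2) := ⟨Nat.prime_two⟩
  letI : Fintype G := Fintype.ofFinite G
  letI : Fintype (Cfsg.IrrCharacter G) := Fintype.ofFinite _
  have hPr : M.IsPrime := h7_isPrime_of_isPModular hM
  have hm : 3 ≤ 2 * h := by omega
  haveI : Nonempty (Fin (h - 1)) := ⟨⟨0, by omega⟩⟩
  have htriv : trivIrr G ∈ Bf := (hBf _).mpr (h7_sameBlock_refl hPr _)
  have hσ2 : ∃ a : ℕ, orderOf σ = 2 ^ a := by
    obtain ⟨a, ha⟩ := dh_order_two_pow P σ hσ hσo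
    exact ⟨a, by rw [hσo, ha]⟩
  have hdeg : ∀ k : ℤ, ∑ x ∈ Bf, dhW σ ψ x k * (Cfsg.charDegree (x : G → ℂ) : ℤ) = 0 := by
    intro k
    have h1 := dh_orth_reg σ hσ2 M hM Bf hBf ψ k 1 (by rw [orderOf_one]; norm_num)
    have h2 : ((∑ x ∈ Bf, dhW σ ψ x k * (Cfsg.charDegree (x : G → ℂ) : ℤ) : ℤ) : ℂ) = 0 := by
      rw [← h1]
      push_cast
      apply Finset.sum_congr rfl
      intro x _
      rw [pq_degree_cast]
    exact_mod_cast h2
  have hjlt : ∀ j : Fin (h - 1), ((j : ℕ) : ℤ) + 1 < h := by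
    intro j
    have := j.2
    omega
  have hnd : ∀ k : ℤ, 0 < k → k < 2 * h → ¬ ((2 * h : ℕ) : ℤ) ∣ k := by
    intro k hk1 hk2
    exact dh_int_not_dvd (2 * h) k hk1 (by push_cast; exact hk2)
  apply dh_lattice Bf (trivIrr G) htriv (fun x => (Cfsg.charDegree (x : G → ℂ) : ℤ))
    (fun x _ => by exact_mod_cast (charDegree_irr x).2)
    (by
      have h1 := (charDegree_irr (trivIrr G)).1
      rw [trivIrr_apply] at h1
      exact_mod_cast h1)
    (fun (j : Fin (h - 1)) x => dhW σ ψ x (((j : ℕ) : ℤ) + 1)) (fun x => dhW σ ψ x (h : ℤ))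
  · intro j j' hjj
    apply dh_fin_third (h - 1) j j' hjj
    by_contra hlt
    push Not at hlt
    have hh2 : h = 2 := by
      have := j.2
      have := j'.2
      have hv : (j : ℕ) ≠ (j' : ℕ) := fun h => hjj (Fin.ext h)
      omega
    have := j.2
    have := j'.2
    have hv : (j : ℕ) ≠ (j' : ℕ) := fun h => hjj (Fin.ext h)
    omega
  · intro j
    exact dhW_triv σ (2 * h) ψ hψ _ (hnd _ (by positivity) (by have := hjlt j; omega))
  · exact dhW_triv σ (2 * h) ψ hψ _ (hnd _ (by omega) (by omega))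
  · intro j
    have hg := dh_gram_eval hm P e σ hσ hσo M hM Bf hBf ψ hψ (((j : ℕ) : ℤ) + 1)
      (((j : ℕ) : ℤ) + 1)
    have := hjlt j
    rw [if_pos (by simp), if_neg (hnd _ (by positivity) (by omega)),
      if_neg (hnd _ (by positivity) (by omega))] at hg
    rw [hg]
    norm_num
  · intro j j' hjj
    have hg := dh_gram_eval hm P e σ hσ hσo M hM Bf hBf ψ hψ (((j : ℕ) : ℤ) + 1)
      (((j' : ℕ) : ℤ) + 1)
    have := hjlt j
    have := hjlt j'
    have hv : ((j : ℕ) : ℤ) ≠ ((j' : ℕ) : ℤ) := by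
      intro h
      apply hjj
      apply Fin.ext
      exact_mod_cast h
    rw [if_neg (by
        have := dh_int_not_dvd_sub (2 * h) (((j : ℕ) : ℤ) + 1) (((j' : ℕ) : ℤ) + 1)
          (by omega) (by positivity) (by push_cast; omega) (by positivity) (by push_cast; omega)
        exact this),
      if_neg (hnd _ (by positivity) (by omega)),
      if_neg (hnd _ (by positivity) (by omega)), if_neg (hnd _ (by positivity) (by omega))] at hg
    rw [hg]
    norm_num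
  · intro j
    have hg := dh_gram_eval hm P e σ hσ hσo M hM Bf hBf ψ hψ (((j : ℕ) : ℤ) + 1) (h : ℤ)
    have := hjlt j
    rw [if_neg (by
        have := dh_int_not_dvd_sub (2 * h) (((j : ℕ) : ℤ) + 1) (h : ℤ)
          (by omega) (by positivity) (by push_cast; omega) (by positivity) (by push_cast; omega)
        exact this),
      if_neg (hnd _ (by positivity) (by omega)),
      if_neg (hnd _ (by positivity) (by omega)), if_neg (hnd _ (by omega) (by omega))] at hg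
    rw [hg]
    norm_num
  · have hg := dh_gram_eval hm P e σ hσ hσo M hM Bf hBf ψ hψ (h : ℤ) (h : ℤ)
    rw [if_pos (by simp), if_pos (by push_cast; exact ⟨1, by ring⟩),
      if_neg (hnd _ (by omega) (by omega))] at hg
    rw [hg]
    norm_num
  · intro j
    exact hdeg _
  · exact hdeg _

end Cfsg.Agent.Lib.Helper24
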