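import Mathlib
import Cfsg.Agent.Lib.Helper24.DH10

set_option autoImplicit false
set_option linter.style.haveILetI false
set_option linter.unusedSectionVars false
set_option linter.unusedVariables false
set_option maxHeartbeats 1600000

namespace Cfsg.Agent.Lib.Helper24

open scoped ComplexConjugate
open Cfsg.Agent.Lib.Helper25 Cfsg.Agent.Lib.helper7 Cfsg.Agent.Lib.Helper29

variable {G : Type*} [Group G]

theorem dh_zeta_half {h : ℕ} (hh : 1 ≤ h) (ζ : ℂ) (hζ : IsPrimitiveRoot ζ (2 * h)) :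
    ζ ^ h = -1 := by
  have h1 : IsPrimitiveRoot (ζ ^ h) 2 :=
    hζ.pow (by omega) (by ring)
  exact h1.eq_neg_one_of_two_right

theorem dh_inversion_folded [Finite G] {h : ℕ} (hh : 2 ≤ h) [NeZero (2 * h)] (P : Subgroup G)
    (e : P ≃* DihedralGroup (2 * h)) (σ : G) (hσ : σ ∈ P) (hσo : orderOf σ = 2 * h)
    (ζ : ℂ) (hζ : IsPrimitiveRoot ζ (2 * h)) (ψ : ↥(Subgroup.zpowers σ) →* ℂˣ)
    (hψζ : ∀ l : ℤ, ∀ h : σ ^ l ∈ Subgroup.zpowers σ, ((ψ ⟨σ ^ l, h⟩ : ℂˣ) : ℂ) = ζ ^ l)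
    (hψ : ∀ k : ℤ, ψ ^ k = 1 ↔ ((2 * h : ℕ) : ℤ) ∣ k)
    (χ : Cfsg.IrrCharacter G) (l : ℕ) (hl : ¬ 2 * h ∣ l) :
    (χ : G → ℂ) (σ ^ l) =
      ∑ j : Fin (h - 1), ((dhW σ ψ χ (((j : ℕ) : ℤ) + 1) : ℤ) : ℂ) *
        (ζ ^ (((j : ℕ) + 1) * l) + (ζ ^ (((j : ℕ) + 1) * l))⁻¹) +
      ((dhW σ ψ χ (h : ℤ) : ℤ) : ℂ) * (-1) ^ l := by
  classical
  have hm : 3 ≤ 2 * h := by omega
  have hζ0 : ζ ≠ 0 := hζ.ne_zero (by omega)
  rw [dh_inversion σ (2 * h) (by omega) hσo ζ ψ hψζ hψ χ l hl]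
  obtain ⟨f, hf⟩ : ∃ f : ℕ → ℂ,
      f = fun a : ℕ => ((dhW σ ψ χ (a : ℤ) : ℤ) : ℂ) * ζ ^ (a * l) := ⟨_, rfl⟩
  have hfa : ∀ a : ℕ, ((dhW σ ψ χ (a : ℤ) : ℤ) : ℂ) * ζ ^ (a * l) = f a := by
    intro a
    rw [hf]
  simp only [hfa]
  rw [Finset.range_eq_Ico, ← Finset.sum_Ico_consecutive f (Nat.zero_le 1) (by omega : 1 ≤ 2 * h),
    ← Finset.sum_Ico_consecutive f (by omega : 1 ≤ h) (by omega : h ≤ 2 * h),
    ← Finset.sum_Ico_consecutive f (by omega : h ≤ h + 1) (by omega : h + 1 ≤ 2 * h)]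
  have h0 : ∑ a ∈ Finset.Ico 0 1, f a = 0 := by
    have e1 : Finset.Ico 0 1 = {0} := by
      ext x
      simp
    rw [e1, Finset.sum_singleton, hf]
    simp only
    rw [Nat.cast_zero, dhW_zero]
    simp
  have hmid : ∑ a ∈ Finset.Ico h (h + 1), f a = ((dhW σ ψ χ (h : ℤ) : ℤ) : ℂ) * (-1) ^ l := by
    rw [Nat.Ico_succ_singleton, Finset.sum_singleton, hf]
    simp only
    rw [pow_mul, dh_zeta_half (by omega) ζ hζ]
  have hrefl : ∑ a ∈ Finset.Ico (h + 1) (2 * h), f a = ∑ j ∈ Finset.Ico 1 h, f (2 * h - j) := by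
    rw [Finset.sum_Ico_reflect f 1 (by omega : h ≤ 2 * h + 1)]
    have e1 : 2 * h + 1 - h = h + 1 := by omega
    have e2 : 2 * h + 1 - 1 = 2 * h := by omega
    rw [e1, e2]
  have hfrefl : ∀ j ∈ Finset.Ico 1 h,
      f (2 * h - j) = ((dhW σ ψ χ (j : ℤ) : ℤ) : ℂ) * (ζ ^ (j * l))⁻¹ := by
    intro j hj
    rw [Finset.mem_Ico] at hj
    rw [hf]
    simp only
    have hr := dhW_reflect hm P e σ hσ hσo ψ hψ χ (j : ℤ)
    have e1 : ((2 * h - j : ℕ) : ℤ) = ((2 * h : ℕ) : ℤ) - (j : ℤ) := by omega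
    rw [e1, hr]
    congr 1
    apply eq_inv_of_mul_eq_one_left
    rw [← pow_add, ← add_mul, Nat.sub_add_cancel (by omega), pow_mul, hζ.pow_eq_one, one_pow]
  rw [h0, hmid, hrefl, Finset.sum_congr rfl hfrefl, zero_add]
  have hcomb : ∑ a ∈ Finset.Ico 1 h, f a +
      (((dhW σ ψ χ (h : ℤ) : ℤ) : ℂ) * (-1) ^ l +
        ∑ j ∈ Finset.Ico 1 h, ((dhW σ ψ χ (j : ℤ) : ℤ) : ℂ) * (ζ ^ (j * l))⁻¹) =
      ∑ j ∈ Finset.Ico 1 h, ((dhW σ ψ χ (j : ℤ) : ℤ) : ℂ) * (ζ ^ (j * l) + (ζ ^ (j * l))⁻¹) +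
        ((dhW σ ψ χ (h : ℤ) : ℤ) : ℂ) * (-1) ^ l := by
    rw [hf]
    simp only [mul_add, Finset.sum_add_distrib]
    ring
  rw [hcomb]
  congr 1
  rw [Finset.sum_Ico_eq_sum_range, Finset.sum_range]
  apply Finset.sum_congr rfl
  intro j _
  have e1 : ((1 + (j : ℕ) : ℕ) : ℤ) = ((j : ℕ) : ℤ) + 1 := by
    push_cast
    ring
  have e2 : 1 + (j : ℕ) = (j : ℕ) + 1 := by ring
  rw [e1, e2]

end Cfsg.Agent.Lib.Helper24
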