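import Mathlib
import Cfsg.Agent.Lib.Helper24.DH11

set_option autoImplicit false
set_option linter.style.haveILetI false
set_option linter.unusedSectionVars false
set_option linter.unusedVariables false
set_option maxHeartbeats 1600000

namespace Cfsg.Agent.Lib.Helper24

open scoped ComplexConjugate
open Cfsg.Agent.Lib.Helper25 Cfsg.Agent.Lib.helper7 Cfsg.Agent.Lib.Helper29

variable {G : Type*} [Group G]

theorem dhl_sum3C {ι A : Type*} [DecidableEq ι] [AddCommMonoid A] (S : Finset ι) (g : ι → A)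
    (a b c : ι)
    (ha : a ∈ S) (hb : b ∈ S) (hc : c ∈ S) (hab : a ≠ b) (hac : a ≠ c) (hbc : b ≠ c)
    (h0 : ∀ x ∈ S, x ≠ a → x ≠ b → x ≠ c → g x = 0) :
    ∑ x ∈ S, g x = g a + (g b + g c) := by
  have hsub : ({a, b, c} : Finset ι) ⊆ S := by
    intro x hx
    simp at hx
    rcases hx with rfl | rfl | rfl
    · exact ha
    · exact hb
    · exact hc
  rw [← Finset.sum_subset hsub]
  · rw [Finset.sum_insert (by simp [hab, hac]), Finset.sum_pair hbc]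
  · intro x hx hxn
    simp at hxn
    exact h0 x hx hxn.1 hxn.2.1 hxn.2.2

theorem dhl_sum4C {ι A : Type*} [DecidableEq ι] [AddCommMonoid A] (S : Finset ι) (g : ι → A)
    (a b c d : ι)
    (ha : a ∈ S) (hb : b ∈ S) (hc : c ∈ S) (hd : d ∈ S) (hab : a ≠ b) (hac : a ≠ c)
    (had : a ≠ d) (hbc : b ≠ c) (hbd : b ≠ d) (hcd : c ≠ d)
    (h0 : ∀ x ∈ S, x ≠ a → x ≠ b → x ≠ c → x ≠ d → g x = 0) :
    ∑ x ∈ S, g x = g a + (g b + (g c + g d)) := by
  have hsub : ({a, b, c, d} : Finset ι) ⊆ S := by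
    intro x hx
    simp at hx
    rcases hx with rfl | rfl | rfl | rfl
    · exact ha
    · exact hb
    · exact hc
    · exact hd
  rw [← Finset.sum_subset hsub]
  · rw [Finset.sum_insert (by simp [hab, hac, had]), Finset.sum_insert (by simp [hbc, hbd]),
      Finset.sum_pair hcd]
  · intro x hx hxn
    simp at hxn
    exact h0 x hx hxn.1 hxn.2.1 hxn.2.2.1 hxn.2.2.2

theorem dh_principal_block [Finite G] {m h : ℕ} (hmh : m = 2 * h) (hh : 2 ≤ h) (hh3 : h ≠ 3)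
    (M : Ideal Cfsg.AlgInt) (hM : Cfsg.IsPModular 2 M) (P : Sylow 2 G)
    (e : (P : Subgroup G) ≃* DihedralGroup m) (σ : G) (hσ : σ ∈ (P : Subgroup G))
    (hσo : orderOf σ = m) (ζ : ℂ) (hζ : IsPrimitiveRoot ζ m) :
    Nat.card (Cfsg.principalBlock M G) = 3 + h ∧
    ∃ (χ₁ χ₂ χ₃ : Cfsg.IrrCharacter G) (χ' : Fin (h - 1) → Cfsg.IrrCharacter G)
      (δ₁ δ₂ δ₃ : ℤ), (δ₁ = 1 ∨ δ₁ = -1) ∧ (δ₂ = 1 ∨ δ₂ = -1) ∧ (δ₃ = 1 ∨ δ₃ = -1) ∧
      Function.Injective χ' ∧ (χ₁ : G → ℂ) ≠ (fun _ => 1) ∧ (χ₂ : G → ℂ) ≠ (fun _ => 1) ∧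
      (χ₃ : G → ℂ) ≠ (fun _ => 1) ∧ χ₁ ≠ χ₂ ∧ χ₁ ≠ χ₃ ∧ χ₂ ≠ χ₃ ∧
      (∀ j, χ' j ≠ χ₁ ∧ χ' j ≠ χ₂ ∧ χ' j ≠ χ₃ ∧ (χ' j : G → ℂ) ≠ (fun _ => 1)) ∧
      Cfsg.principalBlock M G = {χ : Cfsg.IrrCharacter G | (χ : G → ℂ) = (fun _ => 1) ∨
        χ = χ₁ ∨ χ = χ₂ ∨ χ = χ₃ ∨ ∃ j, χ = χ' j} ∧
      (∀ l : ℕ, 0 < l → l < m → (χ₁ : G → ℂ) (σ ^ l) = δ₁ ∧
        (χ₂ : G → ℂ) (σ ^ l) = δ₂ * (-1) ^ (l + 1) ∧
        (χ₃ : G → ℂ) (σ ^ l) = δ₃ * (-1) ^ (l + 1) ∧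
        ∀ j : Fin (h - 1), (χ' j : G → ℂ) (σ ^ l) =
          δ₁ * (ζ ^ (((j : ℕ) + 1) * l) + (ζ ^ (((j : ℕ) + 1) * l))⁻¹)) ∧
      ∀ ρ : G, Odd (orderOf ρ) → ∀ j : Fin (h - 1),
        1 + δ₁ * (χ₁ : G → ℂ) ρ = -δ₂ * (χ₂ : G → ℂ) ρ - δ₃ * (χ₃ : G → ℂ) ρ ∧
        1 + δ₁ * (χ₁ : G → ℂ) ρ = δ₁ * (χ' j : G → ℂ) ρ := by
  classical
  subst hmh
  haveI : NeZero (2 * h) := ⟨by omega⟩
  haveI : Fact (Nat.Prime 2) := ⟨Nat.prime_two⟩
  letI : Fintype G := Fintype.ofFinite G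
  letI : Fintype (Cfsg.IrrCharacter G) := Fintype.ofFinite _
  have hPr : M.IsPrime := h7_isPrime_of_isPModular hM
  obtain ⟨Bf, hBf⟩ : ∃ Bf : Finset (Cfsg.IrrCharacter G),
      ∀ χ, χ ∈ Bf ↔ χ ∈ Cfsg.principalBlock M G :=
    ⟨Finset.univ.filter (fun χ => χ ∈ Cfsg.principalBlock M G), by intro χ; simp⟩
  obtain ⟨ψ, hψζ, hψ⟩ := dh_psi_exists σ (2 * h) hσo ζ hζ (by omega)
  obtain ⟨s, γ, δ, c, x2, x3, b, hs, hγ, hδ, hcB, hx2B, hx3B, hbB, hbinj, hco, hx2o, hx3o,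
    hcx2, hcx3, hx23, hbne, hw, hv⟩ := dh_struct hh hh3 P e σ hσ hσo M hM Bf hBf ψ hψ
  have htriv : trivIrr G ∈ Bf := (hBf _).mpr (h7_sameBlock_refl hPr _)
  have hcover : ∀ χ ∈ Bf, χ = trivIrr G ∨ χ = c ∨ χ = x2 ∨ χ = x3 ∨ ∃ j, χ = b j := by
    intro χ hχ
    rcases dh_cover hh P e σ hσ hσo M hM ζ ψ hψζ hψ χ ((hBf χ).mp hχ) with ⟨j, hj⟩ | hj
    · rw [hw j χ hχ] at hj
      by_cases h1 : χ = trivIrr G
      · exact Or.inl h1
      by_cases h2 : χ = c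
      · exact Or.inr (Or.inl h2)
      by_cases h3 : χ = b j
      · exact Or.inr (Or.inr (Or.inr (Or.inr ⟨j, h3⟩)))
      rw [if_neg h1, if_neg h2, if_neg h3] at hj
      exact absurd rfl hj
    · rw [hv χ hχ] at hj
      by_cases h1 : χ = trivIrr G
      · exact Or.inl h1
      by_cases h2 : χ = c
      · exact Or.inr (Or.inl h2)
      by_cases h3 : χ = x2
      · exact Or.inr (Or.inr (Or.inl h3))
      by_cases h4 : χ = x3
      · exact Or.inr (Or.inr (Or.inr (Or.inl h4)))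
      rw [if_neg h1, if_neg h2, if_neg h3, if_neg h4] at hj
      exact absurd rfl hj
  have hfold := fun (χ : Cfsg.IrrCharacter G) (l : ℕ) (hl : ¬ 2 * h ∣ l) =>
    dh_inversion_folded hh (P : Subgroup G) e σ hσ hσo ζ hζ ψ hψζ hψ χ l hl
  have hE : ∀ l : ℕ, ¬ 2 * h ∣ l →
      ∑ j : Fin (h - 1), (ζ ^ (((j : ℕ) + 1) * l) + (ζ ^ (((j : ℕ) + 1) * l))⁻¹) + (-1) ^ l
        = -1 := by
    intro l hl
    have h1 := hfold (trivIrr G) l hl
    rw [trivIrr_apply] at h1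
    have h2 : ∀ j : Fin (h - 1), dhW σ ψ (trivIrr G) (((j : ℕ) : ℤ) + 1) = -1 := fun j => by
      rw [hw j _ htriv, if_pos rfl]
    have h3 : dhW σ ψ (trivIrr G) (h : ℤ) = -1 := by rw [hv _ htriv, if_pos rfl]
    simp only [h2, h3] at h1
    push_cast at h1
    simp only [neg_one_mul, Finset.sum_neg_distrib] at h1
    linear_combination h1
  have hcval : ∀ l : ℕ, ¬ 2 * h ∣ l → (c : G → ℂ) (σ ^ l) = -(s : ℂ) := by
    intro l hl
    rw [hfold c l hl]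
    have h2 : ∀ j : Fin (h - 1), dhW σ ψ c (((j : ℕ) : ℤ) + 1) = s := fun j => by
      rw [hw j _ hcB, if_neg hco, if_pos rfl]
    have h3 : dhW σ ψ c (h : ℤ) = s := by rw [hv _ hcB, if_neg hco, if_pos rfl]
    simp only [h2, h3]
    rw [← Finset.mul_sum, ← mul_add, hE l hl]
    ring
  have hbval : ∀ (j₀ : Fin (h - 1)) (l : ℕ), ¬ 2 * h ∣ l → (b j₀ : G → ℂ) (σ ^ l) =
      -(s : ℂ) * (ζ ^ (((j₀ : ℕ) + 1) * l) + (ζ ^ (((j₀ : ℕ) + 1) * l))⁻¹) := by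
    intro j₀ l hl
    rw [hfold (b j₀) l hl]
    have h2 : ∀ j : Fin (h - 1),
        dhW σ ψ (b j₀) (((j : ℕ) : ℤ) + 1) = if j = j₀ then -s else 0 := by
      intro j
      rw [hw j _ (hbB j₀), if_neg (hbne j₀).1, if_neg (hbne j₀).2.1]
      by_cases hj : j = j₀
      · rw [if_pos hj, if_pos (by rw [hj])]
      · rw [if_neg hj, if_neg (fun h => hj (hbinj h).symm)]
    have h3 : dhW σ ψ (b j₀) (h : ℤ) = 0 := by
      rw [hv _ (hbB j₀), if_neg (hbne j₀).1, if_neg (hbne j₀).2.1, if_neg (hbne j₀).2.2.1,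
        if_neg (hbne j₀).2.2.2]
    simp only [h2, h3]
    rw [Finset.sum_eq_single j₀]
    · rw [if_pos rfl]
      push_cast
      ring
    · intro j _ hj
      rw [if_neg hj]
      simp
    · intro hh
      exact absurd (Finset.mem_univ _) hh
  have hx2val : ∀ l : ℕ, ¬ 2 * h ∣ l → (x2 : G → ℂ) (σ ^ l) = (γ : ℂ) * (-1) ^ l := by
    intro l hl
    rw [hfold x2 l hl]
    have h2 : ∀ j : Fin (h - 1), dhW σ ψ x2 (((j : ℕ) : ℤ) + 1) = 0 := fun j => by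
      rw [hw j _ hx2B, if_neg hx2o, if_neg hcx2.symm, if_neg (fun h => (hbne j).2.2.1 h.symm)]
    have h3 : dhW σ ψ x2 (h : ℤ) = γ := by
      rw [hv _ hx2B, if_neg hx2o, if_neg hcx2.symm, if_pos rfl]
    simp only [h2, h3]
    simp
  have hx3val : ∀ l : ℕ, ¬ 2 * h ∣ l → (x3 : G → ℂ) (σ ^ l) = (δ : ℂ) * (-1) ^ l := by
    intro l hl
    rw [hfold x3 l hl]
    have h2 : ∀ j : Fin (h - 1), dhW σ ψ x3 (((j : ℕ) : ℤ) + 1) = 0 := fun j => by
      rw [hw j _ hx3B, if_neg hx3o, if_neg hcx3.symm, if_neg (fun h => (hbne j).2.2.2 h.symm)]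
    have h3 : dhW σ ψ x3 (h : ℤ) = δ := by
      rw [hv _ hx3B, if_neg hx3o, if_neg hcx3.symm, if_neg hx23.symm, if_pos rfl]
    simp only [h2, h3]
    simp
  have hσ2 : ∃ a : ℕ, orderOf σ = 2 ^ a := by
    obtain ⟨a, ha⟩ := dh_order_two_pow P σ hσ hσo
    exact ⟨a, by rw [hσo, ha]⟩
  have hrelw : ∀ (j : Fin (h - 1)) (ρ : G), ¬ 2 ∣ orderOf ρ →
      -1 + ((s : ℂ) * (c : G → ℂ) ρ + -(s : ℂ) * (b j : G → ℂ) ρ) = 0 := by
    intro j ρ hρ
    have h1 := dh_orth_reg σ hσ2 M hM Bf hBf ψ (((j : ℕ) : ℤ) + 1) ρ hρ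
    rw [dhl_sum3C Bf _ (trivIrr G) c (b j) htriv hcB (hbB j) hco.symm
      (fun h => (hbne j).1 h.symm) (fun h => (hbne j).2.1 h.symm)] at h1
    · rw [hw j _ htriv, hw j _ hcB, hw j _ (hbB j), if_pos rfl, if_neg hco, if_pos rfl,
        if_neg (hbne j).1, if_neg (hbne j).2.1, if_pos rfl, trivIrr_apply] at h1
      push_cast at h1
      rw [← h1]
      ring
    · intro x hx h1 h2 h3
      rw [hw j x hx, if_neg h1, if_neg h2, if_neg h3]
      simp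
  have hrelv : ∀ ρ : G, ¬ 2 ∣ orderOf ρ →
      -1 + ((s : ℂ) * (c : G → ℂ) ρ + ((γ : ℂ) * (x2 : G → ℂ) ρ + (δ : ℂ) * (x3 : G → ℂ) ρ))
        = 0 := by
    intro ρ hρ
    have h1 := dh_orth_reg σ hσ2 M hM Bf hBf ψ (h : ℤ) ρ hρ
    rw [dhl_sum4C Bf _ (trivIrr G) c x2 x3 htriv hcB hx2B hx3B hco.symm hx2o.symm hx3o.symm
      hcx2 hcx3 hx23] at h1
    · rw [hv _ htriv, hv _ hcB, hv _ hx2B, hv _ hx3B, if_pos rfl, if_neg hco, if_pos rfl,
        if_neg hx2o, if_neg hcx2.symm, if_pos rfl, if_neg hx3o, if_neg hcx3.symm,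
        if_neg hx23.symm, if_pos rfl, trivIrr_apply] at h1
      push_cast at h1
      rw [← h1]
      ring
    · intro x hx h1 h2 h3 h4
      rw [hv x hx, if_neg h1, if_neg h2, if_neg h3, if_neg h4]
      simp
  have hcoe : ∀ χ : Cfsg.IrrCharacter G, (χ : G → ℂ) = (fun _ => 1) ↔ χ = trivIrr G := by
    intro χ
    constructor
    · intro hχ
      exact Subtype.ext hχ
    · intro hχ
      rw [hχ]
      rfl
  have hBfeq : Bf = ({trivIrr G, c, x2, x3} : Finset (Cfsg.IrrCharacter G)) ∪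
      Finset.univ.image b := by
    ext χ
    simp only [Finset.mem_union, Finset.mem_insert, Finset.mem_singleton, Finset.mem_image,
      Finset.mem_univ, true_and]
    constructor
    · intro hχ
      rcases hcover χ hχ with h1 | h1 | h1 | h1 | ⟨j, hj⟩
      · exact Or.inl (Or.inl h1)
      · exact Or.inl (Or.inr (Or.inl h1))
      · exact Or.inl (Or.inr (Or.inr (Or.inl h1)))
      · exact Or.inl (Or.inr (Or.inr (Or.inr h1)))
      · exact Or.inr ⟨j, hj.symm⟩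
    · rintro ((h1 | h1 | h1 | h1) | ⟨j, hj⟩)
      · rw [h1]; exact htriv
      · rw [h1]; exact hcB
      · rw [h1]; exact hx2B
      · rw [h1]; exact hx3B
      · rw [← hj]; exact hbB j
  have hcard : Bf.card = 3 + h := by
    rw [hBfeq, Finset.card_union_of_disjoint, Finset.card_image_of_injective _ hbinj,
      Finset.card_univ, Fintype.card_fin]
    · rw [Finset.card_insert_of_notMem, Finset.card_insert_of_notMem, Finset.card_pair hx23]
      · omega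
      · simp only [Finset.mem_insert, Finset.mem_singleton, not_or]
        exact ⟨hcx2, hcx3⟩
      · simp only [Finset.mem_insert, Finset.mem_singleton, not_or]
        exact ⟨hco.symm, hx2o.symm, hx3o.symm⟩
    · rw [Finset.disjoint_left]
      intro χ hχ hχ'
      simp only [Finset.mem_insert, Finset.mem_singleton] at hχ
      simp only [Finset.mem_image, Finset.mem_univ, true_and] at hχ'
      obtain ⟨j, hj⟩ := hχ'
      rcases hχ with h1 | h1 | h1 | h1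
      · exact (hbne j).1 (hj.trans h1)
      · exact (hbne j).2.1 (hj.trans h1)
      · exact (hbne j).2.2.1 (hj.trans h1)
      · exact (hbne j).2.2.2 (hj.trans h1)
  have hset : Cfsg.principalBlock M G = (Bf : Set (Cfsg.IrrCharacter G)) := by
    ext χ
    rw [Finset.mem_coe, hBf]
  refine ⟨by rw [hset, Nat.card_coe_set_eq, Set.ncard_coe_finset, hcard], ?_⟩
  refine ⟨c, x2, x3, b, -s, -γ, -δ, ?_, ?_, ?_, hbinj, ?_, ?_, ?_, hcx2, hcx3, hx23, ?_, ?_, ?_, ?_⟩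
  · rcases hs with h | h <;> rw [h] <;> norm_num
  · rcases hγ with h | h <;> rw [h] <;> norm_num
  · rcases hδ with h | h <;> rw [h] <;> norm_num
  · exact fun h => hco ((hcoe c).mp h)
  · exact fun h => hx2o ((hcoe x2).mp h)
  · exact fun h => hx3o ((hcoe x3).mp h)
  · intro j
    exact ⟨(hbne j).2.1, (hbne j).2.2.1, (hbne j).2.2.2, fun h => (hbne j).1 ((hcoe _).mp h)⟩
  · ext χ
    rw [Set.mem_ofPred_eq, ← hBf, hcoe]
    constructor
    · intro hχ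
      exact hcover χ hχ
    · rintro (h1 | h1 | h1 | h1 | ⟨j, hj⟩)
      · rw [h1]; exact htriv
      · rw [h1]; exact hcB
      · rw [h1]; exact hx2B
      · rw [h1]; exact hx3B
      · rw [hj]; exact hbB j
  · intro l hl0 hlm
    have hl : ¬ 2 * h ∣ l := fun hd => by
      have := Nat.le_of_dvd hl0 hd
      omega
    refine ⟨?_, ?_, ?_, ?_⟩
    · rw [hcval l hl]
      push_cast
      ring
    · rw [hx2val l hl]
      push_cast
      ring
    · rw [hx3val l hl]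
      push_cast
      ring
    · intro j
      rw [hbval j l hl]
      push_cast
      ring
  · intro ρ hρ j
    have hρ2 : ¬ 2 ∣ orderOf ρ := by
      rw [← even_iff_two_dvd, Nat.not_even_iff_odd]
      exact hρ
    have e1 := hrelw j ρ hρ2
    have e2 := hrelv ρ hρ2
    push_cast
    constructor
    · linear_combination -e2
    · linear_combination -e1

end Cfsg.Agent.Lib.Helper24
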