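import Mathlib
import Cfsg.Agent.Lib.Helper24.TwoInvol
import Cfsg.Agent.Lib.Helper24.DH12

set_option autoImplicit false
set_option linter.style.haveILetI false
set_option linter.unusedSectionVars false
set_option linter.unusedVariables false
set_option maxHeartbeats 1600000

namespace Cfsg.Agent.Lib.Helper24

variable {G : Type*} [Group G]

theorem do_tau_sq {τ : G} (hτo : orderOf τ = 2) : τ * τ = 1 := ti_sq_of_order hτo

theorem do_tausigma_sq {σ τ : G} (hτo : orderOf τ = 2) (hrel : τ * σ * τ⁻¹ = σ⁻¹) :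
    (τ * σ) * (τ * σ) = 1 := by
  have h1 : τ⁻¹ = τ := ti_inv_of_sq (do_tau_sq hτo)
  rw [h1] at hrel
  calc (τ * σ) * (τ * σ) = (τ * σ * τ) * σ := by group
    _ = 1 := by rw [hrel]; group

theorem do_closure_eq (σ τ : G) (hτo : orderOf τ = 2) :
    Subgroup.closure ({τ, τ * σ} : Set G) = Subgroup.closure ({σ, τ} : Set G) := by
  have hττ := do_tau_sq hτo
  apply le_antisymm
  · rw [Subgroup.closure_le]
    intro x hx
    rcases hx with rfl | rfl
    · exact Subgroup.subset_closure (by simp)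
    · exact Subgroup.mul_mem _ (Subgroup.subset_closure (by simp))
        (Subgroup.subset_closure (by simp))
  · rw [Subgroup.closure_le]
    intro x hx
    rcases hx with h | h
    · have h2 : τ * (τ * σ) ∈ Subgroup.closure ({τ, τ * σ} : Set G) :=
        Subgroup.mul_mem _ (Subgroup.subset_closure (by simp))
          (Subgroup.subset_closure (by simp))
      rw [← mul_assoc, hττ, one_mul] at h2
      rw [h]
      exact h2
    · rw [h]
      exact Subgroup.subset_closure (by simp)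

theorem do_elems (P : Subgroup G) (σ τ : G) (hτo : orderOf τ = 2)
    (hrel : τ * σ * τ⁻¹ = σ⁻¹) (hgen : Subgroup.closure ({σ, τ} : Set G) = P) (p : G)
    (hp : p ∈ P) : ∃ k : ℤ, p = σ ^ k ∨ p = τ * σ ^ k := by
  rw [← hgen, ← do_closure_eq σ τ hτo] at hp
  obtain ⟨k, hk⟩ := ti_mem (do_tau_sq hτo) (do_tausigma_sq hτo hrel) p hp
  have h1 : τ * (τ * σ) = σ := by rw [← mul_assoc, do_tau_sq hτo, one_mul]
  rw [h1] at hk
  exact ⟨k, hk⟩

theorem do_tau_not_mem (σ τ : G) (m : ℕ) (hm : 3 ≤ m) (hσo : orderOf σ = m)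
    (hτo : orderOf τ = 2) (hrel : τ * σ * τ⁻¹ = σ⁻¹) : τ ∉ Subgroup.zpowers σ := by
  intro h
  obtain ⟨k, rfl⟩ := Subgroup.mem_zpowers_iff.mp h
  have h1 : σ ^ k * σ * (σ ^ k)⁻¹ = σ := by
    rw [← zpow_neg, ← zpow_add_one, ← zpow_add]
    simp
  rw [h1] at hrel
  have h2 : σ * σ = 1 := by
    nth_rewrite 1 [hrel]
    exact inv_mul_cancel σ
  have h3 : orderOf σ ∣ 2 := orderOf_dvd_of_pow_eq_one (by rw [pow_two]; exact h2)
  have h4 := Nat.le_of_dvd (by norm_num) h3
  omega

theorem do_iso (P : Subgroup G) (σ τ : G) (m : ℕ) (hm : 3 ≤ m) (hσo : orderOf σ = m)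
    (hτo : orderOf τ = 2) (hrel : τ * σ * τ⁻¹ = σ⁻¹)
    (hgen : Subgroup.closure ({σ, τ} : Set G) = P) : Nonempty (P ≃* DihedralGroup m) := by
  have hx : orderOf τ = 2 := hτo
  have hy : orderOf (τ * σ) = 2 := by
    apply orderOf_eq_prime
    · rw [pow_two]
      exact do_tausigma_sq hτo hrel
    · intro h
      have h1 : σ = τ⁻¹ := eq_inv_of_mul_eq_one_right h
      have h2 : orderOf σ = 2 := by rw [h1, orderOf_inv, hτo]
      omega
  have e := tiEquiv hx hy
  have h1 : τ * (τ * σ) = σ := by rw [← mul_assoc, do_tau_sq hτo, one_mul]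
  rw [h1, hσo, do_closure_eq σ τ hτo, hgen] at e
  exact ⟨e⟩

end Cfsg.Agent.Lib.Helper24
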