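import Mathlib
import Cfsg.Agent.Lib.helper7.Q8SecondMain
import Cfsg.Agent.S0967

set_option autoImplicit false
set_option linter.style.haveILetI false
set_option linter.unusedSectionVars false
set_option linter.unusedVariables false
set_option maxHeartbeats 1600000

namespace Cfsg.Agent.Lib.Helper24

open scoped ComplexConjugate
open Cfsg.Agent.Lib.Helper25 Cfsg.Agent.Lib.helper7

theorem do_section_const {G : Type*} [Group G] [Finite G] (p : ℕ) [hp : Fact p.Prime]
    (M : Ideal Cfsg.AlgInt) (hM : Cfsg.IsPModular p M) (z : G)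
    (hz : ∃ k : ℕ, orderOf z = p ^ k)
    (ζ : Cfsg.IrrCharacter G) (hζ : ζ ∈ Cfsg.principalBlock M G)
    (y : Subgroup.centralizer ({z} : Set G)) (hy : ¬ p ∣ orderOf y)
    (hconst : ∀ ψ ∈ Cfsg.principalBlock M (Subgroup.centralizer ({z} : Set G)),
      (ψ : Subgroup.centralizer ({z} : Set G) → ℂ) y =
        (ψ : Subgroup.centralizer ({z} : Set G) → ℂ) 1) :
    (ζ : G → ℂ) (z * (y : G)) = (ζ : G → ℂ) z := by
  classical
  letI : Fintype G := Fintype.ofFinite G
  haveI : Fintype (Cfsg.IrrCharacter G) := Fintype.ofFinite _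
  letI : Fintype (Subgroup.centralizer ({z} : Set G)) := Fintype.ofFinite _
  haveI : Fintype (Cfsg.IrrCharacter (Subgroup.centralizer ({z} : Set G))) := Fintype.ofFinite _
  have hPr := hM.2.1.isPrime
  obtain ⟨hP, hPC, hCC, hCN⟩ := h7_centralizer_brauer_hyps p z hz
  have h3 : ∀ b : Set (Cfsg.IrrCharacter (Subgroup.centralizer ({z} : Set G))),
      Cfsg.IsPBlock M b →
      (Cfsg.IsInducedBlock M (Subgroup.centralizer ({z} : Set G)) b (Cfsg.principalBlock M G) ↔
        b = Cfsg.principalBlock M (Subgroup.centralizer ({z} : Set G))) :=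
    fun b hb => Cfsg.Agent.S0936.result p M hM (Subgroup.centralizer ({z} : Set G)) b
      (Cfsg.Agent.S0919.result p M hM (Subgroup.zpowers z)
        (Subgroup.centralizer ({z} : Set G)) hP hPC hCC hCN b hb)
  have hBG : Cfsg.principalBlock M G =
      Cfsg.blockOf M ((trivIrr G : Cfsg.IrrCharacter G) : G → ℂ) := rfl
  have hζB : Cfsg.blockOf M (ζ : G → ℂ) = Cfsg.principalBlock M G := by
    rw [hBG]
    exact (h7_blockOf_eq_of_mem hPr (trivIrr G) ζ hζ).symm
  obtain ⟨Θ, hΘ⟩ : ∃ Θ : Subgroup.centralizer ({z} : Set G) → ℂ,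
      Θ = fun c : Subgroup.centralizer ({z} : Set G) => (ζ : G → ℂ) (z * (c : G)) := ⟨_, rfl⟩
  have hΘcl : ∀ g h : Subgroup.centralizer ({z} : Set G), Θ (h * g * h⁻¹) = Θ g := by
    intro g h
    rw [hΘ]
    exact h7_shift_class z _ (fun g h => irr_conj_invariant ζ g h) g h
  have hexpC := classFunction_expansion Θ hΘcl
  have hval : ∀ c : Subgroup.centralizer ({z} : Set G), Θ c =
      ∑ ψ : Cfsg.IrrCharacter (Subgroup.centralizer ({z} : Set G)),
        Cfsg.classInner Θ (ψ : Subgroup.centralizer ({z} : Set G) → ℂ) *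
          (ψ : Subgroup.centralizer ({z} : Set G) → ℂ) c := by
    intro c
    conv_lhs => rw [hexpC]
    rw [Finset.sum_apply]
    refine Finset.sum_congr rfl fun ψ _ => ?_
    simp only [Pi.smul_apply, smul_eq_mul]
  have h0 : (ζ : G → ℂ) z = Θ 1 := by
    rw [hΘ]
    simp
  have h1 : (ζ : G → ℂ) (z * (y : G)) = Θ y := by
    rw [hΘ]
  rw [h0, h1, ← sub_eq_zero, hval y, hval 1, ← Finset.sum_sub_distrib]
  apply h7_sum_eq_zero_of_blocks hPr
  intro b hb
  rw [finsum_mem_sub_distrib _ _ (Set.toFinite b)]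
  by_cases hbp : b = Cfsg.principalBlock M (Subgroup.centralizer ({z} : Set G))
  · rw [sub_eq_zero]
    apply finsum_mem_congr rfl
    intro ψ hψ
    rw [hbp] at hψ
    rw [hconst ψ hψ]
  · have hnind : ¬ Cfsg.IsInducedBlock M (Subgroup.centralizer ({z} : Set G)) b
        (Cfsg.blockOf M (ζ : G → ℂ)) := by
      rw [hζB]
      exact fun hc => hbp ((h3 b hb).mp hc)
    have h2 : ∀ c : Subgroup.centralizer ({z} : Set G),
        ∑ᶠ ψ ∈ b, Cfsg.classInner Θ (ψ : Subgroup.centralizer ({z} : Set G) → ℂ) *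
        (ψ : Subgroup.centralizer ({z} : Set G) → ℂ) c = Cfsg.blockPart b Θ c := by
      intro c
      unfold Cfsg.blockPart
      rfl
    have h4 : ∀ c : Subgroup.centralizer ({z} : Set G), ¬ p ∣ orderOf c →
        Cfsg.blockPart b Θ c = 0 := by
      intro c hc
      rw [hΘ]
      exact Cfsg.Agent.S0923.result p M hM z hz (Cfsg.blockOf M (ζ : G → ℂ)) ⟨ζ, rfl⟩ ζ
        (h7_sameBlock_refl hPr _) b hb hnind c hc
    rw [h2, h2, h4 y hy, h4 1 (by
      rw [orderOf_one]
      exact hp.out.one_lt.ne' ∘ Nat.dvd_one.mp), sub_zero]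

theorem do_principal_const {L : Type*} [Group L] [Finite L] (p : ℕ) [hp : Fact p.Prime]
    (M : Ideal Cfsg.AlgInt) (hM : Cfsg.IsPModular p M) (K : Subgroup L) [hKn : K.Normal]
    (hK : ¬ p ∣ Nat.card K) (ψ : Cfsg.IrrCharacter L) (hψ : ψ ∈ Cfsg.principalBlock M L)
    (g n : L) (hn : n ∈ K) : (ψ : L → ℂ) (g * n) = (ψ : L → ℂ) g := by
  have hψ' : ψ ∈ Cfsg.blockOf M (((trivIrr (L ⧸ K) : Cfsg.IrrCharacter (L ⧸ K)) : L ⧸ K → ℂ) ∘
      QuotientGroup.mk) := hψ
  obtain ⟨ψ', hψ'eq, -⟩ := Cfsg.Agent.S0967.result p M hM K hK (trivIrr (L ⧸ K)) ψ hψ'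
  rw [hψ'eq]
  simp only [Function.comp_apply]
  have hq : ((g * n : L) : L ⧸ K) = (g : L ⧸ K) := by
    rw [QuotientGroup.eq]
    have : (g * n)⁻¹ * g = n⁻¹ := by group
    rw [this]
    exact K.inv_mem hn
  rw [hq]

end Cfsg.Agent.Lib.Helper24
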