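import Mathlib
import Cfsg.Agent.Lib.Helper24.DH12
import Cfsg.Agent.Lib.Helper24.DO2
import Cfsg.Agent.Lib.Helper25.PrincipalNPC
import Cfsg.Agent.Lib.helper7.CharCentral

set_option autoImplicit false
set_option linter.style.haveILetI false
set_option linter.unusedSectionVars false
set_option linter.unusedVariables false
set_option maxHeartbeats 1600000

namespace Cfsg.Agent.Lib.Helper24

open scoped ComplexConjugate
open Cfsg.Agent.Lib.Helper25 Cfsg.Agent.Lib.helper7 Cfsg.Agent.Lib.Helper29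

theorem do_central_invol {L : Type*} [Group L] [Finite L] (ψ : Cfsg.IrrCharacter L) (z : L)
    (hz : z ∈ Subgroup.center L) (hzz : z * z = 1) :
    (ψ : L → ℂ) z = (ψ : L → ℂ) 1 ∨ (ψ : L → ℂ) z = -(ψ : L → ℂ) 1 := by
  obtain ⟨c, hc⟩ := h7_central_char ψ.2 z hz
  have h1 := hc 1
  rw [mul_one] at h1
  have h2 := hc z
  rw [hzz, h1] at h2
  have hne : (ψ : L → ℂ) 1 ≠ 0 := by
    rw [← (charDegree_irr ψ).1]
    exact_mod_cast (charDegree_irr ψ).2.ne'
  have h3 : c * c = 1 := by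
    have : (c * c - 1) * (ψ : L → ℂ) 1 = 0 := by
      linear_combination -h2
    rcases mul_eq_zero.mp this with h | h
    · linear_combination h
    · exact absurd h hne
  have h4 : (c - 1) * (c + 1) = 0 := by linear_combination h3
  rcases mul_eq_zero.mp h4 with h | h
  · left
    have : c = 1 := by linear_combination h
    rw [h1, this, one_mul]
  · right
    have : c = -1 := by linear_combination h
    rw [h1, this]
    ring

theorem do_degree_of_central {L : Type*} [Group L] [Finite L] (ψ : Cfsg.IrrCharacter L) (z : L)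
    (hz : z ∈ Subgroup.center L) (hzz : z * z = 1) (a : ℤ) (ha : (ψ : L → ℂ) z = (a : ℂ)) :
    (Cfsg.charDegree (ψ : L → ℂ) : ℤ) = a ∨ (Cfsg.charDegree (ψ : L → ℂ) : ℤ) = -a := by
  have hd := (charDegree_irr ψ).1
  rcases do_central_invol ψ z hz hzz with h | h
  · left
    rw [ha, ← hd] at h
    have : ((Cfsg.charDegree (ψ : L → ℂ) : ℤ) : ℂ) = ((a : ℤ) : ℂ) := by
      push_cast
      exact h.symm
    exact_mod_cast this
  · right
    rw [ha, ← hd] at h
    have : ((Cfsg.charDegree (ψ : L → ℂ) : ℤ) : ℂ) = ((-a : ℤ) : ℂ) := by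
      push_cast
      rw [h]
      ring
    exact_mod_cast this

theorem do_central_npc {L : Type*} [Group L] [Finite L] {m h : ℕ} (hmh : m = 2 * h) (hh : 2 ≤ h)
    (hh3 : h ≠ 3) (M : Ideal Cfsg.AlgInt) (hM : Cfsg.IsPModular 2 M) (Q : Sylow 2 L)
    (e : (Q : Subgroup L) ≃* DihedralGroup m) (σ : L) (hσ : σ ∈ (Q : Subgroup L))
    (hσo : orderOf σ = m) (hz : σ ^ h ∈ Subgroup.center L) :
    Cfsg.HasNormalPComplement 2 L := by
  haveI : Fact (Nat.Prime 2) := ⟨Nat.prime_two⟩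
  have hm0 : m ≠ 0 := by omega
  have hζ : IsPrimitiveRoot (Complex.exp (2 * Real.pi * Complex.I / m)) m :=
    Complex.isPrimitiveRoot_exp m hm0
  obtain ⟨ζ, hζdef⟩ : ∃ ζ : ℂ, ζ = Complex.exp (2 * Real.pi * Complex.I / m) := ⟨_, rfl⟩
  rw [← hζdef] at hζ
  obtain ⟨-, χ₁, χ₂, χ₃, χ', δ₁, δ₂, δ₃, hδ₁, hδ₂, hδ₃, -, -, -, -, -, -, -, -, hB, hvals, -⟩ :=
    dh_principal_block hmh hh hh3 M hM Q e σ hσ hσo ζ hζ
  have hzz : σ ^ h * σ ^ h = 1 := by
    rw [← pow_add, ← two_mul, ← hmh, ← hσo, pow_orderOf_eq_one]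
  have hζh : ζ ^ h = -1 := by
    rw [hmh] at hζ
    exact dh_zeta_half (by omega) ζ hζ
  obtain ⟨hv1, hv2, hv3, hv4⟩ := hvals h (by omega) (by omega)
  apply pq_npc_of_linear 2 M hM
  intro χ hχ
  rw [hB] at hχ
  rcases hχ with h0 | h0 | h0 | h0 | ⟨j, h0⟩
  · left
    unfold Cfsg.charDegree
    rw [h0]
    simp
  · left
    rw [h0]
    have := do_degree_of_central χ₁ (σ ^ h) hz hzz δ₁ hv1
    have hpos := (charDegree_irr χ₁).2
    rcases hδ₁ with hd | hd <;> rw [hd] at this <;> omega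
  · left
    rw [h0]
    have hval : (χ₂ : L → ℂ) (σ ^ h) = ((δ₂ * (-1) ^ (h + 1) : ℤ) : ℂ) := by
      rw [hv2]
      push_cast
      ring
    have := do_degree_of_central χ₂ (σ ^ h) hz hzz _ hval
    have hpos := (charDegree_irr χ₂).2
    have hpm : ((-1 : ℤ) ^ (h + 1) = 1) ∨ ((-1 : ℤ) ^ (h + 1) = -1) := neg_one_pow_eq_or ℤ _
    rcases hδ₂ with hd | hd <;> rcases hpm with hp | hp <;> rw [hd, hp] at this <;> omega
  · left
    rw [h0]
    have hval : (χ₃ : L → ℂ) (σ ^ h) = ((δ₃ * (-1) ^ (h + 1) : ℤ) : ℂ) := by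
      rw [hv3]
      push_cast
      ring
    have := do_degree_of_central χ₃ (σ ^ h) hz hzz _ hval
    have hpos := (charDegree_irr χ₃).2
    have hpm : ((-1 : ℤ) ^ (h + 1) = 1) ∨ ((-1 : ℤ) ^ (h + 1) = -1) := neg_one_pow_eq_or ℤ _
    rcases hδ₃ with hd | hd <;> rcases hpm with hp | hp <;> rw [hd, hp] at this <;> omega
  · right
    rw [h0]
    have hval : (χ' j : L → ℂ) (σ ^ h) = ((δ₁ * (2 * (-1) ^ ((j : ℕ) + 1)) : ℤ) : ℂ) := by
      rw [hv4 j]
      have e1 : ζ ^ (((j : ℕ) + 1) * h) = (-1) ^ ((j : ℕ) + 1) := by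
        rw [mul_comm, pow_mul, hζh]
      rw [e1]
      have e2 : ((-1 : ℂ) ^ ((j : ℕ) + 1))⁻¹ = (-1) ^ ((j : ℕ) + 1) := by
        rw [← inv_pow]
        norm_num
      rw [e2]
      push_cast
      ring
    have := do_degree_of_central (χ' j) (σ ^ h) hz hzz _ hval
    have hpm : ((-1 : ℤ) ^ ((j : ℕ) + 1) = 1) ∨ ((-1 : ℤ) ^ ((j : ℕ) + 1) = -1) :=
      neg_one_pow_eq_or ℤ _
    rcases hδ₁ with hd | hd <;> rcases hpm with hp | hp <;> rw [hd, hp] at this <;> omega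

end Cfsg.Agent.Lib.Helper24
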