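import Mathlib
import Cfsg.Agent.Lib.Helper24.DO3

set_option autoImplicit false
set_option linter.style.haveILetI false
set_option linter.unusedSectionVars false
set_option linter.unusedVariables false
set_option maxHeartbeats 1600000

namespace Cfsg.Agent.Lib.Helper24

open scoped ComplexConjugate
open Cfsg.Agent.Lib.Helper25 Cfsg.Agent.Lib.helper7 Cfsg.Agent.Lib.Helper29

theorem do_odd_mem {L : Type*} [Group L] [Finite L] (K : Subgroup L) [hKn : K.Normal] (a : ℕ)
    (hidx : K.index = 2 ^ a) (y : L) (hy : ¬ 2 ∣ orderOf y) : y ∈ K := by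
  have hQ : Nat.card (L ⧸ K) = 2 ^ a := by
    rw [← hidx]
    rfl
  rw [← QuotientGroup.eq_one_iff]
  have h1 : orderOf (QuotientGroup.mk y : L ⧸ K) ∣ 2 ^ a := by
    rw [← hQ]
    exact orderOf_dvd_natCard _
  obtain ⟨j, -, hj⟩ := (Nat.dvd_prime_pow Nat.prime_two).mp h1
  have h2 : orderOf (QuotientGroup.mk y : L ⧸ K) ∣ orderOf y :=
    orderOf_map_dvd (QuotientGroup.mk' K) y
  rw [hj] at h2
  have hj0 : j = 0 := by
    by_contra hne
    exact hy ((dvd_pow_self 2 hne).trans h2)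
  rw [hj0, pow_zero, orderOf_eq_one_iff] at hj
  exact hj

theorem do_const_of_complement {L : Type*} [Group L] [Finite L] (M : Ideal Cfsg.AlgInt)
    (hM : Cfsg.IsPModular 2 M) (K : Subgroup L) [hKn : K.Normal] (hK : ¬ 2 ∣ Nat.card K)
    (a : ℕ) (hidx : K.index = 2 ^ a) (ψ : Cfsg.IrrCharacter L)
    (hψ : ψ ∈ Cfsg.principalBlock M L) (y : L) (hy : ¬ 2 ∣ orderOf y) :
    (ψ : L → ℂ) y = (ψ : L → ℂ) 1 := by
  haveI : Fact (Nat.Prime 2) := ⟨Nat.prime_two⟩
  have h := do_principal_const 2 M hM K hK ψ hψ 1 y (do_odd_mem K a hidx y hy)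
  rwa [one_mul] at h

theorem do_npc_data {L : Type*} [Group L] [Finite L] (h : Cfsg.HasNormalPComplement 2 L) :
    ∃ K : Subgroup L, K.Normal ∧ ¬ 2 ∣ Nat.card K ∧ ∃ a : ℕ, K.index = 2 ^ a := by
  haveI : Fact (Nat.Prime 2) := ⟨Nat.prime_two⟩
  obtain ⟨P', N, hNn, hc⟩ := h
  refine ⟨N, hNn, ?_, ?_⟩
  · have h1 := hc.card_mul
    have h2 := (P' : Subgroup L).card_mul_index
    have h3 : Nat.card N = (P' : Subgroup L).index := by
      have hpos : 0 < Nat.card (P' : Subgroup L) := Nat.card_pos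
      have : Nat.card N * Nat.card (P' : Subgroup L) =
          (P' : Subgroup L).index * Nat.card (P' : Subgroup L) := by
        rw [h1, mul_comm, h2]
      exact Nat.eq_of_mul_eq_mul_right hpos this
    rw [h3]
    exact P'.not_dvd_index
  · obtain ⟨a, ha⟩ := IsPGroup.iff_card.mp P'.isPGroup'
    refine ⟨a, ?_⟩
    have h1 := hc.card_mul
    have h2 := N.card_mul_index
    have hpos : 0 < Nat.card N := Nat.card_pos
    have : Nat.card N * N.index = Nat.card N * Nat.card (P' : Subgroup L) := by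
      rw [h2, h1]
    rw [← ha]
    exact Nat.eq_of_mul_eq_mul_left hpos this

theorem do_const_R {G : Type*} [Group G] [Finite G] {m h : ℕ} (hmh : m = 2 * h) (hh : 2 ≤ h)
    (hh3 : h ≠ 3) (M : Ideal Cfsg.AlgInt) (hM : Cfsg.IsPModular 2 M) (P : Sylow 2 G)
    (e : (P : Subgroup G) ≃* DihedralGroup m) (σ : G) (hσ : σ ∈ (P : Subgroup G))
    (hσo : orderOf σ = m) (χ : Cfsg.IrrCharacter G) (hχ : χ ∈ Cfsg.principalBlock M G)
    (r : G) (hr : r ∈ Subgroup.zpowers σ) (hr1 : r ≠ 1) (ρ : G) (hρr : ρ * r = r * ρ)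
    (hρ : ¬ 2 ∣ orderOf ρ) : (χ : G → ℂ) (r * ρ) = (χ : G → ℂ) r := by
  haveI : Fact (Nat.Prime 2) := ⟨Nat.prime_two⟩
  haveI : NeZero m := ⟨by omega⟩
  have hm : 3 ≤ m := by omega
  have hrP : r ∈ (P : Subgroup G) := by
    have hRP : Subgroup.zpowers σ ≤ (P : Subgroup G) := by
      rw [Subgroup.zpowers_le]
      exact hσ
    exact hRP hr
  have hr2 : ∃ k : ℕ, orderOf r = 2 ^ k := by
    obtain ⟨k, hk⟩ := (IsPGroup.iff_orderOf.mp P.isPGroup') ⟨r, hrP⟩
    exact ⟨k, by rw [← hk, Subgroup.orderOf_mk]⟩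
  have hρC : ρ ∈ Subgroup.centralizer ({r} : Set G) := by
    rw [Subgroup.mem_centralizer_singleton_iff]
    exact hρr
  have hyo : ¬ 2 ∣ orderOf (⟨ρ, hρC⟩ : Subgroup.centralizer ({r} : Set G)) := by
    rw [Subgroup.orderOf_mk]
    exact hρ
  apply do_section_const 2 M hM r hr2 χ hχ ⟨ρ, hρC⟩ hyo
  intro ψ hψ
  by_cases hrr : r * r = 1
  · have hrz : r = σ ^ h := by
      apply dh_unique_invol σ r (σ ^ h) hr (Subgroup.pow_mem _ (Subgroup.mem_zpowers σ) h) hrr
        ?_ hr1 ?_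
      · rw [← pow_add, ← two_mul, ← hmh, ← hσo, pow_orderOf_eq_one]
      · intro h0
        have := orderOf_dvd_of_pow_eq_one h0
        rw [hσo] at this
        have := Nat.le_of_dvd (by omega) this
        omega
    have hPC : (P : Subgroup G) ≤ Subgroup.centralizer ({r} : Set G) := by
      intro t ht
      rw [Subgroup.mem_centralizer_singleton_iff]
      exact dh_invol_central hm (P : Subgroup G) e σ hσ hσo r hr hrr t ht
    obtain ⟨eQ⟩ : Nonempty (((P.subtype hPC : Sylow 2 (Subgroup.centralizer ({r} : Set G))) :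
        Subgroup (Subgroup.centralizer ({r} : Set G))) ≃* DihedralGroup m) :=
      ⟨(Subgroup.subgroupOfEquivOfLe hPC).trans e⟩
    have hσC : σ ∈ Subgroup.centralizer ({r} : Set G) := hPC hσ
    have hσQ : (⟨σ, hσC⟩ : Subgroup.centralizer ({r} : Set G)) ∈
        ((P.subtype hPC : Sylow 2 (Subgroup.centralizer ({r} : Set G))) :
          Subgroup (Subgroup.centralizer ({r} : Set G))) := by
      rw [Sylow.coe_subtype, Subgroup.mem_subgroupOf]
      exact hσ
    have hσCo : orderOf (⟨σ, hσC⟩ : Subgroup.centralizer ({r} : Set G)) = m := by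
      rw [Subgroup.orderOf_mk]
      exact hσo
    have hzc : (⟨σ, hσC⟩ : Subgroup.centralizer ({r} : Set G)) ^ h ∈
        Subgroup.center (Subgroup.centralizer ({r} : Set G)) := by
      rw [Subgroup.mem_center_iff]
      intro g
      apply Subtype.ext
      simp only [Subgroup.coe_mul, Subgroup.coe_pow]
      rw [← hrz]
      exact Subgroup.mem_centralizer_singleton_iff.mp g.2
    have hnpc := do_central_npc hmh hh hh3 M hM (P.subtype hPC) eQ ⟨σ, hσC⟩ hσQ hσCo hzc
    obtain ⟨K, hKn, hKodd, a, hKidx⟩ := do_npc_data hnpc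
    haveI := hKn
    exact do_const_of_complement M hM K hKodd a hKidx ψ hψ _ hyo
  · obtain ⟨K, hKn, hKodd, hKcard⟩ := dh_cent_npc hm P e σ hσ hσo r hr hrr
    haveI := hKn
    have hKodd' : ¬ 2 ∣ Nat.card K := by
      rw [← even_iff_two_dvd, Nat.not_even_iff_odd]
      exact hKodd
    obtain ⟨a, ha⟩ := dh_order_two_pow P σ hσ hσo
    have hKidx : K.index = 2 ^ a := by
      have h2 := K.card_mul_index
      have hpos : 0 < Nat.card K := Nat.card_pos
      rw [← ha]
      have : Nat.card K * K.index = Nat.card K * m := by rw [h2, hKcard]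
      exact Nat.eq_of_mul_eq_mul_left hpos this
    exact do_const_of_complement M hM K hKodd' a hKidx ψ hψ _ hyo

end Cfsg.Agent.Lib.Helper24
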