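import Mathlib
import Cfsg.Agent.Lib.Helper24.DO1
import Cfsg.Agent.Lib.Helper24.DO4

set_option autoImplicit false
set_option linter.style.haveILetI false
set_option linter.unusedSectionVars false
set_option linter.unusedVariables false
set_option maxHeartbeats 1600000

namespace Cfsg.Agent.Lib.Helper24

open scoped ComplexConjugate
open Cfsg.Agent.Lib.Helper25 Cfsg.Agent.Lib.helper7 Cfsg.Agent.Lib.Helper29

structure DOCtx (G : Type*) [Group G] (M : Ideal Cfsg.AlgInt) (P : Sylow 2 G) (σ τ : G)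
    (m h : ℕ) : Prop where
  hmh : m = 2 * h
  hh : 2 ≤ h
  hh3 : h ≠ 3
  hM : Cfsg.IsPModular 2 M
  hσ : σ ∈ (P : Subgroup G)
  hτ : τ ∈ (P : Subgroup G)
  hσo : orderOf σ = m
  hτo : orderOf τ = 2
  hrel : τ * σ * τ⁻¹ = σ⁻¹
  hgen : Subgroup.closure ({σ, τ} : Set G) = (P : Subgroup G)
  hc1 : IsConj (σ ^ h) τ
  hc2 : IsConj (σ ^ h) (σ * τ)

structure DOK {G : Type*} [Group G] (P : Sylow 2 G) (z : G) (K : Subgroup G) : Prop where
  le : ∀ k ∈ K, k * z = z * k
  norm : ∀ c : G, c * z = z * c → ∀ k ∈ K, c * k * c⁻¹ ∈ K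
  odd : Odd (Nat.card K)
  dec : ∀ g : G, g * z = z * g → ∃ k ∈ K, ∃ p ∈ (P : Subgroup G), g = k * p
  reg : ∀ y : G, y * z = z * y → ¬ 2 ∣ orderOf y → y ∈ K

variable {G : Type*} [Group G] {M : Ideal Cfsg.AlgInt} {P : Sylow 2 G} {σ τ : G} {m h : ℕ}

theorem DOCtx.hm (D : DOCtx G M P σ τ m h) : 3 ≤ m := by
  have := D.hmh
  have := D.hh
  omega

theorem DOCtx.iso (D : DOCtx G M P σ τ m h) :
    Nonempty ((P : Subgroup G) ≃* DihedralGroup m) :=
  do_iso (P : Subgroup G) σ τ m D.hm D.hσo D.hτo D.hrel D.hgen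

theorem DOCtx.zz (D : DOCtx G M P σ τ m h) : σ ^ h * σ ^ h = 1 := by
  rw [← pow_add, ← two_mul, ← D.hmh, ← D.hσo, pow_orderOf_eq_one]

theorem DOCtx.z_ne (D : DOCtx G M P σ τ m h) : σ ^ h ≠ 1 := by
  intro h0
  have h1 := orderOf_dvd_of_pow_eq_one h0
  rw [D.hσo] at h1
  have h2 := Nat.le_of_dvd (by have := D.hh; omega) h1
  have := D.hmh
  have := D.hh
  omega

theorem DOCtx.P_cent [Finite G] (D : DOCtx G M P σ τ m h) (t : G) (ht : t ∈ (P : Subgroup G)) :
    t * σ ^ h = σ ^ h * t := by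
  obtain ⟨e⟩ := D.iso
  haveI : NeZero m := ⟨by have := D.hm; omega⟩
  exact dh_invol_central D.hm (P : Subgroup G) e σ D.hσ D.hσo (σ ^ h)
    (Subgroup.pow_mem _ (Subgroup.mem_zpowers σ) h) D.zz t ht

theorem do_exists_K [Finite G] (D : DOCtx G M P σ τ m h) :
    ∃ K : Subgroup G, DOK P (σ ^ h) K := by
  haveI : Fact (Nat.Prime 2) := ⟨Nat.prime_two⟩
  haveI : NeZero m := ⟨by have := D.hm; omega⟩
  obtain ⟨e⟩ := D.iso
  have hPC : (P : Subgroup G) ≤ Subgroup.centralizer ({σ ^ h} : Set G) := by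
    intro t ht
    rw [Subgroup.mem_centralizer_singleton_iff]
    exact D.P_cent t ht
  obtain ⟨eQ⟩ : Nonempty (((P.subtype hPC : Sylow 2 (Subgroup.centralizer ({σ ^ h} : Set G))) :
      Subgroup (Subgroup.centralizer ({σ ^ h} : Set G))) ≃* DihedralGroup m) :=
    ⟨(Subgroup.subgroupOfEquivOfLe hPC).trans e⟩
  have hσC : σ ∈ Subgroup.centralizer ({σ ^ h} : Set G) := hPC D.hσ
  have hσQ : (⟨σ, hσC⟩ : Subgroup.centralizer ({σ ^ h} : Set G)) ∈
      ((P.subtype hPC : Sylow 2 (Subgroup.centralizer ({σ ^ h} : Set G))) :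
        Subgroup (Subgroup.centralizer ({σ ^ h} : Set G))) := by
    rw [Sylow.coe_subtype, Subgroup.mem_subgroupOf]
    exact D.hσ
  have hσCo : orderOf (⟨σ, hσC⟩ : Subgroup.centralizer ({σ ^ h} : Set G)) = m := by
    rw [Subgroup.orderOf_mk]
    exact D.hσo
  have hzc : (⟨σ, hσC⟩ : Subgroup.centralizer ({σ ^ h} : Set G)) ^ h ∈
      Subgroup.center (Subgroup.centralizer ({σ ^ h} : Set G)) := by
    rw [Subgroup.mem_center_iff]
    intro g
    apply Subtype.ext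
    simp only [Subgroup.coe_mul, Subgroup.coe_pow]
    exact Subgroup.mem_centralizer_singleton_iff.mp g.2
  have hnpc := do_central_npc D.hmh D.hh D.hh3 M D.hM (P.subtype hPC) eQ ⟨σ, hσC⟩ hσQ hσCo hzc
  obtain ⟨K₀, hKn, hKodd, a, hKidx⟩ := do_npc_data hnpc
  haveI := hKn
  have hcardQ : Nat.card ((P.subtype hPC : Sylow 2 (Subgroup.centralizer ({σ ^ h} : Set G))) :
      Subgroup (Subgroup.centralizer ({σ ^ h} : Set G))) = 2 ^ a := by
    obtain ⟨b, hb⟩ := IsPGroup.iff_card.mp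
      (P.subtype hPC : Sylow 2 (Subgroup.centralizer ({σ ^ h} : Set G))).isPGroup'
    have h1 := K₀.card_mul_index
    have h2 := ((P.subtype hPC : Sylow 2 (Subgroup.centralizer ({σ ^ h} : Set G))) :
      Subgroup (Subgroup.centralizer ({σ ^ h} : Set G))).card_mul_index
    have h3 := (P.subtype hPC : Sylow 2 (Subgroup.centralizer ({σ ^ h} : Set G))).not_dvd_index
    rw [hb] at h2 ⊢
    rw [hKidx] at h1
    have hcopK : Nat.Coprime (2 ^ b) (Nat.card K₀) :=
      Nat.Coprime.pow_left b ((Nat.Prime.coprime_iff_not_dvd Nat.prime_two).mpr hKodd)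
    have hcopI : Nat.Coprime (2 ^ a) ((P.subtype hPC : Sylow 2
        (Subgroup.centralizer ({σ ^ h} : Set G))) :
          Subgroup (Subgroup.centralizer ({σ ^ h} : Set G))).index :=
      Nat.Coprime.pow_left a ((Nat.Prime.coprime_iff_not_dvd Nat.prime_two).mpr h3)
    have d1 : 2 ^ b ∣ 2 ^ a := by
      apply hcopK.dvd_of_dvd_mul_left
      rw [h1, ← h2]
      exact dvd_mul_right _ _
    have d2 : 2 ^ a ∣ 2 ^ b := by
      apply hcopI.dvd_of_dvd_mul_right
      rw [h2, ← h1]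
      exact dvd_mul_left _ _
    exact Nat.dvd_antisymm d1 d2
  have hcompl : K₀.IsComplement' ((P.subtype hPC : Sylow 2
      (Subgroup.centralizer ({σ ^ h} : Set G))) :
        Subgroup (Subgroup.centralizer ({σ ^ h} : Set G))) := by
    apply Subgroup.isComplement'_of_coprime
    · rw [hcardQ, ← hKidx]
      exact K₀.card_mul_index
    · rw [hcardQ]
      exact (Nat.Coprime.pow_left a
        ((Nat.Prime.coprime_iff_not_dvd Nat.prime_two).mpr hKodd)).symm
  refine ⟨K₀.map (Subgroup.centralizer ({σ ^ h} : Set G)).subtype, ?_, ?_, ?_, ?_, ?_⟩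
  · intro k hk
    obtain ⟨k₀, -, rfl⟩ := Subgroup.mem_map.mp hk
    exact Subgroup.mem_centralizer_singleton_iff.mp k₀.2
  · intro c hc k hk
    obtain ⟨k₀, hk₀, rfl⟩ := Subgroup.mem_map.mp hk
    have hcC : c ∈ Subgroup.centralizer ({σ ^ h} : Set G) :=
      Subgroup.mem_centralizer_singleton_iff.mpr hc
    refine Subgroup.mem_map.mpr ⟨⟨c, hcC⟩ * k₀ * ⟨c, hcC⟩⁻¹, hKn.conj_mem k₀ hk₀ ⟨c, hcC⟩, ?_⟩
    simp
  · rw [Subgroup.card_subtype, ← Nat.not_even_iff_odd, even_iff_two_dvd]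
    exact hKodd
  · intro g hg
    have hgC : g ∈ Subgroup.centralizer ({σ ^ h} : Set G) :=
      Subgroup.mem_centralizer_singleton_iff.mpr hg
    obtain ⟨⟨k₀, p₀⟩, hkp, -⟩ := (Subgroup.isComplement_iff_existsUnique.mp hcompl)
      (⟨g, hgC⟩ : Subgroup.centralizer ({σ ^ h} : Set G))
    refine ⟨(k₀ : Subgroup.centralizer ({σ ^ h} : Set G)),
      Subgroup.mem_map.mpr ⟨k₀, k₀.2, rfl⟩, ((p₀ : Subgroup.centralizer ({σ ^ h} : Set G)) : G),
      ?_, ?_⟩
    · have hp : (p₀ : Subgroup.centralizer ({σ ^ h} : Set G)) ∈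
          (P : Subgroup G).subgroupOf (Subgroup.centralizer ({σ ^ h} : Set G)) := p₀.2
      exact Subgroup.mem_subgroupOf.mp hp
    · have := congrArg Subtype.val hkp
      simp only [Subgroup.coe_mul] at this
      exact this.symm
  · intro y hy hy2
    have hyC : y ∈ Subgroup.centralizer ({σ ^ h} : Set G) :=
      Subgroup.mem_centralizer_singleton_iff.mpr hy
    have hyo : ¬ 2 ∣ orderOf (⟨y, hyC⟩ : Subgroup.centralizer ({σ ^ h} : Set G)) := by
      rw [Subgroup.orderOf_mk]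
      exact hy2
    exact Subgroup.mem_map.mpr ⟨⟨y, hyC⟩, do_odd_mem K₀ a hKidx _ hyo, rfl⟩

end Cfsg.Agent.Lib.Helper24
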