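import Mathlib
import Cfsg.Agent.Lib.Helper24.DO5
import Cfsg.Agent.Lib.helper7.SecondMain

set_option autoImplicit false
set_option linter.style.haveILetI false
set_option linter.unusedSectionVars false
set_option linter.unusedVariables false
set_option maxHeartbeats 1600000

namespace Cfsg.Agent.Lib.Helper24

open scoped ComplexConjugate
open Cfsg.Agent.Lib.Helper25 Cfsg.Agent.Lib.helper7 Cfsg.Agent.Lib.Helper29

variable {G : Type*} [Group G] {M : Ideal Cfsg.AlgInt} {P : Sylow 2 G} {σ τ : G} {m h : ℕ}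

theorem DOK.inter [Finite G] {z : G} {K : Subgroup G} (hK : DOK P z K) (x : G) (hxK : x ∈ K)
    (hxP : x ∈ (P : Subgroup G)) : x = 1 := by
  haveI : Fact (Nat.Prime 2) := ⟨Nat.prime_two⟩
  obtain ⟨k, hk⟩ := (IsPGroup.iff_orderOf.mp P.isPGroup') ⟨x, hxP⟩
  rw [Subgroup.orderOf_mk] at hk
  have h2 : orderOf x ∣ Nat.card K := by
    have := orderOf_dvd_natCard (⟨x, hxK⟩ : K)
    rwa [Subgroup.orderOf_mk] at this
  have h3 : Nat.Coprime (2 ^ k) (Nat.card K) :=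
    Nat.Coprime.pow_left k (Nat.coprime_two_left.mpr hK.odd)
  have : orderOf x = 1 := Nat.eq_one_of_dvd_coprimes h3 (by rw [hk]) h2
  exact orderOf_eq_one_iff.mp this

theorem do_comm_conj {z a c : G} (ha : a * z = z * a) (hc : c * z = z * c) :
    c * a * c⁻¹ * z = z * (c * a * c⁻¹) := by
  have hc' : c⁻¹ * z = z * c⁻¹ := (Commute.inv_left (show Commute c z from hc)).eq
  calc c * a * c⁻¹ * z = c * a * (c⁻¹ * z) := by group
    _ = c * a * (z * c⁻¹) := by rw [hc']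
    _ = c * (a * z) * c⁻¹ := by group
    _ = c * (z * a) * c⁻¹ := by rw [ha]
    _ = (c * z) * a * c⁻¹ := by group
    _ = (z * c) * a * c⁻¹ := by rw [hc]
    _ = z * (c * a * c⁻¹) := by group

theorem do_comm_mul {z a b : G} (ha : a * z = z * a) (hb : b * z = z * b) :
    a * b * z = z * (a * b) := by
  rw [mul_assoc, hb, ← mul_assoc, ha, mul_assoc]

theorem do_comm_inv {z a : G} (ha : a * z = z * a) : a⁻¹ * z = z * a⁻¹ :=
  (Commute.inv_left (show Commute a z from ha)).eq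

theorem do_conj_order (g u : G) : orderOf (g * u * g⁻¹) = orderOf u := by
  have := orderOf_injective (MulAut.conj g).toMonoidHom (MulAut.conj g).injective u
  rw [← this]
  rfl

theorem do_conj_into_P [Finite G] (D : DOCtx G M P σ τ m h) (u : G)
    (huz : u * σ ^ h = σ ^ h * u) (hu2 : ∃ a : ℕ, orderOf u = 2 ^ a) :
    ∃ c : G, c * σ ^ h = σ ^ h * c ∧ c * u * c⁻¹ ∈ (P : Subgroup G) := by
  haveI : Fact (Nat.Prime 2) := ⟨Nat.prime_two⟩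
  have hPC : (P : Subgroup G) ≤ Subgroup.centralizer ({σ ^ h} : Set G) := by
    intro t ht
    rw [Subgroup.mem_centralizer_singleton_iff]
    exact D.P_cent t ht
  have huC : u ∈ Subgroup.centralizer ({σ ^ h} : Set G) :=
    Subgroup.mem_centralizer_singleton_iff.mpr huz
  have hT : IsPGroup 2 (Subgroup.zpowers (⟨u, huC⟩ : Subgroup.centralizer ({σ ^ h} : Set G))) := by
    obtain ⟨a, ha⟩ := hu2
    rw [IsPGroup.iff_card, Nat.card_zpowers, Subgroup.orderOf_mk, ha]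
    exact ⟨a, rfl⟩
  obtain ⟨c₀, hc₀⟩ := af3_conj_le_sylow 2 _ hT (P.subtype hPC)
  have h1 := hc₀ ⟨u, huC⟩ (Subgroup.mem_zpowers _)
  have h2 : (c₀ * ⟨u, huC⟩ * c₀⁻¹ : Subgroup.centralizer ({σ ^ h} : Set G)) ∈
      (P : Subgroup G).subgroupOf (Subgroup.centralizer ({σ ^ h} : Set G)) := h1
  rw [Subgroup.mem_subgroupOf] at h2
  refine ⟨(c₀ : G), Subgroup.mem_centralizer_singleton_iff.mp c₀.2, ?_⟩
  simpa using h2

theorem do_conj_coset [Finite G] (D : DOCtx G M P σ τ m h) {K : Subgroup G}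
    (hK : DOK P (σ ^ h) K) (u : G) (huz : u * σ ^ h = σ ^ h * u)
    (hu2 : ∃ a : ℕ, orderOf u = 2 ^ a) (p : G) (hp : p ∈ (P : Subgroup G))
    (hup : u⁻¹ * p ∈ K) : ∃ c : G, c * σ ^ h = σ ^ h * c ∧ c * u * c⁻¹ = p := by
  obtain ⟨c₁, hc₁z, hc₁P⟩ := do_conj_into_P D u huz hu2
  obtain ⟨k', hk', p', hp', hc₁⟩ := hK.dec c₁ hc₁z
  have hpz : p * σ ^ h = σ ^ h * p := D.P_cent p hp
  have hp'z : p' * σ ^ h = σ ^ h * p' := D.P_cent p' hp'
  have hupK : u * p⁻¹ ∈ K := by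
    have h1 : (u⁻¹ * p)⁻¹ ∈ K := K.inv_mem hup
    have h2 := hK.norm p hpz _ h1
    have : p * (u⁻¹ * p)⁻¹ * p⁻¹ = u * p⁻¹ := by group
    rwa [this] at h2
  have haz : (p' * u * p'⁻¹) * σ ^ h = σ ^ h * (p' * u * p'⁻¹) := do_comm_conj huz hp'z
  have hx : c₁ * u * c₁⁻¹ * (p' * p * p'⁻¹)⁻¹ = 1 := by
    apply hK.inter
    · have e1 : c₁ * u * c₁⁻¹ * (p' * p * p'⁻¹)⁻¹ =
          k' * ((p' * u * p'⁻¹) * k'⁻¹ * (p' * u * p'⁻¹)⁻¹) * (p' * (u * p⁻¹) * p'⁻¹) := by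
        rw [hc₁]
        group
      rw [e1]
      exact K.mul_mem (K.mul_mem hk' (hK.norm _ haz _ (K.inv_mem hk')))
        (hK.norm p' hp'z _ hupK)
    · exact Subgroup.mul_mem _ hc₁P (Subgroup.inv_mem _
        (Subgroup.mul_mem _ (Subgroup.mul_mem _ hp' hp) (Subgroup.inv_mem _ hp')))
  have hx' : c₁ * u * c₁⁻¹ = p' * p * p'⁻¹ := by
    rw [mul_inv_eq_one] at hx
    exact hx
  refine ⟨p'⁻¹ * c₁, do_comm_mul (do_comm_inv hp'z) hc₁z, ?_⟩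
  have : p'⁻¹ * c₁ * u * (p'⁻¹ * c₁)⁻¹ = p'⁻¹ * (c₁ * u * c₁⁻¹) * p' := by group
  rw [this, hx']
  group

theorem do_sigma_tau (D : DOCtx G M P σ τ m h) (j : ℤ) : σ ^ (-j) * τ = τ * σ ^ j := by
  have h1 := dh_conj_pow D.hrel j
  have h2 : τ * σ ^ j = (σ ^ j)⁻¹ * τ := by
    rw [← h1]
    group
  rw [h2, zpow_neg]

theorem do_conj_tau_pow (D : DOCtx G M P σ τ m h) (i j : ℤ) :
    σ ^ (-j) * (τ * σ ^ i) * (σ ^ (-j))⁻¹ = τ * σ ^ (i + 2 * j) := by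
  rw [← mul_assoc, do_sigma_tau D j, ← zpow_neg, neg_neg, mul_assoc, mul_assoc, ← zpow_add,
    ← zpow_add]
  congr 2
  ring

theorem do_sigma_tau_eq (D : DOCtx G M P σ τ m h) : σ * τ = τ * σ ^ (-1 : ℤ) := by
  have := do_sigma_tau D (-1)
  rw [neg_neg, zpow_one] at this
  exact this

theorem do_P_conj_R [Finite G] (D : DOCtx G M P σ τ m h) (p : G) (hp : p ∈ (P : Subgroup G))
    (hp1 : p ≠ 1) : ∃ a : G, ∃ r ∈ Subgroup.zpowers σ, r ≠ 1 ∧ a * r * a⁻¹ = p := by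
  obtain ⟨k, hk | hk⟩ := do_elems (P : Subgroup G) σ τ D.hτo D.hrel D.hgen p hp
  · refine ⟨1, p, ?_, hp1, by group⟩
    rw [hk]
    exact Subgroup.zpow_mem _ (Subgroup.mem_zpowers σ) k
  · have hzR : σ ^ h ∈ Subgroup.zpowers σ := Subgroup.pow_mem _ (Subgroup.mem_zpowers σ) h
    rcases Int.emod_two_eq_zero_or_one k with hk2 | hk2
    · obtain ⟨j, hj⟩ : ∃ j : ℤ, k = 0 + 2 * j := ⟨k / 2, by omega⟩
      obtain ⟨g, hg⟩ := isConj_iff.mp D.hc1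
      refine ⟨σ ^ (-j) * g, σ ^ h, hzR, D.z_ne, ?_⟩
      have e1 : σ ^ (-j) * g * σ ^ h * (σ ^ (-j) * g)⁻¹ =
          σ ^ (-j) * (g * σ ^ h * g⁻¹) * (σ ^ (-j))⁻¹ := by group
      rw [e1, hg, hk, hj]
      have := do_conj_tau_pow D 0 j
      rw [zpow_zero, mul_one] at this
      exact this
    · obtain ⟨j, hj⟩ : ∃ j : ℤ, k = -1 + 2 * j := ⟨(k + 1) / 2, by omega⟩
      obtain ⟨g, hg⟩ := isConj_iff.mp D.hc2
      refine ⟨σ ^ (-j) * g, σ ^ h, hzR, D.z_ne, ?_⟩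
      have e1 : σ ^ (-j) * g * σ ^ h * (σ ^ (-j) * g)⁻¹ =
          σ ^ (-j) * (g * σ ^ h * g⁻¹) * (σ ^ (-j))⁻¹ := by group
      rw [e1, hg, hk, hj, do_sigma_tau_eq D]
      exact do_conj_tau_pow D (-1) j

theorem do_const_P [Finite G] (D : DOCtx G M P σ τ m h) (χ : Cfsg.IrrCharacter G)
    (hχ : χ ∈ Cfsg.principalBlock M G) (p : G) (hp : p ∈ (P : Subgroup G)) (hp1 : p ≠ 1)
    (ρ : G) (hρp : ρ * p = p * ρ) (hρ : ¬ 2 ∣ orderOf ρ) :
    (χ : G → ℂ) (p * ρ) = (χ : G → ℂ) p := by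
  obtain ⟨e⟩ := D.iso
  obtain ⟨a, r, hr, hr1, hap⟩ := do_P_conj_R D p hp hp1
  have e1 : p * ρ = a * (r * (a⁻¹ * ρ * a)) * a⁻¹ := by
    rw [← hap]
    group
  have hcomm : (a⁻¹ * ρ * a) * r = r * (a⁻¹ * ρ * a) := by
    have h1 : ρ * (a * r * a⁻¹) = (a * r * a⁻¹) * ρ := by rw [hap]; exact hρp
    calc (a⁻¹ * ρ * a) * r = a⁻¹ * (ρ * (a * r * a⁻¹)) * a := by group
      _ = a⁻¹ * ((a * r * a⁻¹) * ρ) * a := by rw [h1]
      _ = r * (a⁻¹ * ρ * a) := by group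
  have hord : ¬ 2 ∣ orderOf (a⁻¹ * ρ * a) := by
    have : orderOf (a⁻¹ * ρ * a) = orderOf ρ := by
      have := do_conj_order a⁻¹ ρ
      rwa [inv_inv] at this
    rw [this]
    exact hρ
  rw [e1, irr_conj_invariant,
    do_const_R D.hmh D.hh D.hh3 M D.hM P e σ D.hσ D.hσo χ hχ r hr hr1 _ hcomm hord, ← hap,
    irr_conj_invariant]

theorem do_ppart_conj [Finite G] (D : DOCtx G M P σ τ m h) {K : Subgroup G}
    (hK : DOK P (σ ^ h) K) (k : G) (hk : k ∈ K) (p : G) (hp : p ∈ (P : Subgroup G)) :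
    ∃ u ρ c : G, u * ρ = k * p ∧ Commute u ρ ∧ ¬ 2 ∣ orderOf ρ ∧
      u ∈ Subgroup.zpowers (k * p) ∧ c * σ ^ h = σ ^ h * c ∧ c * u * c⁻¹ = p := by
  haveI : Fact (Nat.Prime 2) := ⟨Nat.prime_two⟩
  have hpz : p * σ ^ h = σ ^ h * p := D.P_cent p hp
  have hgz : (k * p) * σ ^ h = σ ^ h * (k * p) := do_comm_mul (hK.le k hk) hpz
  obtain ⟨u, ρ, huρ, hc, hu2, hρ2⟩ := h7_exists_isPPart 2 (k * p)
  have huzp : u ∈ Subgroup.zpowers (k * p) := by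
    have := h7_ppart_mem_zpowers_pow 2 (k * p) u ⟨ρ, huρ, hc, hu2, hρ2⟩ 1 (by norm_num)
    rwa [pow_one] at this
  have huz : u * σ ^ h = σ ^ h * u := by
    obtain ⟨i, rfl⟩ := Subgroup.mem_zpowers_iff.mp huzp
    have : Commute (k * p) (σ ^ h) := hgz
    exact (this.zpow_left i).eq
  have hρeq : ρ = u⁻¹ * (k * p) := by
    rw [← huρ]
    group
  have hρz : ρ * σ ^ h = σ ^ h * ρ := by
    rw [hρeq]
    exact do_comm_mul (do_comm_inv huz) hgz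
  have hρK : ρ ∈ K := hK.reg ρ hρz hρ2
  have hup : u⁻¹ * p ∈ K := by
    have e1 : u⁻¹ * p = ρ * (p⁻¹ * k⁻¹ * p⁻¹⁻¹) := by
      have : u⁻¹ = ρ * (k * p)⁻¹ := by
        rw [← huρ]
        group
      rw [this]
      group
    rw [e1]
    exact K.mul_mem hρK (hK.norm p⁻¹ (do_comm_inv hpz) _ (K.inv_mem hk))
  obtain ⟨c, hcz, hcu⟩ := do_conj_coset D hK u huz hu2 p hp hup
  exact ⟨u, ρ, c, huρ, hc, hρ2, huzp, hcz, hcu⟩

theorem do_chi_coset [Finite G] (D : DOCtx G M P σ τ m h) {K : Subgroup G}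
    (hK : DOK P (σ ^ h) K) (χ : Cfsg.IrrCharacter G) (hχ : χ ∈ Cfsg.principalBlock M G)
    (k : G) (hk : k ∈ K) (p : G) (hp : p ∈ (P : Subgroup G)) (hp1 : p ≠ 1) :
    (χ : G → ℂ) (k * p) = (χ : G → ℂ) p := by
  obtain ⟨u, ρ, c, huρ, hc, hρ2, -, hcz, hcu⟩ := do_ppart_conj D hK k hk p hp
  have e2 : k * p = c⁻¹ * (p * (c * ρ * c⁻¹)) * c⁻¹⁻¹ := by
    rw [← huρ, ← hcu]
    group
  have hcomm : (c * ρ * c⁻¹) * p = p * (c * ρ * c⁻¹) := by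
    rw [← hcu]
    calc c * ρ * c⁻¹ * (c * u * c⁻¹) = c * (ρ * u) * c⁻¹ := by group
      _ = c * (u * ρ) * c⁻¹ := by rw [hc.eq]
      _ = c * u * c⁻¹ * (c * ρ * c⁻¹) := by group
  have hord : ¬ 2 ∣ orderOf (c * ρ * c⁻¹) := by
    rw [do_conj_order]
    exact hρ2
  rw [e2, irr_conj_invariant, do_const_P D χ hχ p hp hp1 _ hcomm hord]

end Cfsg.Agent.Lib.Helper24
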