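import Mathlib
import Cfsg.Agent.Lib.Helper24.DO6

set_option autoImplicit false
set_option linter.style.haveILetI false
set_option linter.unusedSectionVars false
set_option linter.unusedVariables false
set_option maxHeartbeats 1600000

namespace Cfsg.Agent.Lib.Helper24

open scoped ComplexConjugate
open Cfsg.Agent.Lib.Helper25 Cfsg.Agent.Lib.helper7 Cfsg.Agent.Lib.Helper29

variable {G : Type*} [Group G] {M : Ideal Cfsg.AlgInt} {P : Sylow 2 G} {σ τ : G} {m h : ℕ}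

theorem do_xi_exists [Finite G] (D : DOCtx G M P σ τ m h) (χ₁ : Cfsg.IrrCharacter G)
    (hχ₁ : χ₁ ∈ Cfsg.principalBlock M G) (h1 : (χ₁ : G → ℂ) ≠ (fun _ => 1)) (δ₁ : ℤ)
    (hδ₁ : δ₁ = 1 ∨ δ₁ = -1)
    (hval : ∀ l : ℕ, 0 < l → l < m → (χ₁ : G → ℂ) (σ ^ l) = δ₁) (ζ : ℂ)
    (hζ : IsPrimitiveRoot ζ m) :
    ∃ ξ : Cfsg.IrrCharacter G, ξ ∈ Cfsg.principalBlock M G ∧
      (∀ l : ℕ, 0 < l → l < m → (ξ : G → ℂ) (σ ^ l) = δ₁ * (ζ ^ l + (ζ ^ l)⁻¹)) ∧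
      ∀ ρ : G, ¬ 2 ∣ orderOf ρ → 1 + δ₁ * (χ₁ : G → ℂ) ρ = δ₁ * (ξ : G → ℂ) ρ := by
  obtain ⟨e⟩ := D.iso
  have hm := D.hm
  have hmh := D.hmh
  have hh := D.hh
  obtain ⟨-, χ₁', χ₂, χ₃, χ', δ₁', δ₂, δ₃, hδ₁', hδ₂, hδ₃, -, -, -, -, -, -, -, -, hB, hvals, hrel⟩ :=
    dh_principal_block D.hmh D.hh D.hh3 M D.hM P e σ D.hσ D.hσo ζ hζ
  have hζh : ζ ^ h = -1 := by
    rw [hmh] at hζ
    exact dh_zeta_half (by omega) ζ hζ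
  have hmem := hχ₁
  rw [hB] at hmem
  rcases hmem with h0 | h0 | h0 | h0 | ⟨j, h0⟩
  · exact absurd h0 h1
  · have hδ : δ₁' = δ₁ := by
      have e1 := (hvals 1 (by omega) (by omega)).1
      have e2 := hval 1 (by omega) (by omega)
      rw [← h0, e2] at e1
      exact_mod_cast e1.symm
    have hj0 : 0 < h - 1 := by omega
    refine ⟨χ' ⟨0, hj0⟩, ?_, ?_, ?_⟩
    · rw [hB]
      exact Or.inr (Or.inr (Or.inr (Or.inr ⟨_, rfl⟩)))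
    · intro l hl0 hlm
      have := (hvals l hl0 hlm).2.2.2 ⟨0, hj0⟩
      rw [this, hδ]
      simp
    · intro ρ hρ
      have hodd : Odd (orderOf ρ) := by
        rw [← Nat.not_even_iff_odd, even_iff_two_dvd]
        exact hρ
      have := (hrel ρ hodd ⟨0, hj0⟩).2
      rw [h0, ← hδ]
      exact this
  · exfalso
    have e1 := (hvals 1 (by omega) (by omega)).2.1
    have e2 := (hvals 2 (by omega) (by omega)).2.1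
    rw [← h0, hval 1 (by omega) (by omega)] at e1
    rw [← h0, hval 2 (by omega) (by omega)] at e2
    have e3 : ((δ₁ : ℤ) : ℂ) = ((δ₂ : ℤ) : ℂ) := by
      rw [e1]
      push_cast
      ring
    have e4 : ((δ₁ : ℤ) : ℂ) = ((-δ₂ : ℤ) : ℂ) := by
      rw [e2]
      push_cast
      ring
    have e5 : δ₁ = δ₂ := by exact_mod_cast e3
    have e6 : δ₁ = -δ₂ := by exact_mod_cast e4
    rcases hδ₂ with hd | hd <;> omega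
  · exfalso
    have e1 := (hvals 1 (by omega) (by omega)).2.2.1
    have e2 := (hvals 2 (by omega) (by omega)).2.2.1
    rw [← h0, hval 1 (by omega) (by omega)] at e1
    rw [← h0, hval 2 (by omega) (by omega)] at e2
    have e3 : ((δ₁ : ℤ) : ℂ) = ((δ₃ : ℤ) : ℂ) := by
      rw [e1]
      push_cast
      ring
    have e4 : ((δ₁ : ℤ) : ℂ) = ((-δ₃ : ℤ) : ℂ) := by
      rw [e2]
      push_cast
      ring
    have e5 : δ₁ = δ₃ := by exact_mod_cast e3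
    have e6 : δ₁ = -δ₃ := by exact_mod_cast e4
    rcases hδ₃ with hd | hd <;> omega
  · exfalso
    have e1 := (hvals h (by omega) (by omega)).2.2.2 j
    rw [← h0, hval h (by omega) (by omega)] at e1
    have e2 : ζ ^ (((j : ℕ) + 1) * h) = (-1) ^ ((j : ℕ) + 1) := by
      rw [mul_comm, pow_mul, hζh]
    have e3 : ((-1 : ℂ) ^ ((j : ℕ) + 1))⁻¹ = (-1) ^ ((j : ℕ) + 1) := by
      rw [← inv_pow]
      norm_num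
    rw [e2, e3] at e1
    have e4 : ((δ₁ : ℤ) : ℂ) = ((δ₁' * (2 * (-1) ^ ((j : ℕ) + 1)) : ℤ) : ℂ) := by
      rw [e1]
      push_cast
      ring
    have e5 : δ₁ = δ₁' * (2 * (-1) ^ ((j : ℕ) + 1)) := by exact_mod_cast e4
    have hpm : ((-1 : ℤ) ^ ((j : ℕ) + 1) = 1) ∨ ((-1 : ℤ) ^ ((j : ℕ) + 1) = -1) :=
      neg_one_pow_eq_or ℤ _
    rcases hδ₁ with hd | hd <;> rcases hδ₁' with hd' | hd' <;> rcases hpm with hp | hp <;>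
      rw [hd, hd', hp] at e5 <;> omega

noncomputable def doPhi (χ₁ ξ : Cfsg.IrrCharacter G) (δ₁ : ℤ) : G → ℂ :=
  fun x => 1 + (δ₁ : ℂ) * (χ₁ : G → ℂ) x - (δ₁ : ℂ) * (ξ : G → ℂ) x

theorem doPhi_reg (χ₁ ξ : Cfsg.IrrCharacter G) (δ₁ : ℤ)
    (hrel : ∀ ρ : G, ¬ 2 ∣ orderOf ρ → 1 + δ₁ * (χ₁ : G → ℂ) ρ = δ₁ * (ξ : G → ℂ) ρ)
    (ρ : G) (hρ : ¬ 2 ∣ orderOf ρ) : doPhi χ₁ ξ δ₁ ρ = 0 := by
  unfold doPhi
  rw [hrel ρ hρ, sub_self]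

theorem doPhi_one (χ₁ ξ : Cfsg.IrrCharacter G) (δ₁ : ℤ)
    (hrel : ∀ ρ : G, ¬ 2 ∣ orderOf ρ → 1 + δ₁ * (χ₁ : G → ℂ) ρ = δ₁ * (ξ : G → ℂ) ρ) :
    doPhi χ₁ ξ δ₁ 1 = 0 :=
  doPhi_reg χ₁ ξ δ₁ hrel 1 (by rw [orderOf_one]; norm_num)

theorem doPhi_conj [Finite G] (χ₁ ξ : Cfsg.IrrCharacter G) (δ₁ : ℤ) (g x : G) :
    doPhi χ₁ ξ δ₁ (g * x * g⁻¹) = doPhi χ₁ ξ δ₁ x := by
  unfold doPhi
  rw [irr_conj_invariant, irr_conj_invariant]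

theorem doPhi_sigma_nat (χ₁ ξ : Cfsg.IrrCharacter G) (δ₁ : ℤ) (hδ₁ : δ₁ = 1 ∨ δ₁ = -1)
    (ζ : ℂ) (hval : ∀ l : ℕ, 0 < l → l < m → (χ₁ : G → ℂ) (σ ^ l) = δ₁)
    (hξ : ∀ l : ℕ, 0 < l → l < m → (ξ : G → ℂ) (σ ^ l) = δ₁ * (ζ ^ l + (ζ ^ l)⁻¹))
    (l : ℕ) (hl0 : 0 < l) (hlm : l < m) :
    doPhi χ₁ ξ δ₁ (σ ^ l) = 2 - ζ ^ l - (ζ ^ l)⁻¹ := by
  unfold doPhi
  rw [hval l hl0 hlm, hξ l hl0 hlm]
  have hsq : (δ₁ : ℂ) * (δ₁ : ℂ) = 1 := by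
    rcases hδ₁ with h | h <;> rw [h] <;> norm_num
  linear_combination (1 - (ζ ^ l + (ζ ^ l)⁻¹)) * hsq

theorem doPhi_sigma_int (χ₁ ξ : Cfsg.IrrCharacter G) (δ₁ : ℤ) (hδ₁ : δ₁ = 1 ∨ δ₁ = -1)
    (hm : 0 < m) (hσo : orderOf σ = m)
    (ζ : ℂ) (hζ : IsPrimitiveRoot ζ m)
    (hval : ∀ l : ℕ, 0 < l → l < m → (χ₁ : G → ℂ) (σ ^ l) = δ₁)
    (hξ : ∀ l : ℕ, 0 < l → l < m → (ξ : G → ℂ) (σ ^ l) = δ₁ * (ζ ^ l + (ζ ^ l)⁻¹))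
    (hrel : ∀ ρ : G, ¬ 2 ∣ orderOf ρ → 1 + δ₁ * (χ₁ : G → ℂ) ρ = δ₁ * (ξ : G → ℂ) ρ)
    (l : ℤ) : doPhi χ₁ ξ δ₁ (σ ^ l) = 2 - ζ ^ l - (ζ ^ l)⁻¹ := by
  have hm' : (m : ℤ) ≠ 0 := by exact_mod_cast hm.ne'
  obtain ⟨l', hl'⟩ : ∃ l' : ℕ, (l' : ℤ) = l % (m : ℤ) :=
    ⟨(l % (m : ℤ)).toNat, Int.toNat_of_nonneg (Int.emod_nonneg l hm')⟩
  have hl'm : l' < m := by
    have := Int.emod_lt_of_pos l (by exact_mod_cast hm : (0 : ℤ) < m)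
    rw [← hl'] at this
    exact_mod_cast this
  have e1 : σ ^ l = σ ^ l' := by
    rw [← zpow_natCast, hl', ← hσo, zpow_mod_orderOf]
  have e2 : ζ ^ l = ζ ^ l' := by
    have hζ0 : ζ ≠ 0 := hζ.ne_zero hm.ne'
    have hl : l = (l' : ℤ) + (m : ℤ) * (l / (m : ℤ)) := by
      rw [hl']
      exact (Int.emod_add_mul_ediv l m).symm
    rw [hl, zpow_add₀ hζ0, zpow_mul, zpow_natCast, zpow_natCast, hζ.pow_eq_one, one_zpow,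
      mul_one]
  rw [e1, e2]
  rcases Nat.eq_zero_or_pos l' with h0 | hpos
  · rw [h0, pow_zero, pow_zero, doPhi_one χ₁ ξ δ₁ hrel]
    norm_num
  · exact doPhi_sigma_nat χ₁ ξ δ₁ hδ₁ ζ hval hξ l' hpos hl'm

theorem doPhi_coset [Finite G] (D : DOCtx G M P σ τ m h) {K : Subgroup G}
    (hK : DOK P (σ ^ h) K) (χ₁ ξ : Cfsg.IrrCharacter G)
    (hχ₁ : χ₁ ∈ Cfsg.principalBlock M G) (hξB : ξ ∈ Cfsg.principalBlock M G) (δ₁ : ℤ)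
    (hrel : ∀ ρ : G, ¬ 2 ∣ orderOf ρ → 1 + δ₁ * (χ₁ : G → ℂ) ρ = δ₁ * (ξ : G → ℂ) ρ)
    (k : G) (hk : k ∈ K) (p : G) (hp : p ∈ (P : Subgroup G)) :
    doPhi χ₁ ξ δ₁ (k * p) = doPhi χ₁ ξ δ₁ p := by
  by_cases hp1 : p = 1
  · rw [hp1, mul_one, doPhi_one χ₁ ξ δ₁ hrel]
    apply doPhi_reg χ₁ ξ δ₁ hrel
    intro h2
    have h3 : orderOf k ∣ Nat.card K := by
      have := orderOf_dvd_natCard (⟨k, hk⟩ : K)
      rwa [Subgroup.orderOf_mk] at this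
    have h4 : 2 ∣ Nat.card K := h2.trans h3
    have := hK.odd
    rw [← Nat.not_even_iff_odd, even_iff_two_dvd] at this
    exact this h4
  · unfold doPhi
    rw [do_chi_coset D hK χ₁ hχ₁ k hk p hp hp1, do_chi_coset D hK ξ hξB k hk p hp hp1]

theorem doPhi_sum [Fintype G] (χ₁ ξ : Cfsg.IrrCharacter G) (δ₁ : ℤ) (z : G) :
    ∑ y : G, doPhi χ₁ ξ δ₁ (y * z * y⁻¹ * z) =
      (Nat.card G : ℂ) * (1 + (δ₁ : ℂ) * ((χ₁ : G → ℂ) z * (χ₁ : G → ℂ) z / (χ₁ : G → ℂ) 1) -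
        (δ₁ : ℂ) * ((ξ : G → ℂ) z * (ξ : G → ℂ) z / (ξ : G → ℂ) 1)) := by
  unfold doPhi
  rw [Finset.sum_sub_distrib, Finset.sum_add_distrib, ← Finset.mul_sum, ← Finset.mul_sum,
    irr_sum_conj_mul, irr_sum_conj_mul]
  simp only [Finset.sum_const, Finset.card_univ, nsmul_eq_mul, mul_one,
    ← Nat.card_eq_fintype_card]
  ring

end Cfsg.Agent.Lib.Helper24
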