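import Mathlib
import Cfsg.Agent.Lib.Helper24.DO7
import Cfsg.Agent.Lib.Helper24.KleinOrder3

set_option autoImplicit false
set_option linter.style.haveILetI false
set_option linter.unusedSectionVars false
set_option linter.unusedVariables false
set_option maxHeartbeats 1600000

namespace Cfsg.Agent.Lib.Helper24

open scoped ComplexConjugate
open Cfsg.Agent.Lib.Helper25 Cfsg.Agent.Lib.helper7 Cfsg.Agent.Lib.Helper29

variable {G : Type*} [Group G] {M : Ideal Cfsg.AlgInt} {P : Sylow 2 G} {σ τ : G} {m h : ℕ}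

theorem do_invol_zpow {x : G} (hx : x * x = 1) (i : ℤ) : x ^ i = 1 ∨ x ^ i = x := by
  have hi : i = i % 2 + 2 * (i / 2) := (Int.emod_add_mul_ediv i 2).symm
  have h2 : x ^ (2 : ℤ) = 1 := by
    rw [zpow_ofNat, pow_two]
    exact hx
  rcases Int.emod_two_eq_zero_or_one i with h0 | h0
  · left
    rw [hi, h0, zero_add, zpow_mul, h2, one_zpow]
  · right
    rw [hi, h0, zpow_add, zpow_one, zpow_mul, h2, one_zpow, mul_one]

theorem do_invol_conj [Finite G] (D : DOCtx G M P σ τ m h) (t : G) (htt : t * t = 1)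
    (ht1 : t ≠ 1) : ∃ a : G, a * σ ^ h * a⁻¹ = t := by
  haveI : Fact (Nat.Prime 2) := ⟨Nat.prime_two⟩
  have hT : IsPGroup 2 (Subgroup.zpowers t) := by
    have ho : orderOf t = 2 := orderOf_eq_prime (by rw [pow_two]; exact htt) ht1
    rw [IsPGroup.iff_card, Nat.card_zpowers, ho]
    exact ⟨1, by norm_num⟩
  obtain ⟨c, hc⟩ := af3_conj_le_sylow 2 _ hT P
  have hp := hc t (Subgroup.mem_zpowers t)
  have hp1 : c * t * c⁻¹ ≠ 1 := by
    intro h0
    apply ht1
    have : t = c⁻¹ * (c * t * c⁻¹) * c := by group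
    rw [this, h0]
    group
  obtain ⟨a, r, hr, hr1, har⟩ := do_P_conj_R D (c * t * c⁻¹) hp hp1
  have hrr : r * r = 1 := by
    have h1 : r = a⁻¹ * (c * t * c⁻¹) * a := by
      rw [← har]
      group
    rw [h1]
    calc a⁻¹ * (c * t * c⁻¹) * a * (a⁻¹ * (c * t * c⁻¹) * a) = a⁻¹ * c * (t * t) * c⁻¹ * a := by
          group
      _ = 1 := by rw [htt]; group
  have hrz : r = σ ^ h :=
    dh_unique_invol σ r (σ ^ h) hr (Subgroup.pow_mem _ (Subgroup.mem_zpowers σ) h) hrr D.zz hr1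
      D.z_ne
  refine ⟨c⁻¹ * a, ?_⟩
  rw [← hrz]
  calc c⁻¹ * a * r * (c⁻¹ * a)⁻¹ = c⁻¹ * (a * r * a⁻¹) * c := by group
    _ = c⁻¹ * (c * t * c⁻¹) * c := by rw [har]
    _ = t := by group

theorem do_z_mem_zpowers [Finite G] (D : DOCtx G M P σ τ m h) (r : G)
    (hr : r ∈ Subgroup.zpowers σ) (hr1 : r ≠ 1) : σ ^ h ∈ Subgroup.zpowers r := by
  haveI : Fact (Nat.Prime 2) := ⟨Nat.prime_two⟩
  have hRP : Subgroup.zpowers σ ≤ (P : Subgroup G) := by
    rw [Subgroup.zpowers_le]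
    exact D.hσ
  obtain ⟨k, hk⟩ := (IsPGroup.iff_orderOf.mp P.isPGroup') ⟨r, hRP hr⟩
  rw [Subgroup.orderOf_mk] at hk
  have hk0 : k ≠ 0 := by
    intro h0
    rw [h0, pow_zero, orderOf_eq_one_iff] at hk
    exact hr1 hk
  obtain ⟨k', rfl⟩ : ∃ k', k = k' + 1 := ⟨k - 1, by omega⟩
  have h1 : r ^ (2 ^ k') * r ^ (2 ^ k') = 1 := by
    rw [← pow_add, ← two_mul, ← pow_succ', ← hk, pow_orderOf_eq_one]
  have h2 : r ^ (2 ^ k') ≠ 1 := by
    apply pow_ne_one_of_lt_orderOf (by positivity)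
    rw [hk, pow_succ]
    have : 0 < 2 ^ k' := by positivity
    omega
  have h3 : r ^ (2 ^ k') ∈ Subgroup.zpowers σ := Subgroup.pow_mem _ hr _
  have h4 := dh_unique_invol σ (r ^ (2 ^ k')) (σ ^ h) h3
    (Subgroup.pow_mem _ (Subgroup.mem_zpowers σ) h) h1 D.zz h2 D.z_ne
  rw [← h4]
  exact Subgroup.pow_mem _ (Subgroup.mem_zpowers r) _

theorem do_fiber_sum [Fintype G] [DecidableEq G] (z : G) (f : G → ℂ) :
    ∑ y : G, f (y * z * y⁻¹) =
      (Nat.card (Subgroup.centralizer ({z} : Set G)) : ℂ) *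
        ∑ s ∈ Finset.univ.filter (fun s : G => ∃ a : G, a * z * a⁻¹ = s), f s := by
  have himg : Finset.univ.image (fun y : G => y * z * y⁻¹) =
      Finset.univ.filter (fun s : G => ∃ a : G, a * z * a⁻¹ = s) := by
    ext s
    simp
  rw [Finset.sum_comp f (fun y : G => y * z * y⁻¹), himg, Finset.mul_sum]
  apply Finset.sum_congr rfl
  intro s hs
  rw [Finset.mem_filter] at hs
  rw [kf_fiber_card z s hs.2, nsmul_eq_mul]

theorem do_double_count [Fintype G] [DecidableEq G] (z : G) (F : G → ℂ) :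
    ∑ y : G, ∑ g : G, F (g⁻¹ * (y * z * y⁻¹ * z) * g) =
      (Nat.card (Subgroup.centralizer ({z} : Set G)) : ℂ) ^ 2 *
        ∑ s ∈ Finset.univ.filter (fun s : G => ∃ a : G, a * z * a⁻¹ = s),
          ∑ t ∈ Finset.univ.filter (fun s : G => ∃ a : G, a * z * a⁻¹ = s), F (s * t) := by
  rw [Finset.sum_comm]
  have h1 : ∀ g : G, ∑ y : G, F (g⁻¹ * (y * z * y⁻¹ * z) * g) =
      ∑ y : G, F (y * z * y⁻¹ * (g⁻¹ * z * g⁻¹⁻¹)) := by
    intro g
    apply Fintype.sum_equiv (Equiv.mulLeft g⁻¹)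
    intro y
    simp only [Equiv.coe_mulLeft]
    congr 1
    group
  rw [Finset.sum_congr rfl (fun g _ => h1 g)]
  have h2 : ∑ g : G, ∑ y : G, F (y * z * y⁻¹ * (g⁻¹ * z * g⁻¹⁻¹)) =
      ∑ g : G, ∑ y : G, F (y * z * y⁻¹ * (g * z * g⁻¹)) := by
    apply Fintype.sum_equiv (Equiv.inv G)
    intro g
    simp
  rw [h2]
  rw [do_fiber_sum z (fun t => ∑ y : G, F (y * z * y⁻¹ * t))]
  have h3 : ∀ t : G, ∑ y : G, F (y * z * y⁻¹ * t) =
      (Nat.card (Subgroup.centralizer ({z} : Set G)) : ℂ) *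
        ∑ s ∈ Finset.univ.filter (fun s : G => ∃ a : G, a * z * a⁻¹ = s), F (s * t) := by
    intro t
    exact do_fiber_sum z (fun s => F (s * t))
  rw [Finset.sum_congr rfl (fun t _ => h3 t), ← Finset.mul_sum, ← mul_assoc, ← pow_two,
    Finset.sum_comm]

theorem do_mark_sum [Fintype G] [DecidableEq G] (D : DOCtx G M P σ τ m h) (Φ : G → ℂ)
    (hΦc : ∀ g x : G, Φ (g * x * g⁻¹) = Φ x)
    (hΦr : ∀ ρ : G, ¬ 2 ∣ orderOf ρ → Φ ρ = 0) (x : G) :
    ∑ g : G, (if σ ^ h ∈ Subgroup.zpowers (g⁻¹ * x * g) then Φ (g⁻¹ * x * g) else 0) =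
      (Nat.card (Subgroup.centralizer ({σ ^ h} : Set G)) : ℂ) * Φ x := by
  have hΦg : ∀ g : G, Φ (g⁻¹ * x * g) = Φ x := by
    intro g
    have := hΦc g⁻¹ x
    rwa [inv_inv] at this
  simp only [hΦg]
  by_cases hx : 2 ∣ orderOf x
  · have hopos : 0 < orderOf x := orderOf_pos x
    obtain ⟨q, hq⟩ := hx
    have hq0 : 0 < q := by
      rcases Nat.eq_zero_or_pos q with h0 | h0
      · rw [h0, mul_zero] at hq
        omega
      · exact h0
    have hz'2 : x ^ q * x ^ q = 1 := by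
      rw [← pow_add, ← two_mul, ← hq, pow_orderOf_eq_one]
    have hz'1 : x ^ q ≠ 1 := pow_ne_one_of_lt_orderOf hq0.ne' (by omega)
    obtain ⟨a, ha⟩ := do_invol_conj D (x ^ q) hz'2 hz'1
    have hiff : ∀ g : G, σ ^ h ∈ Subgroup.zpowers (g⁻¹ * x * g) ↔ g * σ ^ h * g⁻¹ = x ^ q := by
      intro g
      constructor
      · intro hmem
        obtain ⟨i, hi⟩ := Subgroup.mem_zpowers_iff.mp hmem
        have e1 : g * σ ^ h * g⁻¹ = x ^ i := by
          rw [← hi]
          have : (g⁻¹ * x * g) ^ i = g⁻¹ * x ^ i * g := by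
            have := conj_zpow (a := g⁻¹) (b := x) (i := i)
            rw [inv_inv] at this
            exact this
          rw [this]
          group
        apply dh_unique_invol x _ _ ?_ (Subgroup.pow_mem _ (Subgroup.mem_zpowers x) q) ?_ hz'2 ?_
          hz'1
        · rw [e1]
          exact Subgroup.zpow_mem _ (Subgroup.mem_zpowers x) i
        · calc g * σ ^ h * g⁻¹ * (g * σ ^ h * g⁻¹) = g * (σ ^ h * σ ^ h) * g⁻¹ := by group
            _ = 1 := by rw [D.zz]; group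
        · intro h0
          apply D.z_ne
          have : σ ^ h = g⁻¹ * (g * σ ^ h * g⁻¹) * g := by group
          rw [this, h0]
          group
      · intro heq
        rw [Subgroup.mem_zpowers_iff]
        refine ⟨q, ?_⟩
        have : (g⁻¹ * x * g) ^ (q : ℤ) = g⁻¹ * x ^ (q : ℤ) * g := by
          have := conj_zpow (a := g⁻¹) (b := x) (i := (q : ℤ))
          rw [inv_inv] at this
          exact this
        rw [this, zpow_natCast, ← heq]
        group
    simp only [hiff]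
    rw [← Finset.sum_filter, Finset.sum_const, kf_fiber_card (σ ^ h) (x ^ q) ⟨a, ha⟩,
      nsmul_eq_mul]
  · rw [hΦr x hx]
    simp

end Cfsg.Agent.Lib.Helper24
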