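import Mathlib
import Cfsg.Agent.Lib.Helper24.DO8

set_option autoImplicit false
set_option linter.style.haveILetI false
set_option linter.unusedSectionVars false
set_option linter.unusedVariables false
set_option maxHeartbeats 1600000

namespace Cfsg.Agent.Lib.Helper24

open scoped ComplexConjugate
open Cfsg.Agent.Lib.Helper25 Cfsg.Agent.Lib.helper7 Cfsg.Agent.Lib.Helper29

variable {G : Type*} [Group G] {M : Ideal Cfsg.AlgInt} {P : Sylow 2 G} {σ τ : G} {m h : ℕ}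

theorem do_pair_comm {s t z : G} (hs : s * s = 1) (ht : t * t = 1) (hzz : z * z = 1)
    (hz : z ∈ Subgroup.zpowers (s * t)) : s * z = z * s ∧ t * z = z * t := by
  obtain ⟨i, rfl⟩ := Subgroup.mem_zpowers_iff.mp hz
  have hsinv : s⁻¹ = s := ti_inv_of_sq hs
  have htinv : t⁻¹ = t := ti_inv_of_sq ht
  have hzinv : ((s * t) ^ i)⁻¹ = (s * t) ^ i := ti_inv_of_sq hzz
  constructor
  · have h1 := ti_conj_zpow hs ht i
    rw [hzinv] at h1
    calc s * (s * t) ^ i = s * (s * t) ^ i * s⁻¹ * s := by group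
      _ = (s * t) ^ i * s := by rw [h1]
  · have h0 : t * (s * t) * t⁻¹ = (s * t)⁻¹ := by
      rw [mul_inv_rev, hsinv, htinv]
      calc t * (s * t) * t = t * s * (t * t) := by group
        _ = t * s := by rw [ht, mul_one]
    have h1 : t * (s * t) ^ i * t⁻¹ = ((s * t) ^ i)⁻¹ := by
      rw [← conj_zpow, h0, inv_zpow]
    rw [hzinv] at h1
    calc t * (s * t) ^ i = t * (s * t) ^ i * t⁻¹ * t := by group
      _ = (s * t) ^ i * t := by rw [h1]

theorem DOK.sq_eq_one [Finite G] {z : G} {K : Subgroup G} (hK : DOK P z K) (x : G)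
    (hx : x ∈ K) (hxx : x * x = 1) : x = 1 := by
  have h1 : orderOf x ∣ 2 := orderOf_dvd_of_pow_eq_one (by rw [pow_two]; exact hxx)
  have h2 : orderOf x ∣ Nat.card K := by
    have := orderOf_dvd_natCard (⟨x, hx⟩ : K)
    rwa [Subgroup.orderOf_mk] at this
  have h3 : Nat.Coprime 2 (Nat.card K) := Nat.coprime_two_left.mpr hK.odd
  have : orderOf x = 1 := Nat.eq_one_of_dvd_coprimes h3 h1 h2
  exact orderOf_eq_one_iff.mp this

theorem do_J_decomp [Finite G] (D : DOCtx G M P σ τ m h) {K : Subgroup G}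
    (hK : DOK P (σ ^ h) K) (s : G) (hss : s * s = 1) (hs1 : s ≠ 1)
    (hsz : s * σ ^ h = σ ^ h * s) (hsne : s ≠ σ ^ h) :
    ∃ k ∈ K, ∃ i : ℤ, s = k * (τ * σ ^ i) := by
  obtain ⟨k₁, hk₁, p₁, hp₁, hsp⟩ := hK.dec s hsz
  obtain ⟨i, hi | hi⟩ := do_elems (P : Subgroup G) σ τ D.hτo D.hrel D.hgen p₁ hp₁
  · exfalso
    have hp₁z : p₁ * σ ^ h = σ ^ h * p₁ := D.P_cent p₁ hp₁
    have hrr : p₁ * p₁ = 1 := by
      apply hK.inter _ _ (Subgroup.mul_mem _ hp₁ hp₁)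
      have e1 : p₁ * p₁ = (k₁ * (p₁ * k₁ * p₁⁻¹))⁻¹ := by
        have : k₁ * (p₁ * k₁ * p₁⁻¹) * (p₁ * p₁) = s * s := by
          rw [hsp]
          group
        rw [hss] at this
        exact eq_inv_of_mul_eq_one_right this
      rw [e1]
      exact K.inv_mem (K.mul_mem hk₁ (hK.norm p₁ hp₁z _ hk₁))
    have hpR : p₁ ∈ Subgroup.zpowers σ := by
      rw [hi]
      exact Subgroup.zpow_mem _ (Subgroup.mem_zpowers σ) i
    by_cases hp1 : p₁ = 1
    · rw [hp1, mul_one] at hsp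
      rw [hsp] at hss hs1
      exact hs1 (hK.sq_eq_one k₁ hk₁ hss)
    · have hpz : p₁ = σ ^ h :=
        dh_unique_invol σ p₁ (σ ^ h) hpR (Subgroup.pow_mem _ (Subgroup.mem_zpowers σ) h) hrr D.zz
          hp1 D.z_ne
      have hk1 : k₁ = 1 := by
        apply hK.sq_eq_one k₁ hk₁
        have e1 : k₁ = s * σ ^ h := by
          rw [hsp, hpz, mul_assoc, D.zz, mul_one]
        rw [e1]
        calc s * σ ^ h * (s * σ ^ h) = s * (σ ^ h * s) * σ ^ h := by group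
          _ = s * (s * σ ^ h) * σ ^ h := by rw [hsz]
          _ = (s * s) * (σ ^ h * σ ^ h) := by group
          _ = 1 := by rw [hss, D.zz, one_mul]
      apply hsne
      rw [hsp, hk1, one_mul, hpz]
  · exact ⟨k₁, hk₁, i, by rw [hsp, hi]⟩

theorem do_tau_mul (D : DOCtx G M P σ τ m h) (i j : ℤ) :
    (τ * σ ^ i) * (τ * σ ^ j) = σ ^ (j - i) := by
  have hτinv : τ⁻¹ = τ := ti_inv_of_sq (do_tau_sq D.hτo)
  have h1 := dh_conj_pow D.hrel i
  rw [hτinv] at h1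
  calc (τ * σ ^ i) * (τ * σ ^ j) = (τ * σ ^ i * τ) * σ ^ j := by group
    _ = (σ ^ i)⁻¹ * σ ^ j := by rw [h1]
    _ = σ ^ (j - i) := by rw [← zpow_neg, ← zpow_add]; congr 1; ring

theorem do_tau_pow_mem (D : DOCtx G M P σ τ m h) (i : ℤ) :
    τ * σ ^ i ∈ (P : Subgroup G) :=
  Subgroup.mul_mem _ D.hτ (Subgroup.zpow_mem _ D.hσ i)

theorem do_J_mul [Finite G] (D : DOCtx G M P σ τ m h) {K : Subgroup G}
    (hK : DOK P (σ ^ h) K) (k₁ k₂ : G) (hk₁ : k₁ ∈ K) (hk₂ : k₂ ∈ K) (i j : ℤ) :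
    ∃ k ∈ K, (k₁ * (τ * σ ^ i)) * (k₂ * (τ * σ ^ j)) = k * σ ^ (j - i) := by
  have hpz := D.P_cent _ (do_tau_pow_mem D i)
  refine ⟨k₁ * ((τ * σ ^ i) * k₂ * (τ * σ ^ i)⁻¹), K.mul_mem hk₁ (hK.norm _ hpz _ hk₂), ?_⟩
  rw [← do_tau_mul D i j]
  group

theorem do_J_mark [Finite G] (D : DOCtx G M P σ τ m h) {K : Subgroup G}
    (hK : DOK P (σ ^ h) K) (k : G) (hk : k ∈ K) (r : G) (hr : r ∈ Subgroup.zpowers σ)
    (hr1 : r ≠ 1) : σ ^ h ∈ Subgroup.zpowers (k * r) := by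
  have hRP : Subgroup.zpowers σ ≤ (P : Subgroup G) := by
    rw [Subgroup.zpowers_le]
    exact D.hσ
  obtain ⟨u, ρ, c, huρ, hc, hρ2, huz, hcz, hcu⟩ := do_ppart_conj D hK k hk r (hRP hr)
  obtain ⟨a, ha⟩ := Subgroup.mem_zpowers_iff.mp (do_z_mem_zpowers D r hr hr1)
  have h1 : u ^ a = σ ^ h := by
    have e1 : (c * u * c⁻¹) ^ a = c * u ^ a * c⁻¹ := conj_zpow
    rw [hcu, ha] at e1
    have e2 : u ^ a = c⁻¹ * (c * u ^ a * c⁻¹) * c := by group
    rw [e2, ← e1]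
    calc c⁻¹ * σ ^ h * c = c⁻¹ * (σ ^ h * c) := by group
      _ = c⁻¹ * (c * σ ^ h) := by rw [hcz]
      _ = σ ^ h := by group
  rw [← h1]
  exact Subgroup.zpow_mem _ huz a

theorem do_mark_pair [Finite G] (D : DOCtx G M P σ τ m h) {K : Subgroup G}
    (hK : DOK P (σ ^ h) K) (Φ : G → ℂ) (hΦ1 : Φ 1 = 0)
    (hΦK : ∀ k ∈ K, ∀ p ∈ (P : Subgroup G), Φ (k * p) = Φ p)
    (s t : G) (hss : s * s = 1) (hs1 : s ≠ 1) (htt : t * t = 1) (ht1 : t ≠ 1)
    [Decidable (σ ^ h ∈ Subgroup.zpowers (s * t))]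
    [Decidable ((s * σ ^ h = σ ^ h * s ∧ s ≠ σ ^ h) ∧ (t * σ ^ h = σ ^ h * t ∧ t ≠ σ ^ h))] :
    (if σ ^ h ∈ Subgroup.zpowers (s * t) then Φ (s * t) else 0) =
      if ((s * σ ^ h = σ ^ h * s ∧ s ≠ σ ^ h) ∧ (t * σ ^ h = σ ^ h * t ∧ t ≠ σ ^ h)) then
        Φ (s * t) else 0 := by
  by_cases hz : σ ^ h ∈ Subgroup.zpowers (s * t)
  · rw [if_pos hz]
    obtain ⟨hsz, htz⟩ := do_pair_comm hss htt D.zz hz
    have hsne : s ≠ σ ^ h := by
      intro hs
      rw [hs] at hz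
      have hsq : (σ ^ h * t) * (σ ^ h * t) = 1 := by
        calc (σ ^ h * t) * (σ ^ h * t) = σ ^ h * (t * σ ^ h) * t := by group
          _ = σ ^ h * (σ ^ h * t) * t := by rw [htz]
          _ = (σ ^ h * σ ^ h) * (t * t) := by group
          _ = 1 := by rw [D.zz, htt, one_mul]
      obtain ⟨i, hi⟩ := Subgroup.mem_zpowers_iff.mp hz
      rcases do_invol_zpow hsq i with h1 | h1
      · rw [h1] at hi
        exact D.z_ne hi.symm
      · rw [h1] at hi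
        apply ht1
        have : σ ^ h * t = σ ^ h * 1 := by rw [mul_one]; exact hi
        exact mul_left_cancel this
    have htne : t ≠ σ ^ h := by
      intro ht
      rw [ht] at hz
      have hsq : (s * σ ^ h) * (s * σ ^ h) = 1 := by
        calc (s * σ ^ h) * (s * σ ^ h) = s * (σ ^ h * s) * σ ^ h := by group
          _ = s * (s * σ ^ h) * σ ^ h := by rw [hsz]
          _ = (s * s) * (σ ^ h * σ ^ h) := by group
          _ = 1 := by rw [D.zz, hss, one_mul]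
      obtain ⟨i, hi⟩ := Subgroup.mem_zpowers_iff.mp hz
      rcases do_invol_zpow hsq i with h1 | h1
      · rw [h1] at hi
        exact D.z_ne hi.symm
      · rw [h1] at hi
        apply hs1
        have : s * σ ^ h = 1 * σ ^ h := by rw [one_mul]; exact hi
        exact mul_right_cancel this
    rw [if_pos ⟨⟨hsz, hsne⟩, ⟨htz, htne⟩⟩]
  · rw [if_neg hz]
    by_cases hJ : ((s * σ ^ h = σ ^ h * s ∧ s ≠ σ ^ h) ∧ (t * σ ^ h = σ ^ h * t ∧ t ≠ σ ^ h))
    · rw [if_pos hJ]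
      obtain ⟨⟨hsz, hsne⟩, ⟨htz, htne⟩⟩ := hJ
      obtain ⟨k₁, hk₁, i, hsi⟩ := do_J_decomp D hK s hss hs1 hsz hsne
      obtain ⟨k₂, hk₂, j, htj⟩ := do_J_decomp D hK t htt ht1 htz htne
      obtain ⟨k, hk, hkr⟩ := do_J_mul D hK k₁ k₂ hk₁ hk₂ i j
      rw [hsi, htj, hkr]
      rw [hsi, htj, hkr] at hz
      have hrR : σ ^ (j - i) ∈ Subgroup.zpowers σ :=
        Subgroup.zpow_mem _ (Subgroup.mem_zpowers σ) _
      have hRP : Subgroup.zpowers σ ≤ (P : Subgroup G) := by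
        rw [Subgroup.zpowers_le]
        exact D.hσ
      by_cases hr1 : σ ^ (j - i) = 1
      · rw [hΦK k hk _ (hRP hrR), hr1, hΦ1]
      · exact absurd (do_J_mark D hK k hk _ hrR hr1) hz
    · rw [if_neg hJ]

end Cfsg.Agent.Lib.Helper24
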