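import Mathlib
import Cfsg.Agent.Lib.Helper24.DO9

set_option autoImplicit false
set_option linter.style.haveILetI false
set_option linter.unusedSectionVars false
set_option linter.unusedVariables false
set_option maxHeartbeats 1600000

namespace Cfsg.Agent.Lib.Helper24

open scoped ComplexConjugate
open Cfsg.Agent.Lib.Helper25 Cfsg.Agent.Lib.helper7 Cfsg.Agent.Lib.Helper29

variable {G : Type*} [Group G] {M : Ideal Cfsg.AlgInt} {P : Sylow 2 G} {σ τ : G} {m h : ℕ}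

noncomputable def doJ [Fintype G] [DecidableEq G] (z : G) : Finset G :=
  Finset.univ.filter (fun s : G => s * s = 1 ∧ s ≠ 1 ∧ s * z = z * s ∧ s ≠ z)

theorem mem_doJ [Fintype G] [DecidableEq G] (z s : G) :
    s ∈ doJ z ↔ s * s = 1 ∧ s ≠ 1 ∧ s * z = z * s ∧ s ≠ z := by
  unfold doJ
  simp

theorem do_count_reduce [Fintype G] [DecidableEq G] (D : DOCtx G M P σ τ m h) {K : Subgroup G}
    (hK : DOK P (σ ^ h) K) (Φ : G → ℂ)
    (hΦc : ∀ g x : G, Φ (g * x * g⁻¹) = Φ x)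
    (hΦr : ∀ ρ : G, ¬ 2 ∣ orderOf ρ → Φ ρ = 0)
    (hΦK : ∀ k ∈ K, ∀ p ∈ (P : Subgroup G), Φ (k * p) = Φ p) :
    (Nat.card (Subgroup.centralizer ({σ ^ h} : Set G)) : ℂ) *
        ∑ y : G, Φ (y * σ ^ h * y⁻¹ * σ ^ h) =
      (Nat.card (Subgroup.centralizer ({σ ^ h} : Set G)) : ℂ) ^ 2 *
        ∑ s ∈ doJ (σ ^ h), ∑ t ∈ doJ (σ ^ h), Φ (s * t) := by
  classical
  have hΦ1 : Φ 1 = 0 := hΦr 1 (by rw [orderOf_one]; norm_num)
  rw [Finset.mul_sum]
  have h1 : ∀ y : G, (Nat.card (Subgroup.centralizer ({σ ^ h} : Set G)) : ℂ) *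
      Φ (y * σ ^ h * y⁻¹ * σ ^ h) =
      ∑ g : G, (fun x => if σ ^ h ∈ Subgroup.zpowers x then Φ x else 0)
        (g⁻¹ * (y * σ ^ h * y⁻¹ * σ ^ h) * g) := by
    intro y
    rw [← do_mark_sum D Φ hΦc hΦr]
  have hdc := do_double_count (σ ^ h)
    (fun x => if σ ^ h ∈ Subgroup.zpowers x then Φ x else 0)
  rw [Finset.sum_congr rfl (fun y _ => h1 y), hdc]
  congr 1
  obtain ⟨I, hI⟩ : ∃ I : Finset G,
      I = Finset.univ.filter (fun s : G => ∃ a : G, a * σ ^ h * a⁻¹ = s) := ⟨_, rfl⟩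
  rw [← hI]
  have hIinv : ∀ s ∈ I, s * s = 1 ∧ s ≠ 1 := by
    intro s hs
    rw [hI, Finset.mem_filter] at hs
    obtain ⟨a, rfl⟩ := hs.2
    constructor
    · calc a * σ ^ h * a⁻¹ * (a * σ ^ h * a⁻¹) = a * (σ ^ h * σ ^ h) * a⁻¹ := by group
        _ = 1 := by rw [D.zz]; group
    · intro h0
      apply D.z_ne
      have : σ ^ h = a⁻¹ * (a * σ ^ h * a⁻¹) * a := by group
      rw [this, h0]
      group
  have hJ : doJ (σ ^ h) = I.filter (fun s => s * σ ^ h = σ ^ h * s ∧ s ≠ σ ^ h) := by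
    ext s
    rw [mem_doJ, Finset.mem_filter]
    constructor
    · rintro ⟨h1, h2, h3, h4⟩
      refine ⟨?_, h3, h4⟩
      rw [hI, Finset.mem_filter]
      exact ⟨Finset.mem_univ _, do_invol_conj D s h1 h2⟩
    · rintro ⟨h1, h3, h4⟩
      exact ⟨(hIinv s h1).1, (hIinv s h1).2, h3, h4⟩
  rw [hJ, Finset.sum_filter]
  apply Finset.sum_congr rfl
  intro s hs
  rw [Finset.sum_filter]
  by_cases hA : (s * σ ^ h = σ ^ h * s ∧ s ≠ σ ^ h)
  · rw [if_pos hA]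
    apply Finset.sum_congr rfl
    intro t ht
    have := do_mark_pair D hK Φ hΦ1 hΦK s t (hIinv s hs).1 (hIinv s hs).2 (hIinv t ht).1
      (hIinv t ht).2
    rw [this]
    by_cases hB : (t * σ ^ h = σ ^ h * t ∧ t ≠ σ ^ h)
    · rw [if_pos hB, if_pos ⟨hA, hB⟩]
    · rw [if_neg hB, if_neg (fun hc => hB hc.2)]
  · rw [if_neg hA]
    apply Finset.sum_eq_zero
    intro t ht
    have := do_mark_pair D hK Φ hΦ1 hΦK s t (hIinv s hs).1 (hIinv s hs).2 (hIinv t ht).1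
      (hIinv t ht).2
    rw [this, if_neg (fun hc => hA hc.1)]

end Cfsg.Agent.Lib.Helper24
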