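import Mathlib
import Cfsg.Agent.Lib.Helper24.DO10

set_option autoImplicit false
set_option linter.style.haveILetI false
set_option linter.unusedSectionVars false
set_option linter.unusedVariables false
set_option maxHeartbeats 1600000

namespace Cfsg.Agent.Lib.Helper24

open scoped ComplexConjugate
open Cfsg.Agent.Lib.Helper25 Cfsg.Agent.Lib.helper7 Cfsg.Agent.Lib.Helper29

variable {G : Type*} [Group G] {M : Ideal Cfsg.AlgInt} {P : Sylow 2 G} {σ τ : G} {m h : ℕ}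

open Classical in
noncomputable def doA (K : Subgroup G) (σ τ : G) (ζ : ℂ) (s : G) : ℂ :=
  if hex : ∃ i : ℤ, s * (τ * σ ^ i)⁻¹ ∈ K then ζ ^ (Classical.choose hex) else 0

theorem doA_eq [Finite G] (D : DOCtx G M P σ τ m h) {K : Subgroup G}
    (hK : DOK P (σ ^ h) K) (ζ : ℂ) (hζ : IsPrimitiveRoot ζ m) (s : G) (i : ℤ)
    (hi : s * (τ * σ ^ i)⁻¹ ∈ K) : doA K σ τ ζ s = ζ ^ i := by
  have hex : ∃ i : ℤ, s * (τ * σ ^ i)⁻¹ ∈ K := ⟨i, hi⟩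
  unfold doA
  rw [dif_pos hex]
  obtain ⟨i', hi'def⟩ : ∃ i' : ℤ, i' = Classical.choose hex := ⟨_, rfl⟩
  have hi' : s * (τ * σ ^ i')⁻¹ ∈ K := by
    rw [hi'def]
    exact Classical.choose_spec hex
  rw [← hi'def]
  have hm0 : m ≠ 0 := by have := D.hm; omega
  have hζ0 : ζ ≠ 0 := hζ.ne_zero hm0
  have h1 : (τ * σ ^ i') * (τ * σ ^ i)⁻¹ ∈ K := by
    have : (τ * σ ^ i') * (τ * σ ^ i)⁻¹ = (s * (τ * σ ^ i')⁻¹)⁻¹ * (s * (τ * σ ^ i)⁻¹) := by group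
    rw [this]
    exact K.mul_mem (K.inv_mem hi') hi
  have h2 : (τ * σ ^ i') * (τ * σ ^ i)⁻¹ = σ ^ (i - i') := by
    have h3 := dh_conj_pow D.hrel (i' - i)
    calc (τ * σ ^ i') * (τ * σ ^ i)⁻¹ = τ * σ ^ (i' - i) * τ⁻¹ := by
          rw [zpow_sub]
          group
      _ = (σ ^ (i' - i))⁻¹ := h3
      _ = σ ^ (i - i') := by rw [← zpow_neg]; congr 1; ring
  rw [h2] at h1
  have h4 : σ ^ (i - i') = 1 :=
    hK.inter _ h1 (Subgroup.zpow_mem _ D.hσ _)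
  have h5 : (m : ℤ) ∣ i - i' := by
    rw [← D.hσo]
    exact orderOf_dvd_iff_zpow_eq_one.mpr h4
  obtain ⟨q, hq⟩ := h5
  have h6 : i = i' + (m : ℤ) * q := by omega
  rw [h6, zpow_add₀ hζ0, zpow_mul, zpow_natCast, hζ.pow_eq_one, one_zpow, mul_one]

theorem do_J_conj_sigma [Fintype G] [DecidableEq G] (D : DOCtx G M P σ τ m h) (s : G) :
    s ∈ doJ (σ ^ h) ↔ σ * s * σ⁻¹ ∈ doJ (σ ^ h) := by
  have hσz : σ * σ ^ h = σ ^ h * σ := by
    rw [← pow_succ', ← pow_succ]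
  rw [mem_doJ, mem_doJ]
  constructor
  · rintro ⟨h1, h2, h3, h4⟩
    refine ⟨?_, ?_, do_comm_conj h3 hσz, ?_⟩
    · calc σ * s * σ⁻¹ * (σ * s * σ⁻¹) = σ * (s * s) * σ⁻¹ := by group
        _ = 1 := by rw [h1]; group
    · intro h0
      apply h2
      have : s = σ⁻¹ * (σ * s * σ⁻¹) * σ := by group
      rw [this, h0]
      group
    · intro h0
      apply h4
      have : s = σ⁻¹ * (σ * s * σ⁻¹) * σ := by group
      rw [this, h0]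
      calc σ⁻¹ * σ ^ h * σ = σ⁻¹ * (σ ^ h * σ) := by group
        _ = σ⁻¹ * (σ * σ ^ h) := by rw [hσz]
        _ = σ ^ h := by group
  · rintro ⟨h1, h2, h3, h4⟩
    have hσz' : σ⁻¹ * σ ^ h = σ ^ h * σ⁻¹ := do_comm_inv hσz
    have e : s = σ⁻¹ * (σ * s * σ⁻¹) * σ⁻¹⁻¹ := by group
    refine ⟨?_, ?_, ?_, ?_⟩
    · rw [e]
      calc σ⁻¹ * (σ * s * σ⁻¹) * σ⁻¹⁻¹ * (σ⁻¹ * (σ * s * σ⁻¹) * σ⁻¹⁻¹) =
            σ⁻¹ * ((σ * s * σ⁻¹) * (σ * s * σ⁻¹)) * σ := by group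
        _ = 1 := by rw [h1]; group
    · intro h0
      apply h2
      rw [h0]
      group
    · rw [e]
      exact do_comm_conj h3 hσz'
    · intro h0
      apply h4
      rw [h0]
      calc σ * σ ^ h * σ⁻¹ = (σ * σ ^ h) * σ⁻¹ := by group
        _ = (σ ^ h * σ) * σ⁻¹ := by rw [hσz]
        _ = σ ^ h := by group

theorem do_A_zero [Fintype G] [DecidableEq G] (D : DOCtx G M P σ τ m h) {K : Subgroup G}
    (hK : DOK P (σ ^ h) K) (ζ : ℂ) (hζ : IsPrimitiveRoot ζ m) :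
    ∑ s ∈ doJ (σ ^ h), doA K σ τ ζ s = 0 := by
  have hm := D.hm
  have hζ0 : ζ ≠ 0 := hζ.ne_zero (by omega)
  have hσz : σ * σ ^ h = σ ^ h * σ := by
    rw [← pow_succ', ← pow_succ]
  have hshift : ∀ s ∈ doJ (σ ^ h), doA K σ τ ζ (σ * s * σ⁻¹) = ζ ^ (-2 : ℤ) * doA K σ τ ζ s := by
    intro s hs
    rw [mem_doJ] at hs
    obtain ⟨k, hk, i, hsi⟩ := do_J_decomp D hK s hs.1 hs.2.1 hs.2.2.1 hs.2.2.2
    have e1 : doA K σ τ ζ s = ζ ^ i := by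
      apply doA_eq D hK ζ hζ s i
      rw [hsi]
      have : k * (τ * σ ^ i) * (τ * σ ^ i)⁻¹ = k := by group
      rw [this]
      exact hk
    have e2 : doA K σ τ ζ (σ * s * σ⁻¹) = ζ ^ (i - 2) := by
      apply doA_eq D hK ζ hζ _ (i - 2)
      have h1 := do_conj_tau_pow D i (-1)
      rw [neg_neg, zpow_one] at h1
      have h2 : τ * σ ^ (i - 2) = σ * (τ * σ ^ i) * σ⁻¹ := by
        rw [h1]
        congr 2
      rw [h2, hsi]
      have : σ * (k * (τ * σ ^ i)) * σ⁻¹ * (σ * (τ * σ ^ i) * σ⁻¹)⁻¹ = σ * k * σ⁻¹ := by group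
      rw [this]
      exact hK.norm σ hσz k hk
    rw [e1, e2, zpow_sub₀ hζ0, zpow_neg]
    ring
  have hsum : ∑ s ∈ doJ (σ ^ h), doA K σ τ ζ s =
      ∑ s ∈ doJ (σ ^ h), doA K σ τ ζ (σ * s * σ⁻¹) := by
    symm
    apply Finset.sum_equiv (MulAut.conj σ).toEquiv
    · intro s
      exact do_J_conj_sigma D s
    · intro s _
      rfl
  rw [Finset.sum_congr rfl hshift, ← Finset.mul_sum] at hsum
  have hne : ζ ^ (-2 : ℤ) ≠ 1 := by
    intro h1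
    have h2 : ζ ^ 2 = 1 := by
      rw [zpow_neg, inv_eq_one] at h1
      exact_mod_cast h1
    exact hζ.pow_ne_one_of_pos_of_lt (by norm_num) (by omega) h2
  have h3 : (1 - ζ ^ (-2 : ℤ)) * ∑ s ∈ doJ (σ ^ h), doA K σ τ ζ s = 0 := by
    linear_combination hsum
  rcases mul_eq_zero.mp h3 with h4 | h4
  · exfalso
    apply hne
    linear_combination -h4
  · exact h4

theorem do_pair_sum [Fintype G] [DecidableEq G] (D : DOCtx G M P σ τ m h) {K : Subgroup G}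
    (hK : DOK P (σ ^ h) K) (ζ : ℂ) (hζ : IsPrimitiveRoot ζ m) (Φ : G → ℂ)
    (hΦK : ∀ k ∈ K, ∀ p ∈ (P : Subgroup G), Φ (k * p) = Φ p)
    (hΦσ : ∀ l : ℤ, Φ (σ ^ l) = 2 - ζ ^ l - (ζ ^ l)⁻¹) :
    ∑ s ∈ doJ (σ ^ h), ∑ t ∈ doJ (σ ^ h), Φ (s * t) = 2 * ((doJ (σ ^ h)).card : ℂ) ^ 2 := by
  have hm := D.hm
  have hζ0 : ζ ≠ 0 := hζ.ne_zero (by omega)
  have hterm : ∀ s ∈ doJ (σ ^ h), ∀ t ∈ doJ (σ ^ h), Φ (s * t) =
      2 - doA K σ τ ζ t * (doA K σ τ ζ s)⁻¹ - doA K σ τ ζ s * (doA K σ τ ζ t)⁻¹ := by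
    intro s hs t ht
    rw [mem_doJ] at hs ht
    obtain ⟨k₁, hk₁, i, hsi⟩ := do_J_decomp D hK s hs.1 hs.2.1 hs.2.2.1 hs.2.2.2
    obtain ⟨k₂, hk₂, j, htj⟩ := do_J_decomp D hK t ht.1 ht.2.1 ht.2.2.1 ht.2.2.2
    have e1 : doA K σ τ ζ s = ζ ^ i := by
      apply doA_eq D hK ζ hζ s i
      rw [hsi]
      have : k₁ * (τ * σ ^ i) * (τ * σ ^ i)⁻¹ = k₁ := by group
      rw [this]
      exact hk₁
    have e2 : doA K σ τ ζ t = ζ ^ j := by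
      apply doA_eq D hK ζ hζ t j
      rw [htj]
      have : k₂ * (τ * σ ^ j) * (τ * σ ^ j)⁻¹ = k₂ := by group
      rw [this]
      exact hk₂
    obtain ⟨k, hk, hkr⟩ := do_J_mul D hK k₁ k₂ hk₁ hk₂ i j
    rw [e1, e2, hsi, htj, hkr, hΦK k hk _ (Subgroup.zpow_mem _ D.hσ _), hΦσ, zpow_sub₀ hζ0]
    have hi0 : ζ ^ i ≠ 0 := zpow_ne_zero i hζ0
    have hj0 : ζ ^ j ≠ 0 := zpow_ne_zero j hζ0
    field_simp
  rw [Finset.sum_congr rfl (fun s hs => Finset.sum_congr rfl (fun t ht => hterm s hs t ht))]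
  have hA := do_A_zero D hK ζ hζ
  simp only [Finset.sum_sub_distrib, Finset.sum_const, nsmul_eq_mul, ← Finset.sum_mul,
    ← Finset.mul_sum, hA, zero_mul, sub_zero]
  ring

end Cfsg.Agent.Lib.Helper24
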