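import Mathlib
import Cfsg.Agent.Lib.Helper24.DO11

set_option autoImplicit false
set_option linter.style.haveILetI false
set_option linter.unusedSectionVars false
set_option linter.unusedVariables false
set_option maxHeartbeats 1600000

namespace Cfsg.Agent.Lib.Helper24

open scoped ComplexConjugate
open Cfsg.Agent.Lib.Helper25 Cfsg.Agent.Lib.helper7 Cfsg.Agent.Lib.Helper29

variable {G : Type*} [Group G] {M : Ideal Cfsg.AlgInt} {P : Sylow 2 G} {σ τ : G} {m h : ℕ}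

noncomputable def doCl [Fintype G] [DecidableEq G] (z t : G) : Finset G :=
  Finset.univ.filter (fun x : G => ∃ c : G, c * z = z * c ∧ c * t * c⁻¹ = x)

theorem mem_doCl [Fintype G] [DecidableEq G] (z t x : G) :
    x ∈ doCl z t ↔ ∃ c : G, c * z = z * c ∧ c * t * c⁻¹ = x := by
  unfold doCl
  simp

theorem do_card_cent [Fintype G] [DecidableEq G] (z : G) :
    (Finset.univ.filter (fun c : G => c * z = z * c)).card =
      Nat.card (Subgroup.centralizer ({z} : Set G)) := by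
  classical
  rw [Nat.card_eq_fintype_card, Fintype.card_subtype]
  congr 1
  ext c
  simp only [Finset.mem_filter, Finset.mem_univ, true_and]
  rw [Subgroup.mem_centralizer_singleton_iff]

theorem do_card_cent2 [Fintype G] [DecidableEq G] (z t : G) :
    (Finset.univ.filter (fun c : G => c * z = z * c ∧ c * t = t * c)).card =
      Nat.card (Subgroup.centralizer ({z, t} : Set G)) := by
  classical
  rw [Nat.card_eq_fintype_card, Fintype.card_subtype]
  congr 1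
  ext c
  simp only [Finset.mem_filter, Finset.mem_univ, true_and]
  rw [Subgroup.mem_centralizer_iff]
  constructor
  · rintro ⟨h1, h2⟩ x hx
    rcases hx with rfl | rfl
    · exact h1.symm
    · exact h2.symm
  · intro hc
    exact ⟨(hc z (by simp)).symm, (hc t (by simp)).symm⟩

theorem do_orbit_card [Fintype G] [DecidableEq G] (z t : G) :
    (doCl z t).card * Nat.card (Subgroup.centralizer ({z, t} : Set G)) =
      Nat.card (Subgroup.centralizer ({z} : Set G)) := by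
  rw [← do_card_cent z, ← do_card_cent2 z t]
  have hmaps : ((Finset.univ.filter (fun c : G => c * z = z * c) : Finset G) : Set G).MapsTo
      (fun c => c * t * c⁻¹) (doCl z t) := by
    intro c hc
    rw [Finset.mem_coe, Finset.mem_filter] at hc
    rw [Finset.mem_coe, mem_doCl]
    exact ⟨c, hc.2, rfl⟩
  rw [Finset.card_eq_sum_card_fiberwise hmaps]
  have hfib : ∀ x ∈ doCl z t,
      ((Finset.univ.filter (fun c : G => c * z = z * c)).filter
        (fun c => c * t * c⁻¹ = x)).card =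
      (Finset.univ.filter (fun c : G => c * z = z * c ∧ c * t = t * c)).card := by
    intro x hx
    rw [mem_doCl] at hx
    obtain ⟨c₀, hc₀z, rfl⟩ := hx
    symm
    apply Finset.card_bij (fun c _ => c₀ * c)
    · intro c hc
      rw [Finset.mem_filter] at hc
      obtain ⟨-, hcz, hct⟩ := hc
      rw [Finset.mem_filter, Finset.mem_filter]
      refine ⟨⟨Finset.mem_univ _, do_comm_mul hc₀z hcz⟩, ?_⟩
      calc c₀ * c * t * (c₀ * c)⁻¹ = c₀ * (c * t) * c⁻¹ * c₀⁻¹ := by group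
        _ = c₀ * (t * c) * c⁻¹ * c₀⁻¹ := by rw [hct]
        _ = c₀ * t * c₀⁻¹ := by group
    · intro c _ c' _ he
      exact mul_left_cancel he
    · intro a ha
      rw [Finset.mem_filter, Finset.mem_filter] at ha
      obtain ⟨⟨-, haz⟩, hat⟩ := ha
      refine ⟨c₀⁻¹ * a, ?_, by group⟩
      rw [Finset.mem_filter]
      refine ⟨Finset.mem_univ _, do_comm_mul (do_comm_inv hc₀z) haz, ?_⟩
      calc c₀⁻¹ * a * t = c₀⁻¹ * (a * t * a⁻¹) * a := by group
        _ = c₀⁻¹ * (c₀ * t * c₀⁻¹) * a := by rw [hat]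
        _ = t * (c₀⁻¹ * a) := by group
  rw [Finset.sum_congr rfl hfib, Finset.sum_const, smul_eq_mul]

theorem do_P_conj_tau (D : DOCtx G M P σ τ m h) (p : G) (hp : p ∈ (P : Subgroup G)) :
    ∃ b : ℤ, p * τ * p⁻¹ = τ * σ ^ (2 * b) := by
  have hτinv : τ⁻¹ = τ := ti_inv_of_sq (do_tau_sq D.hτo)
  obtain ⟨a, ha | ha⟩ := do_elems (P : Subgroup G) σ τ D.hτo D.hrel D.hgen p hp
  · refine ⟨-a, ?_⟩
    have h1 := do_conj_tau_pow D 0 (-a)
    rw [neg_neg, zpow_zero, mul_one, zero_add] at h1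
    rw [ha, h1]
  · refine ⟨a, ?_⟩
    have h1 := do_conj_tau_pow D 0 (-a)
    rw [neg_neg, zpow_zero, mul_one, zero_add] at h1
    have h2 := do_sigma_tau D (2 * a)
    rw [ha]
    calc τ * σ ^ a * τ * (τ * σ ^ a)⁻¹ = τ * (σ ^ a * τ * (σ ^ a)⁻¹) * τ⁻¹ := by group
      _ = τ * (τ * σ ^ (2 * -a)) * τ := by rw [h1, hτinv]
      _ = (τ * τ) * (σ ^ (-(2 * a)) * τ) := by
          have : (2 : ℤ) * -a = -(2 * a) := by ring
          rw [this]
          group
      _ = τ * σ ^ (2 * a) := by rw [do_tau_sq D.hτo, one_mul, h2]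

theorem do_tau_ne_z (D : DOCtx G M P σ τ m h) : τ ≠ σ ^ h := by
  intro h0
  apply do_tau_not_mem σ τ m D.hm D.hσo D.hτo D.hrel
  rw [h0]
  exact Subgroup.pow_mem _ (Subgroup.mem_zpowers σ) h

theorem do_sigmatau_ne_z (D : DOCtx G M P σ τ m h) : σ * τ ≠ σ ^ h := by
  intro h0
  apply do_tau_not_mem σ τ m D.hm D.hσo D.hτo D.hrel
  have : τ = σ⁻¹ * (σ * τ) := by group
  rw [this, h0]
  exact Subgroup.mul_mem _ (Subgroup.inv_mem _ (Subgroup.mem_zpowers σ))
    (Subgroup.pow_mem _ (Subgroup.mem_zpowers σ) h)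

theorem do_sigmatau_sq (D : DOCtx G M P σ τ m h) : (σ * τ) * (σ * τ) = 1 := by
  rw [do_sigma_tau_eq D]
  have := do_tau_mul D (-1) (-1)
  rw [sub_self, zpow_zero] at this
  exact this

theorem do_Cl_subset [Fintype G] [DecidableEq G] (D : DOCtx G M P σ τ m h) (t : G)
    (ht : t ∈ (P : Subgroup G)) (htt : t * t = 1) (ht1 : t ≠ 1) (htz : t ≠ σ ^ h) :
    doCl (σ ^ h) t ⊆ doJ (σ ^ h) := by
  intro x hx
  rw [mem_doCl] at hx
  obtain ⟨c, hcz, rfl⟩ := hx
  rw [mem_doJ]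
  refine ⟨?_, ?_, do_comm_conj (D.P_cent t ht) hcz, ?_⟩
  · calc c * t * c⁻¹ * (c * t * c⁻¹) = c * (t * t) * c⁻¹ := by group
      _ = 1 := by rw [htt]; group
  · intro h0
    apply ht1
    have : t = c⁻¹ * (c * t * c⁻¹) * c := by group
    rw [this, h0]
    group
  · intro h0
    apply htz
    have : t = c⁻¹ * (c * t * c⁻¹) * c := by group
    rw [this, h0]
    calc c⁻¹ * σ ^ h * c = c⁻¹ * (σ ^ h * c) := by group
      _ = c⁻¹ * (c * σ ^ h) := by rw [hcz]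
      _ = σ ^ h := by group

theorem do_J_cover [Fintype G] [DecidableEq G] (D : DOCtx G M P σ τ m h) {K : Subgroup G}
    (hK : DOK P (σ ^ h) K) (s : G) (hs : s ∈ doJ (σ ^ h)) :
    s ∈ doCl (σ ^ h) τ ∨ s ∈ doCl (σ ^ h) (σ * τ) := by
  rw [mem_doJ] at hs
  obtain ⟨k, hk, i, hsi⟩ := do_J_decomp D hK s hs.1 hs.2.1 hs.2.2.1 hs.2.2.2
  have hpP := do_tau_pow_mem D i
  have hpz := D.P_cent _ hpP
  have hs2 : ∃ a : ℕ, orderOf s = 2 ^ a := by
    refine ⟨1, ?_⟩
    rw [pow_one]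
    exact orderOf_eq_prime (by rw [pow_two]; exact hs.1) hs.2.1
  have hup : s⁻¹ * (τ * σ ^ i) ∈ K := by
    have : s⁻¹ * (τ * σ ^ i) = (τ * σ ^ i)⁻¹ * k⁻¹ * (τ * σ ^ i)⁻¹⁻¹ := by
      rw [hsi]
      group
    rw [this]
    exact hK.norm _ (do_comm_inv hpz) _ (K.inv_mem hk)
  obtain ⟨c, hcz, hcs⟩ := do_conj_coset D hK s hs.2.2.1 hs2 _ hpP hup
  have hσz : σ * σ ^ h = σ ^ h * σ := by
    rw [← pow_succ', ← pow_succ]
  have hσjz : ∀ j : ℤ, σ ^ j * σ ^ h = σ ^ h * σ ^ j := by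
    intro j
    have : Commute σ (σ ^ h) := hσz
    exact (this.zpow_left j).eq
  have hs_eq : s = c⁻¹ * (τ * σ ^ i) * c := by
    rw [← hcs]
    group
  rcases Int.emod_two_eq_zero_or_one i with hi2 | hi2
  · left
    obtain ⟨j, hj⟩ : ∃ j : ℤ, i = 0 + 2 * j := ⟨i / 2, by omega⟩
    have h1 := do_conj_tau_pow D 0 j
    rw [zpow_zero, mul_one] at h1
    rw [mem_doCl]
    refine ⟨c⁻¹ * σ ^ (-j), do_comm_mul (do_comm_inv hcz) (hσjz _), ?_⟩
    rw [hs_eq, hj, ← h1]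
    group
  · right
    obtain ⟨j, hj⟩ : ∃ j : ℤ, i = -1 + 2 * j := ⟨(i + 1) / 2, by omega⟩
    have h1 := do_conj_tau_pow D (-1) j
    rw [mem_doCl]
    refine ⟨c⁻¹ * σ ^ (-j), do_comm_mul (do_comm_inv hcz) (hσjz _), ?_⟩
    rw [hs_eq, hj, ← h1, do_sigma_tau_eq D]
    group

theorem do_Cl_disjoint [Fintype G] [DecidableEq G] (D : DOCtx G M P σ τ m h) {K : Subgroup G}
    (hK : DOK P (σ ^ h) K) : Disjoint (doCl (σ ^ h) τ) (doCl (σ ^ h) (σ * τ)) := by
  rw [Finset.disjoint_left]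
  intro x hx1 hx2
  rw [mem_doCl] at hx1 hx2
  obtain ⟨c₁, hc₁z, hc₁⟩ := hx1
  obtain ⟨c₂, hc₂z, hc₂⟩ := hx2
  have hcz : (c₂⁻¹ * c₁) * σ ^ h = σ ^ h * (c₂⁻¹ * c₁) := do_comm_mul (do_comm_inv hc₂z) hc₁z
  have hconj : (c₂⁻¹ * c₁) * τ * (c₂⁻¹ * c₁)⁻¹ = σ * τ := by
    have : (c₂⁻¹ * c₁) * τ * (c₂⁻¹ * c₁)⁻¹ = c₂⁻¹ * (c₁ * τ * c₁⁻¹) * c₂ := by group
    rw [this, hc₁, ← hc₂]
    group
  obtain ⟨k, hk, p, hp, hkp⟩ := hK.dec _ hcz
  obtain ⟨b, hb⟩ := do_P_conj_tau D p hp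
  have hqP : p * τ * p⁻¹ ∈ (P : Subgroup G) :=
    Subgroup.mul_mem _ (Subgroup.mul_mem _ hp D.hτ) (Subgroup.inv_mem _ hp)
  have hqz := D.P_cent _ hqP
  have hστP : σ * τ ∈ (P : Subgroup G) := Subgroup.mul_mem _ D.hσ D.hτ
  have h1 : (σ * τ) * (p * τ * p⁻¹)⁻¹ = 1 := by
    apply hK.inter
    · have e1 : (σ * τ) * (p * τ * p⁻¹)⁻¹ = k * ((p * τ * p⁻¹) * k⁻¹ * (p * τ * p⁻¹)⁻¹) := by
        rw [← hconj, hkp]
        group
      rw [e1]
      exact K.mul_mem hk (hK.norm _ hqz _ (K.inv_mem hk))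
    · exact Subgroup.mul_mem _ hστP (Subgroup.inv_mem _ hqP)
  rw [mul_inv_eq_one, hb, do_sigma_tau_eq D] at h1
  have h2 : σ ^ (-1 : ℤ) = σ ^ (2 * b) := mul_left_cancel h1
  have h3 : σ ^ (2 * b + 1) = 1 := by
    rw [zpow_add, ← h2, zpow_neg, zpow_one, inv_mul_cancel]
  have h4 : (m : ℤ) ∣ 2 * b + 1 := by
    rw [← D.hσo]
    exact orderOf_dvd_iff_zpow_eq_one.mpr h3
  have h5 : (2 : ℤ) ∣ (m : ℤ) := by
    rw [D.hmh]
    push_cast
    exact dvd_mul_right 2 _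
  have h6 := h5.trans h4
  omega

theorem do_J_card [Fintype G] [DecidableEq G] (D : DOCtx G M P σ τ m h) {K : Subgroup G}
    (hK : DOK P (σ ^ h) K) :
    (doJ (σ ^ h)).card = (doCl (σ ^ h) τ).card + (doCl (σ ^ h) (σ * τ)).card := by
  have hJ : doJ (σ ^ h) = doCl (σ ^ h) τ ∪ doCl (σ ^ h) (σ * τ) := by
    apply Finset.Subset.antisymm
    · intro s hs
      rw [Finset.mem_union]
      exact do_J_cover D hK s hs
    · apply Finset.union_subset
      · apply do_Cl_subset D τ D.hτ (do_tau_sq D.hτo) ?_ (do_tau_ne_z D)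
        intro h0
        have := D.hτo
        rw [h0, orderOf_one] at this
        omega
      · apply do_Cl_subset D (σ * τ) (Subgroup.mul_mem _ D.hσ D.hτ) (do_sigmatau_sq D) ?_
          (do_sigmatau_ne_z D)
        intro h0
        have h1 : σ = τ⁻¹ := eq_inv_of_mul_eq_one_left h0
        have h2 : orderOf σ = 2 := by rw [h1, orderOf_inv, D.hτo]
        have := D.hm
        have := D.hσo
        omega
  rw [hJ, Finset.card_union_of_disjoint (do_Cl_disjoint D hK)]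

end Cfsg.Agent.Lib.Helper24
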