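import Mathlib
import Cfsg.Agent.Lib.Helper24.DO12

set_option autoImplicit false
set_option linter.style.haveILetI false
set_option linter.unusedSectionVars false
set_option linter.unusedVariables false
set_option maxHeartbeats 1600000

namespace Cfsg.Agent.Lib.Helper24

open scoped ComplexConjugate
open Cfsg.Agent.Lib.Helper25 Cfsg.Agent.Lib.helper7 Cfsg.Agent.Lib.Helper29

variable {G : Type*} [Group G] {M : Ideal Cfsg.AlgInt} {P : Sylow 2 G} {σ τ : G} {m h : ℕ}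

theorem do_algebra (N x d y c c₁ c₂ j n₁ n₂ : ℂ) (hd : d * d = 1) (hy : y = x + d)
    (hx0 : x ≠ 0) (hy0 : y ≠ 0) (hc0 : c ≠ 0) (hc₁ : c₁ ≠ 0) (hc₂ : c₂ ≠ 0)
    (hj : j = n₁ + n₂) (h1 : n₁ * c₁ = c) (h2 : n₂ * c₂ = c)
    (hmain : c * (N * (1 + d * (d * d / x) - d * ((d * (-1 + -1)) * (d * (-1 + -1)) / y))) =
      c ^ 2 * (2 * j ^ 2)) :
    N * (x - d) ^ 2 = 2 * x * (x + d) * c ^ 3 * (1 / c₁ + 1 / c₂) ^ 2 := by
  have hn₁ : n₁ = c / c₁ := by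
    rw [eq_div_iff hc₁]
    exact h1
  have hn₂ : n₂ = c / c₂ := by
    rw [eq_div_iff hc₂]
    exact h2
  have hκ : (1 + d * (d * d / x) - d * ((d * (-1 + -1)) * (d * (-1 + -1)) / y)) * (x * y) =
      (x - d) ^ 2 := by
    have e1 : d * d / x * x = d * d := div_mul_cancel₀ _ hx0
    have e2 : (d * (-1 + -1)) * (d * (-1 + -1)) / y * y = (d * (-1 + -1)) * (d * (-1 + -1)) :=
      div_mul_cancel₀ _ hy0
    have e3 : (1 + d * (d * d / x) - d * ((d * (-1 + -1)) * (d * (-1 + -1)) / y)) * (x * y) =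
        x * y + d * (d * d / x * x) * y - d * ((d * (-1 + -1)) * (d * (-1 + -1)) / y * y) * x := by
      ring
    rw [e3, e1, e2, hy]
    linear_combination (d * d - 3 * x * d) * hd
  have hmain' : N * (1 + d * (d * d / x) - d * ((d * (-1 + -1)) * (d * (-1 + -1)) / y)) =
      c * (2 * j ^ 2) := by
    apply mul_left_cancel₀ hc0
    rw [hmain]
    ring
  have h3 : N * (x - d) ^ 2 = c * (2 * j ^ 2) * (x * y) := by
    rw [← hκ, ← mul_assoc, hmain']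
  rw [h3, hj, hn₁, hn₂, hy]
  field_simp

theorem do_order_formula [Finite G] (D : DOCtx G M P σ τ m h) (χ₁ : Cfsg.IrrCharacter G)
    (hχ₁ : χ₁ ∈ Cfsg.principalBlock M G) (h1 : (χ₁ : G → ℂ) ≠ (fun _ => 1)) (δ₁ : ℤ)
    (hδ₁ : δ₁ = 1 ∨ δ₁ = -1)
    (hval : ∀ l : ℕ, 0 < l → l < m → (χ₁ : G → ℂ) (σ ^ l) = δ₁) :
    (Cfsg.charDegree (χ₁ : G → ℂ) : ℤ) ≠ δ₁ ∧
    (Nat.card G : ℚ) * ((Cfsg.charDegree (χ₁ : G → ℂ) : ℚ) - δ₁) ^ 2 =
      2 * (Cfsg.charDegree (χ₁ : G → ℂ) : ℚ) * ((Cfsg.charDegree (χ₁ : G → ℂ) : ℚ) + δ₁) *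
        (Nat.card (Subgroup.centralizer ({σ ^ h} : Set G)) : ℚ) ^ 3 *
        (1 / (Nat.card (Subgroup.centralizer ({σ ^ h, τ} : Set G)) : ℚ) +
          1 / (Nat.card (Subgroup.centralizer ({σ ^ h, σ * τ} : Set G)) : ℚ)) ^ 2 := by
  classical
  letI : Fintype G := Fintype.ofFinite G
  have hm := D.hm
  have hmh := D.hmh
  have hh := D.hh
  have hm0 : m ≠ 0 := by omega
  obtain ⟨ζ, hζ⟩ : ∃ ζ : ℂ, IsPrimitiveRoot ζ m :=
    ⟨_, Complex.isPrimitiveRoot_exp m hm0⟩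
  obtain ⟨ξ, hξB, hξval, hrel⟩ := do_xi_exists D χ₁ hχ₁ h1 δ₁ hδ₁ hval ζ hζ
  obtain ⟨K, hK⟩ := do_exists_K D
  have hΦc := doPhi_conj χ₁ ξ δ₁
  have hΦr := doPhi_reg χ₁ ξ δ₁ hrel
  have hΦK : ∀ k ∈ K, ∀ p ∈ (P : Subgroup G), doPhi χ₁ ξ δ₁ (k * p) = doPhi χ₁ ξ δ₁ p :=
    fun k hk p hp => doPhi_coset D hK χ₁ ξ hχ₁ hξB δ₁ hrel k hk p hp
  have hΦσ := doPhi_sigma_int χ₁ ξ δ₁ hδ₁ (by omega) D.hσo ζ hζ hval hξval hrel
  have E1 := do_count_reduce D hK (doPhi χ₁ ξ δ₁) hΦc hΦr hΦK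
  have E2 := do_pair_sum D hK ζ hζ (doPhi χ₁ ξ δ₁) hΦK hΦσ
  have E3 := doPhi_sum χ₁ ξ δ₁ (σ ^ h)
  have E4 := do_J_card D hK
  have E5 := do_orbit_card (σ ^ h) τ
  have E6 := do_orbit_card (σ ^ h) (σ * τ)
  have hζh : ζ ^ h = -1 := by
    rw [hmh] at hζ
    exact dh_zeta_half (by omega) ζ hζ
  have hχz : (χ₁ : G → ℂ) (σ ^ h) = δ₁ := hval h (by omega) (by omega)
  have hξz : (ξ : G → ℂ) (σ ^ h) = δ₁ * (-1 + -1) := by
    rw [hξval h (by omega) (by omega), hζh]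
    norm_num
  have hχ1 := (charDegree_irr χ₁).1
  have hξ1 := (charDegree_irr ξ).1
  have hχpos := (charDegree_irr χ₁).2
  have hξpos := (charDegree_irr ξ).2
  have hd : (δ₁ : ℂ) * (δ₁ : ℂ) = 1 := by
    rcases hδ₁ with h | h <;> rw [h] <;> norm_num
  have hdeg : (ξ : G → ℂ) 1 = (χ₁ : G → ℂ) 1 + δ₁ := by
    have := hrel 1 (by rw [orderOf_one]; norm_num)
    linear_combination (-(δ₁ : ℂ)) * this + ((χ₁ : G → ℂ) 1 - (ξ : G → ℂ) 1) * hd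
  rw [E2, E3, hχz, hξz, ← hχ1, ← hξ1] at E1
  rw [← hχ1, ← hξ1] at hdeg
  have hdegZ : (Cfsg.charDegree (ξ : G → ℂ) : ℤ) = (Cfsg.charDegree (χ₁ : G → ℂ) : ℤ) + δ₁ := by
    have : ((Cfsg.charDegree (ξ : G → ℂ) : ℤ) : ℂ) =
        (((Cfsg.charDegree (χ₁ : G → ℂ) : ℤ) + δ₁ : ℤ) : ℂ) := by
      push_cast
      exact hdeg
    exact_mod_cast this
  have hcpos : 0 < Nat.card (Subgroup.centralizer ({σ ^ h} : Set G)) := Nat.card_pos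
  have hc₁pos : 0 < Nat.card (Subgroup.centralizer ({σ ^ h, τ} : Set G)) := Nat.card_pos
  have hc₂pos : 0 < Nat.card (Subgroup.centralizer ({σ ^ h, σ * τ} : Set G)) := Nat.card_pos
  have key := do_algebra (Nat.card G : ℂ) (Cfsg.charDegree (χ₁ : G → ℂ) : ℂ) (δ₁ : ℂ)
    (Cfsg.charDegree (ξ : G → ℂ) : ℂ) (Nat.card (Subgroup.centralizer ({σ ^ h} : Set G)) : ℂ)
    (Nat.card (Subgroup.centralizer ({σ ^ h, τ} : Set G)) : ℂ)
    (Nat.card (Subgroup.centralizer ({σ ^ h, σ * τ} : Set G)) : ℂ)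
    ((doJ (σ ^ h)).card : ℂ) ((doCl (σ ^ h) τ).card : ℂ) ((doCl (σ ^ h) (σ * τ)).card : ℂ)
    hd hdeg (by exact_mod_cast hχpos.ne') (by exact_mod_cast hξpos.ne')
    (by exact_mod_cast hcpos.ne') (by exact_mod_cast hc₁pos.ne') (by exact_mod_cast hc₂pos.ne')
    (by rw [E4]; push_cast; ring) (by exact_mod_cast E5) (by exact_mod_cast E6) E1
  have keyQ : (Nat.card G : ℚ) * ((Cfsg.charDegree (χ₁ : G → ℂ) : ℚ) - δ₁) ^ 2 =
      2 * (Cfsg.charDegree (χ₁ : G → ℂ) : ℚ) * ((Cfsg.charDegree (χ₁ : G → ℂ) : ℚ) + δ₁) *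
        (Nat.card (Subgroup.centralizer ({σ ^ h} : Set G)) : ℚ) ^ 3 *
        (1 / (Nat.card (Subgroup.centralizer ({σ ^ h, τ} : Set G)) : ℚ) +
          1 / (Nat.card (Subgroup.centralizer ({σ ^ h, σ * τ} : Set G)) : ℚ)) ^ 2 := by
    have : (((Nat.card G : ℚ) * ((Cfsg.charDegree (χ₁ : G → ℂ) : ℚ) - δ₁) ^ 2 : ℚ) : ℂ) =
        ((2 * (Cfsg.charDegree (χ₁ : G → ℂ) : ℚ) * ((Cfsg.charDegree (χ₁ : G → ℂ) : ℚ) + δ₁) *
        (Nat.card (Subgroup.centralizer ({σ ^ h} : Set G)) : ℚ) ^ 3 *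
        (1 / (Nat.card (Subgroup.centralizer ({σ ^ h, τ} : Set G)) : ℚ) +
          1 / (Nat.card (Subgroup.centralizer ({σ ^ h, σ * τ} : Set G)) : ℚ)) ^ 2 : ℚ) : ℂ) := by
      push_cast
      exact key
    exact_mod_cast this
  refine ⟨?_, keyQ⟩
  intro heq
  have hx : ((Cfsg.charDegree (χ₁ : G → ℂ) : ℚ) - δ₁) = 0 := by
    have : ((Cfsg.charDegree (χ₁ : G → ℂ) : ℤ) : ℚ) = ((δ₁ : ℤ) : ℚ) := by rw [heq]
    push_cast at this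
    linarith
  rw [hx] at keyQ
  have hpos : (0 : ℚ) < 2 * (Cfsg.charDegree (χ₁ : G → ℂ) : ℚ) *
      ((Cfsg.charDegree (χ₁ : G → ℂ) : ℚ) + δ₁) *
        (Nat.card (Subgroup.centralizer ({σ ^ h} : Set G)) : ℚ) ^ 3 *
        (1 / (Nat.card (Subgroup.centralizer ({σ ^ h, τ} : Set G)) : ℚ) +
          1 / (Nat.card (Subgroup.centralizer ({σ ^ h, σ * τ} : Set G)) : ℚ)) ^ 2 := by
    have h1 : (0 : ℚ) < (Cfsg.charDegree (χ₁ : G → ℂ) : ℚ) := by exact_mod_cast hχpos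
    have h2 : (0 : ℚ) < (Cfsg.charDegree (χ₁ : G → ℂ) : ℚ) + δ₁ := by
      have : ((Cfsg.charDegree (ξ : G → ℂ) : ℤ) : ℚ) =
          (((Cfsg.charDegree (χ₁ : G → ℂ) : ℤ) + δ₁ : ℤ) : ℚ) := by rw [hdegZ]
      push_cast at this
      rw [← this]
      exact_mod_cast hξpos
    have h3 : (0 : ℚ) < (Nat.card (Subgroup.centralizer ({σ ^ h} : Set G)) : ℚ) := by
      exact_mod_cast hcpos
    have h4 : (0 : ℚ) < (Nat.card (Subgroup.centralizer ({σ ^ h, τ} : Set G)) : ℚ) := by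
      exact_mod_cast hc₁pos
    have h5 : (0 : ℚ) < (Nat.card (Subgroup.centralizer ({σ ^ h, σ * τ} : Set G)) : ℚ) := by
      exact_mod_cast hc₂pos
    positivity
  rw [← keyQ] at hpos
  simp at hpos

end Cfsg.Agent.Lib.Helper24
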