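import Mathlib
import Cfsg.Agent.S0051

set_option autoImplicit false

namespace Cfsg.Agent.Lib.Helper24

open Subgroup

theorem dih_mem {G : Type*} [Group G] (a b : G) (ha : a * a = 1) (hb : b * b = 1) (m : ℕ)
    (hm : 0 < m) (hab : (a * b) ^ m = 1) :
    ∀ g ∈ closure ({a, b} : Set G), ∃ i e : ℕ, g = (a * b) ^ i * a ^ e := by
  have hainv : a⁻¹ = a := inv_eq_of_mul_eq_one_right ha
  have hbinv : b⁻¹ = b := inv_eq_of_mul_eq_one_right hb
  have hcinv : (a * b)⁻¹ = (a * b) ^ (m - 1) := by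
    apply inv_eq_of_mul_eq_one_right
    rw [← pow_succ', Nat.sub_add_cancel hm, hab]
  have hsemi : SemiconjBy a (a * b) ((a * b) ^ (m - 1)) := by
    unfold SemiconjBy
    rw [← hcinv, mul_inv_rev, hainv, hbinv, ← mul_assoc, ha, one_mul]
    rw [mul_assoc, ha, mul_one]
  have hstepa : ∀ i e : ℕ, a * ((a * b) ^ i * a ^ e) = (a * b) ^ ((m - 1) * i) * a ^ (e + 1) := by
    intro i e
    have h := (hsemi.pow_right i).eq
    rw [← mul_assoc, h, pow_mul, mul_assoc, ← pow_succ']
  have hba : b = a * (a * b) := by rw [← mul_assoc, ha, one_mul]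
  intro g hg
  induction hg using Subgroup.closure_induction_left with
  | one => exact ⟨0, 0, by simp⟩
  | mul_left x hx y _ ih =>
    obtain ⟨i, e, rfl⟩ := ih
    rcases hx with rfl | hx
    · exact ⟨_, _, hstepa i e⟩
    · rw [Set.mem_singleton_iff] at hx
      subst hx
      refine ⟨(m - 1) * (i + 1), e + 1, ?_⟩
      rw [← hstepa, pow_succ', mul_assoc (a * x), ← mul_assoc a (a * x), ← hba]
  | inv_mul_cancel x hx y _ ih =>
    obtain ⟨i, e, rfl⟩ := ih
    rcases hx with rfl | hx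
    · rw [hainv]
      exact ⟨_, _, hstepa i e⟩
    · rw [Set.mem_singleton_iff] at hx
      subst hx
      rw [hbinv]
      refine ⟨(m - 1) * (i + 1), e + 1, ?_⟩
      rw [← hstepa, pow_succ', mul_assoc (a * x), ← mul_assoc a (a * x), ← hba]

theorem dih_card {G : Type*} [Group G] (a b : G) (ha : a * a = 1) (hb : b * b = 1) (m : ℕ)
    (hm : 0 < m) (hab : (a * b) ^ m = 1) :
    Nat.card (closure ({a, b} : Set G)) ≤ 2 * m := by
  classical
  let X : Finset G := (Finset.range m ×ˢ Finset.range 2).image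
    (fun p => (a * b) ^ p.1 * a ^ p.2)
  have hsub : (closure ({a, b} : Set G) : Set G) ⊆ (X : Set G) := by
    intro g hg
    obtain ⟨i, e, rfl⟩ := dih_mem a b ha hb m hm hab g hg
    rw [Finset.mem_coe, Finset.mem_image]
    refine ⟨(i % m, e % 2), ?_, ?_⟩
    · rw [Finset.mem_product, Finset.mem_range, Finset.mem_range]
      exact ⟨Nat.mod_lt _ hm, Nat.mod_lt _ (by norm_num)⟩
    · have h1 : (a * b) ^ (i % m) = (a * b) ^ i := (pow_eq_pow_mod i hab).symm
      have h2 : a ^ (e % 2) = a ^ e := (pow_eq_pow_mod e (by rw [pow_two]; exact ha)).symm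
      simp only [h1, h2]
  have h1 : Nat.card (closure ({a, b} : Set G)) = (closure ({a, b} : Set G) : Set G).ncard :=
    Nat.card_coe_set_eq _
  rw [h1]
  calc (closure ({a, b} : Set G) : Set G).ncard ≤ (X : Set G).ncard :=
        Set.ncard_le_ncard hsub (Finset.finite_toSet X)
    _ = X.card := Set.ncard_coe_finset X
    _ ≤ (Finset.range m ×ˢ Finset.range 2).card := Finset.card_image_le
    _ = 2 * m := by rw [Finset.card_product, Finset.card_range, Finset.card_range, mul_comm]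


theorem dc_sq_center {H : Type*} [Group H] (hZ : Nat.card (center H) = 2) (k : H)
    (hk : k ∈ center H) : k * k = 1 := by
  have hfin : Finite (center H) := Nat.finite_of_card_ne_zero (by rw [hZ]; norm_num)
  have h := pow_card_eq_one' (G := center H) (x := ⟨k, hk⟩)
  rw [hZ] at h
  have h2 : (k : H) ^ 2 = 1 := by
    have := congrArg Subtype.val h
    simpa using this
  rwa [pow_two] at h2

theorem dc_lift_sq {H G : Type*} [Group H] [Group G] (π : H →* G)
    (hπ : Function.Surjective π) (hker : π.ker = center H) (hZ : Nat.card (center H) = 2)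
    (hconj : ∀ s t : G, s ≠ 1 → s * s = 1 → t ≠ 1 → t * t = 1 → ∃ g : G, g * s * g⁻¹ = t)
    (x : H) (hx : x * x = 1) (hx1 : π x ≠ 1) :
    ∀ s : G, s ≠ 1 → s * s = 1 → ∀ h : H, π h = s → h * h = 1 := by
  intro s hs1 hs2 h hh
  obtain ⟨g, hg⟩ := hconj (π x) s hx1 (by rw [← map_mul, hx, map_one]) hs1 hs2
  obtain ⟨g', rfl⟩ := hπ g
  have hk : (g' * x * g'⁻¹)⁻¹ * h ∈ center H := by
    rw [← hker, MonoidHom.mem_ker, map_mul, map_inv, map_mul, map_mul, map_inv, hg, hh,
      inv_mul_cancel]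
  have hkk := dc_sq_center hZ _ hk
  have hcomm := Subgroup.mem_center_iff.1 hk (g' * x * g'⁻¹)
  have hh' : (g' * x * g'⁻¹) * (g' * x * g'⁻¹) = 1 := by
    calc (g' * x * g'⁻¹) * (g' * x * g'⁻¹) = g' * (x * x) * g'⁻¹ := by group
      _ = 1 := by rw [hx]; group
  have e : h = (g' * x * g'⁻¹) * ((g' * x * g'⁻¹)⁻¹ * h) := by group
  rw [e]
  set u := g' * x * g'⁻¹ with hu
  set k := u⁻¹ * h with hk'
  calc u * k * (u * k) = u * (k * u) * k := by group
    _ = u * (u * k) * k := by rw [← hcomm]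
    _ = (u * u) * (k * k) := by group
    _ = 1 := by rw [hh', hkk, one_mul]

theorem dc_split {H G : Type*} [Group H] [Finite H] [Group G] (π : H →* G)
    (hπ : Function.Surjective π) (hker : π.ker = center H) (hZ : Nat.card (center H) = 2)
    (hlift : ∀ s : G, s ≠ 1 → s * s = 1 → ∀ h : H, π h = s → h * h = 1)
    (f1 f2 : G) (h11 : f1 ≠ 1) (h12 : f1 * f1 = 1) (h21 : f2 ≠ 1) (h22 : f2 * f2 = 1)
    (k : ℕ) (hk : 0 < k) (hk1 : (f1 * f2) ^ k ≠ 1) (hk2 : (f1 * f2) ^ (2 * k) = 1)
    (hcard : Nat.card (closure ({f1, f2} : Set G)) = 2 * (2 * k))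
    (hodd : Odd (closure ({f1, f2} : Set G)).index) :
    ∃ L : Subgroup H, (center H).IsComplement' L := by
  obtain ⟨y1, hy1⟩ := hπ f1
  obtain ⟨y2, hy2⟩ := hπ f2
  have hy11 : y1 * y1 = 1 := hlift f1 h11 h12 y1 hy1
  have hy22 : y2 * y2 = 1 := hlift f2 h21 h22 y2 hy2
  have hyk : (y1 * y2) ^ (2 * k) = 1 := by
    have h1 : π ((y1 * y2) ^ k) = (f1 * f2) ^ k := by rw [map_pow, map_mul, hy1, hy2]
    have h2 : (f1 * f2) ^ k * (f1 * f2) ^ k = 1 := by rw [← pow_add, ← two_mul, hk2]
    have := hlift _ hk1 h2 _ h1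
    rw [two_mul, pow_add, this]
  set L0 := closure ({y1, y2} : Set H) with hL0
  set S := closure ({f1, f2} : Set G) with hS
  have hL0card : Nat.card L0 ≤ 2 * (2 * k) :=
    dih_card y1 y2 hy11 hy22 (2 * k) (by omega) hyk
  have hmap : L0.map π = S := by
    rw [hL0, MonoidHom.map_closure, hS]
    congr 1
    rw [Set.image_pair, hy1, hy2]
  set U := S.comap π with hU
  have hKU : center H ≤ U := by
    rw [← hker, hU]
    exact MonoidHom.ker_le_comap π S
  have hL0U : L0 ≤ U := by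
    rw [hU, ← Subgroup.map_le_iff_le_comap, hmap]
  have hfinS : Finite S := Nat.finite_of_card_ne_zero (by rw [hcard]; omega)
  have hinf : L0 ⊓ center H = ⊥ := by
    let ρ : L0 →* G := π.comp L0.subtype
    have hrange : ρ.range = S := by
      rw [← hmap]
      ext g
      constructor
      · rintro ⟨⟨l, hl⟩, rfl⟩
        exact ⟨l, hl, rfl⟩
      · rintro ⟨l, hl, rfl⟩
        exact ⟨⟨l, hl⟩, rfl⟩
    have h1 := Subgroup.card_eq_card_quotient_mul_card_subgroup ρ.ker
    rw [Nat.card_congr (QuotientGroup.quotientKerEquivRange ρ).toEquiv, hrange, hcard] at h1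
    have h2 : Nat.card ρ.ker = 1 := by
      have hpos : 0 < Nat.card ρ.ker := Nat.card_pos
      nlinarith
    have h3 : ρ.ker = ⊥ := Subgroup.card_eq_one.1 h2
    rw [eq_bot_iff]
    rintro g ⟨hg1, hg2⟩
    have : (⟨g, hg1⟩ : L0) ∈ ρ.ker := by
      rw [MonoidHom.mem_ker]
      show π g = 1
      rw [← MonoidHom.mem_ker, hker]
      exact hg2
    rw [h3, Subgroup.mem_bot] at this
    rw [Subgroup.mem_bot]
    exact congrArg Subtype.val this
  have hsup : center H ⊔ L0 = U := by
    apply le_antisymm (sup_le hKU hL0U)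
    intro u hu
    have hu' : π u ∈ L0.map π := by rw [hmap]; exact hu
    obtain ⟨l, hl, hlu⟩ := hu'
    have hkk : u * l⁻¹ ∈ center H := by
      rw [← hker, MonoidHom.mem_ker, map_mul, map_inv, hlu, mul_inv_cancel]
    have e : u = (u * l⁻¹) * l := by group
    rw [e]
    exact Subgroup.mul_mem_sup hkk hl
  have hcop : (Nat.card (center H)).Coprime U.index := by
    rw [hZ, hU, Subgroup.index_comap_of_surjective S hπ]
    exact (Nat.coprime_two_left).2 hodd
  exact Cfsg.Agent.S0051.result (center H) U hKU hcop L0 hL0U hinf hsup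

end Cfsg.Agent.Lib.Helper24
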