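import Mathlib

set_option autoImplicit false

namespace Cfsg.Agent.Lib.Helper24

open Equiv Equiv.Perm

theorem invol_cycleType {n : ℕ} (hn : n ≤ 7) (s : Perm (Fin n)) (hs1 : s ≠ 1) (hs2 : s * s = 1)
    (hsgn : Perm.sign s = 1) : s.cycleType = {2, 2} := by
  have hord : orderOf s = 2 := orderOf_eq_prime (by rw [pow_two]; exact hs2) hs1
  obtain ⟨k, hk⟩ := Equiv.Perm.cycleType_prime_order (σ := s) (by rw [hord]; exact Nat.prime_two)
  rw [hord] at hk
  have hsum : s.cycleType.sum ≤ n := by
    rw [Equiv.Perm.sum_cycleType]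
    calc s.support.card ≤ Fintype.card (Fin n) := Finset.card_le_univ _
      _ = n := Fintype.card_fin n
  rw [hk, Multiset.sum_replicate, smul_eq_mul] at hsum
  have hsign := Equiv.Perm.sign_of_cycleType s
  rw [hk, Multiset.sum_replicate, Multiset.card_replicate, smul_eq_mul, hsgn] at hsign
  have hk1 : k = 1 := by
    have hk2 : k ≤ 2 := by omega
    interval_cases k
    · exfalso; revert hsign; decide
    · rfl
    · exfalso; revert hsign; decide
  rw [hk, hk1]
  rfl

theorem alt_invol_conj {n : ℕ} (hn : n ≤ 7) (s t : alternatingGroup (Fin n)) (hs1 : s ≠ 1)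
    (hs2 : s * s = 1) (ht1 : t ≠ 1) (ht2 : t * t = 1) : ∃ g : alternatingGroup (Fin n),
    g * s * g⁻¹ = t := by
  obtain ⟨s, hs⟩ := s
  obtain ⟨t, ht⟩ := t
  have hs1' : s ≠ 1 := fun h => hs1 (Subtype.ext h)
  have ht1' : t ≠ 1 := fun h => ht1 (Subtype.ext h)
  have hs2' : s * s = 1 := congrArg Subtype.val hs2
  have ht2' : t * t = 1 := congrArg Subtype.val ht2
  have hcs := invol_cycleType hn s hs1' hs2' (Equiv.Perm.mem_alternatingGroup.1 hs)
  have hct := invol_cycleType hn t ht1' ht2' (Equiv.Perm.mem_alternatingGroup.1 ht)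
  have hconj : IsConj s t := (Equiv.Perm.isConj_iff_cycleType_eq).2 (hcs.trans hct.symm)
  obtain ⟨σ, hσ⟩ := isConj_iff.1 hconj
  by_cases hsg : Perm.sign σ = 1
  · refine ⟨⟨σ, Equiv.Perm.mem_alternatingGroup.2 hsg⟩, ?_⟩
    apply Subtype.ext
    exact hσ
  · have hsg' : Perm.sign σ = -1 := by
      rcases Int.units_eq_one_or (Perm.sign σ) with h | h
      · exact absurd h hsg
      · exact h
    obtain ⟨a, ha⟩ : ∃ a, s a ≠ a := by
      by_contra hcon
      push Not at hcon
      exact hs1' (Equiv.Perm.ext hcon)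
    have hτ : s * swap a (s a) * s⁻¹ = swap a (s a) := by
      rw [Equiv.mul_swap_eq_swap_mul, mul_assoc, mul_inv_cancel, mul_one]
      have : s (s a) = a := by
        have := congrArg (fun f => f a) hs2'
        simpa using this
      rw [this, Equiv.swap_comm]
    have hτ' : swap a (s a) * s * (swap a (s a))⁻¹ = s := by
      have h1 : s * swap a (s a) = swap a (s a) * s := by
        calc s * swap a (s a) = (s * swap a (s a) * s⁻¹) * s := by group
          _ = swap a (s a) * s := by rw [hτ]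
      rw [← h1, mul_assoc, mul_inv_cancel, mul_one]
    refine ⟨⟨σ * swap a (s a), ?_⟩, ?_⟩
    · rw [Equiv.Perm.mem_alternatingGroup, Perm.sign_mul, hsg', Perm.sign_swap (Ne.symm ha)]
      rfl
    · apply Subtype.ext
      show σ * swap a (s a) * s * (σ * swap a (s a))⁻¹ = t
      rw [← hσ]
      calc σ * swap a (s a) * s * (σ * swap a (s a))⁻¹
          = σ * (swap a (s a) * s * (swap a (s a))⁻¹) * σ⁻¹ := by group
        _ = σ * s * σ⁻¹ := by rw [hτ']

end Cfsg.Agent.Lib.Helper24
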