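import Cfsg.Agent.Lib.Helper24.DcAbs
import Cfsg.Agent.Lib.Helper24.DcAlt

set_option autoImplicit false

namespace Cfsg.Agent.Lib.Helper24

open Subgroup Equiv

theorem card_ge_of_finset {G : Type*} [Group G] (K : Subgroup G) [Finite K] (T : Finset G)
    (hT : ∀ g ∈ T, g ∈ K) : T.card ≤ Nat.card K := by
  have h1 : Nat.card K = (K : Set G).ncard := Nat.card_coe_set_eq _
  rw [h1, ← Set.ncard_coe_finset T]
  apply Set.ncard_le_ncard
  · intro g hg
    exact hT g (Finset.mem_coe.1 hg)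
  · exact Set.toFinite _

theorem card_alt (n : ℕ) (hn : 2 ≤ n) :
    2 * Nat.card (alternatingGroup (Fin n)) = n.factorial := by
  have : Nontrivial (Fin n) := Fin.nontrivial_iff_two_le.2 hn
  rw [two_mul_nat_card_alternatingGroup, Nat.card_perm, Nat.card_eq_fintype_card, Fintype.card_fin]

theorem dc_alt_core {n : ℕ} (hn : n ≤ 7) (hn2 : 2 ≤ n) (f1 f2 : alternatingGroup (Fin n))
    (h11 : f1 ≠ 1) (h12 : f1 * f1 = 1) (h21 : f2 ≠ 1) (h22 : f2 * f2 = 1)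
    (k : ℕ) (hk : 0 < k) (hk1 : (f1 * f2) ^ k ≠ 1) (hk2 : (f1 * f2) ^ (2 * k) = 1)
    (T : Finset (alternatingGroup (Fin n))) (hT : ∀ g ∈ T, g ∈ closure ({f1, f2} : Set _))
    (hTc : T.card = 2 * (2 * k)) (hoddn : Odd (n.factorial / (4 * (2 * k))))
    (hdvd : 4 * (2 * k) ∣ n.factorial)
    {H : Type*} [Group H] [Finite H] (π : H →* alternatingGroup (Fin n))
    (hπ : Function.Surjective π) (hker : π.ker = center H) (hZ : Nat.card (center H) = 2)
    (x : H) (hx : x * x = 1) (hx1 : π x ≠ 1) :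
    ∃ L : Subgroup H, (center H).IsComplement' L := by
  have hlift := dc_lift_sq π hπ hker hZ (alt_invol_conj hn) x hx hx1
  have hcard : Nat.card (closure ({f1, f2} : Set (alternatingGroup (Fin n)))) = 2 * (2 * k) := by
    apply le_antisymm
    · exact dih_card f1 f2 h12 h22 (2 * k) (by omega) hk2
    · rw [← hTc]
      exact card_ge_of_finset _ T hT
  have hidx : (closure ({f1, f2} : Set (alternatingGroup (Fin n)))).index =
      n.factorial / (4 * (2 * k)) := by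
    have h1 := Subgroup.index_mul_card (closure ({f1, f2} : Set (alternatingGroup (Fin n))))
    rw [hcard] at h1
    have h2 := card_alt n hn2
    obtain ⟨q, hq⟩ := hdvd
    rw [hq, Nat.mul_div_cancel_left q (by omega)]
    rw [hq] at h2
    nlinarith
  exact dc_split π hπ hker hZ hlift f1 f2 h11 h12 h21 h22 k hk hk1 hk2 hcard (by rw [hidx]; exact hoddn)


def dcf1_4 : alternatingGroup (Fin 4) := ⟨swap 0 1 * swap 2 3, Equiv.Perm.mem_alternatingGroup.2 (by decide)⟩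

def dcf2_4 : alternatingGroup (Fin 4) := ⟨swap 0 2 * swap 1 3, Equiv.Perm.mem_alternatingGroup.2 (by decide)⟩

theorem dcfacts_4 : dcf1_4 ≠ 1 ∧ dcf1_4 * dcf1_4 = 1 ∧ dcf2_4 ≠ 1 ∧ dcf2_4 * dcf2_4 = 1 ∧
    (dcf1_4 * dcf2_4) ^ 1 ≠ 1 ∧ (dcf1_4 * dcf2_4) ^ (2 * 1) = 1 := by
  decide +kernel

theorem dcT_4 : ({1, dcf1_4, dcf2_4, dcf1_4 * dcf2_4} : Finset (alternatingGroup (Fin 4))).card = 2 * (2 * 1) := by
  decide +kernel

theorem dc_alt_4 {H : Type*} [Group H] [Finite H] (π : H →* alternatingGroup (Fin 4))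
    (hπ : Function.Surjective π) (hker : π.ker = center H) (hZ : Nat.card (center H) = 2)
    (x : H) (hx : x * x = 1) (hx1 : π x ≠ 1) :
    ∃ L : Subgroup H, (center H).IsComplement' L := by
  have hf1 : dcf1_4 ∈ closure ({dcf1_4, dcf2_4} : Set (alternatingGroup (Fin 4))) :=
    Subgroup.subset_closure (by simp)
  have hf2 : dcf2_4 ∈ closure ({dcf1_4, dcf2_4} : Set (alternatingGroup (Fin 4))) :=
    Subgroup.subset_closure (by simp)
  obtain ⟨a1, a2, a3, a4, a5, a6⟩ := dcfacts_4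
  refine dc_alt_core (by norm_num) (by norm_num) dcf1_4 dcf2_4 a1 a2 a3 a4
    1 (by norm_num) a5 a6
    {1, dcf1_4, dcf2_4, dcf1_4 * dcf2_4} ?_ dcT_4 (by decide) (by decide) π hπ hker hZ x hx hx1
  intro g hg
  simp only [Finset.mem_insert, Finset.mem_singleton] at hg
  rcases hg with rfl | rfl | rfl | rfl
  · exact one_mem _
  · exact hf1
  · exact hf2
  · exact mul_mem hf1 hf2

def dcf1_5 : alternatingGroup (Fin 5) := ⟨swap 0 1 * swap 2 3, Equiv.Perm.mem_alternatingGroup.2 (by decide)⟩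

def dcf2_5 : alternatingGroup (Fin 5) := ⟨swap 0 2 * swap 1 3, Equiv.Perm.mem_alternatingGroup.2 (by decide)⟩

theorem dcfacts_5 : dcf1_5 ≠ 1 ∧ dcf1_5 * dcf1_5 = 1 ∧ dcf2_5 ≠ 1 ∧ dcf2_5 * dcf2_5 = 1 ∧
    (dcf1_5 * dcf2_5) ^ 1 ≠ 1 ∧ (dcf1_5 * dcf2_5) ^ (2 * 1) = 1 := by
  decide +kernel

theorem dcT_5 : ({1, dcf1_5, dcf2_5, dcf1_5 * dcf2_5} : Finset (alternatingGroup (Fin 5))).card = 2 * (2 * 1) := by
  decide +kernel

theorem dc_alt_5 {H : Type*} [Group H] [Finite H] (π : H →* alternatingGroup (Fin 5))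
    (hπ : Function.Surjective π) (hker : π.ker = center H) (hZ : Nat.card (center H) = 2)
    (x : H) (hx : x * x = 1) (hx1 : π x ≠ 1) :
    ∃ L : Subgroup H, (center H).IsComplement' L := by
  have hf1 : dcf1_5 ∈ closure ({dcf1_5, dcf2_5} : Set (alternatingGroup (Fin 5))) :=
    Subgroup.subset_closure (by simp)
  have hf2 : dcf2_5 ∈ closure ({dcf1_5, dcf2_5} : Set (alternatingGroup (Fin 5))) :=
    Subgroup.subset_closure (by simp)
  obtain ⟨a1, a2, a3, a4, a5, a6⟩ := dcfacts_5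
  refine dc_alt_core (by norm_num) (by norm_num) dcf1_5 dcf2_5 a1 a2 a3 a4
    1 (by norm_num) a5 a6
    {1, dcf1_5, dcf2_5, dcf1_5 * dcf2_5} ?_ dcT_5 (by decide) (by decide) π hπ hker hZ x hx hx1
  intro g hg
  simp only [Finset.mem_insert, Finset.mem_singleton] at hg
  rcases hg with rfl | rfl | rfl | rfl
  · exact one_mem _
  · exact hf1
  · exact hf2
  · exact mul_mem hf1 hf2

def dcf1_6 : alternatingGroup (Fin 6) := ⟨swap 0 2 * swap 1 3, Equiv.Perm.mem_alternatingGroup.2 (by decide)⟩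

def dcf2_6 : alternatingGroup (Fin 6) := ⟨swap 0 1 * swap 4 5, Equiv.Perm.mem_alternatingGroup.2 (by decide)⟩

theorem dcfacts_6 : dcf1_6 ≠ 1 ∧ dcf1_6 * dcf1_6 = 1 ∧ dcf2_6 ≠ 1 ∧ dcf2_6 * dcf2_6 = 1 ∧
    (dcf1_6 * dcf2_6) ^ 2 ≠ 1 ∧ (dcf1_6 * dcf2_6) ^ (2 * 2) = 1 := by
  decide +kernel

theorem dcT_6 : ({1, dcf1_6, dcf2_6, dcf1_6 * dcf2_6, dcf2_6 * dcf1_6, dcf1_6 * dcf2_6 * dcf1_6, dcf2_6 * dcf1_6 * dcf2_6, dcf1_6 * dcf2_6 * dcf1_6 * dcf2_6} : Finset (alternatingGroup (Fin 6))).card = 2 * (2 * 2) := by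
  decide +kernel

theorem dc_alt_6 {H : Type*} [Group H] [Finite H] (π : H →* alternatingGroup (Fin 6))
    (hπ : Function.Surjective π) (hker : π.ker = center H) (hZ : Nat.card (center H) = 2)
    (x : H) (hx : x * x = 1) (hx1 : π x ≠ 1) :
    ∃ L : Subgroup H, (center H).IsComplement' L := by
  have hf1 : dcf1_6 ∈ closure ({dcf1_6, dcf2_6} : Set (alternatingGroup (Fin 6))) :=
    Subgroup.subset_closure (by simp)
  have hf2 : dcf2_6 ∈ closure ({dcf1_6, dcf2_6} : Set (alternatingGroup (Fin 6))) :=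
    Subgroup.subset_closure (by simp)
  obtain ⟨a1, a2, a3, a4, a5, a6⟩ := dcfacts_6
  refine dc_alt_core (by norm_num) (by norm_num) dcf1_6 dcf2_6 a1 a2 a3 a4
    2 (by norm_num) a5 a6
    {1, dcf1_6, dcf2_6, dcf1_6 * dcf2_6, dcf2_6 * dcf1_6, dcf1_6 * dcf2_6 * dcf1_6, dcf2_6 * dcf1_6 * dcf2_6, dcf1_6 * dcf2_6 * dcf1_6 * dcf2_6} ?_ dcT_6 (by decide) (by decide) π hπ hker hZ x hx hx1
  intro g hg
  simp only [Finset.mem_insert, Finset.mem_singleton] at hg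
  rcases hg with rfl | rfl | rfl | rfl | rfl | rfl | rfl | rfl
  · exact one_mem _
  · exact hf1
  · exact hf2
  · exact mul_mem hf1 hf2
  · exact mul_mem hf2 hf1
  · exact mul_mem (mul_mem hf1 hf2) hf1
  · exact mul_mem (mul_mem hf2 hf1) hf2
  · exact mul_mem (mul_mem (mul_mem hf1 hf2) hf1) hf2

def dcf1_7 : alternatingGroup (Fin 7) := ⟨swap 0 2 * swap 1 3, Equiv.Perm.mem_alternatingGroup.2 (by decide)⟩

def dcf2_7 : alternatingGroup (Fin 7) := ⟨swap 0 1 * swap 4 5, Equiv.Perm.mem_alternatingGroup.2 (by decide)⟩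

theorem dcfacts_7 : dcf1_7 ≠ 1 ∧ dcf1_7 * dcf1_7 = 1 ∧ dcf2_7 ≠ 1 ∧ dcf2_7 * dcf2_7 = 1 ∧
    (dcf1_7 * dcf2_7) ^ 2 ≠ 1 ∧ (dcf1_7 * dcf2_7) ^ (2 * 2) = 1 := by
  decide +kernel

theorem dcT_7 : ({1, dcf1_7, dcf2_7, dcf1_7 * dcf2_7, dcf2_7 * dcf1_7, dcf1_7 * dcf2_7 * dcf1_7, dcf2_7 * dcf1_7 * dcf2_7, dcf1_7 * dcf2_7 * dcf1_7 * dcf2_7} : Finset (alternatingGroup (Fin 7))).card = 2 * (2 * 2) := by
  decide +kernel

theorem dc_alt_7 {H : Type*} [Group H] [Finite H] (π : H →* alternatingGroup (Fin 7))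
    (hπ : Function.Surjective π) (hker : π.ker = center H) (hZ : Nat.card (center H) = 2)
    (x : H) (hx : x * x = 1) (hx1 : π x ≠ 1) :
    ∃ L : Subgroup H, (center H).IsComplement' L := by
  have hf1 : dcf1_7 ∈ closure ({dcf1_7, dcf2_7} : Set (alternatingGroup (Fin 7))) :=
    Subgroup.subset_closure (by simp)
  have hf2 : dcf2_7 ∈ closure ({dcf1_7, dcf2_7} : Set (alternatingGroup (Fin 7))) :=
    Subgroup.subset_closure (by simp)
  obtain ⟨a1, a2, a3, a4, a5, a6⟩ := dcfacts_7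
  refine dc_alt_core (by norm_num) (by norm_num) dcf1_7 dcf2_7 a1 a2 a3 a4
    2 (by norm_num) a5 a6
    {1, dcf1_7, dcf2_7, dcf1_7 * dcf2_7, dcf2_7 * dcf1_7, dcf1_7 * dcf2_7 * dcf1_7, dcf2_7 * dcf1_7 * dcf2_7, dcf1_7 * dcf2_7 * dcf1_7 * dcf2_7} ?_ dcT_7 (by decide) (by decide) π hπ hker hZ x hx hx1
  intro g hg
  simp only [Finset.mem_insert, Finset.mem_singleton] at hg
  rcases hg with rfl | rfl | rfl | rfl | rfl | rfl | rfl | rfl
  · exact one_mem _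
  · exact hf1
  · exact hf2
  · exact mul_mem hf1 hf2
  · exact mul_mem hf2 hf1
  · exact mul_mem (mul_mem hf1 hf2) hf1
  · exact mul_mem (mul_mem hf2 hf1) hf2
  · exact mul_mem (mul_mem (mul_mem hf1 hf2) hf1) hf2

end Cfsg.Agent.Lib.Helper24
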