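import Mathlib

set_option autoImplicit false
set_option linter.style.haveILetI false
set_option linter.unusedSectionVars false
set_option linter.unusedVariables false

namespace Cfsg.Agent.Lib.Helper24

section
variable {G : Type*} [Group G]

theorem dbw_inv_of_sq {g : G} (h : g * g = 1) : g⁻¹ = g := by
  exact inv_eq_of_mul_eq_one_left h

theorem dbw_pow_comm {x y : G} (h : x * y = y * x) (n : ℕ) : x ^ n * y = y * x ^ n := by
  exact ((Commute.pow_left (show Commute x y from h) n)).eq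

theorem dbw_conj_pow (t u : G) (n : ℕ) : t * u ^ n * t⁻¹ = (t * u * t⁻¹) ^ n := by
  exact (conj_pow).symm

theorem dbw_decomp (K : Subgroup G) [K.Normal] (n s : ℕ) (hn : n = 2 * s + 1)
    (hK : ∀ k ∈ K, k ^ n = 1) (a b : G) (ha : a * a = 1) (hb : b * b = 1)
    (hab : a * b = b * a) (i : G) (hi : i ∈ K) (hinv : a * i * a = i⁻¹) :
    ∃ h ∈ K, ∃ y ∈ K, h * b = b * h ∧ y * (a * b) = (a * b) * y ∧
      i = a * (h * y) * a * (h * y)⁻¹ := by
  have hai : a⁻¹ = a := dbw_inv_of_sq ha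
  have hbi : b⁻¹ = b := dbw_inv_of_sq hb
  obtain ⟨t, ht⟩ : ∃ t : G, t = a * i := ⟨_, rfl⟩
  have htt : t * t = 1 := by
    have : t * t = (a * i * a) * i := by rw [ht]; group
    rw [this, hinv]; group
  have hti : t⁻¹ = t := dbw_inv_of_sq htt
  obtain ⟨u, hu⟩ : ∃ u : G, u = t * b := ⟨_, rfl⟩
  have hui : u⁻¹ = b * t := by rw [hu, mul_inv_rev, hti, hbi]
  have htu : t * u * t⁻¹ = u⁻¹ := by
    rw [hui, hti, hu]
    calc t * (t * b) * t = (t * t) * b * t := by group
      _ = b * t := by rw [htt, one_mul]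
  have hbu : b * u * b⁻¹ = u⁻¹ := by
    rw [hui, hbi, hu]
    calc b * (t * b) * b = b * t * (b * b) := by group
      _ = b * t := by rw [hb, mul_one]
  obtain ⟨ρ, hρ⟩ : ∃ ρ : G, ρ = u ^ 2 := ⟨_, rfl⟩
  have hρK : ρ ∈ K := by
    have h1 : ρ = i⁻¹ * (b * i * b⁻¹) := by
      rw [hρ, hu, ht, hbi, pow_two]
      calc a * i * b * (a * i * b) = a * i * (b * a) * i * b := by group
        _ = a * i * (a * b) * i * b := by rw [hab]
        _ = (a * i * a) * (b * i * b) := by group
        _ = i⁻¹ * (b * i * b) := by rw [hinv]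
    rw [h1]
    exact K.mul_mem (K.inv_mem hi) (Subgroup.Normal.conj_mem inferInstance i hi b)
  have hρn : ρ ^ n = 1 := hK ρ hρK
  obtain ⟨w, hw⟩ : ∃ w : G, w = u ^ n := ⟨_, rfl⟩
  have hww : w * w = 1 := by
    rw [hw, ← pow_add, ← two_mul, pow_mul, ← hρ, hρn]
  have hwi : w⁻¹ = w := dbw_inv_of_sq hww
  have htw : t * w * t⁻¹ = w := by
    rw [hw, dbw_conj_pow, htu, inv_pow, ← hw, hwi]
  have hbw : b * w * b⁻¹ = w := by
    rw [hw, dbw_conj_pow, hbu, inv_pow, ← hw, hwi]
  have hwb : w * b = b * w := by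
    have : b * w = (b * w * b⁻¹) * b := by group
    rw [this, hbw]
  have hwt : w * t = t * w := by
    have : t * w = (t * w * t⁻¹) * t := by group
    rw [this, htw]
  obtain ⟨a', ha'⟩ : ∃ a' : G, a' = w * b := ⟨_, rfl⟩
  have ha'a' : a' * a' = 1 := by
    rw [ha']
    calc w * b * (w * b) = w * (b * w) * b := by group
      _ = w * (w * b) * b := by rw [hwb]
      _ = (w * w) * (b * b) := by group
      _ = 1 := by rw [hww, hb, one_mul]
  obtain ⟨k', hk'⟩ : ∃ k' : G, k' = a * a' := ⟨_, rfl⟩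
  have hk'K : k' ∈ K := by
    rw [← QuotientGroup.eq_one_iff]
    have hi1 : ((i : G) : G ⧸ K) = 1 := (QuotientGroup.eq_one_iff i).mpr hi
    have hu1 : ((u : G) : G ⧸ K) = (a : G ⧸ K) * (b : G ⧸ K) := by
      rw [hu, ht, QuotientGroup.mk_mul, QuotientGroup.mk_mul, hi1, mul_one]
    have hab2 : ((a : G ⧸ K) * (b : G ⧸ K)) ^ 2 = 1 := by
      rw [← QuotientGroup.mk_mul, ← QuotientGroup.mk_pow]
      have : (a * b) ^ 2 = 1 := by
        rw [pow_two]
        calc a * b * (a * b) = a * (b * a) * b := by group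
          _ = a * (a * b) * b := by rw [hab]
          _ = (a * a) * (b * b) := by group
          _ = 1 := by rw [ha, hb, one_mul]
      rw [this]; rfl
    have hun : ((a : G ⧸ K) * (b : G ⧸ K)) ^ n = (a : G ⧸ K) * (b : G ⧸ K) := by
      rw [hn, pow_succ, pow_mul, hab2, one_pow, one_mul]
    rw [hk', ha', hw, QuotientGroup.mk_mul, QuotientGroup.mk_mul, QuotientGroup.mk_pow, hu1, hun]
    have h1 : ((a : G ⧸ K)) * ((a : G ⧸ K) * (b : G ⧸ K) * (b : G ⧸ K)) =
        ((a * a : G) : G ⧸ K) * ((b * b : G) : G ⧸ K) := by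
      rw [QuotientGroup.mk_mul, QuotientGroup.mk_mul]; group
    rw [h1, ha, hb]; simp
  have hk'b : k' * b = b * k' := by
    rw [hk', ha']
    calc a * (w * b) * b = a * (w * b * b) := by group
      _ = a * (b * w * b) := by rw [hwb]
      _ = (a * b) * (w * b) := by group
      _ = (b * a) * (w * b) := by rw [hab]
      _ = b * (a * (w * b)) := by group
  have hak' : a * k' * a = k'⁻¹ := by
    rw [hk', ha', mul_inv_rev, mul_inv_rev, hbi, hwi, hai]
    calc a * (a * (w * b)) * a = (a * a) * w * (b * a) := by group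
      _ = w * (a * b) := by rw [ha, one_mul, hab]
      _ = (w * a) * b := by group
      _ = b * w * a := by
        have h1 : w * a * b = w * (a * b) := by group
        rw [h1, hab]
        have h2 : w * (b * a) = (w * b) * a := by group
        rw [h2, hwb]
  have hk'n : k' ^ n = 1 := hK k' hk'K
  obtain ⟨j, hj⟩ : ∃ j : G, j = k' ^ (s + 1) := ⟨_, rfl⟩
  have hjj : j * j = k' := by
    rw [hj, ← pow_add]
    have : s + 1 + (s + 1) = n + 1 := by omega
    rw [this, pow_succ, hk'n, one_mul]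
  have hjK : j ∈ K := by rw [hj]; exact K.pow_mem hk'K _
  have hjb : j * b = b * j := by rw [hj]; exact dbw_pow_comm hk'b _
  have haj : a * j * a = j⁻¹ := by
    have h1 : a * j * a⁻¹ = (a * k' * a⁻¹) ^ (s + 1) := by rw [hj, dbw_conj_pow]
    rw [hai] at h1
    rw [h1, hak', inv_pow, ← hj]
  have ha'eq : a' = j⁻¹ * a * j := by
    have h1 : a' = a * k' := by
      rw [hk']
      calc a' = (a * a) * a' := by rw [ha, one_mul]
        _ = a * (a * a') := by group
    have h2 : j⁻¹ * a * j = a * (a * j⁻¹ * a) * j := by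
      calc j⁻¹ * a * j = (a * a) * j⁻¹ * ((a * a) * a) * j := by rw [ha, one_mul, one_mul]
        _ = a * (a * j⁻¹ * a) * (a * a) * j := by group
        _ = a * (a * j⁻¹ * a) * j := by rw [ha, mul_one]
    have h3 : a * j⁻¹ * a = j := by
      have : a * j⁻¹ * a = (a * j * a)⁻¹ := by
        rw [mul_inv_rev, mul_inv_rev, hai]; group
      rw [this, haj, inv_inv]
    rw [h2, h3, h1, ← hjj]; group
  obtain ⟨h, hh⟩ : ∃ h : G, h = j⁻¹ := ⟨_, rfl⟩
  have hhK : h ∈ K := by rw [hh]; exact K.inv_mem hjK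
  have hhb : h * b = b * h := by
    rw [hh]
    have : j⁻¹ * b = j⁻¹ * (b * j) * j⁻¹ := by group
    rw [this, ← hjb]; group
  have ha'h : a' = h * a * h⁻¹ := by rw [ha'eq, hh, inv_inv]
  have hwab : w = h * (a * b) * h⁻¹ := by
    have h1 : w = a' * b := by
      rw [ha']
      calc w = w * (b * b) := by rw [hb, mul_one]
        _ = w * b * b := by group
    rw [h1, ha'h]
    have hhb' : h⁻¹ * b = b * h⁻¹ := by
      have : h⁻¹ * b = h⁻¹ * (b * h) * h⁻¹ := by group
      rw [this, ← hhb]; group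
    calc h * a * h⁻¹ * b = h * a * (h⁻¹ * b) := by group
      _ = h * a * (b * h⁻¹) := by rw [hhb']
      _ = h * (a * b) * h⁻¹ := by group
  have ha'ρ : a' = ρ ^ s * t := by
    rw [ha', hw, hn, pow_succ, pow_mul, ← hρ, hu]
    calc ρ ^ s * (t * b) * b = ρ ^ s * t * (b * b) := by group
      _ = ρ ^ s * t := by rw [hb, mul_one]
  have htρ : t * ρ * t⁻¹ = ρ⁻¹ := by
    rw [hρ, dbw_conj_pow, htu, inv_pow]
  have ha'i : a'⁻¹ = a' := dbw_inv_of_sq ha'a'
  have ha'ρinv : a' * ρ * a'⁻¹ = ρ⁻¹ := by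
    have h1 : a' * ρ * a'⁻¹ = ρ ^ s * (t * ρ * t⁻¹) * (ρ ^ s)⁻¹ := by
      rw [ha'ρ]; group
    rw [h1, htρ]
    have h2 : ρ ^ s * ρ⁻¹ = ρ⁻¹ * ρ ^ s := by
      have : Commute (ρ ^ s) ρ⁻¹ := (Commute.refl ρ).pow_left s |>.inv_right
      exact this.eq
    rw [h2]; group
  obtain ⟨d, hd⟩ : ∃ d : G, d = (ρ⁻¹) ^ (s * (s + 1)) := ⟨_, rfl⟩
  have hdK : d ∈ K := by rw [hd]; exact K.pow_mem (K.inv_mem hρK) _
  have hdd : d * d = (ρ ^ s)⁻¹ := by
    rw [hd, ← pow_add]
    have h1 : s * (s + 1) + s * (s + 1) = n * s + s := by rw [hn]; ring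
    rw [h1, pow_add, pow_mul, inv_pow, hρn, inv_one, one_pow, one_mul, inv_pow]
  have ha'd : a' * d * a'⁻¹ = d⁻¹ := by
    rw [hd, dbw_conj_pow]
    have : a' * ρ⁻¹ * a'⁻¹ = (a' * ρ * a'⁻¹)⁻¹ := by group
    rw [this, ha'ρinv, inv_inv, inv_pow, inv_inv]
  have htd : t = d * a' * d⁻¹ := by
    have h1 : d * a' * d⁻¹ = d * (a' * d * a'⁻¹)⁻¹ * a' := by group
    rw [h1, ha'd, inv_inv, hdd, ha'ρ]; group
  have hdw : d * w = w * d := by
    have h1 : Commute ρ u := by
      rw [hρ]; exact (Commute.refl u).pow_left 2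
    have h2 : Commute d w := by
      rw [hd, hw]
      exact (h1.inv_left.pow_left _).pow_right _
    exact h2.eq
  obtain ⟨y, hy⟩ : ∃ y : G, y = h⁻¹ * d * h := ⟨_, rfl⟩
  have hyK : y ∈ K := by rw [hy]; exact K.mul_mem (K.mul_mem (K.inv_mem hhK) hdK) hhK
  have hyab : y * (a * b) = (a * b) * y := by
    have h1 : a * b = h⁻¹ * w * h := by rw [hwab]; group
    rw [h1, hy]
    calc h⁻¹ * d * h * (h⁻¹ * w * h) = h⁻¹ * (d * w) * h := by group
      _ = h⁻¹ * (w * d) * h := by rw [hdw]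
      _ = h⁻¹ * w * h * (h⁻¹ * d * h) := by group
  refine ⟨h, hhK, y, hyK, hhb, hyab, ?_⟩
  have h1 : h * y = d * h := by rw [hy]; group
  have h2 : t = (d * h) * a * (d * h)⁻¹ := by
    rw [htd, ha'h]; group
  rw [h1]
  have h3 : i = a * t := by
    rw [ht]
    calc i = (a * a) * i := by rw [ha, one_mul]
      _ = a * (a * i) := by group
  rw [h3, h2]; group

theorem dbw_card_filter_le [Fintype G] [DecidableEq G] (H : Subgroup G) (S : Finset G)
    (hS : ∀ x ∈ S, x ∈ H) : S.card ≤ Nat.card H := by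
  classical
  have h1 : S ⊆ Finset.univ.filter (fun x => x ∈ H) := by
    intro x hx
    rw [Finset.mem_filter]
    exact ⟨Finset.mem_univ _, hS x hx⟩
  have h2 : (Finset.univ.filter (fun x => x ∈ H)).card = Nat.card H := by
    rw [Nat.card_eq_fintype_card, Fintype.card_subtype]
  rw [← h2]
  exact Finset.card_le_card h1

theorem dbw_card [Finite G] (K : Subgroup G) [K.Normal] (hodd : Odd (Nat.card K))
    (a b : G) (ha : a * a = 1) (hb : b * b = 1) (hab : a * b = b * a) (c : ℕ)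
    (hca : Nat.card (Subgroup.centralizer ({a} : Set G)) ≤ c)
    (hcb : Nat.card (Subgroup.centralizer ({b} : Set G)) ≤ c)
    (hcab : Nat.card (Subgroup.centralizer ({a * b} : Set G)) ≤ c) :
    Nat.card K ≤ c ^ 3 := by
  classical
  haveI : Fintype G := Fintype.ofFinite G
  obtain ⟨s, hs⟩ := hodd
  have hK : ∀ k ∈ K, k ^ (Nat.card K) = 1 := by
    intro k hk
    have h1 : (⟨k, hk⟩ : K) ^ Nat.card K = 1 := pow_card_eq_one'
    have h2 := congrArg (fun x : K => (x : G)) h1
    simp only [Subgroup.coe_pow, Subgroup.coe_one] at h2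
    exact h2
  have hai : a⁻¹ = a := dbw_inv_of_sq ha
  set Kf : Finset G := Finset.univ.filter (fun x => x ∈ K) with hKf
  set I : Finset G := Kf.filter (fun i => a * i * a = i⁻¹) with hI
  set Ca : Finset G := Kf.filter (fun k => k * a = a * k) with hCa
  set Cb : Finset G := Kf.filter (fun k => k * b = b * k) with hCb
  set Cab : Finset G := Kf.filter (fun k => k * (a * b) = (a * b) * k) with hCab
  have hKfc : Kf.card = Nat.card K := by
    rw [Nat.card_eq_fintype_card, Fintype.card_subtype]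
  have hmemK : ∀ x, x ∈ Kf ↔ x ∈ K := by
    intro x; rw [hKf, Finset.mem_filter]; simp
  have hCa_le : Ca.card ≤ c := by
    refine le_trans (dbw_card_filter_le (Subgroup.centralizer ({a} : Set G)) Ca ?_) hca
    intro x hx
    rw [hCa, Finset.mem_filter] at hx
    rw [Subgroup.mem_centralizer_iff]
    intro g hg
    rw [Set.mem_singleton_iff] at hg
    rw [hg]; exact hx.2.symm
  have hCb_le : Cb.card ≤ c := by
    refine le_trans (dbw_card_filter_le (Subgroup.centralizer ({b} : Set G)) Cb ?_) hcb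
    intro x hx
    rw [hCb, Finset.mem_filter] at hx
    rw [Subgroup.mem_centralizer_iff]
    intro g hg
    rw [Set.mem_singleton_iff] at hg
    rw [hg]; exact hx.2.symm
  have hCab_le : Cab.card ≤ c := by
    refine le_trans (dbw_card_filter_le (Subgroup.centralizer ({a * b} : Set G)) Cab ?_) hcab
    intro x hx
    rw [hCab, Finset.mem_filter] at hx
    rw [Subgroup.mem_centralizer_iff]
    intro g hg
    rw [Set.mem_singleton_iff] at hg
    rw [hg]; exact hx.2.symm
  have h1 : Kf.card ≤ Ca.card * (Kf.image (fun k => k⁻¹ * a * k * a)).card := by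
    apply Finset.card_le_mul_card_image
    intro v hv
    obtain ⟨k0, hk0, rfl⟩ := Finset.mem_image.mp hv
    apply Finset.card_le_card_of_injOn (fun k => k * k0⁻¹)
    · intro k hk
      have hk' := Finset.mem_filter.mp (Finset.mem_coe.mp hk)
      simp only [Finset.mem_coe]
      rw [hCa, Finset.mem_filter]
      refine ⟨(hmemK _).mpr (K.mul_mem ((hmemK _).mp hk'.1) (K.inv_mem ((hmemK _).mp hk0))), ?_⟩
      have h2 : k⁻¹ * a * k = k0⁻¹ * a * k0 := by
        have := hk'.2
        exact mul_right_cancel this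
      have h3 : a * k = k * (k0⁻¹ * a * k0) := by rw [← h2]; group
      calc k * k0⁻¹ * a = k * (k0⁻¹ * a * k0) * k0⁻¹ := by group
        _ = a * k * k0⁻¹ := by rw [← h3]
        _ = a * (k * k0⁻¹) := by group
    · intro k1 _ k2 _ h
      exact mul_right_cancel h
  have h2 : Kf.image (fun k => k⁻¹ * a * k * a) ⊆ I := by
    intro v hv
    obtain ⟨k, hk, rfl⟩ := Finset.mem_image.mp hv
    rw [hI, Finset.mem_filter]
    have hkK := (hmemK _).mp hk
    constructor
    · rw [hmemK]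
      have : k⁻¹ * a * k * a = k⁻¹ * (a * k * a⁻¹) := by rw [hai]; group
      rw [this]
      exact K.mul_mem (K.inv_mem hkK) (Subgroup.Normal.conj_mem inferInstance k hkK a)
    · rw [mul_inv_rev, mul_inv_rev, mul_inv_rev, inv_inv, hai]
      calc a * (k⁻¹ * a * k * a) * a = a * k⁻¹ * a * k * (a * a) := by group
        _ = a * (k⁻¹ * (a * k)) := by rw [ha]; group
  have h3 : I ⊆ (Cb ×ˢ Cab).image (fun p => a * (p.1 * p.2) * a * (p.1 * p.2)⁻¹) := by
    intro i hi
    rw [hI, Finset.mem_filter] at hi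
    obtain ⟨h, hhK, y, hyK, hhb, hyab, hiy⟩ := dbw_decomp K (Nat.card K) s hs hK a b ha hb hab i
      ((hmemK _).mp hi.1) hi.2
    rw [Finset.mem_image]
    refine ⟨(h, y), ?_, hiy.symm⟩
    rw [Finset.mem_product]
    constructor
    · rw [hCb, Finset.mem_filter]; exact ⟨(hmemK _).mpr hhK, hhb⟩
    · rw [hCab, Finset.mem_filter]; exact ⟨(hmemK _).mpr hyK, hyab⟩
  have h4 : I.card ≤ Cb.card * Cab.card := by
    calc I.card ≤ ((Cb ×ˢ Cab).image (fun p => a * (p.1 * p.2) * a * (p.1 * p.2)⁻¹)).card :=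
          Finset.card_le_card h3
      _ ≤ (Cb ×ˢ Cab).card := Finset.card_image_le
      _ = Cb.card * Cab.card := Finset.card_product _ _
  rw [← hKfc]
  calc Kf.card ≤ Ca.card * (Kf.image (fun k => k⁻¹ * a * k * a)).card := h1
    _ ≤ Ca.card * I.card := Nat.mul_le_mul_left _ (Finset.card_le_card h2)
    _ ≤ Ca.card * (Cb.card * Cab.card) := Nat.mul_le_mul_left _ h4
    _ ≤ c * (c * c) := Nat.mul_le_mul hCa_le (Nat.mul_le_mul hCb_le hCab_le)
    _ = c ^ 3 := by ring

end

end Cfsg.Agent.Lib.Helper24
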