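import Mathlib
import Cfsg.Agent.Lib.Helper25.CharOrth

set_option autoImplicit false
set_option linter.style.haveILetI false
set_option linter.unusedSectionVars false
set_option linter.unusedVariables false

namespace Cfsg.Agent.Lib.Helper24

section
variable {G : Type*} [Group G]

theorem dcc_arith (g m C c q S : ℕ) (hg : g = m * C) (hC : C ≤ c) (h2c : 2 * c ≤ g)
    (hq : q + m = m * m) (hS : 2 * c ^ 2 * q ≤ S) (hS2 : S ≤ (g - 1) * (g - 1)) (hg1 : 1 ≤ g) :
    False := by
  obtain ⟨g', rfl⟩ : ∃ g', g = g' + 1 := ⟨g - 1, by omega⟩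
  simp only [Nat.add_sub_cancel] at hS2
  have h1 : 2 * C * C * q + 2 * (g' + 1) * C = 2 * (g' + 1) * (g' + 1) := by
    have : 2 * C * C * q + 2 * (m * C) * C = 2 * C * C * (q + m) := by ring
    rw [hg, this, hq]; ring
  have h2 : 2 * C * C * q ≤ 2 * c ^ 2 * q := by
    have : C * C ≤ c ^ 2 := by rw [pow_two]; exact Nat.mul_le_mul hC hC
    calc 2 * C * C * q = 2 * (C * C) * q := by ring
      _ ≤ 2 * c ^ 2 * q := by
        apply Nat.mul_le_mul_right
        exact Nat.mul_le_mul_left _ this
  have h3 : 2 * (g' + 1) * C ≤ (g' + 1) * (g' + 1) := by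
    have : 2 * C ≤ g' + 1 := by omega
    calc 2 * (g' + 1) * C = (g' + 1) * (2 * C) := by ring
      _ ≤ (g' + 1) * (g' + 1) := Nat.mul_le_mul_left _ this
  have h4 : g' * g' < (g' + 1) * (g' + 1) := by nlinarith
  nlinarith

theorem dcc_exists_small_class [Finite G] (x : G) (hx : orderOf x = 2) (c : ℕ)
    (hc : Nat.card (Subgroup.centralizer ({x} : Set G)) ≤ c) (hG : 2 * c ≤ Nat.card G) :
    ∃ z : G, z ≠ 1 ∧ (Subgroup.centralizer ({z} : Set G)).index ≤ 2 * c ^ 2 := by
  classical
  haveI : Fintype G := Fintype.ofFinite G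
  by_contra hcon
  push Not at hcon
  have hxx : x * x = 1 := by
    have := pow_orderOf_eq_one x
    rw [hx, pow_two] at this
    exact this
  set X : Finset G := Finset.univ.filter (fun g => IsConj x g) with hX
  have hXc : X.card * Nat.card (Subgroup.centralizer ({x} : Set G)) = Nat.card G := by
    have h1 := Cfsg.Agent.Lib.Helper25.card_conj_mul_card_centralizer x
    have h2 : Nat.card {g : G // IsConj x g} = X.card := by
      rw [Nat.card_eq_fintype_card, Fintype.card_subtype]
    rw [← h2]; exact h1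
  have hXinv : ∀ u ∈ X, u * u = 1 := by
    intro u hu
    rw [hX, Finset.mem_filter] at hu
    obtain ⟨g, hg⟩ := isConj_iff.mp hu.2
    rw [← hg]
    calc g * x * g⁻¹ * (g * x * g⁻¹) = g * (x * x) * g⁻¹ := by group
      _ = 1 := by rw [hxx]; group
  have hXinv' : ∀ u ∈ X, u⁻¹ = u := fun u hu => inv_eq_of_mul_eq_one_left (hXinv u hu)
  set P : Finset (G × G) := X.offDiag with hP
  have hPc : P.card + X.card = X.card * X.card := by
    rw [hP, Finset.offDiag_card]
    exact Nat.sub_add_cancel (Nat.le_mul_self _)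
  set T : Finset G := Finset.univ.filter (fun z => z ≠ 1) with hT
  have hTc : T.card = Nat.card G - 1 := by
    rw [hT, Finset.filter_ne' Finset.univ (1 : G), Finset.card_erase_of_mem (Finset.mem_univ _),
      Finset.card_univ, Nat.card_eq_fintype_card]
  have hmap : ∀ p ∈ P, p.1 * p.2 ∈ T := by
    intro p hp
    rw [hP, Finset.mem_offDiag] at hp
    rw [hT, Finset.mem_filter]
    refine ⟨Finset.mem_univ _, ?_⟩
    intro h1
    apply hp.2.2
    have h2 : p.2 = p.1⁻¹ := by
      rw [eq_inv_iff_mul_eq_one, ]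
      have : p.2 * p.1 = p.1⁻¹ * (p.1 * p.2) * p.1 := by group
      rw [this, h1]; group
    rw [h2, hXinv' _ hp.1]
  have hsum := Finset.card_eq_sum_card_fiberwise (f := fun p : G × G => p.1 * p.2) hmap
  have hfib : ∀ z ∈ T, (P.filter (fun p => p.1 * p.2 = z)).card ≤
      Nat.card (Subgroup.centralizer ({z} : Set G)) := by
    intro z hz
    by_cases hemp : (P.filter (fun p => p.1 * p.2 = z)) = ∅
    · rw [hemp]; simp
    · obtain ⟨p0, hp0⟩ := Finset.nonempty_iff_ne_empty.mpr hemp
      rw [Finset.mem_filter, hP, Finset.mem_offDiag] at hp0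
      have hinvz : ∀ p : G × G, p.1 ∈ X → p.2 ∈ X → p.1 * p.2 = z → p.1 * z * p.1⁻¹ = z⁻¹ := by
        intro p h1 h2 h3
        rw [← h3, mul_inv_rev, hXinv' _ h1, hXinv' _ h2]
        calc p.1 * (p.1 * p.2) * p.1 = (p.1 * p.1) * p.2 * p.1 := by group
          _ = p.2 * p.1 := by rw [hXinv _ h1, one_mul]
      have h0 := hinvz p0 hp0.1.1 hp0.1.2.1 hp0.2
      have hle : (P.filter (fun p => p.1 * p.2 = z)).card ≤
          (Finset.univ.filter (fun g => g ∈ Subgroup.centralizer ({z} : Set G))).card := by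
        apply Finset.card_le_card_of_injOn (fun p => p0.1⁻¹ * p.1)
        · intro p hp
          have hp' := Finset.mem_filter.mp (Finset.mem_coe.mp hp)
          rw [hP, Finset.mem_offDiag] at hp'
          simp only [Finset.mem_coe, Finset.mem_filter, Finset.mem_univ, true_and]
          rw [Subgroup.mem_centralizer_iff]
          intro g hg
          rw [Set.mem_singleton_iff] at hg
          rw [hg]
          have h1 := hinvz p hp'.1.1 hp'.1.2.1 hp'.2
          have h2 : p.1 * z * p.1⁻¹ = p0.1 * z * p0.1⁻¹ := by rw [h1, h0]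
          have h3 : p0.1⁻¹ * p.1 * z = z * (p0.1⁻¹ * p.1) := by
            calc p0.1⁻¹ * p.1 * z = p0.1⁻¹ * (p.1 * z * p.1⁻¹) * p.1 := by group
              _ = p0.1⁻¹ * (p0.1 * z * p0.1⁻¹) * p.1 := by rw [h2]
              _ = z * (p0.1⁻¹ * p.1) := by group
          exact h3.symm
        · intro p hp q hq hpq
          have hp' := Finset.mem_filter.mp (Finset.mem_coe.mp hp)
          have hq' := Finset.mem_filter.mp (Finset.mem_coe.mp hq)
          have h1 : p.1 = q.1 := mul_left_cancel hpq
          have h2 : p.2 = q.2 := by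
            have := hp'.2.trans hq'.2.symm
            rw [h1] at this
            exact mul_left_cancel this
          exact Prod.ext h1 h2
      have hcard : (Finset.univ.filter (fun g => g ∈ Subgroup.centralizer ({z} : Set G))).card =
          Nat.card (Subgroup.centralizer ({z} : Set G)) := by
        rw [Nat.card_eq_fintype_card, Fintype.card_subtype]
      rw [← hcard]; exact hle
  have hbound : ∀ z ∈ T, 2 * c ^ 2 * (P.filter (fun p => p.1 * p.2 = z)).card ≤
      Nat.card G - 1 := by
    intro z hz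
    rw [hT, Finset.mem_filter] at hz
    have h1 := hcon z hz.2
    have h2 := Subgroup.card_mul_index (Subgroup.centralizer ({z} : Set G))
    have h3 : 0 < Nat.card (Subgroup.centralizer ({z} : Set G)) := Nat.card_pos
    have h4 : 2 * c ^ 2 * Nat.card (Subgroup.centralizer ({z} : Set G)) < Nat.card G := by
      rw [← h2, mul_comm (Nat.card _)]
      exact Nat.mul_lt_mul_of_pos_right h1 h3
    have h5 := hfib z (by rw [hT, Finset.mem_filter]; exact hz)
    have h6 : 2 * c ^ 2 * (P.filter (fun p => p.1 * p.2 = z)).card ≤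
        2 * c ^ 2 * Nat.card (Subgroup.centralizer ({z} : Set G)) := Nat.mul_le_mul_left _ h5
    omega
  have htotal : 2 * c ^ 2 * P.card ≤ (Nat.card G - 1) * (Nat.card G - 1) := by
    rw [hsum, Finset.mul_sum]
    calc ∑ z ∈ T, 2 * c ^ 2 * (P.filter (fun p => p.1 * p.2 = z)).card
        ≤ ∑ z ∈ T, (Nat.card G - 1) := Finset.sum_le_sum hbound
      _ = (Nat.card G - 1) * (Nat.card G - 1) := by
        rw [Finset.sum_const, hTc, smul_eq_mul]
  exact dcc_arith (Nat.card G) X.card (Nat.card (Subgroup.centralizer ({x} : Set G))) c P.card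
    (2 * c ^ 2 * P.card) hXc.symm hc hG hPc le_rfl htotal Nat.card_pos

end

end Cfsg.Agent.Lib.Helper24
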