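import Mathlib
import Cfsg.Agent.Lib.Helper25.CharOrth

set_option autoImplicit false
set_option linter.style.haveILetI false
set_option linter.unusedSectionVars false
set_option linter.unusedVariables false

namespace Cfsg.Agent.Lib.Helper24

section
variable {G : Type*} [Group G]

theorem dcq_class_card [Finite G] [Fintype G] [DecidableEq G] (x : G) :
    (Finset.univ.filter (fun g => IsConj x g)).card *
      Nat.card (Subgroup.centralizer ({x} : Set G)) = Nat.card G := by
  have h1 := Cfsg.Agent.Lib.Helper25.card_conj_mul_card_centralizer x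
  have h2 : Nat.card {g : G // IsConj x g} = (Finset.univ.filter (fun g => IsConj x g)).card := by
    rw [Nat.card_eq_fintype_card, Fintype.card_subtype]
  rw [← h2]; exact h1

theorem dcq_centralizer_quot_le [Finite G] (N : Subgroup G) [N.Normal] (x : G) :
    Nat.card (Subgroup.centralizer ({(x : G ⧸ N)} : Set (G ⧸ N))) ≤
      Nat.card (Subgroup.centralizer ({x} : Set G)) := by
  classical
  haveI : Fintype G := Fintype.ofFinite G
  haveI : Fintype (G ⧸ N) := Fintype.ofFinite _
  set X : Finset G := Finset.univ.filter (fun g => IsConj x g) with hX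
  set Y : Finset (G ⧸ N) := Finset.univ.filter (fun g => IsConj (x : G ⧸ N) g) with hY
  have h1 := dcq_class_card x
  have h2 := dcq_class_card (x : G ⧸ N)
  have h3 : Nat.card G = Nat.card (G ⧸ N) * Nat.card N :=
    Subgroup.card_eq_card_quotient_mul_card_subgroup N
  have h4 : X.card ≤ Nat.card N * (X.image (fun g : G => (QuotientGroup.mk g : G ⧸ N))).card := by
    apply Finset.card_le_mul_card_image
    intro v hv
    obtain ⟨g0, hg0, rfl⟩ := Finset.mem_image.mp hv
    have hle : (X.filter (fun g : G => (QuotientGroup.mk g : G ⧸ N) = (QuotientGroup.mk g0 : G ⧸ N))).card ≤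
        (Finset.univ.filter (fun g => g ∈ N)).card := by
      apply Finset.card_le_card_of_injOn (fun g => g0⁻¹ * g)
      · intro g hg
        have hg' := Finset.mem_filter.mp (Finset.mem_coe.mp hg)
        simp only [Finset.mem_coe, Finset.mem_filter, Finset.mem_univ, true_and]
        exact QuotientGroup.eq.mp hg'.2.symm
      · intro g1 _ g2 _ h
        exact mul_left_cancel h
    have hc : (Finset.univ.filter (fun g => g ∈ N)).card = Nat.card N := by
      rw [Nat.card_eq_fintype_card, Fintype.card_subtype]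
    rw [← hc]; exact hle
  have h5 : X.image (fun g : G => (QuotientGroup.mk g : G ⧸ N)) ⊆ Y := by
    intro v hv
    obtain ⟨g, hg, rfl⟩ := Finset.mem_image.mp hv
    rw [hX, Finset.mem_filter] at hg
    rw [hY, Finset.mem_filter]
    refine ⟨Finset.mem_univ _, ?_⟩
    obtain ⟨k, hk⟩ := isConj_iff.mp hg.2
    rw [isConj_iff]
    refine ⟨(k : G ⧸ N), ?_⟩
    rw [← hk]; rfl
  have h6 : X.card ≤ Nat.card N * Y.card :=
    le_trans h4 (Nat.mul_le_mul_left _ (Finset.card_le_card h5))
  have hYpos : 0 < Y.card := by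
    apply Finset.card_pos.mpr
    exact ⟨(x : G ⧸ N), by rw [hY, Finset.mem_filter]; exact ⟨Finset.mem_univ _, IsConj.refl _⟩⟩
  have hNpos : 0 < Nat.card N := Nat.card_pos
  set cq := Nat.card (Subgroup.centralizer ({(x : G ⧸ N)} : Set (G ⧸ N))) with hcq
  set cx := Nat.card (Subgroup.centralizer ({x} : Set G)) with hcx
  have h7 : (Nat.card N * Y.card) * cq ≤ (Nat.card N * Y.card) * cx := by
    calc (Nat.card N * Y.card) * cq = (Y.card * cq) * Nat.card N := by ring
      _ = Nat.card G := by rw [h2, ← h3]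
      _ = X.card * cx := h1.symm
      _ ≤ (Nat.card N * Y.card) * cx := Nat.mul_le_mul_right _ h6
  exact Nat.le_of_mul_le_mul_left h7 (Nat.mul_pos hNpos hYpos)

theorem dcq_orderOf_mk (N : Subgroup G) [N.Normal] (x : G) (hx : orderOf x = 2) (hxN : x ∉ N) :
    orderOf (x : G ⧸ N) = 2 := by
  haveI : Fact (Nat.Prime 2) := ⟨Nat.prime_two⟩
  apply orderOf_eq_prime
  · rw [← QuotientGroup.mk_pow, ← hx, pow_orderOf_eq_one]; rfl
  · intro h
    exact hxN ((QuotientGroup.eq_one_iff x).mp h)

theorem dcq_not_mem_of_odd [Finite G] (K : Subgroup G) (hK : Odd (Nat.card K)) (x : G)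
    (hx : orderOf x = 2) : x ∉ K := by
  intro h
  have h1 : orderOf (⟨x, h⟩ : K) ∣ Nat.card K := orderOf_dvd_natCard _
  have h2 : orderOf (⟨x, h⟩ : K) = orderOf x := by
    rw [← Subgroup.orderOf_coe]
  rw [h2, hx] at h1
  exact (Nat.not_even_iff_odd.mpr hK) (even_iff_two_dvd.mpr h1)

theorem dcq_sq_of_order_two (x : G) (hx : orderOf x = 2) : x * x = 1 := by
  have := pow_orderOf_eq_one x
  rw [hx, pow_two] at this
  exact this

theorem dcq_ne_one_of_order_two (x : G) (hx : orderOf x = 2) : x ≠ 1 := by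
  intro h
  rw [h, orderOf_one] at hx
  omega

theorem dcq_orderOf_mul (x y : G) (hx : orderOf x = 2) (hy : orderOf y = 2)
    (hxy : x * y = y * x) (hne : x ≠ y) : orderOf (x * y) = 2 := by
  haveI : Fact (Nat.Prime 2) := ⟨Nat.prime_two⟩
  have hxx := dcq_sq_of_order_two x hx
  have hyy := dcq_sq_of_order_two y hy
  apply orderOf_eq_prime
  · rw [pow_two]
    calc x * y * (x * y) = x * (y * x) * y := by group
      _ = x * (x * y) * y := by rw [hxy]
      _ = (x * x) * (y * y) := by group
      _ = 1 := by rw [hxx, hyy, one_mul]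
  · intro h
    apply hne
    have h1 : y = x⁻¹ := by
      rw [eq_inv_iff_mul_eq_one]
      rw [← hxy]; exact h
    rw [h1]
    exact (inv_eq_of_mul_eq_one_left hxx).symm

theorem dcq_index_normalCore_le [Finite G] (H : Subgroup G) :
    H.normalCore.index ≤ (H.index).factorial := by
  classical
  haveI : Fintype (G ⧸ H) := Fintype.ofFinite _
  rw [Subgroup.normalCore_eq_ker, Subgroup.index_ker]
  have h1 : Nat.card ((MulAction.toPermHom G (G ⧸ H)).range) ≤ Nat.card (Equiv.Perm (G ⧸ H)) :=
    Nat.card_le_card_of_injective _ (Subgroup.subtype_injective _)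
  have h2 : Nat.card (Equiv.Perm (G ⧸ H)) = (H.index).factorial := by
    rw [Nat.card_eq_fintype_card, Fintype.card_perm, Subgroup.index, Nat.card_eq_fintype_card]
  rw [← h2]; exact h1

theorem dcq_card_le_index_of_disjoint [Finite G] (H N : Subgroup G) [N.Normal]
    (h : H ⊓ N = ⊥) : Nat.card H ≤ N.index := by
  rw [Subgroup.index]
  apply Nat.card_le_card_of_injective (fun k : H => ((k : G) : G ⧸ N))
  intro k1 k2 hk
  have h1 : (k1 : G)⁻¹ * (k2 : G) ∈ N := QuotientGroup.eq.mp hk
  have h2 : (k1 : G)⁻¹ * (k2 : G) ∈ H := H.mul_mem (H.inv_mem k1.2) k2.2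
  have h3 : (k1 : G)⁻¹ * (k2 : G) ∈ H ⊓ N := ⟨h2, h1⟩
  rw [h, Subgroup.mem_bot] at h3
  apply Subtype.ext
  exact inv_mul_eq_one.mp h3

theorem dcq_card_le_of_mem_normal [Finite G] (M : Subgroup G) [M.Normal] (v : G) (hv : v ∈ M) :
    Nat.card G ≤ Nat.card M * Nat.card (Subgroup.centralizer ({v} : Set G)) := by
  classical
  haveI : Fintype G := Fintype.ofFinite G
  rw [← dcq_class_card v]
  apply Nat.mul_le_mul_right
  have h1 : (Finset.univ.filter (fun g => IsConj v g)) ⊆ Finset.univ.filter (fun g => g ∈ M) := by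
    intro g hg
    rw [Finset.mem_filter] at hg ⊢
    refine ⟨Finset.mem_univ _, ?_⟩
    obtain ⟨k, hk⟩ := isConj_iff.mp hg.2
    rw [← hk]
    exact Subgroup.Normal.conj_mem inferInstance v hv k
  have h2 : (Finset.univ.filter (fun g => g ∈ M)).card = Nat.card M := by
    rw [Nat.card_eq_fintype_card, Fintype.card_subtype]
  rw [← h2]
  exact Finset.card_le_card h1

theorem dcq_exists_max_odd [Finite G] :
    ∃ K : Subgroup G, K.Normal ∧ Odd (Nat.card K) ∧
      ∀ L : Subgroup G, L.Normal → Odd (Nat.card L) → K ≤ L → L = K := by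
  have hfin : ({K : Subgroup G | K.Normal ∧ Odd (Nat.card K)} : Set (Subgroup G)).Finite :=
    Set.toFinite _
  have hne : ({K : Subgroup G | K.Normal ∧ Odd (Nat.card K)} : Set (Subgroup G)).Nonempty := by
    refine ⟨⊥, ?_, ?_⟩
    · infer_instance
    · rw [Subgroup.card_bot]; exact odd_one
  obtain ⟨K, hK⟩ := hfin.exists_maximal hne
  refine ⟨K, hK.1.1, hK.1.2, ?_⟩
  intro L hL1 hL2 hKL
  exact le_antisymm (hK.2 ⟨hL1, hL2⟩ hKL) hKL

theorem dcq_card_comap_mk [Finite G] (K : Subgroup G) [K.Normal] (L : Subgroup (G ⧸ K)) :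
    Nat.card (L.comap (QuotientGroup.mk' K)) = Nat.card K * Nat.card L := by
  have h1 := Subgroup.index_comap_of_surjective L (QuotientGroup.mk'_surjective K)
  have h2 := Subgroup.card_mul_index (L.comap (QuotientGroup.mk' K))
  have h3 := Subgroup.card_mul_index L
  have h4 : Nat.card G = Nat.card (G ⧸ K) * Nat.card K :=
    Subgroup.card_eq_card_quotient_mul_card_subgroup K
  rw [h1] at h2
  have hpos : 0 < L.index := Nat.pos_of_ne_zero Subgroup.index_ne_zero_of_finite
  have h5 : Nat.card (L.comap (QuotientGroup.mk' K)) * L.index =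
      (Nat.card K * Nat.card L) * L.index := by
    rw [h2, h4, ← h3]; ring
  exact Nat.eq_of_mul_eq_mul_right hpos h5

theorem dcq_quot_no_odd [Finite G] (K : Subgroup G) [K.Normal] (hK : Odd (Nat.card K))
    (hmax : ∀ L : Subgroup G, L.Normal → Odd (Nat.card L) → K ≤ L → L = K)
    (L : Subgroup (G ⧸ K)) (hL : L.Normal) (hodd : Odd (Nat.card L)) : L = ⊥ := by
  have h1 : (L.comap (QuotientGroup.mk' K)).Normal := Subgroup.Normal.comap hL _
  have h2 : Odd (Nat.card (L.comap (QuotientGroup.mk' K))) := by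
    rw [dcq_card_comap_mk]; exact hK.mul hodd
  have h3 : K ≤ L.comap (QuotientGroup.mk' K) := by
    intro k hk
    rw [Subgroup.mem_comap]
    have : QuotientGroup.mk' K k = 1 := (QuotientGroup.eq_one_iff k).mpr hk
    rw [this]; exact L.one_mem
  have h4 := hmax _ h1 h2 h3
  rw [Subgroup.eq_bot_iff_forall]
  intro v hv
  obtain ⟨g, rfl⟩ := QuotientGroup.mk'_surjective K v
  have h5 : g ∈ L.comap (QuotientGroup.mk' K) := hv
  rw [h4] at h5
  exact (QuotientGroup.eq_one_iff g).mpr h5

theorem dcq_abelian_normal_two_group [Finite G] (M : Subgroup G) [M.Normal]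
    (hcomm : ∀ x ∈ M, ∀ y ∈ M, x * y = y * x)
    (H1 : ∀ L : Subgroup G, L.Normal → Odd (Nat.card L) → L = ⊥) :
    Nat.card M ≤ 2 ^ (Nat.card G).factorization 2 := by
  haveI : Fact (Nat.Prime 2) := ⟨Nat.prime_two⟩
  have hMpos : Nat.card M ≠ 0 := Nat.card_pos.ne'
  obtain ⟨e, m', hm'odd, hm⟩ := Nat.exists_eq_two_pow_mul_odd hMpos
  let Q : Subgroup G :=
    { carrier := {g | g ∈ M ∧ g ^ m' = 1}
      one_mem' := ⟨M.one_mem, one_pow _⟩
      mul_mem' := by
        intro x y hx hy
        refine ⟨M.mul_mem hx.1 hy.1, ?_⟩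
        have hc : Commute x y := hcomm x hx.1 y hy.1
        rw [hc.mul_pow, hx.2, hy.2, one_mul]
      inv_mem' := by
        intro x hx
        exact ⟨M.inv_mem hx.1, by rw [inv_pow, hx.2, inv_one]⟩ }
  have hQmem : ∀ g, g ∈ Q ↔ g ∈ M ∧ g ^ m' = 1 := fun g => Iff.rfl
  have hQn : Q.Normal := by
    constructor
    intro n hn g
    rw [hQmem] at hn ⊢
    refine ⟨Subgroup.Normal.conj_mem inferInstance n hn.1 g, ?_⟩
    rw [conj_pow, hn.2]; group
  have hQodd : Odd (Nat.card Q) := by
    rw [← Nat.not_even_iff_odd]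
    intro hev
    obtain ⟨q, hq⟩ := exists_prime_orderOf_dvd_card' (G := Q) 2 hev.two_dvd
    have h1 : ((q : G)) ^ m' = 1 := ((hQmem _).mp q.2).2
    have h2 : orderOf (q : G) = 2 := by rw [Subgroup.orderOf_coe]; exact hq
    have h3 : 2 ∣ m' := by rw [← h2]; exact orderOf_dvd_of_pow_eq_one h1
    exact (Nat.not_even_iff_odd.mpr hm'odd) (even_iff_two_dvd.mpr h3)
  have hQbot := H1 Q hQn hQodd
  have hm'1 : m' = 1 := by
    by_contra hne
    obtain ⟨r, hr, hrm⟩ := Nat.exists_prime_and_dvd hne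
    haveI : Fact r.Prime := ⟨hr⟩
    have hrM : r ∣ Nat.card M := by rw [hm]; exact Dvd.dvd.mul_left hrm _
    obtain ⟨g, hg⟩ := exists_prime_orderOf_dvd_card' (G := M) r hrM
    have h1 : orderOf (g : G) = r := by rw [Subgroup.orderOf_coe]; exact hg
    have h2 : (g : G) ^ m' = 1 := by
      rw [← h1] at hrm
      exact orderOf_dvd_iff_pow_eq_one.mp hrm
    have h3 : (g : G) ∈ Q := (hQmem _).mpr ⟨g.2, h2⟩
    rw [hQbot, Subgroup.mem_bot] at h3
    rw [h3, orderOf_one] at h1
    exact hr.one_lt.ne' h1.symm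
  rw [hm'1, mul_one] at hm
  have hdvd : 2 ^ e ∣ Nat.card G := by
    rw [← hm]; exact Subgroup.card_subgroup_dvd_card M
  have hle : e ≤ (Nat.card G).factorization 2 :=
    (Nat.Prime.pow_dvd_iff_le_factorization Nat.prime_two Nat.card_pos.ne').mp hdvd
  rw [hm]
  exact Nat.pow_le_pow_right (by norm_num) hle

theorem dcq_fact_quot_even [Finite G] (M : Subgroup G) [M.Normal] (h2 : 2 ∣ Nat.card M) :
    (Nat.card (G ⧸ M)).factorization 2 + 1 ≤ (Nat.card G).factorization 2 := by
  have h1 : Nat.card G = Nat.card (G ⧸ M) * Nat.card M :=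
    Subgroup.card_eq_card_quotient_mul_card_subgroup M
  rw [h1, Nat.factorization_mul Nat.card_pos.ne' Nat.card_pos.ne']
  have h3 : 0 < (Nat.card M).factorization 2 :=
    Nat.Prime.factorization_pos_of_dvd Nat.prime_two Nat.card_pos.ne' h2
  simp only [Finsupp.coe_add, Pi.add_apply]
  omega

theorem dcq_fact_quot_odd [Finite G] (K : Subgroup G) [K.Normal] (hK : Odd (Nat.card K)) :
    (Nat.card (G ⧸ K)).factorization 2 = (Nat.card G).factorization 2 := by
  have h1 : Nat.card G = Nat.card (G ⧸ K) * Nat.card K :=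
    Subgroup.card_eq_card_quotient_mul_card_subgroup K
  rw [h1, Nat.factorization_mul Nat.card_pos.ne' Nat.card_pos.ne']
  have h3 : (Nat.card K).factorization 2 = 0 := by
    apply Nat.factorization_eq_zero_of_not_dvd
    intro h
    exact (Nat.not_even_iff_odd.mpr hK) (even_iff_two_dvd.mpr h)
  simp only [Finsupp.coe_add, Pi.add_apply]
  omega

end

end Cfsg.Agent.Lib.Helper24
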