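import Mathlib
import Cfsg.Agent.Lib.Helper24.DefClassBW
import Cfsg.Agent.Lib.Helper24.DefClassCount
import Cfsg.Agent.Lib.Helper24.DefClassQuot

set_option autoImplicit false
set_option linter.style.haveILetI false
set_option linter.unusedSectionVars false
set_option linter.unusedVariables false

open Nat in
theorem Cfsg.Agent.Lib.Helper24.dcm_exists_M {G : Type*} [Group G] [Finite G]
    (H1 : ∀ L : Subgroup G, L.Normal → Odd (Nat.card L) → L = ⊥)
    (x : G) (hx : orderOf x = 2) (c a : ℕ)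
    (hc : Nat.card (Subgroup.centralizer ({x} : Set G)) ≤ c) (hG : 2 * c ≤ Nat.card G)
    (hfac : (Nat.card G).factorization 2 ≤ a) :
    ∃ M : Subgroup G, M.Normal ∧ M ≠ ⊥ ∧ Nat.card M ≤ max ((2 * c ^ 2)!) (2 ^ a) := by
  obtain ⟨z, hz1, hzidx⟩ := Cfsg.Agent.Lib.Helper24.dcc_exists_small_class x hx c hc hG
  set N : Subgroup G := (Subgroup.centralizer ({z} : Set G)).normalCore with hN
  have hNidx : N.index ≤ (2 * c ^ 2)! :=
    le_trans (Cfsg.Agent.Lib.Helper24.dcq_index_normalCore_le _) (Nat.factorial_le hzidx)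
  set Z : Subgroup G := Subgroup.normalClosure ({z} : Set G) with hZ
  have hzZ : z ∈ Z := Subgroup.subset_normalClosure (Set.mem_singleton z)
  have hZne : Z ≠ ⊥ := by
    intro h
    rw [h, Subgroup.mem_bot] at hzZ
    exact hz1 hzZ
  have hcent : ∀ n ∈ N, ∀ w ∈ Z, n * w = w * n := by
    intro n hn
    let C : Subgroup G :=
      { carrier := {w | ∀ g : G, (g * n * g⁻¹) * w = w * (g * n * g⁻¹)}
        one_mem' := by intro g; simp
        mul_mem' := by
          intro u v hu hv g
          calc g * n * g⁻¹ * (u * v) = (g * n * g⁻¹ * u) * v := by group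
            _ = u * (g * n * g⁻¹ * v) := by rw [hu g]; group
            _ = u * v * (g * n * g⁻¹) := by rw [hv g]; group
        inv_mem' := by
          intro u hu g
          calc g * n * g⁻¹ * u⁻¹ = u⁻¹ * (u * (g * n * g⁻¹)) * u⁻¹ := by group
            _ = u⁻¹ * (g * n * g⁻¹ * u) * u⁻¹ := by rw [hu g]
            _ = u⁻¹ * (g * n * g⁻¹) := by group }
    have hCn : C.Normal := by
      constructor
      intro w hw k g
      have h1 := hw (k⁻¹ * g)
      show g * n * g⁻¹ * (k * w * k⁻¹) = k * w * k⁻¹ * (g * n * g⁻¹)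
      calc g * n * g⁻¹ * (k * w * k⁻¹) = k * ((k⁻¹ * g) * n * (k⁻¹ * g)⁻¹ * w) * k⁻¹ := by group
        _ = k * (w * ((k⁻¹ * g) * n * (k⁻¹ * g)⁻¹)) * k⁻¹ := by rw [h1]
        _ = k * w * k⁻¹ * (g * n * g⁻¹) := by group
    have hzC : ({z} : Set G) ⊆ C := by
      intro w hw
      rw [Set.mem_singleton_iff] at hw
      rw [hw]
      intro g
      have h1 : g * n * g⁻¹ ∈ N := Subgroup.Normal.conj_mem inferInstance n hn g
      have h2 : g * n * g⁻¹ ∈ Subgroup.centralizer ({z} : Set G) :=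
        Subgroup.normalCore_le _ h1
      rw [Subgroup.mem_centralizer_iff] at h2
      exact (h2 z (Set.mem_singleton z)).symm
    have hZC : Z ≤ C := Subgroup.normalClosure_le_normal hzC
    intro w hw
    have := hZC hw 1
    simpa using this
  by_cases hZN : Z ⊓ N = ⊥
  · refine ⟨Z, inferInstance, hZne, ?_⟩
    exact le_trans (le_trans (Cfsg.Agent.Lib.Helper24.dcq_card_le_index_of_disjoint Z N hZN) hNidx)
      (le_max_left _ _)
  · refine ⟨Z ⊓ N, inferInstance, hZN, ?_⟩
    have hcomm : ∀ u ∈ Z ⊓ N, ∀ v ∈ Z ⊓ N, u * v = v * u := by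
      intro u hu v hv
      exact hcent u hu.2 v hv.1
    have h1 := Cfsg.Agent.Lib.Helper24.dcq_abelian_normal_two_group (Z ⊓ N) hcomm H1
    exact le_trans (le_trans h1 (Nat.pow_le_pow_right (by norm_num) hfac)) (le_max_right _ _)

universe u

open Nat in
theorem Cfsg.Agent.Lib.Helper24.dcm_step (a c Nprev : ℕ)
    (IH : ∀ (H : Type u) [Group H] [Finite H] (x y : H), orderOf x = 2 → orderOf y = 2 →
      x * y = y * x → x ≠ y →
      Nat.card (Subgroup.centralizer ({x} : Set H)) ≤ c →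
      Nat.card (Subgroup.centralizer ({y} : Set H)) ≤ c →
      Nat.card (Subgroup.centralizer ({x * y} : Set H)) ≤ c →
      (Nat.card H).factorization 2 ≤ a → Nat.card H ≤ Nprev)
    (G : Type u) [Group G] [Finite G]
    (H1 : ∀ L : Subgroup G, L.Normal → Odd (Nat.card L) → L = ⊥)
    (x y : G) (hx : orderOf x = 2) (hy : orderOf y = 2) (hxy : x * y = y * x) (hne : x ≠ y)
    (hcx : Nat.card (Subgroup.centralizer ({x} : Set G)) ≤ c)
    (hcy : Nat.card (Subgroup.centralizer ({y} : Set G)) ≤ c)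
    (hcxy : Nat.card (Subgroup.centralizer ({x * y} : Set G)) ≤ c)
    (hfac : (Nat.card G).factorization 2 ≤ a + 1) :
    Nat.card G ≤ max (2 * c) (max ((2 * c ^ 2)!) (2 ^ (a + 1)) * max c Nprev) := by
  by_cases hsmall : Nat.card G < 2 * c
  · exact le_trans hsmall.le (le_max_left _ _)
  · push Not at hsmall
    refine le_trans ?_ (le_max_right _ _)
    obtain ⟨M, hMn, hMne, hMc⟩ :=
      Cfsg.Agent.Lib.Helper24.dcm_exists_M H1 x hx c (a + 1) hcx hsmall hfac
    haveI := hMn
    have hMeven : 2 ∣ Nat.card M := by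
      by_contra h
      apply hMne
      apply H1 M hMn
      rw [← Nat.not_even_iff_odd]
      intro hev
      exact h hev.two_dvd
    have hdirect : ∀ v : G, v ∈ M → Nat.card (Subgroup.centralizer ({v} : Set G)) ≤ c →
        Nat.card G ≤ max ((2 * c ^ 2)!) (2 ^ (a + 1)) * max c Nprev := by
      intro v hv hcv
      exact le_trans (Cfsg.Agent.Lib.Helper24.dcq_card_le_of_mem_normal M v hv)
        (Nat.mul_le_mul hMc (le_trans hcv (le_max_left _ _)))
    by_cases hxM : x ∈ M
    · exact hdirect x hxM hcx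
    by_cases hyM : y ∈ M
    · exact hdirect y hyM hcy
    by_cases hxyM : x * y ∈ M
    · exact hdirect (x * y) hxyM hcxy
    have hxx := Cfsg.Agent.Lib.Helper24.dcq_sq_of_order_two x hx
    have hq := IH (G ⧸ M) (x : G ⧸ M) (y : G ⧸ M)
      (Cfsg.Agent.Lib.Helper24.dcq_orderOf_mk M x hx hxM)
      (Cfsg.Agent.Lib.Helper24.dcq_orderOf_mk M y hy hyM)
      (by rw [← QuotientGroup.mk_mul, ← QuotientGroup.mk_mul, hxy])
      (by
        intro h
        apply hxyM
        have h1 : x⁻¹ * y ∈ M := QuotientGroup.eq.mp h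
        rw [inv_eq_of_mul_eq_one_left hxx] at h1
        exact h1)
      (le_trans (Cfsg.Agent.Lib.Helper24.dcq_centralizer_quot_le M x) hcx)
      (le_trans (Cfsg.Agent.Lib.Helper24.dcq_centralizer_quot_le M y) hcy)
      (by
        rw [← QuotientGroup.mk_mul]
        exact le_trans (Cfsg.Agent.Lib.Helper24.dcq_centralizer_quot_le M (x * y)) hcxy)
      (by
        have := Cfsg.Agent.Lib.Helper24.dcq_fact_quot_even M hMeven
        omega)
    have h1 : Nat.card G = Nat.card (G ⧸ M) * Nat.card M :=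
      Subgroup.card_eq_card_quotient_mul_card_subgroup M
    rw [h1, mul_comm]
    exact Nat.mul_le_mul hMc (le_trans hq (le_max_right _ _))

theorem Cfsg.Agent.Lib.Helper24.dcm_main (a c : ℕ) :
    ∃ N : ℕ, ∀ (G : Type u) [Group G] [Finite G] (x y : G), orderOf x = 2 → orderOf y = 2 →
      x * y = y * x → x ≠ y →
      Nat.card (Subgroup.centralizer ({x} : Set G)) ≤ c →
      Nat.card (Subgroup.centralizer ({y} : Set G)) ≤ c →
      Nat.card (Subgroup.centralizer ({x * y} : Set G)) ≤ c →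
      (Nat.card G).factorization 2 ≤ a → Nat.card G ≤ N := by
  induction a with
  | zero =>
    refine ⟨0, ?_⟩
    intro G _ _ x y hx _ _ _ _ _ _ hfac
    exfalso
    have h1 : 2 ∣ Nat.card G := by rw [← hx]; exact orderOf_dvd_natCard x
    have h2 : 0 < (Nat.card G).factorization 2 :=
      Nat.Prime.factorization_pos_of_dvd Nat.prime_two Nat.card_pos.ne' h1
    omega
  | succ a ih =>
    obtain ⟨Nprev, hNprev⟩ := ih
    refine ⟨c ^ 3 * max (2 * c) (max (Nat.factorial (2 * c ^ 2)) (2 ^ (a + 1)) * max c Nprev), ?_⟩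
    intro G _ _ x y hx hy hxy hne hcx hcy hcxy hfac
    obtain ⟨K, hKn, hKodd, hKmax⟩ := Cfsg.Agent.Lib.Helper24.dcq_exists_max_odd (G := G)
    haveI := hKn
    have hxx := Cfsg.Agent.Lib.Helper24.dcq_sq_of_order_two x hx
    have hyy := Cfsg.Agent.Lib.Helper24.dcq_sq_of_order_two y hy
    have hKc : Nat.card K ≤ c ^ 3 :=
      Cfsg.Agent.Lib.Helper24.dbw_card K hKodd x y hxx hyy hxy c hcx hcy hcxy
    have hxK := Cfsg.Agent.Lib.Helper24.dcq_not_mem_of_odd K hKodd x hx
    have hyK := Cfsg.Agent.Lib.Helper24.dcq_not_mem_of_odd K hKodd y hy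
    have hxyK := Cfsg.Agent.Lib.Helper24.dcq_not_mem_of_odd K hKodd (x * y)
      (Cfsg.Agent.Lib.Helper24.dcq_orderOf_mul x y hx hy hxy hne)
    have hq := Cfsg.Agent.Lib.Helper24.dcm_step a c Nprev hNprev (G ⧸ K)
      (fun L hL hodd => Cfsg.Agent.Lib.Helper24.dcq_quot_no_odd K hKodd hKmax L hL hodd)
      (x : G ⧸ K) (y : G ⧸ K)
      (Cfsg.Agent.Lib.Helper24.dcq_orderOf_mk K x hx hxK)
      (Cfsg.Agent.Lib.Helper24.dcq_orderOf_mk K y hy hyK)
      (by rw [← QuotientGroup.mk_mul, ← QuotientGroup.mk_mul, hxy])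
      (by
        intro h
        apply hxyK
        have h1 : x⁻¹ * y ∈ K := QuotientGroup.eq.mp h
        rw [inv_eq_of_mul_eq_one_left hxx] at h1
        exact h1)
      (le_trans (Cfsg.Agent.Lib.Helper24.dcq_centralizer_quot_le K x) hcx)
      (le_trans (Cfsg.Agent.Lib.Helper24.dcq_centralizer_quot_le K y) hcy)
      (by
        rw [← QuotientGroup.mk_mul]
        exact le_trans (Cfsg.Agent.Lib.Helper24.dcq_centralizer_quot_le K (x * y)) hcxy)
      (by rw [Cfsg.Agent.Lib.Helper24.dcq_fact_quot_odd K hKodd]; exact hfac)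
    have h1 : Nat.card G = Nat.card (G ⧸ K) * Nat.card K :=
      Subgroup.card_eq_card_quotient_mul_card_subgroup K
    rw [h1, mul_comm]
    exact Nat.mul_le_mul hKc hq
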