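import Mathlib
import Cfsg.Agent.Lib.Helper25.CharOrth

set_option autoImplicit false
set_option linter.style.haveILetI false
set_option linter.unusedSectionVars false
set_option linter.unusedVariables false

namespace Cfsg.Agent.Lib.Helper24

theorem ld_egypt : ∀ (k : ℕ) (c : ℚ), 0 < c → ∃ N : ℕ, ∀ (n : Fin k → ℕ), (∀ i, 0 < n i) →
    ∑ i, (1 : ℚ) / (n i) = c → ∀ i, n i ≤ N := by
  intro k
  induction k with
  | zero =>
    intro c _
    exact ⟨0, fun n _ _ i => i.elim0⟩
  | succ k ih =>
    intro c hc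
    obtain ⟨A, hA⟩ : ∃ A : ℕ, A = ⌈((k : ℚ) + 1) / c⌉₊ := ⟨_, rfl⟩
    have hex : ∀ m : ℕ, ∃ Nm : ℕ, 0 < c - 1 / (m : ℚ) → ∀ (n : Fin k → ℕ), (∀ i, 0 < n i) →
        ∑ i, (1 : ℚ) / (n i) = c - 1 / (m : ℚ) → ∀ i, n i ≤ Nm := by
      intro m
      by_cases h : 0 < c - 1 / (m : ℚ)
      · obtain ⟨Nm, hNm⟩ := ih _ h
        exact ⟨Nm, fun _ => hNm⟩
      · exact ⟨0, fun h' => absurd h' h⟩
    choose Nf hNf using hex
    refine ⟨A + ∑ m ∈ Finset.range (A + 1), Nf m, ?_⟩
    intro n hn hsum i
    obtain ⟨j, -, hj⟩ := Finset.exists_min_image Finset.univ n ⟨0, Finset.mem_univ _⟩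
    have hnj : (0 : ℚ) < (n j : ℚ) := by exact_mod_cast hn j
    have hjA : n j ≤ A := by
      have h1 : c ≤ ((k : ℚ) + 1) / (n j) := by
        rw [← hsum]
        calc ∑ i, (1 : ℚ) / (n i) ≤ ∑ i : Fin (k + 1), (1 : ℚ) / (n j) := by
              apply Finset.sum_le_sum
              intro i _
              apply one_div_le_one_div_of_le hnj
              exact_mod_cast hj i (Finset.mem_univ _)
          _ = ((k : ℚ) + 1) / (n j) := by
              rw [Finset.sum_const, Finset.card_univ, Fintype.card_fin, nsmul_eq_mul]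
              push_cast
              ring
      have h2 : (n j : ℚ) ≤ ((k : ℚ) + 1) / c := by
        rw [le_div_iff₀ hc]
        rw [le_div_iff₀ hnj] at h1
        linarith
      rw [hA]
      have h3 := h2.trans (Nat.le_ceil _)
      exact_mod_cast h3
    by_cases hij : i = j
    · rw [hij]
      omega
    · obtain ⟨i', rfl⟩ := Fin.exists_succAbove_eq hij
      have hrest : ∑ i', (1 : ℚ) / (n (j.succAbove i')) = c - 1 / (n j : ℚ) := by
        rw [Fin.sum_univ_succAbove _ j] at hsum
        linarith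
      have hpos : 0 < c - 1 / (n j : ℚ) := by
        rw [← hrest]
        apply Finset.sum_pos
        · intro i' _
          have : (0 : ℚ) < (n (j.succAbove i') : ℚ) := by exact_mod_cast hn _
          positivity
        · exact ⟨i', Finset.mem_univ _⟩
      have h4 := hNf (n j) hpos (fun i' => n (j.succAbove i')) (fun _ => hn _) hrest i'
      have h5 : Nf (n j) ≤ ∑ m ∈ Finset.range (A + 1), Nf m :=
        Finset.single_le_sum (f := Nf) (fun _ _ => Nat.zero_le _)
          (Finset.mem_range.mpr (by omega))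
      omega

theorem ld_class_sum {G : Type*} [Group G] [Finite G] [Fintype (ConjClasses G)] :
    ∑ C : ConjClasses G,
      (1 : ℚ) / (Nat.card (Subgroup.centralizer ({Quotient.out C} : Set G))) = 1 := by
  classical
  have h1 := Group.sum_card_conj_classes_eq_card G
  rw [finsum_eq_sum_of_fintype] at h1
  have hG : (0 : ℚ) < (Nat.card G : ℚ) := by exact_mod_cast Nat.card_pos
  have h2 : ∀ C : ConjClasses G,
      (1 : ℚ) / (Nat.card (Subgroup.centralizer ({Quotient.out C} : Set G))) =
        (C.carrier.ncard : ℚ) / (Nat.card G) := by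
    intro C
    have h3 := Cfsg.Agent.Lib.Helper25.card_conj_mul_card_centralizer (Quotient.out C)
    have h4 : Nat.card {x : G // IsConj (Quotient.out C) x} = C.carrier.ncard := by
      rw [← Nat.card_coe_set_eq]
      apply Nat.card_congr
      apply Equiv.subtypeEquivRight
      intro x
      rw [ConjClasses.mem_carrier_iff_mk_eq]
      constructor
      · intro h
        rw [← ConjClasses.mk_eq_mk_iff_isConj.mpr h]
        exact Quotient.out_eq C
      · intro h
        apply ConjClasses.mk_eq_mk_iff_isConj.mp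
        rw [h]
        exact Quotient.out_eq C
    rw [h4] at h3
    have hc : (0 : ℚ) < (Nat.card (Subgroup.centralizer ({Quotient.out C} : Set G)) : ℚ) := by
      exact_mod_cast Nat.card_pos
    rw [div_eq_div_iff hc.ne' hG.ne', one_mul]
    exact_mod_cast h3.symm
  rw [Finset.sum_congr rfl (fun C _ => h2 C), ← Finset.sum_div, div_eq_one_iff_eq hG.ne']
  exact_mod_cast h1

theorem ld_landau.{u} (K : ℕ) : ∃ N : ℕ, ∀ (G : Type u) [Group G] [Finite G],
    Nat.card (ConjClasses G) ≤ K → Nat.card G ≤ N := by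
  have hex : ∀ k : ℕ, ∃ N : ℕ, ∀ (n : Fin k → ℕ), (∀ i, 0 < n i) →
      ∑ i, (1 : ℚ) / (n i) = 1 → ∀ i, n i ≤ N := fun k => ld_egypt k 1 one_pos
  choose Nf hNf using hex
  refine ⟨∑ k ∈ Finset.range (K + 1), Nf k, ?_⟩
  intro G _ _ hK
  classical
  haveI : Fintype (ConjClasses G) := Fintype.ofFinite _
  set k := Nat.card (ConjClasses G) with hk
  have e : ConjClasses G ≃ Fin k := Finite.equivFin _
  have hsum : ∑ i : Fin k, (1 : ℚ) /
      ((fun i => Nat.card (Subgroup.centralizer ({Quotient.out (e.symm i)} : Set G))) i) = 1 := by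
    refine Eq.trans ?_ (ld_class_sum (G := G))
    exact (Fintype.sum_equiv e _ _ (fun C => by simp)).symm
  have h1 := hNf k _ (fun i => Nat.card_pos) hsum (e (ConjClasses.mk 1))
  simp only [Equiv.symm_apply_apply] at h1
  have hout : Quotient.out (ConjClasses.mk (1 : G)) = 1 :=
    isConj_one_left.mp (ConjClasses.mk_eq_mk_iff_isConj.mp (Quotient.out_eq (ConjClasses.mk 1)))
  have htop : Subgroup.centralizer ({1} : Set G) = ⊤ := by
    ext x
    simp [Subgroup.mem_centralizer_singleton_iff]
  rw [hout, htop, Subgroup.card_top] at h1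
  have h5 : Nf k ≤ ∑ k ∈ Finset.range (K + 1), Nf k :=
    Finset.single_le_sum (f := Nf) (fun _ _ => Nat.zero_le _)
      (Finset.mem_range.mpr (by omega))
  omega

end Cfsg.Agent.Lib.Helper24
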