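import Mathlib
import Cfsg.Prelude.Def_Blocks
import Cfsg.Agent.Lib.Helper24.DefClassMain
import Cfsg.Agent.Lib.Helper26.DeficiencyClass
import Cfsg.Agent.Lib.Helper26.MuraiExt
import Cfsg.Agent.Lib.helper7.BlockEval
import Cfsg.Agent.S4718

set_option autoImplicit false
set_option linter.style.haveILetI false
set_option linter.unusedSectionVars false
set_option linter.unusedVariables false

universe u

theorem Cfsg.Agent.Lib.Helper24.dcb_single (a : ℕ) :
    ∃ N : ℕ, ∀ (G : Type u) [Group G] [Finite G] (M : Ideal Cfsg.AlgInt),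
      Cfsg.IsPModular 2 M → (Nat.card G).factorization 2 ≤ a →
      (∀ B : Set (Cfsg.IrrCharacter G), Cfsg.IsPBlock M B → B = Cfsg.principalBlock M G) →
      Nat.card G ≤ N := by
  haveI : Fact (Nat.Prime 2) := ⟨Nat.prime_two⟩
  induction a with
  | zero =>
    obtain ⟨N, hN⟩ := Cfsg.Agent.S4718.result.{u} 2 0
    refine ⟨N, ?_⟩
    intro G _ _ M hM hfac hB
    exact hN G M hM (by omega) hB
  | succ a ih =>
    obtain ⟨N1, hN1⟩ := ih
    obtain ⟨N2, hN2⟩ := Cfsg.Agent.S4718.result.{u} 2 (a + 1)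
    refine ⟨max N1 N2, ?_⟩
    intro G _ _ M hM hfac hB
    by_cases h : (Nat.card G).factorization 2 ≤ a
    · exact le_trans (hN1 G M hM h hB) (le_max_left _ _)
    · exact le_trans (hN2 G M hM (by omega) hB) (le_max_right _ _)

theorem Cfsg.Agent.Lib.Helper24.dcb_defect_ge {G : Type*} [Group G] [Finite G]
    (M : Ideal Cfsg.AlgInt) (hM : Cfsg.IsPModular 2 M) (z : ℕ) (Z : Subgroup G)
    (hZ : Z ≤ Subgroup.center G) (hZc : Nat.card Z = 2 ^ z)
    (B : Set (Cfsg.IrrCharacter G)) (hB : Cfsg.IsPBlock M B) : z ≤ Cfsg.blockDefect 2 B := by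
  classical
  haveI : Fintype G := Fintype.ofFinite G
  haveI : Fintype (Cfsg.IrrCharacter G) := Fintype.ofFinite _
  obtain ⟨χ0, rfl⟩ := hB
  have hPr := hM.2.1.isPrime
  have hχ : χ0 ∈ Cfsg.blockOf M (χ0 : G → ℂ) := Cfsg.Agent.Lib.helper7.h7_sameBlock_refl hPr _
  have hdvd := Cfsg.Agent.Lib.Helper26.mur_degree_dvd χ0 Z hZ
  have hpos := (Cfsg.Agent.Lib.Helper25.charDegree_irr χ0).2
  have hidx : Z.index ≠ 0 := Subgroup.index_ne_zero_of_finite
  have h1 : (Cfsg.charDegree (χ0 : G → ℂ)).factorization 2 ≤ Z.index.factorization 2 :=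
    (Nat.factorization_le_iff_dvd hpos.ne' hidx).mpr hdvd 2
  have h2 : Nat.card G = Nat.card Z * Z.index := (Subgroup.card_mul_index Z).symm
  have h3 : (Nat.card G).factorization 2 = z + Z.index.factorization 2 := by
    rw [h2, Nat.factorization_mul Nat.card_pos.ne' hidx, hZc]
    simp [Nat.Prime.factorization_pow Nat.prime_two]
  have h4 : sInf ((fun χ : Cfsg.IrrCharacter G =>
      (Cfsg.charDegree (χ : G → ℂ)).factorization 2) '' Cfsg.blockOf M (χ0 : G → ℂ)) ≤
      (Cfsg.charDegree (χ0 : G → ℂ)).factorization 2 :=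
    Nat.sInf_le ⟨χ0, hχ, rfl⟩
  unfold Cfsg.blockDefect
  omega

theorem Cfsg.Agent.Lib.Helper24.dcb_base (a : ℕ) :
    ∃ N : ℕ, ∀ (G : Type u) [Group G] [Finite G] (M : Ideal Cfsg.AlgInt) (z : ℕ)
      (Z : Subgroup G),
      Cfsg.IsPModular 2 M → (Nat.card G).factorization 2 ≤ a →
      Z ≤ Subgroup.center G → Nat.card Z = 2 ^ z →
      (∀ B : Set (Cfsg.IrrCharacter G), Cfsg.IsPBlock M B → B ≠ Cfsg.principalBlock M G →
        Cfsg.blockDefect 2 B < z) →
      Nat.card G ≤ N := by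
  obtain ⟨N, hN⟩ := Cfsg.Agent.Lib.Helper24.dcb_single.{u} a
  refine ⟨N, ?_⟩
  intro G _ _ M z Z hM hfac hZ hZc hdef
  apply hN G M hM hfac
  intro B hB
  by_contra hne
  have h1 := hdef B hB hne
  have h2 := Cfsg.Agent.Lib.Helper24.dcb_defect_ge M hM z Z hZ hZc B hB
  omega

def Cfsg.Agent.Lib.Helper24.dcbExt {G : Type*} [Group G] (Z : Subgroup G)
    (hZ : Z ≤ Subgroup.center G) (y : G) (hyy : y * y = 1) : Subgroup G where
  carrier := {g | g ∈ Z ∨ y * g ∈ Z}
  one_mem' := Or.inl Z.one_mem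
  mul_mem' := by
    rintro u v (hu | hu) (hv | hv)
    · left; exact Z.mul_mem hu hv
    · right
      have h1 : y * (u * v) = u * (y * v) := by
        have := Subgroup.mem_center_iff.mp (hZ hu) y
        calc y * (u * v) = (y * u) * v := by group
          _ = (u * y) * v := by rw [this]
          _ = u * (y * v) := by group
      rw [h1]; exact Z.mul_mem hu hv
    · right
      have h1 : y * (u * v) = (y * u) * v := by group
      rw [h1]; exact Z.mul_mem hu hv
    · left
      have hc := Subgroup.mem_center_iff.mp (hZ hu) y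
      have huy : u * y = y * u := by
        calc u * y = (y * y) * u * y := by rw [hyy, one_mul]
          _ = y * ((y * u) * y) := by group
          _ = y * (y * (y * u)) := by rw [← hc]
          _ = (y * y) * (y * u) := by group
          _ = y * u := by rw [hyy, one_mul]
      have h1 : u * v = (y * u) * (y * v) := by
        calc u * v = (y * y) * u * v := by rw [hyy, one_mul]
          _ = y * (y * u) * v := by group
          _ = y * (u * y) * v := by rw [huy]
          _ = (y * u) * (y * v) := by group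
      rw [h1]; exact Z.mul_mem hu hv
  inv_mem' := by
    rintro u (hu | hu)
    · left; exact Z.inv_mem hu
    · right
      have hyi : y⁻¹ = y := inv_eq_of_mul_eq_one_left hyy
      have h1 : y * u⁻¹ = (y * u)⁻¹ := by
        have h2 := Subgroup.mem_center_iff.mp (hZ (Z.inv_mem hu)) y
        calc y * u⁻¹ = y * (u⁻¹ * y⁻¹) * y := by group
          _ = y * (y * u)⁻¹ * y := by rw [mul_inv_rev]
          _ = (y * u)⁻¹ * y * y := by rw [← h2]
          _ = (y * u)⁻¹ * (y * y) := by group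
          _ = (y * u)⁻¹ := by rw [hyy, mul_one]
      rw [h1]; exact Z.inv_mem hu

theorem Cfsg.Agent.Lib.Helper24.mem_dcbExt {G : Type*} [Group G] (Z : Subgroup G)
    (hZ : Z ≤ Subgroup.center G) (y : G) (hyy : y * y = 1) (g : G) :
    g ∈ Cfsg.Agent.Lib.Helper24.dcbExt Z hZ y hyy ↔ g ∈ Z ∨ y * g ∈ Z := Iff.rfl

theorem Cfsg.Agent.Lib.Helper24.dcbExt_card {G : Type*} [Group G] [Finite G] (Z : Subgroup G)
    (hZ : Z ≤ Subgroup.center G) (y : G) (hyy : y * y = 1) (hy : y ∉ Z) :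
    Nat.card (Cfsg.Agent.Lib.Helper24.dcbExt Z hZ y hyy) = Nat.card Z * 2 := by
  have hle : Z ≤ Cfsg.Agent.Lib.Helper24.dcbExt Z hZ y hyy := fun g hg => Or.inl hg
  have h1 : Z.relIndex (Cfsg.Agent.Lib.Helper24.dcbExt Z hZ y hyy) = 2 := by
    rw [Subgroup.relIndex_eq_two_iff]
    refine ⟨y, Or.inr (by rw [hyy]; exact Z.one_mem), ?_⟩
    intro b hb
    by_cases hbZ : b ∈ Z
    · right
      refine ⟨hbZ, ?_⟩
      intro h
      apply hy
      have : y = b⁻¹ * (b * y) := by group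
      rw [this]; exact Z.mul_mem (Z.inv_mem hbZ) h
    · left
      have hyb : y * b ∈ Z := by
        rcases hb with hb | hb
        · exact absurd hb hbZ
        · exact hb
      refine ⟨?_, hbZ⟩
      have hc := Subgroup.mem_center_iff.mp (hZ hyb) y
      have hby : b * y = y * b := by
        calc b * y = (y * y) * b * y := by rw [hyy, one_mul]
          _ = y * ((y * b) * y) := by group
          _ = y * (y * (y * b)) := by rw [← hc]
          _ = (y * y) * (y * b) := by group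
          _ = y * b := by rw [hyy, one_mul]
      rw [hby]; exact hyb
  have h2 := Subgroup.relIndex_mul_relIndex ⊥ Z _ bot_le hle
  rw [Subgroup.relIndex_bot_left, Subgroup.relIndex_bot_left, h1] at h2
  exact h2.symm

theorem Cfsg.Agent.Lib.Helper24.dcb_orderOf_two {G : Type*} [Group G] (y : G) (hyy : y * y = 1)
    (hy1 : y ≠ 1) : orderOf y = 2 := by
  haveI : Fact (Nat.Prime 2) := ⟨Nat.prime_two⟩
  apply orderOf_eq_prime
  · rw [pow_two]; exact hyy
  · exact hy1

theorem Cfsg.Agent.Lib.Helper24.dcb_cent_bound (n a c : ℕ)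
    (hN : ∀ (H : Type u) [Group H] [Finite H] (M : Ideal Cfsg.AlgInt) (z : ℕ)
      (Z E : Subgroup H),
      Cfsg.IsPModular 2 M → (Nat.card H).factorization 2 ≤ a →
      Z ≤ Subgroup.center H → Nat.card Z = 2 ^ z → Z ≤ E →
      (∀ x ∈ E, ∀ y ∈ E, x * y = y * x) → (∀ x ∈ E, x * x = 1) →
      Nat.card E = 2 ^ (z + n + 1) →
      (∀ B : Set (Cfsg.IrrCharacter H), Cfsg.IsPBlock M B → B ≠ Cfsg.principalBlock M H →
        Cfsg.blockDefect 2 B < z + n) →
      Nat.card H ≤ c)
    (G : Type u) [Group G] [Finite G] (M : Ideal Cfsg.AlgInt) (z : ℕ) (Z E : Subgroup G)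
    (hM : Cfsg.IsPModular 2 M) (hfac : (Nat.card G).factorization 2 ≤ a)
    (hZ : Z ≤ Subgroup.center G) (hZc : Nat.card Z = 2 ^ z) (hZE : Z ≤ E)
    (hEc : ∀ x ∈ E, ∀ y ∈ E, x * y = y * x) (hEi : ∀ x ∈ E, x * x = 1)
    (hEcard : Nat.card E = 2 ^ (z + (n + 1) + 1))
    (hdef : ∀ B : Set (Cfsg.IrrCharacter G), Cfsg.IsPBlock M B → B ≠ Cfsg.principalBlock M G →
      Cfsg.blockDefect 2 B < z + (n + 1))
    (y : G) (hyE : y ∈ E) (hyZ : y ∉ Z) :
    Nat.card (Subgroup.centralizer ({y} : Set G)) ≤ c := by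
  haveI : Fact (Nat.Prime 2) := ⟨Nat.prime_two⟩
  have hyy := hEi y hyE
  have hy1 : y ≠ 1 := by
    intro h; apply hyZ; rw [h]; exact Z.one_mem
  have hyord := Cfsg.Agent.Lib.Helper24.dcb_orderOf_two y hyy hy1
  have hEC : E ≤ Subgroup.centralizer ({y} : Set G) := by
    intro e he
    rw [Subgroup.mem_centralizer_iff]
    intro h hh
    rw [Set.mem_singleton_iff] at hh
    rw [hh]; exact hEc y hyE e he
  have hZ1E : Cfsg.Agent.Lib.Helper24.dcbExt Z hZ y hyy ≤ E := by
    intro g hg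
    rcases hg with hg | hg
    · exact hZE hg
    · have : g = y * (y * g) := by
        calc g = (y * y) * g := by rw [hyy, one_mul]
          _ = y * (y * g) := by group
      rw [this]; exact E.mul_mem hyE (hZE hg)
  have hZ1C := hZ1E.trans hEC
  apply hN (↥(Subgroup.centralizer ({y} : Set G))) M (z + 1)
    ((Cfsg.Agent.Lib.Helper24.dcbExt Z hZ y hyy).subgroupOf (Subgroup.centralizer ({y} : Set G)))
    (E.subgroupOf (Subgroup.centralizer ({y} : Set G))) hM
  · refine le_trans ?_ hfac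
    exact (Nat.factorization_le_iff_dvd Nat.card_pos.ne' Nat.card_pos.ne').mpr
      (Subgroup.card_subgroup_dvd_card _) 2
  · intro g hg
    rw [Subgroup.mem_subgroupOf] at hg
    rw [Subgroup.mem_center_iff]
    intro h
    apply Subtype.ext
    rw [Subgroup.coe_mul, Subgroup.coe_mul]
    rcases hg with hg | hg
    · exact Subgroup.mem_center_iff.mp (hZ hg) _
    · have hh : (h : G) * y = y * (h : G) := by
        have := h.2
        rw [Subgroup.mem_centralizer_iff] at this
        exact (this y (Set.mem_singleton y)).symm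
      have hw := Subgroup.mem_center_iff.mp (hZ hg) (h : G)
      have hgeq : (g : G) = y * (y * (g : G)) := by
        calc (g : G) = (y * y) * (g : G) := by rw [hyy, one_mul]
          _ = y * (y * (g : G)) := by group
      calc (h : G) * (g : G) = (h : G) * (y * (y * (g : G))) := by rw [← hgeq]
        _ = ((h : G) * y) * (y * (g : G)) := by group
        _ = (y * (h : G)) * (y * (g : G)) := by rw [hh]
        _ = y * ((h : G) * (y * (g : G))) := by group
        _ = y * ((y * (g : G)) * (h : G)) := by rw [hw]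
        _ = (y * (y * (g : G))) * (h : G) := by group
        _ = (g : G) * (h : G) := by rw [← hgeq]
  · rw [Nat.card_congr (Subgroup.subgroupOfEquivOfLe hZ1C).toEquiv,
      Cfsg.Agent.Lib.Helper24.dcbExt_card Z hZ y hyy hyZ, hZc, pow_succ]
  · intro g hg
    rw [Subgroup.mem_subgroupOf] at hg ⊢
    exact hZ1E hg
  · intro g hg h hh
    rw [Subgroup.mem_subgroupOf] at hg hh
    apply Subtype.ext
    rw [Subgroup.coe_mul, Subgroup.coe_mul]
    exact hEc _ hg _ hh
  · intro g hg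
    rw [Subgroup.mem_subgroupOf] at hg
    apply Subtype.ext
    rw [Subgroup.coe_mul, Subgroup.coe_one]
    exact hEi _ hg
  · rw [Nat.card_congr (Subgroup.subgroupOfEquivOfLe hEC).toEquiv, hEcard]
    congr 1
    omega
  · intro b hb hne
    have := Cfsg.Agent.Lib.Helper26.dcl_forward 2 M hM (z + (n + 1)) hdef y
      ⟨1, by rw [pow_one]; exact hyord⟩ b hb hne
    omega

theorem Cfsg.Agent.Lib.Helper24.dcb_Q (n : ℕ) : ∀ a : ℕ, ∃ N : ℕ,
    ∀ (G : Type u) [Group G] [Finite G] (M : Ideal Cfsg.AlgInt) (z : ℕ) (Z E : Subgroup G),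
      Cfsg.IsPModular 2 M → (Nat.card G).factorization 2 ≤ a →
      Z ≤ Subgroup.center G → Nat.card Z = 2 ^ z → Z ≤ E →
      (∀ x ∈ E, ∀ y ∈ E, x * y = y * x) → (∀ x ∈ E, x * x = 1) →
      Nat.card E = 2 ^ (z + n + 1) →
      (∀ B : Set (Cfsg.IrrCharacter G), Cfsg.IsPBlock M B → B ≠ Cfsg.principalBlock M G →
        Cfsg.blockDefect 2 B < z + n) →
      Nat.card G ≤ N := by
  induction n with
  | zero =>
    intro a
    obtain ⟨N, hN⟩ := Cfsg.Agent.Lib.Helper24.dcb_base.{u} a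
    refine ⟨N, ?_⟩
    intro G _ _ M z Z E hM hfac hZ hZc _ _ _ _ hdef
    exact hN G M z Z hM hfac hZ hZc (by simpa using hdef)
  | succ n ih =>
    intro a
    obtain ⟨c, hc⟩ := ih a
    obtain ⟨N, hN⟩ := Cfsg.Agent.Lib.Helper24.dcm_main.{u} a c
    refine ⟨N, ?_⟩
    intro G _ _ M z Z E hM hfac hZ hZc hZE hEc hEi hEcard hdef
    have hex1 : ∃ y1 ∈ E, y1 ∉ Z := by
      by_contra hcon
      push Not at hcon
      have h1 : E ≤ Z := hcon
      have h2 := Subgroup.card_le_of_le h1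
      rw [hEcard, hZc] at h2
      have h3 := (Nat.pow_le_pow_iff_right (by norm_num : 1 < 2)).mp h2
      omega
    obtain ⟨y1, hy1E, hy1Z⟩ := hex1
    have hy1y1 := hEi y1 hy1E
    have hex2 : ∃ y2 ∈ E, y2 ∉ Cfsg.Agent.Lib.Helper24.dcbExt Z hZ y1 hy1y1 := by
      by_contra hcon
      push Not at hcon
      have h1 : E ≤ Cfsg.Agent.Lib.Helper24.dcbExt Z hZ y1 hy1y1 := hcon
      have h2 := Subgroup.card_le_of_le h1
      rw [hEcard, Cfsg.Agent.Lib.Helper24.dcbExt_card Z hZ y1 hy1y1 hy1Z, hZc, ← pow_succ] at h2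
      have h3 := (Nat.pow_le_pow_iff_right (by norm_num : 1 < 2)).mp h2
      omega
    obtain ⟨y2, hy2E, hy2Z1⟩ := hex2
    have hy2Z : y2 ∉ Z := fun h => hy2Z1 (Or.inl h)
    have hy12Z : y1 * y2 ∉ Z := fun h => hy2Z1 (Or.inr h)
    have hy2y2 := hEi y2 hy2E
    have hy11 : y1 ≠ 1 := by
      intro h; apply hy1Z; rw [h]; exact Z.one_mem
    have hy21 : y2 ≠ 1 := by
      intro h; apply hy2Z; rw [h]; exact Z.one_mem
    have hne : y1 ≠ y2 := by
      intro h
      apply hy12Z
      rw [← h, hy1y1]; exact Z.one_mem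
    have hb := Cfsg.Agent.Lib.Helper24.dcb_cent_bound n a c hc G M z Z E hM hfac hZ hZc hZE hEc hEi
      hEcard hdef
    exact hN G y1 y2 (Cfsg.Agent.Lib.Helper24.dcb_orderOf_two y1 hy1y1 hy11)
      (Cfsg.Agent.Lib.Helper24.dcb_orderOf_two y2 hy2y2 hy21) (hEc y1 hy1E y2 hy2E) hne
      (hb y1 hy1E hy1Z) (hb y2 hy2E hy2Z) (hb (y1 * y2) (E.mul_mem hy1E hy2E) hy12Z) hfac
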