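import Mathlib
import Cfsg.Agent.Lib.Helper24.ElR

set_option autoImplicit false

namespace Cfsg.Agent.Lib.Helper24

open Polynomial Module

theorem el_scalar_ne_zero {F : Type*} [Field F] (n : ℕ) (hn : 1 ≤ n) (r : ℕ)
    (x : Matrix (Fin n) (Fin n) F) (hdet : x.det = 1) (c : F) (hx : x ^ r = c • 1) : c ≠ 0 := by
  intro h0
  have h1 := congrArg Matrix.det hx
  have hne : Nonempty (Fin n) := ⟨⟨0, by omega⟩⟩
  rw [Matrix.det_pow, hdet, one_pow, h0, zero_smul, Matrix.det_zero] at h1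
  exact one_ne_zero h1

theorem el_suff_pair {F : Type*} [Field F] [Fintype F] {p : ℕ} [hp : Fact p.Prime] [CharP F p]
    (n m : ℕ) (hn : 2 ≤ n) (hmn : m ≤ n) (r : ℕ) [hr : Fact r.Prime] (hrp : r ≠ p)
    (hcond : (orderOf ((Fintype.card F : ℕ) : ZMod r) = 1 ∧ (r ∣ m ∨
        (padicValNat r n ≤ padicValNat r (Fintype.card F - 1) ∧
          (r = 2 → Even n → Fintype.card F % 4 = 1)))) ∨
      (2 ≤ orderOf ((Fintype.card F : ℕ) : ZMod r) ∧
        m % orderOf ((Fintype.card F : ℕ) : ZMod r) ≤ n % orderOf ((Fintype.card F : ℕ) : ZMod r)))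
    (x : Matrix (Fin n) (Fin n) F) (hdet : x.det = 1) (c : F) (hx : x ^ r = c • 1) :
    ∃ U W : Submodule F (Fin n → F), IsCompl U W ∧ finrank F U = m ∧
      U.map (Matrix.toLin' x) ≤ U ∧ W.map (Matrix.toLin' x) ≤ W := by
  obtain ⟨U, hUd, hU⟩ := el_suff n m hn hmn r hrp hcond x hdet c hx
  have hc0 := el_scalar_ne_zero n (by omega) r x hdet c hx
  have hf : Matrix.toLin' x ^ r = c • 1 := by
    rw [← Matrix.toLin'_pow, hx, map_smul, Matrix.toLin'_one]
    rfl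
  obtain ⟨W, hW, hUW⟩ := el_maschke (Matrix.toLin' x) r (el_cast_ne_zero (F := F) r hrp) c hc0 hf U
    ((el_inv_iff _ _).mp hU)
  exact ⟨U, W, hUW, hUd, hU, (el_inv_iff _ _).mpr hW⟩

end Cfsg.Agent.Lib.Helper24
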