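import Cfsg.Agent.Lib.Helper24.ElM
import Cfsg.Agent.Lib.Helper24.ElT

set_option autoImplicit false

namespace Cfsg.Agent.Lib.Helper24

open Polynomial Module

variable {F : Type*} [Field F] {V : Type*} [AddCommGroup V] [Module F V]

theorem el_inv_iSup {ι : Sort*} (x : Module.End F V) (I : ι → Submodule F V)
    (h : ∀ i, ElInv x (I i)) : ElInv x (⨆ i, I i) := by
  intro w hw
  have h1 : (⨆ i, I i) ≤ (⨆ i, I i).comap x := by
    apply iSup_le
    intro i v hv
    exact Submodule.mem_iSup_of_mem i (h i v hv)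
  exact h1 hw

theorem el_inv_span_fixed (x : Module.End F V) (s : Set V) (h : ∀ v ∈ s, x v = v) :
    ElInv x (Submodule.span F s) := by
  intro w hw
  have h1 : Submodule.span F s ≤ (Submodule.span F s).comap x := by
    rw [Submodule.span_le]
    intro v hv
    show x v ∈ Submodule.span F s
    rw [h v hv]
    exact Submodule.subset_span hv
  exact h1 hw

theorem el_pieces [FiniteDimensional F V]
    (x : Module.End F V) (r : ℕ) (hr : (r : F) ≠ 0) (z : F) (hz : z ≠ 0) (hx : x ^ r = z • 1)
    (Q : F[X]) (hQ0 : Q ≠ 0) (d : ℕ)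
    (hd : ∀ P : F[X], Irreducible P → P ∣ Q → P.natDegree = d) :
    ∀ (m : ℕ) (M : Submodule F V), ElInv x M → (∀ u ∈ M, aeval x Q u = 0) →
      finrank F M = m * d →
      ∃ (ι : Type) (_ : Fintype ι) (I : ι → Submodule F V), Fintype.card ι = m ∧
        (∀ i, ElInv x (I i)) ∧ (∀ i, finrank F (I i) = d) ∧ ⨆ i, I i = M := by
  intro m
  induction m with
  | zero =>
    intro M _ _ hfr
    rw [zero_mul] at hfr
    have hM : M = ⊥ := Submodule.finrank_eq_zero.mp hfr
    refine ⟨PEmpty, inferInstance, fun i => i.elim, by simp, fun i => i.elim, fun i => i.elim, ?_⟩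
    rw [hM, iSup_of_empty]
  | succ m ih =>
    intro M hM hQ hfr
    obtain ⟨Y, hYM, hY, hYd⟩ := el_exists_dim x M hM Q hQ0 hQ d hd 1 (by rw [hfr]; nlinarith)
    rw [one_mul] at hYd
    obtain ⟨W, hW, hYW⟩ := el_maschke x r hr z hz hx Y hY
    have hsup : Y ⊔ (W ⊓ M) = M := by
      rw [← sup_inf_assoc_of_le W hYM, hYW.sup_eq_top, top_inf_eq]
    have hdisj : Y ⊓ (W ⊓ M) = ⊥ := by
      have := hYW.disjoint.mono_right (inf_le_left : W ⊓ M ≤ W)
      exact this.eq_bot
    have hfr' : finrank F ↥(W ⊓ M) = m * d := by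
      have h3 := Submodule.finrank_sup_add_finrank_inf_eq Y (W ⊓ M)
      rw [hsup, hdisj, finrank_bot, hYd, hfr] at h3
      have : (m + 1) * d = m * d + d := by ring
      omega
    obtain ⟨ι, hι, I, hcard, hinv, hdim, hI⟩ := ih (W ⊓ M) (el_inv_inf hW hM)
      (fun u hu => hQ u (Submodule.mem_inf.mp hu).2) hfr'
    refine ⟨Option ι, inferInstance, fun o => o.elim Y I, ?_, ?_, ?_, ?_⟩
    · rw [Fintype.card_option, hcard]
    · intro o
      cases o with
      | none => exact hY
      | some i => exact hinv i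
    · intro o
      cases o with
      | none => exact hYd
      | some i => exact hdim i
    · rw [iSup_option]
      show Y ⊔ ⨆ i, I i = M
      rw [hI, hsup]

end Cfsg.Agent.Lib.Helper24
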