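import Cfsg.Agent.Lib.Helper24.ElV

set_option autoImplicit false

namespace Cfsg.Agent.Lib.Helper24

open Polynomial Module

variable {F : Type*} [Field F] {V : Type*} [AddCommGroup V] [Module F V]

def elZ (x : Module.End F V) (r : ℕ) (u : V) : Submodule F V :=
  Submodule.span F (Set.range (fun l : Fin r => (x ^ (l : ℕ)) u))

theorem el_mem_Z (x : Module.End F V) (r : ℕ) (u : V) (l : ℕ) (hl : l < r) :
    (x ^ l) u ∈ elZ x r u :=
  Submodule.subset_span ⟨⟨l, hl⟩, rfl⟩

theorem el_self_mem_Z (x : Module.End F V) (r : ℕ) (hr : 0 < r) (u : V) : u ∈ elZ x r u := by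
  have := el_mem_Z x r u 0 hr
  simpa using this

theorem el_Z_inv (x : Module.End F V) (r : ℕ) (hr : 0 < r) (z : F) (hx : x ^ r = z • 1) (u : V) :
    ElInv x (elZ x r u) := by
  intro w hw
  have h1 : elZ x r u ≤ (elZ x r u).comap x := by
    unfold elZ
    rw [Submodule.span_le]
    rintro _ ⟨l, rfl⟩
    show x ((x ^ (l : ℕ)) u) ∈ elZ x r u
    rw [← Module.End.mul_apply, ← pow_succ']
    by_cases h : (l : ℕ) + 1 < r
    · exact el_mem_Z x r u _ h
    · have : (l : ℕ) + 1 = r := by have := l.isLt; omega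
      rw [this, hx, LinearMap.smul_apply, Module.End.one_apply]
      exact Submodule.smul_mem _ _ (el_self_mem_Z x r hr u)
  exact h1 hw

theorem el_Z_le (x : Module.End F V) (r : ℕ) (u : V) (I : Submodule F V) (hI : ElInv x I)
    (hu : u ∈ I) : elZ x r u ≤ I := by
  unfold elZ
  rw [Submodule.span_le]
  rintro _ ⟨l, rfl⟩
  exact el_pow_mem hI _ hu

theorem el_Z_le_of_mem (x : Module.End F V) (r : ℕ) (u : V) (S : Submodule F V)
    (h : ∀ l < r, (x ^ l) u ∈ S) : elZ x r u ≤ S := by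
  unfold elZ
  rw [Submodule.span_le]
  rintro _ ⟨l, rfl⟩
  exact h l l.isLt

theorem el_Z_eq [FiniteDimensional F V] (x : Module.End F V) (r : ℕ) (hr : 0 < r) (z : F)
    (hx : x ^ r = z • 1) (Q : F[X]) (hQ0 : Q ≠ 0) (d : ℕ) (hdpos : 0 < d)
    (hd : ∀ P : F[X], Irreducible P → P ∣ Q → P.natDegree = d)
    (I : Submodule F V) (hI : ElInv x I) (hQ : ∀ u ∈ I, aeval x Q u = 0) (hId : finrank F I = d)
    (u : V) (hu : u ∈ I) (hu0 : u ≠ 0) : elZ x r u = I := by
  have hle := el_Z_le x r u I hI hu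
  have hdvd := el_dvd_dim x (elZ x r u) (el_Z_inv x r hr z hx u) Q hQ0
    (fun w hw => hQ w (hle hw)) d hdpos hd
  have hne : finrank F (elZ x r u) ≠ 0 := by
    intro h0
    have hbot : elZ x r u = ⊥ := Submodule.finrank_eq_zero.mp h0
    have := el_self_mem_Z x r hr u
    rw [hbot, Submodule.mem_bot] at this
    exact hu0 this
  have hle2 := Submodule.finrank_mono hle
  rw [hId] at hle2
  apply Submodule.eq_of_le_of_finrank_eq hle
  rw [hId]
  obtain ⟨k, hk⟩ := hdvd
  rw [hk] at hle2 hne ⊢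
  have hk1 : k = 1 := by
    rcases Nat.lt_or_ge k 2 with h | h
    · rcases Nat.eq_zero_or_pos k with h0 | h0
      · rw [h0, mul_zero] at hne
        exact absurd rfl hne
      · omega
    · nlinarith
  rw [hk1, mul_one]

end Cfsg.Agent.Lib.Helper24
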