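import Cfsg.Agent.Lib.Helper24.ElW
import Cfsg.Agent.Lib.Helper24.ElU

set_option autoImplicit false

namespace Cfsg.Agent.Lib.Helper24

open Polynomial Module

variable {F : Type*} [Field F] {V : Type*} [AddCommGroup V] [Module F V]

theorem el_inj_of_pow (x : Module.End F V) (r : ℕ) (hr : 0 < r) (z : F) (hz : z ≠ 0)
    (hx : x ^ r = z • 1) : Function.Injective x := by
  rw [← LinearMap.ker_eq_bot, eq_bot_iff]
  intro v hv
  rw [LinearMap.mem_ker] at hv
  rw [Submodule.mem_bot]
  have h1 : (x ^ r) v = z • v := by rw [hx, LinearMap.smul_apply, Module.End.one_apply]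
  obtain ⟨k, rfl⟩ : ∃ k, r = k + 1 := ⟨r - 1, by omega⟩
  rw [pow_succ, Module.End.mul_apply, hv, map_zero] at h1
  exact (smul_eq_zero.mp h1.symm).resolve_left hz

theorem el_map_eq_of_inv [FiniteDimensional F V] (x : Module.End F V)
    (hinj : Function.Injective x) (W : Submodule F V) (hW : ElInv x W) : W.map x = W := by
  apply Submodule.eq_of_le_of_finrank_eq
  · rintro _ ⟨w, hw, rfl⟩
    exact hW w hw
  · exact (Submodule.equivMapOfInjective x hinj W).finrank_eq.symm

theorem el_iSup_prod_equiv {ι κ₁ κ₂ : Type*} (β : κ₁ × κ₂ ≃ ι) (I : ι → Submodule F V) :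
    ⨆ j : κ₁, ⨆ i : κ₂, I (β (j, i)) = ⨆ i, I i := by
  apply le_antisymm
  · apply iSup_le
    intro j
    apply iSup_le
    intro i
    exact le_iSup I _
  · apply iSup_le
    intro i0
    have h : i0 = β ((β.symm i0).1, (β.symm i0).2) := by simp
    rw [h]
    exact le_iSup_of_le (β.symm i0).1 (le_iSup (fun i => I (β ((β.symm i0).1, i))) (β.symm i0).2)

theorem el_suff_irr (n a t : ℕ) (hat : n = a * t) (ha : 1 ≤ a) (ht : 2 ≤ t)
    (r : ℕ) [hrP : Fact r.Prime] (hr : (r : F) ≠ 0) (z : F) (hz : z ≠ 0)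
    (x : Module.End F (Fin n → F)) (hx : x ^ r = z • 1)
    (hirr : Irreducible (X ^ r - C z : F[X])) :
    ∃ D' : Fin t → Submodule F (Fin n → F), Cfsg.Geo.IsMDecomposition a D' ∧
      ∃ σ : Equiv.Perm (Fin t), ∀ j, (D' j).map x = D' (σ j) := by
  classical
  have hrpos : 0 < r := hrP.out.pos
  have hfr : finrank F (Fin n → F) = n := Module.finrank_fin_fun F
  have hkill : aeval x (X ^ r - C z : F[X]) = 0 := by
    rw [map_sub, map_pow, aeval_X, aeval_C, hx, Algebra.algebraMap_eq_smul_one, sub_self]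
  have hdeg : ∀ P' : F[X], Irreducible P' → P' ∣ (X ^ r - C z : F[X]) → P'.natDegree = r := by
    intro P' hP' hdvd
    rw [natDegree_eq_of_degree_eq (degree_eq_degree_of_associated
      (hP'.associated_of_dvd hirr hdvd)), natDegree_X_pow_sub_C]
  have hkill' : ∀ u ∈ (⊤ : Submodule F (Fin n → F)), aeval x (X ^ r - C z : F[X]) u = 0 := by
    intro u _
    rw [hkill, LinearMap.zero_apply]
  have hinvtop : ElInv x (⊤ : Submodule F (Fin n → F)) := fun _ _ => Submodule.mem_top
  have hrn : r ∣ n := by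
    have := el_dvd_dim x ⊤ hinvtop _ hirr.ne_zero hkill' r hrpos hdeg
    rwa [finrank_top, hfr] at this
  have hinj := el_inj_of_pow x r hrpos z hz hx
  obtain ⟨ι, hι, I, hcard, hIinv, hIdim, hIsup⟩ := el_pieces x r hr z hz hx _ hirr.ne_zero r hdeg
    (n / r) ⊤ hinvtop hkill' (by rw [finrank_top, hfr, Nat.div_mul_cancel hrn])
  by_cases hra : r ∣ a
  · obtain ⟨a', ha'⟩ := hra
    have hc : Fintype.card (Fin t × Fin a') = Fintype.card ι := by
      rw [hcard, Fintype.card_prod, Fintype.card_fin, Fintype.card_fin, hat, ha']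
      rw [mul_assoc, Nat.mul_div_cancel_left _ hrpos, mul_comm]
    let β : Fin t × Fin a' ≃ ι := Fintype.equivOfCardEq hc
    refine el_final n a t hat ha ht (fun j : Fin t => ⨆ i : Fin a', I (β (j, i))) ?_ ?_
      (Fintype.card_fin t) x hinj ?_
    · rw [el_iSup_prod_equiv β I, hIsup]
    · intro j
      refine le_trans (el_finrank_iSup_le _) ?_
      rw [Finset.sum_congr rfl (fun i _ => hIdim (β (j, i))), Finset.sum_const, Finset.card_univ,
        Fintype.card_fin, smul_eq_mul, ha', mul_comm]
    · intro j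
      exact ⟨j, el_map_eq_of_inv x hinj _ (el_inv_iSup x _ (fun i => hIinv _))⟩
  · have hrt : r ∣ t := by
      have h1 : r ∣ a * t := hat ▸ hrn
      exact (hrP.out.dvd_mul.mp h1).resolve_left hra
    obtain ⟨t'', ht''⟩ := hrt
    have hc : Fintype.card (Fin t'' × Fin a) = Fintype.card ι := by
      rw [hcard, Fintype.card_prod, Fintype.card_fin, Fintype.card_fin, hat, ht'']
      rw [← mul_assoc, mul_comm a r, mul_assoc, Nat.mul_div_cancel_left _ hrpos, mul_comm]
    let β : Fin t'' × Fin a ≃ ι := Fintype.equivOfCardEq hc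
    have hex : ∀ i : ι, ∃ u ∈ I i, u ≠ 0 := by
      intro i
      apply Submodule.exists_mem_ne_zero_of_ne_bot
      intro h
      have := hIdim i
      rw [h, finrank_bot] at this
      omega
    choose u hu hu0 using hex
    have hZ : ∀ i, elZ x r (u i) = I i := fun i =>
      el_Z_eq x r hrpos z hx _ hirr.ne_zero r hrpos hdeg (I i) (hIinv i)
        (fun w _ => by rw [hkill, LinearMap.zero_apply]) (hIdim i) (u i) (hu i) (hu0 i)
    let D : Fin t'' × Fin r → Submodule F (Fin n → F) := fun gl =>
      Submodule.span F (Set.range (fun j : Fin a => (x ^ (gl.2 : ℕ)) (u (β (gl.1, j)))))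
    refine el_final n a t hat ha ht D ?_ ?_
      (by rw [Fintype.card_prod, Fintype.card_fin, Fintype.card_fin, ht'', mul_comm]) x hinj ?_
    · rw [eq_top_iff, ← hIsup]
      apply iSup_le
      intro i
      rw [← hZ i]
      apply el_Z_le_of_mem
      intro l hl
      have h : i = β ((β.symm i).1, (β.symm i).2) := by simp
      apply Submodule.mem_iSup_of_mem ((β.symm i).1, (⟨l, hl⟩ : Fin r))
      apply Submodule.subset_span
      refine ⟨(β.symm i).2, ?_⟩
      show (x ^ l) (u (β ((β.symm i).1, (β.symm i).2))) = (x ^ l) (u i)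
      rw [← h]
    · intro gl
      have := finrank_range_le_card (R := F)
        (fun j : Fin a => (x ^ (gl.2 : ℕ)) (u (β (gl.1, j))))
      rwa [Fintype.card_fin] at this
    · rintro ⟨g, l⟩
      by_cases h : (l : ℕ) + 1 < r
      · refine ⟨(g, ⟨(l : ℕ) + 1, h⟩), ?_⟩
        show (Submodule.span F (Set.range (fun j : Fin a => (x ^ (l : ℕ)) (u (β (g, j)))))).map x =
          Submodule.span F (Set.range (fun j : Fin a => (x ^ ((l : ℕ) + 1)) (u (β (g, j)))))
        rw [Submodule.map_span, ← Set.range_comp]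
        congr 2
        funext j
        show x ((x ^ (l : ℕ)) (u (β (g, j)))) = _
        rw [← Module.End.mul_apply, ← pow_succ']
      · have hl : (l : ℕ) + 1 = r := by have := l.isLt; omega
        refine ⟨(g, ⟨0, hrpos⟩), ?_⟩
        show (Submodule.span F (Set.range (fun j : Fin a => (x ^ (l : ℕ)) (u (β (g, j)))))).map x =
          Submodule.span F (Set.range (fun j : Fin a => (x ^ 0) (u (β (g, j)))))
        rw [Submodule.map_span, ← Set.range_comp]
        have h1 : (x ∘ fun j : Fin a => (x ^ (l : ℕ)) (u (β (g, j)))) =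
            fun j : Fin a => z • (fun j : Fin a => (x ^ 0) (u (β (g, j)))) j := by
          funext j
          show x ((x ^ (l : ℕ)) (u (β (g, j)))) = z • (x ^ 0) (u (β (g, j)))
          rw [← Module.End.mul_apply, ← pow_succ', hl, hx, pow_zero, LinearMap.smul_apply]
        rw [h1, ← Set.smul_set_range]
        exact Submodule.span_smul_eq_of_isUnit _ z (IsUnit.mk0 z hz)

end Cfsg.Agent.Lib.Helper24
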