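import Cfsg.Agent.Lib.Helper24.ElX
import Cfsg.Agent.Lib.Helper24.ElD

set_option autoImplicit false

namespace Cfsg.Agent.Lib.Helper24

open Polynomial Module

theorem el_span_basis {F : Type*} [Field F] {V : Type*} [AddCommGroup V] [Module F V]
    [FiniteDimensional F V] (W : Submodule F V) (e : ℕ) (he : finrank F W = e) :
    ∃ v : Fin e → V, (∀ i, v i ∈ W) ∧ Submodule.span F (Set.range v) = W := by
  subst he
  let b := Module.finBasis F W
  refine ⟨fun i => (b i : V), fun i => (b i).2, ?_⟩
  have h1 : (fun i => (b i : V)) = W.subtype ∘ b := rfl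
  rw [h1, Set.range_comp, ← Submodule.map_span, b.span_eq, Submodule.map_subtype_top]

theorem el_fix_of_mem {F : Type*} [Field F] {V : Type*} [AddCommGroup V] [Module F V]
    (x : Module.End F V) (v : V) (hv : v ∈ LinearMap.ker (aeval x (X - 1 : F[X]))) : x v = v := by
  rw [LinearMap.mem_ker, map_sub, aeval_X, map_one, LinearMap.sub_apply,
    Module.End.one_apply, sub_eq_zero] at hv
  exact hv

theorem el_CN_top {F : Type*} [Field F] [Fintype F] {p : ℕ} [hp : Fact p.Prime] [CharP F p]
    {V : Type*} [AddCommGroup V] [Module F V]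
    (r : ℕ) [hr : Fact r.Prime] (hrp : r ≠ p) (x : Module.End F V) (hx : x ^ r = 1) :
    LinearMap.ker (aeval x (X - 1 : F[X])) ⊔ LinearMap.ker (aeval x (cyclotomic r F)) = ⊤ := by
  rw [sup_ker_aeval_eq_ker_aeval_mul_of_coprime x (el_cyc_coprime r hrp), el_cyc_kill r x hx,
    LinearMap.ker_zero]

theorem el_suff_inv {F : Type*} [Field F] [Fintype F] {p : ℕ} [hp : Fact p.Prime] [CharP F p]
    (n a t : ℕ) (hat : n = a * t) (ha : 1 ≤ a) (ht : 2 ≤ t)
    (r : ℕ) [hr : Fact r.Prime] (hrp : r ≠ p)
    (hk : n % orderOf ((Fintype.card F : ℕ) : ZMod r) =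
      t * (a % orderOf ((Fintype.card F : ℕ) : ZMod r)))
    (x : Module.End F (Fin n → F)) (hx : x ^ r = 1) :
    ∃ D' : Fin t → Submodule F (Fin n → F), Cfsg.Geo.IsMDecomposition a D' ∧
      ∃ σ : Equiv.Perm (Fin t), ∀ j, (D' j).map x = D' (σ j) := by
  classical
  have hrpos : 0 < r := hr.out.pos
  have hfr : finrank F (Fin n → F) = n := Module.finrank_fin_fun F
  have hcpos := el_ord_pos (F := F) r hrp
  set c := orderOf ((Fintype.card F : ℕ) : ZMod r) with hc
  have hx' : x ^ r = (1 : F) • 1 := by rw [one_smul, hx]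
  have hinj := el_inj_of_pow x r hrpos 1 one_ne_zero hx'
  have hdim := el_split_dim x (cyclotomic r F) (el_cyc_coprime r hrp) (el_cyc_kill r x hx)
  rw [hfr] at hdim
  have hNinv : ElInv x (LinearMap.ker (aeval x (cyclotomic r F))) := el_inv_ker x _
  have hNkill : ∀ u ∈ LinearMap.ker (aeval x (cyclotomic r F)),
      aeval x (cyclotomic r F) u = 0 := fun u hu => LinearMap.mem_ker.mp hu
  have hcN : c ∣ finrank F (LinearMap.ker (aeval x (cyclotomic r F))) :=
    el_dvd_dim x _ hNinv (cyclotomic r F) (cyclotomic_ne_zero r F) hNkill c hcpos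
      (el_cyc_deg r hrp)
  obtain ⟨m, hm⟩ := hcN
  obtain ⟨ι, hι, I, hcard, hIinv, hIdim, hIsup⟩ := el_pieces x r (el_cast_ne_zero (F := F) r hrp)
    1 one_ne_zero hx' (cyclotomic r F) (cyclotomic_ne_zero r F) c (el_cyc_deg r hrp) m _ hNinv
    hNkill (by rw [hm, mul_comm])
  obtain ⟨e, he⟩ : ∃ e, finrank F (LinearMap.ker (aeval x (X - 1 : F[X]))) = e := ⟨_, rfl⟩
  rw [he] at hdim
  obtain ⟨v, hvC, hvspan⟩ := el_span_basis (LinearMap.ker (aeval x (X - 1 : F[X]))) e he
  have hen : e + c * m = n := by rw [← hm]; exact hdim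
  have hemod : e % c = t * (a % c) := by
    rw [← hk, ← hen, Nat.add_mul_mod_self_left]
  have he1 : c * (e / c) + t * (a % c) = e := by
    rw [← hemod]; exact Nat.div_add_mod e c
  have ha1 : c * (a / c) + a % c = a := Nat.div_add_mod a c
  have htu : t * (a / c) = e / c + m := by
    have h1 : c * (t * (a / c)) = c * (e / c + m) := by
      have h2 : (c * (a / c) + a % c) * t = c * (e / c) + t * (a % c) + c * m := by
        rw [ha1, he1, hen, hat]
      nlinarith
    exact Nat.eq_of_mul_eq_mul_left hcpos h1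
  have hc1 : Fintype.card ((Fin t × Fin (a % c)) ⊕ (Fin (e / c) × Fin c)) =
      Fintype.card (Fin e) := by
    simp only [Fintype.card_sum, Fintype.card_prod, Fintype.card_fin]
    rw [mul_comm (e / c) c, add_comm]
    exact he1
  let β₁ : (Fin t × Fin (a % c)) ⊕ (Fin (e / c) × Fin c) ≃ Fin e := Fintype.equivOfCardEq hc1
  have hc2 : Fintype.card (Fin t × Fin (a / c)) = Fintype.card (Fin (e / c) ⊕ ι) := by
    simp only [Fintype.card_sum, Fintype.card_prod, Fintype.card_fin]
    rw [hcard]
    exact htu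
  let β₂ : Fin t × Fin (a / c) ≃ Fin (e / c) ⊕ ι := Fintype.equivOfCardEq hc2
  let B : Fin (e / c) ⊕ ι → Submodule F (Fin n → F) := Sum.elim
    (fun π => Submodule.span F (Set.range (fun i : Fin c => v (β₁ (Sum.inr (π, i)))))) I
  have hfix : ∀ i, x (v i) = v i := fun i => el_fix_of_mem x (v i) (hvC i)
  have hBinv : ∀ b0, ElInv x (B b0) := by
    intro b0
    cases b0 with
    | inl π =>
      apply el_inv_span_fixed
      rintro _ ⟨i, rfl⟩
      exact hfix _
    | inr i => exact hIinv i
  have hBdim : ∀ b0, finrank F (B b0) ≤ c := by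
    intro b0
    cases b0 with
    | inl π =>
      have := finrank_range_le_card (R := F) (fun i : Fin c => v (β₁ (Sum.inr (π, i))))
      rwa [Fintype.card_fin] at this
    | inr i => exact le_of_eq (hIdim i)
  let D : Fin t → Submodule F (Fin n → F) := fun j =>
    Submodule.span F (Set.range (fun i : Fin (a % c) => v (β₁ (Sum.inl (j, i))))) ⊔
      ⨆ i : Fin (a / c), B (β₂ (j, i))
  have hDinv : ∀ j, ElInv x (D j) := by
    intro j
    apply el_inv_sup
    · apply el_inv_span_fixed
      rintro _ ⟨i, rfl⟩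
      exact hfix _
    · exact el_inv_iSup x _ (fun i => hBinv _)
  have hBle : ∀ b0, B b0 ≤ ⨆ j, D j := by
    intro b0
    have h : b0 = β₂ ((β₂.symm b0).1, (β₂.symm b0).2) := by simp
    rw [h]
    refine le_trans ?_ (le_iSup D (β₂.symm b0).1)
    refine le_trans ?_ le_sup_right
    exact le_iSup (fun i => B (β₂ ((β₂.symm b0).1, i))) (β₂.symm b0).2
  refine el_final n a t hat ha ht D ?_ ?_ (Fintype.card_fin t) x hinj ?_
  · rw [eq_top_iff, ← el_CN_top r hrp x hx]
    apply sup_le
    · rw [← hvspan, Submodule.span_le]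
      rintro _ ⟨i0, rfl⟩
      have h : i0 = β₁ (β₁.symm i0) := by simp
      rcases hs : β₁.symm i0 with ⟨j, i⟩ | ⟨π, i⟩
      · rw [h, hs]
        apply Submodule.mem_iSup_of_mem j
        apply Submodule.mem_sup_left
        exact Submodule.subset_span ⟨i, rfl⟩
      · rw [h, hs]
        apply hBle (Sum.inl π)
        exact Submodule.subset_span ⟨i, rfl⟩
    · rw [← hIsup]
      apply iSup_le
      intro i
      exact hBle (Sum.inr i)
  · intro j
    refine le_trans (Submodule.finrank_add_le_finrank_add_finrank _ _) ?_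
    have h1 : finrank F ↥(Submodule.span F (Set.range
        (fun i : Fin (a % c) => v (β₁ (Sum.inl (j, i)))))) ≤ a % c := by
      have := finrank_range_le_card (R := F) (fun i : Fin (a % c) => v (β₁ (Sum.inl (j, i))))
      rwa [Fintype.card_fin] at this
    have h2 : finrank F ↥(⨆ i : Fin (a / c), B (β₂ (j, i))) ≤ a / c * c := by
      refine le_trans (el_finrank_iSup_le _) ?_
      refine le_trans (Finset.sum_le_sum (fun i _ => hBdim (β₂ (j, i)))) ?_
      rw [Finset.sum_const, Finset.card_univ, Fintype.card_fin, smul_eq_mul]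
    have h3 : a / c * c = c * (a / c) := mul_comm _ _
    omega
  · intro j
    exact ⟨j, el_map_eq_of_inv x hinj _ (hDinv j)⟩

end Cfsg.Agent.Lib.Helper24
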