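import Cfsg.Agent.Lib.Helper24.ElY

set_option autoImplicit false

namespace Cfsg.Agent.Lib.Helper24

open Polynomial Module

theorem el_line_le {F : Type*} [Field F] {V : Type*} [AddCommGroup V] [Module F V] (y : V) :
    finrank F ↥(Submodule.span F ({y} : Set V)) ≤ 1 := by
  have h := finrank_range_le_card (R := F) (fun _ : Unit => y)
  rw [Set.range_const, Fintype.card_unit] at h
  exact h

theorem el_pow_fix {F : Type*} [Field F] {V : Type*} [AddCommGroup V] [Module F V]
    (x : Module.End F V) (v : V) (h : x v = v) (l : ℕ) : (x ^ l) v = v := by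
  induction l with
  | zero => simp
  | succ l ih => rw [pow_succ, Module.End.mul_apply, h, ih]

theorem el_suff_mono {F : Type*} [Field F] [Fintype F] {p : ℕ} [hp : Fact p.Prime] [CharP F p]
    (n : ℕ) (hn : 2 ≤ n) (r : ℕ) [hr : Fact r.Prime] (hrp : r ≠ p)
    (hcr : orderOf ((Fintype.card F : ℕ) : ZMod r) = r - 1)
    (hnk : n ≤ (n % orderOf ((Fintype.card F : ℕ) : ZMod r)) * r)
    (x : Module.End F (Fin n → F)) (hx : x ^ r = 1) :
    ∃ D' : Fin n → Submodule F (Fin n → F), Cfsg.Geo.IsMDecomposition 1 D' ∧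
      ∃ σ : Equiv.Perm (Fin n), ∀ j, (D' j).map x = D' (σ j) := by
  classical
  have hrpos : 0 < r := hr.out.pos
  have hr2 : 2 ≤ r := hr.out.two_le
  have hfr : finrank F (Fin n → F) = n := Module.finrank_fin_fun F
  have hcpos := el_ord_pos (F := F) r hrp
  have hrF := el_cast_ne_zero (F := F) r hrp
  obtain ⟨c, hc⟩ : ∃ c, orderOf ((Fintype.card F : ℕ) : ZMod r) = c := ⟨_, rfl⟩
  rw [hc] at hcr hnk hcpos
  have hx' : x ^ r = (1 : F) • 1 := by rw [one_smul, hx]
  have hinj := el_inj_of_pow x r hrpos 1 one_ne_zero hx'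
  have hdim := el_split_dim x (cyclotomic r F) (el_cyc_coprime r hrp) (el_cyc_kill r x hx)
  rw [hfr] at hdim
  have hNinv : ElInv x (LinearMap.ker (aeval x (cyclotomic r F))) := el_inv_ker x _
  have hNkill : ∀ u ∈ LinearMap.ker (aeval x (cyclotomic r F)),
      aeval x (cyclotomic r F) u = 0 := fun u hu => LinearMap.mem_ker.mp hu
  have hdegc : ∀ P : F[X], Irreducible P → P ∣ cyclotomic r F → P.natDegree = c := by
    intro P hP hd
    rw [el_cyc_deg r hrp P hP hd, hc]
  have hcN : c ∣ finrank F (LinearMap.ker (aeval x (cyclotomic r F))) :=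
    el_dvd_dim x _ hNinv (cyclotomic r F) (cyclotomic_ne_zero r F) hNkill c hcpos hdegc
  obtain ⟨m, hm⟩ := hcN
  obtain ⟨ι, hι, I, hcard, hIinv, hIdim, hIsup⟩ := el_pieces x r hrF
    1 one_ne_zero hx' (cyclotomic r F) (cyclotomic_ne_zero r F) c hdegc m _ hNinv
    hNkill (by rw [hm, mul_comm])
  obtain ⟨e, he⟩ : ∃ e, finrank F (LinearMap.ker (aeval x (X - 1 : F[X]))) = e := ⟨_, rfl⟩
  rw [he] at hdim
  obtain ⟨v, hvC, hvspan⟩ := el_span_basis (LinearMap.ker (aeval x (X - 1 : F[X]))) e he
  have hen : e + c * m = n := by rw [← hm]; exact hdim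
  have hme : m ≤ e := by
    have h1 : n % c = e % c := by rw [← hen, Nat.add_mul_mod_self_left]
    have h2 : e % c ≤ e := Nat.mod_le e c
    have h3 : r = c + 1 := by omega
    rw [h1, h3, ← hen] at hnk
    by_contra hcon
    push Not at hcon
    have h4 : e % c + 1 ≤ m := by omega
    nlinarith
  have hfix : ∀ i, x (v i) = v i := fun i => el_fix_of_mem x (v i) (hvC i)
  have hc1 : Fintype.card (ι ⊕ Fin (e - m)) = Fintype.card (Fin e) := by
    simp only [Fintype.card_sum, Fintype.card_fin]
    rw [hcard]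
    omega
  let β : ι ⊕ Fin (e - m) ≃ Fin e := Fintype.equivOfCardEq hc1
  have hex : ∀ i : ι, ∃ u ∈ I i, u ≠ 0 := by
    intro i
    apply Submodule.exists_mem_ne_zero_of_ne_bot
    intro h
    have := hIdim i
    rw [h, finrank_bot] at this
    omega
  choose u hu hu0 using hex
  have hIN : ∀ i, I i ≤ LinearMap.ker (aeval x (cyclotomic r F)) := by
    intro i
    rw [← hIsup]
    exact le_iSup I i
  have hZ : ∀ i, elZ x r (u i) = I i := fun i =>
    el_Z_eq x r hrpos 1 hx' _ (cyclotomic_ne_zero r F) c hcpos hdegc (I i) (hIinv i)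
      (fun w hw => hNkill w (hIN i hw)) (hIdim i) (u i) (hu i) (hu0 i)
  let w : ι → (Fin n → F) := fun i => u i + v (β (Sum.inl i))
  let L : (ι × Fin r) ⊕ Fin (e - m) → Submodule F (Fin n → F) := Sum.elim
    (fun il => Submodule.span F {(x ^ (il.2 : ℕ)) (w il.1)})
    (fun j => Submodule.span F {v (β (Sum.inr j))})
  have hTu : ∀ i, ∑ l ∈ Finset.range r, (x ^ l) (u i) = 0 := by
    intro i
    have h1 := hNkill (u i) (hIN i (hu i))
    rw [cyclotomic_prime, map_sum, LinearMap.sum_apply] at h1
    rw [← h1]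
    apply Finset.sum_congr rfl
    intro l _
    rw [map_pow, aeval_X]
  have hcardL : Fintype.card ((ι × Fin r) ⊕ Fin (e - m)) = n := by
    simp only [Fintype.card_sum, Fintype.card_prod, Fintype.card_fin]
    rw [hcard, ← hen]
    have h3 : r = c + 1 := by omega
    rw [h3]
    have : m * (c + 1) = c * m + m := by ring
    omega
  refine el_final n 1 n (by rw [one_mul]) le_rfl hn L ?_ ?_ hcardL x hinj ?_
  · have hwS : ∀ i, ∀ l < r, (x ^ l) (w i) ∈ ⨆ k, L k := by
      intro i l hl
      apply Submodule.mem_iSup_of_mem (Sum.inl (i, (⟨l, hl⟩ : Fin r)))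
      exact Submodule.subset_span rfl
    have hvS1 : ∀ i : ι, v (β (Sum.inl i)) ∈ ⨆ k, L k := by
      intro i
      have h1 : ∑ l ∈ Finset.range r, (x ^ l) (w i) ∈ ⨆ k, L k :=
        Submodule.sum_mem _ (fun l hl => hwS i l (Finset.mem_range.mp hl))
      have h2 : ∑ l ∈ Finset.range r, (x ^ l) (w i) = (r : F) • v (β (Sum.inl i)) := by
        have h3 : ∀ l ∈ Finset.range r, (x ^ l) (w i) = (x ^ l) (u i) + v (β (Sum.inl i)) := by
          intro l _
          show (x ^ l) (u i + v (β (Sum.inl i))) = _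
          rw [map_add, el_pow_fix x _ (hfix _) l]
        rw [Finset.sum_congr rfl h3, Finset.sum_add_distrib, hTu i, zero_add, Finset.sum_const,
          Finset.card_range, Nat.cast_smul_eq_nsmul]
      rw [h2] at h1
      exact (Submodule.smul_mem_iff _ hrF).mp h1
    have hvS : ∀ i0, v i0 ∈ ⨆ k, L k := by
      intro i0
      have h : i0 = β (β.symm i0) := by simp
      rcases hs : β.symm i0 with i | j
      · rw [h, hs]
        exact hvS1 i
      · rw [h, hs]
        apply Submodule.mem_iSup_of_mem (Sum.inr j)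
        exact Submodule.subset_span rfl
    rw [eq_top_iff, ← el_CN_top r hrp x hx]
    apply sup_le
    · rw [← hvspan, Submodule.span_le]
      rintro _ ⟨i0, rfl⟩
      exact hvS i0
    · rw [← hIsup]
      apply iSup_le
      intro i
      rw [← hZ i]
      apply el_Z_le_of_mem
      intro l hl
      have h1 : (x ^ l) (u i) = (x ^ l) (w i) - v (β (Sum.inl i)) := by
        show _ = (x ^ l) (u i + v (β (Sum.inl i))) - _
        rw [map_add, el_pow_fix x _ (hfix _) l, add_sub_cancel_right]
      rw [h1]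
      exact Submodule.sub_mem _ (hwS i l hl) (hvS1 i)
  · intro k
    rcases k with ⟨i, l⟩ | j
    · exact el_line_le _
    · exact el_line_le _
  · intro k
    rcases k with ⟨i, l⟩ | j
    · by_cases h : (l : ℕ) + 1 < r
      · refine ⟨Sum.inl (i, ⟨(l : ℕ) + 1, h⟩), ?_⟩
        show (Submodule.span F {(x ^ (l : ℕ)) (w i)}).map x =
          Submodule.span F {(x ^ ((l : ℕ) + 1)) (w i)}
        rw [Submodule.map_span, Set.image_singleton, ← Module.End.mul_apply, ← pow_succ']
      · have hl : (l : ℕ) + 1 = r := by have := l.isLt; omega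
        refine ⟨Sum.inl (i, ⟨0, hrpos⟩), ?_⟩
        show (Submodule.span F {(x ^ (l : ℕ)) (w i)}).map x =
          Submodule.span F {(x ^ 0) (w i)}
        rw [Submodule.map_span, Set.image_singleton, ← Module.End.mul_apply, ← pow_succ', hl, hx,
          pow_zero]
    · refine ⟨Sum.inr j, ?_⟩
      show (Submodule.span F {v (β (Sum.inr j))}).map x = Submodule.span F {v (β (Sum.inr j))}
      rw [Submodule.map_span, Set.image_singleton, hfix]

end Cfsg.Agent.Lib.Helper24
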