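import Cfsg.Agent.Lib.Helper24.ElZ
import Cfsg.Agent.Lib.Helper24.ElS

set_option autoImplicit false

namespace Cfsg.Agent.Lib.Helper24

open Polynomial Module

theorem el_suff_decomp {F : Type*} [Field F] [Fintype F] {p : ℕ} [hp : Fact p.Prime] [CharP F p]
    (n a t : ℕ) (hn : 2 ≤ n) (hat : n = a * t) (ha : 1 ≤ a) (ht : 2 ≤ t)
    (r : ℕ) [hr : Fact r.Prime] (hrp : r ≠ p)
    (hcond : (a = 1 ∧ 1 < orderOf ((Fintype.card F : ℕ) : ZMod r) ∧
        orderOf ((Fintype.card F : ℕ) : ZMod r) = r - 1 ∧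
        n ≤ (n % orderOf ((Fintype.card F : ℕ) : ZMod r)) * r) ∨
      (orderOf ((Fintype.card F : ℕ) : ZMod r) ≤ a ∧
        n % orderOf ((Fintype.card F : ℕ) : ZMod r) =
          t * (a % orderOf ((Fintype.card F : ℕ) : ZMod r))))
    (x : Matrix (Fin n) (Fin n) F) (hdet : x.det = 1) (z : F) (hx : x ^ r = z • 1) :
    ∃ D : Fin t → Submodule F (Fin n → F), Cfsg.Geo.IsMDecomposition a D ∧
      ∃ σ : Equiv.Perm (Fin t), ∀ j, (D j).map (Matrix.toLin' x) = D (σ j) := by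
  have hz0 : z ≠ 0 := el_scalar_ne_zero n (by omega) r x hdet z hx
  have hf : Matrix.toLin' x ^ r = z • 1 := by
    rw [← Matrix.toLin'_pow, hx, map_smul, Matrix.toLin'_one]
    rfl
  by_cases hpow : ∃ w : F, w ^ r = z
  · obtain ⟨w, rfl⟩ := hpow
    have hw : w ≠ 0 := by
      intro h
      rw [h, zero_pow hr.out.ne_zero] at hz0
      exact hz0 rfl
    have hf' : (w⁻¹ • Matrix.toLin' x) ^ r = 1 := by
      rw [_root_.smul_pow, hf, smul_smul, inv_pow, inv_mul_cancel₀ (pow_ne_zero _ hw), one_smul]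
    have hmap : ∀ W : Submodule F (Fin n → F),
        W.map (w⁻¹ • Matrix.toLin' x) = W.map (Matrix.toLin' x) :=
      fun W => Submodule.map_smul _ W w⁻¹ (inv_ne_zero hw)
    rcases hcond with ⟨ha1, _, hcr, hnk⟩ | ⟨_, hk⟩
    · subst ha1
      have htn : t = n := by rw [hat, one_mul]
      subst htn
      obtain ⟨D, hD, σ, hσ⟩ := el_suff_mono t hn r hrp hcr hnk _ hf'
      exact ⟨D, hD, σ, fun j => by rw [← hmap]; exact hσ j⟩
    · obtain ⟨D, hD, σ, hσ⟩ := el_suff_inv n a t hat ha ht r hrp hk _ hf'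
      exact ⟨D, hD, σ, fun j => by rw [← hmap]; exact hσ j⟩
  · push Not at hpow
    have hirr : Irreducible (X ^ r - C z : F[X]) := X_pow_sub_C_irreducible_of_prime hr.out hpow
    exact el_suff_irr n a t hat ha ht r (el_cast_ne_zero (F := F) r hrp) z hz0 _ hf hirr

end Cfsg.Agent.Lib.Helper24
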