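import Cfsg.Agent.Lib.Helper24.ElF

set_option autoImplicit false

namespace Cfsg.Agent.Lib.Helper24

open Polynomial Module

theorem el_transport3 {F V : Type*} [Field F] [AddCommGroup V] [Module F V]
    [FiniteDimensional F V] (n : ℕ) (hn : finrank F V = n) (g : Module.End F V) :
    ∃ (x : Matrix (Fin n) (Fin n) F) (ψ : Module.End F V ≃ₐ[F] Module.End F (Fin n → F)),
      Matrix.toLin' x = ψ g ∧ x.det = LinearMap.det g ∧ (∀ c : F, x = c • 1 → g = c • 1) ∧
      (∀ h : Module.End F V, finrank F (LinearMap.ker (ψ h)) = finrank F (LinearMap.ker h)) := by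
  have hfr : finrank F V = finrank F (Fin n → F) := by rw [hn, Module.finrank_fin_fun]
  let e : V ≃ₗ[F] (Fin n → F) := LinearEquiv.ofFinrankEq V (Fin n → F) hfr
  let ψ : Module.End F V ≃ₐ[F] Module.End F (Fin n → F) := LinearEquiv.conjAlgEquiv F e
  have hψ : ∀ h : Module.End F V, ψ h = (e : V →ₗ[F] (Fin n → F)) ∘ₗ h ∘ₗ
      (e.symm : (Fin n → F) →ₗ[F] V) := fun h => rfl
  refine ⟨LinearMap.toMatrix' (ψ g), ψ, Matrix.toLin'_toMatrix' _, ?_, ?_, ?_⟩
  · rw [← LinearMap.det_toLin', Matrix.toLin'_toMatrix', hψ, LinearMap.det_conj]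
  · intro c h
    apply ψ.injective
    rw [map_smul, map_one, ← Matrix.toLin'_toMatrix' (ψ g), h, map_smul, Matrix.toLin'_one]
    rfl
  · intro h
    have h1 : LinearMap.ker (ψ h) = (LinearMap.ker h).map (e : V →ₗ[F] (Fin n → F)) := by
      ext v
      rw [LinearMap.mem_ker, hψ, Submodule.mem_map_equiv, LinearMap.mem_ker]
      simp
    rw [h1]
    exact LinearEquiv.finrank_map_eq e _

theorem el_build3 {F : Type*} [Field F] (P : F[X]) (hP : Irreducible P) (hm : P.Monic)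
    (h1 : P.eval 1 ≠ 0) (b a₀ n : ℕ) (hn : n = b * P.natDegree + a₀) :
    ∃ x : Matrix (Fin n) (Fin n) F,
      x.det = ((-1) ^ P.natDegree * P.coeff 0) ^ b ∧
      aeval (Matrix.toLin' x) ((X - 1) * P) = 0 ∧
      finrank F (LinearMap.ker (aeval (Matrix.toLin' x) (X - 1 : F[X]))) = a₀ ∧
      (1 ≤ b → 2 ≤ P.natDegree → ∀ c : F, x ≠ c • 1) := by
  have : Fact (Irreducible P) := ⟨hP⟩
  obtain ⟨hfd, hfr⟩ := el_finrank_V P b a₀
  obtain ⟨x, ψ, hxψ, hdet, hsc, hker⟩ := el_transport3 n (hfr.trans hn.symm) (elG P b a₀)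
  have haev : ∀ Q : F[X], aeval (Matrix.toLin' x) Q = ψ (aeval (elG P b a₀) Q) := by
    intro Q
    rw [hxψ]
    exact aeval_algHom_apply (ψ : Module.End F ((Fin b → AdjoinRoot P) × (Fin a₀ → F)) →ₐ[F]
      Module.End F (Fin n → F)) _ Q
  refine ⟨x, ?_, ?_, ?_, ?_⟩
  · rw [hdet, el_det_G P b a₀ hm]
  · rw [haev]
    have hkill : aeval (elG P b a₀) ((X - 1) * P) = 0 := by
      apply el_aeval_G_of_dvd P b a₀ _ (Dvd.intro_left _ rfl)
      intro _
      simp
    rw [hkill, map_zero]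
  · rw [haev, hker]
    apply le_antisymm (el_ker_G P b a₀ h1)
    have hle : LinearMap.range (LinearMap.inr F (Fin b → AdjoinRoot P) (Fin a₀ → F)) ≤
        LinearMap.ker (aeval (elG P b a₀) (X - 1 : F[X])) := by
      rintro _ ⟨v, rfl⟩
      rw [LinearMap.mem_ker, el_aeval_G]
      simp
    have h2 := Submodule.finrank_mono hle
    rwa [LinearMap.finrank_range_of_inj LinearMap.inr_injective, Module.finrank_fin_fun] at h2
  · intro hb hd c hx
    exact el_G_not_scalar P b a₀ hb hd c (hsc c hx)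

end Cfsg.Agent.Lib.Helper24
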