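import Cfsg.Agent.Lib.Helper24.ElX
import Cfsg.Agent.Lib.Helper24.ElD

set_option autoImplicit false

namespace Cfsg.Agent.Lib.Helper24

open Polynomial Module

variable {F : Type*} [Field F] {V : Type*} [AddCommGroup V] [Module F V]

theorem el_proj {ι : Type*} (D : ι → Submodule F V) (hind : iSupIndep D) (hsup : ⨆ i, D i = ⊤) :
    ∃ π : ι → Module.End F V, (∀ j v, v ∈ D j → π j v = v) ∧
      (∀ i j v, i ≠ j → v ∈ D i → π j v = 0) := by
  classical
  have hc : ∀ j, IsCompl (D j) (⨆ (i) (_ : i ≠ j), D i) := by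
    intro j
    refine ⟨(iSupIndep_def.mp hind) j, ?_⟩
    rw [codisjoint_iff, eq_top_iff, ← hsup]
    apply iSup_le
    intro i
    by_cases h : i = j
    · rw [h]; exact le_sup_left
    · exact le_sup_of_le_right (le_iSup₂_of_le i h le_rfl)
  refine ⟨fun j => (D j).projection _ (hc j), ?_, ?_⟩
  · intro j v hv
    exact Submodule.projection_apply_of_mem_left (hc j) hv
  · intro i j v hij hv
    apply Submodule.projection_apply_of_mem_right (hc j)
    exact Submodule.mem_iSup_of_mem i (Submodule.mem_iSup_of_mem hij hv)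

theorem el_map_pow_D {ι : Type*} (D : ι → Submodule F V) (x : Module.End F V)
    (σ : Equiv.Perm ι) (hσ : ∀ j, (D j).map x = D (σ j)) (i : ℕ) (j : ι) :
    (D j).map (x ^ i) = D ((σ ^ i) j) := by
  induction i with
  | zero =>
    rw [pow_zero, pow_zero, Module.End.one_eq_id, Submodule.map_id]
    rfl
  | succ i ih =>
    rw [pow_succ', Module.End.mul_eq_comp, Submodule.map_comp, ih, hσ, pow_succ',
      Equiv.Perm.mul_apply]

theorem el_pow_mem_D {ι : Type*} (D : ι → Submodule F V) (x : Module.End F V)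
    (σ : Equiv.Perm ι) (hσ : ∀ j, (D j).map x = D (σ j)) (i : ℕ) (j : ι) (v : V)
    (hv : v ∈ D j) : (x ^ i) v ∈ D ((σ ^ i) j) := by
  rw [← el_map_pow_D D x σ hσ i j]
  exact ⟨v, hv, rfl⟩

theorem el_sigma_pow {ι : Type*} (D : ι → Submodule F V) (x : Module.End F V)
    (σ : Equiv.Perm ι) (hσ : ∀ j, (D j).map x = D (σ j)) (hDinj : Function.Injective D)
    (r : ℕ) (hx : x ^ r = 1) : σ ^ r = 1 := by
  ext j
  apply hDinj
  rw [← el_map_pow_D D x σ hσ r j, hx, Module.End.one_eq_id, Submodule.map_id]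
  rfl

theorem el_tau_inj {ι : Type*} (σ : Equiv.Perm ι) (r : ℕ) (hr : r.Prime) (hσr : σ ^ r = 1)
    (j : ι) (hj : σ j ≠ j) (i i' : ℕ) (hi : i < r) (hi' : i' < r)
    (h : (σ ^ i) j = (σ ^ i') j) : i = i' := by
  have key : ∀ a b : ℕ, a ≤ b → b < r → (σ ^ a) j = (σ ^ b) j → a = b := by
    intro a b hab hb hh
    by_contra hne
    have hd : 0 < b - a := by omega
    have h1 : (σ ^ (b - a)) j = j := by
      have h2 : (σ ^ b) j = (σ ^ a) ((σ ^ (b - a)) j) := by
        rw [← Equiv.Perm.mul_apply, ← pow_add]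
        congr 2
        omega
      rw [h2] at hh
      exact ((σ ^ a).injective hh).symm
    have h3 : (σ ^ r) j = j := by rw [hσr]; rfl
    have p1 : MulAction.period σ j ∣ b - a := MulAction.pow_smul_eq_iff_period_dvd.mp h1
    have p2 : MulAction.period σ j ∣ r := MulAction.pow_smul_eq_iff_period_dvd.mp h3
    have p3 : MulAction.period σ j = 1 := by
      rcases (Nat.dvd_prime hr).mp p2 with h | h
      · exact h
      · rw [h] at p1
        have := Nat.le_of_dvd hd p1
        omega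
    exact hj (MulAction.period_eq_one_iff.mp p3)
  rcases Nat.le_total i i' with h1 | h1
  · exact key i i' h1 hi' h
  · exact (key i' i h1 hi h.symm).symm

theorem el_pow_ne_zero (x : Module.End F V) (hinj : Function.Injective x) (i : ℕ) (v : V)
    (hv : v ≠ 0) : (x ^ i) v ≠ 0 := by
  induction i with
  | zero => simpa using hv
  | succ i ih =>
    rw [pow_succ', Module.End.mul_apply]
    intro h
    exact ih (hinj (by rw [h, map_zero]))

theorem el_poly_kill {ι : Type*} (D : ι → Submodule F V) (hind : iSupIndep D)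
    (hsup : ⨆ i, D i = ⊤) (x : Module.End F V) (σ : Equiv.Perm ι)
    (hσ : ∀ j, (D j).map x = D (σ j)) (r : ℕ) (hr : r.Prime) (hx : x ^ r = 1)
    (hσr : σ ^ r = 1) (j : ι) (hj : σ j ≠ j) (hDj : D j ≠ ⊥)
    (Q : F[X]) (hQd : Q.natDegree < r) (hQ : aeval x Q = 0) : Q = 0 := by
  classical
  obtain ⟨π, hπ1, hπ2⟩ := el_proj D hind hsup
  obtain ⟨d, hd, hd0⟩ := Submodule.exists_mem_ne_zero_of_ne_bot hDj
  have hinj : Function.Injective x :=
    el_inj_of_pow x r hr.pos 1 one_ne_zero (by rw [one_smul, hx])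
  have h0 : ∑ i ∈ Finset.range r, Q.coeff i • (x ^ i) d = 0 := by
    have := congrArg (fun f : Module.End F V => f d) hQ
    simp only [LinearMap.zero_apply] at this
    rw [aeval_eq_sum_range' hQd, LinearMap.sum_apply] at this
    simpa using this
  ext m
  rw [coeff_zero]
  by_cases hm : m < r
  · have h1 := congrArg (π ((σ ^ m) j)) h0
    rw [map_sum, map_zero, Finset.sum_eq_single m] at h1
    · rw [map_smul, hπ1 _ _ (el_pow_mem_D D x σ hσ m j d hd)] at h1
      exact (smul_eq_zero.mp h1).resolve_right (el_pow_ne_zero x hinj m d hd0)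
    · intro i hi him
      rw [map_smul, hπ2 ((σ ^ i) j) ((σ ^ m) j) _ ?_ (el_pow_mem_D D x σ hσ i j d hd), smul_zero]
      intro h
      exact him (el_tau_inj σ r hr hσr j hj i m (Finset.mem_range.mp hi) hm h)
    · intro h
      exact absurd (Finset.mem_range.mpr hm) h
  · exact coeff_eq_zero_of_natDegree_lt (by omega)

theorem el_avg_mul (x : Module.End F V) (r : ℕ) (hx : x ^ r = 1) :
    x * ∑ i ∈ Finset.range r, x ^ i = ∑ i ∈ Finset.range r, x ^ i := by
  rw [Finset.mul_sum]
  have h1 : ∑ i ∈ Finset.range r, x * x ^ i = ∑ i ∈ Finset.range r, x ^ (i + 1) :=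
    Finset.sum_congr rfl (fun i _ => (pow_succ' x i).symm)
  rw [h1]
  have e1 : ∑ i ∈ Finset.range r, x ^ (i + 1) + x ^ 0 = ∑ i ∈ Finset.range r, x ^ i + x ^ r := by
    rw [← Finset.sum_range_succ', Finset.sum_range_succ]
  rw [pow_zero, hx] at e1
  exact add_right_cancel e1

theorem el_avg_mem (x : Module.End F V) (r : ℕ) (hx : x ^ r = 1) (v : V) :
    (∑ i ∈ Finset.range r, x ^ i) v ∈ LinearMap.ker (aeval x (X - 1 : F[X])) := by
  rw [LinearMap.mem_ker, map_sub, aeval_X, map_one, LinearMap.sub_apply, Module.End.one_apply,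
    ← Module.End.mul_apply, el_avg_mul x r hx, sub_self]

theorem el_avg_inj [FiniteDimensional F V] {ι : Type*} (D : ι → Submodule F V)
    (hind : iSupIndep D) (hsup : ⨆ i, D i = ⊤) (x : Module.End F V) (σ : Equiv.Perm ι)
    (hσ : ∀ j, (D j).map x = D (σ j)) (r : ℕ) (hr : r.Prime) (hx : x ^ r = 1)
    (hσr : σ ^ r = 1) (j : ι) (hj : σ j ≠ j) :
    finrank F (D j) ≤ finrank F (LinearMap.ker (aeval x (X - 1 : F[X]))) := by
  classical
  obtain ⟨π, hπ1, hπ2⟩ := el_proj D hind hsup
  let g : D j →ₗ[F] V := (∑ i ∈ Finset.range r, x ^ i).domRestrict (D j)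
  have hg : ∀ d : D j, g d = ∑ i ∈ Finset.range r, (x ^ i) (d : V) := by
    intro d
    show (∑ i ∈ Finset.range r, x ^ i) (d : V) = _
    rw [LinearMap.sum_apply]
  have hπg : ∀ d : D j, π j (g d) = (d : V) := by
    intro d
    rw [hg, map_sum, Finset.sum_eq_single 0]
    · rw [pow_zero, Module.End.one_apply]
      exact hπ1 j _ d.2
    · intro i hi hi0
      apply hπ2 ((σ ^ i) j) j _ _ (el_pow_mem_D D x σ hσ i j _ d.2)
      intro h
      apply hi0
      exact el_tau_inj σ r hr hσr j hj i 0 (Finset.mem_range.mp hi) hr.pos (by rw [h]; rfl)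
    · intro h
      exact absurd (Finset.mem_range.mpr hr.pos) h
  have hginj : Function.Injective g := by
    rw [← LinearMap.ker_eq_bot, eq_bot_iff]
    intro d hd
    rw [LinearMap.mem_ker] at hd
    rw [Submodule.mem_bot]
    apply Subtype.ext
    rw [← hπg d, hd, map_zero]
    rfl
  have hrange : LinearMap.range g ≤ LinearMap.ker (aeval x (X - 1 : F[X])) := by
    rintro _ ⟨d, rfl⟩
    exact el_avg_mem x r hx _
  rw [← LinearMap.finrank_range_of_inj hginj]
  exact Submodule.finrank_mono hrange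

end Cfsg.Agent.Lib.Helper24
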