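import Cfsg.Agent.Lib.Helper24.ElZd
import Cfsg.Agent.Lib.Helper24.ElZ

set_option autoImplicit false

namespace Cfsg.Agent.Lib.Helper24

open Polynomial Module

variable {F : Type*} [Field F] {V : Type*} [AddCommGroup V] [Module F V]

theorem el_pow_mod_apply {ι : Type*} (σ : Equiv.Perm ι) (r : ℕ) (hσr : σ ^ r = 1) (i : ℕ) :
    σ ^ i = σ ^ (i % r) := by
  conv_lhs => rw [← Nat.div_add_mod i r, pow_add, pow_mul, hσr, one_pow, one_mul]

theorem el_orbit_bound [FiniteDimensional F V] {ι : Type*} [Fintype ι] (D : ι → Submodule F V)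
    (hind : iSupIndep D) (hsup : ⨆ i, D i = ⊤) (x : Module.End F V) (σ : Equiv.Perm ι)
    (hσ : ∀ j, (D j).map x = D (σ j)) (r : ℕ) (hr : r.Prime) (hrF : (r : F) ≠ 0)
    (hx : x ^ r = 1) (hσr : σ ^ r = 1) (hD0 : ∀ i, D i ≠ ⊥)
    (hfixC : ∀ j, σ j = j → D j ≤ LinearMap.ker (aeval x (X - 1 : F[X]))) :
    Fintype.card ι ≤ r * finrank F (LinearMap.ker (aeval x (X - 1 : F[X]))) := by
  classical
  obtain ⟨π, hπ1, hπ2⟩ := el_proj D hind hsup
  let s : Setoid ι := Equiv.Perm.SameCycle.setoid σ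
  have : Fintype (Quotient s) := Fintype.ofFinite _
  let mk : ι → Quotient s := Quotient.mk s
  let rep : Quotient s → ι := Quotient.out
  have hrep : ∀ j, ∃ i, i < r ∧ (σ ^ i) (rep (mk j)) = j := by
    intro j
    have h1 : σ.SameCycle (rep (mk j)) j := Quotient.mk_out (s := s) j
    obtain ⟨i, hi⟩ := h1.exists_nat_pow_eq
    refine ⟨i % r, Nat.mod_lt _ hr.pos, ?_⟩
    rw [← el_pow_mod_apply σ r hσr i]
    exact hi
  choose idx hidx1 hidx2 using hrep
  have hcard1 : Fintype.card ι ≤ Fintype.card (Quotient s) * r := by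
    have hinj : Function.Injective (fun j : ι => ((mk j, (⟨idx j, hidx1 j⟩ : Fin r)) :
        Quotient s × Fin r)) := by
      intro j j' h
      have h1 : mk j = mk j' := congrArg Prod.fst h
      have h2 : idx j = idx j' := congrArg (fun q : Quotient s × Fin r => (q.2 : ℕ)) h
      rw [← hidx2 j, ← hidx2 j', h1, h2]
    have := Fintype.card_le_of_injective _ hinj
    rwa [Fintype.card_prod, Fintype.card_fin] at this
  have hex : ∀ ω : Quotient s, ∃ d ∈ D (rep ω), d ≠ 0 := fun ω =>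
    Submodule.exists_mem_ne_zero_of_ne_bot (hD0 _)
  choose d hd hd0 using hex
  let T : Module.End F V := ∑ i ∈ Finset.range r, x ^ i
  have hT : ∀ v, T v = ∑ i ∈ Finset.range r, (x ^ i) v := by
    intro v
    show (∑ i ∈ Finset.range r, x ^ i) v = _
    rw [LinearMap.sum_apply]
  have hmkrep : ∀ ω : Quotient s, mk (rep ω) = ω := fun ω => Quotient.out_eq ω
  have hproj_ne : ∀ ω ω₀ : Quotient s, ω ≠ ω₀ → π (rep ω₀) (T (d ω)) = 0 := by
    intro ω ω₀ hne
    rw [hT, map_sum]
    apply Finset.sum_eq_zero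
    intro i _
    apply hπ2 _ _ _ _ (el_pow_mem_D D x σ hσ i _ _ (hd ω))
    intro h
    apply hne
    rw [← hmkrep ω, ← hmkrep ω₀]
    apply Quotient.sound
    show σ.SameCycle (rep ω) (rep ω₀)
    exact ⟨(i : ℤ), by rw [zpow_natCast]; exact h⟩
  have hproj_eq : ∀ ω₀ : Quotient s, ∃ c : F, c ≠ 0 ∧ π (rep ω₀) (T (d ω₀)) = c • d ω₀ := by
    intro ω₀
    by_cases hfix : σ (rep ω₀) = rep ω₀
    · refine ⟨(r : F), hrF, ?_⟩
      have hxd : x (d ω₀) = d ω₀ := el_fix_of_mem x _ (hfixC _ hfix (hd ω₀))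
      have h1 : T (d ω₀) = (r : F) • d ω₀ := by
        rw [hT, Finset.sum_congr rfl (fun i _ => el_pow_fix x _ hxd i), Finset.sum_const,
          Finset.card_range, Nat.cast_smul_eq_nsmul]
      rw [h1, map_smul, hπ1 _ _ (hd ω₀)]
    · refine ⟨1, one_ne_zero, ?_⟩
      rw [one_smul, hT, map_sum, Finset.sum_eq_single 0]
      · rw [pow_zero, Module.End.one_apply]
        exact hπ1 _ _ (hd ω₀)
      · intro i hi hi0
        apply hπ2 ((σ ^ i) (rep ω₀)) (rep ω₀) _ _ (el_pow_mem_D D x σ hσ i _ _ (hd ω₀))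
        intro h
        apply hi0
        exact el_tau_inj σ r hr hσr _ hfix i 0 (Finset.mem_range.mp hi) hr.pos (by rw [h]; rfl)
      · intro h
        exact absurd (Finset.mem_range.mpr hr.pos) h
  have hli : LinearIndependent F (fun ω : Quotient s => T (d ω)) := by
    rw [Fintype.linearIndependent_iff]
    intro g hg ω₀
    have h1 := congrArg (π (rep ω₀)) hg
    rw [map_sum, map_zero, Finset.sum_eq_single ω₀] at h1
    · obtain ⟨c, hc0, hc⟩ := hproj_eq ω₀
      rw [map_smul, hc, smul_smul] at h1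
      rcases smul_eq_zero.mp h1 with h2 | h2
      · exact (mul_eq_zero.mp h2).resolve_right hc0
      · exact absurd h2 (hd0 ω₀)
    · intro ω _ hne
      rw [map_smul, hproj_ne ω ω₀ hne, smul_zero]
    · intro h
      exact absurd (Finset.mem_univ ω₀) h
  have hcard2 : Fintype.card (Quotient s) ≤
      finrank F (LinearMap.ker (aeval x (X - 1 : F[X]))) := by
    rw [← finrank_span_eq_card hli]
    apply Submodule.finrank_mono
    rw [Submodule.span_le]
    rintro _ ⟨ω, rfl⟩
    exact el_avg_mem x r hx _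
  calc Fintype.card ι ≤ Fintype.card (Quotient s) * r := hcard1
    _ ≤ finrank F (LinearMap.ker (aeval x (X - 1 : F[X]))) * r := Nat.mul_le_mul_right r hcard2
    _ = r * finrank F (LinearMap.ker (aeval x (X - 1 : F[X]))) := mul_comm _ _

end Cfsg.Agent.Lib.Helper24
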