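import Cfsg.Agent.Lib.Helper24.ElZe
import Cfsg.Agent.Lib.Helper24.ElZb
import Cfsg.Agent.Lib.Helper24.ElH

set_option autoImplicit false

namespace Cfsg.Agent.Lib.Helper24

open Polynomial Module

theorem el_inv_split {F : Type*} [Field F] {V : Type*} [AddCommGroup V] [Module F V]
    [FiniteDimensional F V] (f : Module.End F V) (P : F[X]) (hP0 : P ≠ 0)
    (hcop : IsCoprime (X - 1 : F[X]) P) (hkill : aeval f ((X - 1) * P) = 0) (c : ℕ)
    (hcpos : 0 < c) (hdeg : ∀ P' : F[X], Irreducible P' → P' ∣ P → P'.natDegree = c)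
    (W : Submodule F V) (hW : ElInv f W) :
    ∃ u : ℕ, finrank F W = finrank F ↥(W ⊓ LinearMap.ker (aeval f (X - 1 : F[X]))) + c * u := by
  have h1 := el_split_W f P hcop hkill W hW
  have h2 := el_dvd_dim f (W ⊓ LinearMap.ker (aeval f P)) (el_inv_inf hW (el_inv_ker f P)) P hP0
    (fun u hu => LinearMap.mem_ker.mp (Submodule.mem_inf.mp hu).2) c hcpos hdeg
  obtain ⟨u, hu⟩ := h2
  exact ⟨u, by rw [h1, hu]⟩

theorem el_small_fixed {F : Type*} [Field F] {V : Type*} [AddCommGroup V] [Module F V]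
    [FiniteDimensional F V] (f : Module.End F V) (P : F[X]) (hP0 : P ≠ 0)
    (hcop : IsCoprime (X - 1 : F[X]) P) (hkill : aeval f ((X - 1) * P) = 0) (c : ℕ)
    (hcpos : 0 < c) (hdeg : ∀ P' : F[X], Irreducible P' → P' ∣ P → P'.natDegree = c)
    (W : Submodule F V) (hW : ElInv f W) (hWc : finrank F W < c) :
    W ≤ LinearMap.ker (aeval f (X - 1 : F[X])) := by
  obtain ⟨u, hu⟩ := el_inv_split f P hP0 hcop hkill c hcpos hdeg W hW
  have hu0 : u = 0 := by
    rcases Nat.eq_zero_or_pos u with h | h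
    · exact h
    · have : c ≤ c * u := Nat.le_mul_of_pos_right c h
      omega
  rw [hu0, mul_zero, add_zero] at hu
  have h3 : W ⊓ LinearMap.ker (aeval f (X - 1 : F[X])) = W :=
    Submodule.eq_of_le_of_finrank_eq inf_le_left hu.symm
  rw [← h3]
  exact inf_le_right

end Cfsg.Agent.Lib.Helper24
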