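import Cfsg.Agent.Lib.Helper24.ElZf
import Cfsg.Agent.Lib.Helper24.ElG

set_option autoImplicit false

namespace Cfsg.Agent.Lib.Helper24

open Polynomial Module

theorem el_nec_decomp {F : Type*} [Field F] [Fintype F] {p : ℕ} [hp : Fact p.Prime] [CharP F p]
    (n a t : ℕ) (hat : n = a * t) (ha : 1 ≤ a)
    (r : ℕ) [hr : Fact r.Prime] (hrp : r ≠ p)
    (hc2 : 2 ≤ orderOf ((Fintype.card F : ℕ) : ZMod r))
    (hcn : orderOf ((Fintype.card F : ℕ) : ZMod r) ≤ n)
    (hall : ∀ x : Matrix (Fin n) (Fin n) F, x.det = 1 → (∃ z : F, x ^ r = z • 1) →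
      (∀ z : F, x ≠ z • 1) →
      ∃ D : Fin t → Submodule F (Fin n → F), Cfsg.Geo.IsMDecomposition a D ∧
        ∃ σ : Equiv.Perm (Fin t), ∀ j, (D j).map (Matrix.toLin' x) = D (σ j)) :
    (a = 1 ∧ 1 < orderOf ((Fintype.card F : ℕ) : ZMod r) ∧
        orderOf ((Fintype.card F : ℕ) : ZMod r) = r - 1 ∧
        n ≤ (n % orderOf ((Fintype.card F : ℕ) : ZMod r)) * r) ∨
      (orderOf ((Fintype.card F : ℕ) : ZMod r) ≤ a ∧
        n % orderOf ((Fintype.card F : ℕ) : ZMod r) =
          t * (a % orderOf ((Fintype.card F : ℕ) : ZMod r))) := by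
  classical
  have hq1 : 1 ≤ Fintype.card F := Fintype.card_pos
  have hfr : finrank F (Fin n → F) = n := Module.finrank_fin_fun F
  have hrF := el_cast_ne_zero (F := F) r hrp
  have hnd : ¬ r ∣ Fintype.card F - 1 := by
    rw [← el_ord_one_iff _ _ hq1]
    omega
  have hcop : Nat.Coprime (Fintype.card F - 1) r :=
    ((Nat.Prime.coprime_iff_not_dvd hr.out).mpr hnd).symm
  have hnu : ¬ IsUnit (cyclotomic r F) := by
    intro hu
    have := natDegree_eq_zero_of_isUnit hu
    rw [natDegree_cyclotomic, Nat.totient_prime hr.out] at this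
    have := hr.out.two_le
    omega
  obtain ⟨P, hmon, hirr, hPdvd⟩ := exists_monic_irreducible_factor (cyclotomic r F) hnu
  have hdeg := el_cyc_deg r hrp P hirr hPdvd
  have hcr : orderOf ((Fintype.card F : ℕ) : ZMod r) ≤ r - 1 := by
    have h1 := natDegree_le_of_dvd hPdvd (cyclotomic_ne_zero r F)
    rw [natDegree_cyclotomic, Nat.totient_prime hr.out, hdeg] at h1
    exact h1
  obtain ⟨c, hc⟩ : ∃ c, orderOf ((Fintype.card F : ℕ) : ZMod r) = c := ⟨_, rfl⟩
  rw [hc] at hc2 hcn hdeg hcr ⊢
  have hcpos : 0 < c := by omega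
  have hev1 : P.eval 1 ≠ 0 := by
    intro h
    obtain ⟨R, hR⟩ := hPdvd
    have h2 := congrArg (eval 1) hR
    rw [eval_mul, h, zero_mul, eval_one_cyclotomic_prime] at h2
    exact hrF h2
  have hX1 : Irreducible (X - 1 : F[X]) := by
    have := irreducible_X_sub_C (1 : F)
    rwa [C_1] at this
  have hcopP : IsCoprime (X - 1 : F[X]) P := by
    apply (Irreducible.coprime_iff_not_dvd hX1).mpr
    intro hdvd
    have h2 : (X - C (1 : F)) ∣ P := by rwa [C_1]
    rw [dvd_iff_isRoot] at h2
    exact hev1 h2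
  have hdegP : ∀ P' : F[X], Irreducible P' → P' ∣ P → P'.natDegree = c := by
    intro P' hP' hdvd
    rw [natDegree_eq_of_degree_eq (degree_eq_degree_of_associated
      (hP'.associated_of_dvd hirr hdvd)), hdeg]
  have hQdvd : (X - 1) * P ∣ (X ^ r - 1 : F[X]) := by
    rw [← cyclotomic_prime_mul_X_sub_one F r, mul_comm]
    exact mul_dvd_mul_right hPdvd _
  have hQdeg : ((X - 1) * P : F[X]).natDegree = c + 1 := by
    rw [natDegree_mul el_X_sub_one_ne hirr.ne_zero, el_X_sub_one_deg, hdeg, add_comm]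
  have hQ0 : ((X - 1) * P : F[X]) ≠ 0 := mul_ne_zero el_X_sub_one_ne hirr.ne_zero
  have htest : ∀ b a₀ : ℕ, n = b * c + a₀ → 1 ≤ b →
      ∃ x : Matrix (Fin n) (Fin n) F, x.det = 1 ∧ x ^ r = (1 : F) • 1 ∧ (∀ z : F, x ≠ z • 1) ∧
        (Matrix.toLin' x) ^ r = 1 ∧ aeval (Matrix.toLin' x) ((X - 1) * P) = 0 ∧
        finrank F (LinearMap.ker (aeval (Matrix.toLin' x) (X - 1 : F[X]))) = a₀ := by
    intro b a₀ hnb hb
    obtain ⟨x, _, hkill, hker, hns⟩ := el_build3 P hirr hmon hev1 b a₀ n (by rw [hdeg]; exact hnb)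
    have hXr : (Matrix.toLin' x) ^ r = 1 := by
      obtain ⟨R, hR⟩ := hQdvd
      have h1 : aeval (Matrix.toLin' x) (X ^ r - 1 : F[X]) = 0 := by
        rw [hR, map_mul, hkill, zero_mul]
      rw [map_sub, map_pow, aeval_X, map_one] at h1
      exact sub_eq_zero.mp h1
    have hxr : x ^ r = (1 : F) • 1 := by
      apply Matrix.toLin'.injective
      rw [Matrix.toLin'_pow, hXr, one_smul, Matrix.toLin'_one]
      rfl
    have hdet1 : x.det = 1 := by
      apply el_eq_one_of_pow r hcop _ _ hr.out.ne_zero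
      rw [← Matrix.det_pow, hxr, one_smul, Matrix.det_one]
    exact ⟨x, hdet1, hxr, hns hb (by rw [hdeg]; exact hc2), hXr, hkill, hker⟩
  have hDne : ∀ D : Fin t → Submodule F (Fin n → F), Cfsg.Geo.IsMDecomposition a D →
      ∀ i, D i ≠ ⊥ := by
    intro D hD i h
    have := hD.finrank_eq i
    rw [h, finrank_bot] at this
    omega
  have hinvD : ∀ (f : Module.End F (Fin n → F)) (D : Fin t → Submodule F (Fin n → F))
      (σ : Equiv.Perm (Fin t)), (∀ j, (D j).map f = D (σ j)) → ∀ j, σ j = j → ElInv f (D j) := by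
    intro f D σ hσ j hj
    rw [← el_inv_iff, hσ j, hj]
  have hallC : ∀ (f : Module.End F (Fin n → F)) (D : Fin t → Submodule F (Fin n → F)),
      Cfsg.Geo.IsMDecomposition a D → aeval f ((X - 1) * P) = 0 → a < c →
      (∀ j, ElInv f (D j)) → finrank F (LinearMap.ker (aeval f (X - 1 : F[X]))) = n := by
    intro f D hD hkill hac hinv
    have h1 : (⊤ : Submodule F (Fin n → F)) ≤ LinearMap.ker (aeval f (X - 1 : F[X])) := by
      rw [← hD.iSup_eq_top]
      apply iSup_le
      intro j
      exact el_small_fixed f P hirr.ne_zero hcopP hkill c hcpos hdegP (D j) (hinv j)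
        (by rw [hD.finrank_eq]; exact hac)
    rw [top_le_iff.mp h1, finrank_top, hfr]
  by_cases hca : c ≤ a
  · right
    refine ⟨hca, ?_⟩
    obtain ⟨x, hdet, hxr, hns, hXr, hkill, hker⟩ := htest (n / c) (n % c)
      (Nat.div_add_mod' n c).symm (Nat.div_pos hcn hcpos)
    obtain ⟨D, hD, σ, hσ⟩ := hall x hdet ⟨1, hxr⟩ hns
    have hDinj : Function.Injective D := hD.indep.injective (hDne D hD)
    have hσr := el_sigma_pow D _ σ hσ hDinj r hXr
    have hσ1 : ∀ j, σ j = j := by
      by_contra hcon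
      push Not at hcon
      obtain ⟨j, hj⟩ := hcon
      have h1 := el_avg_inj D hD.indep hD.iSup_eq_top _ σ hσ r hr.out hXr hσr j hj
      rw [hD.finrank_eq, hker] at h1
      have := Nat.mod_lt n hcpos
      omega
    have hinv : ∀ j, ElInv (Matrix.toLin' x) (D j) := fun j => hinvD _ D σ hσ j (hσ1 j)
    have hsum := el_fix_sum D hD.indep (LinearMap.ker (aeval (Matrix.toLin' x) (X - 1 : F[X])))
    rw [hker] at hsum
    have hge : ∀ j, a % c ≤
        finrank F ↥(D j ⊓ LinearMap.ker (aeval (Matrix.toLin' x) (X - 1 : F[X]))) := by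
      intro j
      obtain ⟨u, hu⟩ := el_inv_split _ P hirr.ne_zero hcopP hkill c hcpos hdegP (D j) (hinv j)
      rw [hD.finrank_eq] at hu
      have h2 : a % c = finrank F
          ↥(D j ⊓ LinearMap.ker (aeval (Matrix.toLin' x) (X - 1 : F[X]))) % c := by
        rw [hu, Nat.add_mul_mod_self_left]
      rw [h2]
      exact Nat.mod_le _ _
    have hle : t * (a % c) ≤ n % c := by
      refine le_trans ?_ hsum
      have := Finset.sum_le_sum (fun j (_ : j ∈ (Finset.univ : Finset (Fin t))) => hge j)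
      rwa [Finset.sum_const, Finset.card_univ, Fintype.card_fin, smul_eq_mul] at this
    have hmod : n % c = (t * (a % c)) % c := by
      rw [hat, mul_comm t]
      exact (Nat.ModEq.mul_right t (Nat.mod_modEq a c)).symm
    rw [hmod]
    apply Nat.mod_eq_of_lt
    have := Nat.mod_lt n hcpos
    omega
  · left
    push Not at hca
    by_cases ha2 : 2 ≤ a
    · exfalso
      obtain ⟨x, hdet, hxr, hns, hXr, hkill, hker⟩ := htest 1 (n - c) (by omega) le_rfl
      obtain ⟨D, hD, σ, hσ⟩ := hall x hdet ⟨1, hxr⟩ hns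
      have hDinj : Function.Injective D := hD.indep.injective (hDne D hD)
      have hσr := el_sigma_pow D _ σ hσ hDinj r hXr
      by_cases hσ1 : ∀ j, σ j = j
      · have h1 := hallC _ D hD hkill hca (fun j => hinvD _ D σ hσ j (hσ1 j))
        rw [hker] at h1
        omega
      · push Not at hσ1
        obtain ⟨j, hj⟩ := hσ1
        have h1 := el_rank_bound D hD.indep hD.iSup_eq_top _ σ hσ r hr.out hσr a hD.finrank_eq j hj
        rw [hker, hfr] at h1
        have h2 : a * (r - 1) ≤ c := by omega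
        have h3 : 2 * (r - 1) ≤ a * (r - 1) := Nat.mul_le_mul_right _ ha2
        have := hr.out.two_le
        omega
    · have ha1 : a = 1 := by omega
      subst ha1
      have htn : t = n := by rw [hat, one_mul]
      obtain ⟨x, hdet, hxr, hns, hXr, hkill, hker⟩ := htest (n / c) (n % c)
        (Nat.div_add_mod' n c).symm (Nat.div_pos hcn hcpos)
      obtain ⟨D, hD, σ, hσ⟩ := hall x hdet ⟨1, hxr⟩ hns
      have hDinj : Function.Injective D := hD.indep.injective (hDne D hD)
      have hσr := el_sigma_pow D _ σ hσ hDinj r hXr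
      have hne : ∃ j, σ j ≠ j := by
        by_contra hcon
        push Not at hcon
        have h1 := hallC _ D hD hkill hca (fun j => hinvD _ D σ hσ j (hcon j))
        rw [hker] at h1
        have := Nat.mod_lt n hcpos
        omega
      obtain ⟨j, hj⟩ := hne
      have hceq : c = r - 1 := by
        by_contra hcne
        have h1 : ((X - 1) * P : F[X]).natDegree < r := by rw [hQdeg]; omega
        exact hQ0 (el_poly_kill D hD.indep hD.iSup_eq_top _ σ hσ r hr.out hXr hσr j hj
          (hDne D hD j) _ h1 hkill)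
      refine ⟨rfl, by omega, hceq, ?_⟩
      have h1 := el_orbit_bound D hD.indep hD.iSup_eq_top _ σ hσ r hr.out hrF hXr hσr (hDne D hD)
        (fun j' hj' => el_small_fixed _ P hirr.ne_zero hcopP hkill c hcpos hdegP (D j')
          (hinvD _ D σ hσ j' hj') (by rw [hD.finrank_eq]; exact hca))
      rw [hker, Fintype.card_fin, htn, mul_comm] at h1
      exact h1

end Cfsg.Agent.Lib.Helper24
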