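import Cfsg.Agent.Lib.Helper24.ElZh

set_option autoImplicit false

namespace Cfsg.Agent.Lib.Helper24

open Module

theorem el_fact_dvd {F : Type*} [Field F] (n a t : ℕ) :
    t.factorial ∣ Nat.card {D : Fin t → Submodule F (Fin n → F) //
      Cfsg.Geo.IsMDecomposition a D} := by
  classical
  let _ : MulAction (Equiv.Perm (Fin t)) {D : Fin t → Submodule F (Fin n → F) //
      Cfsg.Geo.IsMDecomposition a D} :=
    { smul := fun σ D => ⟨D.1 ∘ σ.symm, ⟨D.2.two_le, D.2.pos, fun i => D.2.finrank_eq _,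
        D.2.indep.comp σ.symm.injective, by
          rw [← D.2.iSup_eq_top]
          exact σ.symm.iSup_comp (g := D.1)⟩⟩
      one_smul := fun D => Subtype.ext rfl
      mul_smul := fun σ τ D => Subtype.ext rfl }
  have hfree : ∀ D : {D : Fin t → Submodule F (Fin n → F) // Cfsg.Geo.IsMDecomposition a D},
      MulAction.stabilizer (Equiv.Perm (Fin t)) D = ⊥ := by
    intro D
    rw [eq_bot_iff]
    intro σ hσ
    rw [MulAction.mem_stabilizer_iff] at hσ
    rw [Subgroup.mem_bot]
    have h1 : D.1 ∘ σ.symm = D.1 := congrArg Subtype.val hσ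
    have hne : ∀ i, D.1 i ≠ ⊥ := by
      intro i h
      have := D.2.finrank_eq i
      rw [h, finrank_bot] at this
      have := D.2.pos
      omega
    have hinj : Function.Injective D.1 := D.2.indep.injective hne
    ext j
    have h2 : σ.symm (σ j) = σ j := hinj (congrFun h1 (σ j))
    rw [Equiv.symm_apply_apply] at h2
    rw [← h2]
    rfl
  have := el_card_free hfree
  rwa [Nat.card_eq_fintype_card, Fintype.card_perm, Fintype.card_fin] at this

theorem el_decomp_nonempty {F : Type*} [Field F] (n a t : ℕ) (hat : n = a * t) (ha : 1 ≤ a)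
    (ht : 2 ≤ t) :
    ∃ D : Fin t → Submodule F (Fin n → F), Cfsg.Geo.IsMDecomposition a D := by
  classical
  have hc : Fintype.card (Fin t × Fin a) = Fintype.card (Fin n) := by
    rw [Fintype.card_prod, Fintype.card_fin, Fintype.card_fin, Fintype.card_fin, hat, mul_comm]
  let β : Fin t × Fin a ≃ Fin n := Fintype.equivOfCardEq hc
  let D : Fin t → Submodule F (Fin n → F) := fun j =>
    Submodule.span F (Set.range (fun i : Fin a => (Pi.single (β (j, i)) (1 : F) : Fin n → F)))
  have hsup : ⨆ j, D j = ⊤ := by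
    rw [eq_top_iff, ← (Pi.basisFun F (Fin n)).span_eq, Submodule.span_le]
    rintro _ ⟨k, rfl⟩
    rw [Pi.basisFun_apply]
    have h : k = β ((β.symm k).1, (β.symm k).2) := by simp
    apply Submodule.mem_iSup_of_mem (β.symm k).1
    apply Submodule.subset_span
    refine ⟨(β.symm k).2, ?_⟩
    show (Pi.single (β ((β.symm k).1, (β.symm k).2)) (1 : F) : Fin n → F) = Pi.single k 1
    rw [← h]
  have hle : ∀ j, finrank F (D j) ≤ a := by
    intro j
    have := finrank_range_le_card (R := F)
      (fun i : Fin a => (Pi.single (β (j, i)) (1 : F) : Fin n → F))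
    rwa [Fintype.card_fin] at this
  obtain ⟨D', hD', _⟩ := el_final n a t hat ha ht D hsup hle (Fintype.card_fin t) LinearMap.id
    (fun _ _ h => h) (fun j => ⟨j, Submodule.map_id _⟩)
  exact ⟨D', hD'⟩

theorem el_GL_dvd {F : Type*} [Field F] [Fintype F] (n a t : ℕ) (hat : n = a * t) (ha : 1 ≤ a)
    (ht : 2 ≤ t) :
    Nat.card {D : Fin t → Submodule F (Fin n → F) // Cfsg.Geo.IsMDecomposition a D} ∣
      Nat.card (Matrix.GeneralLinearGroup (Fin n) F) := by
  classical
  let _ : MulAction ((Fin n → F) ≃ₗ[F] (Fin n → F)) {D : Fin t → Submodule F (Fin n → F) //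
      Cfsg.Geo.IsMDecomposition a D} :=
    { smul := fun g D => ⟨fun i => (D.1 i).map (g : (Fin n → F) →ₗ[F] (Fin n → F)),
        ⟨D.2.two_le, D.2.pos,
          fun i => (LinearEquiv.finrank_map_eq g (D.1 i)).trans (D.2.finrank_eq i),
          D.2.indep.map_orderIso (Submodule.orderIsoMapComap g), by
            rw [← Submodule.map_iSup, D.2.iSup_eq_top, Submodule.map_top, LinearEquiv.range]⟩⟩
      one_smul := fun D => Subtype.ext (funext fun i => Submodule.map_id _)
      mul_smul := fun g h D => Subtype.ext (funext fun i => by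
        show (D.1 i).map ((g * h : (Fin n → F) ≃ₗ[F] (Fin n → F)) : (Fin n → F) →ₗ[F] (Fin n → F))
          = ((D.1 i).map (h : (Fin n → F) →ₗ[F] (Fin n → F))).map
            (g : (Fin n → F) →ₗ[F] (Fin n → F))
        rw [← Submodule.map_comp]
        rfl) }
  obtain ⟨D₀, hD₀⟩ := el_decomp_nonempty (F := F) n a t hat ha ht
  let x₀ : {D : Fin t → Submodule F (Fin n → F) // Cfsg.Geo.IsMDecomposition a D} := ⟨D₀, hD₀⟩
  have horb : MulAction.orbit ((Fin n → F) ≃ₗ[F] (Fin n → F)) x₀ = Set.univ := by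
    apply Set.eq_univ_of_forall
    intro D'
    obtain ⟨g, hg⟩ := el_trans D₀ D'.1 hD₀.indep hD₀.iSup_eq_top D'.2.indep D'.2.iSup_eq_top
      (fun i => (hD₀.finrank_eq i).trans (D'.2.finrank_eq i).symm)
    exact ⟨g, Subtype.ext (funext hg)⟩
  have h1 : Nat.card {D : Fin t → Submodule F (Fin n → F) // Cfsg.Geo.IsMDecomposition a D} =
      (MulAction.stabilizer ((Fin n → F) ≃ₗ[F] (Fin n → F)) x₀).index := by
    rw [Subgroup.index, ← Nat.card_congr (MulAction.orbitEquivQuotientStabilizer _ x₀), horb]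
    exact Nat.card_congr (Equiv.Set.univ _).symm
  have h2 : Nat.card ((Fin n → F) ≃ₗ[F] (Fin n → F)) =
      Nat.card (Matrix.GeneralLinearGroup (Fin n) F) :=
    Nat.card_congr ((Matrix.GeneralLinearGroup.toLin.trans
      (LinearMap.GeneralLinearGroup.generalLinearEquiv F (Fin n → F))).toEquiv).symm
  rw [h1, ← h2]
  exact Subgroup.index_dvd_card _

end Cfsg.Agent.Lib.Helper24
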