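import Cfsg.Agent.Lib.Helper24.ElZi
import Cfsg.Agent.Lib.Helper24.ElA

set_option autoImplicit false

namespace Cfsg.Agent.Lib.Helper24

open Module

theorem el_ord_le {F : Type*} [Field F] [Fintype F] {p : ℕ} [hp : Fact p.Prime] [CharP F p]
    (n a t : ℕ) (hat : n = a * t) (ha : 1 ≤ a) (ht : 2 ≤ t)
    (r : ℕ) [hr : Fact r.Prime] (hrp : r ≠ p)
    (hΩ : r ∣ Nat.card {D : Fin t → Submodule F (Fin n → F) //
      Cfsg.Geo.IsMDecomposition a D} / Nat.factorial t) :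
    orderOf ((Fintype.card F : ℕ) : ZMod r) ≤ n := by
  have hq1 : 1 ≤ Fintype.card F := Fintype.card_pos
  have h1 : r ∣ Nat.card {D : Fin t → Submodule F (Fin n → F) //
      Cfsg.Geo.IsMDecomposition a D} := by
    obtain ⟨k, hk⟩ := el_fact_dvd (F := F) n a t
    rw [hk, Nat.mul_div_cancel_left _ (Nat.factorial_pos t)] at hΩ
    rw [hk]
    exact dvd_mul_of_dvd_right hΩ _
  have h2 := dvd_trans h1 (el_GL_dvd (F := F) n a t hat ha ht)
  rw [Matrix.card_GL_field] at h2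
  obtain ⟨i, _, hi⟩ := (Prime.dvd_finsetProd_iff (Nat.Prime.prime hr.out) _).mp h2
  rw [el_pow_sub _ _ _ (le_of_lt i.isLt)] at hi
  rcases (Nat.Prime.dvd_mul hr.out).mp hi with h | h
  · exfalso
    have h3 := Nat.Prime.dvd_of_dvd_pow hr.out h
    obtain ⟨f, _, hf⟩ := FiniteField.card F p
    rw [hf] at h3
    have h4 := Nat.Prime.dvd_of_dvd_pow hr.out h3
    exact hrp ((Nat.prime_dvd_prime_iff_eq hr.out hp.out).mp h4)
  · rw [el_ord_dvd_iff _ _ _ hq1] at h
    have := Nat.le_of_dvd (by have := i.isLt; omega) h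
    omega

end Cfsg.Agent.Lib.Helper24
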