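import Cfsg.Agent.Lib.Helper24.FSDefZero

set_option autoImplicit false
open scoped ComplexConjugate

namespace Cfsg.Agent.Lib.Helper24

open Cfsg.Agent.Lib.helper2 Cfsg.Agent.Lib.helper7 Cfsg.Agent.Lib.Helper11 Cfsg.Agent.Lib.Helper25

section fz2

variable {G : Type*} [Group G] [Fintype G]

theorem fz_ne_triv (χ : Cfsg.IrrCharacter G) (heven : Even (Nat.card G))
    (h2 : 2 ^ (Nat.card G).factorization 2 ∣ Cfsg.charDegree (χ : G → ℂ)) : χ ≠ trivIrr G := by
  intro h
  rw [h, charDegree_triv] at h2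
  have h3 : 0 < (Nat.card G).factorization 2 :=
    Nat.Prime.factorization_pos_of_dvd Nat.prime_two Nat.card_pos.ne' heven.two_dvd
  have h4 : 2 ∣ 1 := dvd_trans (dvd_pow_self 2 h3.ne') h2
  omega

theorem fz_sum (χ : Cfsg.IrrCharacter G) (heven : Even (Nat.card G))
    (h2 : 2 ^ (Nat.card G).factorization 2 ∣ Cfsg.charDegree (χ : G → ℂ))
    (hp : ∀ p : ℕ, p.Prime → p ≠ 2 → (∃ g : G, orderOf g = 2 * p) →
      p ^ (Nat.card G).factorization p ∣ Cfsg.charDegree (χ : G → ℂ)) :
    ∑ g : G, (χ : G → ℂ) (g * g) =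
      (Nat.card {x : G // orderOf x = 2} : ℂ) * (Cfsg.charDegree (χ : G → ℂ) : ℂ) := by
  classical
  have hne := fz_ne_triv χ heven h2
  have hx : ((Cfsg.charDegree (χ : G → ℂ) : ℕ) : ℂ) = (χ : G → ℂ) 1 := (charDegree_irr χ).1
  have hpt : ∀ g : G, (χ : G → ℂ) (g * g) =
      (if orderOf g = 2 then (Cfsg.charDegree (χ : G → ℂ) : ℂ) else 0) +
        (if Odd (orderOf g) then (χ : G → ℂ) (g * g) else 0) := by
    intro g
    by_cases h1 : orderOf g = 2
    · have hodd : ¬ Odd (orderOf g) := by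
        rw [h1]
        decide
      rw [if_pos h1, if_neg hodd, add_zero, hx]
      have : g * g = 1 := by
        rw [← pow_two, ← h1, pow_orderOf_eq_one]
      rw [this]
    · rw [if_neg h1, zero_add]
      by_cases h3 : Odd (orderOf g)
      · rw [if_pos h3]
      · rw [if_neg h3]
        exact fz_term_zero χ h2 hp g h3 h1
  rw [Finset.sum_congr rfl (fun g _ => hpt g), Finset.sum_add_distrib]
  have hA : ∑ g : G, (if orderOf g = 2 then (Cfsg.charDegree (χ : G → ℂ) : ℂ) else 0) =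
      (Nat.card {x : G // orderOf x = 2} : ℂ) * (Cfsg.charDegree (χ : G → ℂ) : ℂ) := by
    rw [← Finset.sum_filter, Finset.sum_const, nsmul_eq_mul, Nat.card_eq_fintype_card,
      Fintype.card_subtype]
  have hB : ∑ g : G, (if Odd (orderOf g) then (χ : G → ℂ) (g * g) else 0) = 0 := by
    rw [← Finset.sum_filter, fz_odd_sq_sum (fun g => (χ : G → ℂ) g)]
    rw [Finset.sum_filter_of_ne]
    · exact fz_sum_eq_zero χ hne
    · intro g _ hg
      by_contra hodd
      apply hg
      apply fz_vanish χ 2 Nat.prime_two h2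
      rw [Nat.not_odd_iff_even] at hodd
      exact hodd.two_dvd
  rw [hA, hB, add_zero]

end fz2

end Cfsg.Agent.Lib.Helper24
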