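import Cfsg.Agent.Lib.Helper24.FSDefZero2
import Cfsg.Agent.Lib.helper7.ClassSum

set_option autoImplicit false
open scoped ComplexConjugate

namespace Cfsg.Agent.Lib.Helper24

open Cfsg.Agent.Lib.helper2 Cfsg.Agent.Lib.helper7 Cfsg.Agent.Lib.Helper11 Cfsg.Agent.Lib.Helper25

section fz3

variable {G : Type*} [Group G] [Fintype G]

theorem fz_full_of_dvd_centralizer (χ : Cfsg.IrrCharacter G)
    (h2 : 2 ^ (Nat.card G).factorization 2 ∣ Cfsg.charDegree (χ : G → ℂ))
    (hp : ∀ p : ℕ, p.Prime → p ≠ 2 → (∃ g : G, orderOf g = 2 * p) →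
      p ^ (Nat.card G).factorization p ∣ Cfsg.charDegree (χ : G → ℂ))
    (s : G) (hs : orderOf s = 2) (p : ℕ) (hpp : p.Prime)
    (hpC : p ∣ Nat.card (Subgroup.centralizer ({s} : Set G))) :
    p ^ (Nat.card G).factorization p ∣ Cfsg.charDegree (χ : G → ℂ) := by
  by_cases hp2 : p = 2
  · rw [hp2]
    exact h2
  · apply hp p hpp hp2
    haveI : Fact p.Prime := ⟨hpp⟩
    obtain ⟨u, hu⟩ := exists_prime_orderOf_dvd_card' p hpC
    refine ⟨s * (u : G), ?_⟩
    have hcomm : Commute s (u : G) := by
      have := Subgroup.mem_centralizer_singleton_iff.mp u.2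
      exact this.symm
    have hcop : Nat.Coprime (orderOf s) (orderOf (u : G)) := by
      rw [hs, Subgroup.orderOf_coe, hu]
      exact (Nat.coprime_primes Nat.prime_two hpp).mpr (Ne.symm hp2)
    rw [hcomm.orderOf_mul_eq_mul_orderOf_of_coprime hcop, hs, Subgroup.orderOf_coe, hu]

theorem fz_centralizer_dvd (χ : Cfsg.IrrCharacter G)
    (h2 : 2 ^ (Nat.card G).factorization 2 ∣ Cfsg.charDegree (χ : G → ℂ))
    (hp : ∀ p : ℕ, p.Prime → p ≠ 2 → (∃ g : G, orderOf g = 2 * p) →
      p ^ (Nat.card G).factorization p ∣ Cfsg.charDegree (χ : G → ℂ))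
    (s : G) (hs : orderOf s = 2) :
    Nat.card (Subgroup.centralizer ({s} : Set G)) ∣ Cfsg.charDegree (χ : G → ℂ) := by
  rw [Nat.dvd_iff_prime_pow_dvd_dvd]
  intro p k hpp hk
  rcases Nat.eq_zero_or_pos k with h0 | h0
  · rw [h0, pow_zero]
    exact one_dvd _
  have hpC : p ∣ Nat.card (Subgroup.centralizer ({s} : Set G)) :=
    dvd_trans (dvd_pow_self p h0.ne') hk
  have hkG : p ^ k ∣ Nat.card G := dvd_trans hk (Subgroup.card_subgroup_dvd_card _)
  have hle : k ≤ (Nat.card G).factorization p :=
    (hpp.pow_dvd_iff_le_factorization Nat.card_pos.ne').mp hkG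
  exact dvd_trans (pow_dvd_pow p hle) (fz_full_of_dvd_centralizer χ h2 hp s hs p hpp hpC)

theorem fz_main (χ : Cfsg.IrrCharacter G) (heven : Even (Nat.card G))
    (h2 : 2 ^ (Nat.card G).factorization 2 ∣ Cfsg.charDegree (χ : G → ℂ))
    (hp : ∀ p : ℕ, p.Prime → p ≠ 2 → (∃ g : G, orderOf g = 2 * p) →
      p ^ (Nat.card G).factorization p ∣ Cfsg.charDegree (χ : G → ℂ)) :
    (∀ s t : G, orderOf s = 2 → orderOf t = 2 → IsConj s t) ∧
    (∀ s : G, orderOf s = 2 →
      Nat.card (Subgroup.centralizer ({s} : Set G)) = Cfsg.charDegree (χ : G → ℂ) ∧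
      (Nat.card (Subgroup.centralizer ({s} : Set G))).Coprime
        (Subgroup.centralizer ({s} : Set G)).index) ∧
    (Nat.card G : ℂ)⁻¹ * ∑ g : G, (χ : G → ℂ) (g * g) = 1 := by
  classical
  set x := Cfsg.charDegree (χ : G → ℂ) with hx
  set I := Nat.card {y : G // orderOf y = 2} with hI
  have hxpos : 0 < x := (charDegree_irr χ).2
  have hGpos : 0 < Nat.card G := Nat.card_pos
  haveI : Fact (Nat.Prime 2) := ⟨Nat.prime_two⟩
  obtain ⟨s0, hs0⟩ := exists_prime_orderOf_dvd_card' 2 heven.two_dvd
  have hIpos : 0 < I := by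
    rw [hI]
    haveI : Nonempty {y : G // orderOf y = 2} := ⟨⟨s0, hs0⟩⟩
    exact Nat.card_pos
  have hsum := fz_sum χ heven h2 hp
  have hGne : (Nat.card G : ℂ) ≠ 0 := by exact_mod_cast hGpos.ne'
  have hν : fsNu χ = (Nat.card G : ℂ)⁻¹ * ((I : ℂ) * (x : ℂ)) := by
    unfold fsNu
    rw [hsum]
  have hGIx : Nat.card G = I * x ∧ fsNu χ = 1 := by
    rcases fsNu_cases χ with h | ⟨h | h, _⟩
    · exfalso
      rw [hν] at h
      rcases mul_eq_zero.mp h with h' | h'
      · exact (inv_ne_zero hGne) h'
      · have : (I * x : ℕ) = 0 := by exact_mod_cast h'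
        rcases Nat.mul_eq_zero.mp this with h'' | h'' <;> omega
    · refine ⟨?_, h⟩
      rw [hν] at h
      have h' : (I : ℂ) * (x : ℂ) = (Nat.card G : ℂ) := by
        field_simp at h
        exact h
      exact_mod_cast h'.symm
    · exfalso
      rw [hν] at h
      have h' : (I : ℂ) * (x : ℂ) = -(Nat.card G : ℂ) := by
        field_simp at h
        exact h
      have : ((I * x + Nat.card G : ℕ) : ℂ) = 0 := by
        push_cast
        rw [h']
        ring
      have h'' : I * x + Nat.card G = 0 := by exact_mod_cast this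
      omega
  obtain ⟨hG, hν1⟩ := hGIx
  have hkey : ∀ s : G, orderOf s = 2 →
      Nat.card (Subgroup.centralizer ({s} : Set G)) = x ∧
        Nat.card {y : G // IsConj s y} = I := by
    intro s hs
    have hdvd := fz_centralizer_dvd χ h2 hp s hs
    have hle : Nat.card (Subgroup.centralizer ({s} : Set G)) ≤ x := Nat.le_of_dvd hxpos hdvd
    have hidx := h7_index_centralizer_eq_card_class s
    have hinj : Nat.card {y : G // IsConj s y} ≤ I := by
      apply Nat.card_le_card_of_injective
        (fun y : {y : G // IsConj s y} => (⟨y.1, by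
          obtain ⟨c, hc⟩ := isConj_iff.mp y.2
          rw [← hc]
          have := orderOf_injective (MulAut.conj c).toMonoidHom (MulAut.conj c).injective s
          simp only [MulEquiv.coe_toMonoidHom, MulAut.conj_apply] at this
          rw [this]
          exact hs⟩ : {y : G // orderOf y = 2}))
      intro a b hab
      apply Subtype.ext
      exact congrArg (fun z : {y : G // orderOf y = 2} => z.1) hab
    have hmul := Subgroup.index_mul_card (Subgroup.centralizer ({s} : Set G))
    rw [hidx, hG] at hmul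
    have hCpos : 0 < Nat.card (Subgroup.centralizer ({s} : Set G)) := Nat.card_pos
    have h1 : Nat.card (Subgroup.centralizer ({s} : Set G)) = x := by
      by_contra hne
      have hlt : Nat.card (Subgroup.centralizer ({s} : Set G)) < x := lt_of_le_of_ne hle hne
      have h3 : Nat.card {y : G // IsConj s y} * Nat.card (Subgroup.centralizer ({s} : Set G)) ≤
          I * Nat.card (Subgroup.centralizer ({s} : Set G)) := Nat.mul_le_mul_right _ hinj
      have h4 : I * Nat.card (Subgroup.centralizer ({s} : Set G)) < I * x :=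
        Nat.mul_lt_mul_of_pos_left hlt hIpos
      omega
    refine ⟨h1, ?_⟩
    rw [h1] at hmul
    exact Nat.eq_of_mul_eq_mul_right hxpos hmul
  refine ⟨?_, ?_, ?_⟩
  · intro s t hs ht
    obtain ⟨_, hcl⟩ := hkey s hs
    let f : {y : G // IsConj s y} → {y : G // orderOf y = 2} := fun y => ⟨y.1, by
      obtain ⟨c, hc⟩ := isConj_iff.mp y.2
      rw [← hc]
      have := orderOf_injective (MulAut.conj c).toMonoidHom (MulAut.conj c).injective s
      simp only [MulEquiv.coe_toMonoidHom, MulAut.conj_apply] at this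
      rw [this]
      exact hs⟩
    have hf : Function.Injective f := by
      intro a b hab
      apply Subtype.ext
      exact congrArg (fun z : {y : G // orderOf y = 2} => z.1) hab
    have hbij := hf.bijective_of_nat_card_le (by rw [hcl])
    obtain ⟨y, hy⟩ := hbij.2 ⟨t, ht⟩
    have : y.1 = t := congrArg Subtype.val hy
    rw [← this]
    exact y.2
  · intro s hs
    obtain ⟨hC, hcl⟩ := hkey s hs
    refine ⟨hC, ?_⟩
    apply Nat.coprime_of_dvd
    intro p hpp hpC hpi
    have hfull := fz_full_of_dvd_centralizer χ h2 hp s hs p hpp hpC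
    rw [← hx, ← hC] at hfull
    have hmul := Subgroup.index_mul_card (Subgroup.centralizer ({s} : Set G))
    apply Nat.pow_succ_factorization_not_dvd hGpos.ne' hpp
    have h5 : p ^ ((Nat.card G).factorization p + 1) ∣
        (Subgroup.centralizer ({s} : Set G)).index *
          Nat.card (Subgroup.centralizer ({s} : Set G)) := by
      rw [pow_succ, mul_comm]
      exact Nat.mul_dvd_mul hpi hfull
    rw [hmul] at h5
    exact h5
  · exact hν1

end fz3

end Cfsg.Agent.Lib.Helper24
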