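import Mathlib

set_option autoImplicit false

namespace Cfsg.Agent.Lib.Helper24

open Matrix

variable {n : ℕ}

noncomputable def frCj : Matrix (Fin n) (Fin n) ℂ →+* Matrix (Fin n) (Fin n) ℂ :=
  (starRingEnd ℂ).mapMatrix

theorem frCj_apply (A : Matrix (Fin n) (Fin n) ℂ) (i j : Fin n) : frCj A i j = star (A i j) := rfl

theorem frCj_frCj (A : Matrix (Fin n) (Fin n) ℂ) : frCj (frCj A) = A := by
  ext i j
  simp [frCj_apply]

theorem frCj_smul (c : ℂ) (A : Matrix (Fin n) (Fin n) ℂ) : frCj (c • A) = star c • frCj A := by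
  ext i j
  simp [frCj_apply]

theorem frCj_transpose (A : Matrix (Fin n) (Fin n) ℂ) : frCj Aᵀ = (frCj A)ᵀ := by
  ext i j
  simp [frCj_apply]

theorem frCj_eq (A : Matrix (Fin n) (Fin n) ℂ) : frCj A = Aᴴᵀ := by
  ext i j
  simp [frCj_apply, Matrix.conjTranspose_apply]

theorem fr_mu_inj : Function.Injective (fun k : ℕ => ((1 : ℂ) + k * Complex.I) / (1 - k * Complex.I)) := by
  intro a b h
  simp only at h
  have ha : (1 : ℂ) - a * Complex.I ≠ 0 := by
    intro h0
    have := congrArg Complex.re h0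
    simp at this
  have hb : (1 : ℂ) - b * Complex.I ≠ 0 := by
    intro h0
    have := congrArg Complex.re h0
    simp at this
  rw [div_eq_div_iff ha hb] at h
  have h2 : (2 : ℂ) * Complex.I * ((a : ℂ) - b) = 0 := by linear_combination h
  have h3 : (a : ℂ) - b = 0 := by
    rcases mul_eq_zero.mp h2 with h4 | h4
    · exfalso
      rcases mul_eq_zero.mp h4 with h5 | h5
      · norm_num at h5
      · exact Complex.I_ne_zero h5
    · exact h4
  have h4 : (a : ℂ) = b := sub_eq_zero.mp h3
  exact_mod_cast h4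

theorem fr_hilbert90 (N : Matrix (Fin n) (Fin n) ℂ) (hN : N * frCj N = 1) :
    ∃ S : Matrix (Fin n) (Fin n) ℂ, IsUnit S ∧ N * frCj S = S := by
  classical
  let R : Finset ℂ := ((-N).charpoly).roots.toFinset
  have hinf : (Set.range (fun k : ℕ => ((1 : ℂ) + k * Complex.I) / (1 - k * Complex.I))).Infinite :=
    Set.infinite_range_of_injective fr_mu_inj
  obtain ⟨z, hz1, hz2⟩ := hinf.exists_notMem_finset R
  obtain ⟨k, rfl⟩ := hz1
  simp only at hz2
  have hk : (1 : ℂ) - k * Complex.I ≠ 0 := by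
    intro h0
    have := congrArg Complex.re h0
    simp at this
  set μ : ℂ := 1 + k * Complex.I with hμ
  have hμs : star μ = 1 - k * Complex.I := by
    rw [hμ]
    simp [sub_eq_add_neg]
  have hdet : (Matrix.scalar (Fin n) (μ / (1 - k * Complex.I)) - (-N)).det ≠ 0 := by
    rw [← Matrix.eval_charpoly]
    intro h0
    apply hz2
    rw [Multiset.mem_toFinset, Polynomial.mem_roots (Matrix.charpoly_monic _).ne_zero]
    exact h0
  refine ⟨μ • (1 : Matrix (Fin n) (Fin n) ℂ) + star μ • N, ?_, ?_⟩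
  · rw [Matrix.isUnit_iff_isUnit_det]
    have h1 : μ • (1 : Matrix (Fin n) (Fin n) ℂ) + star μ • N =
        star μ • (Matrix.scalar (Fin n) (μ / (1 - k * Complex.I)) - (-N)) := by
      rw [hμs, sub_neg_eq_add, smul_add, Matrix.scalar_apply, ← Matrix.smul_one_eq_diagonal, smul_smul,
        mul_div_cancel₀ _ hk]
    rw [h1, Matrix.det_smul]
    apply IsUnit.mul
    · apply IsUnit.pow
      rw [hμs]
      exact isUnit_iff_ne_zero.mpr hk
    · exact isUnit_iff_ne_zero.mpr hdet
  · rw [map_add, frCj_smul, frCj_smul, star_star, map_one, Matrix.mul_add, Matrix.mul_smul, Matrix.mul_smul,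
      Matrix.mul_one, hN, add_comm]

end Cfsg.Agent.Lib.Helper24
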