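import Mathlib
import Cfsg.Agent.Lib.Helper24.FrobSchurReal1

set_option autoImplicit false

namespace Cfsg.Agent.Lib.Helper24

open Matrix
open scoped ComplexOrder

variable {n : ℕ}

theorem frCj_inv (M : Matrix (Fin n) (Fin n) ℂ) (hM : IsUnit M) : frCj M⁻¹ = (frCj M)⁻¹ := by
  have hdet : IsUnit M.det := (Matrix.isUnit_iff_isUnit_det M).mp hM
  symm
  apply Matrix.inv_eq_left_inv
  rw [← map_mul, Matrix.nonsing_inv_mul M hdet, map_one]

theorem frCj_hermitian_transpose (P : Matrix (Fin n) (Fin n) ℂ) (hP : P.IsHermitian) : frCj Pᵀ = P := by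
  rw [frCj_eq, Matrix.conjTranspose_transpose]
  exact hP

theorem frCj_symm (M : Matrix (Fin n) (Fin n) ℂ) (hM : Mᵀ = M) : Mᴴ = frCj M := by
  ext i j
  rw [Matrix.conjTranspose_apply, frCj_apply]
  have := congrFun (congrFun hM i) j
  rw [Matrix.transpose_apply] at this
  rw [this]

theorem fr_pos (hn : n ≠ 0) (M P : Matrix (Fin n) (Fin n) ℂ) (hMs : Mᵀ = M) (hM : IsUnit M)
    (hP : P.PosDef) (c : ℂ) (hc : (M⁻¹ * Pᵀ) * frCj (M⁻¹ * Pᵀ) = c • (1 : Matrix (Fin n) (Fin n) ℂ)) :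
    ∃ r : ℝ, 0 < r ∧ c = (r : ℂ) := by
  haveI : Nonempty (Fin n) := ⟨⟨0, Nat.pos_of_ne_zero hn⟩⟩
  have hdet : IsUnit M.det := (Matrix.isUnit_iff_isUnit_det M).mp hM
  have hMMi : M * M⁻¹ = 1 := Matrix.mul_nonsing_inv M hdet
  have hPu : IsUnit P := hP.isUnit
  have hPdet : IsUnit P.det := (Matrix.isUnit_iff_isUnit_det P).mp hPu
  have hPPi : P * P⁻¹ = 1 := Matrix.mul_nonsing_inv P hPdet
  have hMb : IsUnit (frCj M) := hM.map frCj
  have hMbdet : IsUnit (frCj M).det := (Matrix.isUnit_iff_isUnit_det _).mp hMb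
  have hMbi : (frCj M)⁻¹ * frCj M = 1 := Matrix.nonsing_inv_mul _ hMbdet
  have h1 : frCj (M⁻¹ * Pᵀ) = (frCj M)⁻¹ * P := by
    rw [map_mul, frCj_inv M hM, frCj_hermitian_transpose P hP.isHermitian]
  have hW : (M * P⁻¹ * Mᴴ).PosDef := by
    apply hP.inv.mul_mul_conjTranspose_same
    rw [Matrix.vecMul_injective_iff_isUnit]
    exact hM
  have hPt : Pᵀ.PosDef := hP.transpose
  have h2 : c • (M * P⁻¹ * Mᴴ) = Pᵀ := by
    rw [frCj_symm M hMs]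
    calc c • (M * P⁻¹ * frCj M) = M * (c • (1 : Matrix (Fin n) (Fin n) ℂ)) * (P⁻¹ * frCj M) := by
          rw [Matrix.mul_smul, Matrix.smul_mul, Matrix.mul_one, Matrix.mul_assoc]
      _ = M * ((M⁻¹ * Pᵀ) * ((frCj M)⁻¹ * P)) * (P⁻¹ * frCj M) := by rw [← hc, h1]
      _ = (M * M⁻¹) * Pᵀ * (frCj M)⁻¹ * (P * P⁻¹) * frCj M := by simp only [Matrix.mul_assoc]
      _ = Pᵀ * ((frCj M)⁻¹ * frCj M) := by rw [hMMi, hPPi, Matrix.one_mul, Matrix.mul_one, Matrix.mul_assoc]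
      _ = Pᵀ := by rw [hMbi, Matrix.mul_one]
  have h3 : c * (M * P⁻¹ * Mᴴ).trace = Pᵀ.trace := by
    rw [← h2, Matrix.trace_smul, smul_eq_mul]
  have hW0 : 0 < (M * P⁻¹ * Mᴴ).trace := hW.trace_pos
  have hP0 : 0 < Pᵀ.trace := hPt.trace_pos
  have hc0 : 0 < c := by
    have hne : (M * P⁻¹ * Mᴴ).trace ≠ 0 := ne_of_gt hW0
    have : c = Pᵀ.trace / (M * P⁻¹ * Mᴴ).trace := by
      rw [← h3, mul_div_cancel_right₀ _ hne]
    rw [this]
    exact div_pos hP0 hW0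
  rw [Complex.pos_iff] at hc0
  refine ⟨c.re, hc0.1, ?_⟩
  apply Complex.ext
  · simp
  · simp [hc0.2.symm]

end Cfsg.Agent.Lib.Helper24
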