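import Mathlib
import Cfsg.Agent.Lib.Helper24.FrobSchurReal2
import Cfsg.Agent.Lib.Helper24.FrobSchurForm

set_option autoImplicit false

namespace Cfsg.Agent.Lib.Helper24

open Matrix
open scoped ComplexOrder

variable {G : Type*} [Group G] {n : ℕ}

omit [Group G] in
theorem fr_realize (X : G → Matrix (Fin n) (Fin n) ℂ) (N : Matrix (Fin n) (Fin n) ℂ)
    (hNX : ∀ g, N * frCj (X g) = X g * N) (hN : N * frCj N = 1) :
    ∃ S : Matrix (Fin n) (Fin n) ℂ, IsUnit S ∧ ∀ g, frCj (S⁻¹ * X g * S) = S⁻¹ * X g * S := by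
  obtain ⟨S, hS, hNS⟩ := fr_hilbert90 N hN
  refine ⟨S, hS, fun g => ?_⟩
  have hdet : IsUnit S.det := (Matrix.isUnit_iff_isUnit_det S).mp hS
  have hSiS : S⁻¹ * S = 1 := Matrix.nonsing_inv_mul S hdet
  have h1 : (frCj S)⁻¹ = S⁻¹ * N := by
    apply Matrix.inv_eq_left_inv
    rw [Matrix.mul_assoc, hNS, hSiS]
  rw [map_mul, map_mul, frCj_inv S hS, h1]
  calc S⁻¹ * N * frCj (X g) * frCj S = S⁻¹ * (N * frCj (X g)) * frCj S := by simp only [Matrix.mul_assoc]
    _ = S⁻¹ * (X g * N) * frCj S := by rw [hNX g]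
    _ = S⁻¹ * X g * (N * frCj S) := by simp only [Matrix.mul_assoc]
    _ = S⁻¹ * X g * S := by rw [hNS]

theorem fr_exists_of_nu [Fintype G] (ρ : Representation ℂ G (Fin n → ℂ))
    (hν : ∑ s : G, ρ.character (s * s) ≠ 0) :
    ∃ M : Matrix (Fin n) (Fin n) ℂ, M ≠ 0 ∧ ∀ g : G, (fsX ρ g)ᵀ * M * fsX ρ g = M := by
  by_contra hcon
  have hzero : ∀ A : Matrix (Fin n) (Fin n) ℂ, ∑ g : G, (fsX ρ g)ᵀ * A * fsX ρ g = 0 := by
    intro A
    by_contra hne
    exact hcon ⟨_, hne, fs_avg_invariant ρ A⟩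
  have hentry : ∀ i j : Fin n, ∑ g : G, fsX ρ g i j * fsX ρ g j i = 0 := by
    intro i j
    have h := congrFun (congrFun (hzero (Matrix.single i j (1 : ℂ))) j) i
    rw [Matrix.sum_apply] at h
    simp only [fs_mul_single_mul, Matrix.transpose_apply, Matrix.zero_apply] at h
    exact h
  apply hν
  have h1 : ∀ s : G, ρ.character (s * s) = ∑ i, ∑ j, fsX ρ s i j * fsX ρ s j i := by
    intro s
    rw [fs_char, fsX_mul, Matrix.trace]
    refine Finset.sum_congr rfl fun i _ => ?_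
    rw [Matrix.diag_apply, Matrix.mul_apply]
  simp only [h1]
  rw [Finset.sum_comm]
  refine Finset.sum_eq_zero fun i _ => ?_
  rw [Finset.sum_comm]
  exact Finset.sum_eq_zero fun j _ => hentry i j

theorem fr_P_posDef [Fintype G] (ρ : Representation ℂ G (Fin n → ℂ)) :
    (∑ g : G, (fsX ρ g)ᴴ * fsX ρ g).PosDef := by
  classical
  rw [← Finset.add_sum_erase Finset.univ _ (Finset.mem_univ (1 : G))]
  apply Matrix.PosDef.add_posSemidef
  · rw [fsX_one, Matrix.conjTranspose_one, Matrix.one_mul]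
    exact Matrix.PosDef.one
  · apply Matrix.posSemidef_sum
    intro g _
    exact Matrix.posSemidef_conjTranspose_mul_self _

theorem fr_P_inv [Fintype G] (ρ : Representation ℂ G (Fin n → ℂ)) (h : G) :
    (fsX ρ h)ᴴ * (∑ g : G, (fsX ρ g)ᴴ * fsX ρ g) * fsX ρ h = ∑ g : G, (fsX ρ g)ᴴ * fsX ρ g := by
  rw [Finset.mul_sum, Finset.sum_mul]
  rw [← Equiv.sum_comp (Equiv.mulRight h) (fun g => (fsX ρ g)ᴴ * fsX ρ g)]
  apply Finset.sum_congr rfl
  intro g _
  rw [Equiv.coe_mulRight, fsX_mul, Matrix.conjTranspose_mul]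
  simp only [Matrix.mul_assoc]

end Cfsg.Agent.Lib.Helper24
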