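import Mathlib
import Cfsg.Agent.Lib.Helper24.FrobSchurReal3

set_option autoImplicit false

namespace Cfsg.Agent.Lib.Helper24

open Matrix
open scoped ComplexOrder

variable {G : Type*} [Group G] {n : ℕ}

theorem fr_N0 (ρ : Representation ℂ G (Fin n → ℂ)) (M P : Matrix (Fin n) (Fin n) ℂ)
    (hM : ∀ g : G, (fsX ρ g)ᵀ * M * fsX ρ g = M) (hMu : IsUnit M)
    (hPinv : ∀ h : G, (fsX ρ h)ᴴ * P * fsX ρ h = P) (g : G) :
    (M⁻¹ * Pᵀ) * frCj (fsX ρ g) = fsX ρ g * (M⁻¹ * Pᵀ) := by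
  have hdet : IsUnit M.det := (Matrix.isUnit_iff_isUnit_det M).mp hMu
  have hMiM : M⁻¹ * M = 1 := Matrix.nonsing_inv_mul M hdet
  have hMMi : M * M⁻¹ = 1 := Matrix.mul_nonsing_inv M hdet
  have h1 : (fsX ρ g)ᴴ * P = P * fsX ρ g⁻¹ := by
    calc (fsX ρ g)ᴴ * P = (fsX ρ g)ᴴ * P * (fsX ρ g * fsX ρ g⁻¹) := by rw [fsX_mul_inv, Matrix.mul_one]
      _ = ((fsX ρ g)ᴴ * P * fsX ρ g) * fsX ρ g⁻¹ := by simp only [Matrix.mul_assoc]
      _ = P * fsX ρ g⁻¹ := by rw [hPinv g]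
  have h2 : Pᵀ * frCj (fsX ρ g) = (fsX ρ g⁻¹)ᵀ * Pᵀ := by
    have := congrArg Matrix.transpose h1
    rw [Matrix.transpose_mul, Matrix.transpose_mul, ← frCj_eq] at this
    exact this
  have h3 : (fsX ρ g⁻¹)ᵀ = M * fsX ρ g * M⁻¹ := by
    rw [fs_intertwine ρ M hM g, Matrix.mul_assoc, hMMi, Matrix.mul_one]
  calc (M⁻¹ * Pᵀ) * frCj (fsX ρ g) = M⁻¹ * (Pᵀ * frCj (fsX ρ g)) := Matrix.mul_assoc _ _ _
    _ = M⁻¹ * ((M * fsX ρ g * M⁻¹) * Pᵀ) := by rw [h2, h3]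
    _ = (M⁻¹ * M) * fsX ρ g * (M⁻¹ * Pᵀ) := by simp only [Matrix.mul_assoc]
    _ = fsX ρ g * (M⁻¹ * Pᵀ) := by rw [hMiM, Matrix.one_mul]

omit [Group G] in
theorem fr_NN_comm (X : G → Matrix (Fin n) (Fin n) ℂ) (N : Matrix (Fin n) (Fin n) ℂ)
    (hNX : ∀ g, N * frCj (X g) = X g * N) (g : G) :
    (N * frCj N) * X g = X g * (N * frCj N) := by
  have h1 : frCj N * X g = frCj (X g) * frCj N := by
    have := congrArg frCj (hNX g)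
    rw [map_mul, map_mul, frCj_frCj] at this
    exact this
  calc (N * frCj N) * X g = N * (frCj N * X g) := Matrix.mul_assoc _ _ _
    _ = (N * frCj (X g)) * frCj N := by rw [h1, Matrix.mul_assoc]
    _ = X g * (N * frCj N) := by rw [hNX g, Matrix.mul_assoc]

theorem fr_exists_N [Fintype G] (ρ : Representation ℂ G (Fin n → ℂ)) [ρ.IsIrreducible]
    (hν : (Nat.card G : ℂ)⁻¹ * ∑ s : G, ρ.character (s * s) = 1) :
    ∃ N : Matrix (Fin n) (Fin n) ℂ, (∀ g : G, N * frCj (fsX ρ g) = fsX ρ g * N) ∧ N * frCj N = 1 := by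
  have hne : ∑ s : G, ρ.character (s * s) ≠ 0 := by
    intro h0
    rw [h0, mul_zero] at hν
    exact zero_ne_one hν
  obtain ⟨M, hM0, hM⟩ := fr_exists_of_nu ρ hne
  have hMs : Mᵀ = M := by
    rw [fs_symm ρ M hM, hν, one_smul]
  have hMu := fs_isUnit ρ M hM hM0
  set P : Matrix (Fin n) (Fin n) ℂ := ∑ g : G, (fsX ρ g)ᴴ * fsX ρ g with hPdef
  have hP : P.PosDef := fr_P_posDef ρ
  have hPinv : ∀ h : G, (fsX ρ h)ᴴ * P * fsX ρ h = P := fr_P_inv ρ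
  have hNX := fr_N0 ρ M P hM hMu hPinv
  obtain ⟨c, hc⟩ := fs_schur ρ _ (fr_NN_comm (fsX ρ) (M⁻¹ * Pᵀ) hNX)
  obtain ⟨r, hr, hcr⟩ := fr_pos (fs_n_ne_zero ρ) M P hMs hMu hP c hc
  have hs : 0 < Real.sqrt r := Real.sqrt_pos.mpr hr
  have hss : Real.sqrt r * Real.sqrt r = r := Real.mul_self_sqrt hr.le
  refine ⟨(((Real.sqrt r)⁻¹ : ℝ) : ℂ) • (M⁻¹ * Pᵀ), fun g => ?_, ?_⟩
  · rw [Matrix.smul_mul, Matrix.mul_smul, hNX g]
  · rw [frCj_smul, Matrix.smul_mul, Matrix.mul_smul, hc, smul_smul, smul_smul, hcr]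
    have : star (((Real.sqrt r)⁻¹ : ℝ) : ℂ) = (((Real.sqrt r)⁻¹ : ℝ) : ℂ) := Complex.conj_ofReal _
    rw [this, ← Complex.ofReal_mul, ← Complex.ofReal_mul]
    have h2 : (Real.sqrt r)⁻¹ * (Real.sqrt r)⁻¹ * r = 1 := by
      rw [← mul_inv, hss, inv_mul_cancel₀ hr.ne']
    rw [h2, Complex.ofReal_one, one_smul]

end Cfsg.Agent.Lib.Helper24
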