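import Mathlib
import Cfsg.Agent.Lib.Helper24.FrobSchurReal4

set_option autoImplicit false

namespace Cfsg.Agent.Lib.Helper24

open Matrix

variable {G : Type*} [Group G] {n : ℕ}

theorem fr_map_re (Y : Matrix (Fin n) (Fin n) ℂ) (hY : frCj Y = Y) :
    (Y.map Complex.re).map Complex.ofReal = Y := by
  ext i j
  rw [Matrix.map_apply, Matrix.map_apply]
  have h := congrFun (congrFun hY i) j
  rw [frCj_apply] at h
  exact (Complex.conj_eq_iff_re.mp h)

theorem fr_real_rep (X : G → Matrix (Fin n) (Fin n) ℂ) (hX1 : X 1 = 1) (hXm : ∀ g h, X (g * h) = X g * X h)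
    (S : Matrix (Fin n) (Fin n) ℂ) (hS : IsUnit S) (hreal : ∀ g, frCj (S⁻¹ * X g * S) = S⁻¹ * X g * S) :
    ∃ σ : Representation ℝ G (Fin n → ℝ), ∀ g : G,
      ((LinearMap.trace ℝ (Fin n → ℝ) (σ g) : ℝ) : ℂ) = (X g).trace := by
  have hdet : IsUnit S.det := (Matrix.isUnit_iff_isUnit_det S).mp hS
  have hSiS : S⁻¹ * S = 1 := Matrix.nonsing_inv_mul S hdet
  have hSSi : S * S⁻¹ = 1 := Matrix.mul_nonsing_inv S hdet
  let Y : G → Matrix (Fin n) (Fin n) ℂ := fun g => S⁻¹ * X g * S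
  let Yr : G → Matrix (Fin n) (Fin n) ℝ := fun g => (Y g).map Complex.re
  have hYr : ∀ g, (Yr g).map Complex.ofReal = Y g := fun g => fr_map_re (Y g) (hreal g)
  have hinj : Function.Injective (fun A : Matrix (Fin n) (Fin n) ℝ => A.map Complex.ofReal) :=
    Matrix.map_injective Complex.ofReal_injective
  have hY1 : Y 1 = 1 := by
    show S⁻¹ * X 1 * S = 1
    rw [hX1, Matrix.mul_one, hSiS]
  have hYm : ∀ g h, Y (g * h) = Y g * Y h := by
    intro g h
    show S⁻¹ * X (g * h) * S = (S⁻¹ * X g * S) * (S⁻¹ * X h * S)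
    calc S⁻¹ * X (g * h) * S = S⁻¹ * (X g * 1 * X h) * S := by rw [hXm, Matrix.mul_one]
      _ = S⁻¹ * (X g * (S * S⁻¹) * X h) * S := by rw [hSSi]
      _ = (S⁻¹ * X g * S) * (S⁻¹ * X h * S) := by simp only [Matrix.mul_assoc]
  have hYr1 : Yr 1 = 1 := by
    apply hinj
    show (Yr 1).map Complex.ofReal = (1 : Matrix (Fin n) (Fin n) ℝ).map Complex.ofReal
    rw [hYr, hY1, Matrix.map_one _ Complex.ofReal_zero Complex.ofReal_one]
  have hYrm : ∀ g h, Yr (g * h) = Yr g * Yr h := by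
    intro g h
    apply hinj
    show (Yr (g * h)).map Complex.ofReal = (Yr g * Yr h).map Complex.ofReal
    rw [hYr, hYm, ← hYr g, ← hYr h]
    exact (Matrix.map_mul (f := Complex.ofRealHom)).symm
  let σ : Representation ℝ G (Fin n → ℝ) :=
    { toFun := fun g => Matrix.toLin' (Yr g)
      map_one' := by
        show Matrix.toLin' (Yr 1) = 1
        rw [hYr1, Matrix.toLin'_one]
        rfl
      map_mul' := by
        intro g h
        show Matrix.toLin' (Yr (g * h)) = Matrix.toLin' (Yr g) * Matrix.toLin' (Yr h)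
        rw [hYrm, Matrix.toLin'_mul]
        rfl }
  refine ⟨σ, fun g => ?_⟩
  have h1 : LinearMap.trace ℝ (Fin n → ℝ) (σ g) = (Yr g).trace := by
    show LinearMap.trace ℝ (Fin n → ℝ) (Matrix.toLin' (Yr g)) = (Yr g).trace
    rw [LinearMap.trace_eq_matrix_trace ℝ (Pi.basisFun ℝ (Fin n)), LinearMap.toMatrix_eq_toMatrix',
      LinearMap.toMatrix'_toLin']
  rw [h1]
  have h2 : (((Yr g).trace : ℝ) : ℂ) = ((Yr g).map Complex.ofReal).trace := by
    rw [Matrix.trace, Matrix.trace, Complex.ofReal_sum]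
    rfl
  rw [h2, hYr]
  show (S⁻¹ * X g * S).trace = (X g).trace
  rw [Matrix.trace_mul_cycle, hSSi, Matrix.one_mul]

theorem fr_forward [Fintype G] (ρ : Representation ℂ G (Fin n → ℂ)) [ρ.IsIrreducible]
    (hν : (Nat.card G : ℂ)⁻¹ * ∑ s : G, ρ.character (s * s) = 1) :
    ∃ σ : Representation ℝ G (Fin n → ℝ), ∀ g : G,
      ((LinearMap.trace ℝ (Fin n → ℝ) (σ g) : ℝ) : ℂ) = ρ.character g := by
  obtain ⟨N, hNX, hN⟩ := fr_exists_N ρ hν
  obtain ⟨S, hS, hreal⟩ := fr_realize (fsX ρ) N hNX hN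
  obtain ⟨σ, hσ⟩ := fr_real_rep (fsX ρ) (fsX_one ρ) (fsX_mul ρ) S hS hreal
  refine ⟨σ, fun g => ?_⟩
  rw [hσ g, fs_char]

end Cfsg.Agent.Lib.Helper24
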