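import Mathlib
import Cfsg.Agent.Lib.Helper24.FrobSchurReal5

set_option autoImplicit false

namespace Cfsg.Agent.Lib.Helper24

open Matrix

variable {G : Type*} [Group G] {n : ℕ}

theorem fr_char_inner [Fintype G] (ρ : Representation ℂ G (Fin n → ℂ)) [ρ.IsIrreducible] :
    ∑ s : G, (fsX ρ s).trace * (fsX ρ s⁻¹).trace = (Fintype.card G : ℂ) := by
  have hn : (n : ℂ) ≠ 0 := Nat.cast_ne_zero.mpr (fs_n_ne_zero ρ)
  simp only [Matrix.trace, Matrix.diag_apply, Finset.sum_mul_sum]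
  rw [Finset.sum_comm]
  have h1 : ∀ i : Fin n, ∑ s : G, ∑ k : Fin n, fsX ρ s i i * fsX ρ s⁻¹ k k =
      (Fintype.card G : ℂ) / (n : ℂ) := by
    intro i
    rw [Finset.sum_comm]
    simp only [fs_orth_entry]
    rw [Finset.sum_eq_single i]
    · simp
    · intro k _ hk
      simp [Ne.symm hk]
    · intro h; exact absurd (Finset.mem_univ i) h
  simp only [h1]
  rw [Finset.sum_const, Finset.card_univ, Fintype.card_fin, nsmul_eq_mul, mul_div_cancel₀ _ hn]

theorem fr_T_intertwine [Fintype G] (X Y : G → Matrix (Fin n) (Fin n) ℂ)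
    (hXm : ∀ g h, X (g * h) = X g * X h) (hYm : ∀ g h, Y (g * h) = Y g * Y h)
    (A : Matrix (Fin n) (Fin n) ℂ) (h : G) :
    Y h * (∑ g : G, Y g * A * X g⁻¹) = (∑ g : G, Y g * A * X g⁻¹) * X h := by
  rw [Finset.mul_sum, Finset.sum_mul]
  rw [← Equiv.sum_comp (Equiv.mulLeft h) (fun g => Y g * A * X g⁻¹ * X h)]
  apply Finset.sum_congr rfl
  intro g _
  show Y h * (Y g * A * X g⁻¹) = Y (h * g) * A * X (h * g)⁻¹ * X h
  rw [hYm, _root_.mul_inv_rev]
  have : X (g⁻¹ * h⁻¹) * X h = X g⁻¹ := by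
    rw [← hXm, mul_assoc, inv_mul_cancel, mul_one]
  rw [Matrix.mul_assoc (Y h * Y g * A), this]
  simp only [Matrix.mul_assoc]

theorem fr_exists_T [Fintype G] (ρ : Representation ℂ G (Fin n → ℂ)) [ρ.IsIrreducible]
    (Y : G → Matrix (Fin n) (Fin n) ℂ) (htr : ∀ g, (Y g).trace = (fsX ρ g).trace) :
    ∃ A : Matrix (Fin n) (Fin n) ℂ, ∑ g : G, Y g * A * fsX ρ g⁻¹ ≠ 0 := by
  by_contra hcon
  push Not at hcon
  have hentry : ∀ i k : Fin n, ∑ g : G, Y g i i * fsX ρ g⁻¹ k k = 0 := by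
    intro i k
    have h := congrFun (congrFun (hcon (Matrix.single i k (1 : ℂ))) i) k
    rw [Matrix.sum_apply] at h
    simp only [fs_mul_single_mul, Matrix.zero_apply] at h
    exact h
  have h1 := fr_char_inner ρ
  have h2 : ∑ s : G, (fsX ρ s).trace * (fsX ρ s⁻¹).trace = 0 := by
    have h3 : ∑ s : G, (fsX ρ s).trace * (fsX ρ s⁻¹).trace = ∑ s : G, (Y s).trace * (fsX ρ s⁻¹).trace :=
      Finset.sum_congr rfl fun s _ => by rw [htr]
    rw [h3]
    simp only [Matrix.trace, Matrix.diag_apply, Finset.sum_mul_sum]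
    rw [Finset.sum_comm]
    refine Finset.sum_eq_zero fun i _ => ?_
    rw [Finset.sum_comm]
    exact Finset.sum_eq_zero fun k _ => hentry i k
  rw [h2] at h1
  have : (Fintype.card G : ℂ) ≠ 0 := Nat.cast_ne_zero.mpr Fintype.card_ne_zero
  exact this h1.symm

theorem fr_T_isUnit (ρ : Representation ℂ G (Fin n → ℂ)) [hirr : ρ.IsIrreducible]
    (Y : G → Matrix (Fin n) (Fin n) ℂ) (T : Matrix (Fin n) (Fin n) ℂ)
    (hT : ∀ h : G, Y h * T = T * fsX ρ h) (hne : T ≠ 0) : IsUnit T := by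
  let K : Subrepresentation ρ :=
    { toSubmodule := LinearMap.ker (Matrix.toLin' T)
      apply_mem_toSubmodule := by
        intro g v hv
        rw [LinearMap.mem_ker, Matrix.toLin'_apply] at hv ⊢
        rw [← fs_toLin ρ g, Matrix.toLin'_apply, Matrix.mulVec_mulVec, ← hT g,
          ← Matrix.mulVec_mulVec, hv, Matrix.mulVec_zero] }
  rcases eq_bot_or_eq_top K with h | h
  · have hker : LinearMap.ker (Matrix.toLin' T) = ⊥ := congrArg Subrepresentation.toSubmodule h
    rw [LinearMap.ker_eq_bot] at hker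
    rw [← Matrix.mulVec_injective_iff_isUnit]
    exact hker
  · exfalso
    have hker : LinearMap.ker (Matrix.toLin' T) = ⊤ := congrArg Subrepresentation.toSubmodule h
    rw [LinearMap.ker_eq_top] at hker
    apply hne
    have := congrArg LinearMap.toMatrix' hker
    rwa [LinearMap.toMatrix'_toLin', map_zero] at this

end Cfsg.Agent.Lib.Helper24
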