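import Mathlib
import Cfsg.Agent.Lib.Helper24.FrobSchurReal6

set_option autoImplicit false

namespace Cfsg.Agent.Lib.Helper24

open Matrix

variable {G : Type*} [Group G] {n : ℕ}

theorem fr_Q_posDef [Fintype G] (Y : G → Matrix (Fin n) (Fin n) ℝ) (hY1 : Y 1 = 1) :
    (∑ g : G, (Y g)ᵀ * Y g).PosDef := by
  classical
  rw [← Finset.add_sum_erase Finset.univ _ (Finset.mem_univ (1 : G))]
  apply Matrix.PosDef.add_posSemidef
  · rw [hY1, Matrix.transpose_one, Matrix.one_mul]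
    exact Matrix.PosDef.one
  · apply Matrix.posSemidef_sum
    intro g _
    have := Matrix.posSemidef_conjTranspose_mul_self (Y g)
    rwa [Matrix.conjTranspose_eq_transpose_of_trivial] at this

theorem fr_Q_inv [Fintype G] (Y : G → Matrix (Fin n) (Fin n) ℂ) (hYm : ∀ g h, Y (g * h) = Y g * Y h) (h : G) :
    (Y h)ᵀ * (∑ g : G, (Y g)ᵀ * Y g) * Y h = ∑ g : G, (Y g)ᵀ * Y g := by
  rw [Finset.mul_sum, Finset.sum_mul]
  rw [← Equiv.sum_comp (Equiv.mulRight h) (fun g => (Y g)ᵀ * Y g)]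
  apply Finset.sum_congr rfl
  intro g _
  rw [Equiv.coe_mulRight, hYm, Matrix.transpose_mul]
  simp only [Matrix.mul_assoc]

theorem fr_backward_aux [Fintype G] (ρ : Representation ℂ G (Fin n → ℂ)) [ρ.IsIrreducible]
    (Yr : G → Matrix (Fin n) (Fin n) ℝ) (hY1 : Yr 1 = 1) (hYm : ∀ g h, Yr (g * h) = Yr g * Yr h)
    (htr : ∀ g, (((Yr g).trace : ℝ) : ℂ) = (fsX ρ g).trace) :
    (Nat.card G : ℂ)⁻¹ * ∑ s : G, ρ.character (s * s) = 1 := by
  have hn := fs_n_ne_zero ρ
  let Y : G → Matrix (Fin n) (Fin n) ℂ := fun g => (Yr g).map Complex.ofReal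
  have hYcm : ∀ g h, Y (g * h) = Y g * Y h := by
    intro g h
    show (Yr (g * h)).map Complex.ofReal = (Yr g).map Complex.ofReal * (Yr h).map Complex.ofReal
    rw [hYm]
    exact Matrix.map_mul (f := Complex.ofRealHom)
  have hYtr : ∀ g, (Y g).trace = (fsX ρ g).trace := by
    intro g
    rw [← htr g]
    show ((Yr g).map Complex.ofReal).trace = _
    rw [Matrix.trace, Matrix.trace, Complex.ofReal_sum]
    rfl
  set Qr : Matrix (Fin n) (Fin n) ℝ := ∑ g : G, (Yr g)ᵀ * Yr g with hQr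
  have hQrpd : Qr.PosDef := fr_Q_posDef Yr hY1
  have hQru : IsUnit Qr := hQrpd.isUnit
  set Q : Matrix (Fin n) (Fin n) ℂ := ∑ g : G, (Y g)ᵀ * Y g with hQ
  have hQmap : Q = Complex.ofRealHom.mapMatrix Qr := by
    rw [hQ, hQr, map_sum]
    refine Finset.sum_congr rfl fun g _ => ?_
    rw [map_mul]
    show ((Yr g).map Complex.ofReal)ᵀ * (Yr g).map Complex.ofReal = _
    rfl
  have hQu : IsUnit Q := by
    rw [hQmap]
    exact hQru.map _
  have hQs : Qᵀ = Q := by
    rw [hQ, Matrix.transpose_sum]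
    refine Finset.sum_congr rfl fun g _ => ?_
    rw [Matrix.transpose_mul, Matrix.transpose_transpose]
  have hQinv : ∀ h, (Y h)ᵀ * Q * Y h = Q := fr_Q_inv Y hYcm
  obtain ⟨A, hA⟩ := fr_exists_T ρ Y hYtr
  set T : Matrix (Fin n) (Fin n) ℂ := ∑ g : G, Y g * A * fsX ρ g⁻¹ with hT
  have hTi : ∀ h : G, Y h * T = T * fsX ρ h := fr_T_intertwine (fsX ρ) Y (fsX_mul ρ) hYcm A
  have hTu : IsUnit T := fr_T_isUnit ρ Y T hTi hA
  set M : Matrix (Fin n) (Fin n) ℂ := Tᵀ * Q * T with hM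
  have hMu : IsUnit M := by
    rw [hM]
    apply IsUnit.mul
    · apply IsUnit.mul
      · rw [Matrix.isUnit_iff_isUnit_det, Matrix.det_transpose, ← Matrix.isUnit_iff_isUnit_det]
        exact hTu
      · exact hQu
    · exact hTu
  have hM0 : M ≠ 0 := by
    intro h0
    rw [h0] at hMu
    have hdet := (Matrix.isUnit_iff_isUnit_det _).mp hMu
    haveI : Nonempty (Fin n) := ⟨⟨0, Nat.pos_of_ne_zero hn⟩⟩
    rw [Matrix.det_zero] at hdet
    exact not_isUnit_zero hdet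
  have hMinv : ∀ g : G, (fsX ρ g)ᵀ * M * fsX ρ g = M := by
    intro g
    calc (fsX ρ g)ᵀ * M * fsX ρ g = (T * fsX ρ g)ᵀ * Q * (T * fsX ρ g) := by
          rw [hM, Matrix.transpose_mul]
          simp only [Matrix.mul_assoc]
      _ = (Y g * T)ᵀ * Q * (Y g * T) := by rw [hTi g]
      _ = Tᵀ * ((Y g)ᵀ * Q * Y g) * T := by
          rw [Matrix.transpose_mul]
          simp only [Matrix.mul_assoc]
      _ = M := by rw [hQinv g]
  have hMs : Mᵀ = M := by
    rw [hM, Matrix.transpose_mul, Matrix.transpose_mul, Matrix.transpose_transpose, hQs, Matrix.mul_assoc]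
  have h1 := fs_symm ρ M hMinv
  rw [hMs] at h1
  set ν : ℂ := (Nat.card G : ℂ)⁻¹ * ∑ s : G, ρ.character (s * s) with hν
  have h2 : (ν - 1) • M = 0 := by
    rw [sub_smul, one_smul, ← h1, sub_self]
  rcases smul_eq_zero.mp h2 with h | h
  · exact sub_eq_zero.mp h
  · exact absurd h hM0

end Cfsg.Agent.Lib.Helper24
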