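import Mathlib
import Cfsg.Agent.Lib.Helper24.FrobSchurReal7
import Cfsg.Prelude.Def_Characters

set_option autoImplicit false

namespace Cfsg.Agent.Lib.Helper24

open Matrix

variable {G : Type*} [Group G]

theorem frs_main [Fintype G] (χ : Cfsg.IrrCharacter G) :
    ((Nat.card G : ℂ)⁻¹ * ∑ s : G, (χ : G → ℂ) (s * s)) = 1 ↔
      ∃ (n : ℕ) (ρ : Representation ℝ G (Fin n → ℝ)), ∀ g : G,
        ((LinearMap.trace ℝ (Fin n → ℝ) (ρ g) : ℝ) : ℂ) = (χ : G → ℂ) g := by
  obtain ⟨n, ρ, hirr, hchar⟩ := χ.2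
  haveI := hirr
  constructor
  · intro hν
    rw [← hchar] at hν
    obtain ⟨σ, hσ⟩ := fr_forward ρ hν
    refine ⟨n, σ, fun g => ?_⟩
    rw [hσ g, hchar]
  · rintro ⟨n', σ, hσ⟩
    have hnn : n' = n := by
      have h1 := hσ 1
      rw [map_one, LinearMap.trace_one, Module.finrank_fin_fun, ← hchar, Representation.char_one,
        Module.finrank_fin_fun] at h1
      exact_mod_cast h1
    subst hnn
    rw [← hchar]
    apply fr_backward_aux ρ (fun g => LinearMap.toMatrix' (σ g))
    · show LinearMap.toMatrix' (σ 1) = 1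
      rw [map_one, Module.End.one_eq_id, LinearMap.toMatrix'_id]
    · intro g h
      show LinearMap.toMatrix' (σ (g * h)) = LinearMap.toMatrix' (σ g) * LinearMap.toMatrix' (σ h)
      rw [map_mul, Module.End.mul_eq_comp, LinearMap.toMatrix'_comp]
    · intro g
      show (((LinearMap.toMatrix' (σ g)).trace : ℝ) : ℂ) = _
      rw [← fs_char, hchar, ← hσ g, LinearMap.trace_eq_matrix_trace ℝ (Pi.basisFun ℝ (Fin n')),
        LinearMap.toMatrix_eq_toMatrix']

end Cfsg.Agent.Lib.Helper24
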