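import Mathlib
import Cfsg.Agent.Lib.Helper22.U34G
import Cfsg.Agent.Lib.Helper22.U34S

set_option autoImplicit false

namespace Cfsg.Agent.Lib.Helper24.G2M

theorem no_fix_of_conj {L : Type} [Group L] [Finite L] (V : Type) [AddCommGroup V]
    [DistribMulAction L V] (q : ℕ) [Fact q.Prime] (hq : ¬ q ^ 2 ∣ Nat.card L)
    (g y : L) (hg : orderOf g = q) (hy : orderOf y = q)
    (hf : ∀ v : V, g • v = v → v = 0) (v : V) (hv : y • v = v) : v = 0 := by
  obtain ⟨x, m, hx⟩ := Cfsg.Agent.Lib.Helper22.U34.exists_conj_eq_pow q hq g y hg hy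
  have h1 : ∀ k : ℕ, y ^ k • v = v := by
    intro k
    induction k with
    | zero => simp
    | succ k ih => rw [pow_succ, mul_smul, hv, ih]
  have h2 : (x⁻¹ * g * x) • v = v := by rw [hx, h1]
  have h3 : g • (x • v) = x • v := by
    have := congrArg (fun w => x • w) h2
    simp only [mul_smul, smul_inv_smul] at this
    exact this
  have h4 := hf _ h3
  have h5 : x⁻¹ • (x • v) = x⁻¹ • (0 : V) := by rw [h4]
  rwa [inv_smul_smul, smul_zero] at h5

theorem assemble {L : Type} [Group L] [Finite L] (hcard : Nat.card L = 251596800)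
    (V : Type) [AddCommGroup V] [Finite V] [Nontrivial V] [DistribMulAction L V]
    (hV : ∀ v : V, 2 • v = 0)
    (g6 g10 g7 g13 : L) (h6 : orderOf g6 = 6) (h10 : orderOf g10 = 10) (h7 : orderOf g7 = 7)
    (h13 : orderOf g13 = 13) (hf7 : ∀ v : V, g7 • v = v → v = 0)
    (hf13 : ∀ v : V, g13 • v = v → v = 0) (N : ℕ) :
    ∃ (H : Type) (_ : Group H) (_ : Finite H), N < Nat.card H ∧
      ((∀ p : ℕ, p.Prime → (p ∣ Nat.card L ↔ p ∣ Nat.card H)) ∧
      (∀ p q : ℕ, p.Prime → q.Prime → p ≠ q →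
        ((∃ g : L, orderOf g = p * q) ↔ (∃ g : H, orderOf g = p * q)))) := by
  have i2 : Fact (Nat.Prime 2) := ⟨by norm_num⟩
  have i7 : Fact (Nat.Prime 7) := ⟨by norm_num⟩
  have i13 : Fact (Nat.Prime 13) := ⟨by norm_num⟩
  refine Cfsg.Agent.Lib.Helper22.U34.exists_large_same_graph (L := L) 2 V hV
    (by rw [hcard]; norm_num) ?_ N
  intro q hq hq2 y hy hfix
  have hqd : q ∣ 251596800 := by
    rw [← hcard, ← hy]
    exact orderOf_dvd_natCard y
  have hq' : q = 3 ∨ q = 5 ∨ q = 7 ∨ q = 13 := by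
    have h1 : (251596800 : ℕ) = 2 ^ 12 * 3 ^ 3 * 5 ^ 2 * 7 * 13 := by norm_num
    rw [h1] at hqd
    rcases (Nat.Prime.dvd_mul hq).1 hqd with h | h
    · rcases (Nat.Prime.dvd_mul hq).1 h with h | h
      · rcases (Nat.Prime.dvd_mul hq).1 h with h | h
        · rcases (Nat.Prime.dvd_mul hq).1 h with h | h
          · exact absurd ((Nat.prime_dvd_prime_iff_eq hq (by norm_num)).1
              (hq.dvd_of_dvd_pow h)) hq2
          · left
            exact (Nat.prime_dvd_prime_iff_eq hq (by norm_num)).1 (hq.dvd_of_dvd_pow h)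
        · right; left
          exact (Nat.prime_dvd_prime_iff_eq hq (by norm_num)).1 (hq.dvd_of_dvd_pow h)
      · right; right; left
        exact (Nat.prime_dvd_prime_iff_eq hq (by norm_num)).1 h
    · right; right; right
      exact (Nat.prime_dvd_prime_iff_eq hq (by norm_num)).1 h
  obtain ⟨v, hv0, hv⟩ := hfix
  rcases hq' with rfl | rfl | rfl | rfl
  · exact ⟨g6, h6⟩
  · exact ⟨g10, h10⟩
  · exfalso
    exact hv0 (no_fix_of_conj V 7 (by rw [hcard]; norm_num) g7 y h7 hy hf7 v hv)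
  · exfalso
    exact hv0 (no_fix_of_conj V 13 (by rw [hcard]; norm_num) g13 y h13 hy hf13 v hv)

end Cfsg.Agent.Lib.Helper24.G2M
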