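import Cfsg.Agent.S0144
import Cfsg.Prelude.Def_Solvable

set_option autoImplicit false

namespace Cfsg.Agent.Lib.Helper24

open Subgroup

theorem g42_paqb {G : Type*} [Group G] [Finite G] (p q a b : ℕ) (hp : p.Prime) (hq : q.Prime)
    (h : Nat.card G = p ^ a * q ^ b) : Group.IsSolvable G :=
  Cfsg.Agent.S0144.result p q a b hp hq h

theorem g42_solv_hom {G G' : Type*} [Group G] [Group G'] (f : G →* G')
    (h1 : Group.IsSolvable f.ker) (h2 : Group.IsSolvable G') : Group.IsSolvable G := by
  apply Group.isSolvable_of_ker_le_range f.ker.subtype f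
  rw [Subgroup.range_subtype]

theorem g42_solv_quot {G : Type*} [Group G] (N : Subgroup G) [N.Normal]
    (h1 : Group.IsSolvable N) (h2 : Group.IsSolvable (G ⧸ N)) : Group.IsSolvable G := by
  apply g42_solv_hom (QuotientGroup.mk' N) _ h2
  rw [QuotientGroup.ker_mk']
  exact h1

def G42TF (H : Type*) [Group H] : Prop :=
  ∀ K : Subgroup H, K.Normal → Group.IsSolvable K → K = ⊥

theorem g42_tf_equiv {H H' : Type*} [Group H] [Group H'] (e : H ≃* H') (h : G42TF H) :
    G42TF H' := by
  intro K hK hs
  have hn : (K.comap e.toMonoidHom).Normal := hK.comap _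
  have hsol : Group.IsSolvable (K.comap e.toMonoidHom) := by
    let f : ↥(K.comap e.toMonoidHom) →* ↥K :=
      (e.toMonoidHom.comp (K.comap e.toMonoidHom).subtype).codRestrict K (fun x => x.2)
    have hf : Function.Injective f := by
      intro a b hab
      have : e (a : H) = e (b : H) := congrArg Subtype.val hab
      exact Subtype.ext (e.injective this)
    exact Group.isSolvable_of_isSolvable_injective hf
  have h0 := h _ hn hsol
  rw [eq_bot_iff]
  intro x hx
  have h1 : e.symm x ∈ K.comap e.toMonoidHom := by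
    show e (e.symm x) ∈ K
    rwa [e.apply_symm_apply]
  rw [h0, Subgroup.mem_bot] at h1
  rw [Subgroup.mem_bot]
  have := congrArg e h1
  rwa [e.apply_symm_apply, map_one] at this

theorem g42_tf_not_solvable {H : Type*} [Group H] [Nontrivial H] (h : G42TF H) :
    ¬ Group.IsSolvable H := by
  intro hs
  have hsol : Group.IsSolvable (⊤ : Subgroup H) :=
    Group.isSolvable_of_isSolvable_injective (Subgroup.subtype_injective _)
  have := h ⊤ inferInstance hsol
  exact top_ne_bot this

theorem g42_abelian_normal {H : Type*} [Group H] (K : Subgroup H) [hK : K.Normal]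
    (hs : Group.IsSolvable K) (hne : K ≠ ⊥) :
    ∃ A : Subgroup H, A.Normal ∧ A ≠ ⊥ ∧ ∀ a ∈ A, ∀ b ∈ A, a * b = b * a := by
  have hnorm : ∀ n, ((derivedSeries K n).map K.subtype).Normal := by
    intro n
    induction n with
    | zero =>
      rw [derivedSeries_zero, ← MonoidHom.range_eq_map, Subgroup.range_subtype]
      exact hK
    | succ n ih =>
      rw [derivedSeries_succ, Subgroup.map_commutator]
      exact Subgroup.commutator_normal _ _
  obtain ⟨n, hn⟩ := (Group.isSolvable_def K).1 hs
  classical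
  have hex : ∃ n, derivedSeries K n = ⊥ := ⟨n, hn⟩
  set m := Nat.find hex with hm
  have hm1 : derivedSeries K m = ⊥ := Nat.find_spec hex
  have hm0 : m ≠ 0 := by
    intro h0
    rw [h0, derivedSeries_zero] at hm1
    apply hne
    rw [eq_bot_iff]
    intro x hx
    have : (⟨x, hx⟩ : K) ∈ (⊤ : Subgroup K) := Subgroup.mem_top _
    rw [hm1, Subgroup.mem_bot] at this
    rw [Subgroup.mem_bot]
    exact congrArg Subtype.val this
  obtain ⟨k, hk⟩ := Nat.exists_eq_succ_of_ne_zero hm0
  have hk1 : derivedSeries K k ≠ ⊥ := by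
    have : k < m := by omega
    exact Nat.find_min hex this
  refine ⟨(derivedSeries K k).map K.subtype, hnorm k, ?_, ?_⟩
  · intro h
    apply hk1
    apply Subgroup.map_injective (Subgroup.subtype_injective K)
    rw [h, Subgroup.map_bot]
  · rintro _ ⟨a, ha, rfl⟩ _ ⟨b, hb, rfl⟩
    have hc : ⁅derivedSeries K k, derivedSeries K k⁆ = ⊥ := by
      rw [← derivedSeries_succ, ← Nat.succ_eq_add_one, ← hk]
      exact hm1
    rw [Subgroup.commutator_eq_bot_iff_le_centralizer] at hc
    have := hc ha b hb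
    show (K.subtype a) * (K.subtype b) = (K.subtype b) * (K.subtype a)
    rw [← map_mul, ← map_mul, this]

theorem g42_tf_of_cores {H : Type*} [Group H] [Finite H] (hO : Cfsg.pPrimeCore 2 H = ⊥)
    (hO2 : Cfsg.pCore 2 H = ⊥) : G42TF H := by
  intro K hK hs
  by_contra hne
  obtain ⟨A, hAn, hA0, hAc⟩ := g42_abelian_normal K hs hne
  by_cases h2 : ∃ a ∈ A, orderOf a = 2
  · obtain ⟨a, haA, ha⟩ := h2
    let A2 : Subgroup H :=
      { carrier := {x | x ∈ A ∧ x ^ 2 = 1}
        mul_mem' := by
          rintro x y ⟨hx, hx2⟩ ⟨hy, hy2⟩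
          refine ⟨A.mul_mem hx hy, ?_⟩
          have hc : Commute x y := hAc x hx y hy
          rw [hc.mul_pow, hx2, hy2, one_mul]
        one_mem' := ⟨A.one_mem, one_pow 2⟩
        inv_mem' := by
          rintro x ⟨hx, hx2⟩
          exact ⟨A.inv_mem hx, by rw [inv_pow, hx2, inv_one]⟩ }
    have hA2n : A2.Normal := by
      constructor
      rintro x ⟨hx, hx2⟩ g
      exact ⟨hAn.conj_mem x hx g, by rw [conj_pow, hx2, mul_one, mul_inv_cancel]⟩
    have hA2p : IsPGroup 2 A2 := by
      intro x
      refine ⟨1, ?_⟩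
      apply Subtype.ext
      have := x.2.2
      simpa using this
    have hle : A2 ≤ Cfsg.pCore 2 H := le_sSup ⟨hA2n, hA2p⟩
    rw [hO2] at hle
    have ha2 : a ∈ A2 := ⟨haA, by rw [← ha]; exact pow_orderOf_eq_one a⟩
    have := hle ha2
    rw [Subgroup.mem_bot] at this
    rw [this, orderOf_one] at ha
    omega
  · have hodd : (Nat.card A).Coprime 2 := by
      rw [Nat.coprime_comm, Nat.Prime.coprime_iff_not_dvd Nat.prime_two]
      intro hdvd
      have : Fact (Nat.Prime 2) := ⟨Nat.prime_two⟩
      have := Fintype.ofFinite A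
      rw [Nat.card_eq_fintype_card] at hdvd
      obtain ⟨x, hx⟩ := exists_prime_orderOf_dvd_card 2 hdvd
      apply h2
      exact ⟨x.1, x.2, by rw [← hx]; exact (Subgroup.orderOf_coe x)⟩
    have hle : A ≤ Cfsg.pPrimeCore 2 H := le_sSup ⟨hAn, hodd⟩
    rw [hO] at hle
    exact hA0 (le_bot_iff.1 hle)

end Cfsg.Agent.Lib.Helper24
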