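import Cfsg.Agent.Lib.Helper24.G42B

set_option autoImplicit false

namespace Cfsg.Agent.Lib.Helper24

open Subgroup

theorem g42_sylow_card {G : Type*} [Group G] [Finite G] {p : ℕ} [Fact p.Prime] (P : Sylow p G)
    (k m : ℕ) (hcard : Nat.card G = p ^ k * m) (hm : ¬ p ∣ m) : Nat.card P = p ^ k := by
  rw [P.card_eq_multiplicity, hcard]
  have hp := Fact.out (p := p.Prime)
  have hm0 : m ≠ 0 := by rintro rfl; exact hm (dvd_zero p)
  rw [Nat.factorization_mul (pow_ne_zero _ hp.ne_zero) hm0, hp.factorization_pow]
  simp [Nat.factorization_eq_zero_of_not_dvd hm]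

theorem g42_sylow_normal {G : Type*} [Group G] [Finite G] {p : ℕ} [Fact p.Prime] (P : Sylow p G)
    (h1 : ∀ d, d ∣ (P : Subgroup G).index → d % p = 1 → d = 1) : (P : Subgroup G).Normal := by
  have h2 := card_sylow_modEq_one p G
  have h3 := P.card_dvd_index
  have hp := Fact.out (p := p.Prime)
  have h4 : Nat.card (Sylow p G) = 1 := by
    apply h1 _ h3
    have : Nat.card (Sylow p G) % p = 1 % p := h2
    rw [this]
    exact Nat.mod_eq_of_lt hp.one_lt
  rw [P.card_eq_index_normalizer, Subgroup.index_eq_one] at h4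
  exact Subgroup.normalizer_eq_top_iff.1 h4

theorem g42_solv_sylow {G : Type*} [Group G] [Finite G] {p : ℕ} [Fact p.Prime] (P : Sylow p G)
    (hn : (P : Subgroup G).Normal) (q r a b : ℕ) (hq : q.Prime) (hr : r.Prime)
    (hidx : (P : Subgroup G).index = q ^ a * r ^ b) : Group.IsSolvable G := by
  have h1 : Group.IsSolvable (P : Subgroup G) := by
    have := P.2.isNilpotent
    infer_instance
  apply g42_solv_quot (P : Subgroup G) h1
  apply g42_paqb q r a b hq hr
  rw [← Subgroup.index_eq_card, hidx]

theorem g42_solv_42 {G : Type*} [Group G] [Finite G] (h : Nat.card G = 42) :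
    Group.IsSolvable G := by
  have : Fact (Nat.Prime 7) := ⟨by norm_num⟩
  let P : Sylow 7 G := default
  have hP : Nat.card P = 7 ^ 1 := g42_sylow_card P 1 6 (by norm_num [h]) (by norm_num)
  have hidx : (P : Subgroup G).index = 6 := by
    have := (P : Subgroup G).card_mul_index
    rw [h] at this
    have h7 : Nat.card (P : Subgroup G) = 7 := by simpa using hP
    rw [h7] at this
    omega
  have hn : (P : Subgroup G).Normal := by
    apply g42_sylow_normal P
    intro d hd hd1
    rw [hidx] at hd
    have := Nat.le_of_dvd (by norm_num) hd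
    interval_cases d <;> omega
  exact g42_solv_sylow P hn 2 3 1 1 Nat.prime_two Nat.prime_three (by norm_num [hidx])

theorem g42_solv_84 {G : Type*} [Group G] [Finite G] (h : Nat.card G = 84) :
    Group.IsSolvable G := by
  have : Fact (Nat.Prime 7) := ⟨by norm_num⟩
  let P : Sylow 7 G := default
  have hP : Nat.card P = 7 ^ 1 := g42_sylow_card P 1 12 (by norm_num [h]) (by norm_num)
  have hidx : (P : Subgroup G).index = 12 := by
    have := (P : Subgroup G).card_mul_index
    rw [h] at this
    have h7 : Nat.card (P : Subgroup G) = 7 := by simpa using hP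
    rw [h7] at this
    omega
  have hn : (P : Subgroup G).Normal := by
    apply g42_sylow_normal P
    intro d hd hd1
    rw [hidx] at hd
    have := Nat.le_of_dvd (by norm_num) hd
    interval_cases d <;> omega
  exact g42_solv_sylow P hn 2 3 2 1 Nat.prime_two Nat.prime_three (by norm_num [hidx])

theorem g42_solv_30 {G : Type*} [Group G] [Finite G] (h : Nat.card G = 30) :
    Group.IsSolvable G := by
  have : Fact (Nat.Prime 5) := ⟨by norm_num⟩
  let P : Sylow 5 G := default
  have hP : Nat.card P = 5 ^ 1 := g42_sylow_card P 1 6 (by norm_num [h]) (by norm_num)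
  have h5 : Nat.card (P : Subgroup G) = 5 := by simpa using hP
  have hidx : (P : Subgroup G).index = 6 := by
    have := (P : Subgroup G).card_mul_index
    rw [h, h5] at this
    omega
  have h2 := card_sylow_modEq_one 5 G
  have h3 := P.card_dvd_index
  rw [hidx] at h3
  have h4 : Nat.card (Sylow 5 G) = 1 ∨ Nat.card (Sylow 5 G) = 6 := by
    have hle := Nat.le_of_dvd (by norm_num) h3
    have hm : Nat.card (Sylow 5 G) % 5 = 1 := h2
    generalize Nat.card (Sylow 5 G) = d at *
    interval_cases d <;> omega
  rcases h4 with h4 | h4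
  · have hn : (P : Subgroup G).Normal := by
      rw [P.card_eq_index_normalizer, Subgroup.index_eq_one] at h4
      exact Subgroup.normalizer_eq_top_iff.1 h4
    exact g42_solv_sylow P hn 2 3 1 1 Nat.prime_two Nat.prime_three (by norm_num [hidx])
  · rw [P.card_eq_index_normalizer] at h4
    have hN5 : Nat.card (normalizer ((P : Subgroup G) : Set G)) = 5 := by
      have := (normalizer ((P : Subgroup G) : Set G)).card_mul_index
      have h4' : (normalizer ((P : Subgroup G) : Set G)).index = 6 := h4
      rw [h4', h] at this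
      omega
    have hNP : (P : Subgroup G) = normalizer ((P : Subgroup G) : Set G) :=
      Subgroup.eq_of_le_of_card_ge Subgroup.le_normalizer (by rw [hN5, h5])
    have hcyc : IsCyclic (P : Subgroup G) := isCyclic_of_prime_card h5
    have hle : normalizer ((P : Subgroup G) : Set G) ≤ centralizer ((P : Subgroup G) : Set G) := by
      rw [← hNP]
      intro x hx
      rw [Subgroup.mem_centralizer_iff]
      intro y hy
      have := mul_comm' (⟨y, hy⟩ : (P : Subgroup G)) ⟨x, hx⟩
      exact congrArg Subtype.val this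
    have hc := MonoidHom.ker_transferSylow_isComplement' P hle
    have hcard := hc.card_mul_card
    rw [h5, h] at hcard
    have hK6 : Nat.card (MonoidHom.transferSylow P hle).ker = 6 := by omega
    have hK : Group.IsSolvable (MonoidHom.transferSylow P hle).ker :=
      g42_paqb 2 3 1 1 Nat.prime_two Nat.prime_three (by rw [hK6]; norm_num)
    have hP' : Group.IsSolvable (P : Subgroup G) := by
      have := P.2.isNilpotent
      infer_instance
    exact g42_solv_hom (MonoidHom.transferSylow P hle) hK hP'

theorem g42_simple_168 {H : Type*} [Group H] [Finite H] (h : Nat.card H = 168) (htf : G42TF H) :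
    IsSimpleGroup H := by
  have hnt : Nontrivial H := by
    rw [← Finite.one_lt_card_iff_nontrivial, h]
    norm_num
  refine ⟨?_⟩
  intro N hN
  by_contra hcon
  push Not at hcon
  have hns : ¬ Group.IsSolvable N := fun hs => hcon.1 (htf N hN hs)
  have hdvd := N.card_subgroup_dvd_card
  rw [h] at hdvd
  have hlt : Nat.card N ≠ 168 := by
    intro he
    apply hcon.2
    apply Subgroup.eq_top_of_card_eq
    rw [he, h]
  have hle := Nat.le_of_dvd (by norm_num) hdvd
  apply hns
  generalize hd : Nat.card N = d at *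
  have p2 := Nat.prime_two
  have p3 := Nat.prime_three
  have p7 : Nat.Prime 7 := by norm_num
  interval_cases d <;> first
    | omega
    | exact g42_paqb 2 3 0 0 p2 p3 (hd.trans rfl)
    | exact g42_paqb 2 3 1 0 p2 p3 (hd.trans rfl)
    | exact g42_paqb 2 3 0 1 p2 p3 (hd.trans rfl)
    | exact g42_paqb 2 3 2 0 p2 p3 (hd.trans rfl)
    | exact g42_paqb 2 3 1 1 p2 p3 (hd.trans rfl)
    | exact g42_paqb 2 7 0 1 p2 p7 (hd.trans rfl)
    | exact g42_paqb 2 3 3 0 p2 p3 (hd.trans rfl)
    | exact g42_paqb 2 3 2 1 p2 p3 (hd.trans rfl)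
    | exact g42_paqb 2 7 1 1 p2 p7 (hd.trans rfl)
    | exact g42_paqb 3 7 1 1 p3 p7 (hd.trans rfl)
    | exact g42_paqb 2 3 3 1 p2 p3 (hd.trans rfl)
    | exact g42_paqb 2 7 2 1 p2 p7 (hd.trans rfl)
    | exact g42_solv_42 hd
    | exact g42_paqb 2 7 3 1 p2 p7 (hd.trans rfl)
    | exact g42_solv_84 hd

theorem g42_simple_60 {H : Type*} [Group H] [Finite H] (h : Nat.card H = 60) (htf : G42TF H) :
    IsSimpleGroup H := by
  have hnt : Nontrivial H := by
    rw [← Finite.one_lt_card_iff_nontrivial, h]
    norm_num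
  refine ⟨?_⟩
  intro N hN
  by_contra hcon
  push Not at hcon
  have hns : ¬ Group.IsSolvable N := fun hs => hcon.1 (htf N hN hs)
  have hdvd := N.card_subgroup_dvd_card
  rw [h] at hdvd
  have hlt : Nat.card N ≠ 60 := by
    intro he
    apply hcon.2
    apply Subgroup.eq_top_of_card_eq
    rw [he, h]
  have hle := Nat.le_of_dvd (by norm_num) hdvd
  apply hns
  generalize hd : Nat.card N = d at *
  have p2 := Nat.prime_two
  have p3 := Nat.prime_three
  have p5 : Nat.Prime 5 := by norm_num
  interval_cases d <;> first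
    | omega
    | exact g42_paqb 2 3 0 0 p2 p3 (hd.trans rfl)
    | exact g42_paqb 2 3 1 0 p2 p3 (hd.trans rfl)
    | exact g42_paqb 2 3 0 1 p2 p3 (hd.trans rfl)
    | exact g42_paqb 2 3 2 0 p2 p3 (hd.trans rfl)
    | exact g42_paqb 2 5 0 1 p2 p5 (hd.trans rfl)
    | exact g42_paqb 2 3 1 1 p2 p3 (hd.trans rfl)
    | exact g42_paqb 2 5 1 1 p2 p5 (hd.trans rfl)
    | exact g42_paqb 2 3 2 1 p2 p3 (hd.trans rfl)
    | exact g42_paqb 3 5 1 1 p3 p5 (hd.trans rfl)
    | exact g42_paqb 2 5 2 1 p2 p5 (hd.trans rfl)
    | exact g42_solv_30 hd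

end Cfsg.Agent.Lib.Helper24
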