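import Cfsg.Agent.Lib.Helper24.G42C

set_option autoImplicit false

namespace Cfsg.Agent.Lib.Helper24

open Subgroup MulAction
open scoped Pointwise

theorem g42_perm_small_solv {α : Type*} [Finite α] (h : Nat.card α ≤ 4) :
    Group.IsSolvable (Equiv.Perm α) := by
  have hc : Nat.card (Equiv.Perm α) = (Nat.card α).factorial := Nat.card_perm
  have p2 := Nat.prime_two
  have p3 := Nat.prime_three
  generalize Nat.card α = m at *
  interval_cases m
  · exact g42_paqb 2 3 0 0 p2 p3 (hc.trans rfl)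
  · exact g42_paqb 2 3 0 0 p2 p3 (hc.trans rfl)
  · exact g42_paqb 2 3 1 0 p2 p3 (hc.trans rfl)
  · exact g42_paqb 2 3 1 1 p2 p3 (hc.trans rfl)
  · exact g42_paqb 2 3 3 1 p2 p3 (hc.trans rfl)

theorem g42_small_orbits {G Ω : Type*} [Group G] [MulAction G Ω] [FaithfulSMul G Ω] [Finite Ω]
    (h : ∀ x : Ω, (orbit G x).ncard ≤ 4) : Group.IsSolvable G := by
  classical
  have key : ∀ x : Ω, ∃ n, ∀ g ∈ derivedSeries G n, g • x = x := by
    intro x
    let φ := MulAction.toPermHom G (orbit G x)
    have hs : Group.IsSolvable (Equiv.Perm (orbit G x)) :=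
      g42_perm_small_solv (by rw [Nat.card_coe_set_eq]; exact h x)
    obtain ⟨n, hn⟩ := (Group.isSolvable_def _).1 hs
    refine ⟨n, fun g hg => ?_⟩
    have h1 : φ g ∈ (derivedSeries G n).map φ := Subgroup.mem_map_of_mem _ hg
    have h2 := map_derivedSeries_le_derivedSeries φ n h1
    rw [hn, Subgroup.mem_bot] at h2
    have h3 : φ g ⟨x, mem_orbit_self x⟩ = ⟨x, mem_orbit_self x⟩ := by rw [h2]; rfl
    exact congrArg Subtype.val h3
  choose n hn using key
  have := Fintype.ofFinite Ω
  rw [Group.isSolvable_def]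
  refine ⟨Finset.univ.sup n, ?_⟩
  rw [eq_bot_iff]
  intro g hg
  rw [Subgroup.mem_bot]
  apply FaithfulSMul.eq_of_smul_eq_smul (α := Ω)
  intro x
  rw [one_smul]
  apply hn x
  exact derivedSeries_antitone G (Finset.le_sup (Finset.mem_univ x)) hg

theorem g42_big_orbit {G Ω : Type*} [Group G] [MulAction G Ω] [FaithfulSMul G Ω] [Finite Ω]
    (h : ¬ Group.IsSolvable G) : ∃ x : Ω, 5 ≤ (orbit G x).ncard := by
  by_contra hcon
  push Not at hcon
  exact h (g42_small_orbits fun x => by have := hcon x; omega)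

theorem g42_normal_orbit_card {G Ω : Type*} [Group G] [MulAction G Ω] (N : Subgroup G)
    [N.Normal] (g : G) (x : Ω) : (orbit N (g • x)).ncard = (orbit N x).ncard := by
  rw [← MulAction.smul_orbit_eq_orbit_smul N x g, Set.ncard_smul_set]

theorem g42_normal_trans {G Ω : Type*} [Group G] [MulAction G Ω] [IsPretransitive G Ω]
    [Finite Ω] (N : Subgroup G) [N.Normal] (x : Ω)
    (hx : Nat.card Ω < 2 * (orbit N x).ncard) : IsPretransitive N Ω := by
  rw [MulAction.isPretransitive_iff_orbit_eq_univ x]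
  rw [Set.eq_univ_iff_forall]
  intro y
  obtain ⟨g, rfl⟩ := exists_smul_eq G x y
  have h1 := g42_normal_orbit_card N g x
  rcases MulAction.orbit.eq_or_disjoint (G := N) (g • x) x with h2 | h2
  · rw [← h2]
    exact mem_orbit_self _
  · exfalso
    have h3 : (orbit N (g • x) ∪ orbit N x).ncard = (orbit N (g • x)).ncard + (orbit N x).ncard :=
      Set.ncard_union_eq h2 (Set.toFinite _) (Set.toFinite _)
    have h4 : (orbit N (g • x) ∪ orbit N x).ncard ≤ Nat.card Ω := by
      rw [← Set.ncard_univ]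
      exact Set.ncard_le_ncard (Set.subset_univ _) (Set.toFinite _)
    omega

end Cfsg.Agent.Lib.Helper24
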