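import Cfsg.Agent.Lib.Helper24.G42D

set_option autoImplicit false

namespace Cfsg.Agent.Lib.Helper24

open Subgroup MulAction Equiv

theorem g42_card_perm {α : Type*} [Fintype α] [DecidableEq α] :
    Nat.card (Perm α) = (Fintype.card α).factorial := by
  rw [Nat.card_eq_fintype_card, Fintype.card_perm]

theorem g42_card_alt {α : Type*} [Fintype α] [DecidableEq α] (h : 2 ≤ Fintype.card α) :
    2 * Nat.card (alternatingGroup α) = (Fintype.card α).factorial := by
  have : Nontrivial α := Fintype.one_lt_card_iff_nontrivial.1 (by omega)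
  rw [Nat.card_eq_fintype_card, two_mul_card_alternatingGroup, Fintype.card_perm]

theorem g42_alt_or_top {α : Type*} [Fintype α] [DecidableEq α] (h2 : 2 ≤ Fintype.card α)
    (L : Subgroup (Perm α)) (h : alternatingGroup α ≤ L) : L = alternatingGroup α ∨ L = ⊤ := by
  have : Nontrivial α := Fintype.one_lt_card_iff_nontrivial.1 (by omega)
  have h2 := alternatingGroup.index_eq_two (α := α)
  have h3 : L.index ∣ 2 := by rw [← h2]; exact Subgroup.index_dvd_of_le h
  rcases (Nat.dvd_prime Nat.prime_two).1 h3 with h4 | h4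
  · right; exact Subgroup.index_eq_one.1 h4
  · left; symm
    apply Subgroup.eq_of_le_of_card_ge h
    have a := L.card_mul_index
    have b := (alternatingGroup α).card_mul_index
    rw [h4] at a; rw [h2] at b
    omega

theorem g42_alt_index {α : Type*} [Fintype α] [DecidableEq α] (hα : 5 ≤ Fintype.card α)
    (K : Subgroup (Perm α)) (hK : K ≤ alternatingGroup α) (hne : K ≠ alternatingGroup α) :
    Fintype.card α * Nat.card K ≤ Nat.card (alternatingGroup α) := by
  have hsimple : IsSimpleGroup (alternatingGroup α) :=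
    alternatingGroup.isSimpleGroup (by rw [Nat.card_eq_fintype_card]; exact hα)
  set K' : Subgroup (alternatingGroup α) := K.subgroupOf (alternatingGroup α) with hK'
  have hK'top : K' ≠ ⊤ := by
    intro h
    rw [hK', Subgroup.subgroupOf_eq_top] at h
    exact hne (le_antisymm hK h)
  have hcK : Nat.card K' = Nat.card K := Nat.card_congr (Subgroup.subgroupOfEquivOfLe hK).toEquiv
  let ψ := MulAction.toPermHom (alternatingGroup α) (alternatingGroup α ⧸ K')
  have hker : ψ.ker = ⊥ := by
    have hn : ψ.ker.Normal := inferInstance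
    rcases hsimple.eq_bot_or_eq_top_of_normal _ hn with h | h
    · exact h
    · exfalso
      apply hK'top
      rw [eq_top_iff, ← h, ← Subgroup.normalCore_eq_ker]
      exact Subgroup.normalCore_le K'
  have hinj : Function.Injective ψ := (MonoidHom.ker_eq_bot_iff ψ).1 hker
  have hdvd := Subgroup.card_dvd_of_injective ψ hinj
  rw [Nat.card_perm, ← Subgroup.index_eq_card] at hdvd
  have hidx := K'.card_mul_index
  have hA := g42_card_alt (α := α) (by omega)
  by_contra hcon
  push Not at hcon
  rw [← hcK, ← hidx] at hcon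
  have hKpos : 0 < Nat.card K' := Nat.card_pos
  have hlt : K'.index < Fintype.card α := by
    rw [mul_comm] at hcon
    exact Nat.lt_of_mul_lt_mul_right hcon
  have h1 : K'.index.factorial ≤ (Fintype.card α - 1).factorial :=
    Nat.factorial_le (by omega)
  have h2 : Nat.card (alternatingGroup α) ≤ K'.index.factorial :=
    Nat.le_of_dvd (Nat.factorial_pos _) hdvd
  have h3 : (Fintype.card α).factorial = Fintype.card α * (Fintype.card α - 1).factorial := by
    obtain ⟨m, hm⟩ : ∃ m, Fintype.card α = m + 1 := ⟨Fintype.card α - 1, by omega⟩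
    rw [hm, Nat.factorial_succ]
    simp
  have h4 : 0 < (Fintype.card α - 1).factorial := Nat.factorial_pos _
  nlinarith

theorem g42_alt_part {α : Type*} [Fintype α] [DecidableEq α] (L : Subgroup (Perm α)) :
    (Group.IsSolvable (L ⊓ alternatingGroup α : Subgroup (Perm α)) → Group.IsSolvable L) ∧
    (Nat.card L = Nat.card (L ⊓ alternatingGroup α : Subgroup (Perm α)) ∨
      Nat.card L = 2 * Nat.card (L ⊓ alternatingGroup α : Subgroup (Perm α))) := by
  let f : L →* ℤˣ := (Equiv.Perm.sign).comp L.subtype
  let j : f.ker →* (L ⊓ alternatingGroup α : Subgroup (Perm α)) :=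
    { toFun := fun x => ⟨x.1.1, x.1.2, Equiv.Perm.mem_alternatingGroup.2 (MonoidHom.mem_ker.1 x.2)⟩
      map_one' := rfl
      map_mul' := fun _ _ => rfl }
  have hj : Function.Bijective j := by
    constructor
    · intro a b hab
      apply Subtype.ext
      apply Subtype.ext
      have h := congrArg Subtype.val hab
      exact h
    · rintro ⟨x, hx1, hx2⟩
      refine ⟨⟨⟨x, hx1⟩, ?_⟩, rfl⟩
      rw [MonoidHom.mem_ker]
      exact Equiv.Perm.mem_alternatingGroup.1 hx2
  constructor
  · intro hs
    have h1 : Group.IsSolvable f.ker := Group.isSolvable_of_isSolvable_injective hj.1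
    have h2 : Group.IsSolvable ℤˣ := Group.isSolvable_of_comm (fun a b => mul_comm a b)
    exact g42_solv_hom f h1 h2
  · have hc : Nat.card f.ker = Nat.card (L ⊓ alternatingGroup α : Subgroup (Perm α)) :=
      Nat.card_congr (Equiv.ofBijective j hj)
    have h1 := f.ker.card_mul_index
    rw [Subgroup.index_ker, hc] at h1
    have h2 : Nat.card f.range ∣ 2 := by
      have := f.range.card_subgroup_dvd_card
      rwa [show Nat.card ℤˣ = 2 by rw [Nat.card_eq_fintype_card]; rfl] at this
    rcases (Nat.dvd_prime Nat.prime_two).1 h2 with h3 | h3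
    · left; rw [h3] at h1; omega
    · right; rw [h3] at h1; omega

theorem g42_case5 {α : Type*} [Fintype α] [DecidableEq α] (hα : Fintype.card α = 5)
    (L : Subgroup (Perm α)) (hns : ¬ Group.IsSolvable L) : alternatingGroup α ≤ L := by
  by_contra hcon
  have hK : (L ⊓ alternatingGroup α : Subgroup (Perm α)) ≠ alternatingGroup α := by
    intro h
    apply hcon
    rw [← h]
    exact inf_le_left
  have h1 := g42_alt_index (by omega) _ inf_le_right hK
  have h2 := g42_card_alt (α := α) (by omega)
  rw [hα] at h1 h2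
  have h3 : Nat.card (alternatingGroup α) = 60 := by
    have : Nat.factorial 5 = 120 := rfl
    omega
  have h4 : Nat.card (L ⊓ alternatingGroup α : Subgroup (Perm α)) ∣ 60 := by
    rw [← h3]
    exact Subgroup.card_dvd_of_le inf_le_right
  apply hns
  apply (g42_alt_part L).1
  have p2 := Nat.prime_two
  have p3 := Nat.prime_three
  have p5 : Nat.Prime 5 := by norm_num
  generalize hd : Nat.card (L ⊓ alternatingGroup α : Subgroup (Perm α)) = d at *
  have hle : d ≤ 12 := by omega
  interval_cases d <;> first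
    | omega
    | exact g42_paqb 2 3 0 0 p2 p3 (hd.trans rfl)
    | exact g42_paqb 2 3 1 0 p2 p3 (hd.trans rfl)
    | exact g42_paqb 2 3 0 1 p2 p3 (hd.trans rfl)
    | exact g42_paqb 2 3 2 0 p2 p3 (hd.trans rfl)
    | exact g42_paqb 2 5 0 1 p2 p5 (hd.trans rfl)
    | exact g42_paqb 2 3 1 1 p2 p3 (hd.trans rfl)
    | exact g42_paqb 2 5 1 1 p2 p5 (hd.trans rfl)
    | exact g42_paqb 2 3 2 1 p2 p3 (hd.trans rfl)

theorem g42_case6 {α : Type*} [Fintype α] [DecidableEq α] (hα : Fintype.card α = 6)
    (L : Subgroup (Perm α)) (hns : ¬ Group.IsSolvable L) :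
    alternatingGroup α ≤ L ∨ Nat.card L = 60 ∨ Nat.card L = 120 := by
  by_cases hK : (L ⊓ alternatingGroup α : Subgroup (Perm α)) = alternatingGroup α
  · left
    rw [← hK]
    exact inf_le_left
  right
  have h1 := g42_alt_index (by omega) _ inf_le_right hK
  have h2 := g42_card_alt (α := α) (by omega)
  rw [hα] at h1 h2
  have h3 : Nat.card (alternatingGroup α) = 360 := by
    have : Nat.factorial 6 = 720 := rfl
    omega
  have h4 : Nat.card (L ⊓ alternatingGroup α : Subgroup (Perm α)) ∣ 360 := by
    rw [← h3]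
    exact Subgroup.card_dvd_of_le inf_le_right
  have hKns : ¬ Group.IsSolvable (L ⊓ alternatingGroup α : Subgroup (Perm α)) :=
    fun hs => hns ((g42_alt_part L).1 hs)
  have h60 : Nat.card (L ⊓ alternatingGroup α : Subgroup (Perm α)) = 60 := by
    by_contra hne
    apply hKns
    have p2 := Nat.prime_two
    have p3 := Nat.prime_three
    have p5 : Nat.Prime 5 := by norm_num
    generalize hd : Nat.card (L ⊓ alternatingGroup α : Subgroup (Perm α)) = d at *
    have hle : d ≤ 60 := by omega
    interval_cases d <;> first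
      | omega
      | exact g42_paqb 2 3 0 0 p2 p3 (hd.trans rfl)
      | exact g42_paqb 2 3 1 0 p2 p3 (hd.trans rfl)
      | exact g42_paqb 2 3 0 1 p2 p3 (hd.trans rfl)
      | exact g42_paqb 2 3 2 0 p2 p3 (hd.trans rfl)
      | exact g42_paqb 2 5 0 1 p2 p5 (hd.trans rfl)
      | exact g42_paqb 2 3 1 1 p2 p3 (hd.trans rfl)
      | exact g42_paqb 2 3 3 0 p2 p3 (hd.trans rfl)
      | exact g42_paqb 2 3 0 2 p2 p3 (hd.trans rfl)
      | exact g42_paqb 2 5 1 1 p2 p5 (hd.trans rfl)
      | exact g42_paqb 2 3 2 1 p2 p3 (hd.trans rfl)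
      | exact g42_paqb 3 5 1 1 p3 p5 (hd.trans rfl)
      | exact g42_paqb 2 3 1 2 p2 p3 (hd.trans rfl)
      | exact g42_paqb 2 5 2 1 p2 p5 (hd.trans rfl)
      | exact g42_paqb 2 3 3 1 p2 p3 (hd.trans rfl)
      | exact g42_solv_30 hd
      | exact g42_paqb 2 3 2 2 p2 p3 (hd.trans rfl)
      | exact g42_paqb 2 5 3 1 p2 p5 (hd.trans rfl)
      | exact g42_paqb 3 5 2 1 p3 p5 (hd.trans rfl)
  rcases (g42_alt_part L).2 with h | h
  · left; omega
  · right; omega

theorem g42_index_trick_gen {G X : Type*} [Group G] [MulAction G X] [Finite X]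
    (hinj : Function.Injective (MulAction.toPermHom G X)) (x₀ : X) (n : ℕ)
    (hX : Nat.card X = n + 1) (hS : Nat.card (stabilizer G x₀) = n.factorial) :
    Nonempty (stabilizer G x₀ ≃* Perm (Fin n)) := by
  classical
  let ρ := MulAction.toPermHom (MulAction.stabilizer G x₀) (SubMulAction.ofStabilizer G x₀)
  have hρ : Function.Injective ρ := by
    rw [← MonoidHom.ker_eq_bot_iff, eq_bot_iff]
    intro g hg
    rw [Subgroup.mem_bot]
    have hg1 : (toPermHom G X) (g : G) = 1 := by
      ext y
      by_cases hy : y = x₀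
      · rw [hy]
        exact g.2
      · have hy' : y ∈ SubMulAction.ofStabilizer G x₀ :=
          (SubMulAction.mem_ofStabilizer_iff _ _).2 hy
        have h1 : ρ g ⟨y, hy'⟩ = ⟨y, hy'⟩ := by
          rw [MonoidHom.mem_ker.1 hg]; rfl
        exact congrArg Subtype.val h1
    apply Subtype.ext
    apply hinj
    rw [hg1, Subgroup.coe_one, map_one]
  have hc5 : Nat.card (SubMulAction.ofStabilizer G x₀) = n := by
    rw [SubMulAction.nat_card_ofStabilizer_eq, hX]
    simp
  have hbij : Function.Bijective ρ := by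
    apply hρ.bijective_of_nat_card_le
    rw [Nat.card_perm, hc5, hS]
  exact ⟨(MulEquiv.ofBijective ρ hbij).trans
    (Equiv.permCongrHom (Finite.equivFinOfCardEq hc5))⟩

theorem g42_index_trick {α : Type*} [Fintype α] [DecidableEq α] (hα : Fintype.card α = 6)
    (L : Subgroup (Perm α)) (hL : Nat.card L = 120) : Nonempty (L ≃* Perm (Fin 5)) := by
  classical
  have hX : Nat.card (Perm α ⧸ L) = 6 := by
    rw [← Subgroup.index_eq_card]
    have := L.card_mul_index
    rw [hL, g42_card_perm, hα] at this
    have h6 : Nat.factorial 6 = 720 := rfl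
    omega
  have : Finite (Perm α ⧸ L) := Nat.finite_of_card_ne_zero (by omega)
  have hker : (MulAction.toPermHom (Perm α) (Perm α ⧸ L)).ker = ⊥ := by
    rw [← Subgroup.normalCore_eq_ker]
    by_contra hne
    have hnt : Nontrivial L.normalCore := (Subgroup.nontrivial_iff_ne_bot _).2 hne
    have h1 : alternatingGroup α ≤ L.normalCore :=
      Equiv.Perm.alternatingGroup_le_of_normal (by rw [Nat.card_eq_fintype_card]; omega) hnt
    have h2 : alternatingGroup α ≤ L := h1.trans (Subgroup.normalCore_le L)
    have h3 := Subgroup.card_le_of_le h2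
    have h4 := g42_card_alt (α := α) (by omega)
    rw [hα] at h4
    have h6 : Nat.factorial 6 = 720 := rfl
    omega
  have hinj : Function.Injective (MulAction.toPermHom (Perm α) (Perm α ⧸ L)) :=
    (MonoidHom.ker_eq_bot_iff _).1 hker
  have hstab : MulAction.stabilizer (Perm α) ((1 : Perm α) : Perm α ⧸ L) = L :=
    MulAction.stabilizer_quotient L
  obtain ⟨e⟩ := g42_index_trick_gen hinj ((1 : Perm α) : Perm α ⧸ L) 5 hX
    (by rw [hstab, hL]; rfl)
  exact ⟨(MulEquiv.subgroupCongr hstab).symm.trans e⟩

end Cfsg.Agent.Lib.Helper24
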