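import Cfsg.Agent.Lib.Helper24.G42E
import Cfsg.Agent.S0678
import Cfsg.Agent.S0989
import Cfsg.Agent.S0990

set_option autoImplicit false

namespace Cfsg.Agent.Lib.Helper24

open Subgroup MulAction Equiv

theorem g42_solv7 {β : Type*} [Fintype β] [DecidableEq β] (hβ : Fintype.card β = 7)
    (G : Subgroup (Perm β)) [IsPretransitive G β] (hs : Group.IsSolvable G)
    (hG : G ≤ alternatingGroup β) : Nat.card G ∣ 21 := by
  have hp7 : Fact (Nat.Prime 7) := ⟨by norm_num⟩
  have hβnt : Nontrivial β := Fintype.one_lt_card_iff_nontrivial.1 (by omega)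
  have hGnt : (⊤ : Subgroup G) ≠ ⊥ := by
    obtain ⟨x, y, hxy⟩ := exists_pair_ne β
    obtain ⟨g, hg⟩ := exists_smul_eq G x y
    intro h
    have hm : g ∈ (⊤ : Subgroup G) := Subgroup.mem_top g
    rw [h, Subgroup.mem_bot] at hm
    rw [hm, one_smul] at hg
    exact hxy hg
  have hsT : Group.IsSolvable (⊤ : Subgroup G) :=
    Group.isSolvable_of_isSolvable_injective (Subgroup.subtype_injective _)
  obtain ⟨A, hAn, hA0, hAc⟩ := g42_abelian_normal (⊤ : Subgroup G) hsT hGnt
  have hprim : IsPreprimitive G β :=
    IsPreprimitive.of_prime_card (by rw [Nat.card_eq_fintype_card, hβ]; norm_num)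
  have hq : IsQuasiPreprimitive G β := IsPreprimitive.isQuasiPreprimitive
  have hAt : IsPretransitive A β := by
    apply hq.isPretransitive_of_normal
    intro hfix
    apply hA0
    rw [eq_bot_iff]
    intro a ha
    rw [Subgroup.mem_bot]
    apply Subtype.ext
    ext x
    have hx : x ∈ fixedPoints A β := by rw [hfix]; trivial
    exact hx ⟨a, ha⟩
  obtain ⟨x⟩ : Nonempty β := inferInstance
  have hstab : stabilizer A x = ⊥ := by
    rw [eq_bot_iff]
    intro a ha
    rw [Subgroup.mem_bot]
    apply Subtype.ext
    apply Subtype.ext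
    ext y
    obtain ⟨b, rfl⟩ := exists_smul_eq A x y
    have hc : a * b = b * a := Subtype.ext (hAc a.1 a.2 b.1 b.2)
    have ha' : a • x = x := ha
    show a • (b • x) = b • x
    rw [← mul_smul, hc, mul_smul, ha']
  have hA7 : Nat.card A = 7 := by
    have h1 := index_stabilizer_of_transitive A x
    rw [hstab, Subgroup.index_bot] at h1
    rw [h1, Nat.card_eq_fintype_card, hβ]
  set A' : Subgroup (Perm β) := A.map G.subtype with hA'
  have hA'7 : Nat.card A' = 7 := by
    rw [hA', Subgroup.card_map_of_injective (Subgroup.subtype_injective G), hA7]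
  have hA'p : IsPGroup 7 A' := IsPGroup.of_card (n := 1) (by rw [hA'7]; norm_num)
  obtain ⟨P, hP⟩ := hA'p.exists_le_sylow
  have hP7 : Nat.card P = 7 ^ 1 := by
    apply g42_sylow_card P 1 720 _ (by norm_num)
    rw [g42_card_perm, hβ]
    rfl
  have hAP : A' = (P : Subgroup (Perm β)) :=
    Subgroup.eq_of_le_of_card_ge hP (by rw [hA'7]; exact le_of_eq (by simpa using hP7))
  have hGN : G ≤ normalizer ((P : Subgroup (Perm β)) : Set (Perm β)) := by
    rw [← hAP]
    have hle : A' ≤ G := Subgroup.map_subtype_le A
    rw [← Subgroup.normal_subgroupOf_iff_le_normalizer hle]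
    have : A'.subgroupOf G = A := by
      rw [hA']
      exact Subgroup.comap_map_eq_self_of_injective (Subgroup.subtype_injective G) A
    rw [this]
    exact hAn
  have h989 := Cfsg.Agent.S0989.result 7 (Or.inl hβ) P
  have h990 := Cfsg.Agent.S0990.result (α := β) (by omega) 7 (by norm_num) P
  rw [h989] at h990
  have h21 : Nat.card (normalizer (((P : Subgroup (Perm β)).subgroupOf (alternatingGroup β) :
      Subgroup (alternatingGroup β)) : Set (alternatingGroup β))) = 21 := by
    have := h990.2
    omega
  have hle : G.subgroupOf (alternatingGroup β) ≤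
      normalizer (((P : Subgroup (Perm β)).subgroupOf (alternatingGroup β) :
      Subgroup (alternatingGroup β)) : Set (alternatingGroup β)) := by
    intro g hg
    have hg' : (g : Perm β) ∈ normalizer ((P : Subgroup (Perm β)) : Set (Perm β)) := hGN hg
    rw [Subgroup.mem_normalizer_iff] at hg' ⊢
    intro h
    exact hg' (h : Perm β)
  have hc := Subgroup.card_dvd_of_le hle
  rw [h21] at hc
  rwa [Nat.card_congr (Subgroup.subgroupOfEquivOfLe hG).toEquiv] at hc

theorem g42_case7 {α : Type*} [Fintype α] [DecidableEq α] (hα : Fintype.card α = 7)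
    (L : Subgroup (Perm α)) [IsPretransitive L α] (hns : ¬ Group.IsSolvable L)
    (hL : L ≤ alternatingGroup α) :
    L = alternatingGroup α ∨ (Nat.card L = 168 ∧ IsSimpleGroup L) := by
  by_cases h : alternatingGroup α ≤ L
  · left; exact le_antisymm hL h
  · right; exact Cfsg.Agent.S0678.result hα L hns h

end Cfsg.Agent.Lib.Helper24
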