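import Cfsg.Agent.Lib.Helper24.G42F

set_option autoImplicit false

namespace Cfsg.Agent.Lib.Helper24

open Subgroup MulAction Equiv

theorem g42_prim8 {α : Type*} [Fintype α] [DecidableEq α] (hα : Fintype.card α = 8)
    (L : Subgroup (Perm α)) [IsPretransitive L α] [Nontrivial L] (htf : G42TF L) :
    IsPreprimitive L α := by
  have hαnt : Nontrivial α := Fintype.one_lt_card_iff_nontrivial.1 (by omega)
  obtain ⟨ω⟩ : Nonempty α := inferInstance
  rw [← isCoatom_stabilizer_iff_preprimitive L ω]
  have hidx8 : (stabilizer L ω).index = 8 := by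
    rw [index_stabilizer_of_transitive L ω, Nat.card_eq_fintype_card, hα]
  constructor
  · intro h
    rw [h, Subgroup.index_top] at hidx8
    omega
  · intro M hM
    by_contra hMtop
    have hdvd : M.index ∣ 8 := by
      rw [← hidx8]
      exact Subgroup.index_dvd_of_le hM.le
    have hne1 : M.index ≠ 1 := fun h => hMtop (Subgroup.index_eq_one.1 h)
    have hne8 : M.index ≠ 8 := by
      intro h
      have a := M.card_mul_index
      have b := (stabilizer L ω).card_mul_index
      rw [h] at a
      rw [hidx8] at b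
      have hle : Nat.card M ≤ Nat.card (stabilizer L ω) := by omega
      exact hM.ne (Subgroup.eq_of_le_of_card_ge hM.le hle)
    have hle4 : M.index ≤ 4 := by
      have := Nat.le_of_dvd (by norm_num) hdvd
      generalize M.index = k at *
      interval_cases k <;> omega
    have hPs : Group.IsSolvable (Perm (L ⧸ M)) :=
      g42_perm_small_solv (by rw [← Subgroup.index_eq_card]; exact hle4)
    have hCns : ¬ Group.IsSolvable M.normalCore := by
      intro hs
      apply g42_tf_not_solvable htf
      apply g42_solv_hom (MulAction.toPermHom L (L ⧸ M)) _ hPs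
      rw [← Subgroup.normalCore_eq_ker]
      exact hs
    obtain ⟨x, hx⟩ := g42_big_orbit (G := M.normalCore) (Ω := α) hCns
    have hCt : IsPretransitive M.normalCore α :=
      g42_normal_trans M.normalCore x (by rw [Nat.card_eq_fintype_card, hα]; omega)
    apply hMtop
    rw [eq_top_iff]
    intro h _
    obtain ⟨c, hc⟩ := exists_smul_eq M.normalCore ω (h • ω)
    have h1 : (c : L)⁻¹ * h ∈ stabilizer L ω := by
      rw [mem_stabilizer_iff, mul_smul, ← hc]
      exact inv_smul_smul _ _
    have h2 : (c : L) ∈ M := Subgroup.normalCore_le M c.2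
    have := M.mul_mem h2 (hM.le h1)
    simpa using this

theorem g42_two_three {d : ℕ} (h : d ∣ 2 ^ 6 * 3 ^ 2) : ∃ a b, d = 2 ^ a * 3 ^ b := by
  obtain ⟨k1, k2, h1, h2, rfl⟩ := Nat.dvd_mul.1 h
  obtain ⟨a, _, rfl⟩ := (Nat.dvd_prime_pow Nat.prime_two).1 h1
  obtain ⟨b, _, rfl⟩ := (Nat.dvd_prime_pow Nat.prime_three).1 h2
  exact ⟨a, b, rfl⟩

theorem g42_cycle_of_order {α : Type*} [Fintype α] [DecidableEq α] (g : Perm α) (p : ℕ)
    (hp : p.Prime) (hg : orderOf g = p) (hc : Fintype.card α < 2 * p) :
    g.IsCycle ∧ g.support.card = p := by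
  obtain ⟨n, hn⟩ := Equiv.Perm.cycleType_prime_order (σ := g) (by rw [hg]; exact hp)
  have hsum := Equiv.Perm.sum_cycleType g
  rw [hn, Multiset.sum_replicate, hg, smul_eq_mul] at hsum
  have hle : g.support.card ≤ Fintype.card α := Finset.card_le_univ _
  have hn0 : n = 0 := by
    by_contra h0
    have : 2 ≤ n + 1 := by omega
    have : 2 * p ≤ (n + 1) * p := Nat.mul_le_mul_right p this
    omega
  subst hn0
  constructor
  · rw [← Equiv.Perm.card_cycleType_eq_one, hn]
    simp
  · rw [← hsum]; simp

theorem g42_seven_dvd {α : Type*} [Fintype α] [DecidableEq α] (hα : Fintype.card α = 8)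
    (L : Subgroup (Perm α)) (hprim : IsPreprimitive L α) (hns : ¬ Group.IsSolvable L)
    (hL : L ≤ alternatingGroup α) : 7 ∣ Nat.card L := by
  by_contra h7
  have hdvd : Nat.card L ∣ 20160 := by
    have h1 := Subgroup.card_dvd_of_le hL
    have h2 := g42_card_alt (α := α) (by omega)
    rw [hα] at h2
    have h3 : Nat.card (alternatingGroup α) = 20160 := by
      have : Nat.factorial 8 = 40320 := rfl
      omega
    rwa [h3] at h1
  by_cases h5 : 5 ∣ Nat.card L
  · have hp5 : Fact (Nat.Prime 5) := ⟨by norm_num⟩
    obtain ⟨g, hg⟩ := exists_prime_orderOf_dvd_card' 5 h5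
    have hg' : orderOf (g : Perm α) = 5 := by rw [Subgroup.orderOf_coe, hg]
    obtain ⟨hcyc, hsupp⟩ := g42_cycle_of_order (g : Perm α) 5 (by norm_num) hg' (by omega)
    have htr := Equiv.Perm.isPretransitive_of_isCycle_mem (G := L) hcyc g.2
    set s : Set α := ((g : Perm α).support : Set α)ᶜ with hs
    have hsc : s.ncard = 2 + 1 := by
      have h1 := Set.ncard_add_ncard_compl (((g : Perm α).support : Set α))
      rw [Set.ncard_coe_finset, hsupp, Nat.card_eq_fintype_card, hα] at h1
      rw [hs]
      omega
    have hcard5 : Nat.card (SubMulAction.ofFixingSubgroup L s) = 5 := by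
      have e : (SubMulAction.ofFixingSubgroup L s) ≃ ((g : Perm α).support : Set α) :=
        Equiv.subtypeEquivRight (fun x => by
          rw [SubMulAction.mem_ofFixingSubgroup_iff, hs]
          simp)
      rw [Nat.card_congr e, Nat.card_coe_set_eq, Set.ncard_coe_finset, hsupp]
    have hprim' : IsPreprimitive (fixingSubgroup L s) (SubMulAction.ofFixingSubgroup L s) :=
      IsPreprimitive.of_prime_card (by rw [hcard5]; norm_num)
    have h4 : IsMultiplyPreprimitive L α (2 + 2) :=
      hprim.isMultiplyPreprimitive hsc (by rw [Nat.card_eq_fintype_card, hα]; norm_num) hprim'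
    have h4t : IsMultiplyPretransitive L α 4 :=
      IsMultiplyPreprimitive.isMultiplyPretransitive L α 4
    obtain ⟨t, _, ht⟩ := Set.exists_subset_card_eq (s := (Set.univ : Set α)) (n := 4)
      (by rw [Set.ncard_univ, Nat.card_eq_fintype_card, hα]; norm_num)
    have hidx := h4t.index_of_fixingSubgroup_mul ht
    rw [Nat.card_eq_fintype_card, hα] at hidx
    have hidx' : (fixingSubgroup L t).index = 1680 := by
      have e1 : Nat.factorial (8 - 4) = 24 := rfl
      have e2 : Nat.factorial 8 = 40320 := rfl
      rw [e1, e2] at hidx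
      omega
    have := (fixingSubgroup L t).index_dvd_card
    rw [hidx'] at this
    exact h7 (dvd_trans (by norm_num) this)
  · apply hns
    have hco : (Nat.card L).Coprime 35 := by
      have c5 : (Nat.card L).Coprime 5 :=
        (Nat.coprime_comm.1 ((Nat.Prime.coprime_iff_not_dvd (by norm_num)).2 h5))
      have c7 : (Nat.card L).Coprime 7 :=
        (Nat.coprime_comm.1 ((Nat.Prime.coprime_iff_not_dvd (by norm_num)).2 h7))
      exact Nat.Coprime.mul_right c5 c7
    have h576 : Nat.card L ∣ 2 ^ 6 * 3 ^ 2 := by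
      apply Nat.Coprime.dvd_of_dvd_mul_left hco
      exact hdvd
    obtain ⟨a, b, hab⟩ := g42_two_three h576
    exact g42_paqb 2 3 a b Nat.prime_two Nat.prime_three hab

end Cfsg.Agent.Lib.Helper24
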