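import Cfsg.Agent.Lib.Helper24.G42G

set_option autoImplicit false

namespace Cfsg.Agent.Lib.Helper24

open Subgroup MulAction Equiv

theorem g42_stab7 {α : Type*} [Fintype α] [DecidableEq α] (hα : Fintype.card α = 8)
    (L : Subgroup (Perm α)) [IsPretransitive L α] (hL : L ≤ alternatingGroup α)
    (h7 : 7 ∣ Nat.card L) :
    Nat.card L = 56 ∨ Nat.card L = 168 ∨ Nat.card L = 1344 ∨ Nat.card L = 20160 := by
  classical
  have hp7 : Fact (Nat.Prime 7) := ⟨by norm_num⟩
  obtain ⟨g, hg⟩ := exists_prime_orderOf_dvd_card' 7 h7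
  have hg' : orderOf (g : Perm α) = 7 := by rw [Subgroup.orderOf_coe, hg]
  obtain ⟨hcyc, hsupp⟩ := g42_cycle_of_order (g : Perm α) 7 (by norm_num) hg' (by omega)
  have hcompl : ((g : Perm α).support)ᶜ.card = 1 := by
    rw [Finset.card_compl, hsupp, hα]
  obtain ⟨ω, hω⟩ := Finset.card_eq_one.1 hcompl
  have hωfix : (g : Perm α) ω = ω := by
    have : ω ∈ ((g : Perm α).support)ᶜ := by rw [hω]; exact Finset.mem_singleton_self ω
    rw [Finset.mem_compl, Equiv.Perm.mem_support, not_not] at this
    exact this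
  have hmoved : ∀ x, x ≠ ω → (g : Perm α) x ≠ x := by
    intro x hx
    rw [← Equiv.Perm.mem_support]
    by_contra hns
    have : x ∈ ((g : Perm α).support)ᶜ := Finset.mem_compl.2 hns
    rw [hω, Finset.mem_singleton] at this
    exact hx this
  have hgS : g ∈ stabilizer L ω := hωfix
  have hidx8 : (stabilizer L ω).index = 8 := by
    rw [index_stabilizer_of_transitive L ω, Nat.card_eq_fintype_card, hα]
  have hcardL : Nat.card (stabilizer L ω) * 8 = Nat.card L := by
    rw [← hidx8]
    exact (stabilizer L ω).card_mul_index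
  have hβ : Fintype.card (SubMulAction.ofStabilizer L ω) = 7 := by
    rw [← Nat.card_eq_fintype_card, SubMulAction.nat_card_ofStabilizer_eq, Nat.card_eq_fintype_card,
      hα]
  let ρ := MulAction.toPermHom (stabilizer L ω) (SubMulAction.ofStabilizer L ω)
  have hρ : Function.Injective ρ := by
    rw [← MonoidHom.ker_eq_bot_iff, eq_bot_iff]
    intro s hs
    rw [Subgroup.mem_bot]
    apply Subtype.ext
    apply Subtype.ext
    ext y
    by_cases hy : y = ω
    · rw [hy]
      exact s.2
    · have hy' : y ∈ SubMulAction.ofStabilizer L ω :=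
        (SubMulAction.mem_ofStabilizer_iff _ _).2 hy
      have h1 : ρ s ⟨y, hy'⟩ = ⟨y, hy'⟩ := by
        rw [MonoidHom.mem_ker.1 hs]; rfl
      exact congrArg Subtype.val h1
  have hcardG : Nat.card ρ.range = Nat.card (stabilizer L ω) :=
    (Nat.card_congr (MonoidHom.ofInjective hρ).toEquiv).symm
  have htrans : IsPretransitive ρ.range (SubMulAction.ofStabilizer L ω) := by
    constructor
    rintro ⟨x, hx⟩ ⟨y, hy⟩
    have hx' : x ≠ ω := (SubMulAction.mem_ofStabilizer_iff _ _).1 hx
    have hy' : y ≠ ω := (SubMulAction.mem_ofStabilizer_iff _ _).1 hy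
    obtain ⟨i, hi⟩ := hcyc.exists_zpow_eq (hmoved x hx') (hmoved y hy')
    refine ⟨⟨ρ (⟨g, hgS⟩ ^ i), ⟨_, rfl⟩⟩, ?_⟩
    apply Subtype.ext
    show (((⟨g, hgS⟩ : stabilizer L ω) ^ i : stabilizer L ω) : L) • x = y
    rw [Subgroup.coe_zpow]
    show (((g : L) ^ i : L) : Perm α) x = y
    rw [Subgroup.coe_zpow]
    exact hi
  have halt : ρ.range ≤ alternatingGroup (SubMulAction.ofStabilizer L ω) := by
    rintro _ ⟨s, rfl⟩
    rw [Equiv.Perm.mem_alternatingGroup]
    have h₁ : ∀ x, (x ∈ SubMulAction.ofStabilizer L ω → ((s : L) : Perm α) x ∈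
        SubMulAction.ofStabilizer L ω) ∧ (((s : L) : Perm α) x ∈
        SubMulAction.ofStabilizer L ω → x ∈ SubMulAction.ofStabilizer L ω) := by
      intro x
      rw [SubMulAction.mem_ofStabilizer_iff, SubMulAction.mem_ofStabilizer_iff]
      have hs : ((s : L) : Perm α) ω = ω := s.2
      constructor
      · intro hx h
        apply hx
        apply ((s : L) : Perm α).injective
        rw [h, hs]
      · intro hx h
        apply hx
        rw [h, hs]
    have h₁' : ∀ x, ((s : L) : Perm α) x ∈ SubMulAction.ofStabilizer L ω ↔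
        x ∈ SubMulAction.ofStabilizer L ω := fun x => ⟨(h₁ x).2, (h₁ x).1⟩
    have heq : ρ s = (((s : L) : Perm α)).subtypePerm h₁' := by
      ext ⟨x, hx⟩
      rfl
    rw [heq, Equiv.Perm.sign_subtypePerm]
    · exact Equiv.Perm.mem_alternatingGroup.1 (hL (s : L).2)
    · intro x hx
      rw [SubMulAction.mem_ofStabilizer_iff]
      intro h
      apply hx
      rw [h]
      exact s.2
  have h7S : 7 ∣ Nat.card (stabilizer L ω) := by
    have h1 := orderOf_dvd_natCard (⟨g, hgS⟩ : stabilizer L ω)
    have h2 : orderOf (⟨g, hgS⟩ : stabilizer L ω) = 7 := by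
      rw [← Subgroup.orderOf_coe]
      exact hg
    rwa [h2] at h1
  by_cases hsolv : Group.IsSolvable ρ.range
  · have h21 := g42_solv7 hβ ρ.range hsolv halt
    rw [hcardG] at h21
    have hle := Nat.le_of_dvd (by norm_num) h21
    obtain ⟨k, hk⟩ := h7S
    have hk3 : k ∣ 3 := by
      rw [hk] at h21
      exact Nat.dvd_of_mul_dvd_mul_left (by norm_num : 0 < 7) (by simpa using h21)
    rcases (Nat.dvd_prime Nat.prime_three).1 hk3 with h | h
    · left; omega
    · right; left; omega
  · rcases g42_case7 hβ ρ.range hsolv halt with h | h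
    · right; right; right
      have h2 := g42_card_alt (α := (SubMulAction.ofStabilizer L ω)) (by omega)
      rw [hβ] at h2
      have h3 : Nat.factorial 7 = 5040 := rfl
      rw [h] at hcardG
      omega
    · right; right; left
      have := h.1
      omega

end Cfsg.Agent.Lib.Helper24
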