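import Cfsg.Agent.Lib.Helper24.G42H
import Cfsg.Agent.S0494

set_option autoImplicit false

namespace Cfsg.Agent.Lib.Helper24

open Subgroup MulAction Equiv

def G42Concl (H : Type*) [Group H] : Prop :=
  (∃ n : ℕ, 5 ≤ n ∧ n ≤ 8 ∧ Nonempty (H ≃* alternatingGroup (Fin n))) ∨
    Nonempty (H ≃* Equiv.Perm (Fin 5)) ∨ Nonempty (H ≃* Equiv.Perm (Fin 6)) ∨
    (Nat.card H = 168 ∧ IsSimpleGroup H)

theorem g42_concl_equiv {H H' : Type*} [Group H] [Group H'] (e : H ≃* H') (h : G42Concl H') :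
    G42Concl H := by
  rcases h with ⟨n, h1, h2, ⟨f⟩⟩ | ⟨⟨f⟩⟩ | ⟨⟨f⟩⟩ | ⟨h1, h2⟩
  · exact Or.inl ⟨n, h1, h2, ⟨e.trans f⟩⟩
  · exact Or.inr (Or.inl ⟨e.trans f⟩)
  · exact Or.inr (Or.inr (Or.inl ⟨e.trans f⟩))
  · refine Or.inr (Or.inr (Or.inr ⟨?_, ?_⟩))
    · rw [Nat.card_congr e.toEquiv, h1]
    · exact e.isSimpleGroup

theorem g42_sign_restrict {Ω : Type*} [Fintype Ω] [DecidableEq Ω] (p : Ω → Prop)
    [Fintype {x // p x}] [DecidableEq {x // p x}] (f : Perm Ω) (h₁ : ∀ x, p (f x) ↔ p x)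
    (h₂ : ∀ x, f x ≠ x → p x) : Equiv.Perm.sign (f.subtypePerm h₁) = Equiv.Perm.sign f := by
  classical
  convert Equiv.Perm.sign_subtypePerm f h₁ h₂

theorem g42_alt_concl {α : Type*} [Fintype α] [DecidableEq α] (n : ℕ) (hα : Fintype.card α = n)
    (h5 : 5 ≤ n) (h8 : n ≤ 8) (L : Subgroup (Perm α)) (h : L = alternatingGroup α) :
    G42Concl L :=
  Or.inl ⟨n, h5, h8, ⟨(MulEquiv.subgroupCongr h).trans
    (Equiv.altCongrHom (Fintype.equivFinOfCardEq hα))⟩⟩

theorem g42_trans_main {α : Type*} [Fintype α] [DecidableEq α] (L : Subgroup (Perm α))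
    [IsPretransitive L α] [Nontrivial L] (htf : G42TF L) (h5 : 5 ≤ Fintype.card α)
    (h8 : Fintype.card α ≤ 8) (hsign : 7 ≤ Fintype.card α → L ≤ alternatingGroup α)
    (h1344 : Nat.card L ≠ 1344) : G42Concl L := by
  have hns := g42_tf_not_solvable htf
  obtain ⟨m, hm⟩ : ∃ m, Fintype.card α = m := ⟨_, rfl⟩
  rw [hm] at h5 h8 hsign
  interval_cases m
  · have h := g42_case5 hm L hns
    rcases g42_alt_or_top (by omega) L h with h | h
    · exact g42_alt_concl 5 hm (by norm_num) (by norm_num) L h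
    · exact Or.inr (Or.inl ⟨(MulEquiv.subgroupCongr h).trans (Subgroup.topEquiv.trans
        (Equiv.permCongrHom (Fintype.equivFinOfCardEq hm)))⟩)
  · rcases g42_case6 hm L hns with h | h | h
    · rcases g42_alt_or_top (by omega) L h with h | h
      · exact g42_alt_concl 6 hm (by norm_num) (by norm_num) L h
      · exact Or.inr (Or.inr (Or.inl ⟨(MulEquiv.subgroupCongr h).trans (Subgroup.topEquiv.trans
          (Equiv.permCongrHom (Fintype.equivFinOfCardEq hm)))⟩))
    · have := g42_simple_60 h htf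
      obtain ⟨e⟩ := Cfsg.Agent.S0494.result (G := L) h
      exact Or.inl ⟨5, le_refl 5, by norm_num, ⟨e⟩⟩
    · exact Or.inr (Or.inl (g42_index_trick hm L h))
  · rcases g42_case7 hm L hns (hsign (le_refl 7)) with h | h
    · exact g42_alt_concl 7 hm (by norm_num) (by norm_num) L h
    · exact Or.inr (Or.inr (Or.inr h))
  · have hL := hsign (by norm_num)
    have hprim := g42_prim8 hm L htf
    have h7 := g42_seven_dvd hm L hprim hns hL
    rcases g42_stab7 hm L hL h7 with h | h | h | h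
    · exact absurd (g42_paqb 2 7 3 1 Nat.prime_two (by norm_num) (h.trans rfl)) hns
    · exact Or.inr (Or.inr (Or.inr ⟨h, g42_simple_168 h htf⟩))
    · exact absurd h h1344
    · apply g42_alt_concl 8 hm (by norm_num) (by norm_num) L
      apply Subgroup.eq_of_le_of_card_ge hL
      have h2 := g42_card_alt (α := α) (by omega)
      rw [hm] at h2
      have h3 : Nat.factorial 8 = 40320 := rfl
      omega

theorem g42_perm_main {Ω : Type*} [Fintype Ω] [DecidableEq Ω] (hΩ : Fintype.card Ω = 8)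
    (H : Subgroup (Perm Ω)) [Nontrivial H] (htf : G42TF H) (hH : H ≤ alternatingGroup Ω)
    (h1344 : Nat.card H ≠ 1344) : G42Concl H := by
  classical
  have hns := g42_tf_not_solvable htf
  obtain ⟨x₀, hx₀⟩ := g42_big_orbit (G := H) (Ω := Ω) hns
  let φ := MulAction.toPermHom H (orbit H x₀)
  have hfix : ∀ k ∈ φ.ker, ∀ y ∈ orbit H x₀, k • y = y := by
    intro k hk y hy
    have h1 : φ k ⟨y, hy⟩ = ⟨y, hy⟩ := by rw [MonoidHom.mem_ker.1 hk]; rfl
    exact congrArg Subtype.val h1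
  have hcompl : (orbit H x₀)ᶜ.ncard ≤ 3 := by
    rw [Set.ncard_compl, Nat.card_eq_fintype_card, hΩ]
    omega
  have hKs : Group.IsSolvable φ.ker := by
    apply g42_small_orbits (G := φ.ker) (Ω := Ω)
    intro y
    by_cases hy : y ∈ orbit H x₀
    · have hsub : orbit φ.ker y ⊆ {y} := by
        rintro _ ⟨k, rfl⟩
        exact hfix k.1 k.2 y hy
      have := Set.ncard_le_ncard hsub (Set.toFinite _)
      rw [Set.ncard_singleton] at this
      omega
    · have hsub : orbit φ.ker y ⊆ (orbit H x₀)ᶜ := by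
        rintro _ ⟨k, rfl⟩ hmem
        apply hy
        have hmem' : (k : H) • y ∈ orbit H x₀ := hmem
        have : (k : H)⁻¹ • ((k : H) • y) ∈ orbit H x₀ := by
          rw [MulAction.mem_orbit_iff] at hmem' ⊢
          obtain ⟨h, hh⟩ := hmem'
          exact ⟨(k : H)⁻¹ * h, by rw [mul_smul, hh]⟩
        rwa [inv_smul_smul] at this
      have := Set.ncard_le_ncard hsub (Set.toFinite _)
      omega
  have hK : φ.ker = ⊥ := htf φ.ker inferInstance hKs
  have hinj : Function.Injective φ := (MonoidHom.ker_eq_bot_iff φ).1 hK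
  let e : H ≃* φ.range := MonoidHom.ofInjective hinj
  have hcardΔ : Fintype.card (orbit H x₀) = (orbit H x₀).ncard := by
    rw [← Nat.card_eq_fintype_card, Nat.card_coe_set_eq]
  have hle8 : (orbit H x₀).ncard ≤ 8 := by
    have := Set.ncard_le_ncard (Set.subset_univ (orbit H x₀)) (Set.toFinite _)
    rwa [Set.ncard_univ, Nat.card_eq_fintype_card, hΩ] at this
  have htrans : IsPretransitive φ.range (orbit H x₀) := by
    constructor
    intro x y
    obtain ⟨h, hh⟩ := exists_smul_eq H x y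
    exact ⟨⟨φ h, ⟨h, rfl⟩⟩, hh⟩
  have hnt : Nontrivial φ.range := e.symm.toEquiv.nontrivial
  have htf' : G42TF φ.range := g42_tf_equiv e htf
  have hsign : 7 ≤ Fintype.card (orbit H x₀) → φ.range ≤ alternatingGroup (orbit H x₀) := by
    intro h7
    rw [hcardΔ] at h7
    have hc1 : (orbit H x₀)ᶜ.ncard ≤ 1 := by
      rw [Set.ncard_compl, Nat.card_eq_fintype_card, hΩ]
      omega
    rintro _ ⟨h, rfl⟩
    rw [Equiv.Perm.mem_alternatingGroup]
    have hpres : ∀ x, x ∈ orbit H x₀ → (h : Perm Ω) x ∈ orbit H x₀ := by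
      intro x hx
      rw [MulAction.mem_orbit_iff] at hx ⊢
      obtain ⟨k, hk⟩ := hx
      exact ⟨h * k, by rw [mul_smul, hk]; rfl⟩
    have hpres' : ∀ x, (h : Perm Ω) x ∈ orbit H x₀ → x ∈ orbit H x₀ := by
      intro x hx
      rw [MulAction.mem_orbit_iff] at hx ⊢
      obtain ⟨k, hk⟩ := hx
      refine ⟨h⁻¹ * k, ?_⟩
      rw [mul_smul, hk]
      show (h⁻¹ : H) • ((h : H) • x) = x
      exact inv_smul_smul _ _
    have h₁ : ∀ x, (h : Perm Ω) x ∈ orbit H x₀ ↔ x ∈ orbit H x₀ :=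
      fun x => ⟨hpres' x, hpres x⟩
    have heq : φ h = ((h : Perm Ω)).subtypePerm h₁ := by
      ext ⟨x, hx⟩
      rfl
    rw [heq, g42_sign_restrict]
    · exact Equiv.Perm.mem_alternatingGroup.1 (hH h.2)
    · intro x hx
      by_contra hxo
      apply hx
      have hxo' : (h : Perm Ω) x ∉ orbit H x₀ := fun hm => hxo (hpres' x hm)
      exact (Set.ncard_le_one (Set.toFinite _)).1 hc1 _ hxo' _ hxo
  have hcard : Nat.card φ.range ≠ 1344 := by
    rw [← Nat.card_congr e.toEquiv]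
    exact h1344
  have := g42_trans_main φ.range htf' (by rw [hcardΔ]; exact hx₀) (by rw [hcardΔ]; exact hle8)
    hsign hcard
  exact g42_concl_equiv e this

end Cfsg.Agent.Lib.Helper24
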