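import Cfsg.Agent.Lib.Helper24.G42I

set_option autoImplicit false

namespace Cfsg.Agent.Lib.Helper24

open Subgroup MulAction Equiv

theorem g42_pq_of_dvd {d p q a b : ℕ} (hp : p.Prime) (hq : q.Prime) (h : d ∣ p ^ a * q ^ b) :
    ∃ a' b', d = p ^ a' * q ^ b' := by
  obtain ⟨k1, k2, h1, h2, rfl⟩ := Nat.dvd_mul.1 h
  obtain ⟨a', _, rfl⟩ := (Nat.dvd_prime_pow hp).1 h1
  obtain ⟨b', _, rfl⟩ := (Nat.dvd_prime_pow hq).1 h2
  exact ⟨a', b', rfl⟩

theorem g42_card_of_hom {G G' : Type*} [Group G] [Group G'] [Finite G] (f : G →* G')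
    (htf : G42TF G) (hs : Group.IsSolvable f.ker) : Nat.card G ∣ Nat.card G' := by
  have hK : f.ker = ⊥ := htf f.ker inferInstance hs
  exact Subgroup.card_dvd_of_injective f ((MonoidHom.ker_eq_bot_iff f).1 hK)

theorem g42_quot_case {W : Type*} [AddCommGroup W] [Finite W] (hW : Nat.card W = 16)
    (H' : Subgroup (Perm W)) (hadd : ∀ σ ∈ H', ∀ a b, σ (a + b) = σ a + σ b) (v : W)
    (hv : v ≠ 0) (hv2 : v + v = 0) (hfix : ∀ σ ∈ H', σ v = v) (htf : G42TF H') :
    Nat.card H' ∣ 5040 := by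
  classical
  have hp2 : Fact (Nat.Prime 2) := ⟨Nat.prime_two⟩
  let Z : AddSubgroup W := AddSubgroup.zmultiples v
  let eσ : H' → (W ≃+ W) := fun σ => AddEquiv.mk' (σ : Perm W) (hadd σ.1 σ.2)
  have hZ : ∀ σ : H', Z.map ((eσ σ : W ≃+ W) : W →+ W) = Z := by
    intro σ
    show (AddSubgroup.zmultiples v).map ((eσ σ : W ≃+ W) : W →+ W) = AddSubgroup.zmultiples v
    rw [AddMonoidHom.map_zmultiples]
    congr 1
    exact hfix σ.1 σ.2
  let Φ : H' →* Perm (W ⧸ Z) :=
    { toFun := fun σ => (QuotientAddGroup.congr Z Z (eσ σ) (hZ σ)).toEquiv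
      map_one' := by
        ext q
        induction q using QuotientAddGroup.induction_on with
        | H z => rfl
      map_mul' := by
        intro σ τ
        ext q
        induction q using QuotientAddGroup.induction_on with
        | H z => rfl }
  have hΦ : ∀ (σ : H') (w : W), Φ σ (w : W ⧸ Z) = (((σ : Perm W) w : W) : W ⧸ Z) := fun _ _ => rfl
  have hker : ∀ σ ∈ Φ.ker, ∀ w : W, ∃ k : ℤ, (σ : Perm W) w = w + k • v := by
    intro σ hσ w
    have h1 : Φ σ (w : W ⧸ Z) = (w : W ⧸ Z) := by rw [MonoidHom.mem_ker.1 hσ]; rfl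
    rw [hΦ, QuotientAddGroup.eq] at h1
    obtain ⟨k, hk⟩ := AddSubgroup.mem_zmultiples_iff.1 h1
    refine ⟨-k, ?_⟩
    have : (σ : Perm W) w = w - k • v := by rw [hk]; abel
    rw [this, neg_smul, sub_eq_add_neg]
  have hzs : ∀ (σ : H') (k : ℤ), (σ : Perm W) (k • v) = k • v := by
    intro σ k
    have := map_zsmul (eσ σ) k v
    have h2 : (eσ σ) v = v := hfix σ.1 σ.2
    rw [h2] at this
    exact this
  have hsolv : Group.IsSolvable Φ.ker := by
    apply Group.isSolvable_of_comm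
    intro σ τ
    apply Subtype.ext
    apply Subtype.ext
    ext w
    obtain ⟨k, hk⟩ := hker σ.1 σ.2 w
    obtain ⟨l, hl⟩ := hker τ.1 τ.2 w
    show (σ.1 : Perm W) ((τ.1 : Perm W) w) = (τ.1 : Perm W) ((σ.1 : Perm W) w)
    rw [hl, hk, hadd σ.1.1 σ.1.2, hadd τ.1.1 τ.1.2, hzs, hzs, hk, hl]
    abel
  have hstab : ∀ σ : H', Φ σ ∈ stabilizer (Perm (W ⧸ Z)) ((0 : W) : W ⧸ Z) := by
    intro σ
    rw [mem_stabilizer_iff]
    show Φ σ ((0 : W) : W ⧸ Z) = _
    rw [hΦ]
    have h0 : (σ : Perm W) 0 = 0 := by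
      have := hadd σ.1 σ.2 0 0
      rw [add_zero] at this
      exact left_eq_add.mp this
    rw [h0]
  let Φ' : H' →* stabilizer (Perm (W ⧸ Z)) ((0 : W) : W ⧸ Z) := Φ.codRestrict _ hstab
  have hker' : Φ'.ker = Φ.ker := by
    ext σ
    rw [MonoidHom.mem_ker, MonoidHom.mem_ker]
    constructor
    · intro h; exact congrArg Subtype.val h
    · intro h; exact Subtype.ext h
  have hdvd := g42_card_of_hom Φ' htf (by rw [hker']; exact hsolv)
  have hZ2 : Nat.card Z = 2 := by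
    show Nat.card (AddSubgroup.zmultiples v) = 2
    rw [Nat.card_zmultiples]
    apply addOrderOf_eq_prime _ hv
    rw [two_nsmul]; exact hv2
  have hQ : Nat.card (W ⧸ Z) = 8 := by
    have := AddSubgroup.card_eq_card_quotient_mul_card_addSubgroup Z
    rw [hW, hZ2] at this
    omega
  have : Finite (W ⧸ Z) := Nat.finite_of_card_ne_zero (by omega)
  have hidx := index_stabilizer_of_transitive (Perm (W ⧸ Z)) ((0 : W) : W ⧸ Z)
  have hcm := (stabilizer (Perm (W ⧸ Z)) ((0 : W) : W ⧸ Z)).card_mul_index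
  rw [hidx, hQ, Nat.card_perm, hQ] at hcm
  have h8 : Nat.factorial 8 = 40320 := rfl
  have : Nat.card (stabilizer (Perm (W ⧸ Z)) ((0 : W) : W ⧸ Z)) = 5040 := by omega
  rwa [this] at hdvd

end Cfsg.Agent.Lib.Helper24
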