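import Cfsg.Agent.Lib.Helper24.G42J

set_option autoImplicit false

namespace Cfsg.Agent.Lib.Helper24

open Subgroup MulAction Equiv

theorem g42_orbit_case {G X : Type*} [Group G] [MulAction G X] [Finite G] (htf : G42TF G)
    (x : X) (p q a b : ℕ) (hp : p.Prime) (hq : q.Prime)
    (hst : Nat.card (stabilizer G x) = p ^ a * q ^ b) :
    Nat.card G ∣ ((orbit G x).ncard).factorial := by
  classical
  have hfin : Finite (orbit G x) := (Set.finite_range fun g : G => g • x).to_subtype
  let φ := MulAction.toPermHom G (orbit G x)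
  have hle : φ.ker ≤ stabilizer G x := by
    intro σ hσ
    have h1 : φ σ ⟨x, mem_orbit_self x⟩ = ⟨x, mem_orbit_self x⟩ := by
      rw [MonoidHom.mem_ker.1 hσ]; rfl
    exact congrArg Subtype.val h1
  have hdvd := Subgroup.card_dvd_of_le hle
  rw [hst] at hdvd
  obtain ⟨a', b', hab⟩ := g42_pq_of_dvd hp hq hdvd
  have hs : Group.IsSolvable φ.ker := g42_paqb p q a' b' hp hq hab
  have := g42_card_of_hom φ htf hs
  rwa [Nat.card_perm, Nat.card_coe_set_eq] at this

theorem g42_lin_abs {W : Type*} [AddCommGroup W] [Finite W] (hW : Nat.card W = 16)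
    (h2 : ∀ w : W, w + w = 0) (H' : Subgroup (Perm W))
    (hadd : ∀ σ ∈ H', ∀ a b, σ (a + b) = σ a + σ b) (htf : G42TF H')
    (hc : Nat.card H' = 1344) : False := by
  classical
  have hp2 : Fact (Nat.Prime 2) := ⟨Nat.prime_two⟩
  have h0 : ∀ σ ∈ H', σ 0 = 0 := by
    intro σ hσ
    have := hadd σ hσ 0 0
    rw [add_zero] at this
    exact left_eq_add.mp this
  let S : Sylow 2 H' := default
  have hS : Nat.card S = 2 ^ 6 := g42_sylow_card S 6 21 (by rw [hc]; norm_num) (by norm_num)
  have hmod := S.2.card_modEq_card_fixedPoints W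
  rw [hW] at hmod
  have h0fix : (0 : W) ∈ fixedPoints S W := fun s => h0 s.1.1 s.1.2
  have hcardFix : 1 < Nat.card (fixedPoints S W) := by
    have : Nonempty (fixedPoints S W) := ⟨⟨0, h0fix⟩⟩
    have hpos : 0 < Nat.card (fixedPoints S W) := Nat.card_pos
    have heven : Nat.card (fixedPoints S W) % 2 = 0 := by
      have := hmod
      unfold Nat.ModEq at this
      omega
    omega
  have hnt : Nontrivial (fixedPoints S W) := Finite.one_lt_card_iff_nontrivial.1 hcardFix
  obtain ⟨⟨v, hvfix⟩, hv⟩ := exists_ne (⟨0, h0fix⟩ : fixedPoints S W)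
  have hv0 : v ≠ 0 := fun h => hv (Subtype.ext h)
  have hSle : (S : Subgroup H') ≤ stabilizer H' v := fun s hs => hvfix ⟨s, hs⟩
  have h64 : 2 ^ 6 ∣ Nat.card (stabilizer H' v) := by
    have := Subgroup.card_dvd_of_le hSle
    rwa [hS] at this
  have hidx := MulAction.index_stabilizer H' v
  have hcm := (stabilizer H' v).card_mul_index
  rw [hidx, hc] at hcm
  have hO15 : (orbit H' v).ncard ≤ 15 := by
    have hsub : orbit H' v ⊆ ({0} : Set W)ᶜ := by
      rintro _ ⟨σ, rfl⟩ h
      rw [Set.mem_singleton_iff] at h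
      apply hv0
      have h1 : (σ : Perm W) v = 0 := h
      have h3 : (σ : Perm W) v = (σ : Perm W) 0 := by rw [h1, h0 σ.1 σ.2]
      exact (σ : Perm W).injective h3
    have := Set.ncard_le_ncard hsub (Set.toFinite _)
    rw [Set.ncard_compl, Set.ncard_singleton, hW] at this
    exact this
  obtain ⟨k, hk⟩ := h64
  generalize hn : (orbit H' v).ncard = n at *
  have hkn : k * n = 21 := by
    rw [hk] at hcm
    have : 2 ^ 6 * (k * n) = 2 ^ 6 * 21 := by rw [← mul_assoc, hcm]; norm_num
    exact Nat.eq_of_mul_eq_mul_left (by norm_num) this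
  have hn3 : n = 1 ∨ n = 3 ∨ n = 7 := by
    have h1 : n ∣ 21 := ⟨k, by rw [← hkn, mul_comm]⟩
    have h3 := Nat.le_of_dvd (by norm_num) h1
    interval_cases n <;> omega
  rcases hn3 with h1 | h1 | h1
  · subst h1
    have hfix : ∀ σ ∈ H', σ v = v := by
      intro σ hσ
      have hm : (⟨σ, hσ⟩ : H') • v ∈ orbit H' v := mem_orbit _ _
      obtain ⟨a, ha⟩ := Set.ncard_eq_one.1 hn
      have h1 : v ∈ orbit H' v := mem_orbit_self v
      rw [ha] at hm h1
      rw [Set.mem_singleton_iff] at hm h1
      exact hm.trans h1.symm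
    have := g42_quot_case hW H' hadd v hv0 (h2 v) hfix htf
    rw [hc] at this
    omega
  · subst h1
    have hst : Nat.card (stabilizer H' v) = 2 ^ 6 * 7 ^ 1 := by omega
    have := g42_orbit_case htf v 2 7 6 1 Nat.prime_two (by norm_num) hst
    rw [hn, hc] at this
    have h3 : Nat.factorial 3 = 6 := rfl
    rw [h3] at this
    omega
  · subst h1
    have hst : Nat.card (stabilizer H' v) = 2 ^ 6 * 3 ^ 1 := by omega
    have := g42_orbit_case htf v 2 3 6 1 Nat.prime_two Nat.prime_three hst
    rw [hn, hc] at this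
    have h7 : Nat.factorial 7 = 5040 := rfl
    rw [h7] at this
    omega

end Cfsg.Agent.Lib.Helper24
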