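import Cfsg.Agent.Lib.Helper24.G42K

set_option autoImplicit false

namespace Cfsg.Agent.Lib.Helper24

open Subgroup MulAction Equiv Matrix

def g42_act : GL (Fin 4) (ZMod 2) →* Perm (Fin 4 → ZMod 2) where
  toFun g :=
    { toFun := fun v => (g : Matrix (Fin 4) (Fin 4) (ZMod 2)).mulVec v
      invFun := fun v => ((g⁻¹ : GL (Fin 4) (ZMod 2)) : Matrix (Fin 4) (Fin 4) (ZMod 2)).mulVec v
      left_inv := by
        intro v
        show ((g⁻¹ : GL (Fin 4) (ZMod 2)) : Matrix (Fin 4) (Fin 4) (ZMod 2)).mulVec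
          ((g : Matrix (Fin 4) (Fin 4) (ZMod 2)).mulVec v) = v
        rw [Matrix.mulVec_mulVec, ← Units.val_mul, inv_mul_cancel, Units.val_one, Matrix.one_mulVec]
      right_inv := by
        intro v
        show (g : Matrix (Fin 4) (Fin 4) (ZMod 2)).mulVec
          (((g⁻¹ : GL (Fin 4) (ZMod 2)) : Matrix (Fin 4) (Fin 4) (ZMod 2)).mulVec v) = v
        rw [Matrix.mulVec_mulVec, ← Units.val_mul, mul_inv_cancel, Units.val_one,
          Matrix.one_mulVec] }
  map_one' := by
    ext v
    simp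
  map_mul' := by
    intro g h
    ext v
    simp [Matrix.mulVec_mulVec]

theorem g42_act_apply (g : GL (Fin 4) (ZMod 2)) (v : Fin 4 → ZMod 2) :
    g42_act g v = (g : Matrix (Fin 4) (Fin 4) (ZMod 2)).mulVec v := rfl

theorem g42_act_injective : Function.Injective g42_act := by
  intro g h hgh
  apply Units.ext
  apply Matrix.toLin'.injective
  apply LinearMap.ext
  intro v
  rw [Matrix.toLin'_apply, Matrix.toLin'_apply, ← g42_act_apply, ← g42_act_apply, hgh]

theorem g42_no_1344 (H : Subgroup (GL (Fin 4) (ZMod 2))) (htf : G42TF H) :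
    Nat.card H ≠ 1344 := by
  intro hc
  let e : H ≃* H.map g42_act := Subgroup.equivMapOfInjective H g42_act g42_act_injective
  apply g42_lin_abs (W := Fin 4 → ZMod 2) _ _ (H.map g42_act) _ (g42_tf_equiv e htf)
  · rw [← Nat.card_congr e.toEquiv, hc]
  · rw [Nat.card_eq_fintype_card]
    simp
  · intro w
    ext i
    have : ∀ x : ZMod 2, x + x = 0 := by decide
    exact this _
  · rintro _ ⟨g, _, rfl⟩ a b
    rw [g42_act_apply, g42_act_apply, g42_act_apply, Matrix.mulVec_add]

end Cfsg.Agent.Lib.Helper24
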