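import Mathlib

set_option autoImplicit false

namespace Cfsg.Agent.Lib.Helper24

open scoped Pointwise

theorem ga_norm_aux {N : Type*} [Group N] [Finite N] {C : Type*} [CommGroup C] (p : ℕ)
    [hp : Fact p.Prime] (T : Subgroup N) [hT : T.Normal] (hTp : IsPGroup p T)
    (hcop : Nat.Coprime (Nat.card T) T.index)
    (hab : ∀ a ∈ T, ∀ b ∈ T, a * b = b * a)
    (q : N →* C) (x : N) (hx : x ∈ T) (hqx : q x ≠ 1) :
    ∃ s ∈ T, (∀ n : N, n * s * n⁻¹ = s) ∧ q s ≠ 1 := by
  classical
  obtain ⟨K, hK⟩ := Subgroup.exists_left_complement'_of_coprime hcop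
  haveI : Fintype K := Fintype.ofFinite K
  letI : CommGroup T :=
    { (inferInstance : Group T) with
      mul_comm := fun a b => Subtype.ext (hab a a.2 b b.2) }
  set xT : T := ⟨x, hx⟩ with hxT
  set s : T := ∏ k : K, MulAut.conjNormal (k : N) xT with hs
  have hKfix : ∀ k₀ : K, MulAut.conjNormal (k₀ : N) s = s := by
    intro k₀
    rw [hs, map_prod]
    apply Fintype.prod_equiv (Equiv.mulLeft k₀)
    intro k
    rw [Equiv.coe_mulLeft, Subgroup.coe_mul, map_mul, MulAut.mul_apply]
  have hTfix : ∀ a : T, MulAut.conjNormal (a : N) s = s := by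
    intro a
    apply Subtype.ext
    rw [MulAut.conjNormal_apply]
    have := hab a a.2 s s.2
    rw [this, mul_inv_cancel_right]
  refine ⟨(s : N), s.2, ?_, ?_⟩
  · intro n
    have hn : n ∈ (K : Set N) * (T : Set N) := by
      rw [hK.mul_eq]; exact Set.mem_univ n
    obtain ⟨k, hk, a, ha, rfl⟩ := hn
    have h1 := hKfix ⟨k, hk⟩
    have h2 := hTfix ⟨a, ha⟩
    have h1' := congrArg (fun t : T => (t : N)) h1
    have h2' := congrArg (fun t : T => (t : N)) h2
    simp only [MulAut.conjNormal_apply] at h1' h2'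
    calc k * a * (s : N) * (k * a)⁻¹ = k * (a * (s : N) * a⁻¹) * k⁻¹ := by group
      _ = (s : N) := by rw [h2', h1']
  · have hq : q (s : N) = q x ^ (Nat.card K) := by
      have h1 : q ((s : T) : N) = (q.comp T.subtype) s := rfl
      rw [h1, hs, map_prod]
      have h2 : ∀ k : K, (q.comp T.subtype) (MulAut.conjNormal (k : N) xT) = q x := by
        intro k
        rw [MonoidHom.comp_apply, Subgroup.coe_subtype, MulAut.conjNormal_apply, map_mul, map_mul,
          map_inv, mul_comm, inv_mul_cancel_left]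
      rw [Finset.prod_congr rfl (fun k _ => h2 k), Finset.prod_const, Finset.card_univ,
        Nat.card_eq_fintype_card]
    rw [hq]
    intro hpow
    apply hqx
    have hKcard : Nat.card K = T.index := hK.index_eq_card.symm
    obtain ⟨e, he⟩ := (IsPGroup.iff_orderOf.mp hTp) xT
    have hox : orderOf (q x) ∣ p ^ e := by
      have h1 : orderOf (q x) ∣ orderOf x := orderOf_map_dvd q x
      have h2 : orderOf x = orderOf xT := (Subgroup.orderOf_coe xT).symm ▸ rfl
      rw [h2, he] at h1
      exact h1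
    have hoK : orderOf (q x) ∣ Nat.card K := orderOf_dvd_of_pow_eq_one hpow
    have hcop' : Nat.Coprime (p ^ e) (Nat.card K) := by
      rw [hKcard]
      obtain ⟨m, hm⟩ := (IsPGroup.iff_card).mp hTp
      rw [hm] at hcop
      rcases Nat.eq_zero_or_pos m with rfl | hmpos
      · have hT1 : Nat.card T = 1 := by rw [hm, pow_zero]
        have : xT = 1 := by
          haveI := (Nat.card_eq_one_iff_unique.mp hT1).1
          exact Subsingleton.elim _ _
        exfalso
        apply hqx
        have hx1 : x = 1 := congrArg (fun t : T => (t : N)) this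
        rw [hx1, map_one]
      · have : Nat.Coprime p T.index := (Nat.coprime_pow_left_iff hmpos p T.index).mp hcop
        exact Nat.Coprime.pow_left e this
    have : orderOf (q x) = 1 := Nat.eq_one_of_dvd_coprimes hcop' hox hoK
    exact orderOf_eq_one_iff.mp this

theorem ga_norm {Λ : Type*} [Group Λ] [Finite Λ] {C : Type*} [CommGroup C] (p : ℕ)
    [hp : Fact p.Prime] (S : Sylow p Λ)
    (hab : ∀ a ∈ (S : Subgroup Λ), ∀ b ∈ (S : Subgroup Λ), a * b = b * a)
    (q : Λ →* C) (x : Λ) (hx : x ∈ (S : Subgroup Λ)) (hqx : q x ≠ 1) :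
    ∃ s ∈ (S : Subgroup Λ),
      (∀ n ∈ Subgroup.normalizer ((S : Subgroup Λ) : Set Λ), n * s * n⁻¹ = s) ∧ q s ≠ 1 := by
  set N : Subgroup Λ := Subgroup.normalizer ((S : Subgroup Λ) : Set Λ) with hN
  have hSN : (S : Subgroup Λ) ≤ N := Subgroup.le_normalizer
  set T : Subgroup N := (S : Subgroup Λ).subgroupOf N with hT
  haveI : T.Normal := Subgroup.normal_in_normalizer
  have hTp : IsPGroup p T := S.2.comap_of_injective N.subtype N.subtype_injective
  have hcard : Nat.card T = Nat.card (S : Subgroup Λ) :=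
    Nat.card_congr (Subgroup.subgroupOfEquivOfLe hSN).toEquiv
  have hidx : T.index ∣ (S : Subgroup Λ).index := by
    have h1 : T.index = (S : Subgroup Λ).relIndex N := rfl
    rw [h1]
    exact Subgroup.relIndex_dvd_index_of_le hSN
  have hcop : Nat.Coprime (Nat.card T) T.index := by
    rw [hcard]
    exact Nat.Coprime.coprime_dvd_right hidx S.card_coprime_index
  obtain ⟨s, hsT, hfix, hqs⟩ := ga_norm_aux p T hTp hcop
    (fun a ha b hb => Subtype.ext (hab a ha b hb)) (q.comp N.subtype) ⟨x, hSN hx⟩ hx hqx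
  refine ⟨(s : Λ), hsT, fun n hn => ?_, hqs⟩
  have := hfix ⟨n, hn⟩
  exact congrArg (fun t : N => (t : Λ)) this

end Cfsg.Agent.Lib.Helper24
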