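import Mathlib
import Cfsg.Agent.Lib.Helper18.ZStarCI

set_option autoImplicit false

namespace Cfsg.Agent.Lib.Helper24

theorem ga_no_central {Λ : Type*} [Group Λ] [Finite Λ] (S : Sylow 2 Λ)
    (hab : ∀ a ∈ (S : Subgroup Λ), ∀ b ∈ (S : Subgroup Λ), a * b = b * a)
    (hZS : ∀ u : Λ, orderOf u = 2 → u ∈ (S : Subgroup Λ) →
      (∀ g : Λ, g * u * g⁻¹ ∈ (S : Subgroup Λ) → g * u * g⁻¹ = u) →
      ∃ N : Subgroup Λ, N.Normal ∧ Odd (Nat.card N) ∧ ∀ g : Λ, u * g * u⁻¹ * g⁻¹ ∈ N)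
    (hO : ∀ N : Subgroup Λ, N.Normal → Odd (Nat.card N) → N = ⊥)
    (hZ : Subgroup.center Λ = ⊥)
    (s : Λ) (hs : s ∈ (S : Subgroup Λ))
    (hfix : ∀ n ∈ Subgroup.normalizer ((S : Subgroup Λ) : Set Λ), n * s * n⁻¹ = s) : s = 1 := by
  by_contra hs1
  obtain ⟨m, hm⟩ := (IsPGroup.iff_orderOf.mp S.2) ⟨s, hs⟩
  rw [Subgroup.orderOf_mk] at hm
  have hm0 : m ≠ 0 := by
    rintro rfl
    rw [pow_zero, orderOf_eq_one_iff] at hm
    exact hs1 hm
  obtain ⟨k, rfl⟩ := Nat.exists_eq_succ_of_ne_zero hm0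
  set u : Λ := s ^ (2 ^ k) with hu
  have hou : orderOf u = 2 := by
    rw [hu, orderOf_pow' s (by positivity), hm, Nat.gcd_eq_right (pow_dvd_pow 2 (Nat.le_succ k)),
      pow_succ, Nat.mul_div_cancel_left _ (by positivity)]
  have huS : u ∈ (S : Subgroup Λ) := Subgroup.pow_mem _ hs _
  have hufix : ∀ n ∈ Subgroup.normalizer ((S : Subgroup Λ) : Set Λ), n * u * n⁻¹ = u := by
    intro n hn
    rw [hu, ← conj_pow, hfix n hn]
  have hiso : ∀ g : Λ, g * u * g⁻¹ ∈ (S : Subgroup Λ) → g * u * g⁻¹ = u := by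
    intro g hg
    obtain ⟨n, hn, hnu⟩ := Cfsg.Agent.Lib.Helper18.ZStar.zs_burnside_elt S
      (x := u) (y := g * u * g⁻¹) (fun a ha => hab a ha u huS)
      (fun a ha => hab a ha _ hg) g rfl
    rw [← hnu, hufix n hn]
  obtain ⟨N, hNn, hNodd, hN⟩ := hZS u hou huS hiso
  have hNbot := hO N hNn hNodd
  have hucen : u ∈ Subgroup.center Λ := by
    rw [Subgroup.mem_center_iff]
    intro g
    have := hN g
    rw [hNbot, Subgroup.mem_bot] at this
    have h2 : u * g = g * u := by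
      calc u * g = (u * g * u⁻¹ * g⁻¹) * (g * u) := by group
        _ = g * u := by rw [this, one_mul]
    exact h2.symm
  rw [hZ, Subgroup.mem_bot] at hucen
  rw [hucen, orderOf_one] at hou
  omega

end Cfsg.Agent.Lib.Helper24
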