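import Mathlib
import Cfsg.Prelude.Def_Solvable
import Cfsg.Agent.Lib.Helper1.Cores
import Cfsg.Agent.Lib.Helper24.GlaubAut1
import Cfsg.Agent.Lib.Helper24.GlaubAut2

set_option autoImplicit false

namespace Cfsg.Agent.Lib.Helper24

open scoped Pointwise

section GAabs
variable {G Λ : Type*} [Group G] [Finite G] [Group Λ] [Finite Λ]

theorem ga_quot_gen (ι : G →* Λ) [hnorm : ι.range.Normal] (a : Λ)
    (hgen : ∀ l : Λ, ∃ g : G, ∃ m : ℤ, l = ι g * a ^ m) (x : Λ ⧸ ι.range) :
    ∃ m : ℤ, x = (QuotientGroup.mk' ι.range a) ^ m := by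
  induction x using QuotientGroup.induction_on with
  | H l =>
    obtain ⟨g, m, rfl⟩ := hgen l
    refine ⟨m, ?_⟩
    rw [← map_zpow]
    show (QuotientGroup.mk' ι.range) (ι g * a ^ m) = _
    rw [map_mul]
    have : (QuotientGroup.mk' ι.range) (ι g) = 1 := by
      rw [QuotientGroup.mk'_apply, QuotientGroup.eq_one_iff]
      exact ⟨g, rfl⟩
    rw [this, one_mul]

theorem ga_quot_comm (ι : G →* Λ) [hnorm : ι.range.Normal] (a : Λ)
    (hgen : ∀ l : Λ, ∃ g : G, ∃ m : ℤ, l = ι g * a ^ m) (x y : Λ ⧸ ι.range) :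
    x * y = y * x := by
  obtain ⟨m, rfl⟩ := ga_quot_gen ι a hgen x
  obtain ⟨n, rfl⟩ := ga_quot_gen ι a hgen y
  rw [← zpow_add, ← zpow_add, add_comm]

theorem ga_abstract (ι : G →* Λ) (hι : Function.Injective ι) [hnorm : ι.range.Normal]
    (a : Λ) (h2 : ∃ j : ℕ, orderOf a = 2 ^ j)
    (hgen : ∀ l : Λ, ∃ g : G, ∃ m : ℤ, l = ι g * a ^ m)
    (hcore : Cfsg.pPrimeCore 2 G = ⊥)
    (hcent : ∀ l : Λ, (∀ g : G, l * ι g = ι g * l) → l = 1)
    (P : Sylow 2 G) (hab : ∀ x ∈ (P : Subgroup G), ∀ y ∈ (P : Subgroup G), x * y = y * x)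
    (hfix : ∀ x ∈ (P : Subgroup G), a * ι x = ι x * a)
    (hZS : ∀ (S : Sylow 2 Λ) (u : Λ), orderOf u = 2 → u ∈ (S : Subgroup Λ) →
      (∀ g : Λ, g * u * g⁻¹ ∈ (S : Subgroup Λ) → g * u * g⁻¹ = u) →
      ∃ N : Subgroup Λ, N.Normal ∧ Odd (Nat.card N) ∧ ∀ g : Λ, u * g * u⁻¹ * g⁻¹ ∈ N) :
    a ∈ ι.range := by
  classical
  haveI : Fact (Nat.Prime 2) := ⟨Nat.prime_two⟩
  by_contra hna
  obtain ⟨j, hj⟩ := h2
  letI : CommGroup (Λ ⧸ ι.range) :=
    { (inferInstance : Group (Λ ⧸ ι.range)) with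
      mul_comm := ga_quot_comm ι a hgen }
  set q : Λ →* Λ ⧸ ι.range := QuotientGroup.mk' ι.range with hq
  have hqa : q a ≠ 1 := by
    intro h
    rw [hq, QuotientGroup.mk'_apply, QuotientGroup.eq_one_iff] at h
    exact hna h
  have hqι : ∀ g : G, q (ι g) = 1 := by
    intro g
    rw [hq, QuotientGroup.mk'_apply, QuotientGroup.eq_one_iff]
    exact ⟨g, rfl⟩
  have hacomm : ∀ x ∈ (P : Subgroup G), ∀ m : ℤ, a ^ m * ι x = ι x * a ^ m := by
    intro x hx m
    have hc : Commute a (ι x) := hfix x hx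
    exact (hc.zpow_left m).eq
  set Q₀ : Subgroup Λ := (P : Subgroup G).map ι ⊔ Subgroup.zpowers a with hQ₀
  have hQ₀p : IsPGroup 2 Q₀ := by
    apply IsPGroup.to_sup_of_normal_right' (P.2.map ι)
    · rw [IsPGroup.iff_orderOf]
      rintro ⟨b, hb⟩
      obtain ⟨m, rfl⟩ := Subgroup.mem_zpowers_iff.mp hb
      have hdvd : orderOf (a ^ m) ∣ 2 ^ j := by
        rw [← hj]; exact orderOf_dvd_of_pow_eq_one (by
          rw [← zpow_natCast, ← zpow_mul, mul_comm, zpow_mul, zpow_natCast, pow_orderOf_eq_one,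
            one_zpow])
      obtain ⟨k, _, hk⟩ := (Nat.dvd_prime_pow Nat.prime_two).mp hdvd
      exact ⟨k, by rw [Subgroup.orderOf_mk]; exact hk⟩
    · rintro _ ⟨x, hx, rfl⟩
      rw [Subgroup.mem_normalizer_iff]
      intro h
      have hcx : ∀ b ∈ Subgroup.zpowers a, ι x * b * (ι x)⁻¹ = b := by
        intro b hb
        obtain ⟨m, rfl⟩ := Subgroup.mem_zpowers_iff.mp hb
        rw [← hacomm x hx m, mul_inv_cancel_right]
      constructor
      · intro hh
        rw [hcx h hh]; exact hh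
      · intro hh
        have h4 := hcx _ hh
        have h5 : ι x * h * (ι x)⁻¹ = h := by
          have h6 : (ι x)⁻¹ * (ι x * (ι x * h * (ι x)⁻¹) * (ι x)⁻¹) * ι x =
              (ι x)⁻¹ * (ι x * h * (ι x)⁻¹) * ι x := by rw [h4]
          have e1 : (ι x)⁻¹ * (ι x * (ι x * h * (ι x)⁻¹) * (ι x)⁻¹) * ι x =
              ι x * h * (ι x)⁻¹ := by group
          have e2 : (ι x)⁻¹ * (ι x * h * (ι x)⁻¹) * ι x = h := by group
          rw [e1, e2] at h6
          exact h6
        rw [← h5]; exact hh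
  obtain ⟨S, hQS⟩ := hQ₀p.exists_le_sylow
  have hPS : ∀ x ∈ (P : Subgroup G), ι x ∈ (S : Subgroup Λ) := fun x hx =>
    hQS (Subgroup.mem_sup_left ⟨x, hx, rfl⟩)
  have haS : ∀ m : ℤ, a ^ m ∈ (S : Subgroup Λ) := fun m =>
    hQS (Subgroup.mem_sup_right (Subgroup.zpow_mem_zpowers a m))
  have hSform : ∀ b ∈ (S : Subgroup Λ), ∃ x ∈ (P : Subgroup G), ∃ m : ℤ, b = ι x * a ^ m := by
    intro b hb
    obtain ⟨g, m, rfl⟩ := hgen b
    have hg : ι g ∈ (S : Subgroup Λ) := by
      have := Subgroup.mul_mem _ hb (Subgroup.inv_mem _ (haS m))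
      rwa [mul_inv_cancel_right] at this
    set T : Subgroup G := (S : Subgroup Λ).comap ι with hT
    have hTp : IsPGroup 2 T := S.2.comap_of_injective ι hι
    have hPT : (P : Subgroup G) ≤ T := fun x hx => hPS x hx
    have hTP : T = (P : Subgroup G) := P.3 hTp hPT
    have : g ∈ T := hg
    rw [hTP] at this
    exact ⟨g, this, m, rfl⟩
  have hSab : ∀ b ∈ (S : Subgroup Λ), ∀ c ∈ (S : Subgroup Λ), b * c = c * b := by
    intro b hb c hc
    obtain ⟨x, hx, m, rfl⟩ := hSform b hb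
    obtain ⟨y, hy, n, rfl⟩ := hSform c hc
    have h1 : ι x * ι y = ι y * ι x := by
      rw [← map_mul, ← map_mul, hab x hx y hy]
    have h2 : a ^ m * a ^ n = a ^ n * a ^ m := by
      rw [← zpow_add, ← zpow_add, add_comm]
    calc ι x * a ^ m * (ι y * a ^ n) = ι x * (a ^ m * ι y) * a ^ n := by group
      _ = ι x * (ι y * a ^ m) * a ^ n := by rw [hacomm y hy m]
      _ = (ι x * ι y) * (a ^ m * a ^ n) := by group
      _ = (ι y * ι x) * (a ^ n * a ^ m) := by rw [h1, h2]
      _ = ι y * (ι x * a ^ n) * a ^ m := by group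
      _ = ι y * (a ^ n * ι x) * a ^ m := by rw [hacomm x hx n]
      _ = ι y * a ^ n * (ι x * a ^ m) := by group
  have hO : ∀ N : Subgroup Λ, N.Normal → Odd (Nat.card N) → N = ⊥ := by
    intro N hNn hNodd
    have hNle : N ≤ ι.range := by
      intro n hn
      have h1 : q n ^ (Nat.card N) = 1 := by
        rw [← map_pow]
        have : n ^ (Nat.card N) = 1 := by
          have := pow_card_eq_one' (G := N) (x := ⟨n, hn⟩)
          exact congrArg (fun t : N => (t : Λ)) this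
        rw [this, map_one]
      have h2 : q n ^ (2 ^ j) = 1 := by
        obtain ⟨m, hm⟩ := ga_quot_gen ι a hgen (q n)
        rw [hm, ← zpow_natCast, ← zpow_mul, mul_comm, zpow_mul, zpow_natCast, ← map_pow, ← hj,
          pow_orderOf_eq_one, map_one, one_zpow]
      have h3 : orderOf (q n) ∣ Nat.card N := orderOf_dvd_of_pow_eq_one h1
      have h4 : orderOf (q n) ∣ 2 ^ j := orderOf_dvd_of_pow_eq_one h2
      have hcop : Nat.Coprime (Nat.card N) (2 ^ j) :=
        Nat.Coprime.pow_right j (Nat.coprime_two_right.mpr hNodd)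
      have h5 : orderOf (q n) = 1 := Nat.eq_one_of_dvd_coprimes hcop h3 h4
      have h6 : q n = 1 := orderOf_eq_one_iff.mp h5
      rw [hq, QuotientGroup.mk'_apply, QuotientGroup.eq_one_iff] at h6
      exact h6
    set N₀ : Subgroup G := N.comap ι with hN₀
    haveI : N₀.Normal := hNn.comap ι
    have hcard : Nat.card N₀ ∣ Nat.card N := by
      let f : N₀ →* N := (ι.comp N₀.subtype).codRestrict N (fun g => g.2)
      have hf : Function.Injective f := by
        intro g₁ g₂ h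
        have := congrArg (fun t : N => (t : Λ)) h
        exact Subtype.ext (hι this)
      exact Subgroup.card_dvd_of_injective f hf
    have hN₀odd : (Nat.card N₀).Coprime 2 := by
      have : Odd (Nat.card N₀) := Odd.of_dvd_nat hNodd hcard
      exact Nat.coprime_two_right.mpr this
    have hN₀bot : N₀ = ⊥ := by
      have := Cfsg.Agent.Lib.Helper1.le_pPrimeCore (inferInstance : N₀.Normal) hN₀odd
      rw [hcore] at this
      exact le_bot_iff.mp this
    rw [eq_bot_iff]
    intro n hn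
    obtain ⟨g, rfl⟩ := hNle hn
    have hg : g ∈ N₀ := hn
    rw [hN₀bot, Subgroup.mem_bot] at hg
    rw [hg, map_one]; exact Subgroup.one_mem _
  have hZ : Subgroup.center Λ = ⊥ := by
    rw [eq_bot_iff]
    intro l hl
    rw [Subgroup.mem_center_iff] at hl
    rw [Subgroup.mem_bot]
    exact hcent l (fun g => (hl (ι g)).symm)
  have ha1 : a ∈ (S : Subgroup Λ) := by
    have := haS 1
    rwa [zpow_one] at this
  obtain ⟨s, hsS, hsfix, hqs⟩ := ga_norm 2 S hSab q a ha1 hqa
  have hs1 := ga_no_central S hSab (hZS S) hO hZ s hsS hsfix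
  rw [hs1, map_one] at hqs
  exact hqs rfl

end GAabs

section GAconc

universe u

theorem ga_conj_conj (G : Type*) [Group G] (φ : MulAut G) (g : G) :
    φ * MulAut.conj g * φ⁻¹ = MulAut.conj (φ g) := by
  ext x
  simp [MulAut.conj_apply, MulAut.mul_apply]

theorem ga_conj_injective (G : Type*) [Group G] (hZ : Subgroup.center G = ⊥) :
    Function.Injective (MulAut.conj : G →* MulAut G) := by
  rw [injective_iff_map_eq_one]
  intro g hg
  have : g ∈ Subgroup.center G := by
    rw [Subgroup.mem_center_iff]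
    intro x
    have h1 := congrArg (fun φ : MulAut G => φ x) hg
    simp only [MulAut.conj_apply, MulAut.one_apply] at h1
    calc x * g = (g * x * g⁻¹) * g := by rw [h1]
      _ = g * x := by group
  rwa [hZ, Subgroup.mem_bot] at this

theorem ga_main {G : Type u} [Group G] [Finite G] (hZ : Subgroup.center G = ⊥)
    (hcore : Cfsg.pPrimeCore 2 G = ⊥) (P : Sylow 2 G)
    (hab : ∀ x ∈ (P : Subgroup G), ∀ y ∈ (P : Subgroup G), x * y = y * x)
    (α : MulAut G) (h2 : ∃ j : ℕ, orderOf α = 2 ^ j) (hfix : ∀ x ∈ (P : Subgroup G), α x = x)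
    (hZS : ∀ (Λ : Type u) [Group Λ] [Finite Λ] (S : Sylow 2 Λ) (u : Λ), orderOf u = 2 →
      u ∈ (S : Subgroup Λ) →
      (∀ g : Λ, g * u * g⁻¹ ∈ (S : Subgroup Λ) → g * u * g⁻¹ = u) →
      ∃ N : Subgroup Λ, N.Normal ∧ Odd (Nat.card N) ∧ ∀ g : Λ, u * g * u⁻¹ * g⁻¹ ∈ N) :
    ∃ g : G, ∀ x : G, α x = g * x * g⁻¹ := by
  set I : Subgroup (MulAut G) := (MulAut.conj : G →* MulAut G).range with hI
  haveI hIn : I.Normal := by
    constructor
    rintro _ ⟨g, rfl⟩ φ
    exact ⟨φ g, (ga_conj_conj G φ g).symm⟩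
  set L : Subgroup (MulAut G) := I ⊔ Subgroup.zpowers α with hL
  set ι : G →* L := (MulAut.conj : G →* MulAut G).codRestrict L
    (fun g => Subgroup.mem_sup_left ⟨g, rfl⟩) with hιdef
  set a : L := ⟨α, Subgroup.mem_sup_right (Subgroup.mem_zpowers α)⟩ with ha
  have hιval : ∀ g : G, ((ι g : L) : MulAut G) = MulAut.conj g := fun g => rfl
  have hι : Function.Injective ι := by
    intro g₁ g₂ h
    apply ga_conj_injective G hZ
    have := congrArg (fun t : L => (t : MulAut G)) h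
    exact this
  have hconjL : ∀ (l : L) (g : G), l * ι g * l⁻¹ = ι ((l : MulAut G) g) := by
    intro l g
    apply Subtype.ext
    exact ga_conj_conj G (l : MulAut G) g
  haveI hnorm : ι.range.Normal := by
    constructor
    rintro _ ⟨g, rfl⟩ l
    exact ⟨(l : MulAut G) g, (hconjL l g).symm⟩
  have h2' : ∃ j : ℕ, orderOf a = 2 ^ j := by
    obtain ⟨j, hj⟩ := h2
    exact ⟨j, by rw [ha, Subgroup.orderOf_mk]; exact hj⟩
  have hgen : ∀ l : L, ∃ g : G, ∃ m : ℤ, l = ι g * a ^ m := by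
    intro l
    have hl : (l : MulAut G) ∈ ((I ⊔ Subgroup.zpowers α : Subgroup (MulAut G)) : Set (MulAut G)) :=
      l.2
    rw [Subgroup.normal_mul] at hl
    obtain ⟨i, hi, b, hb, hib⟩ := hl
    obtain ⟨g, rfl⟩ := hi
    obtain ⟨m, rfl⟩ := Subgroup.mem_zpowers_iff.mp hb
    refine ⟨g, m, ?_⟩
    apply Subtype.ext
    rw [Subgroup.coe_mul, Subgroup.coe_zpow, hιval]
    exact hib.symm
  have hcent : ∀ l : L, (∀ g : G, l * ι g = ι g * l) → l = 1 := by
    intro l hl
    apply Subtype.ext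
    apply MulEquiv.ext
    intro g
    have h1 := hconjL l g
    rw [hl g, mul_inv_cancel_right] at h1
    have := hι h1
    rw [Subgroup.coe_one, MulAut.one_apply]
    exact this.symm
  have hfix' : ∀ x ∈ (P : Subgroup G), a * ι x = ι x * a := by
    intro x hx
    have h1 := hconjL a x
    have h3 : ((a : L) : MulAut G) x = x := hfix x hx
    rw [h3] at h1
    calc a * ι x = (a * ι x * a⁻¹) * a := by group
      _ = ι x * a := by rw [h1]
  have hmem := ga_abstract ι hι a h2' hgen hcore hcent P hab hfix' (fun S u => hZS L S u)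
  obtain ⟨g, hg⟩ := hmem
  refine ⟨g, fun x => ?_⟩
  have h1 := congrArg (fun t : L => ((t : MulAut G)) x) hg
  simp only [hιval, ha, MulAut.conj_apply] at h1
  exact h1.symm

end GAconc


end Cfsg.Agent.Lib.Helper24
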