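import Mathlib
import Cfsg.Agent.Lib.Helper24.Gls3

set_option autoImplicit false

namespace Cfsg.Agent.Lib.Helper24

open scoped ComplexConjugate

universe u

theorem glc_solv_subgroup {Γ : Type u} [Group Γ] (G S : Subgroup Γ) [Finite G] [Finite S]
    (hnorm : ∀ s ∈ S, ∀ g ∈ G, s * g * s⁻¹ ∈ G) (hcop : (Nat.card G).Coprime (Nat.card S))
    (hsolv : Group.IsSolvable S) :
    Nat.card {χ : Cfsg.IrrCharacter G // (∀ s ∈ S, ∀ g g' : G, (g' : Γ) = s * g * s⁻¹ →
      (χ : G → ℂ) g' = (χ : G → ℂ) g)} =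
    Nat.card {K : ConjClasses G // ∀ s ∈ S, ∀ g g' : G, (g' : Γ) = s * g * s⁻¹ →
      ConjClasses.mk g = K → ConjClasses.mk g' = K} := by
  let φ₀ : S →* MulAut Γ := (MulAut.conj).comp S.subtype
  have hA : ∀ a : S, ∀ h ∈ G, φ₀ a h ∈ G := by
    intro a h hh
    exact hnorm a.1 a.2 h hh
  let φ : S →* MulAut G := glcResHom φ₀ G hA
  have hφ : ∀ (a : S) (g : G), ((φ a g : G) : Γ) = a.1 * g.1 * a.1⁻¹ := fun a g => rfl
  have hmain := glc_solv_aux (Nat.card S) S le_rfl G hcop φ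
  have e1 : Nat.card {χ : Cfsg.IrrCharacter G // (∀ s ∈ S, ∀ g g' : G, (g' : Γ) = s * g * s⁻¹ →
      (χ : G → ℂ) g' = (χ : G → ℂ) g)} =
      Nat.card {χ : Cfsg.IrrCharacter G // ∀ a g, (χ : G → ℂ) (φ a g) = (χ : G → ℂ) g} := by
    apply Nat.card_congr
    apply Equiv.subtypeEquivRight
    intro χ
    constructor
    · intro h a g
      exact h a.1 a.2 g (φ a g) (hφ a g)
    · intro h s hs g g' hg'
      have := h ⟨s, hs⟩ g
      have e : φ ⟨s, hs⟩ g = g' := Subtype.ext (by rw [hφ, hg'])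
      rw [e] at this
      exact this
  have e2 : Nat.card {K : ConjClasses G // ∀ s ∈ S, ∀ g g' : G, (g' : Γ) = s * g * s⁻¹ →
      ConjClasses.mk g = K → ConjClasses.mk g' = K} =
      Nat.card {K : ConjClasses G // ∀ a, glcTau (φ a) K = K} := by
    apply Nat.card_congr
    apply Equiv.subtypeEquivRight
    intro K
    constructor
    · intro h a
      obtain ⟨g, rfl⟩ := ConjClasses.mk_surjective K
      rw [glcTau_mk]
      exact h a.1 a.2 g (φ a g) (hφ a g) rfl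
    · intro h s hs g g' hg' hgK
      have e : φ ⟨s, hs⟩ g = g' := Subtype.ext (by rw [hφ, hg'])
      rw [← e, ← glcTau_mk, hgK]
      exact h ⟨s, hs⟩
  rw [e1, e2]
  exact hmain

end Cfsg.Agent.Lib.Helper24
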