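import Mathlib
import Cfsg.Agent.Lib.Helper24.HC4

set_option autoImplicit false
set_option linter.style.haveILetI false
set_option linter.unusedVariables false
set_option maxHeartbeats 1600000

namespace Cfsg.Agent.Lib.Helper24

section
variable {L : Type*} [Group L]

theorem hc_pow_index_mem [Finite L] (Q : Sylow 2 L) (x : L)
    (hx : x ∈ Subgroup.normalizer ((Q : Subgroup L) : Set L)) :
    x ^ (Q : Subgroup L).index ∈ (Q : Subgroup L) := by
  haveI hn : ((Q : Subgroup L).subgroupOf (Subgroup.normalizer ((Q : Subgroup L) : Set L))).Normal :=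
    Subgroup.normal_in_normalizer
  have h1 : (QuotientGroup.mk (⟨x, hx⟩ : Subgroup.normalizer ((Q : Subgroup L) : Set L)) :
      (Subgroup.normalizer ((Q : Subgroup L) : Set L)) ⧸
        ((Q : Subgroup L).subgroupOf (Subgroup.normalizer ((Q : Subgroup L) : Set L)))) ^
      ((Q : Subgroup L).relIndex (Subgroup.normalizer ((Q : Subgroup L) : Set L))) = 1 := by
    unfold Subgroup.relIndex Subgroup.index
    exact pow_card_eq_one'
  obtain ⟨c, hc⟩ := Subgroup.relIndex_dvd_index_of_le (Subgroup.le_normalizer (H := (Q : Subgroup L)))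
  have h2 : (QuotientGroup.mk (⟨x, hx⟩ : Subgroup.normalizer ((Q : Subgroup L) : Set L)) :
      (Subgroup.normalizer ((Q : Subgroup L) : Set L)) ⧸
        ((Q : Subgroup L).subgroupOf (Subgroup.normalizer ((Q : Subgroup L) : Set L)))) ^
      (Q : Subgroup L).index = 1 := by
    rw [hc, pow_mul, h1, one_pow]
  rw [← QuotientGroup.mk_pow, QuotientGroup.eq_one_iff, Subgroup.mem_subgroupOf] at h2
  exact h2

theorem hc_sylow_local [Finite L] (Q : Sylow 2 L)
    (hab : ∀ x ∈ (Q : Subgroup L), ∀ y ∈ (Q : Subgroup L), x * y = y * x)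
    (hΩ : Set.ncard {y : L | y ∈ (Q : Subgroup L) ∧ y ^ 2 = 1} = 4) :
    ((Subgroup.centralizer ((Q : Subgroup L) : Set L)).relIndex
        (Subgroup.normalizer ((Q : Subgroup L) : Set L)) = 1 ∨
      (Subgroup.centralizer ((Q : Subgroup L) : Set L)).relIndex
        (Subgroup.normalizer ((Q : Subgroup L) : Set L)) = 3) ∧
    (∀ g ∈ Subgroup.normalizer ((Q : Subgroup L) : Set L),
      g ∉ Subgroup.centralizer ((Q : Subgroup L) : Set L) →
      ∀ y ∈ (Q : Subgroup L), y ≠ 1 → g * y * g⁻¹ ≠ y) ∧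
    ((Subgroup.centralizer ((Q : Subgroup L) : Set L)).relIndex
        (Subgroup.normalizer ((Q : Subgroup L) : Set L)) = 3 →
      ∀ g ∈ Subgroup.normalizer ((Q : Subgroup L) : Set L),
        g ^ 3 ∈ Subgroup.centralizer ((Q : Subgroup L) : Set L)) := by
  haveI : Fact (Nat.Prime 2) := ⟨Nat.prime_two⟩
  have h2 : ∀ y ∈ (Q : Subgroup L), ∃ r : ℕ, orderOf y = 2 ^ r := by
    intro y hy
    obtain ⟨r, hr⟩ := (IsPGroup.iff_orderOf.mp Q.2) ⟨y, hy⟩
    exact ⟨r, by rw [← hr, Subgroup.orderOf_mk]⟩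
  have hk : Odd (Q : Subgroup L).index := by
    have := Q.not_dvd_index
    exact Nat.odd_iff.mpr (Nat.two_dvd_ne_zero.mp this)
  have hQC : (Q : Subgroup L) ≤ Subgroup.centralizer ((Q : Subgroup L) : Set L) := by
    intro x hx
    rw [Subgroup.mem_centralizer_iff]
    intro y hy
    exact hab y hy x hx
  have hNk : ∀ x ∈ Subgroup.normalizer ((Q : Subgroup L) : Set L),
      x ^ (Q : Subgroup L).index ∈ Subgroup.centralizer ((Q : Subgroup L) : Set L) :=
    fun x hx => hQC (hc_pow_index_mem Q x hx)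
  refine ⟨hc_relIndex (Q : Subgroup L) hab h2 hΩ _ hk hNk, ?_, ?_⟩
  · intro g hgN hgC
    apply hc_fpf (Q : Subgroup L) hab h2 hΩ g (hc_mem_norm _ g hgN) _ hk
    · exact (hc_mem_cent_iff _ _).mp (hNk g hgN)
    · rw [hc_mem_cent_iff] at hgC
      push Not at hgC
      exact hgC
  · intro h3 g hgN
    haveI hn : ((Subgroup.centralizer ((Q : Subgroup L) : Set L)).subgroupOf
        (Subgroup.normalizer ((Q : Subgroup L) : Set L))).Normal := by
      rw [← Subgroup.normalizerMonoidHom_ker]
      infer_instance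
    have h1 : (QuotientGroup.mk (⟨g, hgN⟩ : Subgroup.normalizer ((Q : Subgroup L) : Set L)) :
        (Subgroup.normalizer ((Q : Subgroup L) : Set L)) ⧸
          ((Subgroup.centralizer ((Q : Subgroup L) : Set L)).subgroupOf
            (Subgroup.normalizer ((Q : Subgroup L) : Set L)))) ^ 3 = 1 := by
      rw [← h3]
      unfold Subgroup.relIndex Subgroup.index
      exact pow_card_eq_one'
    rw [← QuotientGroup.mk_pow, QuotientGroup.eq_one_iff, Subgroup.mem_subgroupOf] at h1
    exact h1

end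
end Cfsg.Agent.Lib.Helper24
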