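import Mathlib
import Cfsg.Agent.Lib.Helper24.HC5
import Cfsg.Agent.S4721
import Cfsg.Agent.Lib.Helper19.Syl9Char
import Cfsg.Agent.Lib.helper2.PModular2
import Cfsg.Agent.Lib.Helper25.PrincipalNPC

set_option autoImplicit false
set_option linter.style.haveILetI false
set_option linter.unusedSectionVars false
set_option linter.unusedVariables false
set_option maxHeartbeats 1600000
open Classical

namespace Cfsg.Agent.Lib.Helper24

open Cfsg.Agent.Lib.Helper29 Cfsg.Agent.Lib.Helper25 Cfsg.Agent.Lib.helper2 Cfsg.Agent.Lib.Helper19.Syl9Char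

theorem hc_deg_X {G : Type*} [Group G] [Finite G] (χ : Cfsg.IrrCharacter G) (P : Subgroup G)
    (a : ℤ) (hval : ∀ y ∈ P, y ≠ 1 → (χ : G → ℂ) y = (a : ℂ)) :
    (Nat.card P : ℤ) ∣ (Cfsg.charDegree (χ : G → ℂ) : ℤ) - a := by
  haveI : Fintype P := Fintype.ofFinite P
  obtain ⟨m, hm⟩ := avg_nat χ P
  rw [← Finset.add_sum_erase Finset.univ _ (Finset.mem_univ (1 : P))] at hm
  have h1 : ∑ y ∈ Finset.univ.erase (1 : P), (χ : G → ℂ) (y : G) =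
      ∑ y ∈ Finset.univ.erase (1 : P), (a : ℂ) := by
    apply Finset.sum_congr rfl
    intro y hy
    apply hval y y.2
    intro h
    exact (Finset.mem_erase.mp hy).1 (Subtype.ext h)
  rw [h1, Finset.sum_const, Finset.card_erase_of_mem (Finset.mem_univ _), Finset.card_univ,
    nsmul_eq_mul, ← Nat.card_eq_fintype_card] at hm
  have hpos : 1 ≤ Nat.card P := Nat.card_pos
  rw [Nat.cast_sub hpos] at hm
  have h2 : ((1 : P) : G) = 1 := rfl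
  rw [h2, pq_degree_cast χ] at hm
  refine ⟨(m : ℤ) - a, ?_⟩
  have h3 : ((Cfsg.charDegree (χ : G → ℂ) : ℤ) : ℂ) - ((a : ℤ) : ℂ) =
      (((Nat.card P : ℤ) * ((m : ℤ) - a) : ℤ) : ℂ) := by
    push_cast
    linear_combination hm
  exact_mod_cast h3

theorem hc_deg_Y {G : Type*} [Group G] [Finite G] (η : Cfsg.IrrCharacter G) (P : Subgroup G)
    [Fintype P] (δ : ℤ) (O : Finset (↥P →* ℂˣ)) (hO : ∀ ψ ∈ O, ψ ≠ 1)
    (hval : ∀ y : P, (y : G) ≠ 1 → (η : G → ℂ) y = (δ : ℂ) * ∑ ψ ∈ O, ((ψ y : ℂˣ) : ℂ)) :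
    (Nat.card P : ℤ) ∣ (Cfsg.charDegree (η : G → ℂ) : ℤ) - δ * O.card := by
  obtain ⟨m, hm⟩ := avg_nat η P
  have hm' : ∑ y : P, (η : G → ℂ) (y : G) = (Nat.card P : ℂ) * m := by
    convert hm
  rw [← Finset.add_sum_erase Finset.univ _ (Finset.mem_univ (1 : P))] at hm'
  have h1 : ∑ y ∈ Finset.univ.erase (1 : P), (η : G → ℂ) (y : G) =
      ∑ y ∈ Finset.univ.erase (1 : P), (δ : ℂ) * ∑ ψ ∈ O, ((ψ y : ℂˣ) : ℂ) := by
    apply Finset.sum_congr rfl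
    intro y hy
    apply hval y
    intro h
    exact (Finset.mem_erase.mp hy).1 (Subtype.ext h)
  have h2 : ∑ y ∈ Finset.univ.erase (1 : P), ∑ ψ ∈ O, ((ψ y : ℂˣ) : ℂ) = -(O.card : ℂ) := by
    rw [Finset.sum_comm]
    have : ∀ ψ ∈ O, ∑ y ∈ Finset.univ.erase (1 : P), ((ψ y : ℂˣ) : ℂ) = -1 := by
      intro ψ hψ
      have h3 := afd_sum_elems ψ
      rw [if_neg (hO ψ hψ), ← Finset.add_sum_erase Finset.univ _ (Finset.mem_univ (1 : P))] at h3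
      rw [map_one, Units.val_one] at h3
      linear_combination h3
    rw [Finset.sum_congr rfl this]
    simp
  rw [h1, ← Finset.mul_sum, h2] at hm'
  have h4 : ((1 : P) : G) = 1 := rfl
  rw [h4, pq_degree_cast η] at hm'
  refine ⟨(m : ℤ), ?_⟩
  have h3 : ((Cfsg.charDegree (η : G → ℂ) : ℤ) : ℂ) - (((δ * O.card : ℤ)) : ℂ) =
      (((Nat.card P : ℤ) * (m : ℤ) : ℤ) : ℂ) := by
    push_cast
    linear_combination hm'
  exact_mod_cast h3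

theorem hc_sq16 (x₂ x₃ y : ℕ) (a₂ a₃ δ : ℤ) (ha₂ : a₂ = 1 ∨ a₂ = -1) (ha₃ : a₃ = 1 ∨ a₃ = -1)
    (hδ : δ = 1 ∨ δ = -1) (hprod : a₂ * a₃ * δ = -1)
    (h2 : (16 : ℤ) ∣ (x₂ : ℤ) - a₂) (h3 : (16 : ℤ) ∣ (x₃ : ℤ) - a₃)
    (hy : (16 : ℤ) ∣ (y : ℤ) - δ * 3) : ¬ IsSquare (y * (x₂ * x₃)) := by
  rintro ⟨r, hr⟩
  have e2 : ((x₂ : ℤ) : ZMod 16) = ((a₂ : ℤ) : ZMod 16) :=
    (ZMod.intCast_eq_intCast_iff_dvd_sub _ _ 16).mpr (by
      have : ((16 : ℕ) : ℤ) ∣ (x₂ : ℤ) - a₂ := by exact_mod_cast h2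
      have h := dvd_neg.mpr this
      rwa [neg_sub] at h)
  have e3 : ((x₃ : ℤ) : ZMod 16) = ((a₃ : ℤ) : ZMod 16) :=
    (ZMod.intCast_eq_intCast_iff_dvd_sub _ _ 16).mpr (by
      have : ((16 : ℕ) : ℤ) ∣ (x₃ : ℤ) - a₃ := by exact_mod_cast h3
      have h := dvd_neg.mpr this
      rwa [neg_sub] at h)
  have ey : ((y : ℤ) : ZMod 16) = ((δ * 3 : ℤ) : ZMod 16) :=
    (ZMod.intCast_eq_intCast_iff_dvd_sub _ _ 16).mpr (by
      have : ((16 : ℕ) : ℤ) ∣ (y : ℤ) - δ * 3 := by exact_mod_cast hy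
      have h := dvd_neg.mpr this
      rwa [neg_sub] at h)
  have hz : ((r : ℤ) : ZMod 16) * ((r : ℤ) : ZMod 16) = 13 := by
    have h1 : ((y : ℤ) * ((x₂ : ℤ) * (x₃ : ℤ)) : ℤ) = (r : ℤ) * (r : ℤ) := by exact_mod_cast hr
    have h4 := congrArg (fun z : ℤ => (z : ZMod 16)) h1
    simp only [Int.cast_mul] at h4
    rw [← h4, e2, e3, ey]
    have : ((δ * 3 : ℤ) : ZMod 16) * (((a₂ : ℤ) : ZMod 16) * ((a₃ : ℤ) : ZMod 16)) =
        (((a₂ * a₃ * δ) * 3 : ℤ) : ZMod 16) := by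
      push_cast
      ring
    rw [this, hprod]
    decide
  have hno : ∀ z : ZMod 16, z * z ≠ 13 := by decide
  exact hno _ hz

end Cfsg.Agent.Lib.Helper24
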