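import Mathlib
import Cfsg.Agent.Lib.Helper24.HC6

set_option autoImplicit false
set_option linter.style.haveILetI false
set_option linter.unusedSectionVars false
set_option linter.unusedVariables false
set_option maxHeartbeats 3200000
open Classical

namespace Cfsg.Agent.Lib.Helper24

open Cfsg.Agent.Lib.Helper29 Cfsg.Agent.Lib.Helper25 Cfsg.Agent.Lib.helper2 Cfsg.Agent.Lib.Helper19.Syl9Char

theorem hc_no_isolated {G : Type*} [Group G] [Finite G] (P : Sylow 2 G)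
    (hab : ∀ x ∈ (P : Subgroup G), ∀ y ∈ (P : Subgroup G), x * y = y * x)
    (h16 : 16 ∣ Nat.card (P : Subgroup G))
    (hCN : (Subgroup.centralizer ((P : Subgroup G) : Set G)).relIndex
      (Subgroup.normalizer ((P : Subgroup G) : Set G)) = 3)
    (hfpf : ∀ g ∈ Subgroup.normalizer ((P : Subgroup G) : Set G),
      g ∉ Subgroup.centralizer ((P : Subgroup G) : Set G) →
      ∀ y ∈ (P : Subgroup G), y ≠ 1 → g * y * g⁻¹ ≠ y) :
    ∀ t : G, orderOf t = 2 → ∃ K : Subgroup G, K.Normal ∧ t ∈ K ∧ K ≠ ⊤ := by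
  haveI : Fact (Nat.Prime 2) := ⟨Nat.prime_two⟩
  by_contra hcon
  push Not at hcon
  obtain ⟨t, ht, htK⟩ := hcon
  obtain ⟨M, hM⟩ := exists_isPModular 2 Nat.prime_two
  have hcomm : ∀ a b : ↥(P : Subgroup G), a * b = b * a :=
    fun a b => Subtype.ext (hab a a.2 b b.2)
  have hcommI : IsMulCommutative ↥(P : Subgroup G) := ⟨⟨hcomm⟩⟩
  have hPC : (P : Subgroup G) ≤ Subgroup.centralizer ((P : Subgroup G) : Set G) := by
    intro x hx
    rw [Subgroup.mem_centralizer_iff]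
    intro y hy
    exact hab y hy x hx
  have hCNle : Subgroup.centralizer ((P : Subgroup G) : Set G) ≤
      Subgroup.normalizer ((P : Subgroup G) : Set G) := Subgroup.centralizer_le_normalizer _
  have hfrob : ∀ y : G, y ∈ (P : Subgroup G) → y ≠ 1 →
      Subgroup.centralizer ({y} : Set G) ⊓ Subgroup.normalizer ((P : Subgroup G) : Set G) =
        Subgroup.centralizer ((P : Subgroup G) : Set G) := by
    intro y hy hy1
    apply le_antisymm
    · intro x hx
      by_contra hxC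
      have hxy := Subgroup.mem_centralizer_singleton_iff.mp hx.1
      apply hfpf x hx.2 hxC y hy hy1
      rw [mul_inv_eq_iff_eq_mul]
      exact hxy
    · intro x hx
      refine ⟨?_, hCNle hx⟩
      show x ∈ Subgroup.centralizer ({y} : Set G)
      rw [Subgroup.mem_centralizer_singleton_iff]
      exact (Subgroup.mem_centralizer_iff.mp hx y hy).symm
  have hP16 : 16 ≤ Nat.card (P : Subgroup G) := Nat.le_of_dvd Nat.card_pos h16
  have hcyc : ∃ g : G, g ∈ Subgroup.normalizer ((P : Subgroup G) : Set G) ∧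
      Subgroup.centralizer ((P : Subgroup G) : Set G) ⊔ Subgroup.zpowers g =
        Subgroup.normalizer ((P : Subgroup G) : Set G) := by
    have hne : ¬ Subgroup.normalizer ((P : Subgroup G) : Set G) ≤
        Subgroup.centralizer ((P : Subgroup G) : Set G) := by
      intro h
      rw [Subgroup.relIndex_eq_one.mpr h] at hCN
      norm_num at hCN
    obtain ⟨g, hgN, hgC⟩ := SetLike.not_le_iff_exists.mp hne
    refine ⟨g, hgN, ?_⟩
    have hle : Subgroup.centralizer ((P : Subgroup G) : Set G) ⊔ Subgroup.zpowers g ≤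
        Subgroup.normalizer ((P : Subgroup G) : Set G) :=
      sup_le hCNle (by rw [Subgroup.zpowers_le]; exact hgN)
    apply le_antisymm hle
    have hmul := Subgroup.relIndex_mul_relIndex (Subgroup.centralizer ((P : Subgroup G) : Set G))
      (Subgroup.centralizer ((P : Subgroup G) : Set G) ⊔ Subgroup.zpowers g)
      (Subgroup.normalizer ((P : Subgroup G) : Set G)) le_sup_left hle
    rw [hCN] at hmul
    have h1 : (Subgroup.centralizer ((P : Subgroup G) : Set G)).relIndex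
        (Subgroup.centralizer ((P : Subgroup G) : Set G) ⊔ Subgroup.zpowers g) ≠ 1 := by
      intro h
      have := Subgroup.relIndex_eq_one.mp h
      apply hgC
      apply this
      exact (le_sup_right : Subgroup.zpowers g ≤ _) (Subgroup.mem_zpowers g)
    have h3 : (Subgroup.centralizer ((P : Subgroup G) : Set G)).relIndex
        (Subgroup.centralizer ((P : Subgroup G) : Set G) ⊔ Subgroup.zpowers g) = 3 := by
      have hd : (Subgroup.centralizer ((P : Subgroup G) : Set G)).relIndex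
        (Subgroup.centralizer ((P : Subgroup G) : Set G) ⊔ Subgroup.zpowers g) ∣ 3 :=
        Dvd.intro _ hmul
      rcases (Nat.dvd_prime (by norm_num : Nat.Prime 3)).mp hd with h | h
      · exact absurd h h1
      · exact h
    rw [h3] at hmul
    have h4 : (Subgroup.centralizer ((P : Subgroup G) : Set G) ⊔ Subgroup.zpowers g).relIndex
        (Subgroup.normalizer ((P : Subgroup G) : Set G)) = 1 := by omega
    exact Subgroup.relIndex_eq_one.mp h4
  obtain ⟨X, Y, hB, hdisj, hXc, hYc, ⟨χ₁, hχ₁X, hχ₁⟩, a, δ, ζ, hδ, hX, hζY, hζsurj, hζconst, hζval,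
    hfour⟩ := Cfsg.Agent.S4721.result 2 M hM P hcommI (by omega) hCN hcyc (by omega) hfrob
  obtain ⟨hcount, hsq⟩ := hfour ⟨t, ht, htK⟩
  have hsetup : AFSetup 2 P := ⟨hcomm, hfrob⟩
  haveI : Fintype G := Fintype.ofFinite G
  haveI : Fintype (Cfsg.IrrCharacter G) := Fintype.ofFinite _
  haveI : Fintype ↥(P : Subgroup G) := Fintype.ofFinite _
  haveI : Finite (↥(P : Subgroup G) →* ℂˣ) := Nat.finite_of_card_ne_zero (by
    rw [afd_card_dual hcomm]
    exact Nat.card_pos.ne')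
  haveI : Fintype (↥(P : Subgroup G) →* ℂˣ) := Fintype.ofFinite _
  haveI : Fintype ↥(Subgroup.normalizer ((P : Subgroup G) : Set G)) := Fintype.ofFinite _
  haveI : Fintype ↥(Subgroup.centralizer ((P : Subgroup G) : Set G)) := Fintype.ofFinite _
  have hXfin : X.Finite := Set.toFinite X
  obtain ⟨Xf, hXf⟩ : ∃ Xf : Finset (Cfsg.IrrCharacter G), Xf = hXfin.toFinset := ⟨_, rfl⟩
  have hXfmem : ∀ χ, χ ∈ Xf ↔ χ ∈ X := by
    intro χ; rw [hXf, Set.Finite.mem_toFinset]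
  have hXfcard : Xf.card = 3 := by
    rw [← hXc, Nat.card_coe_set_eq, Set.ncard_eq_toFinset_card X hXfin, hXf]
  have herase : (Xf.erase χ₁).card = 2 := by
    rw [Finset.card_erase_of_mem ((hXfmem χ₁).mpr hχ₁X), hXfcard]
  obtain ⟨χ₂, χ₃, h23, hpair⟩ := Finset.card_eq_two.mp herase
  have hχ₂e : χ₂ ∈ Xf.erase χ₁ := by rw [hpair]; simp
  have hχ₃e : χ₃ ∈ Xf.erase χ₁ := by rw [hpair]; simp
  have h21 : χ₂ ≠ χ₁ := (Finset.mem_erase.mp hχ₂e).1
  have h31 : χ₃ ≠ χ₁ := (Finset.mem_erase.mp hχ₃e).1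
  have hχ₂X : χ₂ ∈ X := (hXfmem χ₂).mp (Finset.mem_erase.mp hχ₂e).2
  have hχ₃X : χ₃ ∈ X := (hXfmem χ₃).mp (Finset.mem_erase.mp hχ₃e).2
  have hXfeq : Xf = insert χ₁ ({χ₂, χ₃} : Finset (Cfsg.IrrCharacter G)) := by
    rw [← hpair, Finset.insert_erase ((hXfmem χ₁).mpr hχ₁X)]
  have hXiff : ∀ χ, χ ∈ X ↔ χ = χ₁ ∨ χ = χ₂ ∨ χ = χ₃ := by
    intro χ
    rw [← hXfmem, hXfeq]
    simp
  have htriv_eq : ∀ χ : Cfsg.IrrCharacter G, (χ : G → ℂ) = (fun _ => 1) → χ = χ₁ := by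
    intro χ hχ
    apply Subtype.ext
    rw [hχ, hχ₁]
  have h2fun : (χ₂ : G → ℂ) ≠ fun _ => 1 := fun hh => h21 (htriv_eq χ₂ hh)
  have h3fun : (χ₃ : G → ℂ) ≠ fun _ => 1 := fun hh => h31 (htriv_eq χ₃ hh)
  have hX'eq : {χ : Cfsg.IrrCharacter G | χ ∈ X ∧ (χ : G → ℂ) ≠ fun _ => 1} = {χ₂, χ₃} := by
    ext χ
    simp only [Set.mem_ofPred_eq, Set.mem_insert_iff, Set.mem_singleton_iff]
    rw [hXiff]
    constructor
    · rintro ⟨h | h | h, hne⟩
      · exact absurd (h ▸ hχ₁) hne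
      · exact Or.inl h
      · exact Or.inr h
    · rintro (h | h)
      · exact ⟨Or.inr (Or.inl h), h ▸ h2fun⟩
      · exact ⟨Or.inr (Or.inr h), h ▸ h3fun⟩
  have hprodeq : ∏ᶠ χ ∈ {χ : Cfsg.IrrCharacter G | χ ∈ X ∧ (χ : G → ℂ) ≠ fun _ => 1},
      Cfsg.charDegree (χ : G → ℂ) =
      Cfsg.charDegree (χ₂ : G → ℂ) * Cfsg.charDegree (χ₃ : G → ℂ) := by
    rw [hX'eq, finprod_mem_pair h23]
  have ha2 := (hX χ₂ hχ₂X).1
  have ha3 := (hX χ₃ hχ₃X).1
  have hcountset : {χ : Cfsg.IrrCharacter G | χ ∈ X ∧ (χ : G → ℂ) ≠ (fun _ => 1) ∧ a χ = -1} =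
      ((if a χ₂ = -1 then {χ₂} else ∅) ∪ (if a χ₃ = -1 then {χ₃} else ∅) :
        Set (Cfsg.IrrCharacter G)) := by
    ext χ
    simp only [Set.mem_ofPred_eq, Set.mem_union]
    rw [hXiff]
    constructor
    · rintro ⟨h | h | h, hne, ha⟩
      · exact absurd (h ▸ hχ₁) hne
      · left
        subst h
        rw [if_pos ha]
        rfl
      · right
        subst h
        rw [if_pos ha]
        rfl
    · rintro (h | h)
      · split_ifs at h with h5
        · have : χ = χ₂ := h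
          subst this
          exact ⟨Or.inr (Or.inl rfl), h2fun, h5⟩
        · exact absurd h (Set.notMem_empty _)
      · split_ifs at h with h5
        · have : χ = χ₃ := h
          subst this
          exact ⟨Or.inr (Or.inr rfl), h3fun, h5⟩
        · exact absurd h (Set.notMem_empty _)
  have hprod : a χ₂ * a χ₃ * δ = -1 := by
    have hc : Nat.card {χ : Cfsg.IrrCharacter G // χ ∈ X ∧ (χ : G → ℂ) ≠ (fun _ => 1) ∧ a χ = -1} =
        Set.ncard {χ : Cfsg.IrrCharacter G | χ ∈ X ∧ (χ : G → ℂ) ≠ (fun _ => 1) ∧ a χ = -1} :=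
      Nat.card_coe_set_eq _
    rw [hc, hcountset] at hcount
    rcases ha2 with h2 | h2 <;> rcases ha3 with h3 | h3 <;> rcases hδ with h4 | h4 <;>
      rw [h2, h3, h4] <;> rw [h2, h3, h4] at hcount <;>
      first
      | (norm_num; done)
      | (exfalso; norm_num at hcount; done)
      | (exfalso; norm_num [Set.union_singleton, Set.ncard_pair h23.symm] at hcount; done)
  have hP16' : (16 : ℤ) ∣ (Nat.card (P : Subgroup G) : ℤ) := by exact_mod_cast h16
  have hpart : ∀ y : G, y ∈ (P : Subgroup G) → Cfsg.IsPPart 2 y y :=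
    fun y hy => pc_isPPart_self 2 y (af_order_pow P hy)
  have hd2 : (16 : ℤ) ∣ (Cfsg.charDegree (χ₂ : G → ℂ) : ℤ) - a χ₂ :=
    hP16'.trans (hc_deg_X χ₂ (P : Subgroup G) (a χ₂)
      (fun y hy hy1 => (hX χ₂ hχ₂X).2 y y (hpart y hy) hy hy1))
  have hd3 : (16 : ℤ) ∣ (Cfsg.charDegree (χ₃ : G → ℂ) : ℤ) - a χ₃ :=
    hP16'.trans (hc_deg_X χ₃ (P : Subgroup G) (a χ₃)
      (fun y hy hy1 => (hX χ₃ hχ₃X).2 y y (hpart y hy) hy hy1))
  obtain ⟨y₀, hy₀⟩ := Fintype.exists_ne_of_one_lt_card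
    (by rw [← Nat.card_eq_fintype_card]; omega : 1 < Fintype.card ↥(P : Subgroup G))
    (1 : ↥(P : Subgroup G))
  obtain ⟨ψ₀, hψ₀⟩ : ∃ ψ₀ : ↥(P : Subgroup G) →* ℂˣ, ψ₀ ≠ 1 := by
    obtain ⟨φ, -, hφ⟩ := Cfsg.Agent.Lib.Helper11.exists_linChar_ne_one hcomm ⊥ y₀
      (by rw [Subgroup.mem_bot]; exact hy₀)
    refine ⟨φ, ?_⟩
    intro h
    apply hφ
    rw [h]
    rfl
  set O : Finset (↥(P : Subgroup G) →* ℂˣ) :=
    Finset.univ.filter (fun ψ' : ↥(P : Subgroup G) →* ℂˣ => afRel (P : Subgroup G) ψ₀ ψ') with hOdef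
  have hOcard : O.card = 3 := af_orbit_card hsetup 3 hCN ψ₀ hψ₀
  have hOne : ∀ ψ ∈ O, ψ ≠ 1 := by
    intro ψ hψ h1
    rw [hOdef, Finset.mem_filter] at hψ
    obtain ⟨n, hn, hh⟩ := hψ.2
    apply hψ₀
    ext w
    have := hh w ⟨n * w * n⁻¹, ((Subgroup.mem_normalizer_iff.mp hn) w).mp w.2⟩ rfl
    rw [h1] at this
    rw [← this]
    rfl
  have hη : ζ ψ₀ ∈ Y := hζY ψ₀ hψ₀
  have hdy : (16 : ℤ) ∣ (Cfsg.charDegree (ζ ψ₀ : G → ℂ) : ℤ) - δ * 3 := by
    have h1 := hc_deg_Y (ζ ψ₀) (P : Subgroup G) δ O hOne (by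
      intro y hy1
      rw [hζval ψ₀ hψ₀ (y : G) y (hpart y y.2) hy1]
      congr 1
      rw [af_finsum_eq _ O]
      intro ψ'
      rw [hOdef, Finset.mem_filter]
      simp only [Finset.mem_univ, true_and]
      rfl)
    rw [hOcard] at h1
    exact hP16'.trans (by exact_mod_cast h1)
  have hsq0 := hsq (ζ ψ₀) hη
  rw [hprodeq] at hsq0
  exact hc_sq16 _ _ _ (a χ₂) (a χ₃) δ ha2 ha3 hδ hprod hd2 hd3 hdy hsq0

end Cfsg.Agent.Lib.Helper24
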