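import Mathlib
import Cfsg.Agent.Lib.Helper24.HC5
import Cfsg.Agent.Lib.Helper24.SelfCentCore
import Cfsg.Agent.Lib.Helper18.SylowIn

set_option autoImplicit false
set_option linter.style.haveILetI false
set_option linter.unusedSectionVars false
set_option linter.unusedVariables false
set_option maxHeartbeats 1600000

namespace Cfsg.Agent.Lib.Helper24

open Cfsg.Agent.Lib.Helper1 Cfsg.Agent.Lib.Helper18

theorem hc_core_bot {G : Type*} [Group G] [Finite G]
    (hO : ∀ N : Subgroup G, N.Normal → Odd (Nat.card N) → N = ⊥)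
    (K : Subgroup G) [hK : K.Normal] (T : Subgroup ↥K) (hTn : T.Normal) (hT : Odd (Nat.card T)) :
    T = ⊥ := by
  have hcop : (Nat.card T).Coprime 2 := by
    rw [Nat.coprime_two_right]
    exact hT
  have h1 : T ≤ Cfsg.pPrimeCore 2 ↥K := le_pPrimeCore hTn hcop
  have hchar := pPrimeCore_characteristic (G := ↥K) 2
  have hTn' : ((Cfsg.pPrimeCore 2 ↥K).map K.subtype).Normal :=
    ConjAct.normal_of_characteristic_of_normal
  have hodd : Odd (Nat.card ((Cfsg.pPrimeCore 2 ↥K).map K.subtype)) := by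
    rw [Subgroup.card_map_of_injective K.subtype_injective]
    have := pPrimeCore_card_coprime (G := ↥K) 2
    rwa [Nat.coprime_two_right] at this
  have h2 := hO _ hTn' hodd
  have h3 : Cfsg.pPrimeCore 2 ↥K = ⊥ := by
    rw [eq_bot_iff]
    intro y hy
    have : (K.subtype y) ∈ (Cfsg.pPrimeCore 2 ↥K).map K.subtype := ⟨y, hy, rfl⟩
    rw [h2, Subgroup.mem_bot] at this
    rw [Subgroup.mem_bot]
    exact Subtype.ext this
  rw [h3] at h1
  exact le_bot_iff.mp h1

end Cfsg.Agent.Lib.Helper24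

namespace Cfsg.Agent.Lib.Helper24

open Cfsg.Agent.Lib.Helper1 Cfsg.Agent.Lib.Helper18

theorem hc_local_in {G : Type*} [Group G] [Finite G] (H Q : Subgroup G)
    (hS : IsSylowIn 2 Q H)
    (hab : ∀ x ∈ Q, ∀ y ∈ Q, x * y = y * x)
    (hΩ : Set.ncard {y : G | y ∈ Q ∧ y ^ 2 = 1} = 4) :
    (∃ T : Subgroup G, T ≤ H ∧ (∀ h ∈ H, ∀ t ∈ T, h * t * h⁻¹ ∈ T) ∧ Odd (Nat.card T) ∧
      Nat.card T * Nat.card Q = Nat.card H ∧ ∀ h ∈ H, h ^ Nat.card Q ∈ T) ∨
    (∃ g ∈ H, (∀ y ∈ Q, g * y * g⁻¹ ∈ Q) ∧ (∀ y ∈ Q, g ^ 3 * y * (g ^ 3)⁻¹ = y) ∧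
      (∀ y ∈ Q, y ≠ 1 → g * y * g⁻¹ ≠ y)) := by
  haveI : Fact (Nat.Prime 2) := ⟨Nat.prime_two⟩
  obtain ⟨S, hSeq⟩ := hS.exists_sylow
  have hQH := hS.le
  have hmemS : ∀ y : ↥H, y ∈ (S : Subgroup ↥H) ↔ (y : G) ∈ Q := by
    intro y
    rw [hSeq, Subgroup.mem_subgroupOf]
  have habS : ∀ x ∈ (S : Subgroup ↥H), ∀ y ∈ (S : Subgroup ↥H), x * y = y * x := by
    intro x hx y hy
    apply Subtype.ext
    exact hab x ((hmemS x).mp hx) y ((hmemS y).mp hy)
  have hΩS : Set.ncard {y : ↥H | y ∈ (S : Subgroup ↥H) ∧ y ^ 2 = 1} = 4 := by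
    rw [← hΩ, ← Set.ncard_image_of_injective _ H.subtype_injective]
    congr 1
    ext y
    simp only [Set.mem_image, Set.mem_ofPred_eq]
    constructor
    · rintro ⟨z, ⟨hz, hz2⟩, rfl⟩
      refine ⟨(hmemS z).mp hz, ?_⟩
      have := congrArg Subtype.val hz2
      simpa using this
    · rintro ⟨hy, hy2⟩
      refine ⟨⟨y, hQH hy⟩, ⟨(hmemS _).mpr hy, ?_⟩, rfl⟩
      apply Subtype.ext
      simpa using hy2
  have hcardS : Nat.card (S : Subgroup ↥H) = Nat.card Q := by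
    rw [hSeq]
    exact Nat.card_congr (Subgroup.subgroupOfEquivOfLe hQH).toEquiv
  obtain ⟨hr, hfpf, hcube⟩ := hc_sylow_local S habS hΩS
  rcases hr with hr | hr
  · left
    have hNC := Subgroup.relIndex_eq_one.mp hr
    obtain ⟨T, hTn, hTodd, hTcard⟩ := hc_npc S hNC
    haveI := hTn
    refine ⟨T.map H.subtype, ?_, ?_, ?_, ?_, ?_⟩
    · rintro _ ⟨y, _, rfl⟩
      exact y.2
    · rintro h hh _ ⟨y, hy, rfl⟩
      refine ⟨⟨h, hh⟩ * y * ⟨h, hh⟩⁻¹, hTn.conj_mem y hy ⟨h, hh⟩, ?_⟩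
      simp
    · rw [Subgroup.card_map_of_injective H.subtype_injective]
      exact hTodd
    · rw [Subgroup.card_map_of_injective H.subtype_injective, ← hcardS]
      exact hTcard
    · intro h hh
      have hidx : T.index = Nat.card Q := by
        have h1 := T.card_mul_index
        rw [← hTcard, hcardS] at h1
        exact Nat.eq_of_mul_eq_mul_left Nat.card_pos h1
      have h2 : (QuotientGroup.mk (⟨h, hh⟩ : ↥H) : ↥H ⧸ T) ^ (Nat.card Q) = 1 := by
        rw [← hidx]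
        unfold Subgroup.index
        exact pow_card_eq_one'
      rw [← QuotientGroup.mk_pow, QuotientGroup.eq_one_iff] at h2
      exact ⟨_, h2, by simp⟩
  · right
    have hne : ¬ Subgroup.normalizer ((S : Subgroup ↥H) : Set ↥H) ≤
        Subgroup.centralizer ((S : Subgroup ↥H) : Set ↥H) := by
      intro h
      rw [Subgroup.relIndex_eq_one.mpr h] at hr
      norm_num at hr
    obtain ⟨g, hgN, hgC⟩ := SetLike.not_le_iff_exists.mp hne
    refine ⟨(g : G), g.2, ?_, ?_, ?_⟩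
    · intro y hy
      have := hc_mem_norm (S : Subgroup ↥H) g hgN ⟨y, hQH hy⟩ ((hmemS _).mpr hy)
      exact (hmemS _).mp this
    · intro y hy
      have h3 := hcube hr g hgN
      have h4 := (hc_mem_cent_iff (S : Subgroup ↥H) _).mp h3 ⟨y, hQH hy⟩ ((hmemS _).mpr hy)
      have := congrArg Subtype.val h4
      simpa using this
    · intro y hy hy1 hfix
      apply hfpf g hgN hgC ⟨y, hQH hy⟩ ((hmemS _).mpr hy)
      · intro h
        apply hy1
        exact congrArg Subtype.val h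
      · apply Subtype.ext
        simpa using hfix

end Cfsg.Agent.Lib.Helper24
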