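import Mathlib
import Cfsg.Agent.Lib.Helper24.HC8

set_option autoImplicit false
set_option linter.style.haveILetI false
set_option linter.unusedSectionVars false
set_option linter.unusedVariables false
set_option maxHeartbeats 1600000

namespace Cfsg.Agent.Lib.Helper24

open Cfsg.Agent.Lib.Helper1 Cfsg.Agent.Lib.Helper18

theorem hc_complement_bot {G : Type*} [Group G] [Finite G]
    (hO : ∀ N : Subgroup G, N.Normal → Odd (Nat.card N) → N = ⊥)
    (K : Subgroup G) [hK : K.Normal] (T : Subgroup G) (hTK : T ≤ K)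
    (hTn : ∀ h ∈ K, ∀ t ∈ T, h * t * h⁻¹ ∈ T) (hT : Odd (Nat.card T)) : T = ⊥ := by
  have hn : (T.subgroupOf K).Normal := by
    constructor
    intro t ht k
    rw [Subgroup.mem_subgroupOf] at ht ⊢
    simpa using hTn k k.2 t ht
  have hodd : Odd (Nat.card (T.subgroupOf K)) := by
    rw [Nat.card_congr (Subgroup.subgroupOfEquivOfLe hTK).toEquiv]
    exact hT
  have h := hc_core_bot hO K (T.subgroupOf K) hn hodd
  rw [eq_bot_iff]
  intro t ht
  have : (⟨t, hTK ht⟩ : ↥K) ∈ T.subgroupOf K := by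
    rw [Subgroup.mem_subgroupOf]
    exact ht
  rw [h, Subgroup.mem_bot] at this
  rw [Subgroup.mem_bot]
  exact congrArg Subtype.val this

theorem hc_finish {G : Type*} [Group G] [Finite G] (P : Sylow 2 G)
    (hab : ∀ x ∈ (P : Subgroup G), ∀ y ∈ (P : Subgroup G), x * y = y * x)
    (hΩ : Set.ncard {y : G | y ∈ (P : Subgroup G) ∧ y ^ 2 = 1} = 4)
    (hO : ∀ N : Subgroup G, N.Normal → Odd (Nat.card N) → N = ⊥)
    (hPn : (P : Subgroup G).Normal) :
    Subgroup.centralizer ((P : Subgroup G) : Set G) = (P : Subgroup G) ∧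
      ((P : Subgroup G).index = 1 ∨ (P : Subgroup G).index = 3) := by
  haveI : Fact (Nat.Prime 2) := ⟨Nat.prime_two⟩
  haveI := hPn
  have hPC : (P : Subgroup G) ≤ Subgroup.centralizer ((P : Subgroup G) : Set G) := by
    intro x hx
    rw [Subgroup.mem_centralizer_iff]
    intro y hy
    exact hab y hy x hx
  have hCP : Subgroup.centralizer ((P : Subgroup G) : Set G) = (P : Subgroup G) := by
    have hS := isSylowIn_of_sylow_le P hPC
    rcases hc_local_in _ _ hS hab hΩ with ⟨T, hTC, hTn, hTodd, hTcard, -⟩ | ⟨g, hgC, -, -, hfpf⟩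
    · have hTbot := hc_complement_bot hO _ T hTC hTn hTodd
      rw [hTbot, Subgroup.card_bot, one_mul] at hTcard
      exact (Subgroup.eq_of_le_of_card_ge hPC (le_of_eq hTcard.symm)).symm
    · exfalso
      obtain ⟨t, ht, ht1, -⟩ := hc_exists_invol (P : Subgroup G) hΩ
      exact hfpf t ht ht1 ((hc_mem_cent_iff _ g).mp hgC t ht)
  refine ⟨hCP, ?_⟩
  have h1 := (hc_sylow_local P hab hΩ).1
  rw [Subgroup.normalizer_eq_top, Subgroup.relIndex_top_right, hCP] at h1
  exact h1

end Cfsg.Agent.Lib.Helper24
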