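import Mathlib
import Cfsg.Agent.Lib.Helper24.HC9
import Cfsg.Agent.Lib.Helper24.HC7

set_option autoImplicit false
set_option linter.style.haveILetI false
set_option linter.unusedSectionVars false
set_option linter.unusedVariables false
set_option maxHeartbeats 1600000

namespace Cfsg.Agent.Lib.Helper24

open Cfsg.Agent.Lib.Helper1 Cfsg.Agent.Lib.Helper18

theorem hc_sup_zpowers {G : Type*} [Group G] (K : Subgroup G) [hK : K.Normal] (x : G)
    (hx2 : x ^ 2 ∈ K) : ∀ b ∈ K ⊔ Subgroup.zpowers x, b ∈ K ∨ b * x ∈ K := by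
  have hxx : x * x ∈ K := by rw [← pow_two]; exact hx2
  let M : Subgroup G :=
    { carrier := {b | b ∈ K ∨ b * x ∈ K}
      one_mem' := Or.inl K.one_mem
      mul_mem' := by
        rintro b c (hb | hb) (hc | hc)
        · exact Or.inl (K.mul_mem hb hc)
        · right
          rw [mul_assoc]
          exact K.mul_mem hb hc
        · right
          have : b * c * x = (b * x) * (x⁻¹ * c * x⁻¹⁻¹) := by group
          rw [this]
          exact K.mul_mem hb (hK.conj_mem c hc x⁻¹)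
        · left
          have : b * c = (b * x) * (x⁻¹ * (c * x) * x⁻¹⁻¹) * (x * x)⁻¹ := by group
          rw [this]
          exact K.mul_mem (K.mul_mem hb (hK.conj_mem _ hc x⁻¹)) (K.inv_mem hxx)
      inv_mem' := by
        rintro b (hb | hb)
        · exact Or.inl (K.inv_mem hb)
        · right
          have : b⁻¹ * x = x * (b * x)⁻¹ * x⁻¹ * (x * x) := by group
          rw [this]
          exact K.mul_mem (hK.conj_mem _ (K.inv_mem hb) x) hxx }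
  have hKM : K ≤ M := fun b hb => Or.inl hb
  have hxM : Subgroup.zpowers x ≤ M := by
    rw [Subgroup.zpowers_le]
    exact Or.inr hxx
  intro b hb
  exact (sup_le hKM hxM) hb

theorem hc_exists_sq_mem {G : Type*} [Group G] (K P : Subgroup G)
    (h2 : ∀ y ∈ P, ∃ r : ℕ, orderOf y = 2 ^ r) (hPK : ¬ P ≤ K) :
    ∃ x ∈ P, x ∉ K ∧ x ^ 2 ∈ K := by
  classical
  obtain ⟨y, hyP, hyK⟩ := SetLike.not_le_iff_exists.mp hPK
  obtain ⟨r, hr⟩ := h2 y hyP
  have hex : ∃ j : ℕ, y ^ 2 ^ j ∈ K := ⟨r, by rw [← hr, pow_orderOf_eq_one]; exact K.one_mem⟩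
  have hj0 : Nat.find hex ≠ 0 := by
    intro h
    have := Nat.find_spec hex
    rw [h, pow_zero, pow_one] at this
    exact hyK this
  obtain ⟨j, hj⟩ := Nat.exists_eq_succ_of_ne_zero hj0
  refine ⟨y ^ 2 ^ j, P.pow_mem hyP _, ?_, ?_⟩
  · apply Nat.find_min hex
    rw [hj]
    exact Nat.lt_succ_self j
  · have := Nat.find_spec hex
    rw [hj, pow_succ, pow_mul] at this
    exact this

end Cfsg.Agent.Lib.Helper24

namespace Cfsg.Agent.Lib.Helper24

open Cfsg.Agent.Lib.Helper1 Cfsg.Agent.Lib.Helper18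

theorem hc_D3 {G : Type*} [Group G] [Finite G] (P : Sylow 2 G)
    (hab : ∀ x ∈ (P : Subgroup G), ∀ y ∈ (P : Subgroup G), x * y = y * x)
    (hΩ : Set.ncard {y : G | y ∈ (P : Subgroup G) ∧ y ^ 2 = 1} = 4)
    (hO : ∀ N : Subgroup G, N.Normal → Odd (Nat.card N) → N = ⊥)
    (K : Subgroup G) [hK : K.Normal]
    (hΩK : ∀ y ∈ (P : Subgroup G), y ^ 2 = 1 → y ∈ K) (hPK : ¬ (P : Subgroup G) ≤ K)
    (g : G) (hgP : ∀ y ∈ (P : Subgroup G), g * y * g⁻¹ ∈ (P : Subgroup G))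
    (hg3 : ∀ y ∈ (P : Subgroup G), g ^ 3 * y * (g ^ 3)⁻¹ = y)
    (hfpf : ∀ y ∈ (P : Subgroup G), y ≠ 1 → g * y * g⁻¹ ≠ y) : K ≤ (P : Subgroup G) := by
  haveI : Fact (Nat.Prime 2) := ⟨Nat.prime_two⟩
  have h2 : ∀ y ∈ (P : Subgroup G), ∃ r : ℕ, orderOf y = 2 ^ r := by
    intro y hy
    obtain ⟨r, hr⟩ := (IsPGroup.iff_orderOf.mp P.2) ⟨y, hy⟩
    exact ⟨r, by rw [← hr, Subgroup.orderOf_mk]⟩
  obtain ⟨x, hxP, hxK, hx2⟩ := hc_exists_sq_mem K (P : Subgroup G) h2 hPK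
  obtain ⟨L, hL⟩ : ∃ L : Subgroup G, L = K ⊔ Subgroup.zpowers x := ⟨_, rfl⟩
  have hKL : K ≤ L := by rw [hL]; exact le_sup_left
  have hxL : x ∈ L := by
    rw [hL]
    exact (le_sup_right : Subgroup.zpowers x ≤ K ⊔ Subgroup.zpowers x) (Subgroup.mem_zpowers x)
  have hnormK : (⊤ : Subgroup G) ≤ Subgroup.normalizer (K : Set G) := by
    rw [Subgroup.normalizer_eq_top]
  have hLsup : L ≤ ((P : Subgroup G) ⊓ L) ⊔ K := by
    rw [hL]
    apply sup_le le_sup_right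
    rw [Subgroup.zpowers_le, ← hL]
    exact (le_sup_left : (P : Subgroup G) ⊓ L ≤ ((P : Subgroup G) ⊓ L) ⊔ K) ⟨hxP, hxL⟩
  have hSL : IsSylowIn 2 ((P : Subgroup G) ⊓ L) L :=
    IsSylowIn.inf_of_le_sup (p := 2) (P := (P : Subgroup G)) (K := ⊤) (N := K) (L := L)
      (isSylowIn_top_of_sylow P) hKL le_top hnormK hLsup
  have habL : ∀ a ∈ (P : Subgroup G) ⊓ L, ∀ b ∈ (P : Subgroup G) ⊓ L, a * b = b * a :=
    fun a ha b hb => hab a ha.1 b hb.1
  have hΩL : Set.ncard {y : G | y ∈ (P : Subgroup G) ⊓ L ∧ y ^ 2 = 1} = 4 := by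
    rw [← hΩ]
    congr 1
    ext y
    simp only [Set.mem_ofPred_eq]
    constructor
    · rintro ⟨hy, hy2⟩
      exact ⟨hy.1, hy2⟩
    · rintro ⟨hy, hy2⟩
      exact ⟨⟨hy, hKL (hΩK y hy hy2)⟩, hy2⟩
  have hmodK : Nat.card ((P : Subgroup G) ⊓ K : Subgroup G) ≡ 1 [MOD 3] := by
    apply hc_card_mod3 _ g
    · intro y hy
      exact ⟨hgP y hy.1, hK.conj_mem y hy.2 g⟩
    · intro y hy
      exact hg3 y hy.1
    · intro y hy
      exact hfpf y hy.1
  have hidx : ((P : Subgroup G) ⊓ K).relIndex ((P : Subgroup G) ⊓ L) = 2 := by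
    rw [Subgroup.relIndex_eq_two_iff_exists_notMem_and]
    refine ⟨x, ⟨hxP, hxL⟩, fun h => hxK h.2, ?_⟩
    intro b hb
    rcases hc_sup_zpowers K x hx2 b (hL ▸ hb.2) with h | h
    · exact Or.inr ⟨hb.1, h⟩
    · exact Or.inl ⟨(P : Subgroup G).mul_mem hb.1 hxP, h⟩
  have hcardL : Nat.card ((P : Subgroup G) ⊓ L : Subgroup G) =
      Nat.card ((P : Subgroup G) ⊓ K : Subgroup G) * 2 := by
    have := Subgroup.relIndex_mul_relIndex ⊥ ((P : Subgroup G) ⊓ K) ((P : Subgroup G) ⊓ L)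
      bot_le (inf_le_inf_left _ hKL)
    rw [Subgroup.relIndex_bot_left, Subgroup.relIndex_bot_left, hidx] at this
    exact this.symm
  rcases hc_local_in L _ hSL habL hΩL with
    ⟨T, hTL, hTn, hTodd, hTcard, hTpow⟩ | ⟨g', hg'L, hg'n, hg'3, hg'f⟩
  · have hTK : T ⊓ K = ⊥ := by
      apply hc_complement_bot hO K (T ⊓ K) inf_le_right
      · intro h hh t ht
        exact ⟨hTn h (hKL hh) t ht.1, hK.conj_mem t ht.2 h⟩
      · exact Odd.of_dvd_nat hTodd (Subgroup.card_dvd_of_le inf_le_left)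
    obtain ⟨s, hs⟩ := (IsPGroup.iff_card.mp hSL.isPGroup)
    have hKp : IsPGroup 2 K := by
      intro k
      refine ⟨s, ?_⟩
      have h1 := hTpow (k : G) (hKL k.2)
      rw [hs] at h1
      have h3 : (k : G) ^ 2 ^ s ∈ T ⊓ K := ⟨h1, K.pow_mem k.2 _⟩
      rw [hTK, Subgroup.mem_bot] at h3
      apply Subtype.ext
      simpa using h3
    exact hKp.le_sylow_of_normal P
  · exfalso
    have hmodL : Nat.card ((P : Subgroup G) ⊓ L : Subgroup G) ≡ 1 [MOD 3] :=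
      hc_card_mod3 _ g' hg'n hg'3 hg'f
    rw [hcardL] at hmodL
    have h5 : Nat.card ((P : Subgroup G) ⊓ K : Subgroup G) * 2 ≡ 1 * 2 [MOD 3] :=
      Nat.ModEq.mul_right 2 hmodK
    have h6 := h5.symm.trans hmodL
    exact absurd h6 (by decide)

end Cfsg.Agent.Lib.Helper24

namespace Cfsg.Agent.Lib.Helper24

open Cfsg.Agent.Lib.Helper1 Cfsg.Agent.Lib.Helper18

theorem hc_D4 {G : Type*} [Group G] [Finite G] (P : Sylow 2 G)
    (hab : ∀ x ∈ (P : Subgroup G), ∀ y ∈ (P : Subgroup G), x * y = y * x)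
    (hΩ : Set.ncard {y : G | y ∈ (P : Subgroup G) ∧ y ^ 2 = 1} = 4)
    (hO : ∀ N : Subgroup G, N.Normal → Odd (Nat.card N) → N = ⊥)
    (K : Subgroup G) [hK : K.Normal] (hKP : K ≤ (P : Subgroup G))
    (hΩK : ∀ y ∈ (P : Subgroup G), y ^ 2 = 1 → y ∈ K) : (P : Subgroup G).Normal := by
  haveI : Fact (Nat.Prime 2) := ⟨Nat.prime_two⟩
  have hinv : ∀ (h ω : G), ω ∈ {y : G | y ∈ (P : Subgroup G) ∧ y ^ 2 = 1} →
      h * ω * h⁻¹ ∈ {y : G | y ∈ (P : Subgroup G) ∧ y ^ 2 = 1} := by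
    rintro h ω ⟨hω, hω2⟩
    refine ⟨hKP (hK.conj_mem ω (hΩK ω hω hω2) h), ?_⟩
    rw [conj_pow, hω2]
    group
  obtain ⟨D, hD⟩ : ∃ D : Subgroup G,
    D = Subgroup.centralizer {y : G | y ∈ (P : Subgroup G) ∧ y ^ 2 = 1} := ⟨_, rfl⟩
  have hDn : D.Normal := by
    constructor
    intro d hd h
    rw [hD, Subgroup.mem_centralizer_iff] at hd ⊢
    intro ω hω
    have h1 := hd (h⁻¹ * ω * h⁻¹⁻¹) (hinv h⁻¹ ω hω)
    have e1 : ω * (h * d * h⁻¹) = h * ((h⁻¹ * ω * h⁻¹⁻¹) * d) * h⁻¹ := by group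
    have e2 : h * d * h⁻¹ * ω = h * (d * (h⁻¹ * ω * h⁻¹⁻¹)) * h⁻¹ := by group
    rw [e1, e2, h1]
  have hPD : (P : Subgroup G) ≤ D := by
    intro x hx
    rw [hD, Subgroup.mem_centralizer_iff]
    intro ω hω
    exact hab ω hω.1 x hx
  have hS := isSylowIn_of_sylow_le P hPD
  rcases hc_local_in D _ hS hab hΩ with ⟨T, hTD, hTn, hTodd, hTcard, -⟩ | ⟨g, hgD, -, -, hfpf⟩
  · haveI := hDn
    have hTbot := hc_complement_bot hO D T hTD hTn hTodd
    rw [hTbot, Subgroup.card_bot, one_mul] at hTcard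
    have hPeq : (P : Subgroup G) = D := Subgroup.eq_of_le_of_card_ge hPD (le_of_eq hTcard.symm)
    rw [hPeq]
    exact hDn
  · exfalso
    obtain ⟨t, ht, ht1, ht2⟩ := hc_exists_invol (P : Subgroup G) hΩ
    apply hfpf t ht ht1
    rw [hD, Subgroup.mem_centralizer_iff] at hgD
    have := hgD t ⟨ht, ht2⟩
    rw [mul_inv_eq_iff_eq_mul]
    exact this.symm

end Cfsg.Agent.Lib.Helper24
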