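import Mathlib
import Cfsg.Agent.Lib.Helper24.HC10

set_option autoImplicit false
set_option linter.style.haveILetI false
set_option linter.unusedSectionVars false
set_option linter.unusedVariables false
set_option maxHeartbeats 1600000

universe u

namespace Cfsg.Agent.Lib.Helper24

open Cfsg.Agent.Lib.Helper1 Cfsg.Agent.Lib.Helper18

theorem hc_abstract : ∀ (n : ℕ) (G : Type u) [Group G] [Finite G], Nat.card G = n →
    ∀ (P : Sylow 2 G),
    (∀ x ∈ (P : Subgroup G), ∀ y ∈ (P : Subgroup G), x * y = y * x) →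
    Set.ncard {y : G | y ∈ (P : Subgroup G) ∧ y ^ 2 = 1} = 4 →
    16 ∣ Nat.card (P : Subgroup G) →
    (∀ N : Subgroup G, N.Normal → Odd (Nat.card N) → N = ⊥) →
    (P : Subgroup G).Normal := by
  intro n
  induction n using Nat.strong_induction_on with
  | _ n ih =>
  intro G _ _ hn P hab hΩ h16 hO
  haveI : Fact (Nat.Prime 2) := ⟨Nat.prime_two⟩
  obtain ⟨hr, hfpf, hcube⟩ := hc_sylow_local P hab hΩ
  rcases hr with hr | hr
  · have hNC := Subgroup.relIndex_eq_one.mp hr
    obtain ⟨T, hTn, hTodd, hTcard⟩ := hc_npc P hNC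
    have hT := hO T hTn hTodd
    rw [hT, Subgroup.card_bot, one_mul] at hTcard
    have hPtop : (P : Subgroup G) = ⊤ := Subgroup.eq_top_of_card_eq _ hTcard
    rw [hPtop]
    infer_instance
  · obtain ⟨t, ht, ht1, ht2⟩ := hc_exists_invol (P : Subgroup G) hΩ
    have hto : orderOf t = 2 := orderOf_eq_prime ht2 ht1
    obtain ⟨K, hKn, htK, hKtop⟩ := hc_no_isolated P hab h16 hr hfpf t hto
    haveI := hKn
    have hne : ¬ Subgroup.normalizer ((P : Subgroup G) : Set G) ≤
        Subgroup.centralizer ((P : Subgroup G) : Set G) := by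
      intro h
      rw [Subgroup.relIndex_eq_one.mpr h] at hr
      norm_num at hr
    obtain ⟨g, hgN, hgC⟩ := SetLike.not_le_iff_exists.mp hne
    have hgP : ∀ y ∈ (P : Subgroup G), g * y * g⁻¹ ∈ (P : Subgroup G) := hc_mem_norm _ g hgN
    have hg3 : ∀ y ∈ (P : Subgroup G), g ^ 3 * y * (g ^ 3)⁻¹ = y :=
      (hc_mem_cent_iff _ _).mp (hcube hr g hgN)
    have hgf := hfpf g hgN hgC
    have hΩK : ∀ y ∈ (P : Subgroup G), y ^ 2 = 1 → y ∈ K := by
      have ht'P := hgP t ht
      have ht'1 : g * t * g⁻¹ ≠ 1 := by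
        intro h
        apply ht1
        have : t = g⁻¹ * (g * t * g⁻¹) * g := by group
        rw [this, h]
        group
      have ht'2 : (g * t * g⁻¹) ^ 2 = 1 := by
        rw [conj_pow, ht2]
        group
      have hne' : t ≠ g * t * g⁻¹ := fun h => hgf t ht ht1 h.symm
      have hom := hc_omega_eq (P : Subgroup G) hΩ t (g * t * g⁻¹) ht ht'P ht1 ht'1 hne' ht2 ht'2
        (hab _ ht _ ht'P)
      intro y hy hy2
      have ht'K : g * t * g⁻¹ ∈ K := hKn.conj_mem t htK g
      rcases hom y hy hy2 with h | h | h | h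
      · rw [h]; exact K.one_mem
      · rw [h]; exact htK
      · rw [h]; exact ht'K
      · rw [h]; exact K.mul_mem htK ht'K
    by_cases hPK : (P : Subgroup G) ≤ K
    · have hlt : Nat.card K < n := by
        rw [← hn]
        apply lt_of_le_of_ne (Subgroup.card_le_card_group K)
        intro h
        exact hKtop (Subgroup.eq_top_of_card_eq K h)
      have hcoe : ((P.subtype hPK : Sylow 2 ↥K) : Subgroup ↥K) = (P : Subgroup G).subgroupOf K :=
        Sylow.coe_subtype P hPK
      have hmem : ∀ y : ↥K, y ∈ ((P.subtype hPK : Sylow 2 ↥K) : Subgroup ↥K) ↔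
          (y : G) ∈ (P : Subgroup G) := by
        intro y
        rw [hcoe, Subgroup.mem_subgroupOf]
      have hab' : ∀ a ∈ ((P.subtype hPK : Sylow 2 ↥K) : Subgroup ↥K),
          ∀ b ∈ ((P.subtype hPK : Sylow 2 ↥K) : Subgroup ↥K), a * b = b * a := by
        intro a ha b hb
        apply Subtype.ext
        exact hab a ((hmem a).mp ha) b ((hmem b).mp hb)
      have hΩ' : Set.ncard {y : ↥K | y ∈ ((P.subtype hPK : Sylow 2 ↥K) : Subgroup ↥K) ∧
          y ^ 2 = 1} = 4 := by
        rw [← hΩ, ← Set.ncard_image_of_injective _ K.subtype_injective]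
        congr 1
        ext y
        simp only [Set.mem_image, Set.mem_ofPred_eq]
        constructor
        · rintro ⟨z, ⟨hz, hz2⟩, rfl⟩
          refine ⟨(hmem z).mp hz, ?_⟩
          have := congrArg Subtype.val hz2
          simpa using this
        · rintro ⟨hy, hy2⟩
          refine ⟨⟨y, hPK hy⟩, ⟨(hmem _).mpr hy, ?_⟩, rfl⟩
          apply Subtype.ext
          simpa using hy2
      have h16' : 16 ∣ Nat.card ((P.subtype hPK : Sylow 2 ↥K) : Subgroup ↥K) := by
        rw [hcoe, Nat.card_congr (Subgroup.subgroupOfEquivOfLe hPK).toEquiv]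
        exact h16
      have hO' : ∀ N : Subgroup ↥K, N.Normal → Odd (Nat.card N) → N = ⊥ :=
        fun N hNn hNodd => hc_core_bot hO K N hNn hNodd
      have hnorm' := ih (Nat.card K) hlt ↥K rfl (P.subtype hPK) hab' hΩ' h16' hO'
      have hchar := Sylow.characteristic_of_normal (P.subtype hPK) hnorm'
      have hmapn : (((P.subtype hPK : Sylow 2 ↥K) : Subgroup ↥K).map K.subtype).Normal :=
        ConjAct.normal_of_characteristic_of_normal
      rw [hcoe, Subgroup.map_subgroupOf_eq_of_le hPK] at hmapn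
      exact hmapn
    · have hKP := hc_D3 P hab hΩ hO K hΩK hPK g hgP hg3 hgf
      exact hc_D4 P hab hΩ hO K hKP hΩK

end Cfsg.Agent.Lib.Helper24
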