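import Mathlib
import Cfsg.Agent.Lib.Helper24.HC11

set_option autoImplicit false
set_option linter.style.haveILetI false
set_option linter.unusedSectionVars false
set_option linter.unusedVariables false
set_option maxHeartbeats 1600000

universe u

namespace Cfsg.Agent.Lib.Helper24

theorem hc_model_comm {G : Type*} [Group G] (P : Subgroup G) (n : ℕ)
    (e : P ≃* Multiplicative (ZMod n × ZMod n)) :
    ∀ x ∈ P, ∀ y ∈ P, x * y = y * x := by
  intro x hx y hy
  have h : (⟨x, hx⟩ : P) * ⟨y, hy⟩ = ⟨y, hy⟩ * ⟨x, hx⟩ := by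
    apply e.injective
    rw [map_mul, map_mul, mul_comm]
  exact congrArg Subtype.val h

theorem hc_zmod_two_tors (m : ℕ) (hm : 1 ≤ m) :
    {a : ZMod (2 ^ m) | a + a = 0} = {0, ((2 ^ (m - 1) : ℕ) : ZMod (2 ^ m))} ∧
      (0 : ZMod (2 ^ m)) ≠ ((2 ^ (m - 1) : ℕ) : ZMod (2 ^ m)) := by
  haveI : NeZero (2 ^ m) := ⟨by positivity⟩
  have hN : 2 ^ m = 2 * 2 ^ (m - 1) := by
    rw [← pow_succ']
    congr 1
    omega
  have hMpos : 0 < 2 ^ (m - 1) := by positivity
  refine ⟨?_, ?_⟩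
  · ext a
    simp only [Set.mem_ofPred_eq, Set.mem_insert_iff, Set.mem_singleton_iff]
    constructor
    · intro h
      have ha : ((a.val : ℕ) : ZMod (2 ^ m)) = a := ZMod.natCast_zmod_val a
      have h2 : ((2 * a.val : ℕ) : ZMod (2 ^ m)) = 0 := by
        rw [two_mul, Nat.cast_add, ha]
        exact h
      rw [ZMod.natCast_eq_zero_iff] at h2
      have hlt : a.val < 2 ^ m := ZMod.val_lt a
      have h2' : 2 * 2 ^ (m - 1) ∣ 2 * a.val := hN ▸ h2
      have hlt' : a.val < 2 * 2 ^ (m - 1) := lt_of_lt_of_eq hlt hN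
      have h3 : 2 ^ (m - 1) ∣ a.val := (Nat.mul_dvd_mul_iff_left (by norm_num)).mp h2'
      obtain ⟨k, hk⟩ := h3
      have hk2 : k < 2 := by
        by_contra hcon
        push Not at hcon
        have : 2 ^ (m - 1) * 2 ≤ 2 ^ (m - 1) * k := Nat.mul_le_mul_left _ hcon
        omega
      interval_cases k
      · left
        rw [← ha, hk]
        simp
      · right
        rw [← ha, hk]
        simp
    · rintro (h | h)
      · rw [h]
        simp
      · rw [h, ← Nat.cast_add, ← two_mul, ← hN]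
        simp
  · intro h
    have h' := h.symm
    rw [ZMod.natCast_eq_zero_iff] at h'
    have := Nat.le_of_dvd hMpos h'
    omega

theorem hc_model_ncard {G : Type*} [Group G] (P : Subgroup G) (m : ℕ) (hm : 1 ≤ m)
    (e : P ≃* Multiplicative (ZMod (2 ^ m) × ZMod (2 ^ m))) :
    Set.ncard {y : G | y ∈ P ∧ y ^ 2 = 1} = 4 := by
  obtain ⟨hA, hne⟩ := hc_zmod_two_tors m hm
  have hAcard : Set.ncard {a : ZMod (2 ^ m) | a + a = 0} = 2 := by
    rw [hA]
    exact Set.ncard_pair hne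
  have hW : {w : ZMod (2 ^ m) × ZMod (2 ^ m) | w + w = 0} =
      {a : ZMod (2 ^ m) | a + a = 0} ×ˢ {a : ZMod (2 ^ m) | a + a = 0} := by
    ext w
    simp only [Set.mem_ofPred_eq, Set.mem_prod, Prod.ext_iff, Prod.fst_add, Prod.snd_add,
      Prod.fst_zero, Prod.snd_zero]
  have hWcard : Set.ncard {w : ZMod (2 ^ m) × ZMod (2 ^ m) | w + w = 0} = 4 := by
    rw [hW, Set.ncard_prod, hAcard]
  obtain ⟨f, hf⟩ : ∃ f : ZMod (2 ^ m) × ZMod (2 ^ m) → G,
      f = fun w => ((e.symm (Multiplicative.ofAdd w) : P) : G) := ⟨_, rfl⟩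
  have hfinj : Function.Injective f := by
    intro a b hab
    rw [hf] at hab
    have h1 := Subtype.ext hab
    have h2 := e.symm.injective h1
    exact Multiplicative.ofAdd.injective h2
  have hS : {y : G | y ∈ P ∧ y ^ 2 = 1} =
      f '' {w : ZMod (2 ^ m) × ZMod (2 ^ m) | w + w = 0} := by
    ext y
    simp only [Set.mem_ofPred_eq, Set.mem_image]
    constructor
    · rintro ⟨hy, hy2⟩
      refine ⟨Multiplicative.toAdd (e ⟨y, hy⟩), ?_, ?_⟩
      · have h1 : (⟨y, hy⟩ : P) ^ 2 = 1 := Subtype.ext (by simpa using hy2)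
        have h2 : e ⟨y, hy⟩ * e ⟨y, hy⟩ = 1 := by
          rw [← map_mul, ← pow_two, h1, map_one]
        have h3 := congrArg Multiplicative.toAdd h2
        rwa [toAdd_mul, toAdd_one] at h3
      · rw [hf]
        simp
    · rintro ⟨w, hw, rfl⟩
      rw [hf]
      refine ⟨(e.symm (Multiplicative.ofAdd w)).2, ?_⟩
      have h1 : (e.symm (Multiplicative.ofAdd w)) ^ 2 = 1 := by
        rw [← map_pow, pow_two, ← ofAdd_add, hw, ofAdd_zero, map_one]
      have := congrArg Subtype.val h1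
      simpa using this
  rw [hS, Set.ncard_image_of_injective _ hfinj, hWcard]

theorem hc_model_card {G : Type*} [Group G] (P : Subgroup G) (m : ℕ) (hm : 2 ≤ m)
    (e : P ≃* Multiplicative (ZMod (2 ^ m) × ZMod (2 ^ m))) :
    16 ∣ Nat.card P := by
  have h1 : Nat.card P = 2 ^ m * 2 ^ m := by
    rw [Nat.card_congr e.toEquiv]
    change Nat.card (ZMod (2 ^ m) × ZMod (2 ^ m)) = _
    rw [Nat.card_prod, Nat.card_zmod]
  rw [h1]
  obtain ⟨k, rfl⟩ : ∃ k, m = 2 + k := ⟨m - 2, by omega⟩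
  rw [pow_add]
  exact ⟨2 ^ k * 2 ^ k, by ring⟩

end Cfsg.Agent.Lib.Helper24
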