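import Cfsg.Agent.Lib.Helper24.INVGSTRUCT
import Cfsg.Prelude.Def_ChevF4
import Cfsg.Prelude.Def_ChevE6
import Cfsg.Prelude.Def_ChevE7
import Cfsg.Prelude.Def_ChevE8

set_option autoImplicit false

namespace Cfsg.Agent.Lib.helper14.INV

open Cfsg.Lie

set_option maxRecDepth 100000 in
theorem h24gsChk_F4 : h24gsChk chevF4 = true := by decide +kernel

set_option maxRecDepth 100000 in
theorem h24gsChk_E6 : h24gsChk chevE6 = true := by decide +kernel

set_option maxRecDepth 100000 in
theorem h24gsChk_E7 : h24gsChk chevE7 = true := by decide +kernel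

set_option maxRecDepth 100000 in
theorem h24gsChk_E8 : h24gsChk chevE8 = true := by decide +kernel

end Cfsg.Agent.Lib.helper14.INV
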