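import Mathlib
import Cfsg.Prelude.Def_ChevStructure
import Cfsg.Agent.Lib.helper14.INV.Defs
import Cfsg.Agent.Lib.helper8.ChevTits2

set_option autoImplicit false

namespace Cfsg.Agent.Lib.helper14.INV

open Cfsg.Lie Cfsg.Lie.ChevalleyDatum Cfsg.Agent.Lib.helper8 Cfsg.Agent.Lib.helper14

def h24gsC (D : ChevalleyDatum) (r k : ℕ) : ℤ := (D.coroot.getD r #[]).getD k 0

def h24gsChk (D : ChevalleyDatum) : Bool :=
  ((List.range D.nroots).all fun r => (List.range D.rank).all fun i => (List.range D.rank).all fun k =>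
    decide (h24gsC D (D.reflectRoot i r) k = h24gsC D r k -
      (if k = i then ((List.range D.rank).map fun m => h24gsC D r m * D.cartan m (D.simple i)).sum
        else 0))) &&
  ((List.range D.rank).all fun i => (List.range D.rank).all fun k =>
    decide (h24gsC D (D.simple i) k = if k = i then 1 else 0)) &&
  ((List.range D.nroots).all fun r => (List.range D.rank).all fun k =>
    decide (h24gsC D (D.neg r) k = - h24gsC D r k)) &&
  ((List.range D.nroots).all fun r => decide (D.IsPosRoot r) || decide (D.IsNegRoot r)) &&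
  ((List.range D.rank).all fun i => decide (D.simple i < D.nroots)) &&
  ((List.range D.nroots).all fun r => decide (D.neg r < D.nroots))

theorem h24gs_list_sum (n : ℕ) (f : ℕ → ℤ) :
    ((List.range n).map f).sum = ∑ m : Fin n, f m := by
  induction n with
  | zero => simp
  | succ n ih =>
    rw [List.range_succ, List.map_append, List.sum_append, ih, Fin.sum_univ_castSucc]
    simp

theorem h24gsChk_spec {D : ChevalleyDatum} (h : h24gsChk D = true) :
    (∀ r < D.nroots, ∀ i < D.rank, ∀ k < D.rank,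
      h24gsC D (D.reflectRoot i r) k = h24gsC D r k -
        (if k = i then ∑ m : Fin D.rank, h24gsC D r m * D.cartan m (D.simple i) else 0)) ∧
    (∀ i < D.rank, ∀ k < D.rank, h24gsC D (D.simple i) k = if k = i then 1 else 0) ∧
    (∀ r < D.nroots, ∀ k < D.rank, h24gsC D (D.neg r) k = - h24gsC D r k) ∧
    (∀ r < D.nroots, D.IsPosRoot r ∨ D.IsNegRoot r) ∧
    (∀ i < D.rank, D.simple i < D.nroots) ∧
    (∀ r < D.nroots, D.neg r < D.nroots) := by
  unfold h24gsChk at h
  simp only [Bool.and_eq_true, List.all_eq_true, List.mem_range, decide_eq_true_eq,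
    Bool.or_eq_true] at h
  obtain ⟨⟨⟨⟨⟨h1, h2⟩, h3⟩, h4⟩, h5⟩, h6⟩ := h
  refine ⟨?_, h2, h3, h4, h5, h6⟩
  intro r hr i hi k hk
  rw [h1 r hr i hi k hk, h24gs_list_sum]

theorem h24gs_pos_coord {D : ChevalleyDatum} {r : ℕ} (h : D.IsPosRoot r) (k : ℕ) : 0 ≤ h24gsC D r k := by
  unfold h24gsC
  by_cases hk : k < (D.coroot.getD r #[]).size
  · rw [Array.getD_eq_getD_getElem?, Array.getElem?_eq_getElem hk, Option.getD_some]
    apply h.2
    exact Array.getElem_mem_toList hk
  · rw [Array.getD_eq_getD_getElem?, Array.getElem?_eq_none (by omega), Option.getD_none]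

theorem h24gs_neg_coord {D : ChevalleyDatum} {r : ℕ} (h : D.IsNegRoot r) (k : ℕ) : h24gsC D r k ≤ 0 := by
  unfold h24gsC
  by_cases hk : k < (D.coroot.getD r #[]).size
  · rw [Array.getD_eq_getD_getElem?, Array.getElem?_eq_getElem hk, Option.getD_some]
    apply h.2
    exact Array.getElem_mem_toList hk
  · rw [Array.getD_eq_getD_getElem?, Array.getElem?_eq_none (by omega), Option.getD_none]

def h24gsV (D : ChevalleyDatum) (r : ℕ) : Fin D.rank → ℤ := fun k => h24gsC D r k

noncomputable def h24gsPhi (D : ChevalleyDatum) (i : ℕ) : (Fin D.rank → ℤ) →ₗ[ℤ] ℤ :=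
  ∑ m : Fin D.rank, (D.cartan m (D.simple i)) • LinearMap.proj (R := ℤ) (φ := fun _ : Fin D.rank => ℤ) m

noncomputable def h24gsRefl (D : ChevalleyDatum) (i : ℕ) : (Fin D.rank → ℤ) →ₗ[ℤ] (Fin D.rank → ℤ) :=
  LinearMap.id - (h24gsPhi D i).smulRight (fun k : Fin D.rank => if (k : ℕ) = i then (1 : ℤ) else 0)

noncomputable def h24gsL (D : ChevalleyDatum) (w : List ℕ) : (Fin D.rank → ℤ) →ₗ[ℤ] (Fin D.rank → ℤ) :=
  w.foldr (fun i acc => (h24gsRefl D i).comp acc) LinearMap.id

theorem h24gsPhi_apply (D : ChevalleyDatum) (i : ℕ) (v : Fin D.rank → ℤ) :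
    h24gsPhi D i v = ∑ m : Fin D.rank, v m * D.cartan m (D.simple i) := by
  unfold h24gsPhi
  rw [LinearMap.sum_apply]
  apply Finset.sum_congr rfl
  intro m _
  rw [LinearMap.smul_apply, LinearMap.proj_apply, smul_eq_mul, mul_comm]

theorem h24gsRefl_spec {D : ChevalleyDatum} (h : h24gsChk D = true) (i : ℕ) (hi : i < D.rank) (r : ℕ)
    (hr : r < D.nroots) : h24gsV D (D.reflectRoot i r) = h24gsRefl D i (h24gsV D r) := by
  funext k
  unfold h24gsRefl
  rw [LinearMap.sub_apply, LinearMap.id_apply, LinearMap.smulRight_apply, Pi.sub_apply,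
    Pi.smul_apply, h24gsPhi_apply, smul_eq_mul]
  show h24gsC D (D.reflectRoot i r) k = h24gsC D r k - _
  rw [(h24gsChk_spec h).1 r hr i hi k k.2]
  by_cases hk : (k : ℕ) = i
  · rw [if_pos hk, if_pos hk, mul_one]
    rfl
  · rw [if_neg hk, if_neg hk, mul_zero]

theorem h24gsL_spec {D : ChevalleyDatum} (hA : H8ReflAll D) (h : h24gsChk D = true) (w : List ℕ)
    (hw : ∀ i ∈ w, i < D.rank) (r : ℕ) (hr : r < D.nroots) :
    h24gsV D (h8sW D w r) = h24gsL D w (h24gsV D r) := by
  induction w with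
  | nil => rfl
  | cons i w ih =>
    have hw' : ∀ j ∈ w, j < D.rank := fun j hj => hw j (List.mem_cons_of_mem _ hj)
    have h1 : h8sW D (i :: w) r = D.reflectRoot i (h8sW D w r) := rfl
    have h2 : h24gsL D (i :: w) = (h24gsRefl D i).comp (h24gsL D w) := rfl
    rw [h1, h2, LinearMap.comp_apply, ← ih hw',
      h24gsRefl_spec h i (hw i List.mem_cons_self) _ (h8sW_lt D hA w hw' r hr)]

theorem h24gs_simple_vec {D : ChevalleyDatum} (h : h24gsChk D = true) (m : Fin D.rank) :
    h24gsV D (D.simple m) = fun j : Fin D.rank => if m = j then (1 : ℤ) else 0 := by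
  funext j
  show h24gsC D (D.simple m) j = _
  rw [(h24gsChk_spec h).2.1 m m.2 j j.2]
  by_cases hjm : (j : ℕ) = m
  · rw [if_pos hjm, if_pos (Fin.ext hjm.symm)]
  · rw [if_neg hjm, if_neg]
    intro e
    exact hjm (by rw [e])

theorem h24gs_linear {D : ChevalleyDatum} (hA : H8ReflAll D) (h : h24gsChk D = true) (w : List ℕ)
    (hw : ∀ i ∈ w, i < D.rank) (r : ℕ) (hr : r < D.nroots) (k : Fin D.rank) :
    h24gsC D (h8sW D w r) k = ∑ m : Fin D.rank, h24gsC D r m * h24gsC D (h8sW D w (D.simple m)) k := by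
  have hsimple_lt : ∀ m : Fin D.rank, D.simple m < D.nroots :=
    fun m => (h24gsChk_spec h).2.2.2.2.1 m m.2
  have e1 : h24gsV D (h8sW D w r) = h24gsL D w (h24gsV D r) := h24gsL_spec hA h w hw r hr
  rw [LinearMap.pi_apply_eq_sum_univ (h24gsL D w) (h24gsV D r)] at e1
  have e2 := congrFun e1 k
  rw [Finset.sum_apply] at e2
  show h24gsV D (h8sW D w r) k = _
  rw [e2]
  apply Finset.sum_congr rfl
  intro m _
  rw [Pi.smul_apply, smul_eq_mul, ← h24gs_simple_vec h m, ← h24gsL_spec hA h w hw _ (hsimple_lt m)]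
  rfl


theorem struct_generic (D : ChevalleyDatum) (hA : H8ReflAll D) (hchk : h24gsChk D = true)
    (w : List ℕ) (hw : ValidW D w) (hJ : JProp D w) :
    ∀ r, D.IsPosRoot r → D.IsPosRoot (h8sW D w r) → D.InRootSub (FixJ D w) r := by
  intro r hr hwr
  obtain ⟨-, h2, h3, h4, h5, h6⟩ := h24gsChk_spec hchk
  refine ⟨hr.1, ?_⟩
  intro i0 hi0 hi0J
  by_contra hne
  have hfix : h8sW D w (D.simple i0) ≠ D.simple i0 := fun e => hi0J ⟨hi0, e⟩
  have hpos0 : 0 < h24gsC D r i0 := lt_of_le_of_ne (h24gs_pos_coord hr i0) (Ne.symm hne)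
  have hcase : ∀ m : Fin D.rank, h8sW D w (D.simple m) = D.simple m ∨
      D.IsNegRoot (h8sW D w (D.simple m)) := by
    intro m
    rcases hJ.2 m m.2 with e | e
    · exact Or.inl e
    · right
      rcases h4 _ (h8sW_lt D hA w hw _ (h5 m m.2)) with hp | hn
      · exact absurd hp e
      · exact hn
  have hneg0 : D.IsNegRoot (h8sW D w (D.simple i0)) := by
    rcases hcase ⟨i0, hi0⟩ with e | e
    · exact absurd e hfix
    · exact e
  have hA1 : ∀ k : Fin D.rank, h8sW D w (D.simple k) ≠ D.simple k →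
      h24gsC D (h8sW D w (D.simple i0)) k = 0 := by
    intro k hk
    have hlin := h24gs_linear hA hchk w hw r hr.1 k
    have hterm : ∀ m ∈ (Finset.univ : Finset (Fin D.rank)),
        h24gsC D r m * h24gsC D (h8sW D w (D.simple m)) k ≤ 0 := by
      intro m _
      rcases hcase m with e | e
      · rw [e, h2 m m.2 k k.2]
        by_cases hkm : (k : ℕ) = m
        · exfalso
          apply hk
          have : k = m := Fin.ext hkm
          rw [this]
          exact e
        · rw [if_neg hkm, mul_zero]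
      · exact mul_nonpos_of_nonneg_of_nonpos (h24gs_pos_coord hr m) (h24gs_neg_coord e k)
    have hsum0 : ∑ m : Fin D.rank, h24gsC D r m * h24gsC D (h8sW D w (D.simple m)) k = 0 := by
      apply le_antisymm (Finset.sum_nonpos hterm)
      rw [← hlin]
      exact h24gs_pos_coord hwr k
    have hall := (Finset.sum_eq_zero_iff_of_nonpos hterm).mp hsum0 ⟨i0, hi0⟩ (Finset.mem_univ _)
    rcases mul_eq_zero.mp hall with e | e
    · exact absurd e (ne_of_gt hpos0)
    · exact e
  set β := D.neg (h8sW D w (D.simple i0)) with hβ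
  have hwi0 : h8sW D w (D.simple i0) < D.nroots := h8sW_lt D hA w hw _ (h5 i0 hi0)
  have hβlt : β < D.nroots := h6 _ hwi0
  have hwβ : h8sW D w β = D.neg (D.simple i0) := by
    have e1 := h8sW_neg D hA w hw _ hwi0
    rw [hJ.1 _ (h5 i0 hi0)] at e1
    exact e1
  have hlin := h24gs_linear hA hchk w hw β hβlt ⟨i0, hi0⟩
  rw [hwβ] at hlin
  have hL : h24gsC D (D.neg (D.simple i0)) i0 = -1 := by
    rw [h3 _ (h5 i0 hi0) i0 hi0, h2 i0 hi0 i0 hi0, if_pos rfl]
  have hR : ∑ m : Fin D.rank, h24gsC D β m * h24gsC D (h8sW D w (D.simple m)) i0 = 0 := by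
    apply Finset.sum_eq_zero
    intro m _
    rcases hcase m with e | e
    · rw [e, h2 m m.2 i0 hi0]
      by_cases him : i0 = (m : ℕ)
      · exfalso
        apply hfix
        rw [him]
        exact e
      · rw [if_neg him, mul_zero]
    · have hm : h8sW D w (D.simple m) ≠ D.simple m := by
        intro e'
        rw [e'] at e
        rcases h4 _ (h5 m m.2) with hp | hn
        · have hs := h2 m m.2 m m.2
          rw [if_pos rfl] at hs
          have := h24gs_neg_coord e m
          omega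
        · have hs := h2 m m.2 m m.2
          rw [if_pos rfl] at hs
          have := h24gs_neg_coord e m
          omega
      rw [hβ, h3 _ hwi0 m m.2, hA1 m hm, neg_zero, zero_mul]
  have hfin : (⟨i0, hi0⟩ : Fin D.rank).val = i0 := rfl
  rw [hR] at hlin
  have : h24gsC D (D.neg (D.simple i0)) i0 = 0 := hlin
  omega

end Cfsg.Agent.Lib.helper14.INV
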