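import Mathlib
import Cfsg.Agent.Lib.Helper24.BrauerFowler
import Cfsg.Agent.Lib.Helper24.BrauerFowler2

set_option autoImplicit false

namespace Cfsg.Agent.Lib.Helper24

open Equiv

set_option maxRecDepth 100000 in
theorem it_count_five : (Finset.univ.filter (fun σ : Perm (Fin 5) => Perm.sign σ = 1 ∧ σ ≠ 1 ∧ σ * σ = 1)).card = 15 := by
  decide

theorem it_toPerm_injective {G : Type*} [Group G] [IsSimpleGroup G] (H : Subgroup G) (hH : H ≠ ⊤) :
    Function.Injective (MulAction.toPermHom G (G ⧸ H)) := by
  rw [← MonoidHom.ker_eq_bot_iff, ← Subgroup.normalCore_eq_ker]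
  rcases (Subgroup.normalCore_normal H).eq_bot_or_eq_top with h | h
  · exact h
  · exfalso
    apply hH
    rw [eq_top_iff, ← h]
    exact Subgroup.normalCore_le H

theorem it_sign_trivial {G : Type*} [Group G] [Finite G] [IsSimpleGroup G] (hgt : 2 < Nat.card G)
    {α : Type*} [Fintype α] [DecidableEq α] (f : G →* Perm α) (g : G) : Perm.sign (f g) = 1 := by
  set ψ : G →* ℤˣ := Perm.sign.comp f with hψ
  rcases (MonoidHom.normal_ker ψ).eq_bot_or_eq_top with h | h
  · exfalso
    have hinj : Function.Injective ψ := (MonoidHom.ker_eq_bot_iff ψ).mp h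
    have h1 : Nat.card G ≤ Nat.card ℤˣ := Nat.card_le_card_of_injective ψ hinj
    have h2 : Nat.card ℤˣ = 2 := by
      rw [Nat.card_eq_fintype_card]
      exact Fintype.card_units_int
    omega
  · have : g ∈ ψ.ker := by
      rw [h]
      exact Subgroup.mem_top g
    exact this

theorem it_card_dvd_factorial {G : Type*} [Group G] [Finite G] [IsSimpleGroup G] (H : Subgroup G) (hH : H ≠ ⊤) :
    Nat.card G ∣ (H.index).factorial := by
  classical
  haveI : Fintype (G ⧸ H) := Fintype.ofFinite _
  have hinj := it_toPerm_injective H hH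
  have h1 : Nat.card G = Nat.card (MulAction.toPermHom G (G ⧸ H)).range :=
    Nat.card_congr (MonoidHom.ofInjective hinj).toEquiv
  have h2 : Nat.card (MulAction.toPermHom G (G ⧸ H)).range ∣ Nat.card (Perm (G ⧸ H)) :=
    Subgroup.card_subgroup_dvd_card _
  rw [h1]
  refine h2.trans ?_
  rw [Nat.card_eq_fintype_card, Fintype.card_perm, ← Nat.card_eq_fintype_card, ← Subgroup.index_eq_card]

theorem it_not_simple_of_sylow {G : Type*} [Group G] [Finite G] [IsSimpleGroup G] (p : ℕ) [Fact p.Prime]
    (hnd : ¬ Nat.card G ∣ (Nat.card G / p ^ (Nat.card G).factorization p).factorial)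
    (hnp : Nat.card G ≠ p ^ (Nat.card G).factorization p) : False := by
  obtain ⟨P⟩ := (inferInstance : Nonempty (Sylow p G))
  have hc : Nat.card P = p ^ (Nat.card G).factorization p := Sylow.card_eq_multiplicity P
  have hne : (P : Subgroup G) ≠ ⊤ := by
    intro h
    apply hnp
    rw [← hc, h, Subgroup.card_top]
  have h1 := it_card_dvd_factorial (P : Subgroup G) hne
  have h2 : (P : Subgroup G).index = Nat.card G / p ^ (Nat.card G).factorization p := by
    rw [← hc, ← Subgroup.card_mul_index (P : Subgroup G)]
    rw [Nat.mul_div_cancel_left _ Nat.card_pos]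
  rw [h2] at h1
  exact hnd h1

theorem it_fact (n p : ℕ) (hn : n ≠ 0) (hp : p.Prime) (a m : ℕ) (h : n = p ^ a * m) (hm : ¬ p ∣ m) :
    n.factorization p = a := by
  have hm0 : m ≠ 0 := by
    rintro rfl
    simp at hm
  rw [h, Nat.factorization_mul (pow_ne_zero _ hp.ne_zero) hm0, Nat.factorization_pow]
  simp [hp.factorization_self, Nat.factorization_eq_zero_of_not_dvd hm]

theorem it_card_sixty {G : Type*} [Group G] [Finite G] [IsSimpleGroup G] (heven : Even (Nat.card G))
    (hgt : 2 < Nat.card G) (hd : Nat.card G ∣ 60) : Nat.card G = 60 := by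
  haveI : Fact (Nat.Prime 2) := ⟨Nat.prime_two⟩
  haveI : Fact (Nat.Prime 3) := ⟨Nat.prime_three⟩
  haveI : Fact (Nat.Prime 5) := ⟨Nat.prime_five⟩
  have hle : Nat.card G ≤ 60 := Nat.le_of_dvd (by norm_num) hd
  have htwo : ∀ q : ℕ, Odd q → Nat.card G = 2 * q → False := by
    intro q hq hg
    obtain ⟨K, hK⟩ := bf_two_odd q hq hg
    have hKn : K.Normal := Subgroup.normal_of_index_eq_two hK
    rcases hKn.eq_bot_or_eq_top with h | h
    · rw [h, Subgroup.index_bot] at hK
      omega
    · rw [h, Subgroup.index_top] at hK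
      omega
  obtain ⟨k, hk⟩ := heven.two_dvd
  have hk30 : k ≤ 30 := by omega
  have hk2 : 2 ≤ k := by omega
  interval_cases k
  all_goals first
    | (exfalso; rw [hk] at hd; revert hd; decide)
    | omega
    | (exfalso; exact htwo _ (by decide) hk)
    | skip
  · exfalso
    have hc : Nat.card G = 4 := hk
    have hf : (Nat.card G).factorization 2 = 2 := it_fact _ 2 (by omega) Nat.prime_two 2 1 (by rw [hc]; norm_num) (by norm_num)
    have hP : IsPGroup 2 G := IsPGroup.of_card (n := 2) (by rw [hc]; norm_num)
    haveI : Nontrivial G := IsSimpleGroup.toNontrivial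
    have hcn := hP.center_nontrivial
    rcases (inferInstance : (Subgroup.center G).Normal).eq_bot_or_eq_top with h | h
    · rw [Subgroup.nontrivial_iff_ne_bot] at hcn
      exact hcn h
    · have hcomm : ∀ a b : G, a * b = b * a := by
        intro a b
        have : a ∈ Subgroup.center G := by
          rw [h]
          exact Subgroup.mem_top a
        rw [Subgroup.mem_center_iff] at this
        exact (this b).symm
      obtain ⟨x, hx⟩ := exists_prime_orderOf_dvd_card' (G := G) 2 (by rw [hc]; norm_num)
      have hzn : (Subgroup.zpowers x).Normal := by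
        constructor
        intro n hn g
        rw [hcomm g n, mul_inv_cancel_right]
        exact hn
      rcases hzn.eq_bot_or_eq_top with h' | h'
      · rw [Subgroup.zpowers_eq_bot] at h'
        rw [h', orderOf_one] at hx
        omega
      · have : Nat.card (Subgroup.zpowers x) = 2 := by rw [Nat.card_zpowers, hx]
        rw [h', Subgroup.card_top, hc] at this
        omega
  · exfalso
    have hc : Nat.card G = 12 := hk
    have hf : (Nat.card G).factorization 2 = 2 := it_fact _ 2 (by omega) Nat.prime_two 2 3 (by rw [hc]; norm_num) (by norm_num)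
    apply it_not_simple_of_sylow (G := G) 2
    · rw [hf, hc]
      decide
    · rw [hf, hc]
      decide
  · exfalso
    have hc : Nat.card G = 20 := hk
    have hf : (Nat.card G).factorization 5 = 1 := it_fact _ 5 (by omega) Nat.prime_five 1 4 (by rw [hc]; norm_num) (by norm_num)
    apply it_not_simple_of_sylow (G := G) 5
    · rw [hf, hc]
      decide
    · rw [hf, hc]
      decide

end Cfsg.Agent.Lib.Helper24
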