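import Mathlib
import Cfsg.Agent.Lib.Helper24.InvolThird

set_option autoImplicit false

namespace Cfsg.Agent.Lib.Helper24

open Equiv

theorem it_center_bot {G : Type*} [Group G] [Finite G] [IsSimpleGroup G] (heven : Even (Nat.card G))
    (hgt : 2 < Nat.card G) : Subgroup.center G = ⊥ := by
  haveI : Fact (Nat.Prime 2) := ⟨Nat.prime_two⟩
  rcases (inferInstance : (Subgroup.center G).Normal).eq_bot_or_eq_top with h | h
  · exact h
  · exfalso
    have hcomm : ∀ a b : G, a * b = b * a := by
      intro a b
      have : a ∈ Subgroup.center G := by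
        rw [h]
        exact Subgroup.mem_top a
      rw [Subgroup.mem_center_iff] at this
      exact (this b).symm
    obtain ⟨x, hx⟩ := exists_prime_orderOf_dvd_card' (G := G) 2 heven.two_dvd
    have hzn : (Subgroup.zpowers x).Normal := by
      constructor
      intro n hn g
      rw [hcomm g n, mul_inv_cancel_right]
      exact hn
    rcases hzn.eq_bot_or_eq_top with h' | h'
    · rw [Subgroup.zpowers_eq_bot] at h'
      rw [h', orderOf_one] at hx
      omega
    · have : Nat.card (Subgroup.zpowers x) = 2 := by rw [Nat.card_zpowers, hx]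
      rw [h', Subgroup.card_top] at this
      omega

theorem it_count_le {G : Type*} [Group G] [Finite G] [IsSimpleGroup G] (hgt : 2 < Nat.card G)
    (f : G →* Perm (Fin 5)) (hf : Function.Injective f) :
    Nat.card {t : G // orderOf t = 2} ≤ 15 := by
  classical
  set S := Finset.univ.filter (fun σ : Perm (Fin 5) => Perm.sign σ = 1 ∧ σ ≠ 1 ∧ σ * σ = 1) with hS
  have hmem : ∀ t : {t : G // orderOf t = 2}, f t.1 ∈ S := by
    intro t
    rw [hS, Finset.mem_filter]
    refine ⟨Finset.mem_univ _, it_sign_trivial hgt f t.1, ?_, ?_⟩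
    · intro h
      have h1 : t.1 = 1 := hf (by rw [h, map_one])
      have h2 := t.2
      rw [h1, orderOf_one] at h2
      omega
    · rw [← map_mul, ← pow_two]
      have h2 : t.1 ^ 2 = 1 := by
        have := pow_orderOf_eq_one t.1
        rw [t.2] at this
        exact this
      rw [h2, map_one]
  let F : {t : G // orderOf t = 2} → S := fun t => ⟨f t.1, hmem t⟩
  have hF : Function.Injective F := by
    intro a b hab
    have : f a.1 = f b.1 := congrArg Subtype.val hab
    exact Subtype.ext (hf this)
  have h1 := Nat.card_le_card_of_injective F hF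
  rw [Nat.card_eq_fintype_card (α := S), Fintype.card_coe, it_count_five] at h1
  exact h1

theorem it_main {G : Type*} [Group G] [Finite G] [IsSimpleGroup G] (heven : Even (Nat.card G))
    (hgt : 2 < Nat.card G) : 3 * Nat.card {t : G // orderOf t = 2} < Nat.card G := by
  classical
  by_contra hcon
  rw [not_lt] at hcon
  set n := Nat.card {t : G // orderOf t = 2} with hn
  have hZ : Odd (Nat.card (Subgroup.center G)) := by
    rw [it_center_bot heven hgt, Subgroup.card_bot]
    exact odd_one
  obtain ⟨H, hH, hidx⟩ := bf_index_bound heven hZ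
  have hk5 : H.index ≤ 5 := by
    rcases hidx with h | h
    · omega
    · by_contra h6
      rw [not_le] at h6
      have h1 : 12 * n ^ 2 ≤ 2 * H.index * n ^ 2 := by nlinarith
      have h2 : Nat.card G * (Nat.card G + n) ≤ 3 * n * (3 * n + n) := by
        apply Nat.mul_le_mul hcon
        omega
      nlinarith
  haveI : Fintype (G ⧸ H) := Fintype.ofFinite _
  have hinj := it_toPerm_injective H hH
  have hsign : ∀ g : G, MulAction.toPermHom G (G ⧸ H) g ∈ alternatingGroup (G ⧸ H) := by
    intro g
    rw [Equiv.Perm.mem_alternatingGroup]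
    exact it_sign_trivial hgt _ g
  let φ : G →* alternatingGroup (G ⧸ H) := (MulAction.toPermHom G (G ⧸ H)).codRestrict _ hsign
  have hφ : Function.Injective φ := by
    intro a b hab
    apply hinj
    exact congrArg Subtype.val hab
  have hd1 : Nat.card G ∣ Nat.card (alternatingGroup (G ⧸ H)) := by
    have h1 : Nat.card G = Nat.card φ.range := Nat.card_congr (MonoidHom.ofInjective hφ).toEquiv
    rw [h1]
    exact Subgroup.card_subgroup_dvd_card _
  have hk2 : 2 ≤ H.index := by
    have h1 : H.index ≠ 1 := by
      intro h
      exact hH (Subgroup.index_eq_one.mp h)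
    have h0 : H.index ≠ 0 := Subgroup.index_ne_zero_of_finite
    omega
  have hcardα : Fintype.card (G ⧸ H) = H.index := by
    rw [← Nat.card_eq_fintype_card, ← Subgroup.index_eq_card]
  haveI : Nontrivial (G ⧸ H) := by
    rw [← Fintype.one_lt_card_iff_nontrivial, hcardα]
    omega
  have h2 : 2 * Nat.card (alternatingGroup (G ⧸ H)) = (H.index).factorial := by
    rw [Nat.card_eq_fintype_card, two_mul_card_alternatingGroup, Fintype.card_perm, hcardα]
  have h3 : (H.index).factorial ∣ 120 := by
    have := Nat.factorial_dvd_factorial hk5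
    simpa [Nat.factorial] using this
  have h60 : Nat.card G ∣ 60 := by
    have h4 : 2 * Nat.card G ∣ 2 * 60 := by
      calc 2 * Nat.card G ∣ 2 * Nat.card (alternatingGroup (G ⧸ H)) := Nat.mul_dvd_mul_left 2 hd1
        _ = (H.index).factorial := h2
        _ ∣ 120 := h3
    exact (Nat.mul_dvd_mul_iff_left (by norm_num)).mp h4
  have hc60 := it_card_sixty heven hgt h60
  have hk : H.index = 5 := by
    have h4 : 2 * 60 ∣ (H.index).factorial := by
      rw [← h2, ← hc60]
      exact Nat.mul_dvd_mul_left 2 hd1
    have h5 := Nat.le_of_dvd (Nat.factorial_pos _) h4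
    interval_cases (H.index) <;> simp [Nat.factorial] at h5 ⊢
  have e : (G ⧸ H) ≃ Fin 5 := Fintype.equivFinOfCardEq (by rw [hcardα, hk])
  let f : G →* Perm (Fin 5) := (e.permCongrHom).toMonoidHom.comp (MulAction.toPermHom G (G ⧸ H))
  have hf : Function.Injective f := by
    intro a b hab
    apply hinj
    exact (e.permCongrHom).injective hab
  have hle := it_count_le hgt f hf
  omega

end Cfsg.Agent.Lib.Helper24
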