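import Mathlib
import Cfsg.Agent.Lib.Helper29.AbFrobDual

set_option autoImplicit false
set_option linter.style.haveILetI false
set_option linter.unusedSectionVars false
set_option linter.unusedVariables false
open scoped ComplexConjugate InnerProductSpace

namespace Cfsg.Agent.Lib.Helper24

open Cfsg.Agent.Lib.Helper29

section JD1

variable {W : Type*} [Group W] [Fintype W]
variable {V : Type*} [NormedAddCommGroup V] [InnerProductSpace ℂ V]

noncomputable def jdProj (R : W →* (V →L[ℂ] V)) (η : W →* ℂˣ) : V →L[ℂ] V :=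
  (Fintype.card W : ℂ)⁻¹ • ∑ w : W, (conj ((η w : ℂˣ) : ℂ)) • R w

theorem jd_unit_norm (η : W →* ℂˣ) (w : W) :
    ((η w : ℂˣ) : ℂ) * conj ((η w : ℂˣ) : ℂ) = 1 := by
  rw [afd_conj, ← Units.val_mul, ← map_mul, mul_inv_cancel, map_one, Units.val_one]

theorem jd_mul_proj (R : W →* (V →L[ℂ] V)) (η : W →* ℂˣ) (w : W) :
    R w * jdProj R η = ((η w : ℂˣ) : ℂ) • jdProj R η := by
  have key : R w * ∑ w' : W, (conj ((η w' : ℂˣ) : ℂ)) • R w' =
      ((η w : ℂˣ) : ℂ) • ∑ w' : W, (conj ((η w' : ℂˣ) : ℂ)) • R w' := by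
    rw [Finset.mul_sum, Finset.smul_sum]
    apply Fintype.sum_equiv (Equiv.mulLeft w)
    intro w'
    rw [Equiv.coe_mulLeft, mul_smul_comm, ← map_mul, smul_smul]
    congr 1
    rw [map_mul, Units.val_mul, map_mul, ← mul_assoc, jd_unit_norm, one_mul]
  unfold jdProj
  rw [mul_smul_comm, key, smul_comm]

theorem jd_sum_proj (hcomm : ∀ a b : W, a * b = b * a) (R : W →* (V →L[ℂ] V))
    [Fintype (W →* ℂˣ)] : ∑ η : W →* ℂˣ, jdProj R η = 1 := by
  classical
  unfold jdProj
  rw [← Finset.smul_sum, Finset.sum_comm]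
  have h1 : ∀ w : W, ∑ η : W →* ℂˣ, (conj ((η w : ℂˣ) : ℂ)) • R w =
      (if w = 1 then (Fintype.card W : ℂ) else 0) • R w := by
    intro w
    rw [← Finset.sum_smul]
    congr 1
    have h2 : ∀ η : W →* ℂˣ, conj ((η w : ℂˣ) : ℂ) = ((η w⁻¹ : ℂˣ) : ℂ) := fun η => afd_conj η w
    simp only [h2]
    rw [afd_sum_chars hcomm, Nat.card_eq_fintype_card]
    simp only [inv_eq_one]
  simp only [h1]
  rw [Finset.sum_eq_single 1]
  · rw [if_pos rfl, map_one, smul_smul, inv_mul_cancel₀, one_smul]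
    exact_mod_cast Fintype.card_ne_zero
  · intro w _ hw
    rw [if_neg hw, zero_smul]
  · intro h
    exact absurd (Finset.mem_univ _) h

theorem jd_eigen_orth (X : V →L[ℂ] V) (hX : ∀ v, ‖X v‖ = ‖v‖) (μ ν : ℂ)
    (hμ : μ * conj μ = 1) (hne : μ ≠ ν) (a b : V) (ha : X a = μ • a) (hb : X b = ν • b) :
    ⟪a, b⟫_ℂ = 0 := by
  have h1 := (LinearMap.norm_map_iff_inner_map_map X).mp hX a b
  rw [ha, hb, inner_smul_left, inner_smul_right] at h1
  have h2 : (1 - conj μ * ν) * ⟪a, b⟫_ℂ = 0 := by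
    linear_combination -h1
  rcases mul_eq_zero.mp h2 with h3 | h3
  · exfalso
    apply hne
    have h4 : conj μ * ν = 1 := by linear_combination -h3
    calc μ = μ * (conj μ * ν) := by rw [h4, mul_one]
      _ = (μ * conj μ) * ν := by ring
      _ = ν := by rw [hμ, one_mul]
  · exact h3

end JD1

end Cfsg.Agent.Lib.Helper24
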