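import Mathlib
import Cfsg.Agent.Lib.Helper24.JD1

set_option autoImplicit false
set_option linter.style.haveILetI false
set_option linter.unusedSectionVars false
set_option linter.unusedVariables false
open scoped ComplexConjugate InnerProductSpace

namespace Cfsg.Agent.Lib.Helper24

open Cfsg.Agent.Lib.Helper29

section JD2

variable {V : Type*} [NormedAddCommGroup V] [InnerProductSpace ℂ V]

theorem jd_pyth {ι : Type*} [Fintype ι] (f : ι → V)
    (h : ∀ i j, i ≠ j → ⟪f i, f j⟫_ℂ = 0) : ‖∑ i, f i‖ ^ 2 = ∑ i, ‖f i‖ ^ 2 := by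
  classical
  rw [← inner_self_eq_norm_sq (𝕜 := ℂ), sum_inner, map_sum]
  apply Finset.sum_congr rfl
  intro i _
  rw [inner_sum, Finset.sum_eq_single i, inner_self_eq_norm_sq (𝕜 := ℂ)]
  · intro j _ hj
    exact h i j (Ne.symm hj)
  · intro hi
    exact absurd (Finset.mem_univ _) hi

theorem jd_decomp {W : Type*} [Group W] [Fintype W] (hcomm : ∀ a b : W, a * b = b * a)
    (R : W →* (V →L[ℂ] V)) [Fintype (W →* ℂˣ)] (w : W) :
    R w = ∑ η : W →* ℂˣ, ((η w : ℂˣ) : ℂ) • jdProj R η := by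
  calc R w = R w * 1 := (mul_one _).symm
    _ = R w * ∑ η : W →* ℂˣ, jdProj R η := by rw [jd_sum_proj hcomm R]
    _ = ∑ η : W →* ℂˣ, ((η w : ℂˣ) : ℂ) • jdProj R η := by
      rw [Finset.mul_sum]
      apply Finset.sum_congr rfl
      intro η _
      exact jd_mul_proj R η w

variable {G : Type*} [Group G] [Finite G]

theorem jd_opNorm_le_one (U : G →* (V →L[ℂ] V)) (hU : ∀ g v, ‖U g v‖ = ‖v‖) (g : G) :
    ‖U g‖ ≤ 1 :=
  ContinuousLinearMap.opNorm_le_bound _ zero_le_one (fun v => by rw [hU, one_mul])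

theorem jd_contract (U : G →* (V →L[ℂ] V)) (hU : ∀ g v, ‖U g v‖ = ‖v‖) (x y : G) (c : ℂ) :
    ‖U (x⁻¹ * y⁻¹ * x * y) - 1‖ ≤ 2 * ‖U x - c • 1‖ * ‖U y - 1‖ := by
  have h1 : U (x⁻¹ * y⁻¹ * x * y) - 1 =
      U x⁻¹ * U y⁻¹ * ((U x - c • 1) * (U y - 1) - (U y - 1) * (U x - c • 1)) := by
    have h2 : (U x - c • 1) * (U y - 1) - (U y - 1) * (U x - c • 1) = U x * U y - U y * U x := by
      simp only [sub_mul, mul_sub, smul_mul_assoc, mul_smul_comm, one_mul, mul_one]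
      module
    rw [h2, mul_sub]
    simp only [← map_mul]
    have h3 : x⁻¹ * y⁻¹ * (y * x) = 1 := by group
    have h4 : x⁻¹ * y⁻¹ * (x * y) = x⁻¹ * y⁻¹ * x * y := by group
    rw [h3, h4, map_one]
  rw [h1]
  have n1 := jd_opNorm_le_one U hU x⁻¹
  have n2 := jd_opNorm_le_one U hU y⁻¹
  calc ‖U x⁻¹ * U y⁻¹ * ((U x - c • 1) * (U y - 1) - (U y - 1) * (U x - c • 1))‖
      ≤ ‖U x⁻¹ * U y⁻¹‖ * ‖(U x - c • 1) * (U y - 1) - (U y - 1) * (U x - c • 1)‖ :=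
        norm_mul_le _ _
    _ ≤ 1 * ‖(U x - c • 1) * (U y - 1) - (U y - 1) * (U x - c • 1)‖ := by
        apply mul_le_mul_of_nonneg_right _ (norm_nonneg _)
        calc ‖U x⁻¹ * U y⁻¹‖ ≤ ‖U x⁻¹‖ * ‖U y⁻¹‖ := norm_mul_le _ _
          _ ≤ 1 * 1 := mul_le_mul n1 n2 (norm_nonneg _) zero_le_one
          _ = 1 := one_mul 1
    _ = ‖(U x - c • 1) * (U y - 1) - (U y - 1) * (U x - c • 1)‖ := one_mul _
    _ ≤ ‖(U x - c • 1) * (U y - 1)‖ + ‖(U y - 1) * (U x - c • 1)‖ := norm_sub_le _ _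
    _ ≤ ‖U x - c • 1‖ * ‖U y - 1‖ + ‖U y - 1‖ * ‖U x - c • 1‖ :=
        add_le_add (norm_mul_le _ _) (norm_mul_le _ _)
    _ = 2 * ‖U x - c • 1‖ * ‖U y - 1‖ := by ring

theorem jd_comm_of_close (U : G →* (V →L[ℂ] V)) (hU : ∀ g v, ‖U g v‖ = ‖v‖)
    (hinj : Function.Injective U) (x y : G)
    (hxd : x * (x⁻¹ * y⁻¹ * x * y) = (x⁻¹ * y⁻¹ * x * y) * x) (hy : ‖U y - 1‖ < 1) :
    x * y = y * x := by
  classical
  obtain ⟨d, hd⟩ : ∃ d : G, d = x⁻¹ * y⁻¹ * x * y := ⟨_, rfl⟩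
  rw [← hd] at hxd
  have hcommS : ∀ a ∈ ({x, d} : Set G), ∀ b ∈ ({x, d} : Set G), a * b = b * a := by
    intro a ha b hb
    rcases ha with rfl | ha <;> rcases hb with rfl | hb
    · rfl
    · rw [Set.mem_singleton_iff] at hb; rw [hb]; exact hxd
    · rw [Set.mem_singleton_iff] at ha; rw [ha]; exact hxd.symm
    · rw [Set.mem_singleton_iff] at ha hb; rw [ha, hb]
  obtain ⟨K, hK⟩ : ∃ K : Subgroup G, K = Subgroup.closure ({x, d} : Set G) := ⟨_, rfl⟩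
  have hKcomm : ∀ a b : K, a * b = b * a := by
    subst hK
    haveI := Subgroup.isMulCommutative_closure hcommS
    intro a b
    exact mul_comm' a b
  haveI : Fintype G := Fintype.ofFinite G
  haveI : Fintype K := Fintype.ofFinite K
  haveI : Finite (K →* ℂˣ) := Nat.finite_of_card_ne_zero (by
    rw [afd_card_dual hKcomm]
    exact Nat.card_pos.ne')
  haveI : Fintype (K →* ℂˣ) := Fintype.ofFinite _
  have hxK : x ∈ K := by rw [hK]; exact Subgroup.subset_closure (by simp)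
  have hdK : d ∈ K := by rw [hK]; exact Subgroup.subset_closure (by simp)
  obtain ⟨R, hR⟩ : ∃ R : K →* (V →L[ℂ] V), R = U.comp K.subtype := ⟨_, rfl⟩
  have hRv : ∀ w : K, R w = U (w : G) := by
    intro w; rw [hR]; rfl
  have hxyd : x * y = y * x * d := by rw [hd]; group
  have hzero : ∀ η : K →* ℂˣ, η ⟨d, hdK⟩ ≠ 1 → jdProj R η = 0 := by
    intro η hη
    ext u
    rw [ContinuousLinearMap.zero_apply]
    obtain ⟨v, hv⟩ : ∃ v : V, v = jdProj R η u := ⟨_, rfl⟩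
    rw [← hv]
    have e1 : U x v = ((η ⟨x, hxK⟩ : ℂˣ) : ℂ) • v := by
      have := congrArg (fun T : V →L[ℂ] V => T u) (jd_mul_proj R η ⟨x, hxK⟩)
      simp only [ContinuousLinearMap.mul_apply, ContinuousLinearMap.smul_apply] at this
      rw [hRv, ← hv] at this
      exact this
    have e2 : U d v = ((η ⟨d, hdK⟩ : ℂˣ) : ℂ) • v := by
      have := congrArg (fun T : V →L[ℂ] V => T u) (jd_mul_proj R η ⟨d, hdK⟩)
      simp only [ContinuousLinearMap.mul_apply, ContinuousLinearMap.smul_apply] at this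
      rw [hRv, ← hv] at this
      exact this
    have e3 : U x (U y v) = (((η ⟨x, hxK⟩ : ℂˣ) : ℂ) * ((η ⟨d, hdK⟩ : ℂˣ) : ℂ)) • U y v := by
      have h1 : U x (U y v) = U (x * y) v := by rw [map_mul]; rfl
      rw [h1, hxyd, map_mul, map_mul]
      simp only [ContinuousLinearMap.mul_apply]
      rw [e2, map_smul, e1, map_smul, map_smul, smul_smul, mul_comm]
    have hne : ((η ⟨x, hxK⟩ : ℂˣ) : ℂ) ≠ ((η ⟨x, hxK⟩ : ℂˣ) : ℂ) * ((η ⟨d, hdK⟩ : ℂˣ) : ℂ) := by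
      intro h
      apply hη
      have h2 : ((η ⟨x, hxK⟩ : ℂˣ) : ℂ) * 1 =
          ((η ⟨x, hxK⟩ : ℂˣ) : ℂ) * ((η ⟨d, hdK⟩ : ℂˣ) : ℂ) := by rw [mul_one]; exact h
      have h3 := mul_left_cancel₀ (Units.ne_zero _) h2
      exact Units.ext h3.symm
    have horth := jd_eigen_orth (U x) (hU x) _ _ (jd_unit_norm η ⟨x, hxK⟩) hne v (U y v) e1 e3
    by_contra hv0
    have hvpos : 0 < ‖v‖ := norm_pos_iff.mpr hv0
    have h4 : ‖v - U y v‖ ^ 2 = 2 * ‖v‖ ^ 2 := by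
      rw [norm_sub_sq (𝕜 := ℂ), horth, hU]
      simp
      ring
    have h5 : ‖v - U y v‖ ≤ ‖U y - 1‖ * ‖v‖ := by
      have : v - U y v = -((U y - 1) v) := by
        simp only [ContinuousLinearMap.sub_apply, ContinuousLinearMap.one_apply]
        abel
      rw [this, norm_neg]
      exact ContinuousLinearMap.le_opNorm _ _
    have h6 : ‖v - U y v‖ < ‖v‖ := by
      calc ‖v - U y v‖ ≤ ‖U y - 1‖ * ‖v‖ := h5
        _ < 1 * ‖v‖ := mul_lt_mul_of_pos_right hy hvpos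
        _ = ‖v‖ := one_mul _
    have h7 : ‖v - U y v‖ ^ 2 < ‖v‖ ^ 2 :=
      pow_lt_pow_left₀ h6 (norm_nonneg _) (by norm_num)
    nlinarith [sq_nonneg ‖v‖]
  have hUd : U d = 1 := by
    have h1 := jd_decomp hKcomm R ⟨d, hdK⟩
    rw [hRv] at h1
    rw [h1, ← jd_sum_proj hKcomm R]
    apply Finset.sum_congr rfl
    intro η _
    by_cases hη : η ⟨d, hdK⟩ = 1
    · rw [hη, Units.val_one, one_smul]
    · rw [hzero η hη, smul_zero]
  have hd1 : d = 1 := hinj (by rw [hUd, map_one])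
  rw [hxyd, hd1, mul_one]

end JD2

end Cfsg.Agent.Lib.Helper24
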