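import Mathlib
import Cfsg.Agent.Lib.Helper24.JD2

set_option autoImplicit false
set_option linter.style.haveILetI false
set_option linter.unusedSectionVars false
set_option linter.unusedVariables false
open scoped ComplexConjugate InnerProductSpace

namespace Cfsg.Agent.Lib.Helper24

open Cfsg.Agent.Lib.Helper29

section JD3

variable {V : Type*} [NormedAddCommGroup V] [InnerProductSpace ℂ V]
variable {G : Type*} [Group G] [Finite G]

theorem jd_comm_T (U : G →* (V →L[ℂ] V)) (hU : ∀ g v, ‖U g v‖ = ‖v‖)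
    (hinj : Function.Injective U) (c : ℂ) (x : G) (hx : 2 * ‖U x - c • 1‖ < 1) :
    ∀ y : G, ‖U y - 1‖ < 1 → x * y = y * x := by
  classical
  haveI : Fintype G := Fintype.ofFinite G
  intro y
  induction' hn : (Finset.univ.filter (fun g : G => ‖U g - 1‖ < ‖U y - 1‖)).card
    using Nat.strong_induction_on with n ih generalizing y
  intro hy
  obtain ⟨d, hd⟩ : ∃ d : G, d = x⁻¹ * y⁻¹ * x * y := ⟨_, rfl⟩
  by_cases hy1 : U y - 1 = 0
  · have : y = 1 := hinj (by rw [map_one]; exact sub_eq_zero.mp hy1)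
    rw [this, mul_one, one_mul]
  · have hpos : 0 < ‖U y - 1‖ := norm_pos_iff.mpr hy1
    have hdlt : ‖U d - 1‖ < ‖U y - 1‖ := by
      rw [hd]
      calc ‖U (x⁻¹ * y⁻¹ * x * y) - 1‖ ≤ 2 * ‖U x - c • 1‖ * ‖U y - 1‖ := jd_contract U hU x y c
        _ < 1 * ‖U y - 1‖ := mul_lt_mul_of_pos_right hx hpos
        _ = ‖U y - 1‖ := one_mul _
    have hcard : (Finset.univ.filter (fun g : G => ‖U g - 1‖ < ‖U d - 1‖)).card < n := by
      rw [← hn]
      apply Finset.card_lt_card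
      rw [Finset.ssubset_iff_of_subset]
      · refine ⟨d, ?_, ?_⟩
        · rw [Finset.mem_filter]
          exact ⟨Finset.mem_univ _, hdlt⟩
        · rw [Finset.mem_filter]
          intro h
          exact lt_irrefl _ h.2
      · intro g hg
        rw [Finset.mem_filter] at hg ⊢
        exact ⟨Finset.mem_univ _, lt_trans hg.2 hdlt⟩
    have hxd := ih _ hcard d rfl (lt_trans hdlt hy)
    apply jd_comm_of_close U hU hinj x y _ hy
    rw [← hd]
    exact hxd

variable {W : Type*} [Group W] [Fintype W]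

theorem jd_proj_eigen (R : W →* (V →L[ℂ] V)) (η : W →* ℂˣ) (w : W) (v : V) :
    R w (jdProj R η v) = ((η w : ℂˣ) : ℂ) • jdProj R η v := by
  have := congrArg (fun T : V →L[ℂ] V => T v) (jd_mul_proj R η w)
  simpa using this

theorem jd_proj_orth (R : W →* (V →L[ℂ] V)) (hR : ∀ w v, ‖R w v‖ = ‖v‖)
    (η η' : W →* ℂˣ) (hne : η ≠ η') (u v : V) :
    ⟪jdProj R η u, jdProj R η' v⟫_ℂ = 0 := by
  have : ∃ w : W, η w ≠ η' w := by
    by_contra h
    push Not at h
    exact hne (MonoidHom.ext h)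
  obtain ⟨w, hw⟩ := this
  have hw' : ((η w : ℂˣ) : ℂ) ≠ ((η' w : ℂˣ) : ℂ) := fun h => hw (Units.ext h)
  exact jd_eigen_orth (R w) (hR w) _ _ (jd_unit_norm η w) hw' _ _
    (jd_proj_eigen R η w u) (jd_proj_eigen R η' w v)

theorem jd_norm_le (hcomm : ∀ a b : W, a * b = b * a) (R : W →* (V →L[ℂ] V))
    (hR : ∀ w v, ‖R w v‖ = ‖v‖) [Fintype (W →* ℂˣ)] (g : W) (c : ℂ) (r : ℝ) (hr : 0 ≤ r)
    (h : ∀ η : W →* ℂˣ, jdProj R η ≠ 0 → ‖((η g : ℂˣ) : ℂ) - c‖ ≤ r) :
    ‖R g - c • 1‖ ≤ r := by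
  apply ContinuousLinearMap.opNorm_le_bound _ hr
  intro v
  have h1 : (R g - c • 1) v = ∑ η : W →* ℂˣ, (((η g : ℂˣ) : ℂ) - c) • jdProj R η v := by
    have h2 : R g - c • 1 = ∑ η : W →* ℂˣ, (((η g : ℂˣ) : ℂ) - c) • jdProj R η := by
      rw [jd_decomp hcomm R g, ← jd_sum_proj hcomm R, Finset.smul_sum, ← Finset.sum_sub_distrib]
      apply Finset.sum_congr rfl
      intro η _
      rw [sub_smul]
    rw [h2]
    simp
  have hv : v = ∑ η : W →* ℂˣ, jdProj R η v := by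
    have := congrArg (fun T : V →L[ℂ] V => T v) (jd_sum_proj hcomm R)
    simpa using this.symm
  have h3 : ‖(R g - c • 1) v‖ ^ 2 ≤ (r * ‖v‖) ^ 2 := by
    rw [h1, jd_pyth]
    · have h4 : ‖v‖ ^ 2 = ∑ η : W →* ℂˣ, ‖jdProj R η v‖ ^ 2 := by
        conv_lhs => rw [hv]
        apply jd_pyth
        intro i j hij
        exact jd_proj_orth R hR i j hij v v
      rw [mul_pow, h4, Finset.mul_sum]
      apply Finset.sum_le_sum
      intro η _
      rw [norm_smul, mul_pow]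
      by_cases hη : jdProj R η = 0
      · rw [hη]
        simp
      · apply mul_le_mul_of_nonneg_right _ (sq_nonneg _)
        exact pow_le_pow_left₀ (norm_nonneg _) (h η hη) 2
    · intro i j hij
      rw [inner_smul_left, inner_smul_right, jd_proj_orth R hR i j hij v v, mul_zero, mul_zero]
  exact le_of_pow_le_pow_left₀ (by norm_num) (mul_nonneg hr (norm_nonneg _)) h3

theorem jd_norm_lt (hcomm : ∀ a b : W, a * b = b * a) (R : W →* (V →L[ℂ] V))
    (hR : ∀ w v, ‖R w v‖ = ‖v‖) [Fintype (W →* ℂˣ)] (g : W) (c : ℂ) (r : ℝ) (hr : 0 < r)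
    (h : ∀ η : W →* ℂˣ, jdProj R η ≠ 0 → ‖((η g : ℂˣ) : ℂ) - c‖ < r) :
    ‖R g - c • 1‖ < r := by
  classical
  obtain ⟨S, hS⟩ : ∃ S : Finset (W →* ℂˣ), S = Finset.univ.filter (fun η => jdProj R η ≠ 0) :=
    ⟨_, rfl⟩
  have hSmem : ∀ η, η ∈ S ↔ jdProj R η ≠ 0 := by
    intro η
    rw [hS, Finset.mem_filter]
    simp
  by_cases hne : S.Nonempty
  · obtain ⟨η₀, hη₀, hmax⟩ := Finset.exists_max_image S
      (fun η : W →* ℂˣ => ‖((η g : ℂˣ) : ℂ) - c‖) hne
    have h1 : ‖((η₀ g : ℂˣ) : ℂ) - c‖ < r := h η₀ ((hSmem η₀).mp hη₀)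
    refine lt_of_le_of_lt (jd_norm_le hcomm R hR g c _ (norm_nonneg _) ?_) h1
    intro η hη
    exact hmax η ((hSmem η).mpr hη)
  · refine lt_of_le_of_lt (jd_norm_le hcomm R hR g c 0 le_rfl ?_) hr
    intro η hη
    exfalso
    exact hne ⟨η, (hSmem η).mpr hη⟩

theorem jd_card_support [FiniteDimensional ℂ V] (R : W →* (V →L[ℂ] V))
    (hR : ∀ w v, ‖R w v‖ = ‖v‖) [Fintype (W →* ℂˣ)]
    [Fintype {η : W →* ℂˣ // jdProj R η ≠ 0}] :
    Fintype.card {η : W →* ℂˣ // jdProj R η ≠ 0} ≤ Module.finrank ℂ V := by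
  have hex : ∀ η : {η : W →* ℂˣ // jdProj R η ≠ 0}, ∃ u : V, jdProj R η.1 u ≠ 0 := by
    intro η
    by_contra h
    push Not at h
    apply η.2
    ext u
    rw [h u]
    rfl
  choose u hu using hex
  have hli : LinearIndependent ℂ (fun η : {η : W →* ℂˣ // jdProj R η ≠ 0} =>
      jdProj R η.1 (u η)) := by
    apply linearIndependent_of_ne_zero_of_inner_eq_zero hu
    intro i j hij
    exact jd_proj_orth R hR i.1 j.1 (fun h => hij (Subtype.ext h)) _ _
  exact hli.fintype_card_le_finrank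

end JD3

end Cfsg.Agent.Lib.Helper24
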