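import Mathlib
import Cfsg.Agent.Lib.Helper24.JD3

set_option autoImplicit false
set_option linter.style.haveILetI false
set_option linter.unusedSectionVars false
set_option linter.unusedVariables false
open scoped ComplexConjugate InnerProductSpace

namespace Cfsg.Agent.Lib.Helper24

open Cfsg.Agent.Lib.Helper29

theorem jd_sqrt3_half_lt : 1 - Real.sqrt 3 / 2 < 1 / 2 := by
  have h : (1 : ℝ) < Real.sqrt 3 := by
    rw [show (1 : ℝ) = Real.sqrt 1 from Real.sqrt_one.symm]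
    exact Real.sqrt_lt_sqrt (by norm_num) (by norm_num)
  linarith

theorem jd_exp_close (Δ : ℝ) (hΔ : |Δ| < Real.pi / 6) :
    ‖Complex.exp (Δ * Complex.I) - ((Real.sqrt 3 / 2 : ℝ) : ℂ)‖ < 1 / 2 := by
  have hcos : Real.sqrt 3 / 2 < Real.cos Δ := by
    rw [← Real.cos_pi_div_six, ← Real.cos_abs Δ]
    apply Real.cos_lt_cos_of_nonneg_of_le_pi (abs_nonneg _) _ hΔ
    linarith [Real.pi_pos]
  have h3 : Real.sqrt 3 ^ 2 = 3 := Real.sq_sqrt (by norm_num)
  have hsq : ‖Complex.exp (Δ * Complex.I) - ((Real.sqrt 3 / 2 : ℝ) : ℂ)‖ ^ 2 < (1 / 2) ^ 2 := by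
    rw [Complex.sq_norm, Complex.normSq_apply]
    simp only [Complex.sub_re, Complex.sub_im, Complex.exp_ofReal_mul_I_re,
      Complex.exp_ofReal_mul_I_im, Complex.ofReal_re, Complex.ofReal_im, sub_zero]
    have hs := Real.sin_sq_add_cos_sq Δ
    have hpos : 0 < Real.sqrt 3 := Real.sqrt_pos.mpr (by norm_num)
    nlinarith
  exact lt_of_pow_lt_pow_left₀ 2 (by norm_num) hsq

theorem jd_box_close (z w : ℂ) (hz : ‖z‖ = 1) (hw : ‖w‖ = 1)
    (hb : ⌈(z.arg + Real.pi) * 6 / Real.pi⌉ = ⌈(w.arg + Real.pi) * 6 / Real.pi⌉) :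
    ‖w * conj z - ((Real.sqrt 3 / 2 : ℝ) : ℂ)‖ < 1 / 2 := by
  have hzexp : z = Complex.exp (z.arg * Complex.I) := by
    have := Complex.norm_mul_exp_arg_mul_I z
    rw [hz, Complex.ofReal_one, one_mul] at this
    exact this.symm
  have hwexp : w = Complex.exp (w.arg * Complex.I) := by
    have := Complex.norm_mul_exp_arg_mul_I w
    rw [hw, Complex.ofReal_one, one_mul] at this
    exact this.symm
  have hprod : w * conj z = Complex.exp (((w.arg - z.arg : ℝ) : ℂ) * Complex.I) := by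
    conv_lhs => rw [hzexp, hwexp]
    rw [← Complex.exp_conj, ← Complex.exp_add]
    congr 1
    simp only [map_mul, Complex.conj_ofReal, Complex.conj_I, Complex.ofReal_sub]
    ring
  rw [hprod]
  apply jd_exp_close
  have hpi := Real.pi_pos
  obtain ⟨m, hm⟩ : ∃ m : ℤ, m = ⌈(z.arg + Real.pi) * 6 / Real.pi⌉ := ⟨_, rfl⟩
  have h1 := Int.ceil_eq_iff.mp hm.symm
  have h2 := Int.ceil_eq_iff.mp (hm.trans hb).symm
  have e1 : (z.arg + Real.pi) * 6 / Real.pi - (w.arg + Real.pi) * 6 / Real.pi =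
      (z.arg - w.arg) * (6 / Real.pi) := by
    field_simp
    ring
  have h3 : |(z.arg - w.arg) * (6 / Real.pi)| < 1 := by
    rw [← e1, abs_lt]
    constructor <;> linarith [h1.1, h1.2, h2.1, h2.2]
  have h4 : |z.arg - w.arg| * (6 / Real.pi) < 1 := by
    rw [abs_mul, abs_of_pos (div_pos (by norm_num : (0:ℝ) < 6) hpi)] at h3
    exact h3
  rw [abs_sub_comm]
  have h5 : |z.arg - w.arg| < Real.pi / 6 := by
    have h6 : |z.arg - w.arg| * (6 / Real.pi) * (Real.pi / 6) < 1 * (Real.pi / 6) :=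
      mul_lt_mul_of_pos_right h4 (by positivity)
    have h7 : |z.arg - w.arg| * (6 / Real.pi) * (Real.pi / 6) = |z.arg - w.arg| := by
      field_simp
    rw [h7, one_mul] at h6
    exact h6
  exact h5

theorem jd_box_mem (z : ℂ) :
    ⌈(z.arg + Real.pi) * 6 / Real.pi⌉ ∈ Finset.Icc (1 : ℤ) 12 := by
  have hpi := Real.pi_pos
  have h1 := Complex.neg_pi_lt_arg z
  have h2 := Complex.arg_le_pi z
  rw [Finset.mem_Icc]
  constructor
  · rw [Int.one_le_ceil_iff]
    apply div_pos _ hpi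
    nlinarith
  · rw [Int.ceil_le]
    rw [div_le_iff₀ hpi]
    push_cast
    nlinarith

end Cfsg.Agent.Lib.Helper24
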