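import Mathlib
import Cfsg.Agent.Lib.Helper24.JD4

set_option autoImplicit false
set_option linter.style.haveILetI false
set_option linter.unusedSectionVars false
set_option linter.unusedVariables false
open scoped ComplexConjugate InnerProductSpace

namespace Cfsg.Agent.Lib.Helper24

open Cfsg.Agent.Lib.Helper29

section JD5

variable {V : Type*} [NormedAddCommGroup V] [InnerProductSpace ℂ V]
variable {G : Type*} [Group G] [Finite G]

theorem jd_conj_T (U : G →* (V →L[ℂ] V)) (hU : ∀ g v, ‖U g v‖ = ‖v‖) (c : ℂ) (g n : G) :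
    ‖U (g * n * g⁻¹) - c • 1‖ ≤ ‖U n - c • 1‖ := by
  have h1 : U (g * n * g⁻¹) - c • 1 = U g * (U n - c • 1) * U g⁻¹ := by
    rw [mul_sub, sub_mul, mul_smul_comm, mul_one, smul_mul_assoc, ← map_mul, ← map_mul, ← map_mul,
      mul_inv_cancel, map_one]
  rw [h1]
  calc ‖U g * (U n - c • 1) * U g⁻¹‖ ≤ ‖U g * (U n - c • 1)‖ * ‖U g⁻¹‖ := norm_mul_le _ _
    _ ≤ (‖U g‖ * ‖U n - c • 1‖) * ‖U g⁻¹‖ :=
      mul_le_mul_of_nonneg_right (norm_mul_le _ _) (norm_nonneg _)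
    _ ≤ (1 * ‖U n - c • 1‖) * 1 := by
      apply mul_le_mul _ (jd_opNorm_le_one U hU g⁻¹) (norm_nonneg _)
      · exact mul_nonneg zero_le_one (norm_nonneg _)
      · exact mul_le_mul_of_nonneg_right (jd_opNorm_le_one U hU g) (norm_nonneg _)
    _ = ‖U n - c • 1‖ := by ring

theorem jd_T_close (U : G →* (V →L[ℂ] V)) (y : G)
    (hy : ‖U y - ((Real.sqrt 3 / 2 : ℝ) : ℂ) • 1‖ < 1 / 2) : ‖U y - 1‖ < 1 := by
  have h1 : U y - 1 = (U y - ((Real.sqrt 3 / 2 : ℝ) : ℂ) • 1) +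
      ((((Real.sqrt 3 / 2 : ℝ) : ℂ) - 1) • (1 : V →L[ℂ] V)) := by
    rw [sub_smul, one_smul]
    abel
  have h2 : ‖((((Real.sqrt 3 / 2 : ℝ) : ℂ) - 1) • (1 : V →L[ℂ] V))‖ ≤ 1 - Real.sqrt 3 / 2 := by
    rw [norm_smul]
    have h3 : ‖(((Real.sqrt 3 / 2 : ℝ) : ℂ) - 1)‖ = 1 - Real.sqrt 3 / 2 := by
      have : (((Real.sqrt 3 / 2 : ℝ) : ℂ) - 1) = (((Real.sqrt 3 / 2 - 1 : ℝ)) : ℂ) := by
        push_cast; ring
      rw [this, Complex.norm_real, Real.norm_eq_abs, abs_of_nonpos]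
      · ring
      · have := jd_sqrt3_half_lt
        have h4 : Real.sqrt 3 ≤ 2 := by
          rw [show (2 : ℝ) = Real.sqrt 4 by
            rw [show (4 : ℝ) = 2 ^ 2 by norm_num, Real.sqrt_sq (by norm_num)]]
          exact Real.sqrt_le_sqrt (by norm_num)
        linarith
    rw [h3]
    have h5 : ‖(1 : V →L[ℂ] V)‖ ≤ 1 := ContinuousLinearMap.norm_id_le
    have h6 : 0 ≤ 1 - Real.sqrt 3 / 2 := by rw [← h3]; exact norm_nonneg _
    calc (1 - Real.sqrt 3 / 2) * ‖(1 : V →L[ℂ] V)‖ ≤ (1 - Real.sqrt 3 / 2) * 1 :=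
        mul_le_mul_of_nonneg_left h5 h6
      _ = 1 - Real.sqrt 3 / 2 := mul_one _
  rw [h1]
  calc _ ≤ ‖U y - ((Real.sqrt 3 / 2 : ℝ) : ℂ) • 1‖ +
      ‖((((Real.sqrt 3 / 2 : ℝ) : ℂ) - 1) • (1 : V →L[ℂ] V))‖ := norm_add_le _ _
    _ < 1 / 2 + 1 / 2 := by
      have := jd_sqrt3_half_lt
      linarith
    _ = 1 := by norm_num

theorem jd_main [FiniteDimensional ℂ V] (U : G →* (V →L[ℂ] V)) (hU : ∀ g v, ‖U g v‖ = ‖v‖)
    (hinj : Function.Injective U) :
    ∃ A : Subgroup G, A.Normal ∧ (∀ x ∈ A, ∀ y ∈ A, x * y = y * x) ∧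
      ∀ H : Subgroup G, (∀ x ∈ H, ∀ y ∈ H, x * y = y * x) →
        (A.subgroupOf H).index ≤ 12 ^ Module.finrank ℂ V := by
  classical
  obtain ⟨c, hc⟩ : ∃ c : ℂ, c = ((Real.sqrt 3 / 2 : ℝ) : ℂ) := ⟨_, rfl⟩
  obtain ⟨T, hT⟩ : ∃ T : Set G, T = {g | ‖U g - c • 1‖ < 1 / 2} := ⟨_, rfl⟩
  have hTmem : ∀ g, g ∈ T ↔ ‖U g - c • 1‖ < 1 / 2 := by
    intro g; rw [hT]; rfl
  have hTcomm : ∀ x ∈ T, ∀ y ∈ T, x * y = y * x := by
    intro x hx y hy
    rw [hTmem] at hx hy
    apply jd_comm_T U hU hinj c x (by linarith) y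
    rw [hc] at hy
    exact jd_T_close U y hy
  refine ⟨Subgroup.closure T, ?_, ?_, ?_⟩
  · constructor
    intro n hn g
    induction hn using Subgroup.closure_induction with
    | mem n hn =>
      apply Subgroup.subset_closure
      rw [hTmem] at hn ⊢
      exact lt_of_le_of_lt (jd_conj_T U hU c g n) hn
    | one => simp
    | mul a b _ _ ha hb =>
      have : g * (a * b) * g⁻¹ = (g * a * g⁻¹) * (g * b * g⁻¹) := by group
      rw [this]
      exact mul_mem ha hb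
    | inv a _ ha =>
      have : g * a⁻¹ * g⁻¹ = (g * a * g⁻¹)⁻¹ := by group
      rw [this]
      exact inv_mem ha
  · haveI := Subgroup.isMulCommutative_closure hTcomm
    intro x hx y hy
    have := mul_comm' (⟨x, hx⟩ : Subgroup.closure T) ⟨y, hy⟩
    exact congrArg Subtype.val this
  · intro H hH
    have hcomm : ∀ a b : H, a * b = b * a := by
      intro a b
      exact Subtype.ext (hH a a.2 b b.2)
    haveI : Fintype H := Fintype.ofFinite H
    haveI : Finite (H →* ℂˣ) := Nat.finite_of_card_ne_zero (by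
      rw [afd_card_dual hcomm]
      exact Nat.card_pos.ne')
    haveI : Fintype (H →* ℂˣ) := Fintype.ofFinite _
    obtain ⟨R, hR⟩ : ∃ R : H →* (V →L[ℂ] V), R = U.comp H.subtype := ⟨_, rfl⟩
    have hRv : ∀ w : H, R w = U (w : G) := by
      intro w; rw [hR]; rfl
    have hRn : ∀ w v, ‖R w v‖ = ‖v‖ := by
      intro w v; rw [hRv]; exact hU _ v
    have hkey : ∀ h k : H,
        (∀ η : {η : H →* ℂˣ // jdProj R η ≠ 0},
          ⌈((((η.1 h : ℂˣ) : ℂ)).arg + Real.pi) * 6 / Real.pi⌉ =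
          ⌈((((η.1 k : ℂˣ) : ℂ)).arg + Real.pi) * 6 / Real.pi⌉) →
        h⁻¹ * k ∈ (Subgroup.closure T).subgroupOf H := by
      intro h k hbox
      rw [Subgroup.mem_subgroupOf]
      apply Subgroup.subset_closure
      rw [hTmem, ← hRv]
      apply jd_norm_lt hcomm R hRn (h⁻¹ * k) c (1 / 2) (by norm_num)
      intro η hη
      have e1 : (((η (h⁻¹ * k) : ℂˣ) : ℂ)) = ((η k : ℂˣ) : ℂ) * conj ((η h : ℂˣ) : ℂ) := by
        rw [afd_conj, map_mul, Units.val_mul, mul_comm]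
      rw [e1, hc]
      have nz : ∀ w : H, ‖((η w : ℂˣ) : ℂ)‖ = 1 := by
        intro w
        have h1 := jd_unit_norm η w
        have h2 : ‖((η w : ℂˣ) : ℂ)‖ ^ 2 = 1 := by
          rw [Complex.sq_norm]
          have : ((Complex.normSq ((η w : ℂˣ) : ℂ) : ℝ) : ℂ) = 1 := by
            rw [← Complex.mul_conj]; exact h1
          exact_mod_cast this
        have h3 : ‖((η w : ℂˣ) : ℂ)‖ = 1 := by
          have := norm_nonneg ((η w : ℂˣ) : ℂ)
          nlinarith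
        exact h3
      exact jd_box_close _ _ (nz h) (nz k) (hbox ⟨η, hη⟩)
    obtain ⟨f, hf⟩ : ∃ f : H → ({η : H →* ℂˣ // jdProj R η ≠ 0} → ↥(Finset.Icc (1 : ℤ) 12)),
        f = fun h η => ⟨⌈((((η.1 h : ℂˣ) : ℂ)).arg + Real.pi) * 6 / Real.pi⌉, jd_box_mem _⟩ :=
      ⟨_, rfl⟩
    have hfinj : Function.Injective
        (fun q : H ⧸ (Subgroup.closure T).subgroupOf H => f (Quotient.out q)) := by
      intro q q' hqq
      have h1 : (Quotient.out q)⁻¹ * Quotient.out q' ∈ (Subgroup.closure T).subgroupOf H := by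
        apply hkey
        intro η
        have := congrFun hqq η
        rw [hf] at this
        exact congrArg Subtype.val this
      have h2 : (QuotientGroup.mk (Quotient.out q) : H ⧸ (Subgroup.closure T).subgroupOf H) =
          QuotientGroup.mk (Quotient.out q') := QuotientGroup.eq.mpr h1
      rw [QuotientGroup.out_eq', QuotientGroup.out_eq'] at h2
      exact h2
    have hcard := Nat.card_le_card_of_injective _ hfinj
    have hsupp := jd_card_support R hRn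
    rw [Subgroup.index]
    refine le_trans hcard ?_
    rw [Nat.card_eq_fintype_card, Fintype.card_fun, Fintype.card_coe, Int.card_Icc]
    have : ((12 : ℤ) + 1 - 1).toNat = 12 := by decide
    rw [this]
    exact Nat.pow_le_pow_right (by norm_num) hsupp

end JD5

end Cfsg.Agent.Lib.Helper24
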