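import Mathlib
import Cfsg.Agent.Lib.Helper24.JD5

set_option autoImplicit false
set_option linter.style.haveILetI false
set_option linter.unusedSectionVars false
set_option linter.unusedVariables false
open scoped ComplexConjugate InnerProductSpace

namespace Cfsg.Agent.Lib.Helper24

def JdSpace (n : ℕ) : Type := Fin n → ℂ

noncomputable instance jdSpaceAddCommGroup (n : ℕ) : AddCommGroup (JdSpace n) :=
  inferInstanceAs (AddCommGroup (Fin n → ℂ))

noncomputable instance jdSpaceModule (n : ℕ) : Module ℂ (JdSpace n) :=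
  inferInstanceAs (Module ℂ (Fin n → ℂ))

instance jdSpaceFinite (n : ℕ) : Module.Finite ℂ (JdSpace n) :=
  inferInstanceAs (Module.Finite ℂ (Fin n → ℂ))

theorem jd_finrank (n : ℕ) : Module.finrank ℂ (JdSpace n) = n := by
  show Module.finrank ℂ (Fin n → ℂ) = n
  simp

section JD6

variable {G : Type*} [Group G] [Fintype G]

noncomputable def jdInner (n : ℕ) (ρ : G →* ((Fin n → ℂ) →ₗ[ℂ] (Fin n → ℂ)))
    (u v : JdSpace n) : ℂ :=
  ∑ g : G, ∑ i : Fin n, conj ((ρ g u) i) * (ρ g v) i

theorem jd_inner_map (n : ℕ) (ρ : G →* ((Fin n → ℂ) →ₗ[ℂ] (Fin n → ℂ))) (h : G)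
    (u v : JdSpace n) : jdInner n ρ (ρ h u) (ρ h v) = jdInner n ρ u v := by
  unfold jdInner
  apply Fintype.sum_equiv (Equiv.mulRight h)
  intro g
  apply Finset.sum_congr rfl
  intro i _
  rw [Equiv.coe_mulRight, map_mul]
  rfl

theorem jd_core_add (n : ℕ) (ρ : G →* ((Fin n → ℂ) →ₗ[ℂ] (Fin n → ℂ)))
    (x y z : Fin n → ℂ) :
    (∑ g : G, ∑ i : Fin n, conj ((ρ g (x + y)) i) * (ρ g z) i) =
      (∑ g : G, ∑ i : Fin n, conj ((ρ g x) i) * (ρ g z) i) +
      ∑ g : G, ∑ i : Fin n, conj ((ρ g y) i) * (ρ g z) i := by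
  rw [← Finset.sum_add_distrib]
  apply Finset.sum_congr rfl
  intro g _
  rw [← Finset.sum_add_distrib]
  apply Finset.sum_congr rfl
  intro i _
  rw [map_add, Pi.add_apply, map_add, add_mul]

theorem jd_core_smul (n : ℕ) (ρ : G →* ((Fin n → ℂ) →ₗ[ℂ] (Fin n → ℂ)))
    (x y : Fin n → ℂ) (r : ℂ) :
    (∑ g : G, ∑ i : Fin n, conj ((ρ g (r • x)) i) * (ρ g y) i) =
      conj r * ∑ g : G, ∑ i : Fin n, conj ((ρ g x) i) * (ρ g y) i := by
  rw [Finset.mul_sum]
  apply Finset.sum_congr rfl
  intro g _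
  rw [Finset.mul_sum]
  apply Finset.sum_congr rfl
  intro i _
  rw [map_smul, Pi.smul_apply, smul_eq_mul, map_mul, mul_assoc]

@[instance_reducible]
noncomputable def jdCore (n : ℕ) (ρ : G →* ((Fin n → ℂ) →ₗ[ℂ] (Fin n → ℂ))) :
    InnerProductSpace.Core ℂ (JdSpace n) where
  inner := jdInner n ρ
  conj_inner_symm := by
    intro x y
    unfold jdInner
    rw [map_sum]
    apply Finset.sum_congr rfl
    intro g _
    rw [map_sum]
    apply Finset.sum_congr rfl
    intro i _
    rw [map_mul, Complex.conj_conj, mul_comm]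
  re_inner_nonneg := by
    intro x
    unfold jdInner
    rw [map_sum]
    apply Finset.sum_nonneg
    intro g _
    rw [map_sum]
    apply Finset.sum_nonneg
    intro i _
    rw [← Complex.normSq_eq_conj_mul_self]
    exact Complex.normSq_nonneg _
  add_left := fun x y z => jd_core_add n ρ x y z
  smul_left := fun x y r => jd_core_smul n ρ x y r
  definite := by
    intro x hx
    have h0 : ∀ g ∈ (Finset.univ : Finset G),
        0 ≤ ∑ i : Fin n, Complex.normSq ((ρ g x) i) :=
      fun g _ => Finset.sum_nonneg (fun i _ => Complex.normSq_nonneg _)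
    have h1 : ∑ g : G, ∑ i : Fin n, Complex.normSq ((ρ g x) i) = 0 := by
      have h2 : ((∑ g : G, ∑ i : Fin n, Complex.normSq ((ρ g x) i) : ℝ) : ℂ) = 0 := by
        rw [← hx]
        unfold jdInner
        push_cast
        apply Finset.sum_congr rfl
        intro g _
        apply Finset.sum_congr rfl
        intro i _
        rw [Complex.normSq_eq_conj_mul_self]
      exact_mod_cast h2
    have h3 := (Finset.sum_eq_zero_iff_of_nonneg h0).mp h1 1 (Finset.mem_univ _)
    have h4 := (Finset.sum_eq_zero_iff_of_nonneg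
      (fun i _ => Complex.normSq_nonneg _)).mp h3
    funext i
    have h5 := h4 i (Finset.mem_univ _)
    rw [map_one] at h5
    exact Complex.normSq_eq_zero.mp h5

end JD6

theorem jd_rep_main {G : Type*} [Group G] [Finite G] (n : ℕ)
    (ρ : G →* ((Fin n → ℂ) →ₗ[ℂ] (Fin n → ℂ))) (hinj : Function.Injective ρ) :
    ∃ A : Subgroup G, A.Normal ∧ (∀ x ∈ A, ∀ y ∈ A, x * y = y * x) ∧
      ∀ H : Subgroup G, (∀ x ∈ H, ∀ y ∈ H, x * y = y * x) →
        (A.subgroupOf H).index ≤ 12 ^ n := by
  haveI : Fintype G := Fintype.ofFinite G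
  letI core : InnerProductSpace.Core ℂ (JdSpace n) := jdCore n ρ
  letI : NormedAddCommGroup (JdSpace n) :=
    @InnerProductSpace.Core.toNormedAddCommGroup ℂ (JdSpace n) _ _ _ core
  letI : InnerProductSpace ℂ (JdSpace n) := InnerProductSpace.ofCore _
  have hinner : ∀ u v : JdSpace n, ⟪u, v⟫_ℂ = jdInner n ρ u v := fun u v => rfl
  let U : G →* (JdSpace n →L[ℂ] JdSpace n) :=
    { toFun := fun g => LinearMap.toContinuousLinearMap
        (show JdSpace n →ₗ[ℂ] JdSpace n from ρ g)
      map_one' := by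
        ext v
        show ρ 1 v = v
        rw [map_one]
        rfl
      map_mul' := by
        intro a b
        ext v
        show ρ (a * b) v = ρ a (ρ b v)
        rw [map_mul]
        rfl }
  have hUv : ∀ g (v : JdSpace n), U g v = ρ g v := fun g v => rfl
  have hU : ∀ g (v : JdSpace n), ‖U g v‖ = ‖v‖ := by
    intro g v
    have h1 : ‖U g v‖ ^ 2 = ‖v‖ ^ 2 := by
      rw [← inner_self_eq_norm_sq (𝕜 := ℂ), ← inner_self_eq_norm_sq (𝕜 := ℂ), hinner, hinner, hUv,
        jd_inner_map]
    exact (sq_eq_sq₀ (norm_nonneg _) (norm_nonneg _)).mp h1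
  have hUinj : Function.Injective U := by
    intro a b hab
    apply hinj
    refine LinearMap.ext (fun v => ?_)
    have h1 : U a v = U b v := congrArg (fun T : JdSpace n →L[ℂ] JdSpace n => T v) hab
    exact h1
  have := jd_main U hU hUinj
  rw [jd_finrank] at this
  exact this

end Cfsg.Agent.Lib.Helper24
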