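import Mathlib
import Cfsg.Prelude.Def_GeometricClasses
import Cfsg.Agent.Lib.Helper27.ASC.Defs

set_option autoImplicit false
set_option linter.unusedVariables false
set_option linter.unusedSectionVars false
set_option linter.style.haveILetI false

namespace Cfsg.Agent.Lib.helper7.LX

open Cfsg Cfsg.Geo Cfsg.Agent.Lib.Helper27.ASC
open scoped MatrixGroups Matrix

variable {n : ℕ} {F : Type*} [Field F] [Fintype F]

omit [Fintype F] in
theorem lxsyi_conj_smul (R : Subgroup (GL (Fin n) F))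
    (hc : ∀ x ∈ R, ∀ y ∈ R, x * y * x⁻¹ * y⁻¹ ∈ scalars (Fin n) F)
    (y z : GL (Fin n) F) (hy : y ∈ R) (hz : z ∈ R) :
    ∃ c : Fˣ, (y : Matrix (Fin n) (Fin n) F) * (z : Matrix (Fin n) (Fin n) F) *
      ((y⁻¹ : GL (Fin n) F) : Matrix (Fin n) (Fin n) F) = (c : F) • (z : Matrix (Fin n) (Fin n) F) := by
  obtain ⟨c, hcc⟩ := (mem_scalars_iff _).mp (hc y hy z hz)
  refine ⟨c, ?_⟩
  have h1 : ((y * z * y⁻¹ * z⁻¹ : GL (Fin n) F) : Matrix (Fin n) (Fin n) F) *
      (z : Matrix (Fin n) (Fin n) F) = ((y * z * y⁻¹ : GL (Fin n) F) : Matrix (Fin n) (Fin n) F) := by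
    rw [← Units.val_mul]
    congr 1
    group
  rw [hcc, Matrix.smul_mul, Matrix.one_mul] at h1
  rw [h1, Units.val_mul, Units.val_mul]

omit [Fintype F] in
theorem lxsyi_sep (R : Subgroup (GL (Fin n) F))
    (hz : ∀ x ∈ R, x ∈ scalars (Fin n) F ↔ ∀ y ∈ R, x * y = y * x)
    (a b : GL (Fin n) F) (ha : a ∈ R) (hb : b ∈ R) (hab : a⁻¹ * b ∉ scalars (Fin n) F) :
    ∃ y ∈ R, y * a * y⁻¹ * a⁻¹ ≠ y * b * y⁻¹ * b⁻¹ := by
  have hmem : a⁻¹ * b ∈ R := R.mul_mem (R.inv_mem ha) hb
  have hnc : ¬ ∀ y ∈ R, a⁻¹ * b * y = y * (a⁻¹ * b) := fun h => hab ((hz _ hmem).mpr h)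
  push Not at hnc
  obtain ⟨y, hy, hne⟩ := hnc
  refine ⟨y, hy, fun heq => hne ?_⟩
  have h1 : y * a * y⁻¹ = (y * a * y⁻¹ * a⁻¹) * a := by group
  have h2 : y * b * y⁻¹ = (y * a * y⁻¹ * a⁻¹) * b := by rw [heq]; group
  have h7 : y * (a⁻¹ * b) * y⁻¹ = a⁻¹ * b := by
    have : y * (a⁻¹ * b) * y⁻¹ = (y * a * y⁻¹)⁻¹ * (y * b * y⁻¹) := by group
    rw [this, h2]
    group
  calc a⁻¹ * b * y = (y * (a⁻¹ * b) * y⁻¹) * y := by rw [h7]
    _ = y * (a⁻¹ * b) := by group

omit [Fintype F] in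
theorem lxsyi_comm_eq (y z w : GL (Fin n) F) (c : F)
    (hz : (y : Matrix (Fin n) (Fin n) F) * (z : Matrix (Fin n) (Fin n) F) *
      ((y⁻¹ : GL (Fin n) F) : Matrix (Fin n) (Fin n) F) = c • (z : Matrix (Fin n) (Fin n) F))
    (hw : (y : Matrix (Fin n) (Fin n) F) * (w : Matrix (Fin n) (Fin n) F) *
      ((y⁻¹ : GL (Fin n) F) : Matrix (Fin n) (Fin n) F) = c • (w : Matrix (Fin n) (Fin n) F)) :
    y * z * y⁻¹ * z⁻¹ = y * w * y⁻¹ * w⁻¹ := by
  apply Units.ext
  rw [Units.val_mul (y * z * y⁻¹) z⁻¹, Units.val_mul (y * w * y⁻¹) w⁻¹, Units.val_mul (y * z) y⁻¹,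
    Units.val_mul (y * w) y⁻¹, Units.val_mul y z, Units.val_mul y w, hz, hw, Matrix.smul_mul, Matrix.smul_mul,
    ← Units.val_mul, ← Units.val_mul, mul_inv_cancel, mul_inv_cancel]

theorem linearIndependent_of_comm_scalar (hn : 0 < n) (R : Subgroup (GL (Fin n) F))
    (hc : ∀ x ∈ R, ∀ y ∈ R, x * y * x⁻¹ * y⁻¹ ∈ scalars (Fin n) F)
    (hz : ∀ x ∈ R, x ∈ scalars (Fin n) F ↔ ∀ y ∈ R, x * y = y * x)
    {κ : Type*} (x : κ → GL (Fin n) F) (hx : ∀ k, x k ∈ R)
    (hdist : ∀ k l, k ≠ l → (x k)⁻¹ * x l ∉ scalars (Fin n) F) :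
    LinearIndependent F (fun k => ((x k : GL (Fin n) F) : Matrix (Fin n) (Fin n) F)) := by
  classical
  rw [linearIndependent_iff']
  intro s
  induction s using Finset.induction_on with
  | empty => intro g _ i hi; simp at hi
  | insert a s has ih =>
    intro g hg
    have hs : ∀ i ∈ s, g i = 0 := by
      intro i hi
      have hia : a ≠ i := fun h => has (h ▸ hi)
      obtain ⟨y, hy, hsep⟩ := lxsyi_sep R hz (x a) (x i) (hx a) (hx i) (hdist a i hia)
      choose c hcdef using fun k => lxsyi_conj_smul R hc y (x k) hy (hx k)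
      have hconj : ∑ j ∈ insert a s, (g j * (c j : F)) • ((x j : GL (Fin n) F) : Matrix (Fin n) (Fin n) F) = 0 := by
        have h1 : (y : Matrix (Fin n) (Fin n) F) *
            (∑ j ∈ insert a s, g j • ((x j : GL (Fin n) F) : Matrix (Fin n) (Fin n) F)) *
            ((y⁻¹ : GL (Fin n) F) : Matrix (Fin n) (Fin n) F) = 0 := by
          rw [hg, Matrix.mul_zero, Matrix.zero_mul]
        rw [Finset.mul_sum, Finset.sum_mul] at h1
        rw [← h1]
        apply Finset.sum_congr rfl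
        intro j _
        rw [Matrix.mul_smul, Matrix.smul_mul, hcdef j, smul_smul]
      have hsub : ∑ j ∈ s, (g j * ((c j : F) - (c a : F))) •
          ((x j : GL (Fin n) F) : Matrix (Fin n) (Fin n) F) = 0 := by
        have h2 : ∑ j ∈ insert a s, (g j * ((c j : F) - (c a : F))) •
            ((x j : GL (Fin n) F) : Matrix (Fin n) (Fin n) F) = 0 := by
          have : ∀ j, (g j * ((c j : F) - (c a : F))) • ((x j : GL (Fin n) F) : Matrix (Fin n) (Fin n) F) =
              (g j * (c j : F)) • ((x j : GL (Fin n) F) : Matrix (Fin n) (Fin n) F) -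
              (c a : F) • (g j • ((x j : GL (Fin n) F) : Matrix (Fin n) (Fin n) F)) := by
            intro j
            rw [smul_smul, ← sub_smul]
            congr 1
            ring
          simp only [this]
          rw [Finset.sum_sub_distrib, ← Finset.smul_sum, hconj, hg, smul_zero, sub_zero]
        rw [Finset.sum_insert has, sub_self, mul_zero, zero_smul, zero_add] at h2
        exact h2
      have h3 := ih _ hsub i hi
      rcases mul_eq_zero.mp h3 with h4 | h4
      · exact h4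
      · exfalso
        have h5 : (c i : F) = (c a : F) := sub_eq_zero.mp h4
        have h6 := hcdef i
        rw [h5] at h6
        exact hsep (lxsyi_comm_eq y (x a) (x i) (c a : F) (hcdef a) h6)
    intro i hi
    rcases Finset.mem_insert.mp hi with rfl | hi'
    · rw [Finset.sum_insert has] at hg
      have h1 : ∑ j ∈ s, g j • ((x j : GL (Fin n) F) : Matrix (Fin n) (Fin n) F) = 0 := by
        apply Finset.sum_eq_zero
        intro j hj
        rw [hs j hj, zero_smul]
      rw [h1, add_zero] at hg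
      by_contra hgi
      have h2 : ((x i : GL (Fin n) F) : Matrix (Fin n) (Fin n) F) = 0 := by
        rcases smul_eq_zero.mp hg with h | h
        · exact absurd h hgi
        · exact h
      haveI : Nonempty (Fin n) := ⟨⟨0, hn⟩⟩
      have h5 : IsUnit ((x i : GL (Fin n) F) : Matrix (Fin n) (Fin n) F) := ⟨x i, rfl⟩
      rw [h2] at h5
      exact not_isUnit_zero h5
    · exact hs i hi'

end Cfsg.Agent.Lib.helper7.LX
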