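import Mathlib
import Cfsg.Prelude.Def_GeometricClasses
import Cfsg.Agent.Lib.Helper27.ASC.Defs
import Cfsg.Agent.Lib.Helper11.ASGBURN
import Cfsg.Agent.Lib.Helper24.LXSYI

set_option autoImplicit false
set_option linter.unusedVariables false
set_option linter.unusedSectionVars false
set_option linter.style.haveILetI false

namespace Cfsg.Agent.Lib.helper7.LX

open Cfsg Cfsg.Geo Cfsg.Agent.Lib.Helper27.ASC
open scoped MatrixGroups Matrix

variable {n : ℕ} {F : Type*} [Field F] [Fintype F]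

theorem lxsyd_core (hn : 0 < n) (R : Subgroup (GL (Fin n) F)) (hA : AbsIrr R)
    (hc : ∀ x ∈ R, ∀ y ∈ R, x * y * x⁻¹ * y⁻¹ ∈ scalars (Fin n) F)
    (hz : ∀ x ∈ R, x ∈ scalars (Fin n) F ↔ ∀ y ∈ R, x * y = y * x) :
    n ^ 2 * Nat.card (Subgroup.center R) = Nat.card R := by
  classical
  haveI : Finite (GL (Fin n) F) := inferInstance
  set Z : Subgroup R := Subgroup.center R with hZ
  set x : R ⧸ Z → GL (Fin n) F := fun q => ((Quotient.out q : R) : GL (Fin n) F) with hxdef
  have hx : ∀ q, x q ∈ R := fun q => (Quotient.out q : R).2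
  have hcent_scalar : ∀ z : R, z ∈ Z → (z : GL (Fin n) F) ∈ scalars (Fin n) F := by
    intro z hzz
    rw [hz _ z.2]
    intro y hy
    have := Subgroup.mem_center_iff.mp hzz ⟨y, hy⟩
    have h2 := congrArg (Subtype.val) this
    simpa using h2.symm
  have hdist : ∀ q q' : R ⧸ Z, q ≠ q' → (x q)⁻¹ * x q' ∉ scalars (Fin n) F := by
    intro q q' hne hsc
    apply hne
    have hmemR : (x q)⁻¹ * x q' ∈ R := R.mul_mem (R.inv_mem (hx q)) (hx q')
    have hcomm := (hz _ hmemR).mp hsc
    have hcen : (Quotient.out q : R)⁻¹ * (Quotient.out q' : R) ∈ Z := by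
      refine Subgroup.mem_center_iff.mpr ?_
      intro g
      apply Subtype.ext
      have := hcomm g g.2
      simpa [hxdef] using this.symm
    have h3 : ((Quotient.out q : R) : R ⧸ Z) = ((Quotient.out q' : R) : R ⧸ Z) :=
      QuotientGroup.eq.mpr hcen
    rw [QuotientGroup.out_eq', QuotientGroup.out_eq'] at h3
    exact h3
  have hli := linearIndependent_of_comm_scalar hn R hc hz x hx hdist
  have hspan : ⊤ ≤ Submodule.span F (Set.range fun q : R ⧸ Z =>
      ((x q : GL (Fin n) F) : Matrix (Fin n) (Fin n) F)) := by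
    rw [← burnside_span hA]
    apply Submodule.span_le.mpr
    rintro _ ⟨g, hg, rfl⟩
    set q : R ⧸ Z := ((⟨g, hg⟩ : R) : R ⧸ Z) with hq
    have hzmem : (Quotient.out q : R)⁻¹ * (⟨g, hg⟩ : R) ∈ Z := by
      apply QuotientGroup.eq.mp
      rw [QuotientGroup.out_eq']
    obtain ⟨c, hcz⟩ := (mem_scalars_iff _).mp (hcent_scalar _ hzmem)
    have hg_eq : (g : Matrix (Fin n) (Fin n) F) = (c : F) • ((x q : GL (Fin n) F) : Matrix (Fin n) (Fin n) F) := by
      have h1 : g = x q * (((Quotient.out q : R)⁻¹ * (⟨g, hg⟩ : R) : R) : GL (Fin n) F) := by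
        simp [hxdef]
      rw [h1, Units.val_mul, hcz, Matrix.mul_smul, Matrix.mul_one]
    change (g : Matrix (Fin n) (Fin n) F) ∈ _
    rw [hg_eq]
    exact Submodule.smul_mem _ _ (Submodule.subset_span ⟨q, rfl⟩)
  let b := Module.Basis.mk hli hspan
  haveI : Fintype (R ⧸ Z) := Fintype.ofFinite _
  have hcard : Module.finrank F (Matrix (Fin n) (Fin n) F) = Fintype.card (R ⧸ Z) :=
    Module.finrank_eq_card_basis b
  rw [Module.finrank_matrix] at hcard
  simp only [Fintype.card_fin, Module.finrank_self, mul_one] at hcard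
  rw [Subgroup.card_eq_card_quotient_mul_card_subgroup Z, Nat.card_eq_fintype_card (α := R ⧸ Z), ← hcard]
  ring

end Cfsg.Agent.Lib.helper7.LX
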