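import Mathlib
import Cfsg.Prelude.Def_GeometricClasses
import Cfsg.Agent.Lib.Helper27.ASC.Defs
import Cfsg.Agent.Lib.helper2.LXSYC
import Cfsg.Agent.Lib.Helper24.LXSYDcore

set_option autoImplicit false
set_option linter.unusedVariables false
set_option linter.unusedSectionVars false

namespace Cfsg.Agent.Lib.helper7.LX

open Cfsg Cfsg.Geo Cfsg.Agent.Lib.Helper27.ASC
open scoped MatrixGroups Matrix

variable {n : ℕ} {F : Type*} [Field F] [Fintype F]

theorem symplType_degree (hn : 3 ≤ n) {r : ℕ} (R : Subgroup (GL (Fin n) F))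
    (hR : IsLinearSymplecticTypeData r R) :
    n ^ 2 * Nat.card (Subgroup.center R) = Nat.card R := by
  obtain ⟨hc, hz⟩ := symplType_comm_scalar hn R hR
  exact lxsyd_core (by omega) R hR.absIrred hc hz

end Cfsg.Agent.Lib.helper7.LX
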