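import Mathlib
import Cfsg.Agent.Lib.Helper28.Ld.Defs
import Cfsg.Agent.Lib.Helper28.Ld.Calc
import Cfsg.Agent.Lib.Helper11.LdSTAB

set_option autoImplicit false

namespace Cfsg.Agent.Lib.Helper24.Ld

open Matrix Cfsg.Agent.Lib.Helper28.Ld

section general

variable {ι : Type} [Fintype ι] [DecidableEq ι] {F : Type*} [Field F]

theorem exists_perm_two {α : Type} [DecidableEq α] (k j k' j' : α) (hkj : k ≠ j)
    (hkj' : k' ≠ j') : ∃ σ : Equiv.Perm α, σ k = k' ∧ σ j = j' := by
  have h1 : Equiv.swap k k' j ≠ k' := by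
    intro h
    have h2 : Equiv.swap k k' j = Equiv.swap k k' k := by rw [h, Equiv.swap_apply_left]
    exact hkj ((Equiv.swap k k').injective h2).symm
  refine ⟨Equiv.swap (Equiv.swap k k' j) j' * Equiv.swap k k', ?_, ?_⟩
  · rw [Equiv.Perm.mul_apply, Equiv.swap_apply_left]
    exact Equiv.swap_apply_of_ne_of_ne h1.symm hkj'
  · rw [Equiv.Perm.mul_apply, Equiv.swap_apply_left]

def monM (π : Equiv.Perm ι) (ε : ι → F) : Matrix ι ι F :=
  fun a b => if a = π b then ε b else 0

omit [Fintype ι] in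
theorem monM_apply (π : Equiv.Perm ι) (ε : ι → F) (a b : ι) :
    monM π ε a b = if a = π b then ε b else 0 := rfl

theorem monM_eq (π : Equiv.Perm ι) (ε : ι → F) :
    monM π ε = (π⁻¹).permMatrix F * Matrix.diagonal ε := by
  ext a b
  rw [Matrix.mul_diagonal, monM_apply, Equiv.Perm.permMatrix, Equiv.toPEquiv,
    PEquiv.toMatrix_apply]
  by_cases h : a = π b
  · have : (Equiv.symm π) a = b := by rw [h]; simp
    simp [h]
  · have : ¬ ((Equiv.symm π) a = b) := by
      intro hh; apply h; rw [← hh]; simp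
    simp [h, this]

theorem det_monM (π : Equiv.Perm ι) (ε : ι → F) :
    Matrix.det (monM π ε) = (((Equiv.Perm.sign π : ℤˣ) : ℤ) : F) * ∏ i, ε i := by
  rw [monM_eq, Matrix.det_mul, Matrix.det_diagonal, Matrix.det_permutation, Equiv.Perm.sign_inv]

theorem monM_mulVec_single (π : Equiv.Perm ι) (ε : ι → F) (b : ι) :
    monM π ε *ᵥ Pi.single b 1 = ε b • Pi.single (π b) 1 := by
  rw [Matrix.mulVec_single_one]
  funext a
  rw [Matrix.col_apply, monM_apply, Pi.smul_apply, smul_eq_mul]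
  by_cases h : a = π b
  · subst h; rw [if_pos rfl, Pi.single_eq_same, mul_one]
  · rw [if_neg h, Pi.single_eq_of_ne h, mul_zero]

theorem single_vecMul_monM (π : Equiv.Perm ι) (ε : ι → F) (b : ι) :
    Pi.single (π b) 1 ᵥ* monM π ε = ε b • Pi.single b 1 := by
  rw [Matrix.single_one_vecMul]
  funext a
  rw [Matrix.row_apply, monM_apply, Pi.smul_apply, smul_eq_mul]
  by_cases h : a = b
  · subst h; rw [if_pos rfl, Pi.single_eq_same, mul_one]
  · have : ¬ (π b = π a) := fun hh => h (π.injective hh).symm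
    rw [if_neg this, Pi.single_eq_of_ne h, mul_zero]

theorem intUnit_cast_sq (u : ℤˣ) : (((u : ℤˣ) : ℤ) : F) * (((u : ℤˣ) : ℤ) : F) = 1 := by
  rcases Int.units_eq_one_or u with h | h
  · rw [h]; simp
  · rw [h]; simp

theorem intUnit_cast_ne (u : ℤˣ) : (((u : ℤˣ) : ℤ) : F) ≠ 0 := by
  intro h
  have := intUnit_cast_sq (F := F) u
  rw [h, mul_zero] at this
  exact zero_ne_one this

theorem single_vecMul_inv (g : Matrix.GeneralLinearGroup ι F) (r : ι → F) (c : ι) (e : F)
    (he : e ≠ 0) (h : r ᵥ* (g : Matrix ι ι F) = e • Pi.single c 1) :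
    Pi.single c 1 ᵥ* ((g⁻¹ : Matrix.GeneralLinearGroup ι F) : Matrix ι ι F) = e⁻¹ • r := by
  have h1 : (r ᵥ* (g : Matrix ι ι F)) ᵥ* ((g⁻¹ : Matrix.GeneralLinearGroup ι F) : Matrix ι ι F)
      = r := by
    rw [Matrix.vecMul_vecMul, ← Units.val_mul, mul_inv_cancel, Units.val_one, Matrix.vecMul_one]
  rw [h, Matrix.smul_vecMul] at h1
  rw [← h1, smul_smul, inv_mul_cancel₀ he, one_smul]

end general

variable {t m : ℕ} {F : Type*} [Field F]

theorem perm_spread
    (M : Subgroup (Matrix.GeneralLinearGroup (Fin t × Fin m) F)) (hHM : H0 t m F ≤ M)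
    (k j : Fin t) (hkj : k ≠ j)
    (h : ∀ p q : Fin t × Fin m, p.1 = k → q.1 = j → T M (ee p : Fin t × Fin m → F) (ee q)) :
    ∀ p q : Fin t × Fin m, p.1 ≠ q.1 → T M (ee p : Fin t × Fin m → F) (ee q) := by
  intro p q hpq
  obtain ⟨σ, hσk, hσj⟩ := exists_perm_two k j p.1 q.1 hkj hpq
  set π : Equiv.Perm (Fin t × Fin m) := Equiv.prodCongr σ (Equiv.refl (Fin m)) with hπ
  have hπ1 : ∀ b : Fin t × Fin m, (π b).1 = σ b.1 := fun b => rfl
  have hπ2 : ∀ b : Fin t × Fin m, (π b).2 = b.2 := fun b => rfl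
  set s : F := (((Equiv.Perm.sign π : ℤˣ) : ℤ) : F) with hs
  set ε : Fin t × Fin m → F := Function.update (fun _ => (1 : F)) p s with hε
  have hε0 : ∀ b, ε b ≠ 0 := by
    intro b
    by_cases hb : b = p
    · rw [hε, hb, Function.update_self]
      exact intUnit_cast_ne _
    · rw [hε, Function.update_of_ne hb]
      exact one_ne_zero
  have hprod : ∏ i, ε i = s := by
    rw [hε, Finset.prod_update_of_mem (Finset.mem_univ p)]
    simp
  have hdet : Matrix.det (monM π ε) = 1 := by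
    rw [det_monM, hprod]
    exact intUnit_cast_sq _
  set g : Matrix.GeneralLinearGroup (Fin t × Fin m) F :=
    Matrix.GeneralLinearGroup.mkOfDetNeZero (monM π ε) (by rw [hdet]; exact one_ne_zero) with hg
  have hgc : (g : Matrix (Fin t × Fin m) (Fin t × Fin m) F) = monM π ε := rfl
  have hgM : g ∈ M := by
    apply hHM
    refine Subgroup.mem_inf.mpr ⟨?_, ?_⟩
    · apply Cfsg.Agent.Lib.Helper11.Ld.mem_Hs_of_entries g σ
      intro a b hab
      rw [hgc, monM_apply] at hab
      by_cases hh : a = π b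
      · rw [hh, hπ1]
      · rw [if_neg hh] at hab
        exact absurd rfl hab
    · change g ∈ (Matrix.GeneralLinearGroup.det : _ →* Fˣ).ker
      rw [MonoidHom.mem_ker]
      apply Units.ext
      rw [Matrix.GeneralLinearGroup.val_det_apply, hgc, hdet]
      rfl
  set p0 : Fin t × Fin m := π⁻¹ p with hp0
  set q0 : Fin t × Fin m := π⁻¹ q with hq0
  have hp0p : π p0 = p := by rw [hp0]; simp
  have hq0q : π q0 = q := by rw [hq0]; simp
  have hp0k : p0.1 = k := by
    apply σ.injective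
    rw [← hπ1, hp0p, hσk]
  have hq0j : q0.1 = j := by
    apply σ.injective
    rw [← hπ1, hq0q, hσj]
  have h0 := T_conj hgM (h p0 q0 hp0k hq0j)
  have e1 : (g : Matrix (Fin t × Fin m) (Fin t × Fin m) F) *ᵥ (ee p0 : Fin t × Fin m → F)
      = ε p0 • ee p := by
    rw [hgc, ee, monM_mulVec_single, hp0p]
    rfl
  have e2 : (ee q0 : Fin t × Fin m → F) ᵥ*
      ((g⁻¹ : Matrix.GeneralLinearGroup (Fin t × Fin m) F) : Matrix _ _ F)
      = (ε q0)⁻¹ • ee q := by
    apply single_vecMul_inv g (ee q) q0 (ε q0) (hε0 q0)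
    rw [hgc, ee, ← hq0q, single_vecMul_monM]
  rw [e1, e2] at h0
  exact T_of_smul_left (hε0 p0) (T_of_smul_right (inv_ne_zero (hε0 q0)) h0)

end Cfsg.Agent.Lib.Helper24.Ld
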