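import Mathlib
import Cfsg.Agent.Lib.Helper28.Ld.Defs
import Cfsg.Agent.Lib.Helper28.Ld.Calc
import Cfsg.Agent.Lib.Helper11.LdSTAB

set_option autoImplicit false

namespace Cfsg.Agent.Lib.Helper24.Ld

open Matrix Cfsg.Agent.Lib.Helper28.Ld

variable {t m : ℕ} {F : Type*} [Field F]

theorem ee_apply_self (p : Fin t × Fin m) : (ee p : Fin t × Fin m → F) p = 1 := by
  simp [ee]

theorem ee_apply_ne {p a : Fin t × Fin m} (h : a ≠ p) : (ee p : Fin t × Fin m → F) a = 0 := by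
  simp [ee, h]

theorem ee_inBlk (p : Fin t × Fin m) : InBlk p.1 (ee p : Fin t × Fin m → F) := by
  intro a ha
  exact ee_apply_ne (fun h => ha (by rw [h]))

theorem ee_ne_zero (p : Fin t × Fin m) : (ee p : Fin t × Fin m → F) ≠ 0 := by
  intro h
  have := congrFun h p
  rw [ee_apply_self] at this
  exact one_ne_zero this

theorem ee_dot (p : Fin t × Fin m) (x : Fin t × Fin m → F) : (ee p : Fin t × Fin m → F) ⬝ᵥ x = x p := by
  simp [ee]

theorem dot_ee (p : Fin t × Fin m) (x : Fin t × Fin m → F) : x ⬝ᵥ (ee p : Fin t × Fin m → F) = x p := by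
  simp [ee]

theorem elem_root (M : Subgroup (Matrix.GeneralLinearGroup (Fin t × Fin m) F))
    (hHM : H0 t m F ≤ M) (p q : Fin t × Fin m) (hpq : p ≠ q) (h1 : p.1 = q.1) :
    T M (ee p : Fin t × Fin m → F) (ee q) := by
  apply Cfsg.Agent.Lib.Helper11.Ld.block_root M hHM p.1
  · exact ee_inBlk p
  · rw [h1]
    exact ee_inBlk q
  · rw [ee_dot]
    exact ee_apply_ne hpq.symm

theorem exists_other (hm : 2 ≤ m) (k : Fin t) (p : Fin t × Fin m) :
    ∃ p' : Fin t × Fin m, p'.1 = k ∧ p' ≠ p := by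
  have : Nontrivial (Fin m) := Fin.nontrivial_iff_two_le.mpr hm
  obtain ⟨i, hi⟩ := exists_ne p.2
  exact ⟨(k, i), rfl, fun h => hi (by rw [← h])⟩

theorem exists_apply_ne_zero {x : Fin t × Fin m → F} (hx : x ≠ 0) : ∃ p, x p ≠ 0 := by
  by_contra hcon
  push Not at hcon
  exact hx (funext hcon)

theorem fst_ne_of_res {k : Fin t} {s : Fin t × Fin m → F} (hs : res k s = 0)
    {q : Fin t × Fin m} (hq : s q ≠ 0) : q.1 ≠ k := by
  intro h
  have := congrFun hs q
  simp only [res, h, if_true, Pi.zero_apply] at this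
  exact hq this

theorem spread_of_pair (hm : 2 ≤ m)
    (M : Subgroup (Matrix.GeneralLinearGroup (Fin t × Fin m) F)) (hHM : H0 t m F ≤ M)
    (k j : Fin t) (hkj : k ≠ j) (a b : Fin t × Fin m → F)
    (ha : InBlk k a) (ha0 : a ≠ 0) (hb : InBlk j b) (hb0 : b ≠ 0) (hT : T M a b) :
    ∀ p q : Fin t × Fin m, p.1 = k → q.1 = j → T M (ee p : Fin t × Fin m → F) (ee q) := by
  obtain ⟨p', hp'⟩ := exists_apply_ne_zero ha0
  have hp'k : p'.1 = k := by
    by_contra h
    exact hp' (ha p' h)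
  obtain ⟨q', hq'⟩ := exists_apply_ne_zero hb0
  have hq'j : q'.1 = j := by
    by_contra h
    exact hq' (hb q' h)
  have hB1 : ∀ p : Fin t × Fin m, p.1 = k → p ≠ p' → T M (ee p : Fin t × Fin m → F) b := by
    intro p hpk hpp'
    refine T_L3 (u := a) (φ := b) (v := ee p) (ψ := ee p') hT ?_ ?_ ?_
    · exact elem_root M hHM p p' hpp' (by rw [hpk, hp'k])
    · rw [dot_ee]
      exact hb p (by rw [hpk]; exact hkj)
    · rw [ee_dot]
      exact hp'
  have hB : ∀ p : Fin t × Fin m, p.1 = k → T M (ee p : Fin t × Fin m → F) b := by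
    intro p hpk
    by_cases hpp' : p = p'
    · obtain ⟨p1, hp1k, hp1⟩ := exists_other hm k p'
      have h1 := hB1 p1 hp1k hp1
      rw [hpp']
      refine T_L3 (u := ee p1) (φ := b) (v := ee p') (ψ := ee p1) h1 ?_ ?_ ?_
      · exact elem_root M hHM p' p1 hp1.symm (by rw [hp1k, hp'k])
      · rw [dot_ee]
        exact hb p' (by rw [hp'k]; exact hkj)
      · rw [ee_dot, ee_apply_self]
        exact one_ne_zero
    · exact hB1 p hpk hpp'
  intro p q hpk hqj
  have hpq : ∀ q0 : Fin t × Fin m, q0.1 = j → q0 ≠ p := by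
    intro q0 hq0 h
    apply hkj
    rw [← hpk, ← hq0, h]
  have hC1 : ∀ q : Fin t × Fin m, q.1 = j → q ≠ q' → T M (ee p : Fin t × Fin m → F) (ee q) := by
    intro q hqj hqq'
    refine T_L3 (u := ee q') (φ := ee q) (v := ee p) (ψ := b) ?_ (hB p hpk) ?_ ?_
    · exact elem_root M hHM q' q hqq'.symm (by rw [hqj, hq'j])
    · rw [ee_dot]
      exact ee_apply_ne (hpq q hqj)
    · rw [dot_ee]
      exact hq'
  by_cases hqq' : q = q'
  · obtain ⟨q1, hq1j, hq1⟩ := exists_other hm j q'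
    have h1 := hC1 q1 hq1j hq1
    rw [hqq']
    refine T_L3 (u := ee q1) (φ := ee q') (v := ee p) (ψ := ee q1) ?_ h1 ?_ ?_
    · exact elem_root M hHM q1 q' hq1 (by rw [hq1j, hq'j])
    · rw [ee_dot]
      exact ee_apply_ne (hpq q' hq'j)
    · rw [ee_dot, ee_apply_self]
      exact one_ne_zero
  · exact hC1 q hqj hqq'

theorem spread (hm : 2 ≤ m)
    (M : Subgroup (Matrix.GeneralLinearGroup (Fin t × Fin m) F)) (hHM : H0 t m F ≤ M)
    (h : Cross M ∨ Cross' M) :
    ∃ k j : Fin t, k ≠ j ∧ ∀ p q : Fin t × Fin m, p.1 = k → q.1 = j →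
      T M (ee p : Fin t × Fin m → F) (ee q) := by
  rcases h with h | h
  · obtain ⟨k, a, s, ha, ha0, hs, hs0, hT⟩ := h
    obtain ⟨q0, hq0⟩ := exists_apply_ne_zero hs0
    have hq0k : q0.1 ≠ k := fst_ne_of_res hs hq0
    obtain ⟨q1, hq1j, hq1⟩ := exists_other hm q0.1 q0
    refine ⟨k, q0.1, hq0k.symm, ?_⟩
    apply spread_of_pair hm M hHM k q0.1 hq0k.symm a (ee q1) ha ha0 ?_ (ee_ne_zero q1)
    · refine T_L3 (u := ee q0) (φ := ee q1) (v := a) (ψ := s) ?_ hT ?_ ?_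
      · exact elem_root M hHM q0 q1 hq1.symm hq1j.symm
      · rw [ee_dot]
        exact ha q1 (by rw [hq1j]; exact hq0k)
      · rw [dot_ee]
        exact hq0
    · rw [← hq1j]
      exact ee_inBlk q1
  · obtain ⟨k, w, b, hb, hb0, hw, hw0, hT⟩ := h
    obtain ⟨q0, hq0⟩ := exists_apply_ne_zero hw0
    have hq0k : q0.1 ≠ k := fst_ne_of_res hw hq0
    obtain ⟨q1, hq1j, hq1⟩ := exists_other hm q0.1 q0
    refine ⟨q0.1, k, hq0k, ?_⟩
    apply spread_of_pair hm M hHM q0.1 k hq0k (ee q1) b ?_ (ee_ne_zero q1) hb hb0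
    · refine T_L3 (u := w) (φ := b) (v := ee q1) (ψ := ee q0) hT ?_ ?_ ?_
      · exact elem_root M hHM q1 q0 hq1 hq1j
      · rw [dot_ee]
        exact hb q1 (by rw [hq1j]; exact hq0k)
      · rw [ee_dot]
        exact hq0
    · rw [← hq1j]
      exact ee_inBlk q1

end Cfsg.Agent.Lib.Helper24.Ld
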