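import Mathlib
import Cfsg.Agent.Lib.Helper18.PRL.Defs
import Cfsg.Agent.Lib.helper23.PRLPB
import Cfsg.Agent.Lib.helper23.PRLCH1
import Cfsg.Agent.Lib.Helper12.PRLG1a

set_option autoImplicit false
set_option linter.style.haveILetI false

namespace Cfsg.Agent.Lib.helper4.MCP

open Cfsg.Agent.Lib.Helper18.PRL
open scoped commutatorElement

universe u

section mc
variable {p : ℕ} [Fact p.Prime] {G : Type u} [Group G] [Finite G] {n : ℕ}

theorem exists_small_centralizer_of_nonabelian (h : MC p G n) (hn : 4 ≤ n) (E : Subgroup G)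
    (hE : Nat.card E = p ^ 3) (hna : ¬ IsMulCommutative ↥E)
    (hC : Subgroup.centralizer (E : Set G) ≤ E) :
    ∃ s : G, Nat.card (Subgroup.centralizer ({s} : Set G)) ≤ p ^ 2 := by
  have hX : Nat.card G = p ^ n := h.1
  classical
  have hp : p.Prime := Fact.out
  have hpg : IsPGroup p G := IsPGroup.of_card hX
  haveI : Group.IsNilpotent G := hpg.isNilpotent
  obtain ⟨a, ha, b, hb, hab⟩ : ∃ a ∈ E, ∃ b ∈ E, a * b ≠ b * a := by
    by_contra hcon
    push Not at hcon
    apply hna
    exact ⟨⟨fun x y => Subtype.ext (hcon x x.2 y y.2)⟩⟩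
  have hn3 : 3 ≤ n := by
    have h1 : p ^ 3 ∣ p ^ n := by
      rw [← hE, ← hX]
      exact Subgroup.card_subgroup_dvd_card E
    exact (Nat.pow_dvd_pow_iff_le_right hp.one_lt).mp h1
  haveI : Nontrivial G := by
    rw [← Finite.one_lt_card_iff_nontrivial, hX]
    exact Nat.one_lt_pow (by omega) hp.one_lt
  have hZC : Subgroup.center G ≤ Subgroup.centralizer (E : Set G) := Subgroup.center_le_centralizer _
  have hZE : Subgroup.center G ≤ E := hZC.trans hC
  have hcent : ∀ y : G, y * a = a * y → y * b = b * y → y ∈ Subgroup.centralizer (E : Set G) := by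
    intro y hya hyb
    have hH : E ⊓ Subgroup.centralizer ({y} : Set G) = E := by
      apply h23_eq_of_noncomm (p := p) E _ hE inf_le_left a b
      · refine Subgroup.mem_inf.mpr ⟨ha, ?_⟩
        rw [Subgroup.mem_centralizer_iff]
        intro w hw
        rw [Set.mem_singleton_iff] at hw
        rw [hw]
        exact hya
      · refine Subgroup.mem_inf.mpr ⟨hb, ?_⟩
        rw [Subgroup.mem_centralizer_iff]
        intro w hw
        rw [Set.mem_singleton_iff] at hw
        rw [hw]
        exact hyb
      · exact hab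
    rw [Subgroup.mem_centralizer_iff]
    intro e he
    have he' : e ∈ E ⊓ Subgroup.centralizer ({y} : Set G) := by
      rw [hH]
      exact he
    have := (Subgroup.mem_inf.mp he').2
    rw [Subgroup.mem_centralizer_iff] at this
    exact (this y (Set.mem_singleton y)).symm
  have hCcard : Nat.card (Subgroup.centralizer (E : Set G)) ∣ p := by
    have hZEcard : Nat.card (Subgroup.center ↥E) = p := by
      obtain ⟨k, hk0, hk⟩ := IsPGroup.card_center_eq_prime_pow (G := ↥E) hE (by norm_num)
      have hk3 : k ≤ 3 := by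
        have h1 : p ^ k ∣ p ^ 3 := by
          rw [← hk, ← hE]
          exact Subgroup.card_subgroup_dvd_card _
        exact (Nat.pow_dvd_pow_iff_le_right hp.one_lt).mp h1
      have hk1 : k = 1 := by
        by_contra hk1
        have hk2 : 2 ≤ k := by omega
        have hidx := Subgroup.card_mul_index (Subgroup.center ↥E)
        rw [hk, hE] at hidx
        have hsplit : p ^ 3 = p ^ k * p ^ (3 - k) := by
          rw [← pow_add]
          congr 1
          omega
        rw [hsplit] at hidx
        have hI : (Subgroup.center ↥E).index = p ^ (3 - k) :=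
          Nat.eq_of_mul_eq_mul_left (pow_pos hp.pos k) hidx
        have hq : Nat.card (↥E ⧸ Subgroup.center ↥E) = p ^ (3 - k) := by
          rw [← Subgroup.index_eq_card, hI]
        have hcyc : IsCyclic (↥E ⧸ Subgroup.center ↥E) := by
          have h01 : 3 - k = 0 ∨ 3 - k = 1 := by omega
          rcases h01 with h0 | h1
          · rw [h0, pow_zero] at hq
            haveI : Subsingleton (↥E ⧸ Subgroup.center ↥E) :=
              (Nat.card_eq_one_iff_unique.mp hq).1
            infer_instance
          · rw [h1, pow_one] at hq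
            exact isCyclic_of_prime_card hq
        apply hna
        exact isMulCommutative_of_isCyclic_quotient_center_self ↥E
      rw [hk, hk1, pow_one]
    have hinj : Nat.card (Subgroup.centralizer (E : Set G)) ≤ Nat.card (Subgroup.center ↥E) := by
      apply Nat.card_le_card_of_injective
        (fun c : Subgroup.centralizer (E : Set G) =>
          (⟨⟨(c : G), hC c.2⟩, by
            rw [Subgroup.mem_center_iff]
            intro e
            apply Subtype.ext
            have := c.2
            rw [Subgroup.mem_centralizer_iff] at this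
            simpa using this (e : G) e.2⟩ : Subgroup.center ↥E))
      intro c d hcd
      apply Subtype.ext
      have := congrArg (fun w : Subgroup.center ↥E => ((w : ↥E) : G)) hcd
      simpa using this
    rw [hZEcard] at hinj
    obtain ⟨k, hk⟩ := (hpg.to_subgroup (Subgroup.centralizer (E : Set G))).exists_card_eq
    rw [hk] at hinj ⊢
    have : k ≤ 1 := by
      by_contra hcon
      push Not at hcon
      have : p ^ 2 ≤ p ^ k := Nat.pow_le_pow_right hp.pos hcon
      have hp2 : p < p ^ 2 := by
        calc p = p ^ 1 := (pow_one p).symm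
          _ < p ^ 2 := Nat.pow_lt_pow_right hp.one_lt (by norm_num)
      omega
    calc p ^ k ∣ p ^ 1 := pow_dvd_pow p this
      _ = p := pow_one p
  haveI := hpg.center_nontrivial
  have hZcard : Nat.card (Subgroup.center G) = p := by
    have h1 : Nat.card (Subgroup.center G) ∣ p :=
      (Subgroup.card_dvd_of_le hZC).trans hCcard
    rcases (Nat.dvd_prime hp).mp h1 with h | h
    · exfalso
      have := Finite.one_lt_card_iff_nontrivial.mpr ‹Nontrivial (Subgroup.center G)›
      omega
    · exact h
  have hCZ : Subgroup.centralizer (E : Set G) = Subgroup.center G := by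
    symm
    apply Subgroup.eq_of_le_of_card_ge hZC
    rw [hZcard]
    exact Nat.le_of_dvd hp.pos hCcard
  set π := QuotientGroup.mk' (Subgroup.center G) with hπ
  have hπs : Function.Surjective π := QuotientGroup.mk'_surjective _
  have hQcard : Nat.card (G ⧸ Subgroup.center G) = p ^ (n - 1) := by
    have h1 := Subgroup.card_mul_index (Subgroup.center G)
    rw [hZcard, hX, Subgroup.index_eq_card] at h1
    have hsplit : p ^ n = p * p ^ (n - 1) := by
      rw [← pow_succ']
      congr 1
      omega
    rw [hsplit] at h1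
    exact Nat.eq_of_mul_eq_mul_left hp.pos h1
  have hcm : (E.map π).comap π = E := by
    rw [Subgroup.comap_map_eq, hπ, QuotientGroup.ker_mk']
    exact sup_eq_left.mpr hZE
  have hAcard : Nat.card (E.map π) = p ^ 2 := by
    have hidx : ((E.map π).comap π).index = (E.map π).index :=
      Subgroup.index_comap_of_surjective _ hπs
    rw [hcm] at hidx
    have h1 := Subgroup.card_mul_index E
    have h2 := Subgroup.card_mul_index (E.map π)
    rw [hE, hX] at h1
    rw [hQcard, ← hidx] at h2
    have hsplit : p ^ n = p ^ 3 * p ^ (n - 3) := by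
      rw [← pow_add]
      congr 1
      omega
    rw [hsplit] at h1
    have hI : E.index = p ^ (n - 3) := Nat.eq_of_mul_eq_mul_left (pow_pos hp.pos 3) h1
    rw [hI] at h2
    have hsplit2 : p ^ (n - 1) = p ^ 2 * p ^ (n - 3) := by
      rw [← pow_add]
      congr 1
      omega
    rw [hsplit2] at h2
    exact Nat.eq_of_mul_eq_mul_right (pow_pos hp.pos _) h2
  have hEE : ∀ e₁ ∈ E, ∀ e₂ ∈ E, ⁅e₁, e₂⁆ ∈ Subgroup.center G := by
    intro e₁ h₁ e₂ h₂
    have hcomm := h23_comm_of_card_le_sq (p := p) 2 le_rfl hAcard
      (⟨π e₁, Subgroup.mem_map_of_mem π h₁⟩ : E.map π) ⟨π e₂, Subgroup.mem_map_of_mem π h₂⟩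
    have h3 : π e₁ * π e₂ = π e₂ * π e₁ := congrArg Subtype.val hcomm
    have h4 : π ⁅e₁, e₂⁆ = 1 := by
      rw [map_commutatorElement, commutatorElement_eq_one_iff_mul_comm]
      exact h3
    rw [hπ, QuotientGroup.mk'_apply, QuotientGroup.eq_one_iff] at h4
    exact h4
  have hkey : ∀ x : G, (∀ e ∈ E, ⁅x, e⁆ ∈ Subgroup.center G) → x ∈ E := by
    intro x hx
    set z := ⁅a, b⁆ with hz
    have hzZ : z ∈ Subgroup.center G := hEE a ha b hb
    have hz1 : z ≠ 1 := by
      intro h1
      exact hab (commutatorElement_eq_one_iff_mul_comm.mp h1)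
    have hgen : ∀ c ∈ Subgroup.center G, ∃ i : ℕ, c = z ^ i := by
      intro c hc
      have hzo : orderOf (⟨z, hzZ⟩ : Subgroup.center G) = p := by
        have h1 : orderOf (⟨z, hzZ⟩ : Subgroup.center G) ∣ p := by
          rw [← hZcard]
          exact orderOf_dvd_natCard _
        rcases (Nat.dvd_prime hp).mp h1 with h | h
        · exfalso
          rw [orderOf_eq_one_iff] at h
          exact hz1 (congrArg Subtype.val h)
        · exact h
      have htop : Subgroup.zpowers (⟨z, hzZ⟩ : Subgroup.center G) = ⊤ := by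
        apply Subgroup.eq_top_of_card_eq
        rw [Nat.card_zpowers, hzo, hZcard]
      have hmem : (⟨c, hc⟩ : Subgroup.center G) ∈ Subgroup.zpowers (⟨z, hzZ⟩ : Subgroup.center G) := by
        rw [htop]
        exact Subgroup.mem_top _
      rw [← mem_powers_iff_mem_zpowers, Submonoid.mem_powers_iff] at hmem
      obtain ⟨i, hi⟩ := hmem
      refine ⟨i, ?_⟩
      have := congrArg Subtype.val hi
      simpa using this.symm
    have hzp : z ^ p = 1 := by
      have h1 : (⟨z, hzZ⟩ : Subgroup.center G) ^ p = 1 := by
        rw [← hZcard]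
        exact pow_card_eq_one'
      have := congrArg Subtype.val h1
      simpa using this
    obtain ⟨i, hi⟩ := hgen _ (hx a ha)
    obtain ⟨j, hj⟩ := hgen _ (hx b hb)
    have hba : ⁅b, a⁆ = z⁻¹ := by rw [hz, commutatorElement_inv]
    have hbaZ : ⁅b, a⁆ ∈ Subgroup.center G := hEE b hb a ha
    set e := a ^ ((p - 1) * j) * b ^ i with he
    have heE : e ∈ E := E.mul_mem (E.pow_mem ha _) (E.pow_mem hb _)
    have h1 : ⁅e, a⁆ = (z⁻¹) ^ i := by
      have hc1 : ⁅b ^ i, a⁆ ∈ Subgroup.center G := hEE _ (E.pow_mem hb _) a ha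
      rw [he, h23_comm_mul_left _ _ a hc1, h23_comm_pow_left b a hbaZ, hba]
      have : ⁅a ^ ((p - 1) * j), a⁆ = 1 := by
        rw [commutatorElement_eq_one_iff_mul_comm]
        exact ((Commute.refl a).pow_left _).eq
      rw [this, one_mul]
    have h2 : ⁅e, b⁆ = z ^ ((p - 1) * j) := by
      have hc1 : ⁅b ^ i, b⁆ ∈ Subgroup.center G := hEE _ (E.pow_mem hb _) b hb
      rw [he, h23_comm_mul_left _ _ b hc1, h23_comm_pow_left a b hzZ]
      have : ⁅b ^ i, b⁆ = 1 := by
        rw [commutatorElement_eq_one_iff_mul_comm]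
        exact ((Commute.refl b).pow_left _).eq
      rw [this, mul_one]
    have h3 : ⁅x * e, a⁆ = 1 := by
      rw [h23_comm_mul_left x e a (hEE e heE a ha), hi, h1, inv_pow, mul_inv_cancel]
    have h4 : ⁅x * e, b⁆ = 1 := by
      rw [h23_comm_mul_left x e b (hEE e heE b hb), hj, h2, ← pow_add]
      have : j + (p - 1) * j = p * j := by
        have hp1 : 1 ≤ p := hp.pos
        calc j + (p - 1) * j = (1 + (p - 1)) * j := by ring
          _ = p * j := by rw [Nat.add_sub_cancel' hp1]
      rw [this, pow_mul, hzp, one_pow]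
    have h5 := hcent (x * e) (commutatorElement_eq_one_iff_mul_comm.mp h3)
      (commutatorElement_eq_one_iff_mul_comm.mp h4)
    have h6 : x * e ∈ E := hC h5
    have : x = x * e * e⁻¹ := by group
    rw [this]
    exact E.mul_mem h6 (E.inv_mem heE)
  have hZ1 : Z G 1 = Subgroup.center G := Subgroup.upperCentralSeries_one G
  have hZ2E : Z G 2 ≤ E := by
    intro x hx
    apply hkey
    intro e he
    have h1 : ⁅x, e⁆ ∈ Z G 1 := by
      have h2 := (Subgroup.mem_upperCentralSeries_succ_iff (G := G) (n := 1) (x := x)).mp hx e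
      rw [commutatorElement_def]
      exact h2
    rw [hZ1] at h1
    exact h1
  have hZ2card : Nat.card (Z G 2) = p ^ 2 := card_Z h (by omega) 2 (by omega)
  obtain ⟨s, hsE, hsZ⟩ : ∃ s ∈ E, s ∉ Z G 2 := by
    by_contra hcon
    push Not at hcon
    have h1 : Nat.card E ≤ Nat.card (Z G 2) := Subgroup.card_le_of_le hcon
    rw [hE, hZ2card] at h1
    have h2 : p ^ 2 < p ^ 3 := Nat.pow_lt_pow_right hp.one_lt (by norm_num)
    omega
  refine ⟨s, ?_⟩
  have hCG1 : Subgroup.centralizer ({s} : Set G) ⊓ G1 G ≤ Subgroup.centralizer (E : Set G) := by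
    intro y hy
    obtain ⟨hy1, hy2⟩ := Subgroup.mem_inf.mp hy
    have hH : E ⊓ Subgroup.centralizer ({y} : Set G) = E := by
      apply Subgroup.eq_of_le_of_card_ge inf_le_left
      have hdvd : Nat.card (E ⊓ Subgroup.centralizer ({y} : Set G) : Subgroup G) ∣ p ^ 3 := by
        rw [← hE]
        exact Subgroup.card_dvd_of_le inf_le_left
      obtain ⟨k, hk3, hk⟩ := (Nat.dvd_prime_pow hp).mp hdvd
      have hZle : Z G 2 ≤ E ⊓ Subgroup.centralizer ({y} : Set G) := by
        intro z hz
        refine Subgroup.mem_inf.mpr ⟨hZ2E hz, ?_⟩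
        rw [Subgroup.mem_centralizer_iff]
        intro w hw
        rw [Set.mem_singleton_iff] at hw
        rw [hw]
        unfold G1 at hy2
        rw [Subgroup.mem_centralizer_iff] at hy2
        exact (hy2 z hz).symm
      have hsm : s ∈ E ⊓ Subgroup.centralizer ({y} : Set G) := by
        refine Subgroup.mem_inf.mpr ⟨hsE, ?_⟩
        rw [Subgroup.mem_centralizer_iff]
        intro w hw
        rw [Set.mem_singleton_iff] at hw
        rw [hw]
        rw [Subgroup.mem_centralizer_iff] at hy1
        exact (hy1 s (Set.mem_singleton s)).symm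
      have hk2 : 3 ≤ k := by
        by_contra hcon
        have hk2 : k ≤ 2 := by omega
        have h1 : Nat.card (E ⊓ Subgroup.centralizer ({y} : Set G) : Subgroup G) ≤
            Nat.card (Z G 2) := by
          rw [hk, hZ2card]
          exact Nat.pow_le_pow_right hp.pos hk2
        have h2 := Subgroup.eq_of_le_of_card_ge hZle h1
        rw [← h2] at hsm
        exact hsZ hsm
      rw [hE, hk]
      exact Nat.pow_le_pow_right hp.pos hk2
    rw [Subgroup.mem_centralizer_iff]
    intro e he
    have he' : e ∈ E ⊓ Subgroup.centralizer ({y} : Set G) := by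
      rw [hH]
      exact he
    have h1 := (Subgroup.mem_inf.mp he').2
    rw [Subgroup.mem_centralizer_iff] at h1
    exact (h1 y (Set.mem_singleton y)).symm
  have hcard1 : Nat.card (Subgroup.centralizer ({s} : Set G) ⊓ G1 G : Subgroup G) ≤ p := by
    calc Nat.card (Subgroup.centralizer ({s} : Set G) ⊓ G1 G : Subgroup G)
        ≤ Nat.card (Subgroup.centralizer (E : Set G)) := Subgroup.card_le_of_le hCG1
      _ = p := by rw [hCZ, hZcard]
  have hrel : (G1 G).relIndex (Subgroup.centralizer ({s} : Set G)) ≤ p := by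
    have h1 : (G1 G).relIndex (Subgroup.centralizer ({s} : Set G)) ≤ (G1 G).relIndex ⊤ := by
      apply Subgroup.relIndex_le_of_le_right le_top
      rw [Subgroup.relIndex_top_right, G1_index h hn]
      exact hp.ne_zero
    rw [Subgroup.relIndex_top_right, G1_index h hn] at h1
    exact h1
  have hmul := Subgroup.relIndex_mul_relIndex (⊥ : Subgroup G)
    (Subgroup.centralizer ({s} : Set G) ⊓ G1 G) (Subgroup.centralizer ({s} : Set G)) bot_le
    inf_le_left
  rw [Subgroup.relIndex_bot_left, Subgroup.relIndex_bot_left, Subgroup.inf_relIndex_left] at hmul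
  rw [← hmul, pow_two]
  exact Nat.mul_le_mul hcard1 hrel

end mc

end Cfsg.Agent.Lib.helper4.MCP
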