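import Mathlib

set_option autoImplicit false
set_option linter.style.haveILetI false
set_option linter.unusedVariables false
set_option maxHeartbeats 800000

namespace Cfsg.Agent.Lib.Helper24
open scoped ComplexConjugate

theorem mj_geom (N : ℕ) (μ : ℂ) (hμ : μ ^ N = 1) :
    ∑ j ∈ Finset.range N, μ ^ j = if μ = 1 then (N : ℂ) else 0 := by
  split_ifs with h
  · subst h
    simp
  · rw [geom_sum_eq h N, hμ, sub_self, zero_div]

theorem mj_coprime_iff (p : ℕ) (hp : p.Prime) (k j : ℕ) :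
    Nat.Coprime (p ^ (k + 1)) j ↔ ¬ p ∣ j := by
  rw [Nat.coprime_pow_left_iff (Nat.succ_pos k), Nat.Prime.coprime_iff_not_dvd hp]

theorem mj_mult_sum (p : ℕ) (hp : p.Prime) (k : ℕ) (μ : ℂ) :
    ∑ j ∈ (Finset.range (p ^ (k + 1))).filter (fun j => p ∣ j), μ ^ j =
      ∑ t ∈ Finset.range (p ^ k), (μ ^ p) ^ t := by
  have himg : (Finset.range (p ^ (k + 1))).filter (fun j => p ∣ j) =
      (Finset.range (p ^ k)).image (fun t => p * t) := by
    ext j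
    simp only [Finset.mem_filter, Finset.mem_range, Finset.mem_image]
    constructor
    · rintro ⟨hj, t, rfl⟩
      refine ⟨t, ?_, rfl⟩
      rw [pow_succ, mul_comm (p ^ k) p] at hj
      exact lt_of_mul_lt_mul_left hj (Nat.zero_le p)
    · rintro ⟨t, ht, rfl⟩
      refine ⟨?_, dvd_mul_right p t⟩
      rw [pow_succ, mul_comm (p ^ k) p]
      exact Nat.mul_lt_mul_of_pos_left ht hp.pos
  rw [himg, Finset.sum_image]
  · refine Finset.sum_congr rfl fun t _ => ?_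
    rw [pow_mul]
  · intro a _ b _ hab
    exact Nat.eq_of_mul_eq_mul_left hp.pos hab

theorem mj_ram (p : ℕ) (hp : p.Prime) (k : ℕ) (μ : ℂ) (hμ : μ ^ (p ^ (k + 1)) = 1) :
    ∑ j ∈ (Finset.range (p ^ (k + 1))).filter (Nat.Coprime (p ^ (k + 1))), μ ^ j =
      (if μ = 1 then ((p ^ (k + 1) : ℕ) : ℂ) else 0) -
        (if μ ^ p = 1 then ((p ^ k : ℕ) : ℂ) else 0) := by
  have hfil : (Finset.range (p ^ (k + 1))).filter (Nat.Coprime (p ^ (k + 1))) =
      (Finset.range (p ^ (k + 1))).filter (fun j => ¬ p ∣ j) := by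
    apply Finset.filter_congr
    intro j _
    exact mj_coprime_iff p hp k j
  rw [hfil]
  have h1 := Finset.sum_filter_add_sum_filter_not (Finset.range (p ^ (k + 1)))
    (fun j => p ∣ j) (fun j => μ ^ j)
  have h2 := mj_geom (p ^ (k + 1)) μ hμ
  have h3 : (μ ^ p) ^ (p ^ k) = 1 := by
    rw [← pow_mul, ← pow_succ']
    exact hμ
  have h4 := mj_geom (p ^ k) (μ ^ p) h3
  rw [mj_mult_sum p hp k μ, h4] at h1
  rw [h2] at h1
  rw [← h1]
  ring

theorem mj_ram_pair (p : ℕ) (hp : p.Prime) (k : ℕ) (ζ : ℂ)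
    (hζ : IsPrimitiveRoot ζ (p ^ (k + 1))) (a b : ℕ) (ha : a < p ^ (k + 1))
    (hb : b < p ^ (k + 1)) :
    ∑ j ∈ (Finset.range (p ^ (k + 1))).filter (Nat.Coprime (p ^ (k + 1))),
        (ζ ^ a * conj (ζ ^ b)) ^ j =
      (if a = b then ((p ^ (k + 1) : ℕ) : ℂ) else 0) -
        (if a % p ^ k = b % p ^ k then ((p ^ k : ℕ) : ℂ) else 0) := by
  have hn0 : p ^ (k + 1) ≠ 0 := pow_ne_zero _ hp.ne_zero
  have hnorm : ‖ζ‖ = 1 := Complex.norm_eq_one_of_pow_eq_one hζ.pow_eq_one hn0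
  have hbn : ‖ζ ^ b‖ = 1 := by rw [norm_pow, hnorm, one_pow]
  have hcb : conj (ζ ^ b) = (ζ ^ b)⁻¹ := (Complex.inv_eq_conj hbn).symm
  have hμ : (ζ ^ a * conj (ζ ^ b)) ^ (p ^ (k + 1)) = 1 := by
    rw [mul_pow, ← map_pow, ← pow_mul, ← pow_mul, mul_comm a, mul_comm b, pow_mul, pow_mul,
      hζ.pow_eq_one, one_pow, one_pow, map_one, mul_one]
  rw [mj_ram p hp k _ hμ]
  have hb0 : ζ ^ b ≠ 0 := by
    intro h0
    rw [h0, norm_zero] at hbn
    exact zero_ne_one hbn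
  have e1 : (ζ ^ a * conj (ζ ^ b) = 1) ↔ a = b := by
    rw [hcb, mul_inv_eq_one₀ hb0]
    exact ⟨fun h => hζ.pow_inj ha hb h, fun h => by rw [h]⟩
  have hζp : IsPrimitiveRoot (ζ ^ p) (p ^ k) := by
    apply hζ.pow (Nat.pos_of_ne_zero hn0)
    rw [pow_succ, mul_comm]
  have e2 : ((ζ ^ a * conj (ζ ^ b)) ^ p = 1) ↔ a % p ^ k = b % p ^ k := by
    rw [hcb, mul_pow, inv_pow, mul_inv_eq_one₀ (pow_ne_zero _ hb0), ← pow_mul, ← pow_mul,
      mul_comm a, mul_comm b, pow_mul, pow_mul]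
    have h1 : orderOf (ζ ^ p) = p ^ k := hζp.eq_orderOf.symm
    have hfin : IsOfFinOrder (ζ ^ p) :=
      isOfFinOrder_iff_pow_eq_one.mpr ⟨p ^ k, pow_pos hp.pos k, hζp.pow_eq_one⟩
    rw [hfin.pow_inj_mod, h1]
  simp only [e1, e2]

end Cfsg.Agent.Lib.Helper24
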