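import Mathlib

set_option autoImplicit false
set_option linter.style.haveILetI false
set_option linter.unusedVariables false
set_option maxHeartbeats 1600000

namespace Cfsg.Agent.Lib.Helper24
open scoped ComplexConjugate

theorem mj_proj_key {ι : Type*} (s : Finset ι) (U : ι → ι → ℂ) (D : ℂ)
    (hH : ∀ χ ψ, U ψ χ = conj (U χ ψ))
    (hidem : ∀ χ ∈ s, ∀ χ' ∈ s, ∑ ψ ∈ s, U χ ψ * conj (U χ' ψ) = D * U χ χ')
    (w : ι → ℂ) :
    ∑ χ ∈ s, (∑ ψ ∈ s, U χ ψ * w ψ) * conj (∑ ψ ∈ s, U χ ψ * w ψ) =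
      D * ∑ χ ∈ s, conj (w χ) * ∑ ψ ∈ s, U χ ψ * w ψ := by
  have h1 : ∀ χ ∈ s, (∑ ψ ∈ s, U χ ψ * w ψ) * conj (∑ ψ ∈ s, U χ ψ * w ψ) =
      ∑ ψ ∈ s, ∑ ψ' ∈ s, (w ψ * conj (w ψ')) * (U ψ' χ * conj (U ψ χ)) := by
    intro χ _
    rw [map_sum, Finset.sum_mul_sum]
    refine Finset.sum_congr rfl fun ψ _ => ?_
    refine Finset.sum_congr rfl fun ψ' _ => ?_
    rw [map_mul, hH χ ψ', hH ψ χ]
    ring
  rw [Finset.sum_congr rfl h1, Finset.sum_comm]
  have h2 : ∀ ψ ∈ s, ∑ χ ∈ s, ∑ ψ' ∈ s, (w ψ * conj (w ψ')) * (U ψ' χ * conj (U ψ χ)) =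
      ∑ ψ' ∈ s, (w ψ * conj (w ψ')) * (D * U ψ' ψ) := by
    intro ψ hψ
    rw [Finset.sum_comm]
    refine Finset.sum_congr rfl fun ψ' hψ' => ?_
    rw [← Finset.mul_sum, hidem ψ' hψ' ψ hψ]
  rw [Finset.sum_congr rfl h2, Finset.sum_comm, Finset.mul_sum]
  refine Finset.sum_congr rfl fun ψ' _ => ?_
  rw [Finset.mul_sum, Finset.mul_sum]
  refine Finset.sum_congr rfl fun ψ _ => ?_
  ring

theorem mj_proj_le {ι : Type*} (s : Finset ι) (U : ι → ι → ℂ) (D : ℝ) (hD : 0 < D)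
    (hH : ∀ χ ψ, U ψ χ = conj (U χ ψ))
    (hidem : ∀ χ ∈ s, ∀ χ' ∈ s, ∑ ψ ∈ s, U χ ψ * conj (U χ' ψ) = (D : ℂ) * U χ χ')
    (w : ι → ℂ) :
    (∑ χ ∈ s, conj (w χ) * ∑ ψ ∈ s, U χ ψ * w ψ).re ≤ D * ∑ χ ∈ s, Complex.normSq (w χ) := by
  set t : ι → ℂ := fun χ => ∑ ψ ∈ s, U χ ψ * w ψ with ht
  set Q : ℂ := ∑ χ ∈ s, conj (w χ) * t χ with hQ
  have hkey : ∑ χ ∈ s, t χ * conj (t χ) = (D : ℂ) * Q := mj_proj_key s U D hH hidem w
  have hpos : 0 ≤ ∑ χ ∈ s, Complex.normSq ((D : ℂ) * w χ - t χ) :=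
    Finset.sum_nonneg fun _ _ => Complex.normSq_nonneg _
  have hexp : ∀ χ ∈ s, Complex.normSq ((D : ℂ) * w χ - t χ) =
      D ^ 2 * Complex.normSq (w χ) - 2 * D * (conj (w χ) * t χ).re + (t χ * conj (t χ)).re := by
    intro χ _
    rw [Complex.normSq_sub, Complex.normSq_mul, Complex.normSq_ofReal, Complex.mul_conj,
      Complex.ofReal_re]
    have e : ((D : ℂ) * w χ * conj (t χ)).re = D * (conj (w χ) * t χ).re := by
      rw [mul_assoc, Complex.re_ofReal_mul]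
      congr 1
      have : w χ * conj (t χ) = conj (conj (w χ) * t χ) := by
        rw [map_mul, Complex.conj_conj]
      rw [this, Complex.conj_re]
    rw [e]
    ring
  rw [Finset.sum_congr rfl hexp, Finset.sum_add_distrib, Finset.sum_sub_distrib,
    ← Finset.mul_sum, ← Finset.mul_sum, ← Complex.re_sum, ← Complex.re_sum, hkey,
    Complex.re_ofReal_mul] at hpos
  have hfin : 0 ≤ D * (D * ∑ χ ∈ s, Complex.normSq (w χ) - Q.re) := by
    have : D ^ 2 * ∑ i ∈ s, Complex.normSq (w i) - 2 * D * Q.re + D * Q.re =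
        D * (D * ∑ χ ∈ s, Complex.normSq (w χ) - Q.re) := by ring
    rw [← this]
    exact hpos
  have := nonneg_of_mul_nonneg_right hfin hD
  linarith

theorem mj_col_bound {ι : Type*} (s : Finset ι) (v e : ι → ℂ) (γ D : ℝ) (hγ : 0 ≤ γ)
    (hD : 0 < D)
    (hidem : ∀ χ ∈ s, ∀ χ' ∈ s,
      ∑ ψ ∈ s, (v χ * conj (v ψ) + (γ : ℂ) * e χ * conj (e ψ)) *
        conj (v χ' * conj (v ψ) + (γ : ℂ) * e χ' * conj (e ψ)) =
      (D : ℂ) * (v χ * conj (v χ') + (γ : ℂ) * e χ * conj (e χ'))) :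
    ∑ χ ∈ s, Complex.normSq (v χ) ≤ D ∧ γ * ∑ χ ∈ s, Complex.normSq (e χ) ≤ D := by
  set U : ι → ι → ℂ := fun χ ψ => v χ * conj (v ψ) + (γ : ℂ) * e χ * conj (e ψ) with hU
  have hH : ∀ χ ψ, U ψ χ = conj (U χ ψ) := by
    intro χ ψ
    show v ψ * conj (v χ) + (γ : ℂ) * e ψ * conj (e χ) =
      conj (v χ * conj (v ψ) + (γ : ℂ) * e χ * conj (e ψ))
    rw [map_add, map_mul, map_mul, map_mul, Complex.conj_conj, Complex.conj_conj,
      Complex.conj_ofReal]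
    ring
  have hQ : ∀ w : ι → ℂ, (∑ χ ∈ s, conj (w χ) * ∑ ψ ∈ s, U χ ψ * w ψ) =
      ((Complex.normSq (∑ χ ∈ s, conj (w χ) * v χ) +
        γ * Complex.normSq (∑ χ ∈ s, conj (w χ) * e χ) : ℝ) : ℂ) := by
    intro w
    push_cast
    rw [← Complex.mul_conj, ← Complex.mul_conj, map_sum, map_sum, Finset.sum_mul_sum,
      Finset.sum_mul_sum, Finset.mul_sum, ← Finset.sum_add_distrib]
    refine Finset.sum_congr rfl fun χ _ => ?_
    rw [Finset.mul_sum, Finset.mul_sum, ← Finset.sum_add_distrib]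
    refine Finset.sum_congr rfl fun ψ _ => ?_
    show conj (w χ) * ((v χ * conj (v ψ) + (γ : ℂ) * e χ * conj (e ψ)) * w ψ) = _
    rw [map_mul, map_mul, Complex.conj_conj]
    ring
  have hP := mj_proj_le s U D hD hH hidem
  constructor
  · have h1 := hP v
    rw [hQ v, Complex.ofReal_re] at h1
    set A := ∑ χ ∈ s, Complex.normSq (v χ) with hA
    have hA0 : 0 ≤ A := Finset.sum_nonneg fun _ _ => Complex.normSq_nonneg _
    have h2 : (∑ χ ∈ s, conj (v χ) * v χ) = (A : ℂ) := by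
      rw [hA]
      push_cast
      refine Finset.sum_congr rfl fun χ _ => ?_
      rw [mul_comm, Complex.mul_conj]
    rw [h2, Complex.normSq_ofReal] at h1
    have h3 : 0 ≤ γ * Complex.normSq (∑ χ ∈ s, conj (v χ) * e χ) :=
      mul_nonneg hγ (Complex.normSq_nonneg _)
    by_contra hlt
    push Not at hlt
    nlinarith
  · have h1 := hP e
    rw [hQ e, Complex.ofReal_re] at h1
    set E := ∑ χ ∈ s, Complex.normSq (e χ) with hE
    have hE0 : 0 ≤ E := Finset.sum_nonneg fun _ _ => Complex.normSq_nonneg _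
    have h2 : (∑ χ ∈ s, conj (e χ) * e χ) = (E : ℂ) := by
      rw [hE]
      push_cast
      refine Finset.sum_congr rfl fun χ _ => ?_
      rw [mul_comm, Complex.mul_conj]
    rw [h2, Complex.normSq_ofReal] at h1
    have h3 : 0 ≤ Complex.normSq (∑ χ ∈ s, conj (e χ) * v χ) := Complex.normSq_nonneg _
    by_contra hlt
    push Not at hlt
    nlinarith

end Cfsg.Agent.Lib.Helper24
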