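import Mathlib

set_option autoImplicit false
set_option linter.style.haveILetI false
set_option linter.unusedVariables false
set_option maxHeartbeats 800000

namespace Cfsg.Agent.Lib.Helper24

variable {ι : Type*} [Fintype ι]

def mj_B (Z : ι → ι → ℤ) (u v : ι → ℤ) : ℤ := ∑ a, ∑ b, u a * v b * Z a b

def mj_q (Z : ι → ι → ℤ) (w : ι → ℤ) : ℤ := mj_B Z w w

theorem mj_B_add_left (Z : ι → ι → ℤ) (u u' v : ι → ℤ) :
    mj_B Z (u + u') v = mj_B Z u v + mj_B Z u' v := by
  unfold mj_B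
  rw [← Finset.sum_add_distrib]
  refine Finset.sum_congr rfl fun a _ => ?_
  rw [← Finset.sum_add_distrib]
  refine Finset.sum_congr rfl fun b _ => ?_
  simp only [Pi.add_apply]
  ring

theorem mj_B_smul_left (Z : ι → ι → ℤ) (t : ℤ) (u v : ι → ℤ) :
    mj_B Z (t • u) v = t * mj_B Z u v := by
  unfold mj_B
  rw [Finset.mul_sum]
  refine Finset.sum_congr rfl fun a _ => ?_
  rw [Finset.mul_sum]
  refine Finset.sum_congr rfl fun b _ => ?_
  simp only [Pi.smul_apply, smul_eq_mul]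
  ring

theorem mj_B_symm (Z : ι → ι → ℤ) (hZ : ∀ a b, Z a b = Z b a) (u v : ι → ℤ) :
    mj_B Z u v = mj_B Z v u := by
  unfold mj_B
  rw [Finset.sum_comm]
  refine Finset.sum_congr rfl fun a _ => ?_
  refine Finset.sum_congr rfl fun b _ => ?_
  rw [hZ b a]
  ring

theorem mj_B_add_right (Z : ι → ι → ℤ) (u v v' : ι → ℤ) :
    mj_B Z u (v + v') = mj_B Z u v + mj_B Z u v' := by
  unfold mj_B
  rw [← Finset.sum_add_distrib]
  refine Finset.sum_congr rfl fun a _ => ?_
  rw [← Finset.sum_add_distrib]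
  refine Finset.sum_congr rfl fun b _ => ?_
  simp only [Pi.add_apply]
  ring

theorem mj_B_smul_right (Z : ι → ι → ℤ) (t : ℤ) (u v : ι → ℤ) :
    mj_B Z u (t • v) = t * mj_B Z u v := by
  unfold mj_B
  rw [Finset.mul_sum]
  refine Finset.sum_congr rfl fun a _ => ?_
  rw [Finset.mul_sum]
  refine Finset.sum_congr rfl fun b _ => ?_
  simp only [Pi.smul_apply, smul_eq_mul]
  ring

theorem mj_q_add_smul (Z : ι → ι → ℤ) (hZ : ∀ a b, Z a b = Z b a) (u v : ι → ℤ) (t : ℤ) :
    mj_q Z (u + t • v) = mj_q Z u + 2 * t * mj_B Z u v + t ^ 2 * mj_q Z v := by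
  have h1 : mj_B Z v u = mj_B Z u v := mj_B_symm Z hZ v u
  unfold mj_q
  rw [mj_B_add_left, mj_B_add_right, mj_B_add_right, mj_B_smul_left, mj_B_smul_left,
    mj_B_smul_right, mj_B_smul_right, h1]
  ring

theorem mj_rad_B (Z : ι → ι → ℤ) (hZ : ∀ a b, Z a b = Z b a)
    (hpos : ∀ w : ι → ℤ, 0 ≤ mj_q Z w) (u v : ι → ℤ) (hu : mj_q Z u = 0) :
    mj_B Z u v = 0 := by
  by_contra hne
  have h1 := hpos (v + (-(mj_q Z v + 1) * mj_B Z u v) • u)
  rw [mj_q_add_smul Z hZ, hu, mj_B_symm Z hZ v u] at h1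
  have h2 : 0 < mj_B Z u v ^ 2 := by positivity
  have h3 := hpos v
  nlinarith

theorem mj_rad_sub (Z : ι → ι → ℤ) (hZ : ∀ a b, Z a b = Z b a)
    (hpos : ∀ w : ι → ℤ, 0 ≤ mj_q Z w) (u v : ι → ℤ) (hu : mj_q Z u = 0)
    (hv : mj_q Z v = 0) : mj_q Z (u - v) = 0 := by
  have h1 : u - v = u + (-1 : ℤ) • v := by
    ext a
    simp [sub_eq_add_neg]
  rw [h1, mj_q_add_smul Z hZ, hu, hv, mj_rad_B Z hZ hpos u v hu]
  ring

theorem mj_ind_one (p x : ℕ) (hx : x < p) :
    ∑ i ∈ Finset.range p, (if x = i then (1 : ℤ) else 0) = 1 := by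
  rw [Finset.sum_ite_eq]
  simp [hx]

theorem mj_ind_prod (p x y : ℕ) (hx : x < p) :
    ∑ i ∈ Finset.range p, (if x = i then (1 : ℤ) else 0) * (if y = i then (1 : ℤ) else 0) =
      if x = y then 1 else 0 := by
  have h1 : ∀ i ∈ Finset.range p, (if x = i then (1 : ℤ) else 0) * (if y = i then (1 : ℤ) else 0) =
      if x = i then (if y = i then (1 : ℤ) else 0) else 0 := by
    intro i _
    split_ifs <;> simp
  rw [Finset.sum_congr rfl h1, Finset.sum_ite_eq]
  simp only [Finset.mem_range, hx, if_true]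
  by_cases h : x = y
  · simp [h]
  · rw [if_neg h, if_neg (fun h' => h h'.symm)]

theorem mj_ind_sum (p x y : ℕ) (hx : x < p) (hy : y < p) :
    ∑ i ∈ Finset.range p, ∑ i' ∈ Finset.range p,
      (((if x = i then (1 : ℤ) else 0) - (if x = i' then 1 else 0)) *
       ((if y = i then (1 : ℤ) else 0) - (if y = i' then 1 else 0))) =
      2 * (if x = y then (p : ℤ) else 0) - 2 := by
  set A : ℕ → ℤ := fun i => if x = i then (1 : ℤ) else 0 with hA
  set B : ℕ → ℤ := fun i => if y = i then (1 : ℤ) else 0 with hB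
  have e : ∀ i i', (A i - A i') * (B i - B i') =
      A i * B i - A i * B i' - A i' * B i + A i' * B i' := fun i i' => by ring
  have hA1 : ∑ i ∈ Finset.range p, A i = 1 := mj_ind_one p x hx
  have hB1 : ∑ i ∈ Finset.range p, B i = 1 := mj_ind_one p y hy
  have hAB : ∑ i ∈ Finset.range p, A i * B i = if x = y then 1 else 0 := mj_ind_prod p x y hx
  show ∑ i ∈ Finset.range p, ∑ i' ∈ Finset.range p, (A i - A i') * (B i - B i') = _
  simp only [e, Finset.sum_add_distrib, Finset.sum_sub_distrib, Finset.sum_const,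
    Finset.card_range, nsmul_eq_mul, ← Finset.mul_sum, ← Finset.sum_mul, hA1, hB1, hAB]
  split_ifs <;> ring

theorem mj_gap_term (N p : ℕ) (la lb sa sb : ℕ) (hla : la < N) (hsa : sa < p) (hsb : sb < p)
    (ca cb z : ℤ) :
    ∑ r ∈ Finset.range N, ∑ i ∈ Finset.range p, ∑ i' ∈ Finset.range p,
      ((if la = r then (1 : ℤ) else 0) *
          ((if sa = i then (1 : ℤ) else 0) - (if sa = i' then 1 else 0)) * ca) *
        ((if lb = r then (1 : ℤ) else 0) *
          ((if sb = i then (1 : ℤ) else 0) - (if sb = i' then 1 else 0)) * cb) * z =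
      ca * cb * z * (if la = lb then 2 * ((if sa = sb then (p : ℤ) else 0) - 1) else 0) := by
  have e : ∀ r i i', ((if la = r then (1 : ℤ) else 0) *
          ((if sa = i then (1 : ℤ) else 0) - (if sa = i' then 1 else 0)) * ca) *
        ((if lb = r then (1 : ℤ) else 0) *
          ((if sb = i then (1 : ℤ) else 0) - (if sb = i' then 1 else 0)) * cb) * z =
      (ca * cb * z) * ((if la = r then (1 : ℤ) else 0) * (if lb = r then (1 : ℤ) else 0)) *
        (((if sa = i then (1 : ℤ) else 0) - (if sa = i' then 1 else 0)) *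
          ((if sb = i then (1 : ℤ) else 0) - (if sb = i' then 1 else 0))) := fun r i i' => by ring
  simp only [e]
  simp only [← Finset.mul_sum]
  rw [mj_ind_sum p sa sb hsa hsb, ← Finset.sum_mul, ← Finset.mul_sum, mj_ind_prod N la lb hla]
  split_ifs <;> ring


def mj_w (L s : ι → ℕ) (c : ι → ℤ) (r i i' : ℕ) : ι → ℤ := fun a =>
  (if L a = r then (1 : ℤ) else 0) *
    ((if s a = i then (1 : ℤ) else 0) - (if s a = i' then 1 else 0)) * c a

def mj_T (p : ℕ) (L s : ι → ℕ) (c : ι → ℤ) (Z : ι → ι → ℤ) : ℤ :=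
  ∑ a, ∑ b, c a * c b * Z a b *
    (if L a = L b then 2 * ((if s a = s b then (p : ℤ) else 0) - 1) else 0)

theorem mj_gap_id (N p : ℕ) (L s : ι → ℕ) (hL : ∀ a, L a < N) (hs : ∀ a, s a < p)
    (c : ι → ℤ) (Z : ι → ι → ℤ) :
    ∑ r ∈ Finset.range N, ∑ i ∈ Finset.range p, ∑ i' ∈ Finset.range p,
      mj_q Z (mj_w L s c r i i') = mj_T p L s c Z := by
  have h1 : ∀ g : ℕ → ℕ → ℕ → ℤ,
      ∑ r ∈ Finset.range N, ∑ i ∈ Finset.range p, ∑ i' ∈ Finset.range p, g r i i' =
      ∑ x ∈ Finset.range N ×ˢ (Finset.range p ×ˢ Finset.range p), g x.1 x.2.1 x.2.2 := by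
    intro g
    rw [Finset.sum_product]
    refine Finset.sum_congr rfl fun r _ => ?_
    rw [Finset.sum_product]
  rw [h1]
  unfold mj_q mj_B mj_T
  rw [Finset.sum_comm]
  refine Finset.sum_congr rfl fun a _ => ?_
  rw [Finset.sum_comm]
  refine Finset.sum_congr rfl fun b _ => ?_
  rw [← h1 (fun r i i' => mj_w L s c r i i' a * mj_w L s c r i i' b * Z a b)]
  unfold mj_w
  exact mj_gap_term N p (L a) (L b) (s a) (s b) (hL a) (hs a) (hs b) (c a) (c b) (Z a b)

theorem mj_q_neg (Z : ι → ι → ℤ) (w : ι → ℤ) : mj_q Z (-w) = mj_q Z w := by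
  unfold mj_q mj_B
  refine Finset.sum_congr rfl fun a _ => ?_
  refine Finset.sum_congr rfl fun b _ => ?_
  simp only [Pi.neg_apply]
  ring

theorem mj_q_zero (Z : ι → ι → ℤ) : mj_q Z (0 : ι → ℤ) = 0 := by
  unfold mj_q mj_B
  simp

theorem mj_pair_sum (p : ℕ) (g : ℕ → ℕ → ℤ) (α : ℤ) (hg0 : ∀ i i', 0 ≤ g i i')
    (hsymm : ∀ i i', g i i' = g i' i) (i0 i0' : ℕ) (hi0 : i0 < p) (hi0' : i0' < p)
    (hne : i0 ≠ i0') (hpair : ∀ i, α ≤ g i i0 + g i i0') :
    2 * ((p : ℤ) - 1) * α ≤ ∑ i ∈ Finset.range p, ∑ i' ∈ Finset.range p, g i i' := by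
  set P := Finset.range p with hP
  set h : ℕ → ℤ := fun i => ∑ i' ∈ P, g i i' with hh
  have hi0P : i0 ∈ P := Finset.mem_range.mpr hi0
  have hi0'P : i0' ∈ P.erase i0 := Finset.mem_erase.mpr ⟨hne.symm, Finset.mem_range.mpr hi0'⟩
  have hrow : ∀ i, α ≤ h i := by
    intro i
    have hsub : ({i0, i0'} : Finset ℕ) ⊆ P := by
      intro x hx
      rcases Finset.mem_insert.mp hx with rfl | hx
      · exact hi0P
      · rw [Finset.mem_singleton.mp hx]
        exact Finset.mem_range.mpr hi0'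
    have h1 : ∑ i' ∈ ({i0, i0'} : Finset ℕ), g i i' ≤ h i :=
      Finset.sum_le_sum_of_subset_of_nonneg hsub fun x _ _ => hg0 i x
    rw [Finset.sum_pair hne] at h1
    exact le_trans (hpair i) h1
  have hrows : (p : ℤ) * α ≤ h i0 + h i0' := by
    have h1 : h i0 + h i0' = ∑ i' ∈ P, (g i' i0 + g i' i0') := by
      rw [Finset.sum_add_distrib]
      congr 1
      · exact Finset.sum_congr rfl fun i' _ => hsymm i0 i'
      · exact Finset.sum_congr rfl fun i' _ => hsymm i0' i'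
    rw [h1]
    have h2 := Finset.card_nsmul_le_sum P (fun i' => g i' i0 + g i' i0') α (fun i' _ => hpair i')
    rw [hP, Finset.card_range, nsmul_eq_mul] at h2
    exact h2
  have hsplit : ∑ i ∈ P, h i = h i0 + h i0' + ∑ i ∈ (P.erase i0).erase i0', h i := by
    rw [← Finset.add_sum_erase P h hi0P, ← Finset.add_sum_erase (P.erase i0) h hi0'P]
    ring
  have hrest : ((p : ℤ) - 2) * α ≤ ∑ i ∈ (P.erase i0).erase i0', h i := by
    have h2 := Finset.card_nsmul_le_sum ((P.erase i0).erase i0') h α (fun i _ => hrow i)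
    rw [Finset.card_erase_of_mem hi0'P, Finset.card_erase_of_mem hi0P, hP, Finset.card_range,
      nsmul_eq_mul] at h2
    have h3 : ((p - 1 - 1 : ℕ) : ℤ) = (p : ℤ) - 2 := by
      have : 2 ≤ p := by
        rcases Nat.lt_or_ge i0 i0' with h | h <;> omega
      omega
    rw [h3] at h2
    exact h2
  show _ ≤ ∑ i ∈ P, h i
  rw [hsplit]
  linarith

theorem mj_gap (N p : ℕ) (L s : ι → ℕ) (hL : ∀ a, L a < N) (hs : ∀ a, s a < p)
    (c : ι → ℤ) (Z : ι → ι → ℤ) (hZ : ∀ a b, Z a b = Z b a) (α : ℤ) (hα : 0 ≤ α)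
    (hgap : ∀ w : ι → ℤ, mj_q Z w = 0 ∨ α ≤ mj_q Z w) :
    mj_T p L s c Z = 0 ∨ 2 * ((p : ℤ) - 1) * α ≤ mj_T p L s c Z := by
  classical
  have hpos : ∀ w : ι → ℤ, 0 ≤ mj_q Z w := by
    intro w
    rcases hgap w with h | h
    · rw [h]
    · exact le_trans hα h
  rw [← mj_gap_id N p L s hL hs c Z]
  by_cases hall : ∀ r ∈ Finset.range N, ∀ i ∈ Finset.range p, ∀ i' ∈ Finset.range p,
      mj_q Z (mj_w L s c r i i') = 0
  · left
    apply Finset.sum_eq_zero
    intro r hr
    apply Finset.sum_eq_zero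
    intro i hi
    apply Finset.sum_eq_zero
    intro i' hi'
    exact hall r hr i hi i' hi'
  · right
    push Not at hall
    obtain ⟨r0, hr0, i0, hi0, i0', hi0', hne0⟩ := hall
    set g : ℕ → ℕ → ℤ := fun i i' => mj_q Z (mj_w L s c r0 i i') with hg
    have hsingle : ∑ i ∈ Finset.range p, ∑ i' ∈ Finset.range p, g i i' ≤
        ∑ r ∈ Finset.range N, ∑ i ∈ Finset.range p, ∑ i' ∈ Finset.range p,
          mj_q Z (mj_w L s c r i i') :=
      Finset.single_le_sum (f := fun r => ∑ i ∈ Finset.range p, ∑ i' ∈ Finset.range p,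
          mj_q Z (mj_w L s c r i i'))
        (fun r _ => Finset.sum_nonneg fun i _ => Finset.sum_nonneg fun i' _ => hpos _) hr0
    refine le_trans ?_ hsingle
    have hdiag : ∀ i, g i i = 0 := by
      intro i
      have : mj_w L s c r0 i i = 0 := by
        ext a
        unfold mj_w
        simp
      show mj_q Z (mj_w L s c r0 i i) = 0
      rw [this, mj_q_zero]
    have hsymm : ∀ i i', g i i' = g i' i := by
      intro i i'
      have : mj_w L s c r0 i' i = -(mj_w L s c r0 i i') := by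
        ext a
        unfold mj_w
        simp only [Pi.neg_apply]
        ring
      show mj_q Z (mj_w L s c r0 i i') = mj_q Z (mj_w L s c r0 i' i)
      rw [this, mj_q_neg]
    have hne : i0 ≠ i0' := by
      intro h
      apply hne0
      rw [← h]
      exact hdiag i0
    apply mj_pair_sum p g α (fun i i' => hpos _) hsymm i0 i0' (Finset.mem_range.mp hi0)
      (Finset.mem_range.mp hi0') hne
    intro i
    have hdiff : mj_w L s c r0 i0 i0' = mj_w L s c r0 i i0' - mj_w L s c r0 i i0 := by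
      ext a
      unfold mj_w
      simp only [Pi.sub_apply]
      ring
    rcases hgap (mj_w L s c r0 i i0) with h1 | h1
    · rcases hgap (mj_w L s c r0 i i0') with h2 | h2
      · exfalso
        apply hne0
        rw [hdiff]
        exact mj_rad_sub Z hZ hpos _ _ h2 h1
      · have := hpos (mj_w L s c r0 i i0)
        show α ≤ mj_q Z (mj_w L s c r0 i i0) + mj_q Z (mj_w L s c r0 i i0')
        linarith
    · have := hpos (mj_w L s c r0 i i0')
      show α ≤ mj_q Z (mj_w L s c r0 i i0) + mj_q Z (mj_w L s c r0 i i0')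
      linarith

end Cfsg.Agent.Lib.Helper24
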