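import Mathlib
import Cfsg.Agent.Lib.Helper24.MJ2

set_option autoImplicit false
set_option linter.style.haveILetI false
set_option linter.unusedVariables false
set_option maxHeartbeats 800000

namespace Cfsg.Agent.Lib.Helper24

theorem mj_var (p : ℕ) (f : ℕ → ℤ) (τ : ℤ) (hτ : ∑ i ∈ Finset.range p, f i = (p : ℤ) * τ) :
    ∑ i ∈ Finset.range p, ∑ i' ∈ Finset.range p, (f i - f i') ^ 2 =
      2 * (p : ℤ) * ∑ i ∈ Finset.range p, (f i - τ) ^ 2 := by
  have e : ∀ i i', (f i - f i') ^ 2 = f i ^ 2 - 2 * (f i * f i') + f i' ^ 2 := fun i i' => by ring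
  have e2 : ∀ i, (f i - τ) ^ 2 = f i ^ 2 - 2 * τ * f i + τ ^ 2 := fun i => by ring
  simp only [e, e2, Finset.sum_add_distrib, Finset.sum_sub_distrib, Finset.sum_const,
    Finset.card_range, nsmul_eq_mul, ← Finset.mul_sum, ← Finset.sum_mul, hτ]
  ring

theorem mj_two_nonzero (p : ℕ) (e : ℕ → ℤ) (h0 : ∑ i ∈ Finset.range p, e i = 0)
    (i0 : ℕ) (hi0 : i0 < p) (hne : e i0 ≠ 0) : 2 ≤ ∑ i ∈ Finset.range p, e i ^ 2 := by
  have hi0P : i0 ∈ Finset.range p := Finset.mem_range.mpr hi0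
  have hex : ∃ i1 ∈ (Finset.range p).erase i0, e i1 ≠ 0 := by
    by_contra hcon
    push Not at hcon
    rw [← Finset.add_sum_erase _ e hi0P, Finset.sum_eq_zero hcon, add_zero] at h0
    exact hne h0
  obtain ⟨i1, hi1, hne1⟩ := hex
  rw [← Finset.add_sum_erase _ (fun i => e i ^ 2) hi0P,
    ← Finset.add_sum_erase _ (fun i => e i ^ 2) hi1]
  have h1 : 0 ≤ ∑ i ∈ ((Finset.range p).erase i0).erase i1, e i ^ 2 :=
    Finset.sum_nonneg fun i _ => sq_nonneg _
  have h2 : 1 ≤ e i0 ^ 2 := by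
    have := sq_pos_of_ne_zero hne
    linarith
  have h3 : 1 ≤ e i1 ^ 2 := by
    have := sq_pos_of_ne_zero hne1
    linarith
  linarith

theorem mj_row_bound (p : ℕ) (f : ℕ → ℤ) (i0 i0' : ℕ) (hi0 : i0 < p) (hi0' : i0' < p)
    (hne : f i0 ≠ f i0') :
    2 * ((p : ℤ) - 1) ≤ ∑ i ∈ Finset.range p, ∑ i' ∈ Finset.range p, (f i - f i') ^ 2 := by
  have h := mj_pair_sum p (fun i i' => (f i - f i') ^ 2) 1 (fun i i' => sq_nonneg _)
    (fun i i' => by ring) i0 i0' hi0 hi0' (fun h => hne (by rw [h])) ?_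
  · simpa using h
  · intro i
    show 1 ≤ (f i - f i0) ^ 2 + (f i - f i0') ^ 2
    by_cases h1 : f i = f i0
    · have h2 : f i - f i0' ≠ 0 := by
        rw [h1]
        exact sub_ne_zero.mpr hne
      have := sq_pos_of_ne_zero h2
      have := sq_nonneg (f i - f i0)
      linarith
    · have h2 : f i - f i0 ≠ 0 := sub_ne_zero.mpr h1
      have := sq_pos_of_ne_zero h2
      have := sq_nonneg (f i - f i0')
      linarith

theorem mj_gap2_core (N p : ℕ) (hp : 2 ≤ p) (S : ℕ → ℕ → ℤ)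
    (hdiv : (p : ℤ) ∣ ∑ r ∈ Finset.range N, ∑ i ∈ Finset.range p, S r i) :
    (∑ r ∈ Finset.range N, ∑ i ∈ Finset.range p, ∑ i' ∈ Finset.range p,
        (S r i - S r i') ^ 2 = 0) ∨
    4 * ((p : ℤ) - 1) ≤ ∑ r ∈ Finset.range N, ∑ i ∈ Finset.range p, ∑ i' ∈ Finset.range p,
        (S r i - S r i') ^ 2 := by
  classical
  set V : ℕ → ℤ := fun r => ∑ i ∈ Finset.range p, ∑ i' ∈ Finset.range p,
    (S r i - S r i') ^ 2 with hV
  have hV0 : ∀ r, 0 ≤ V r := fun r =>
    Finset.sum_nonneg fun i _ => Finset.sum_nonneg fun i' _ => sq_nonneg _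
  show (∑ r ∈ Finset.range N, V r = 0) ∨ 4 * ((p : ℤ) - 1) ≤ ∑ r ∈ Finset.range N, V r
  by_cases hall : ∀ r ∈ Finset.range N, ∀ i ∈ Finset.range p, ∀ i' ∈ Finset.range p,
      S r i = S r i'
  · left
    apply Finset.sum_eq_zero
    intro r hr
    apply Finset.sum_eq_zero
    intro i hi
    apply Finset.sum_eq_zero
    intro i' hi'
    rw [hall r hr i hi i' hi', sub_self]
    ring
  · right
    push Not at hall
    obtain ⟨r0, hr0, i0, hi0, i0', hi0', hne0⟩ := hall
    have hr0V : 2 * ((p : ℤ) - 1) ≤ V r0 :=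
      mj_row_bound p (S r0) i0 i0' (Finset.mem_range.mp hi0) (Finset.mem_range.mp hi0') hne0
    by_cases hother : ∃ r1 ∈ (Finset.range N).erase r0, ∃ i ∈ Finset.range p,
        ∃ i' ∈ Finset.range p, S r1 i ≠ S r1 i'
    · obtain ⟨r1, hr1, i1, hi1, i1', hi1', hne1⟩ := hother
      have hr1V : 2 * ((p : ℤ) - 1) ≤ V r1 :=
        mj_row_bound p (S r1) i1 i1' (Finset.mem_range.mp hi1) (Finset.mem_range.mp hi1') hne1
      rw [← Finset.add_sum_erase _ V hr0, ← Finset.add_sum_erase _ V hr1]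
      have h1 : 0 ≤ ∑ r ∈ ((Finset.range N).erase r0).erase r1, V r :=
        Finset.sum_nonneg fun r _ => hV0 r
      linarith
    · push Not at hother
      have hconst : ∀ r ∈ (Finset.range N).erase r0,
          ∑ i ∈ Finset.range p, S r i = (p : ℤ) * S r 0 := by
        intro r hr
        have h0 : 0 ∈ Finset.range p := Finset.mem_range.mpr (by omega)
        rw [Finset.sum_congr rfl (fun i hi => hother r hr i hi 0 h0), Finset.sum_const,
          Finset.card_range, nsmul_eq_mul]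
      have hdiv0 : (p : ℤ) ∣ ∑ i ∈ Finset.range p, S r0 i := by
        rw [← Finset.add_sum_erase _ (fun r => ∑ i ∈ Finset.range p, S r i) hr0] at hdiv
        rw [Finset.sum_congr rfl hconst, ← Finset.mul_sum] at hdiv
        exact (Int.dvd_add_left (Dvd.intro _ rfl)).mp hdiv
      obtain ⟨τ, hτ⟩ := hdiv0
      have hvar := mj_var p (S r0) τ hτ
      have hsum0 : ∑ i ∈ Finset.range p, (S r0 i - τ) = 0 := by
        rw [Finset.sum_sub_distrib, hτ, Finset.sum_const, Finset.card_range, nsmul_eq_mul]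
        ring
      have hex : ∃ i1, i1 < p ∧ S r0 i1 - τ ≠ 0 := by
        by_cases h : S r0 i0 - τ = 0
        · refine ⟨i0', Finset.mem_range.mp hi0', ?_⟩
          intro h'
          apply hne0
          linarith
        · exact ⟨i0, Finset.mem_range.mp hi0, h⟩
      obtain ⟨i1, hi1, hne1⟩ := hex
      have h2 := mj_two_nonzero p (fun i => S r0 i - τ) hsum0 i1 hi1 hne1
      have h3 : 4 * (p : ℤ) ≤ V r0 := by
        show 4 * (p : ℤ) ≤ ∑ i ∈ Finset.range p, ∑ i' ∈ Finset.range p, (S r0 i - S r0 i') ^ 2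
        rw [hvar]
        have hp0 : (0 : ℤ) ≤ (p : ℤ) := by positivity
        nlinarith
      have h4 : V r0 ≤ ∑ r ∈ Finset.range N, V r :=
        Finset.single_le_sum (fun r _ => hV0 r) hr0
      linarith

variable {ι : Type*} [Fintype ι]

theorem mj_q_rank_one (x w : ι → ℤ) :
    mj_q (fun a b => x a * x b) w = (∑ a, w a * x a) ^ 2 := by
  unfold mj_q mj_B
  rw [sq, Finset.sum_mul_sum]
  refine Finset.sum_congr rfl fun a _ => ?_
  refine Finset.sum_congr rfl fun b _ => ?_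
  ring

theorem mj_gap2 (N p : ℕ) (hp : 2 ≤ p) (L s : ι → ℕ) (hL : ∀ a, L a < N) (hs : ∀ a, s a < p)
    (c x : ι → ℤ) (hdiv : (p : ℤ) ∣ ∑ a, c a * x a) :
    mj_T p L s c (fun a b => x a * x b) = 0 ∨
      4 * ((p : ℤ) - 1) ≤ mj_T p L s c (fun a b => x a * x b) := by
  set S : ℕ → ℕ → ℤ := fun r i =>
    ∑ a, (if L a = r then (1 : ℤ) else 0) * (if s a = i then (1 : ℤ) else 0) * (c a * x a) with hS
  have h1 : ∀ r i i', mj_q (fun a b => x a * x b) (mj_w L s c r i i') = (S r i - S r i') ^ 2 := by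
    intro r i i'
    rw [mj_q_rank_one]
    congr 1
    rw [hS]
    simp only []
    rw [← Finset.sum_sub_distrib]
    refine Finset.sum_congr rfl fun a _ => ?_
    unfold mj_w
    ring
  have h2 : ∑ r ∈ Finset.range N, ∑ i ∈ Finset.range p, S r i = ∑ a, c a * x a := by
    rw [hS]
    simp only []
    have e : ∀ r ∈ Finset.range N, ∑ i ∈ Finset.range p, ∑ a,
        (if L a = r then (1 : ℤ) else 0) * (if s a = i then (1 : ℤ) else 0) * (c a * x a) =
        ∑ a, (if L a = r then (1 : ℤ) else 0) * (c a * x a) := by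
      intro r _
      rw [Finset.sum_comm]
      refine Finset.sum_congr rfl fun a _ => ?_
      have e1 : ∀ i, (if L a = r then (1 : ℤ) else 0) * (if s a = i then (1 : ℤ) else 0) *
          (c a * x a) = ((if L a = r then (1 : ℤ) else 0) * (c a * x a)) *
            (if s a = i then (1 : ℤ) else 0) := fun i => by ring
      simp only [e1]
      rw [← Finset.mul_sum, mj_ind_one p (s a) (hs a), mul_one]
    rw [Finset.sum_congr rfl e, Finset.sum_comm]
    refine Finset.sum_congr rfl fun a _ => ?_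
    rw [← Finset.sum_mul, mj_ind_one N (L a) (hL a), one_mul]
  rw [← mj_gap_id N p L s hL hs c]
  simp only [h1]
  apply mj_gap2_core N p hp S
  rw [h2]
  exact hdiv

end Cfsg.Agent.Lib.Helper24
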