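import Mathlib
import Cfsg.Agent.Lib.Helper24.MJ1
import Cfsg.Agent.Lib.Helper24.MJ3

set_option autoImplicit false
set_option linter.style.haveILetI false
set_option linter.unusedVariables false
set_option maxHeartbeats 800000

namespace Cfsg.Agent.Lib.Helper24
open scoped ComplexConjugate

variable {ι : Type*} [Fintype ι]

theorem mj_divmod_eq (m a b : ℕ) : a = b ↔ (a % m = b % m ∧ a / m = b / m) := by
  constructor
  · intro h
    rw [h]
    exact ⟨rfl, rfl⟩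
  · rintro ⟨h1, h2⟩
    rw [← Nat.div_add_mod a m, ← Nat.div_add_mod b m, h1, h2]

theorem mj_bridge (p : ℕ) (hp : p.Prime) (k : ℕ) (ζ : ℂ)
    (hζ : IsPrimitiveRoot ζ (p ^ (k + 1))) (ex : ι → ℕ) (hex : ∀ a, ex a < p ^ (k + 1))
    (c : ι → ℤ) (Z : ι → ι → ℤ) :
    2 * ∑ j ∈ (Finset.range (p ^ (k + 1))).filter (Nat.Coprime (p ^ (k + 1))),
      ∑ a, ∑ b, ((c a * c b * Z a b : ℤ) : ℂ) * (ζ ^ ex a * conj (ζ ^ ex b)) ^ j =
    ((p ^ k : ℕ) : ℂ) *
      ((mj_T p (fun a => ex a % p ^ k) (fun a => ex a / p ^ k) c Z : ℤ) : ℂ) := by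
  rw [Finset.sum_comm]
  have h1 : ∀ a, ∑ j ∈ (Finset.range (p ^ (k + 1))).filter (Nat.Coprime (p ^ (k + 1))),
      ∑ b, ((c a * c b * Z a b : ℤ) : ℂ) * (ζ ^ ex a * conj (ζ ^ ex b)) ^ j =
      ∑ b, ((c a * c b * Z a b : ℤ) : ℂ) *
        ((if ex a = ex b then ((p ^ (k + 1) : ℕ) : ℂ) else 0) -
          (if ex a % p ^ k = ex b % p ^ k then ((p ^ k : ℕ) : ℂ) else 0)) := by
    intro a
    rw [Finset.sum_comm]
    refine Finset.sum_congr rfl fun b _ => ?_
    rw [← Finset.mul_sum, mj_ram_pair p hp k ζ hζ (ex a) (ex b) (hex a) (hex b)]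
  rw [Finset.sum_congr rfl (fun a _ => h1 a)]
  unfold mj_T
  push_cast
  rw [Finset.mul_sum, Finset.mul_sum]
  refine Finset.sum_congr rfl fun a _ => ?_
  rw [Finset.mul_sum, Finset.mul_sum]
  refine Finset.sum_congr rfl fun b _ => ?_
  by_cases hL : ex a % p ^ k = ex b % p ^ k
  · by_cases hs : ex a / p ^ k = ex b / p ^ k
    · have hab : ex a = ex b := (mj_divmod_eq (p ^ k) _ _).mpr ⟨hL, hs⟩
      rw [if_pos hab, if_pos hL, if_pos hL, if_pos hs]
      rw [pow_succ]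
      ring
    · have hab : ex a ≠ ex b := fun h => hs ((mj_divmod_eq (p ^ k) _ _).mp h).2
      rw [if_neg hab, if_pos hL, if_pos hL, if_neg hs]
      ring
  · have hab : ex a ≠ ex b := fun h => hL ((mj_divmod_eq (p ^ k) _ _).mp h).1
    rw [if_neg hab, if_neg hL, if_neg hL]
    ring

end Cfsg.Agent.Lib.Helper24
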