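import Mathlib
import Cfsg.Agent.Lib.Helper25.SubsectionBound

set_option autoImplicit false
set_option linter.style.haveILetI false
set_option linter.unusedVariables false
set_option warn.classDefReducibility false
set_option maxHeartbeats 1600000

namespace Cfsg.Agent.Lib.Helper24
open scoped ComplexConjugate
open Cfsg.Agent.Lib.helper2
open Cfsg.Agent.Lib.helper7
open Cfsg.Agent.Lib.Helper25

theorem mj_root_comb {p : ℕ} [hp : Fact p.Prime] {M : Ideal Cfsg.AlgInt}
    (hM : Cfsg.IsPModular p M) {σ : Type*} (s : Finset σ) (n : σ → ℤ) (μ : σ → ℂ) (m : ℕ)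
    (hμ : ∀ i ∈ s, μ i ^ (p ^ m) = 1) :
    Cfsg.MemLocalIdeal M (∑ i ∈ s, (n i : ℂ) * μ i) ↔ (p : ℤ) ∣ ∑ i ∈ s, n i := by
  have hMp := hM.2.1.isPrime
  have hdiff : Cfsg.MemLocalIdeal M (∑ i ∈ s, (n i : ℂ) * μ i - ((∑ i ∈ s, n i : ℤ) : ℂ)) := by
    push_cast
    rw [← Finset.sum_sub_distrib]
    apply h7_memLocalIdeal_sum hMp
    intro i hi
    have e : (n i : ℂ) * μ i - (n i : ℂ) = (n i : ℂ) * (μ i - 1) := by ring
    rw [e]
    apply h7_memLocalIdeal_mul_left hMp
    · have := h7_memLocalRing_of_algInt hMp (n i : Cfsg.AlgInt)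
      simpa using this
    · exact bp_root_sub_one hM (μ i) m (hμ i hi)
  rw [← hz_memLocalIdeal_intCast_iff hM]
  constructor
  · intro h
    have := h7_memLocalIdeal_sub hMp h hdiff
    rwa [sub_sub_cancel] at this
  · intro h
    have := h7_memLocalIdeal_add hMp hdiff h
    rwa [sub_add_cancel] at this

theorem mj_root_comb_ring {M : Ideal Cfsg.AlgInt} (hMp : M.IsPrime) {σ : Type*} (s : Finset σ)
    (n : σ → ℤ) (μ : σ → ℂ) (N : ℕ) (hN : 0 < N) (hμ : ∀ i ∈ s, μ i ^ N = 1) :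
    Cfsg.MemLocalRing M (∑ i ∈ s, (n i : ℂ) * μ i) := by
  apply h7_memLocalRing_sum hMp
  intro i hi
  apply h7_memLocalRing_mul hMp
  · have := h7_memLocalRing_of_algInt hMp (n i : Cfsg.AlgInt)
    simpa using this
  · apply h7_memLocalRing_of_isIntegral hMp
    apply IsIntegral.of_pow hN
    rw [hμ i hi]
    exact isIntegral_one

end Cfsg.Agent.Lib.Helper24
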