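import Mathlib
import Cfsg.Agent.Lib.Helper24.MJ4
import Cfsg.Agent.Lib.Helper24.MJ9

set_option autoImplicit false
set_option linter.style.haveILetI false
set_option linter.unusedVariables false
set_option warn.classDefReducibility false
set_option maxHeartbeats 1600000

namespace Cfsg.Agent.Lib.Helper24
open scoped ComplexConjugate
open Cfsg.Agent.Lib.helper2
open Cfsg.Agent.Lib.helper7
open Cfsg.Agent.Lib.Helper25

variable {κ : Type*} [Fintype κ]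

noncomputable def mj_R (ζ : ℂ) (ex : κ → ℕ) (c x : κ → ℤ) (j : ℕ) : ℂ :=
  ∑ a, ((c a * x a : ℤ) : ℂ) * (ζ ^ ex a) ^ j

noncomputable def mj_u (ζ : ℂ) (ex : κ → ℕ) (c c' : κ → ℤ) (Z : κ → κ → ℤ) (j : ℕ) : ℂ :=
  ∑ a, ∑ b, ((c a * c' b * Z a b : ℤ) : ℂ) * (ζ ^ ex a * conj (ζ ^ ex b)) ^ j

theorem mj_u_conj (ζ : ℂ) (ex : κ → ℕ) (c c' : κ → ℤ) (Z : κ → κ → ℤ)
    (hZ : ∀ a b, Z a b = Z b a) (j : ℕ) :
    conj (mj_u ζ ex c c' Z j) = mj_u ζ ex c' c Z j := by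
  unfold mj_u
  rw [map_sum, Finset.sum_comm]
  refine Finset.sum_congr rfl fun b _ => ?_
  rw [map_sum]
  refine Finset.sum_congr rfl fun a _ => ?_
  rw [map_mul, map_pow, map_mul, Complex.conj_conj, map_intCast, hZ a b]
  congr 1
  · congr 1
    ring
  · rw [mul_comm]

theorem mj_u_neg (n : ℕ) (hn : n ≠ 0) (ζ : ℂ) (hζ : ζ ^ n = 1) (ex : κ → ℕ) (c c' : κ → ℤ)
    (Z : κ → κ → ℤ) :
    mj_u ζ ex c c' Z (n - 1) = conj (mj_u ζ ex c c' Z 1) := by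
  unfold mj_u
  rw [map_sum]
  refine Finset.sum_congr rfl fun a _ => ?_
  rw [map_sum]
  refine Finset.sum_congr rfl fun b _ => ?_
  rw [map_mul, map_intCast, pow_one]
  congr 1
  have h1 : (ζ ^ ex a * conj (ζ ^ ex b)) ^ n = 1 := by
    rw [mul_pow, ← map_pow, ← pow_mul, ← pow_mul, mul_comm (ex a), mul_comm (ex b), pow_mul,
      pow_mul, hζ, one_pow, one_pow, map_one, mul_one]
  exact (su_conj_root _ n hn h1).symm

theorem mj_R_mul_conj (ζ : ℂ) (ex : κ → ℕ) (c x c' x' : κ → ℤ) (j : ℕ) :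
    mj_R ζ ex c x j * conj (mj_R ζ ex c' x' j) =
      ∑ a, ∑ b, ((c a * c' b * (x a * x' b) : ℤ) : ℂ) * (ζ ^ ex a * conj (ζ ^ ex b)) ^ j := by
  unfold mj_R
  rw [map_sum, Finset.sum_mul_sum]
  refine Finset.sum_congr rfl fun a _ => ?_
  refine Finset.sum_congr rfl fun b _ => ?_
  rw [map_mul, map_intCast, map_pow, mul_pow, map_pow]
  push_cast
  ring

theorem mj_u_decomp (ζ : ℂ) (ex : κ → ℕ) (c c' : κ → ℤ) (Z : κ → κ → ℤ) (x y : κ → ℤ) (γ : ℤ)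
    (hZ : ∀ a b, Z a b = x a * x b + γ * y a * y b) (j : ℕ) :
    mj_u ζ ex c c' Z j = mj_R ζ ex c x j * conj (mj_R ζ ex c' x j) +
      (γ : ℂ) * mj_R ζ ex c y j * conj (mj_R ζ ex c' y j) := by
  rw [mul_assoc, mj_R_mul_conj, mj_R_mul_conj]
  unfold mj_u
  rw [Finset.mul_sum, ← Finset.sum_add_distrib]
  refine Finset.sum_congr rfl fun a _ => ?_
  rw [Finset.mul_sum, ← Finset.sum_add_distrib]
  refine Finset.sum_congr rfl fun b _ => ?_
  rw [hZ a b]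
  push_cast
  ring

theorem mj_root_pow {p : ℕ} (k : ℕ) (ζ : ℂ) (hζ : ζ ^ (p ^ (k + 1)) = 1) (e j : ℕ) :
    ((ζ ^ e) ^ j) ^ (p ^ (k + 1)) = 1 := by
  have e1 : ((ζ ^ e) ^ j) ^ (p ^ (k + 1)) = (ζ ^ (p ^ (k + 1))) ^ (e * j) := by ring
  rw [e1, hζ, one_pow]

theorem mj_R_ring {p : ℕ} [hp : Fact p.Prime] {M : Ideal Cfsg.AlgInt}
    (hM : Cfsg.IsPModular p M) (k : ℕ) (ζ : ℂ) (hζ : ζ ^ (p ^ (k + 1)) = 1) (ex : κ → ℕ)
    (c x : κ → ℤ) (j : ℕ) :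
    Cfsg.MemLocalRing M (mj_R ζ ex c x j) ∧ Cfsg.MemLocalRing M (conj (mj_R ζ ex c x j)) := by
  have hMp := hM.2.1.isPrime
  have hN : 0 < p ^ (k + 1) := pow_pos hp.out.pos _
  constructor
  · unfold mj_R
    exact mj_root_comb_ring hMp Finset.univ _ _ (p ^ (k + 1)) hN
      (fun a _ => mj_root_pow k ζ hζ (ex a) j)
  · unfold mj_R
    rw [map_sum]
    have e : ∀ a, conj (((c a * x a : ℤ) : ℂ) * (ζ ^ ex a) ^ j) =
        ((c a * x a : ℤ) : ℂ) * conj ((ζ ^ ex a) ^ j) := by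
      intro a
      rw [map_mul, map_intCast]
    simp only [e]
    apply mj_root_comb_ring hMp Finset.univ _ _ (p ^ (k + 1)) hN
    intro a _
    rw [← map_pow, mj_root_pow k ζ hζ (ex a) j, map_one]

theorem mj_R_ideal {p : ℕ} [hp : Fact p.Prime] {M : Ideal Cfsg.AlgInt}
    (hM : Cfsg.IsPModular p M) (k : ℕ) (ζ : ℂ) (hζ : ζ ^ (p ^ (k + 1)) = 1) (ex : κ → ℕ)
    (c x : κ → ℤ) (j : ℕ) :
    (Cfsg.MemLocalIdeal M (mj_R ζ ex c x j) ↔ (p : ℤ) ∣ ∑ a, c a * x a) ∧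
    (Cfsg.MemLocalIdeal M (conj (mj_R ζ ex c x j)) ↔ (p : ℤ) ∣ ∑ a, c a * x a) := by
  constructor
  · unfold mj_R
    exact mj_root_comb hM Finset.univ _ _ (k + 1) (fun a _ => mj_root_pow k ζ hζ (ex a) j)
  · unfold mj_R
    rw [map_sum]
    have e : ∀ a, conj (((c a * x a : ℤ) : ℂ) * (ζ ^ ex a) ^ j) =
        ((c a * x a : ℤ) : ℂ) * conj ((ζ ^ ex a) ^ j) := by
      intro a
      rw [map_mul, map_intCast]
    simp only [e]
    apply mj_root_comb hM Finset.univ _ _ (k + 1)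
    intro a _
    rw [← map_pow, mj_root_pow k ζ hζ (ex a) j, map_one]

theorem mj_R_sum (p : ℕ) (hp : p.Prime) (k : ℕ) (ζ : ℂ)
    (hζ : IsPrimitiveRoot ζ (p ^ (k + 1))) (ex : κ → ℕ) (hex : ∀ a, ex a < p ^ (k + 1))
    (c x : κ → ℤ) :
    2 * ∑ j ∈ (Finset.range (p ^ (k + 1))).filter (Nat.Coprime (p ^ (k + 1))),
      ((Complex.normSq (mj_R ζ ex c x j) : ℝ) : ℂ) =
    ((p ^ k : ℕ) : ℂ) *
      ((mj_T p (fun a => ex a % p ^ k) (fun a => ex a / p ^ k) c (fun a b => x a * x b) : ℤ) : ℂ)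
    := by
  rw [← mj_bridge p hp k ζ hζ ex hex c (fun a b => x a * x b)]
  congr 1
  refine Finset.sum_congr rfl fun j _ => ?_
  rw [← Complex.mul_conj, mj_R_mul_conj]

theorem mj_u_sum (p : ℕ) (hp : p.Prime) (k : ℕ) (ζ : ℂ)
    (hζ : IsPrimitiveRoot ζ (p ^ (k + 1))) (ex : κ → ℕ) (hex : ∀ a, ex a < p ^ (k + 1))
    (c : κ → ℤ) (Z : κ → κ → ℤ) :
    2 * ∑ j ∈ (Finset.range (p ^ (k + 1))).filter (Nat.Coprime (p ^ (k + 1))),
      mj_u ζ ex c c Z j =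
    ((p ^ k : ℕ) : ℂ) *
      ((mj_T p (fun a => ex a % p ^ k) (fun a => ex a / p ^ k) c Z : ℤ) : ℂ) :=
  mj_bridge p hp k ζ hζ ex hex c Z

theorem mj_T_gap1 (p : ℕ) (hp : p.Prime) (k : ℕ) (ex : κ → ℕ) (hex : ∀ a, ex a < p ^ (k + 1))
    (c x : κ → ℤ) :
    mj_T p (fun a => ex a % p ^ k) (fun a => ex a / p ^ k) c (fun a b => x a * x b) = 0 ∨
    2 * ((p : ℤ) - 1) ≤
      mj_T p (fun a => ex a % p ^ k) (fun a => ex a / p ^ k) c (fun a b => x a * x b) := by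
  have hpk : 0 < p ^ k := pow_pos hp.pos k
  have h := mj_gap (p ^ k) p (fun a => ex a % p ^ k) (fun a => ex a / p ^ k)
    (fun a => Nat.mod_lt _ hpk)
    (fun a => by
      rw [Nat.div_lt_iff_lt_mul hpk, mul_comm, ← pow_succ]
      exact hex a)
    c (fun a b => x a * x b) (fun a b => mul_comm _ _) 1 (by norm_num)
    (fun w => by
      rw [mj_q_rank_one]
      by_cases h0 : ∑ a, w a * x a = 0
      · left
        rw [h0]
        ring
      · right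
        have : 0 < (∑ a, w a * x a) ^ 2 := by positivity
        omega)
  rcases h with h | h
  · left; exact h
  · right; linarith

theorem mj_T_gap2 (p : ℕ) (hp : p.Prime) (k : ℕ) (ex : κ → ℕ) (hex : ∀ a, ex a < p ^ (k + 1))
    (c x : κ → ℤ) (hdiv : (p : ℤ) ∣ ∑ a, c a * x a) :
    mj_T p (fun a => ex a % p ^ k) (fun a => ex a / p ^ k) c (fun a b => x a * x b) = 0 ∨
    4 * ((p : ℤ) - 1) ≤
      mj_T p (fun a => ex a % p ^ k) (fun a => ex a / p ^ k) c (fun a b => x a * x b) := by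
  have hpk : 0 < p ^ k := pow_pos hp.pos k
  exact mj_gap2 (p ^ k) p hp.two_le (fun a => ex a % p ^ k) (fun a => ex a / p ^ k)
    (fun a => Nat.mod_lt _ hpk)
    (fun a => by
      rw [Nat.div_lt_iff_lt_mul hpk, mul_comm, ← pow_succ]
      exact hex a)
    c x hdiv

theorem mj_T_gapA (p : ℕ) (hp : p.Prime) (k : ℕ) (ex : κ → ℕ) (hex : ∀ a, ex a < p ^ (k + 1))
    (c : κ → ℤ) (Z : κ → κ → ℤ) (hZ : ∀ a b, Z a b = Z b a)
    (hgap : ∀ w : κ → ℤ, mj_q Z w = 0 ∨ 2 ≤ mj_q Z w) :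
    mj_T p (fun a => ex a % p ^ k) (fun a => ex a / p ^ k) c Z = 0 ∨
    4 * ((p : ℤ) - 1) ≤ mj_T p (fun a => ex a % p ^ k) (fun a => ex a / p ^ k) c Z := by
  have hpk : 0 < p ^ k := pow_pos hp.pos k
  have h := mj_gap (p ^ k) p (fun a => ex a % p ^ k) (fun a => ex a / p ^ k)
    (fun a => Nat.mod_lt _ hpk)
    (fun a => by
      rw [Nat.div_lt_iff_lt_mul hpk, mul_comm, ← pow_succ]
      exact hex a)
    c Z hZ 2 (by norm_num) hgap
  rcases h with h | h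
  · left; exact h
  · right; linarith

end Cfsg.Agent.Lib.Helper24
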