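import Mathlib
import Cfsg.Agent.Lib.Helper24.MJ11
import Cfsg.Agent.Lib.helper7.BlockOsima

set_option autoImplicit false
set_option linter.style.haveILetI false
set_option linter.unusedVariables false
set_option warn.classDefReducibility false
set_option maxHeartbeats 1600000

namespace Cfsg.Agent.Lib.Helper24
open scoped ComplexConjugate
open Cfsg.Agent.Lib.helper2
open Cfsg.Agent.Lib.helper7
open Cfsg.Agent.Lib.Helper25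

theorem mj_p_pow_mem {p : ℕ} [hp : Fact p.Prime] {M : Ideal Cfsg.AlgInt}
    (hM : Cfsg.IsPModular p M) (h : ℕ) (hh : 1 ≤ h) : Cfsg.MemLocalIdeal M ((p : ℂ) ^ h) := by
  have hMp := hM.2.1.isPrime
  have h1 : Cfsg.MemLocalIdeal M ((p : ℕ) : ℂ) := h7_memLocalIdeal_p hM
  have h2 : (p : ℂ) ^ h = ((p : ℕ) : ℂ) * ((p ^ (h - 1) : ℕ) : ℂ) := by
    push_cast
    rw [← pow_succ']
    congr 1
    omega
  rw [h2]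
  exact h7_memLocalIdeal_mul_right hMp h1 (h7_memLocalRing_natCast hMp _)

theorem mj_count_D {ι κ : Type*} [Fintype κ]
    (p : ℕ) [hp : Fact p.Prime] (M : Ideal Cfsg.AlgInt) (hM : Cfsg.IsPModular p M)
    (k : ℕ) (ζ : ℂ) (hζ : ζ ^ (p ^ (k + 1)) = 1) (ex : κ → ℕ)
    (c : ι → κ → ℤ) (Z : κ → κ → ℤ) (hZs : ∀ a b, Z a b = Z b a)
    (Bf : Finset ι) (ht : ι → ℕ)
    (hunit : ∀ χ ∈ Bf, ht χ = 0 → ∀ j, ¬ Cfsg.MemLocalIdeal M (mj_u ζ ex (c χ) (c χ) Z j))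
    (hcong : ∀ j, (p ^ (k + 1)).Coprime j → ∀ χ ∈ Bf, ∀ ψ ∈ Bf, ∀ ψ' ∈ Bf,
       Cfsg.MemLocalRing M (mj_u ζ ex (c χ) (c ψ) Z j / (p : ℂ) ^ ht ψ) ∧
       (Cfsg.MemLocalIdeal M (mj_u ζ ex (c χ) (c ψ) Z j / (p : ℂ) ^ ht ψ) →
        Cfsg.MemLocalIdeal M (mj_u ζ ex (c χ) (c ψ') Z j / (p : ℂ) ^ ht ψ')))
    (χ₀ : ι) (hχ₀ : χ₀ ∈ Bf) (h0 : ht χ₀ = 0) :
    (∀ χ ∈ Bf, ht χ = 0 → ∀ ψ ∈ Bf,
      ¬ Cfsg.MemLocalIdeal M (mj_u ζ ex (c χ) (c ψ) Z 1 / (p : ℂ) ^ ht ψ)) ∧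
    (∀ ψ ∈ Bf, 1 ≤ ht ψ → ∀ ψ' ∈ Bf,
      Cfsg.MemLocalIdeal M (mj_u ζ ex (c ψ) (c ψ') Z 1 / (p : ℂ) ^ ht ψ')) := by
  have hMp := hM.2.1.isPrime
  have hn0 : p ^ (k + 1) ≠ 0 := pow_ne_zero _ hp.out.ne_zero
  have hn1 : 1 ≤ p ^ (k + 1) := Nat.one_le_iff_ne_zero.mpr hn0
  have hcop1 : (p ^ (k + 1)).Coprime 1 := Nat.coprime_one_right _
  have hcopn : (p ^ (k + 1)).Coprime (p ^ (k + 1) - 1) :=
    (Nat.coprime_self_sub_right hn1).mpr hcop1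
  constructor
  · intro χ hχ hχ0 ψ hψ hmem
    have h1 := (hcong 1 hcop1 χ hχ ψ hψ χ hχ).2 hmem
    rw [hχ0, pow_zero, div_one] at h1
    exact hunit χ hχ hχ0 1 h1
  · intro ψ hψ hψ1 ψ' hψ'
    have h1 := (hcong _ hcopn χ₀ hχ₀ ψ hψ ψ hψ).1
    have h2 : mj_u ζ ex (c ψ) (c χ₀) Z 1 = mj_u ζ ex (c χ₀) (c ψ) Z (p ^ (k + 1) - 1) := by
      rw [mj_u_neg _ hn0 ζ hζ, mj_u_conj ζ ex _ _ Z hZs]
    have hpne : (p : ℂ) ^ ht ψ ≠ 0 := pow_ne_zero _ (by exact_mod_cast hp.out.ne_zero)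
    have h3 : Cfsg.MemLocalIdeal M (mj_u ζ ex (c ψ) (c χ₀) Z 1 / (p : ℂ) ^ ht χ₀) := by
      rw [h0, pow_zero, div_one, h2]
      have e : mj_u ζ ex (c χ₀) (c ψ) Z (p ^ (k + 1) - 1) =
          (p : ℂ) ^ ht ψ * (mj_u ζ ex (c χ₀) (c ψ) Z (p ^ (k + 1) - 1) / (p : ℂ) ^ ht ψ) := by
        field_simp
      rw [e]
      exact h7_memLocalIdeal_mul_right hMp (mj_p_pow_mem hM _ hψ1) h1
    exact (hcong 1 hcop1 ψ hψ χ₀ hχ₀ ψ' hψ').2 h3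

end Cfsg.Agent.Lib.Helper24
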