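import Mathlib
import Cfsg.Agent.Lib.Helper24.MJ12

set_option autoImplicit false
set_option linter.style.haveILetI false
set_option linter.unusedVariables false
set_option warn.classDefReducibility false
set_option maxHeartbeats 1600000

namespace Cfsg.Agent.Lib.Helper24
open scoped ComplexConjugate
open Cfsg.Agent.Lib.helper2
open Cfsg.Agent.Lib.helper7
open Cfsg.Agent.Lib.Helper25

theorem mj_J_card (p : ℕ) (hp : p.Prime) (k : ℕ) :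
    ((Finset.range (p ^ (k + 1))).filter (Nat.Coprime (p ^ (k + 1)))).card = p ^ k * (p - 1) := by
  rw [← Nat.totient_eq_card_coprime, Nat.totient_prime_pow_succ hp]

theorem mj_one_mem_J (p : ℕ) (hp : p.Prime) (k : ℕ) :
    1 ∈ (Finset.range (p ^ (k + 1))).filter (Nat.Coprime (p ^ (k + 1))) := by
  rw [Finset.mem_filter, Finset.mem_range]
  refine ⟨?_, Nat.coprime_one_right _⟩
  exact Nat.one_lt_pow (Nat.succ_ne_zero k) hp.one_lt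

theorem mj_count_A {ι κ : Type*} [Fintype κ]
    (p : ℕ) [hp : Fact p.Prime] (M : Ideal Cfsg.AlgInt) (hM : Cfsg.IsPModular p M)
    (k d l : ℕ) (ζ : ℂ) (hζ : IsPrimitiveRoot ζ (p ^ (k + 1))) (ex : κ → ℕ)
    (hex : ∀ a, ex a < p ^ (k + 1))
    (c : ι → κ → ℤ) (Z : κ → κ → ℤ) (hZs : ∀ a b, Z a b = Z b a)
    (hgap : ∀ w : κ → ℤ, mj_q Z w = 0 ∨ 2 ≤ mj_q Z w)
    (Bf : Finset ι) (ht : ι → ℕ)
    (hidem : ∀ j, (p ^ (k + 1)).Coprime j → ∀ χ ∈ Bf, ∀ χ' ∈ Bf,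
      ∑ ψ ∈ Bf, mj_u ζ ex (c χ) (c ψ) Z j * conj (mj_u ζ ex (c χ') (c ψ) Z j) =
        (p : ℂ) ^ d * mj_u ζ ex (c χ) (c χ') Z j)
    (htrace : ∀ j, (p ^ (k + 1)).Coprime j →
      ∑ χ ∈ Bf, mj_u ζ ex (c χ) (c χ) Z j = (p : ℂ) ^ d * (l : ℂ))
    (hl : l ≤ 2)
    (hD1 : ∀ χ ∈ Bf, ht χ = 0 → ∀ ψ ∈ Bf,
      ¬ Cfsg.MemLocalIdeal M (mj_u ζ ex (c χ) (c ψ) Z 1 / (p : ℂ) ^ ht ψ))
    (χ₀ : ι) (hχ₀ : χ₀ ∈ Bf) (h0 : ht χ₀ = 0) :
    Bf.card ≤ p ^ d := by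
  have hMp := hM.2.1.isPrime
  have hpp := hp.out
  set n := p ^ (k + 1) with hn
  set J := (Finset.range n).filter (Nat.Coprime n) with hJ
  have hJcop : ∀ j ∈ J, n.Coprime j := fun j hj => (Finset.mem_filter.mp hj).2
  have h1J : 1 ∈ J := mj_one_mem_J p hpp k
  have hJcard : J.card = p ^ k * (p - 1) := mj_J_card p hpp k
  set T : ι → ℤ := fun χ =>
    mj_T p (fun a => ex a % p ^ k) (fun a => ex a / p ^ k) (c χ) Z with hT
  have hTsum : ∀ χ, 2 * ∑ j ∈ J, mj_u ζ ex (c χ) (c χ) Z j = ((p ^ k : ℕ) : ℂ) * (T χ : ℂ) :=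
    fun χ => mj_u_sum p hpp k ζ hζ ex hex (c χ) Z
  have hpd0 : (0 : ℝ) < (p : ℝ) ^ d := pow_pos (by exact_mod_cast hpp.pos) d
  have hpk0 : (0 : ℝ) < (p : ℝ) ^ k := pow_pos (by exact_mod_cast hpp.pos) k
  have hreal : ∀ χ ∈ Bf, (p : ℝ) ^ d * ((p : ℝ) ^ k * (T χ : ℝ)) =
      2 * ∑ j ∈ J, ∑ ψ ∈ Bf, Complex.normSq (mj_u ζ ex (c χ) (c ψ) Z j) := by
    intro χ hχ
    have h1 : (((p : ℝ) ^ d * ((p : ℝ) ^ k * (T χ : ℝ)) : ℝ) : ℂ) =
        ((2 * ∑ j ∈ J, ∑ ψ ∈ Bf, Complex.normSq (mj_u ζ ex (c χ) (c ψ) Z j) : ℝ) : ℂ) := by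
      push_cast
      have h2 := hTsum χ
      push_cast at h2
      rw [← h2, Finset.mul_sum, Finset.mul_sum, Finset.mul_sum]
      refine Finset.sum_congr rfl fun j hj => ?_
      rw [mul_left_comm, ← hidem j (hJcop j hj) χ hχ χ hχ]
      congr 1
      refine Finset.sum_congr rfl fun ψ _ => ?_
      rw [Complex.mul_conj]
    exact_mod_cast h1
  have hTpos : ∀ χ ∈ Bf, 0 < T χ := by
    intro χ hχ
    have hne : mj_u ζ ex (c χ) (c χ₀) Z 1 ≠ 0 := by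
      intro h0'
      apply hD1 χ₀ hχ₀ h0 χ hχ
      rw [← mj_u_conj ζ ex _ _ Z hZs, h0', map_zero, zero_div]
      exact h7_memLocalIdeal_zero hMp
    have h1 : 0 < Complex.normSq (mj_u ζ ex (c χ) (c χ₀) Z 1) := Complex.normSq_pos.mpr hne
    have h2 : Complex.normSq (mj_u ζ ex (c χ) (c χ₀) Z 1) ≤
        ∑ j ∈ J, ∑ ψ ∈ Bf, Complex.normSq (mj_u ζ ex (c χ) (c ψ) Z j) := by
      calc Complex.normSq (mj_u ζ ex (c χ) (c χ₀) Z 1)
          ≤ ∑ ψ ∈ Bf, Complex.normSq (mj_u ζ ex (c χ) (c ψ) Z 1) :=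
            Finset.single_le_sum (f := fun ψ => Complex.normSq (mj_u ζ ex (c χ) (c ψ) Z 1))
              (fun _ _ => Complex.normSq_nonneg _) hχ₀
        _ ≤ _ := Finset.single_le_sum
              (f := fun j => ∑ ψ ∈ Bf, Complex.normSq (mj_u ζ ex (c χ) (c ψ) Z j))
              (fun _ _ => Finset.sum_nonneg fun _ _ => Complex.normSq_nonneg _) h1J
    have h3 := hreal χ hχ
    have h4 : (0 : ℝ) < (T χ : ℝ) := by
      by_contra hneg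
      push Not at hneg
      have : (p : ℝ) ^ d * ((p : ℝ) ^ k * (T χ : ℝ)) ≤ 0 :=
        mul_nonpos_of_nonneg_of_nonpos hpd0.le (mul_nonpos_of_nonneg_of_nonpos hpk0.le hneg)
      linarith
    exact_mod_cast h4
  have hTge : ∀ χ ∈ Bf, 4 * ((p : ℤ) - 1) ≤ T χ := by
    intro χ hχ
    rcases mj_T_gapA p hpp k ex hex (c χ) Z hZs hgap with h | h
    · exact absurd h (hTpos χ hχ).ne'
    · exact h
  have hsum : ((p ^ k : ℕ) : ℂ) * ((∑ χ ∈ Bf, T χ : ℤ) : ℂ) =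
      ((p ^ k : ℕ) : ℂ) * ((2 * ((p : ℤ) - 1) * (p : ℤ) ^ d * (l : ℤ) : ℤ) : ℂ) := by
    push_cast
    rw [Finset.mul_sum]
    have e1 : ∀ χ ∈ Bf, (p : ℂ) ^ k * (T χ : ℂ) = 2 * ∑ j ∈ J, mj_u ζ ex (c χ) (c χ) Z j := by
      intro χ _
      have := hTsum χ
      push_cast at this
      rw [this]
    rw [Finset.sum_congr rfl e1, ← Finset.mul_sum, Finset.sum_comm,
      Finset.sum_congr rfl (fun j hj => htrace j (hJcop j hj)), Finset.sum_const, hJcard,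
      nsmul_eq_mul]
    have hp1 : 1 ≤ p := hpp.one_lt.le
    push_cast [Nat.cast_sub hp1]
    ring
  have hpkne : ((p ^ k : ℕ) : ℂ) ≠ 0 := by exact_mod_cast (pow_pos hpp.pos k).ne'
  have hsum' : ∑ χ ∈ Bf, T χ = 2 * ((p : ℤ) - 1) * (p : ℤ) ^ d * (l : ℤ) := by
    exact_mod_cast mul_left_cancel₀ hpkne hsum
  have hlow : (Bf.card : ℤ) * (4 * ((p : ℤ) - 1)) ≤ ∑ χ ∈ Bf, T χ := by
    rw [← nsmul_eq_mul, ← Finset.sum_const]
    exact Finset.sum_le_sum hTge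
  have hp2 : (1 : ℤ) ≤ (p : ℤ) - 1 := by
    have := hpp.two_le
    omega
  have hl' : (l : ℤ) ≤ 2 := by exact_mod_cast hl
  have hfin : (Bf.card : ℤ) * (4 * ((p : ℤ) - 1)) ≤ (p : ℤ) ^ d * (4 * ((p : ℤ) - 1)) := by
    calc (Bf.card : ℤ) * (4 * ((p : ℤ) - 1)) ≤ ∑ χ ∈ Bf, T χ := hlow
      _ = 2 * ((p : ℤ) - 1) * (p : ℤ) ^ d * (l : ℤ) := hsum'
      _ ≤ 2 * ((p : ℤ) - 1) * (p : ℤ) ^ d * 2 := by
          apply mul_le_mul_of_nonneg_left hl'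
          positivity
      _ = _ := by ring
  have h4 : (0 : ℤ) < 4 * ((p : ℤ) - 1) := by linarith
  have := le_of_mul_le_mul_right hfin h4
  exact_mod_cast this

end Cfsg.Agent.Lib.Helper24
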