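import Mathlib
import Cfsg.Agent.Lib.Helper24.MJ10
import Cfsg.Agent.Lib.Helper24.MJ13

set_option autoImplicit false
set_option linter.style.haveILetI false
set_option linter.unusedVariables false
set_option warn.classDefReducibility false
set_option maxHeartbeats 3200000

namespace Cfsg.Agent.Lib.Helper24
open scoped ComplexConjugate
open Cfsg.Agent.Lib.helper2
open Cfsg.Agent.Lib.helper7
open Cfsg.Agent.Lib.Helper25

theorem mj_padic_Y {M : Ideal Cfsg.AlgInt} (hMp : M.IsPrime) (g a b b' : ℂ)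
    (haR : Cfsg.MemLocalRing M a) (hbR : Cfsg.MemLocalRing M b)
    (hA : ¬ Cfsg.MemLocalIdeal M (g * a * b')) (hB : Cfsg.MemLocalIdeal M (g * b * b')) :
    Cfsg.MemLocalIdeal M b := by
  by_contra hb
  have hb0 : b ≠ 0 := by
    rintro rfl
    exact hb (h7_memLocalIdeal_zero hMp)
  have binv := h7_memLocalRing_inv hMp hbR hb
  apply hA
  have e : g * a * b' = a * ((g * b * b') * b⁻¹) := by
    field_simp
  rw [e]
  exact h7_memLocalIdeal_mul_left hMp haR (h7_memLocalIdeal_mul_right hMp hB binv)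

theorem mj_T_real {κ : Type*} [Fintype κ] (p : ℕ) (hp : p.Prime) (k : ℕ) (ζ : ℂ)
    (hζ : IsPrimitiveRoot ζ (p ^ (k + 1))) (ex : κ → ℕ) (hex : ∀ a, ex a < p ^ (k + 1))
    (c x : κ → ℤ) :
    2 * ∑ j ∈ (Finset.range (p ^ (k + 1))).filter (Nat.Coprime (p ^ (k + 1))),
      Complex.normSq (mj_R ζ ex c x j) =
    (p : ℝ) ^ k *
      ((mj_T p (fun a => ex a % p ^ k) (fun a => ex a / p ^ k) c (fun a b => x a * x b) : ℤ) : ℝ)
    := by
  have h := mj_R_sum p hp k ζ hζ ex hex c x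
  have h1 : ((2 * ∑ j ∈ (Finset.range (p ^ (k + 1))).filter (Nat.Coprime (p ^ (k + 1))),
      Complex.normSq (mj_R ζ ex c x j) : ℝ) : ℂ) = (((p : ℝ) ^ k *
      ((mj_T p (fun a => ex a % p ^ k) (fun a => ex a / p ^ k) c (fun a b => x a * x b) : ℤ) : ℝ)
        : ℝ) : ℂ) := by
    push_cast
    push_cast at h
    exact h
  exact_mod_cast h1

theorem mj_T_facts {κ : Type*} [Fintype κ] (p : ℕ) (hp : p.Prime) (k : ℕ) (ζ : ℂ)
    (hζ : IsPrimitiveRoot ζ (p ^ (k + 1))) (ex : κ → ℕ) (hex : ∀ a, ex a < p ^ (k + 1))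
    (c x : κ → ℤ) :
    0 ≤ mj_T p (fun a => ex a % p ^ k) (fun a => ex a / p ^ k) c (fun a b => x a * x b) ∧
    (mj_T p (fun a => ex a % p ^ k) (fun a => ex a / p ^ k) c (fun a b => x a * x b) = 0 →
      mj_R ζ ex c x 1 = 0) ∧
    (mj_R ζ ex c x 1 ≠ 0 → 2 * ((p : ℤ) - 1) ≤
      mj_T p (fun a => ex a % p ^ k) (fun a => ex a / p ^ k) c (fun a b => x a * x b)) ∧
    (mj_R ζ ex c x 1 ≠ 0 → (p : ℤ) ∣ ∑ a, c a * x a → 4 * ((p : ℤ) - 1) ≤
      mj_T p (fun a => ex a % p ^ k) (fun a => ex a / p ^ k) c (fun a b => x a * x b)) := by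
  have h := mj_T_real p hp k ζ hζ ex hex c x
  set J := (Finset.range (p ^ (k + 1))).filter (Nat.Coprime (p ^ (k + 1))) with hJ
  set T := mj_T p (fun a => ex a % p ^ k) (fun a => ex a / p ^ k) c (fun a b => x a * x b) with hT
  have h1J : 1 ∈ J := mj_one_mem_J p hp k
  have hpk0 : (0 : ℝ) < (p : ℝ) ^ k := pow_pos (by exact_mod_cast hp.pos) k
  have hsum0 : 0 ≤ ∑ j ∈ J, Complex.normSq (mj_R ζ ex c x j) :=
    Finset.sum_nonneg fun _ _ => Complex.normSq_nonneg _
  have hle : Complex.normSq (mj_R ζ ex c x 1) ≤ ∑ j ∈ J, Complex.normSq (mj_R ζ ex c x j) :=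
    Finset.single_le_sum (f := fun j => Complex.normSq (mj_R ζ ex c x j))
      (fun _ _ => Complex.normSq_nonneg _) h1J
  have hT0 : 0 ≤ T := by
    have : (0 : ℝ) ≤ (T : ℝ) := by
      by_contra hneg
      push Not at hneg
      have : (p : ℝ) ^ k * (T : ℝ) < 0 := mul_neg_of_pos_of_neg hpk0 hneg
      linarith
    exact_mod_cast this
  have hzero : T = 0 → mj_R ζ ex c x 1 = 0 := by
    intro h0
    rw [h0] at h
    have h2 : Complex.normSq (mj_R ζ ex c x 1) ≤ 0 := by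
      have : ∑ j ∈ J, Complex.normSq (mj_R ζ ex c x j) = 0 := by
        simp only [Int.cast_zero, mul_zero] at h
        linarith
      linarith
    have h3 := Complex.normSq_nonneg (mj_R ζ ex c x 1)
    exact Complex.normSq_eq_zero.mp (le_antisymm h2 h3)
  refine ⟨hT0, hzero, ?_, ?_⟩
  · intro hne
    rcases mj_T_gap1 p hp k ex hex c x with h0 | h0
    · exact absurd (hzero h0) hne
    · exact h0
  · intro hne hdiv
    rcases mj_T_gap2 p hp k ex hex c x hdiv with h0 | h0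
    · exact absurd (hzero h0) hne
    · exact h0

end Cfsg.Agent.Lib.Helper24
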