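import Mathlib
import Cfsg.Agent.Lib.Helper24.MJ14

set_option autoImplicit false
set_option linter.style.haveILetI false
set_option linter.unusedVariables false
set_option warn.classDefReducibility false
set_option maxHeartbeats 3200000

namespace Cfsg.Agent.Lib.Helper24
open scoped ComplexConjugate
open Cfsg.Agent.Lib.helper2
open Cfsg.Agent.Lib.helper7
open Cfsg.Agent.Lib.Helper25

theorem mj_col_sums {ι κ : Type*} [Fintype κ]
    (p : ℕ) [hp : Fact p.Prime]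
    (k d : ℕ) (ζ : ℂ) (hζ : IsPrimitiveRoot ζ (p ^ (k + 1))) (ex : κ → ℕ)
    (hex : ∀ a, ex a < p ^ (k + 1))
    (c : ι → κ → ℤ) (Z : κ → κ → ℤ) (x y : κ → ℤ) (γ : ℤ) (hγ0 : 0 ≤ γ)
    (hZ : ∀ a b, Z a b = x a * x b + γ * y a * y b)
    (Bf : Finset ι)
    (hidem : ∀ j, (p ^ (k + 1)).Coprime j → ∀ χ ∈ Bf, ∀ χ' ∈ Bf,
      ∑ ψ ∈ Bf, mj_u ζ ex (c χ) (c ψ) Z j * conj (mj_u ζ ex (c χ') (c ψ) Z j) =
        (p : ℂ) ^ d * mj_u ζ ex (c χ) (c χ') Z j) :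
    (∑ χ ∈ Bf, mj_T p (fun a => ex a % p ^ k) (fun a => ex a / p ^ k) (c χ)
        (fun a b => x a * x b) ≤ 2 * ((p : ℤ) - 1) * (p : ℤ) ^ d) ∧
    (γ * ∑ χ ∈ Bf, mj_T p (fun a => ex a % p ^ k) (fun a => ex a / p ^ k) (c χ)
        (fun a b => y a * y b) ≤ 2 * ((p : ℤ) - 1) * (p : ℤ) ^ d) := by
  have hpp := hp.out
  set n := p ^ (k + 1) with hn
  set J := (Finset.range n).filter (Nat.Coprime n) with hJ
  have hJcop : ∀ j ∈ J, n.Coprime j := fun j hj => (Finset.mem_filter.mp hj).2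
  have hJcard : J.card = p ^ k * (p - 1) := mj_J_card p hpp k
  have hpd0 : (0 : ℝ) < (p : ℝ) ^ d := pow_pos (by exact_mod_cast hpp.pos) d
  have hpk0 : (0 : ℝ) < (p : ℝ) ^ k := pow_pos (by exact_mod_cast hpp.pos) k
  have hγR : (0 : ℝ) ≤ (γ : ℝ) := by exact_mod_cast hγ0
  have hcol : ∀ j ∈ J, ∑ χ ∈ Bf, Complex.normSq (mj_R ζ ex (c χ) x j) ≤ (p : ℝ) ^ d ∧
      (γ : ℝ) * ∑ χ ∈ Bf, Complex.normSq (mj_R ζ ex (c χ) y j) ≤ (p : ℝ) ^ d := by
    intro j hj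
    apply mj_col_bound Bf (fun χ => mj_R ζ ex (c χ) x j) (fun χ => mj_R ζ ex (c χ) y j)
      (γ : ℝ) ((p : ℝ) ^ d) hγR hpd0
    intro χ hχ χ' hχ'
    have h1 := hidem j (hJcop j hj) χ hχ χ' hχ'
    simp only [mj_u_decomp ζ ex _ _ Z x y γ hZ j] at h1
    push_cast
    exact h1
  have hJR : (J.card : ℝ) = (p : ℝ) ^ k * ((p : ℝ) - 1) := by
    rw [hJcard]
    have hp1 : 1 ≤ p := hpp.one_lt.le
    push_cast [Nat.cast_sub hp1]
    ring
  constructor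
  · have h1 : (p : ℝ) ^ k * ((∑ χ ∈ Bf, mj_T p (fun a => ex a % p ^ k)
        (fun a => ex a / p ^ k) (c χ) (fun a b => x a * x b) : ℤ) : ℝ) ≤
        (p : ℝ) ^ k * ((2 * ((p : ℤ) - 1) * (p : ℤ) ^ d : ℤ) : ℝ) := by
      push_cast
      rw [Finset.mul_sum]
      calc ∑ χ ∈ Bf, (p : ℝ) ^ k * ((mj_T p (fun a => ex a % p ^ k)
            (fun a => ex a / p ^ k) (c χ) (fun a b => x a * x b) : ℤ) : ℝ)
          = ∑ χ ∈ Bf, 2 * ∑ j ∈ J, Complex.normSq (mj_R ζ ex (c χ) x j) :=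
            Finset.sum_congr rfl fun χ _ => (mj_T_real p hpp k ζ hζ ex hex (c χ) x).symm
        _ = 2 * ∑ j ∈ J, ∑ χ ∈ Bf, Complex.normSq (mj_R ζ ex (c χ) x j) := by
            rw [← Finset.mul_sum, Finset.sum_comm]
        _ ≤ 2 * ∑ j ∈ J, (p : ℝ) ^ d := by
            apply mul_le_mul_of_nonneg_left _ (by norm_num)
            exact Finset.sum_le_sum fun j hj => (hcol j hj).1
        _ = (p : ℝ) ^ k * (2 * ((p : ℝ) - 1) * (p : ℝ) ^ d) := by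
            rw [Finset.sum_const, nsmul_eq_mul, hJR]
            ring
    have h2 := le_of_mul_le_mul_left h1 hpk0
    exact_mod_cast h2
  · have h1 : (p : ℝ) ^ k * ((γ * ∑ χ ∈ Bf, mj_T p (fun a => ex a % p ^ k)
        (fun a => ex a / p ^ k) (c χ) (fun a b => y a * y b) : ℤ) : ℝ) ≤
        (p : ℝ) ^ k * ((2 * ((p : ℤ) - 1) * (p : ℤ) ^ d : ℤ) : ℝ) := by
      push_cast
      rw [Finset.mul_sum, Finset.mul_sum]
      calc ∑ χ ∈ Bf, (p : ℝ) ^ k * ((γ : ℝ) * ((mj_T p (fun a => ex a % p ^ k)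
            (fun a => ex a / p ^ k) (c χ) (fun a b => y a * y b) : ℤ) : ℝ))
          = ∑ χ ∈ Bf, (γ : ℝ) * (2 * ∑ j ∈ J, Complex.normSq (mj_R ζ ex (c χ) y j)) := by
            refine Finset.sum_congr rfl fun χ _ => ?_
            rw [mj_T_real p hpp k ζ hζ ex hex (c χ) y]
            ring
        _ = 2 * ∑ j ∈ J, (γ : ℝ) * ∑ χ ∈ Bf, Complex.normSq (mj_R ζ ex (c χ) y j) := by
            rw [← Finset.mul_sum, ← Finset.mul_sum, ← Finset.mul_sum, Finset.sum_comm]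
            ring
        _ ≤ 2 * ∑ j ∈ J, (p : ℝ) ^ d := by
            apply mul_le_mul_of_nonneg_left _ (by norm_num)
            exact Finset.sum_le_sum fun j hj => (hcol j hj).2
        _ = (p : ℝ) ^ k * (2 * ((p : ℝ) - 1) * (p : ℝ) ^ d) := by
            rw [Finset.sum_const, nsmul_eq_mul, hJR]
            ring
    have h2 := le_of_mul_le_mul_left h1 hpk0
    exact_mod_cast h2

end Cfsg.Agent.Lib.Helper24
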