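import Mathlib
import Cfsg.Agent.Lib.Helper24.MJ15

set_option autoImplicit false
set_option linter.style.haveILetI false
set_option linter.unusedVariables false
set_option warn.classDefReducibility false
set_option maxHeartbeats 3200000

namespace Cfsg.Agent.Lib.Helper24
open scoped ComplexConjugate
open Cfsg.Agent.Lib.helper2
open Cfsg.Agent.Lib.helper7
open Cfsg.Agent.Lib.Helper25

theorem mj_count_B {ι κ : Type*} [Fintype κ]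
    (p : ℕ) [hp : Fact p.Prime] (M : Ideal Cfsg.AlgInt) (hM : Cfsg.IsPModular p M)
    (k d : ℕ) (ζ : ℂ) (hζ : IsPrimitiveRoot ζ (p ^ (k + 1))) (ex : κ → ℕ)
    (hex : ∀ a, ex a < p ^ (k + 1))
    (c : ι → κ → ℤ) (Z : κ → κ → ℤ) (x y : κ → ℤ) (γ : ℤ) (hγ0 : 0 ≤ γ)
    (hγp : (p : ℤ) ∣ γ)
    (hZ : ∀ a b, Z a b = x a * x b + γ * y a * y b)
    (Bf : Finset ι) (ht : ι → ℕ)
    (hidem : ∀ j, (p ^ (k + 1)).Coprime j → ∀ χ ∈ Bf, ∀ χ' ∈ Bf,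
      ∑ ψ ∈ Bf, mj_u ζ ex (c χ) (c ψ) Z j * conj (mj_u ζ ex (c χ') (c ψ) Z j) =
        (p : ℂ) ^ d * mj_u ζ ex (c χ) (c χ') Z j)
    (hunit : ∀ χ ∈ Bf, ht χ = 0 → ¬ Cfsg.MemLocalIdeal M (mj_u ζ ex (c χ) (c χ) Z 1))
    (hD1 : ∀ χ ∈ Bf, ht χ = 0 → ∀ ψ ∈ Bf,
      ¬ Cfsg.MemLocalIdeal M (mj_u ζ ex (c χ) (c ψ) Z 1 / (p : ℂ) ^ ht ψ))
    (hD2 : ∀ ψ ∈ Bf, 1 ≤ ht ψ → ∀ ψ' ∈ Bf,
      Cfsg.MemLocalIdeal M (mj_u ζ ex (c ψ) (c ψ') Z 1 / (p : ℂ) ^ ht ψ'))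
    (χ₀ : ι) (hχ₀ : χ₀ ∈ Bf) (h0 : ht χ₀ = 0) :
    Bf.card ≤ p ^ d := by
  have hMp := hM.2.1.isPrime
  have hpp := hp.out
  have hζ1 : ζ ^ (p ^ (k + 1)) = 1 := hζ.pow_eq_one
  set X : ι → ℂ := fun χ => mj_R ζ ex (c χ) x 1 with hX
  set Y : ι → ℂ := fun χ => mj_R ζ ex (c χ) y 1 with hY
  set TX : ι → ℤ := fun χ => mj_T p (fun a => ex a % p ^ k) (fun a => ex a / p ^ k) (c χ)
    (fun a b => x a * x b) with hTX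
  set TY : ι → ℤ := fun χ => mj_T p (fun a => ex a % p ^ k) (fun a => ex a / p ^ k) (c χ)
    (fun a b => y a * y b) with hTY
  have hdec : ∀ χ ψ, mj_u ζ ex (c χ) (c ψ) Z 1 =
      X χ * conj (X ψ) + (γ : ℂ) * Y χ * conj (Y ψ) :=
    fun χ ψ => mj_u_decomp ζ ex (c χ) (c ψ) Z x y γ hZ 1
  obtain ⟨hsumX, hsumY⟩ := mj_col_sums p k d ζ hζ ex hex c Z x y γ hγ0 hZ Bf hidem
  have hXR : ∀ χ, Cfsg.MemLocalRing M (X χ) ∧ Cfsg.MemLocalRing M (conj (X χ)) :=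
    fun χ => mj_R_ring hM k ζ hζ1 ex (c χ) x 1
  have hYR : ∀ χ, Cfsg.MemLocalRing M (Y χ) ∧ Cfsg.MemLocalRing M (conj (Y χ)) :=
    fun χ => mj_R_ring hM k ζ hζ1 ex (c χ) y 1
  have hXI : ∀ χ, (Cfsg.MemLocalIdeal M (X χ) ↔ (p : ℤ) ∣ ∑ a, c χ a * x a) ∧
      (Cfsg.MemLocalIdeal M (conj (X χ)) ↔ (p : ℤ) ∣ ∑ a, c χ a * x a) :=
    fun χ => mj_R_ideal hM k ζ hζ1 ex (c χ) x 1
  have hYI : ∀ χ, (Cfsg.MemLocalIdeal M (Y χ) ↔ (p : ℤ) ∣ ∑ a, c χ a * y a) ∧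
      (Cfsg.MemLocalIdeal M (conj (Y χ)) ↔ (p : ℤ) ∣ ∑ a, c χ a * y a) :=
    fun χ => mj_R_ideal hM k ζ hζ1 ex (c χ) y 1
  have hγM : Cfsg.MemLocalIdeal M (γ : ℂ) := (hz_memLocalIdeal_intCast_iff hM γ).mpr hγp
  have hγterm : ∀ χ ψ, Cfsg.MemLocalIdeal M ((γ : ℂ) * Y χ * conj (Y ψ)) := fun χ ψ =>
    h7_memLocalIdeal_mul_right hMp (h7_memLocalIdeal_mul_right hMp hγM (hYR χ).1) (hYR ψ).2
  have hFX : ∀ χ, 0 ≤ TX χ ∧ (TX χ = 0 → X χ = 0) ∧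
      (X χ ≠ 0 → 2 * ((p : ℤ) - 1) ≤ TX χ) ∧
      (X χ ≠ 0 → (p : ℤ) ∣ ∑ a, c χ a * x a → 4 * ((p : ℤ) - 1) ≤ TX χ) :=
    fun χ => mj_T_facts p hpp k ζ hζ ex hex (c χ) x
  have hFY : ∀ χ, 0 ≤ TY χ ∧ (TY χ = 0 → Y χ = 0) ∧
      (Y χ ≠ 0 → 2 * ((p : ℤ) - 1) ≤ TY χ) ∧
      (Y χ ≠ 0 → (p : ℤ) ∣ ∑ a, c χ a * y a → 4 * ((p : ℤ) - 1) ≤ TY χ) :=
    fun χ => mj_T_facts p hpp k ζ hζ ex hex (c χ) y
  have hD3 : ∀ χ ∈ Bf, ht χ = 0 → ¬ Cfsg.MemLocalIdeal M (X χ) := by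
    intro χ hχ hχ0 hmem
    apply hunit χ hχ hχ0
    rw [hdec χ χ]
    exact h7_memLocalIdeal_add hMp (h7_memLocalIdeal_mul_right hMp hmem (hXR χ).2) (hγterm χ χ)
  have hX0ne : ∀ χ ∈ Bf, ht χ = 0 → X χ ≠ 0 := by
    intro χ hχ hχ0 h
    apply hD3 χ hχ hχ0
    rw [h]
    exact h7_memLocalIdeal_zero hMp
  have hD4 : ∀ ψ ∈ Bf, 1 ≤ ht ψ → Cfsg.MemLocalIdeal M (X ψ) := by
    intro ψ hψ hψ1
    have h1 := hD2 ψ hψ hψ1 χ₀ hχ₀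
    rw [h0, pow_zero, div_one, hdec ψ χ₀] at h1
    have h2 := h7_memLocalIdeal_sub hMp h1 (hγterm ψ χ₀)
    rw [add_sub_cancel_right] at h2
    rcases h7_memLocalIdeal_mul_cases hMp (hXR ψ).1 (hXR χ₀).2 h2 with h3 | h3
    · exact h3
    · exact absurd ((hXI χ₀).1.mpr ((hXI χ₀).2.mp h3)) (hD3 χ₀ hχ₀ h0)
  have hp1 : (1 : ℤ) ≤ (p : ℤ) - 1 := by
    have := hpp.two_le
    omega
  have hpdpos : (0 : ℤ) < (p : ℤ) ^ d := pow_pos (by exact_mod_cast hpp.pos) d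
  by_cases hall : ∀ χ ∈ Bf, TX χ ≠ 0
  · have hge : ∀ χ ∈ Bf, 2 * ((p : ℤ) - 1) ≤ TX χ := by
      intro χ hχ
      rcases mj_T_gap1 p hpp k ex hex (c χ) x with h | h
      · exact absurd h (hall χ hχ)
      · exact h
    have hlow : (Bf.card : ℤ) * (2 * ((p : ℤ) - 1)) ≤ ∑ χ ∈ Bf, TX χ := by
      rw [← nsmul_eq_mul, ← Finset.sum_const]
      exact Finset.sum_le_sum hge
    have hfin : (Bf.card : ℤ) * (2 * ((p : ℤ) - 1)) ≤ (p : ℤ) ^ d * (2 * ((p : ℤ) - 1)) := by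
      calc (Bf.card : ℤ) * (2 * ((p : ℤ) - 1)) ≤ ∑ χ ∈ Bf, TX χ := hlow
        _ ≤ 2 * ((p : ℤ) - 1) * (p : ℤ) ^ d := hsumX
        _ = _ := by ring
    have h4 : (0 : ℤ) < 2 * ((p : ℤ) - 1) := by linarith
    have := le_of_mul_le_mul_right hfin h4
    exact_mod_cast this
  · push Not at hall
    obtain ⟨ψ₁, hψ₁, hTψ₁⟩ := hall
    have hXzero : ∀ ψ ∈ Bf, X ψ = 0 → 1 ≤ ht ψ ∧ (γ : ℂ) ≠ 0 ∧ Y ψ ≠ 0 ∧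
        (∀ χ ∈ Bf, ht χ = 0 → Y χ ≠ 0) ∧ Cfsg.MemLocalIdeal M (Y ψ) := by
      intro ψ hψ hXψ
      have hψ1 : 1 ≤ ht ψ := by
        by_contra hlt
        have : ht ψ = 0 := by omega
        exact hX0ne ψ hψ this hXψ
      have hu : ∀ χ, mj_u ζ ex (c χ) (c ψ) Z 1 = (γ : ℂ) * Y χ * conj (Y ψ) := by
        intro χ
        rw [hdec χ ψ, hXψ, map_zero, mul_zero, zero_add]
      have hne : ∀ χ ∈ Bf, ht χ = 0 → (γ : ℂ) * Y χ * conj (Y ψ) ≠ 0 := by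
        intro χ hχ hχ0 hz
        apply hD1 χ hχ hχ0 ψ hψ
        rw [hu χ, hz, zero_div]
        exact h7_memLocalIdeal_zero hMp
      have hne0 := hne χ₀ hχ₀ h0
      have hγne : (γ : ℂ) ≠ 0 := fun h => hne0 (by rw [h, zero_mul, zero_mul])
      have hYψ : Y ψ ≠ 0 := fun h => hne0 (by rw [h, map_zero, mul_zero])
      have hY0 : ∀ χ ∈ Bf, ht χ = 0 → Y χ ≠ 0 := by
        intro χ hχ hχ0 h
        exact hne χ hχ hχ0 (by rw [h, mul_zero, zero_mul])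
      refine ⟨hψ1, hγne, hYψ, hY0, ?_⟩
      have hA := hD1 χ₀ hχ₀ h0 ψ hψ
      have hB := hD2 ψ hψ hψ1 ψ hψ
      rw [hu χ₀] at hA
      rw [hu ψ] at hB
      have eA : (γ : ℂ) * Y χ₀ * conj (Y ψ) / (p : ℂ) ^ ht ψ =
          ((γ : ℂ) / (p : ℂ) ^ ht ψ) * Y χ₀ * conj (Y ψ) := by ring
      have eB : (γ : ℂ) * Y ψ * conj (Y ψ) / (p : ℂ) ^ ht ψ =
          ((γ : ℂ) / (p : ℂ) ^ ht ψ) * Y ψ * conj (Y ψ) := by ring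
      rw [eA] at hA
      rw [eB] at hB
      exact mj_padic_Y hMp _ _ _ _ (hYR χ₀).1 (hYR ψ).1 hA hB
    have hXψ₁ : X ψ₁ = 0 := (hFX ψ₁).2.1 hTψ₁
    obtain ⟨-, hγne, -, hY0, -⟩ := hXzero ψ₁ hψ₁ hXψ₁
    have hγ1 : 1 ≤ γ := by
      have : γ ≠ 0 := by
        intro h
        apply hγne
        rw [h]
        simp
      omega
    have hge : ∀ χ ∈ Bf, 4 * ((p : ℤ) - 1) ≤ TX χ + TY χ := by
      intro χ hχ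
      by_cases hχ0 : ht χ = 0
      · have h1 := (hFX χ).2.2.1 (hX0ne χ hχ hχ0)
        have h2 := (hFY χ).2.2.1 (hY0 χ hχ hχ0)
        linarith
      · have hχ1 : 1 ≤ ht χ := by omega
        by_cases hTχ : TX χ = 0
        · have hXχ : X χ = 0 := (hFX χ).2.1 hTχ
          obtain ⟨-, -, hYχ, -, hYM⟩ := hXzero χ hχ hXχ
          have h2 := (hFY χ).2.2.2 hYχ ((hYI χ).1.mp hYM)
          have h1 := (hFX χ).1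
          linarith
        · have hdiv := (hXI χ).1.mp (hD4 χ hχ hχ1)
          have h2 := (hFY χ).1
          rcases mj_T_gap2 p hpp k ex hex (c χ) x hdiv with h' | h'
          · exact absurd h' hTχ
          · have h'' : 4 * ((p : ℤ) - 1) ≤ TX χ := h'
            linarith
    have hlow : (Bf.card : ℤ) * (4 * ((p : ℤ) - 1)) ≤ ∑ χ ∈ Bf, (TX χ + TY χ) := by
      rw [← nsmul_eq_mul, ← Finset.sum_const]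
      exact Finset.sum_le_sum hge
    have hTY0 : 0 ≤ ∑ χ ∈ Bf, TY χ := Finset.sum_nonneg fun χ _ => (hFY χ).1
    have hTYle : ∑ χ ∈ Bf, TY χ ≤ γ * ∑ χ ∈ Bf, TY χ := by nlinarith
    have hfin : (Bf.card : ℤ) * (4 * ((p : ℤ) - 1)) ≤ (p : ℤ) ^ d * (4 * ((p : ℤ) - 1)) := by
      calc (Bf.card : ℤ) * (4 * ((p : ℤ) - 1)) ≤ ∑ χ ∈ Bf, (TX χ + TY χ) := hlow
        _ = ∑ χ ∈ Bf, TX χ + ∑ χ ∈ Bf, TY χ := Finset.sum_add_distrib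
        _ ≤ 2 * ((p : ℤ) - 1) * (p : ℤ) ^ d + 2 * ((p : ℤ) - 1) * (p : ℤ) ^ d := by linarith
        _ = _ := by ring
    have h4 : (0 : ℤ) < 4 * ((p : ℤ) - 1) := by linarith
    have := le_of_mul_le_mul_right hfin h4
    exact_mod_cast this

theorem mj_count {ι κ : Type*} [Fintype κ]
    (p : ℕ) [hp : Fact p.Prime] (M : Ideal Cfsg.AlgInt) (hM : Cfsg.IsPModular p M)
    (k d l : ℕ) (ζ : ℂ) (hζ : IsPrimitiveRoot ζ (p ^ (k + 1))) (ex : κ → ℕ)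
    (hex : ∀ a, ex a < p ^ (k + 1))
    (c : ι → κ → ℤ) (Z : κ → κ → ℤ) (hZs : ∀ a b, Z a b = Z b a)
    (hstruct : (∀ w : κ → ℤ, mj_q Z w = 0 ∨ 2 ≤ mj_q Z w) ∨
      ∃ (x y : κ → ℤ) (γ : ℤ), 0 ≤ γ ∧ (p : ℤ) ∣ γ ∧
        ∀ a b, Z a b = x a * x b + γ * y a * y b)
    (Bf : Finset ι) (ht : ι → ℕ)
    (hidem : ∀ j, (p ^ (k + 1)).Coprime j → ∀ χ ∈ Bf, ∀ χ' ∈ Bf,
      ∑ ψ ∈ Bf, mj_u ζ ex (c χ) (c ψ) Z j * conj (mj_u ζ ex (c χ') (c ψ) Z j) =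
        (p : ℂ) ^ d * mj_u ζ ex (c χ) (c χ') Z j)
    (htrace : ∀ j, (p ^ (k + 1)).Coprime j →
      ∑ χ ∈ Bf, mj_u ζ ex (c χ) (c χ) Z j = (p : ℂ) ^ d * (l : ℂ))
    (hl : l ≤ 2)
    (hunit : ∀ χ ∈ Bf, ht χ = 0 → ∀ j, ¬ Cfsg.MemLocalIdeal M (mj_u ζ ex (c χ) (c χ) Z j))
    (hcong : ∀ j, (p ^ (k + 1)).Coprime j → ∀ χ ∈ Bf, ∀ ψ ∈ Bf, ∀ ψ' ∈ Bf,
       Cfsg.MemLocalRing M (mj_u ζ ex (c χ) (c ψ) Z j / (p : ℂ) ^ ht ψ) ∧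
       (Cfsg.MemLocalIdeal M (mj_u ζ ex (c χ) (c ψ) Z j / (p : ℂ) ^ ht ψ) →
        Cfsg.MemLocalIdeal M (mj_u ζ ex (c χ) (c ψ') Z j / (p : ℂ) ^ ht ψ')))
    (χ₀ : ι) (hχ₀ : χ₀ ∈ Bf) (h0 : ht χ₀ = 0) :
    Bf.card ≤ p ^ d := by
  obtain ⟨hD1, hD2⟩ := mj_count_D p M hM k ζ hζ.pow_eq_one ex c Z hZs Bf ht hunit hcong χ₀ hχ₀ h0
  rcases hstruct with hgap | ⟨x, y, γ, hγ0, hγp, hZ⟩
  · exact mj_count_A p M hM k d l ζ hζ ex hex c Z hZs hgap Bf ht hidem htrace hl hD1 χ₀ hχ₀ h0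
  · exact mj_count_B p M hM k d ζ hζ ex hex c Z x y γ hγ0 hγp hZ Bf ht hidem
      (fun χ hχ hχ0 => hunit χ hχ hχ0 1) hD1 hD2 χ₀ hχ₀ h0

end Cfsg.Agent.Lib.Helper24
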