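import Mathlib
import Cfsg.Agent.Lib.Helper25.SubsectionBound
import Cfsg.Agent.Lib.helper7.KleinIso4


set_option autoImplicit false
set_option linter.style.haveILetI false
set_option linter.unusedVariables false
set_option warn.classDefReducibility false
set_option maxHeartbeats 1600000

namespace Cfsg.Agent.Lib.Helper24
open scoped ComplexConjugate
open Polynomial
open Cfsg.Agent.Lib.helper2
open Cfsg.Agent.Lib.Helper25
open Cfsg.Agent.Lib.helper7

theorem mj_card_centralizer {G : Type*} [Group G] [Finite G] (p : ℕ) [hp : Fact p.Prime] (y : G) (hy : ∃ k : ℕ, orderOf y = p ^ k)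
    (H : Subgroup G) (hH : H = Subgroup.centralizer ({y} : Set G))
    (s : H) (hs : ¬ p ∣ orderOf s) :
    Nat.card (Subgroup.centralizer ({s} : Set H)) =
      Nat.card (Subgroup.centralizer ({y * (s : G)} : Set G)) := by
  have hs' : ¬ p ∣ orderOf (s : G) := by rwa [Subgroup.orderOf_coe]
  have hmemH : ∀ g : G, g ∈ H ↔ g * y = y * g := by
    intro g
    rw [hH, Subgroup.mem_centralizer_singleton_iff]
  have hys : Commute y (s : G) := ((hmemH _).mp s.2).symm
  have hmap : (Subgroup.centralizer ({s} : Set H)).map H.subtype =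
      Subgroup.centralizer ({y * (s : G)} : Set G) := by
    ext g
    rw [Subgroup.mem_map, Subgroup.mem_centralizer_singleton_iff]
    constructor
    · rintro ⟨c, hc, rfl⟩
      have h1 : (c : G) * y = y * (c : G) := (hmemH _).mp c.2
      have h2 : c * s = s * c := Subgroup.mem_centralizer_singleton_iff.mp hc
      have h3 : (c : G) * (s : G) = (s : G) * (c : G) := by
        have := congrArg (Subtype.val : H → G) h2
        simpa using this
      show (c : G) * (y * (s : G)) = y * (s : G) * (c : G)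
      rw [← mul_assoc, h1, mul_assoc, h3, mul_assoc]
    · intro hg
      have h1 : g * (y * (s : G)) * g⁻¹ = y * (s : G) := by
        rw [hg, mul_inv_cancel_right]
      obtain ⟨h2, h3⟩ := (st_conj_split p y (s : G) (s : G) g hy hs' hs' hys hys).mp h1
      have hgH : g ∈ H := by
        rw [hmemH]
        calc g * y = g * y * g⁻¹ * g := by group
          _ = y * g := by rw [h2]
      refine ⟨⟨g, hgH⟩, ?_, rfl⟩
      rw [Subgroup.mem_centralizer_singleton_iff]
      apply Subtype.ext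
      show g * (s : G) = (s : G) * g
      calc g * (s : G) = g * (s : G) * g⁻¹ * g := by group
        _ = (s : G) * g := by rw [h3]
  rw [← hmap]
  exact Nat.card_congr
    (Subgroup.equivMapOfInjective _ H.subtype H.subtype_injective).toEquiv


noncomputable def mj_hk_W {G : Type*} [Group G] (p : ℕ) (H : Subgroup G) [Fintype H]
    (e : Set (Cfsg.IrrCharacter H)) (u : G) (χ ψ : Cfsg.IrrCharacter G) : ℂ :=
  Cfsg.classInner
    (Cfsg.pRegularPart p (Cfsg.blockPart e (fun c : H => (χ : G → ℂ) (u * (c : G)))))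
    (Cfsg.blockPart e (fun c : H => (ψ : G → ℂ) (u * (c : G))))

theorem mj_hk_index_conj {G : Type*} [Group G] [Finite G] (g h : G) :
    (Subgroup.centralizer ({h * g * h⁻¹} : Set G)).index =
      (Subgroup.centralizer ({g} : Set G)).index := by
  rw [h7_index_centralizer_eq_card_class, h7_index_centralizer_eq_card_class]
  apply Nat.card_congr
  have hc : IsConj g (h * g * h⁻¹) := isConj_iff.mpr ⟨h, rfl⟩
  exact Equiv.subtypeEquivRight (fun x => ⟨fun hx => hc.trans hx, fun hx => hc.symm.trans hx⟩)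

theorem mj_hk_class_sum_ring {H : Type*} [Group H] [Fintype H] {M : Ideal Cfsg.AlgInt}
    (hMp : M.IsPrime) (φ : H → ℂ) (hφ : ∀ g h : H, φ (h * g * h⁻¹) = φ g)
    (hR : ∀ s, Cfsg.MemLocalRing M (φ s)) :
    Cfsg.MemLocalRing M
      (∑ s : H, φ s / ((Subgroup.centralizer ({s} : Set H)).index : ℂ)) := by
  classical
  haveI : Fintype (ConjClasses H) := Fintype.ofFinite _
  rw [h7_sum_eq_sum_conjClasses _ (fun g h => by rw [hφ, mj_hk_index_conj])]
  apply h7_memLocalRing_sum hMp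
  intro K _
  rw [nsmul_eq_mul]
  have hne : ((Subgroup.centralizer ({Quotient.out K} : Set H)).index : ℂ) ≠ 0 := by
    exact_mod_cast Subgroup.index_ne_zero_of_finite
  rw [mul_div_cancel₀ _ hne]
  exact hR _

theorem mj_hk_class_sum_ideal {H : Type*} [Group H] [Fintype H] {M : Ideal Cfsg.AlgInt}
    (hMp : M.IsPrime) (φ : H → ℂ) (hφ : ∀ g h : H, φ (h * g * h⁻¹) = φ g)
    (hR : ∀ s, Cfsg.MemLocalIdeal M (φ s)) :
    Cfsg.MemLocalIdeal M
      (∑ s : H, φ s / ((Subgroup.centralizer ({s} : Set H)).index : ℂ)) := by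
  classical
  haveI : Fintype (ConjClasses H) := Fintype.ofFinite _
  rw [h7_sum_eq_sum_conjClasses _ (fun g h => by rw [hφ, mj_hk_index_conj])]
  apply h7_memLocalIdeal_sum hMp
  intro K _
  rw [nsmul_eq_mul]
  have hne : ((Subgroup.centralizer ({Quotient.out K} : Set H)).index : ℂ) ≠ 0 := by
    exact_mod_cast Subgroup.index_ne_zero_of_finite
  rw [mul_div_cancel₀ _ hne]
  exact hR _

theorem mj_hk_centralizer_inv {G : Type*} [Group G] (g : G) :
    Subgroup.centralizer ({g⁻¹} : Set G) = Subgroup.centralizer ({g} : Set G) := by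
  ext x
  rw [Subgroup.mem_centralizer_singleton_iff, Subgroup.mem_centralizer_singleton_iff]
  constructor
  · intro h
    have h1 : Commute x g⁻¹ := h
    exact (Commute.inv_right_iff.mp h1).eq
  · intro h
    have h1 : Commute x g := h
    exact (Commute.inv_right_iff.mpr h1).eq

theorem mj_hk_L5H {G : Type*} [Group G] [Fintype G]
    (p : ℕ) [hp : Fact p.Prime] (M : Ideal Cfsg.AlgInt) (hM : Cfsg.IsPModular p M) (H : Subgroup G) [Fintype H] (u : G)
    (huH : u ∈ H)
    (hcent : ∀ h ∈ H, h * u = u * h) (hcent' : ∀ g : G, g * u = u * g → g ∈ H)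
    (hu : ∃ k : ℕ, orderOf u = p ^ k)
    (e : Set (Cfsg.IrrCharacter H)) (B : Set (Cfsg.IrrCharacter G))
    (hind : Cfsg.IsInducedBlock M H e B) (χ : Cfsg.IrrCharacter G) :
    ∃ S : Cfsg.IrrCharacter G → ℂ,
      (∀ ψ : Cfsg.IrrCharacter G,
        mj_hk_W p H e u χ ψ * (Nat.card G : ℂ) = S ψ * (ψ : G → ℂ) 1) ∧
      (∀ ψ : Cfsg.IrrCharacter G, Cfsg.MemLocalRing M (S ψ)) ∧
      (∀ ψ ψ' : Cfsg.IrrCharacter G, Cfsg.SameBlock M (ψ : G → ℂ) (ψ' : G → ℂ) →
        Cfsg.MemLocalIdeal M (S ψ - S ψ')) := by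
  classical
  haveI : Fintype (Cfsg.IrrCharacter G) := Fintype.ofFinite _
  haveI : Fintype (Cfsg.IrrCharacter H) := Fintype.ofFinite _
  have hMp := hM.2.1.isPrime
  have hHne : (Nat.card H : ℂ) ≠ 0 := by exact_mod_cast Nat.card_pos.ne'
  obtain ⟨ξ₀, he⟩ := hind.1
  subst he
  have hHeq : H = Subgroup.centralizer ({u} : Set G) := by
    ext g
    rw [Subgroup.mem_centralizer_singleton_iff]
    exact ⟨fun hg => hcent g hg, fun hg => hcent' g hg⟩
  set θ : Cfsg.IrrCharacter G → H → ℂ := fun χ c => (χ : G → ℂ) (u * (c : G)) with hθ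
  have hθcl : ∀ (χ : Cfsg.IrrCharacter G) (g h : H), θ χ (h * g * h⁻¹) = θ χ g :=
    fun χ g h => st_theta_class H u hcent χ g h
  set F : H → ℂ := Cfsg.blockPart (Cfsg.blockOf M (ξ₀ : H → ℂ)) (θ χ) with hF
  set X : H → ℂ := Cfsg.pRegularPart p F with hX
  have hXcl : ∀ (g h : H), X (h * g * h⁻¹) = X g :=
    fun g h => cd_pRegularPart_conj p F (fun g h => su_part_class _ (θ χ) g h) g h
  have hXsing : ∀ (s : H), p ∣ orderOf s → X s = 0 :=
    fun s hs => br_pRegularPart_sing p _ s hs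
  have hXreg : ∀ (s : H), ¬ p ∣ orderOf s → X s = F s :=
    fun s hs => br_pRegularPart_reg p _ s hs
  obtain ⟨k, hk⟩ := hu
  have huk : u ^ (p ^ k) = 1 := by rw [← hk]; exact pow_orderOf_eq_one u
  have hyc : (⟨u, huH⟩ : H) ∈ Subgroup.center H := by
    rw [Subgroup.mem_center_iff]
    intro h
    apply Subtype.ext
    show (h : G) * u = u * (h : G)
    exact hcent h h.2
  have hyn : (⟨u, huH⟩ : H) ^ (p ^ k) = 1 := by
    apply Subtype.ext
    show u ^ (p ^ k) = 1
    exact huk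
  have hlamex : ∀ ψ' : Cfsg.IrrCharacter H, ∃ lam : ℂ,
      (∀ c : H, (ψ' : H → ℂ) ((⟨u, huH⟩ : H) * c) = lam * (ψ' : H → ℂ) c) ∧ lam ^ (p ^ k) = 1 :=
    fun ψ' => bp_central_shift ψ' _ hyc _ hyn
  choose lam hlam1 hlam2 using hlamex
  have hXR : ∀ s : H, Cfsg.MemLocalRing M (X s) := by
    intro s
    by_cases hs : p ∣ orderOf s
    · rw [hXsing s hs]
      exact h7_memLocalRing_zero hMp
    · rw [hXreg s hs, hF, su_part_fun, Finset.sum_apply]
      apply h7_memLocalRing_sum hMp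
      intro ψ' _
      rw [Pi.smul_apply, smul_eq_mul]
      apply h7_memLocalRing_mul hMp _
        (h7_memLocalRing_of_isIntegral hMp (irr_integral ψ' s))
      split_ifs with h
      · have h1 := su_theta_inner H u huH hcent χ lam hlam1 1 ψ'
        simp only [pow_one] at h1
        rw [show θ χ = fun c : H => (χ : G → ℂ) (u * (c : G)) from rfl, h1]
        obtain ⟨m, hm⟩ := classInner_character_nat
          (isCharacter_restrict (isCharacter_of_irr χ) H) (isCharacter_of_irr ψ')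
        rw [hm]
        apply h7_memLocalRing_mul hMp (h7_memLocalRing_natCast hMp m)
        apply h7_memLocalRing_of_isIntegral hMp
        apply IsIntegral.of_pow (pow_pos hp.out.pos k)
        rw [hlam2]
        exact isIntegral_one
      · exact h7_memLocalRing_zero hMp
  have hconj : ∀ (s h : H), (u * ((h * s * h⁻¹ : H) : G))⁻¹ =
      (h : G) * (u * (s : G))⁻¹ * (h : G)⁻¹ := by
    intro s h
    have hh : (h : G) * u = u * (h : G) := hcent h h.2
    simp only [Subgroup.coe_mul, Subgroup.coe_inv]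
    have e1 : u * ((h : G) * (s : G) * (h : G)⁻¹) = (h : G) * (u * (s : G)) * (h : G)⁻¹ := by
      rw [← mul_assoc, ← mul_assoc, ← hh, mul_assoc (h : G) u (s : G)]
    rw [e1]
    group
  refine ⟨fun ψ => ∑ s : H, (X s * Cfsg.centralChar (ψ : G → ℂ) (u * (s : G))⁻¹) /
    ((Subgroup.centralizer ({s} : Set H)).index : ℂ), ?_, ?_, ?_⟩
  · intro ψ
    have hW : mj_hk_W p H (Cfsg.blockOf M (ξ₀ : H → ℂ)) u χ ψ = Cfsg.classInner X (θ ψ) :=
      su_stepa hM ξ₀ (θ χ) (θ ψ) (hθcl ψ)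
    rw [hW]
    unfold Cfsg.classInner
    rw [Finset.sum_mul, mul_assoc, Finset.sum_mul, Finset.mul_sum]
    refine Finset.sum_congr rfl fun s _ => ?_
    by_cases hs : p ∣ orderOf s
    · rw [hXsing s hs]
      simp
    · obtain ⟨_, hd2, hd3⟩ := h7_charDegree_props ψ
      have hψ1 : (ψ : G → ℂ) 1 ≠ 0 := by
        rw [← hd3]
        exact_mod_cast hd2.ne'
      have h1 : conj (θ ψ s) = (ψ : G → ℂ) (u * (s : G))⁻¹ := (irr_inv ψ _).symm
      rw [h1]
      unfold Cfsg.centralChar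
      rw [mj_hk_centralizer_inv]
      have hiG : ((Subgroup.centralizer ({u * (s : G)} : Set G)).index : ℂ) *
          (Nat.card (Subgroup.centralizer ({u * (s : G)} : Set G)) : ℂ) = (Nat.card G : ℂ) := by
        exact_mod_cast Subgroup.index_mul_card _
      have hiH : ((Subgroup.centralizer ({s} : Set H)).index : ℂ) *
          (Nat.card (Subgroup.centralizer ({s} : Set H)) : ℂ) = (Nat.card H : ℂ) := by
        exact_mod_cast Subgroup.index_mul_card _
      have hc : (Nat.card (Subgroup.centralizer ({s} : Set H)) : ℂ) =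
          (Nat.card (Subgroup.centralizer ({u * (s : G)} : Set G)) : ℂ) := by
        exact_mod_cast mj_card_centralizer p u ⟨k, hk⟩ H hHeq s hs
      have hcG0 : (Nat.card (Subgroup.centralizer ({u * (s : G)} : Set G)) : ℂ) ≠ 0 := by
        exact_mod_cast Nat.card_pos.ne'
      have hiH0 : ((Subgroup.centralizer ({s} : Set H)).index : ℂ) ≠ 0 := by
        exact_mod_cast Subgroup.index_ne_zero_of_finite
      rw [← hiG, ← hiH, hc]
      field_simp
  · intro ψ
    apply mj_hk_class_sum_ring hMp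
    · intro g h
      rw [hXcl, hconj, h7_centralChar_conj]
    · intro s
      exact h7_memLocalRing_mul hMp (hXR s) (h7_memLocalRing_centralChar hMp ψ _)
  · intro ψ ψ' hψ
    rw [← Finset.sum_sub_distrib]
    have e : ∀ s : H, (X s * Cfsg.centralChar (ψ : G → ℂ) (u * (s : G))⁻¹) /
        ((Subgroup.centralizer ({s} : Set H)).index : ℂ) -
        (X s * Cfsg.centralChar (ψ' : G → ℂ) (u * (s : G))⁻¹) /
        ((Subgroup.centralizer ({s} : Set H)).index : ℂ) =
        (X s * (Cfsg.centralChar (ψ : G → ℂ) (u * (s : G))⁻¹ -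
          Cfsg.centralChar (ψ' : G → ℂ) (u * (s : G))⁻¹)) /
        ((Subgroup.centralizer ({s} : Set H)).index : ℂ) := by
      intro s
      ring
    rw [Finset.sum_congr rfl (fun s _ => e s)]
    apply mj_hk_class_sum_ideal hMp
    · intro g h
      rw [hXcl, hconj, h7_centralChar_conj, h7_centralChar_conj]
    · intro s
      exact h7_memLocalIdeal_mul_left hMp (hXR s) (hψ _)

theorem mj_hk_degree_split {G : Type*} [Group G] [Finite G] (p : ℕ) [hp : Fact p.Prime] (B : Set (Cfsg.IrrCharacter G))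
    (ψ : Cfsg.IrrCharacter G) (hψ : ψ ∈ B) :
    ∃ t g' : ℕ, ¬ p ∣ t ∧ ¬ p ∣ g' ∧
      (p : ℂ) ^ Cfsg.blockDefect p B * (ψ : G → ℂ) 1 * (g' : ℂ) =
        (p : ℂ) ^ Cfsg.blockHeight p B (ψ : G → ℂ) * (t : ℂ) * (Nat.card G : ℂ) := by
  set fG : Cfsg.IrrCharacter G → ℕ := fun ψ => (Cfsg.charDegree (ψ : G → ℂ)).factorization p
    with hfG
  set ν := sInf (fG '' B) with hν
  have hνle : ν ≤ fG ψ := Nat.sInf_le ⟨ψ, hψ, rfl⟩
  obtain ⟨hd1, hd2, hd3⟩ := h7_charDegree_props ψ
  set a := (Nat.card G).factorization p with ha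
  have hfa : fG ψ ≤ a := (Nat.factorization_le_iff_dvd hd2.ne' Nat.card_pos.ne').mpr hd1 p
  have hdef : Cfsg.blockDefect p B = a - ν := rfl
  have hht : Cfsg.blockHeight p B (ψ : G → ℂ) = fG ψ - ν := rfl
  obtain ⟨hG1, hG2⟩ := hz_card_split (G := G) p
  refine ⟨Cfsg.charDegree (ψ : G → ℂ) / p ^ fG ψ, Nat.card G / p ^ a,
    Nat.not_dvd_ordCompl hp.out hd2.ne', hG2, ?_⟩
  have h1 : p ^ fG ψ * (Cfsg.charDegree (ψ : G → ℂ) / p ^ fG ψ) = Cfsg.charDegree (ψ : G → ℂ) :=
    Nat.ordProj_mul_ordCompl_eq_self _ p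
  set t := Cfsg.charDegree (ψ : G → ℂ) / p ^ fG ψ with ht
  set g' := Nat.card G / p ^ a with hg'
  have key : p ^ (a - ν) * Cfsg.charDegree (ψ : G → ℂ) * g' = p ^ (fG ψ - ν) * t * Nat.card G := by
    rw [← h1]
    conv_rhs => rw [← hG1]
    have e1 : p ^ (a - ν) * (p ^ fG ψ * t) * g' = p ^ (a - ν + fG ψ) * (t * g') := by
      rw [pow_add]; ring
    have e2 : p ^ (fG ψ - ν) * t * (p ^ a * g') = p ^ (fG ψ - ν + a) * (t * g') := by
      rw [pow_add]; ring
    rw [e1, e2]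
    congr 2
    omega
  rw [hdef, hht, ← hd3]
  exact_mod_cast key

theorem mj_hk_cong {G : Type*} [Group G] [Fintype G]
    (p : ℕ) [hp : Fact p.Prime] (M : Ideal Cfsg.AlgInt) (hM : Cfsg.IsPModular p M) (H : Subgroup G) [Fintype H] (u : G)
    (huH : u ∈ H)
    (hcent : ∀ h ∈ H, h * u = u * h) (hcent' : ∀ g : G, g * u = u * g → g ∈ H)
    (hu : ∃ k : ℕ, orderOf u = p ^ k)
    (e : Set (Cfsg.IrrCharacter H)) (B : Set (Cfsg.IrrCharacter G))
    (hind : Cfsg.IsInducedBlock M H e B)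
    (hdef : Cfsg.blockDefect p e = Cfsg.blockDefect p B)
    (χ ψ ψ' : Cfsg.IrrCharacter G) (hψ : ψ ∈ B) (hψ' : ψ' ∈ B) :
    Cfsg.MemLocalRing M ((p : ℂ) ^ Cfsg.blockDefect p e * mj_hk_W p H e u χ ψ /
      (p : ℂ) ^ Cfsg.blockHeight p B (ψ : G → ℂ)) ∧
    (Cfsg.MemLocalIdeal M ((p : ℂ) ^ Cfsg.blockDefect p e * mj_hk_W p H e u χ ψ /
      (p : ℂ) ^ Cfsg.blockHeight p B (ψ : G → ℂ)) →
     Cfsg.MemLocalIdeal M ((p : ℂ) ^ Cfsg.blockDefect p e * mj_hk_W p H e u χ ψ' /
      (p : ℂ) ^ Cfsg.blockHeight p B (ψ' : G → ℂ))) := by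
  classical
  haveI : Fintype (Cfsg.IrrCharacter G) := Fintype.ofFinite _
  have hMp := hM.2.1.isPrime
  obtain ⟨S, hS1, hS2, hS3⟩ := mj_hk_L5H p M hM H u huH hcent hcent' hu e B hind χ
  have hGne : (Nat.card G : ℂ) ≠ 0 := by exact_mod_cast Nat.card_pos.ne'
  rw [hdef]
  have key : ∀ φ : Cfsg.IrrCharacter G, φ ∈ B → ∃ t g' : ℕ, ¬ p ∣ t ∧ ¬ p ∣ g' ∧
      (p : ℂ) ^ Cfsg.blockDefect p B * mj_hk_W p H e u χ φ /
        (p : ℂ) ^ Cfsg.blockHeight p B (φ : G → ℂ) = S φ * ((t : ℂ) * (g' : ℂ)⁻¹) := by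
    intro φ hφ
    obtain ⟨t, g', ht, hg', hsplit⟩ := mj_hk_degree_split p B φ hφ
    refine ⟨t, g', ht, hg', ?_⟩
    have hg'0 : (g' : ℂ) ≠ 0 := by
      intro h0
      have : g' = 0 := by exact_mod_cast h0
      rw [this] at hg'
      exact hg' (dvd_zero p)
    have h2h : (p : ℂ) ^ Cfsg.blockHeight p B (φ : G → ℂ) ≠ 0 := pow_ne_zero _ (by exact_mod_cast hp.out.ne_zero)
    have h1 := hS1 φ
    rw [div_eq_iff h2h]
    have h3 : (p : ℂ) ^ Cfsg.blockDefect p B * mj_hk_W p H e u χ φ * (g' : ℂ) * (Nat.card G : ℂ) =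
        S φ * ((t : ℂ) * (g' : ℂ)⁻¹) * (p : ℂ) ^ Cfsg.blockHeight p B (φ : G → ℂ) * (g' : ℂ) *
          (Nat.card G : ℂ) := by
      calc (p : ℂ) ^ Cfsg.blockDefect p B * mj_hk_W p H e u χ φ * (g' : ℂ) * (Nat.card G : ℂ)
          = (p : ℂ) ^ Cfsg.blockDefect p B * (g' : ℂ) *
              (mj_hk_W p H e u χ φ * (Nat.card G : ℂ)) := by ring
        _ = S φ * ((p : ℂ) ^ Cfsg.blockDefect p B * (φ : G → ℂ) 1 * (g' : ℂ)) := by
            rw [h1]; ring
        _ = S φ * ((p : ℂ) ^ Cfsg.blockHeight p B (φ : G → ℂ) * (t : ℂ) * (Nat.card G : ℂ)) := by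
            rw [hsplit]
        _ = _ := by field_simp
    exact mul_right_cancel₀ hg'0 (mul_right_cancel₀ hGne h3)
  have hunitR : ∀ t g' : ℕ, ¬ p ∣ g' → Cfsg.MemLocalRing M ((t : ℂ) * (g' : ℂ)⁻¹) := by
    intro t g' hg'
    have hco : g'.Coprime p :=
      (Nat.Coprime.symm ((Nat.Prime.coprime_iff_not_dvd hp.out).mpr hg'))
    exact h7_memLocalRing_mul hMp (h7_memLocalRing_natCast hMp t)
      (h7_memLocalRing_inv_natCast hM g' hco)
  have hunit : ∀ t g' : ℕ, ¬ p ∣ t → ¬ p ∣ g' → ¬ Cfsg.MemLocalIdeal M ((t : ℂ) * (g' : ℂ)⁻¹) := by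
    intro t g' ht hg' hmem
    have hg'0 : (g' : ℂ) ≠ 0 := by
      intro h0
      have : g' = 0 := by exact_mod_cast h0
      rw [this] at hg'
      exact hg' (dvd_zero p)
    have h1 := h7_memLocalIdeal_mul_right hMp hmem (h7_memLocalRing_natCast hMp g')
    have e : (t : ℂ) * (g' : ℂ)⁻¹ * (g' : ℂ) = (t : ℂ) := by field_simp
    rw [e, h7_memLocalIdeal_natCast_iff hM] at h1
    exact ht h1
  obtain ⟨χ₀, hB₀⟩ := hind.2.1
  have hsame : Cfsg.SameBlock M (ψ : G → ℂ) (ψ' : G → ℂ) := by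
    rw [hB₀] at hψ hψ'
    exact h7_sameBlock_trans hMp (h7_sameBlock_symm hψ) hψ'
  obtain ⟨t, g', ht, hg', hk⟩ := key ψ hψ
  obtain ⟨t', g'', ht', hg'', hk'⟩ := key ψ' hψ'
  constructor
  · rw [hk]
    exact h7_memLocalRing_mul hMp (hS2 ψ) (hunitR t g' hg')
  · intro hmem
    rw [hk] at hmem
    rw [hk']
    have hSψ : Cfsg.MemLocalIdeal M (S ψ) := by
      rcases h7_memLocalIdeal_mul_cases hMp (hS2 ψ) (hunitR t g' hg') hmem with h | h
      · exact h
      · exact absurd h (hunit t g' ht hg')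
    have hSψ' : Cfsg.MemLocalIdeal M (S ψ') := by
      have := h7_memLocalIdeal_sub hMp hSψ (hS3 ψ ψ' hsame)
      rwa [sub_sub_cancel] at this
    exact h7_memLocalIdeal_mul_right hMp hSψ' (hunitR t' g'' hg'')

end Cfsg.Agent.Lib.Helper24
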