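import Mathlib
import Cfsg.Agent.Lib.Helper24.MJ2

set_option autoImplicit false
set_option linter.style.haveILetI false
set_option linter.unusedVariables false
set_option maxHeartbeats 800000

namespace Cfsg.Agent.Lib.Helper24

variable {ι : Type*} [Fintype ι]

theorem mj_min_exists (Z : ι → ι → ℤ) (hpos : ∀ w : ι → ℤ, 0 ≤ mj_q Z w)
    (w0 : ι → ℤ) (hw0 : mj_q Z w0 ≠ 0) :
    ∃ α : ℤ, 1 ≤ α ∧ (∃ v : ι → ℤ, mj_q Z v = α) ∧
      ∀ w : ι → ℤ, mj_q Z w = 0 ∨ α ≤ mj_q Z w := by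
  classical
  have hex : ∃ n : ℕ, 1 ≤ n ∧ ∃ v : ι → ℤ, mj_q Z v = (n : ℤ) := by
    refine ⟨(mj_q Z w0).toNat, ?_, w0, ?_⟩
    · have := hpos w0
      omega
    · exact (Int.toNat_of_nonneg (hpos w0)).symm
  refine ⟨(Nat.find hex : ℤ), ?_, (Nat.find_spec hex).2, ?_⟩
  · exact_mod_cast (Nat.find_spec hex).1
  · intro w
    by_cases h0 : mj_q Z w = 0
    · left; exact h0
    · right
      have hw := hpos w
      have h1 : Nat.find hex ≤ (mj_q Z w).toNat := by
        apply Nat.find_min'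
        refine ⟨by omega, w, (Int.toNat_of_nonneg hw).symm⟩
      omega

theorem mj_B_single_left [DecidableEq ι] (Z : ι → ι → ℤ) (a : ι) (v : ι → ℤ) :
    mj_B Z (Pi.single a 1) v = ∑ b, Z a b * v b := by
  unfold mj_B
  rw [Finset.sum_eq_single a]
  · refine Finset.sum_congr rfl fun b _ => ?_
    rw [Pi.single_eq_same]
    ring
  · intro a' _ hne
    apply Finset.sum_eq_zero
    intro b _
    rw [Pi.single_eq_of_ne hne]
    ring
  · intro h
    exact absurd (Finset.mem_univ a) h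

theorem mj_B_single_single [DecidableEq ι] (Z : ι → ι → ℤ) (a b : ι) :
    mj_B Z (Pi.single a 1) (Pi.single b 1) = Z a b := by
  rw [mj_B_single_left, Finset.sum_eq_single b]
  · rw [Pi.single_eq_same, mul_one]
  · intro b' _ hne
    rw [Pi.single_eq_of_ne hne, mul_zero]
  · intro h
    exact absurd (Finset.mem_univ b) h

theorem mj_prod_expand (Z : ι → ι → ℤ) (u v w w' : ι → ℤ) :
    (∑ a, ∑ b, u a * w b * Z a b) * (∑ c, ∑ d, v c * w' d * Z c d) =
      ∑ a, ∑ b, ∑ c, ∑ d, u a * w b * v c * w' d * (Z a b * Z c d) := by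
  rw [Finset.sum_mul]
  refine Finset.sum_congr rfl fun a _ => ?_
  rw [Finset.sum_mul]
  refine Finset.sum_congr rfl fun b _ => ?_
  rw [Finset.mul_sum]
  refine Finset.sum_congr rfl fun c _ => ?_
  rw [Finset.mul_sum]
  refine Finset.sum_congr rfl fun d _ => ?_
  ring

theorem mj_sum_reorder (f : ι → ι → ι → ℤ) :
    ∑ d, ∑ c, ∑ b, f d c b = ∑ b, ∑ c, ∑ d, f d c b := by
  rw [Finset.sum_comm]
  rw [Finset.sum_congr rfl (fun c _ => Finset.sum_comm (f := fun d b => f d c b))]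
  rw [Finset.sum_comm]

theorem mj_minor_expand (Z : ι → ι → ℤ) (u v w w' : ι → ℤ) :
    mj_B Z u w * mj_B Z v w' - mj_B Z u w' * mj_B Z v w =
      ∑ a, ∑ b, ∑ c, ∑ d, u a * w b * v c * w' d * (Z a b * Z c d - Z a d * Z c b) := by
  unfold mj_B
  have e1 := mj_prod_expand Z u v w w'
  have e2 : (∑ a, ∑ d, u a * w' d * Z a d) * (∑ c, ∑ b, v c * w b * Z c b) =
      ∑ a, ∑ b, ∑ c, ∑ d, u a * w b * v c * w' d * (Z a d * Z c b) := by
    rw [mj_prod_expand Z u v w' w]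
    refine Finset.sum_congr rfl fun a _ => ?_
    rw [mj_sum_reorder]
    refine Finset.sum_congr rfl fun b _ => ?_
    refine Finset.sum_congr rfl fun c _ => ?_
    refine Finset.sum_congr rfl fun d _ => ?_
    ring
  rw [e1, e2, ← Finset.sum_sub_distrib]
  refine Finset.sum_congr rfl fun a _ => ?_
  rw [← Finset.sum_sub_distrib]
  refine Finset.sum_congr rfl fun b _ => ?_
  rw [← Finset.sum_sub_distrib]
  refine Finset.sum_congr rfl fun c _ => ?_
  rw [← Finset.sum_sub_distrib]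
  refine Finset.sum_congr rfl fun d _ => ?_
  ring

theorem mj_B_rank_one (x y : ι → ℤ) (γ : ℤ) (Z : ι → ι → ℤ)
    (hZ : ∀ a b, Z a b = x a * x b + γ * y a * y b) (u v : ι → ℤ) :
    mj_B Z u v = (∑ a, u a * x a) * (∑ a, v a * x a) + γ * ((∑ a, u a * y a) * (∑ a, v a * y a)) := by
  unfold mj_B
  rw [Finset.sum_mul_sum, Finset.sum_mul_sum, Finset.mul_sum, ← Finset.sum_add_distrib]
  refine Finset.sum_congr rfl fun a _ => ?_
  rw [Finset.mul_sum, ← Finset.sum_add_distrib]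
  refine Finset.sum_congr rfl fun b _ => ?_
  rw [hZ a b]
  ring

theorem mj_B_sub_rank_one (Z : ι → ι → ℤ) (x : ι → ℤ) (u v : ι → ℤ) :
    mj_B (fun a b => Z a b - x a * x b) u v =
      mj_B Z u v - (∑ a, u a * x a) * (∑ a, v a * x a) := by
  unfold mj_B
  rw [Finset.sum_mul_sum, ← Finset.sum_sub_distrib]
  refine Finset.sum_congr rfl fun a _ => ?_
  rw [← Finset.sum_sub_distrib]
  refine Finset.sum_congr rfl fun b _ => ?_
  ring

theorem mj_B_eq_sum_x (Z : ι → ι → ℤ) (w v1 : ι → ℤ) :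
    mj_B Z w v1 = ∑ a, w a * ∑ b, Z a b * v1 b := by
  unfold mj_B
  refine Finset.sum_congr rfl fun a _ => ?_
  rw [Finset.mul_sum]
  refine Finset.sum_congr rfl fun b _ => ?_
  ring

theorem mj_split_pos (Z : ι → ι → ℤ) (hZ : ∀ a b, Z a b = Z b a)
    (hpos : ∀ w : ι → ℤ, 0 ≤ mj_q Z w) (v1 : ι → ℤ) (hv1 : mj_q Z v1 = 1) (w : ι → ℤ) :
    0 ≤ mj_q (fun a b => Z a b - (∑ b', Z a b' * v1 b') * (∑ a', Z b a' * v1 a')) w := by
  set x : ι → ℤ := fun a => ∑ b, Z a b * v1 b with hx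
  set t : ℤ := ∑ a, w a * x a with ht
  have h1 : mj_q (fun a b => Z a b - x a * x b) w = mj_q Z w - t ^ 2 := by
    unfold mj_q
    rw [mj_B_sub_rank_one]
    ring
  have h2 : mj_B Z w v1 = t := mj_B_eq_sum_x Z w v1
  have h3 := hpos (w + (-t) • v1)
  rw [mj_q_add_smul Z hZ, hv1, h2] at h3
  show 0 ≤ mj_q (fun a b => Z a b - x a * x b) w
  rw [h1]
  nlinarith

theorem mj_minor_B (Z : ι → ι → ℤ)
    (hminor : ∀ a b c d, Z a b * Z c d = Z a d * Z c b) (u v w w' : ι → ℤ) :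
    mj_B Z u w * mj_B Z v w' = mj_B Z u w' * mj_B Z v w := by
  have h := mj_minor_expand Z u v w w'
  have h0 : ∑ a, ∑ b, ∑ c, ∑ d, u a * w b * v c * w' d * (Z a b * Z c d - Z a d * Z c b) = 0 := by
    apply Finset.sum_eq_zero
    intro a _
    apply Finset.sum_eq_zero
    intro b _
    apply Finset.sum_eq_zero
    intro c _
    apply Finset.sum_eq_zero
    intro d _
    rw [hminor a b c d, sub_self, mul_zero]
  rw [h0] at h
  linarith

theorem mj_sum_single [DecidableEq ι] (Z : ι → ι → ℤ) (u v : ι → ℤ) :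
    ∑ a, u a * mj_B Z (Pi.single a 1) v = mj_B Z u v := by
  unfold mj_B
  refine Finset.sum_congr rfl fun a _ => ?_
  have := mj_B_single_left Z a v
  unfold mj_B at this
  rw [this, Finset.mul_sum]
  refine Finset.sum_congr rfl fun b _ => ?_
  ring

theorem mj_rank_one [DecidableEq ι] (Z : ι → ι → ℤ) (hZ : ∀ a b, Z a b = Z b a)
    (hpos : ∀ w : ι → ℤ, 0 ≤ mj_q Z w)
    (hminor : ∀ a b c d, Z a b * Z c d = Z a d * Z c b)
    (w0 : ι → ℤ) (hw0 : mj_q Z w0 ≠ 0) :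
    ∃ (γ : ℤ) (y v2 : ι → ℤ), 1 ≤ γ ∧ (∑ a, v2 a * y a = 1) ∧
      ∀ a b, Z a b = γ * y a * y b := by
  obtain ⟨γ, hγ1, ⟨v2, hv2⟩, hgap⟩ := mj_min_exists Z hpos w0 hw0
  have hγ0 : γ ≠ 0 := by omega
  set t : ι → ℤ := fun a => mj_B Z (Pi.single a 1) v2 with ht
  have hv2' : mj_B Z v2 v2 = γ := hv2
  have hdvd : ∀ a, γ ∣ t a := by
    intro a
    set s := t a / γ with hs
    set r := t a % γ with hr
    have hr0 : 0 ≤ r := Int.emod_nonneg _ hγ0
    have hrlt : r < γ := Int.emod_lt_of_pos _ (by omega)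
    have hdm : γ * s + r = t a := Int.mul_ediv_add_emod (t a) γ
    set u : ι → ℤ := Pi.single a 1 + (-s) • v2 with hu
    have hBu : mj_B Z u v2 = r := by
      rw [hu, mj_B_add_left, mj_B_smul_left, hv2']
      show t a + -s * γ = r
      linarith
    have hq : mj_q Z u * γ = r ^ 2 := by
      have := mj_minor_B Z hminor u v2 u v2
      rw [hv2', hBu, mj_B_symm Z hZ v2 u, hBu] at this
      unfold mj_q
      rw [this]
      ring
    have hr2 : r = 0 := by
      rcases hgap u with h0 | hge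
      · rw [h0, zero_mul] at hq
        exact pow_eq_zero_iff (two_ne_zero) |>.mp hq.symm
      · exfalso
        have h1 : γ * γ ≤ r ^ 2 := by
          rw [← hq]
          exact mul_le_mul_of_nonneg_right hge (by omega)
        nlinarith
    rw [hr2, add_zero] at hdm
    exact ⟨s, hdm.symm⟩
  choose y hy using hdvd
  refine ⟨γ, y, v2, hγ1, ?_, ?_⟩
  · have h0 : γ * ∑ a, v2 a * y a = mj_B Z v2 v2 := by
      rw [← mj_sum_single Z v2 v2, Finset.mul_sum]
      refine Finset.sum_congr rfl fun a _ => ?_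
      show γ * (v2 a * y a) = v2 a * t a
      rw [hy a]
      ring
    have h1 : γ * ∑ a, v2 a * y a = γ * 1 := by
      rw [h0, hv2', mul_one]
    exact mul_left_cancel₀ hγ0 h1
  · intro a b
    have h1 := mj_minor_B Z hminor (Pi.single a 1) v2 (Pi.single b 1) v2
    rw [mj_B_single_single, hv2', mj_B_symm Z hZ v2 (Pi.single b 1)] at h1
    have h2 : Z a b * γ = (γ * y a) * (γ * y b) := by
      rw [h1, ← hy a, ← hy b]
    have h3 : γ * Z a b = γ * (γ * y a * y b) := by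
      rw [mul_comm γ (Z a b), h2]
      ring
    exact mul_left_cancel₀ hγ0 h3

theorem mj_p_dvd_gamma (p : ℤ) (Z : ι → ι → ℤ) (x y : ι → ℤ) (γ : ℤ)
    (hZ : ∀ a b, Z a b = x a * x b + γ * y a * y b) (v1 v2 : ι → ℤ)
    (h1x : ∑ a, v1 a * x a = 1) (h1y : ∑ a, v1 a * y a = 0) (h2y : ∑ a, v2 a * y a = 1)
    (hminor : ∀ a b c d, p ∣ Z a b * Z c d - Z a d * Z c b) : p ∣ γ := by
  have h := mj_minor_expand Z v1 v2 v1 v2
  rw [mj_B_rank_one x y γ Z hZ, mj_B_rank_one x y γ Z hZ, mj_B_rank_one x y γ Z hZ,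
    mj_B_rank_one x y γ Z hZ, h1x, h1y, h2y] at h
  have h2 : γ = ∑ a, ∑ b, ∑ c, ∑ d, v1 a * v1 b * v2 c * v2 d *
      (Z a b * Z c d - Z a d * Z c b) := by
    rw [← h]
    ring
  rw [h2]
  apply Finset.dvd_sum
  intro a _
  apply Finset.dvd_sum
  intro b _
  apply Finset.dvd_sum
  intro c _
  apply Finset.dvd_sum
  intro d _
  exact Dvd.dvd.mul_left (hminor a b c d) _

end Cfsg.Agent.Lib.Helper24
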