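import Mathlib
import Cfsg.Agent.Lib.Helper25.SubsectionBound
import Cfsg.Agent.Lib.Helper24.MJ5

set_option autoImplicit false
set_option linter.style.haveILetI false
set_option linter.unusedVariables false
set_option warn.classDefReducibility false
set_option maxHeartbeats 1600000

namespace Cfsg.Agent.Lib.Helper24
open scoped ComplexConjugate
open Cfsg.Agent.Lib.helper2
open Cfsg.Agent.Lib.helper7
open Cfsg.Agent.Lib.Helper25

open Classical in
noncomputable def mj_Z {K : Type*} [Group K] [Fintype K] (p : ℕ)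
    (b : Set (Cfsg.IrrCharacter K)) (a c : Cfsg.IrrCharacter K) : ℤ :=
  if a ∈ b ∧ c ∈ b then bf_z p b a c else 0

theorem mj_Z_symm {K : Type*} [Group K] [Fintype K] (p : ℕ) [hp : Fact p.Prime]
    (M : Ideal Cfsg.AlgInt) (hM : Cfsg.IsPModular p M) (ξ₀ : Cfsg.IrrCharacter K)
    (a c : Cfsg.IrrCharacter K) :
    mj_Z p (Cfsg.blockOf M (ξ₀ : K → ℂ)) a c = mj_Z p (Cfsg.blockOf M (ξ₀ : K → ℂ)) c a := by
  classical
  unfold mj_Z
  by_cases h : a ∈ Cfsg.blockOf M (ξ₀ : K → ℂ) ∧ c ∈ Cfsg.blockOf M (ξ₀ : K → ℂ)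
  · rw [if_pos h, if_pos ⟨h.2, h.1⟩]
    exact bf_z_symm p M hM ξ₀ a c h.1 h.2
  · rw [if_neg h, if_neg (fun h' => h ⟨h'.2, h'.1⟩)]

theorem mj_claimM {K : Type*} [Group K] [Fintype K] (p : ℕ) [hp : Fact p.Prime]
    (M : Ideal Cfsg.AlgInt) (hM : Cfsg.IsPModular p M) (ξ₀ : Cfsg.IrrCharacter K)
    (χ ξ ξ' : Cfsg.IrrCharacter K) (hχ : χ ∈ Cfsg.blockOf M (ξ₀ : K → ℂ))
    (hξ : ξ ∈ Cfsg.blockOf M (ξ₀ : K → ℂ)) (hξ' : ξ' ∈ Cfsg.blockOf M (ξ₀ : K → ℂ))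
    (ν t t' : ℕ) (ht : Cfsg.charDegree (ξ : K → ℂ) = p ^ ν * t)
    (ht' : Cfsg.charDegree (ξ' : K → ℂ) = p ^ ν * t')
    (hν : ν = sInf ((fun ψ : Cfsg.IrrCharacter K =>
        (Cfsg.charDegree (ψ : K → ℂ)).factorization p) '' Cfsg.blockOf M (ξ₀ : K → ℂ))) :
    (p : ℤ) ∣ bf_z p (Cfsg.blockOf M (ξ₀ : K → ℂ)) χ ξ * (t' : ℤ) -
      bf_z p (Cfsg.blockOf M (ξ₀ : K → ℂ)) χ ξ' * (t : ℤ) := by
  classical
  haveI : Fintype (Cfsg.IrrCharacter K) := Fintype.ofFinite _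
  have hMp := hM.2.1.isPrime
  have hsame : Cfsg.SameBlock M (ξ : K → ℂ) (ξ' : K → ℂ) :=
    h7_sameBlock_trans hMp (h7_sameBlock_symm hξ) hξ'
  have hcong := hz_r_congr p hM χ ξ ξ' hsame
  have hp0 : ((p : ℂ) ^ ν) ≠ 0 := pow_ne_zero _ (by exact_mod_cast hp.out.ne_zero)
  have hr : ∀ (ζ : Cfsg.IrrCharacter K) (hζ : ζ ∈ Cfsg.blockOf M (ξ₀ : K → ℂ)) (s : ℕ)
      (hs : Cfsg.charDegree (ζ : K → ℂ) = p ^ ν * s),
      hz_r p (χ : K → ℂ) (ζ : K → ℂ) =
        (bf_z p (Cfsg.blockOf M (ξ₀ : K → ℂ)) χ ζ : ℂ) / (s : ℂ) := by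
    intro ζ hζ s hs
    obtain ⟨n, hn⟩ := hz_inner_int p χ ζ
    have h1 := bf_z_tilde p M hM ξ₀ χ ζ hχ hζ n hn
    obtain ⟨_, hd2, hd3⟩ := h7_charDegree_props ζ
    have hs0 : (s : ℂ) ≠ 0 := by
      intro h0
      have : s = 0 := by exact_mod_cast h0
      rw [this, mul_zero] at hs
      omega
    unfold hz_r
    rw [hn, ← hd3, hs, h1, ← hν]
    push_cast
    field_simp
  rw [hr ξ hξ t ht, hr ξ' hξ' t' ht'] at hcong
  have ht0 : (t : ℂ) ≠ 0 := by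
    intro h0
    have : t = 0 := by exact_mod_cast h0
    obtain ⟨_, hd2, _⟩ := h7_charDegree_props ξ
    rw [this, mul_zero] at ht
    omega
  have ht'0 : (t' : ℂ) ≠ 0 := by
    intro h0
    have : t' = 0 := by exact_mod_cast h0
    obtain ⟨_, hd2, _⟩ := h7_charDegree_props ξ'
    rw [this, mul_zero] at ht'
    omega
  have h2 := h7_memLocalIdeal_mul_right hMp hcong
    (h7_memLocalRing_mul hMp (h7_memLocalRing_natCast hMp t) (h7_memLocalRing_natCast hMp t'))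
  have e : ((bf_z p (Cfsg.blockOf M (ξ₀ : K → ℂ)) χ ξ : ℂ) / (t : ℂ) -
        (bf_z p (Cfsg.blockOf M (ξ₀ : K → ℂ)) χ ξ' : ℂ) / (t' : ℂ)) * ((t : ℂ) * (t' : ℂ)) =
      ((bf_z p (Cfsg.blockOf M (ξ₀ : K → ℂ)) χ ξ * (t' : ℤ) -
        bf_z p (Cfsg.blockOf M (ξ₀ : K → ℂ)) χ ξ' * (t : ℤ) : ℤ) : ℂ) := by
    push_cast
    field_simp
  rw [e] at h2
  exact (hz_memLocalIdeal_intCast_iff hM _).mp h2

theorem mj_Z_minor_mod {K : Type*} [Group K] [Fintype K] (p : ℕ) [hp : Fact p.Prime]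
    (M : Ideal Cfsg.AlgInt) (hM : Cfsg.IsPModular p M) (ξ₀ : Cfsg.IrrCharacter K)
    (a b c d : Cfsg.IrrCharacter K) :
    (p : ℤ) ∣ mj_Z p (Cfsg.blockOf M (ξ₀ : K → ℂ)) a b * mj_Z p (Cfsg.blockOf M (ξ₀ : K → ℂ)) c d -
      mj_Z p (Cfsg.blockOf M (ξ₀ : K → ℂ)) a d * mj_Z p (Cfsg.blockOf M (ξ₀ : K → ℂ)) c b := by
  classical
  set B := Cfsg.blockOf M (ξ₀ : K → ℂ) with hB
  have hz0 : ∀ u v : Cfsg.IrrCharacter K, ¬ (u ∈ B ∧ v ∈ B) → mj_Z p B u v = 0 := by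
    intro u v h
    unfold mj_Z
    rw [if_neg h]
  by_cases ha : a ∈ B
  swap
  · rw [hz0 a b (fun h => ha h.1), hz0 a d (fun h => ha h.1)]
    simp
  by_cases hb : b ∈ B
  swap
  · rw [hz0 a b (fun h => hb h.2), hz0 c b (fun h => hb h.2)]
    simp
  by_cases hc : c ∈ B
  swap
  · rw [hz0 c d (fun h => hc h.1), hz0 c b (fun h => hc h.1)]
    simp
  by_cases hd : d ∈ B
  swap
  · rw [hz0 c d (fun h => hd h.2), hz0 a d (fun h => hd h.2)]
    simp
  unfold mj_Z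
  rw [if_pos ⟨ha, hb⟩, if_pos ⟨hc, hd⟩, if_pos ⟨ha, hd⟩, if_pos ⟨hc, hb⟩]
  obtain ⟨tb, htb, htb2⟩ := hz_cofactor p B b hb
  obtain ⟨td, htd, htd2⟩ := hz_cofactor p B d hd
  have h1 := mj_claimM p M hM ξ₀ a b d ha hb hd _ tb td htb htd rfl
  have h2 := mj_claimM p M hM ξ₀ c d b hc hd hb _ td tb htd htb rfl
  set zab := bf_z p B a b
  set zad := bf_z p B a d
  set zcd := bf_z p B c d
  set zcb := bf_z p B c b
  have h3 : (p : ℤ) ∣ (tb : ℤ) * (td : ℤ) * (zab * zcd - zad * zcb) := by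
    have e : (tb : ℤ) * (td : ℤ) * (zab * zcd - zad * zcb) =
        (zab * (td : ℤ) - zad * (tb : ℤ)) * (zcd * (tb : ℤ)) +
          (zad * (tb : ℤ)) * (zcd * (tb : ℤ) - zcb * (td : ℤ)) := by ring
    rw [e]
    exact dvd_add (Dvd.dvd.mul_right h1 _) (Dvd.dvd.mul_left h2 _)
  have hpp : Prime (p : ℤ) := Nat.prime_iff_prime_int.mp hp.out
  rcases hpp.dvd_or_dvd h3 with h4 | h4
  · rcases hpp.dvd_or_dvd h4 with h5 | h5
    · have hbh : Cfsg.blockHeight p B (b : K → ℂ) ≠ 0 := htb2.mp (by exact_mod_cast h5)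
      have e1 : (p : ℤ) ∣ zab := by
        show (p : ℤ) ∣ bf_z p B a b
        rw [bf_z_symm p M hM ξ₀ a b ha hb]
        exact bf_z_dvd p M hM ξ₀ b a hb ha hbh
      have e2 : (p : ℤ) ∣ zcb := by
        show (p : ℤ) ∣ bf_z p B c b
        rw [bf_z_symm p M hM ξ₀ c b hc hb]
        exact bf_z_dvd p M hM ξ₀ b c hb hc hbh
      exact dvd_sub (Dvd.dvd.mul_right e1 _) (Dvd.dvd.mul_left e2 _)
    · have hdh : Cfsg.blockHeight p B (d : K → ℂ) ≠ 0 := htd2.mp (by exact_mod_cast h5)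
      have e1 : (p : ℤ) ∣ zcd := by
        show (p : ℤ) ∣ bf_z p B c d
        rw [bf_z_symm p M hM ξ₀ c d hc hd]
        exact bf_z_dvd p M hM ξ₀ d c hd hc hdh
      have e2 : (p : ℤ) ∣ zad := by
        show (p : ℤ) ∣ bf_z p B a d
        rw [bf_z_symm p M hM ξ₀ a d ha hd]
        exact bf_z_dvd p M hM ξ₀ d a hd ha hdh
      exact dvd_sub (Dvd.dvd.mul_left e1 _) (Dvd.dvd.mul_right e2 _)
  · exact h4

theorem mj_Z_cast {K : Type*} [Group K] [Fintype K] (p : ℕ) [hp : Fact p.Prime]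
    (M : Ideal Cfsg.AlgInt) (hM : Cfsg.IsPModular p M) (ξ₀ : Cfsg.IrrCharacter K)
    (a c : Cfsg.IrrCharacter K) (ha : a ∈ Cfsg.blockOf M (ξ₀ : K → ℂ))
    (hc : c ∈ Cfsg.blockOf M (ξ₀ : K → ℂ)) :
    (mj_Z p (Cfsg.blockOf M (ξ₀ : K → ℂ)) a c : ℂ) =
      (p : ℂ) ^ Cfsg.blockDefect p (Cfsg.blockOf M (ξ₀ : K → ℂ)) *
        Cfsg.classInner (Cfsg.pRegularPart p (a : K → ℂ)) (c : K → ℂ) := by
  classical
  unfold mj_Z
  rw [if_pos ⟨ha, hc⟩, bf_z_spec p M hM ξ₀ a c ha hc]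

theorem mj_B_single_right {ι : Type*} [Fintype ι] [DecidableEq ι] (Z : ι → ι → ℤ) (c : ι)
    (u : ι → ℤ) : mj_B Z u (Pi.single c 1) = ∑ a, u a * Z a c := by
  unfold mj_B
  refine Finset.sum_congr rfl fun a _ => ?_
  rw [Finset.sum_eq_single c]
  · rw [Pi.single_eq_same]
    ring
  · intro c' _ hne
    rw [Pi.single_eq_of_ne hne]
    ring
  · intro h
    exact absurd (Finset.mem_univ c) h

theorem mj_sum_single_right {ι : Type*} [Fintype ι] [DecidableEq ι] (Z : ι → ι → ℤ)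
    (u w : ι → ℤ) : ∑ c, w c * mj_B Z u (Pi.single c 1) = mj_B Z u w := by
  unfold mj_B
  rw [Finset.sum_comm]
  refine Finset.sum_congr rfl fun c _ => ?_
  have := mj_B_single_right Z c u
  unfold mj_B at this
  rw [this, Finset.mul_sum]
  refine Finset.sum_congr rfl fun a _ => ?_
  ring

open Classical in
noncomputable def mj_phi {K : Type*} [Group K] [Fintype K] [Fintype (Cfsg.IrrCharacter K)]
    (p : ℕ) (B : Set (Cfsg.IrrCharacter K)) (u : Cfsg.IrrCharacter K → ℤ) : K → ℂ :=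
  ∑ a : Cfsg.IrrCharacter K, (if a ∈ B then ((u a : ℤ) : ℂ) else 0) •
    Cfsg.pRegularPart p (a : K → ℂ)

theorem mj_phi_mem {K : Type*} [Group K] [Fintype K] [Fintype (Cfsg.IrrCharacter K)]
    (p : ℕ) (B : Set (Cfsg.IrrCharacter K)) (u : Cfsg.IrrCharacter K → ℤ) :
    mj_phi p B u ∈ Submodule.span ℂ
      ((fun χ : Cfsg.IrrCharacter K => Cfsg.pRegularPart p (χ : K → ℂ)) '' B) := by
  classical
  unfold mj_phi
  apply Submodule.sum_mem
  intro a _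
  by_cases ha : a ∈ B
  · rw [if_pos ha]
    exact Submodule.smul_mem _ _ (Submodule.subset_span ⟨a, ha, rfl⟩)
  · rw [if_neg ha, zero_smul]
    exact Submodule.zero_mem _

open Classical in
theorem mj_B_phi {K : Type*} [Group K] [Fintype K] [Fintype (Cfsg.IrrCharacter K)]
    (p : ℕ) [hp : Fact p.Prime]
    (M : Ideal Cfsg.AlgInt) (hM : Cfsg.IsPModular p M) (ξ₀ : Cfsg.IrrCharacter K)
    (u : Cfsg.IrrCharacter K → ℤ) (c : Cfsg.IrrCharacter K) :
    ((mj_B (mj_Z p (Cfsg.blockOf M (ξ₀ : K → ℂ))) u (Pi.single c 1) : ℤ) : ℂ) =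
      if c ∈ Cfsg.blockOf M (ξ₀ : K → ℂ) then
        (p : ℂ) ^ Cfsg.blockDefect p (Cfsg.blockOf M (ξ₀ : K → ℂ)) *
          Cfsg.classInner (mj_phi p (Cfsg.blockOf M (ξ₀ : K → ℂ)) u) (c : K → ℂ) else 0 := by
  classical
  rw [mj_B_single_right]
  by_cases hc : c ∈ Cfsg.blockOf M (ξ₀ : K → ℂ)
  · rw [if_pos hc]
    unfold mj_phi
    rw [classInner_sum_left, Finset.mul_sum]
    push_cast
    refine Finset.sum_congr rfl fun a _ => ?_
    rw [classInner_smul_left]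
    by_cases ha : a ∈ Cfsg.blockOf M (ξ₀ : K → ℂ)
    · rw [if_pos ha, mj_Z_cast p M hM ξ₀ a c ha hc]
      ring
    · rw [if_neg ha]
      unfold mj_Z
      rw [if_neg (fun h => ha h.1)]
      simp
  · rw [if_neg hc]
    have : ∑ a, u a * mj_Z p (Cfsg.blockOf M (ξ₀ : K → ℂ)) a c = 0 := by
      apply Finset.sum_eq_zero
      intro a _
      unfold mj_Z
      rw [if_neg (fun h => hc h.2), mul_zero]
    rw [this]
    simp

open Classical in
theorem mj_det3 {K : Type*} [Group K] [Fintype K] [Fintype (Cfsg.IrrCharacter K)]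
    (p : ℕ) [hp : Fact p.Prime]
    (M : Ideal Cfsg.AlgInt) (hM : Cfsg.IsPModular p M) (ξ₀ : Cfsg.IrrCharacter K)
    (hl : Cfsg.blockRank p (Cfsg.blockOf M (ξ₀ : K → ℂ)) ≤ 2)
    (u w : Fin 3 → Cfsg.IrrCharacter K → ℤ) (A : Fin 3 → Fin 3 → ℤ)
    (hA : ∀ i j, A i j = mj_B (mj_Z p (Cfsg.blockOf M (ξ₀ : K → ℂ))) (u i) (w j)) :
    A 0 0 * (A 1 1 * A 2 2 - A 1 2 * A 2 1) - A 0 1 * (A 1 0 * A 2 2 - A 1 2 * A 2 0) +
      A 0 2 * (A 1 0 * A 2 1 - A 1 1 * A 2 0) = 0 := by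
  set B := Cfsg.blockOf M (ξ₀ : K → ℂ) with hB
  set U := Submodule.span ℂ
    ((fun χ : Cfsg.IrrCharacter K => Cfsg.pRegularPart p (χ : K → ℂ)) '' B) with hU
  have hfin : Module.finrank ℂ U ≤ 2 := hl
  have hdep : ¬ LinearIndependent ℂ (fun i : Fin 3 => mj_phi p B (u i)) := by
    intro hli
    have hli' : LinearIndependent ℂ
        (fun i : Fin 3 => (⟨mj_phi p B (u i), mj_phi_mem p B (u i)⟩ : U)) :=
      LinearIndependent.of_comp U.subtype hli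
    have := hli'.fintype_card_le_finrank
    rw [Fintype.card_fin] at this
    omega
  obtain ⟨g, hg0, i0, hi0⟩ := Fintype.not_linearIndependent_iff.mp hdep
  have hcol : ∀ j, ∑ i, g i * ((A i j : ℤ) : ℂ) = 0 := by
    intro j
    have h1 : ∀ i, ((A i j : ℤ) : ℂ) = ∑ c, ((w j c : ℤ) : ℂ) *
        (if c ∈ B then (p : ℂ) ^ Cfsg.blockDefect p B *
          Cfsg.classInner (mj_phi p B (u i)) (c : K → ℂ) else 0) := by
      intro i
      rw [hA i j, ← mj_sum_single_right]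
      push_cast
      refine Finset.sum_congr rfl fun c _ => ?_
      rw [mj_B_phi p M hM ξ₀ (u i) c]
    simp only [h1]
    simp only [Finset.mul_sum]
    rw [Finset.sum_comm]
    apply Finset.sum_eq_zero
    intro c _
    by_cases hc : c ∈ B
    · simp only [if_pos hc]
      have h2 : ∑ i, g i * (((w j c : ℤ) : ℂ) * ((p : ℂ) ^ Cfsg.blockDefect p B *
          Cfsg.classInner (mj_phi p B (u i)) (c : K → ℂ))) =
          ((w j c : ℤ) : ℂ) * (p : ℂ) ^ Cfsg.blockDefect p B *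
            Cfsg.classInner (∑ i, g i • mj_phi p B (u i)) (c : K → ℂ) := by
        rw [classInner_sum_left, Finset.mul_sum]
        refine Finset.sum_congr rfl fun i _ => ?_
        rw [classInner_smul_left]
        ring
      rw [h2, hg0, Cfsg.Agent.Lib.Helper25.classInner_zero_left, mul_zero]
    · simp only [if_neg hc, mul_zero, Finset.sum_const_zero]
  set Ac : Matrix (Fin 3) (Fin 3) ℂ := fun i j => ((A i j : ℤ) : ℂ) with hAc
  have hvec : Matrix.vecMul g Ac = 0 := by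
    funext j
    rw [Matrix.vecMul, dotProduct]
    exact hcol j
  have hg : g ≠ 0 := by
    intro h
    apply hi0
    rw [h]
    rfl
  have hdet : Ac.det = 0 := Matrix.exists_vecMul_eq_zero_iff.mp ⟨g, hg, hvec⟩
  rw [Matrix.det_fin_three] at hdet
  have hc : ((A 0 0 * (A 1 1 * A 2 2 - A 1 2 * A 2 1) - A 0 1 * (A 1 0 * A 2 2 - A 1 2 * A 2 0) +
      A 0 2 * (A 1 0 * A 2 1 - A 1 1 * A 2 0) : ℤ) : ℂ) = 0 := by
    push_cast
    rw [← hdet]
    simp only [hAc]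
    ring
  exact_mod_cast hc

open Classical in
theorem mj_Z_pos {K : Type*} [Group K] [Fintype K] [Fintype (Cfsg.IrrCharacter K)]
    (p : ℕ) [hp : Fact p.Prime]
    (M : Ideal Cfsg.AlgInt) (hM : Cfsg.IsPModular p M) (ξ₀ : Cfsg.IrrCharacter K)
    (w : Cfsg.IrrCharacter K → ℤ) :
    0 ≤ mj_q (mj_Z p (Cfsg.blockOf M (ξ₀ : K → ℂ))) w := by
  set B := Cfsg.blockOf M (ξ₀ : K → ℂ) with hB
  set f := mj_phi p B w with hf
  set d := Cfsg.blockDefect p B with hd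
  have hfapp : ∀ h : K, f h = ∑ a : Cfsg.IrrCharacter K,
      (if a ∈ B then ((w a : ℤ) : ℂ) else 0) * Cfsg.pRegularPart p (a : K → ℂ) h := by
    intro h
    rw [hf]
    unfold mj_phi
    rw [Finset.sum_apply]
    refine Finset.sum_congr rfl fun a _ => ?_
    rw [Pi.smul_apply, smul_eq_mul]
  have h1 : ((mj_q (mj_Z p B) w : ℤ) : ℂ) =
      (p : ℂ) ^ d * ((Nat.card K : ℂ)⁻¹ * ∑ h : K, f h * conj (f h)) := by
    unfold mj_q
    rw [← mj_sum_single_right]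
    push_cast
    have e1 : ∀ c : Cfsg.IrrCharacter K,
        ((w c : ℤ) : ℂ) * ((mj_B (mj_Z p B) w (Pi.single c 1) : ℤ) : ℂ) =
        (p : ℂ) ^ d * ((Nat.card K : ℂ)⁻¹ * ∑ h : K, f h *
          ((if c ∈ B then ((w c : ℤ) : ℂ) else 0) * conj ((c : K → ℂ) h))) := by
      intro c
      rw [mj_B_phi p M hM ξ₀ w c]
      by_cases hc : c ∈ B
      · rw [if_pos hc]
        simp only [if_pos hc]
        unfold Cfsg.classInner
        rw [Finset.mul_sum, Finset.mul_sum, Finset.mul_sum, Finset.mul_sum, Finset.mul_sum]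
        refine Finset.sum_congr rfl fun h _ => ?_
        ring
      · rw [if_neg hc]
        simp only [if_neg hc]
        simp
    rw [Finset.sum_congr rfl (fun c _ => e1 c), ← Finset.mul_sum, ← Finset.mul_sum,
      Finset.sum_comm]
    congr 2
    refine Finset.sum_congr rfl fun h _ => ?_
    rw [← Finset.mul_sum]
    by_cases hh : p ∣ orderOf h
    · have hf0 : f h = 0 := by
        rw [hfapp h]
        apply Finset.sum_eq_zero
        intro a _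
        rw [br_pRegularPart_sing p _ h hh, mul_zero]
      rw [hf0, zero_mul, zero_mul]
    · congr 1
      rw [hfapp h, map_sum]
      refine Finset.sum_congr rfl fun a _ => ?_
      rw [br_pRegularPart_reg p _ h hh, map_mul]
      congr 1
      split_ifs <;> simp
  have h2 : ((mj_q (mj_Z p B) w : ℤ) : ℂ) =
      (((p : ℝ) ^ d * ((Nat.card K : ℝ)⁻¹ * ∑ h : K, Complex.normSq (f h)) : ℝ) : ℂ) := by
    rw [h1]
    push_cast
    congr 2
    refine Finset.sum_congr rfl fun h _ => ?_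
    rw [Complex.mul_conj]
  have h3 : ((mj_q (mj_Z p B) w : ℤ) : ℝ) =
      (p : ℝ) ^ d * ((Nat.card K : ℝ)⁻¹ * ∑ h : K, Complex.normSq (f h)) := by
    have := congrArg Complex.re h2
    rw [Complex.intCast_re, Complex.ofReal_re] at this
    exact this
  have h4 : (0 : ℝ) ≤ ((mj_q (mj_Z p B) w : ℤ) : ℝ) := by
    rw [h3]
    apply mul_nonneg (by positivity)
    apply mul_nonneg (by positivity)
    exact Finset.sum_nonneg fun h _ => Complex.normSq_nonneg _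
  exact_mod_cast h4

end Cfsg.Agent.Lib.Helper24
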