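import Mathlib
import Cfsg.Agent.Lib.Helper24.MJ7

set_option autoImplicit false
set_option linter.style.haveILetI false
set_option linter.unusedVariables false
set_option warn.classDefReducibility false
set_option maxHeartbeats 1600000

namespace Cfsg.Agent.Lib.Helper24
open scoped ComplexConjugate
open Cfsg.Agent.Lib.helper2
open Cfsg.Agent.Lib.helper7
open Cfsg.Agent.Lib.Helper25

theorem mj_q_rank_two {ι : Type*} [Fintype ι] (x y : ι → ℤ) (γ : ℤ) (Z : ι → ι → ℤ)
    (hZ : ∀ a b, Z a b = x a * x b + γ * y a * y b) (w : ι → ℤ) :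
    mj_q Z w = (∑ a, w a * x a) ^ 2 + γ * (∑ a, w a * y a) ^ 2 := by
  unfold mj_q
  rw [mj_B_rank_one x y γ Z hZ]
  ring

open Classical in
theorem mj_structure {K : Type*} [Group K] [Fintype K] [Fintype (Cfsg.IrrCharacter K)]
    (p : ℕ) [hp : Fact p.Prime]
    (M : Ideal Cfsg.AlgInt) (hM : Cfsg.IsPModular p M) (ξ₀ : Cfsg.IrrCharacter K)
    (hl : Cfsg.blockRank p (Cfsg.blockOf M (ξ₀ : K → ℂ)) ≤ 2) :
    (∀ w : Cfsg.IrrCharacter K → ℤ, mj_q (mj_Z p (Cfsg.blockOf M (ξ₀ : K → ℂ))) w = 0 ∨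
      2 ≤ mj_q (mj_Z p (Cfsg.blockOf M (ξ₀ : K → ℂ))) w) ∨
    ∃ (x y : Cfsg.IrrCharacter K → ℤ) (γ : ℤ), 0 ≤ γ ∧ (p : ℤ) ∣ γ ∧
      ∀ a c, mj_Z p (Cfsg.blockOf M (ξ₀ : K → ℂ)) a c = x a * x c + γ * y a * y c := by
  have hMp := hM.2.1.isPrime
  set B := Cfsg.blockOf M (ξ₀ : K → ℂ) with hB
  set Z := mj_Z p B with hZdef
  have hZs : ∀ a c, Z a c = Z c a := fun a c => mj_Z_symm p M hM ξ₀ a c
  have hpos : ∀ w, 0 ≤ mj_q Z w := fun w => mj_Z_pos p M hM ξ₀ w
  have hξ₀ : ξ₀ ∈ B := h7_sameBlock_refl hMp _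
  have hw0 : mj_q Z (Pi.single ξ₀ 1) ≠ 0 := by
    unfold mj_q
    rw [mj_B_single_single]
    have h1 := bf_z_self_pos p M hM ξ₀ ξ₀ hξ₀
    show mj_Z p B ξ₀ ξ₀ ≠ 0
    unfold mj_Z
    rw [if_pos ⟨hξ₀, hξ₀⟩]
    exact h1.ne'
  obtain ⟨α, hα1, ⟨v1, hv1⟩, hgap⟩ := mj_min_exists Z hpos _ hw0
  by_cases hα2 : 2 ≤ α
  · left
    intro w
    rcases hgap w with h | h
    · left; exact h
    · right; omega
  · right
    have hα : α = 1 := by omega
    rw [hα] at hv1
    set x : Cfsg.IrrCharacter K → ℤ := fun a => ∑ b, Z a b * v1 b with hx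
    set Z' : Cfsg.IrrCharacter K → Cfsg.IrrCharacter K → ℤ := fun a b => Z a b - x a * x b
      with hZ'
    have hZ's : ∀ a b, Z' a b = Z' b a := by
      intro a b
      show Z a b - x a * x b = Z b a - x b * x a
      rw [hZs a b]
      ring
    have hpos' : ∀ w, 0 ≤ mj_q Z' w := fun w => mj_split_pos Z hZs hpos v1 hv1 w
    have hv1x : ∑ a, v1 a * x a = 1 := by
      rw [← mj_B_eq_sum_x Z v1 v1]
      exact hv1
    have hq' : ∀ w, mj_q Z' w = mj_q Z w - (∑ a, w a * x a) ^ 2 := by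
      intro w
      unfold mj_q
      rw [mj_B_sub_rank_one]
      ring
    have hminor : ∀ a b c d, Z' a b * Z' c d = Z' a d * Z' c b := by
      intro a b c d
      set u : Fin 3 → Cfsg.IrrCharacter K → ℤ := ![v1, Pi.single a 1, Pi.single c 1] with hu
      set w : Fin 3 → Cfsg.IrrCharacter K → ℤ := ![v1, Pi.single b 1, Pi.single d 1] with hw
      have hdet := mj_det3 p M hM ξ₀ hl u w (fun i j => mj_B Z (u i) (w j)) (fun i j => rfl)
      have hxr : ∀ e : Cfsg.IrrCharacter K, mj_B Z v1 (Pi.single e 1) = x e := by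
        intro e
        rw [mj_B_symm Z hZs, mj_B_single_left]
      have hxl : ∀ e : Cfsg.IrrCharacter K, mj_B Z (Pi.single e 1) v1 = x e := by
        intro e
        rw [mj_B_single_left]
      have h00 : mj_B Z (u 0) (w 0) = 1 := hv1
      have h01 : mj_B Z (u 0) (w 1) = x b := hxr b
      have h02 : mj_B Z (u 0) (w 2) = x d := hxr d
      have h10 : mj_B Z (u 1) (w 0) = x a := hxl a
      have h20 : mj_B Z (u 2) (w 0) = x c := hxl c
      have h11 : mj_B Z (u 1) (w 1) = Z a b := mj_B_single_single Z a b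
      have h12 : mj_B Z (u 1) (w 2) = Z a d := mj_B_single_single Z a d
      have h21 : mj_B Z (u 2) (w 1) = Z c b := mj_B_single_single Z c b
      have h22 : mj_B Z (u 2) (w 2) = Z c d := mj_B_single_single Z c d
      simp only [h00, h01, h02, h10, h20, h11, h12, h21, h22] at hdet
      show (Z a b - x a * x b) * (Z c d - x c * x d) = (Z a d - x a * x d) * (Z c b - x c * x b)
      linear_combination hdet
    by_cases hzero : ∀ w, mj_q Z' w = 0
    · refine ⟨x, fun _ => 0, 0, le_refl 0, dvd_zero _, ?_⟩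
      intro a c
      have h1 : mj_B Z' (Pi.single a 1) (Pi.single c 1) = 0 :=
        mj_rad_B Z' hZ's hpos' _ _ (hzero _)
      rw [mj_B_single_single] at h1
      have h2 : Z a c - x a * x c = 0 := h1
      show Z a c = x a * x c + 0 * 0 * 0
      linarith
    · push Not at hzero
      obtain ⟨w0, hw0'⟩ := hzero
      obtain ⟨γ, y, v2, hγ1, hv2y, hZ'eq⟩ := mj_rank_one Z' hZ's hpos' hminor w0 hw0'
      have hZeq : ∀ a c, Z a c = x a * x c + γ * y a * y c := by
        intro a c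
        have := hZ'eq a c
        have h2 : Z' a c = Z a c - x a * x c := rfl
        rw [h2] at this
        linarith
      have hv1y : ∑ a, v1 a * y a = 0 := by
        have h1 := mj_q_rank_two x y γ Z hZeq v1
        rw [hv1, hv1x] at h1
        have h2 : γ * (∑ a, v1 a * y a) ^ 2 = 0 := by linarith
        rcases mul_eq_zero.mp h2 with h3 | h3
        · omega
        · exact pow_eq_zero_iff (two_ne_zero) |>.mp h3
      refine ⟨x, y, γ, by omega, ?_, hZeq⟩
      exact mj_p_dvd_gamma (p : ℤ) Z x y γ hZeq v1 v2 hv1x hv1y hv2y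
        (fun a b c d => mj_Z_minor_mod p M hM ξ₀ a b c d)

end Cfsg.Agent.Lib.Helper24
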