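import Mathlib
import Cfsg.Agent.Lib.Helper24.MJ6
import Cfsg.Agent.Lib.Helper24.MJ8
import Cfsg.Agent.Lib.Helper24.MJ16

set_option autoImplicit false
set_option linter.style.haveILetI false
set_option linter.unusedVariables false
set_option warn.classDefReducibility false
set_option maxHeartbeats 3200000

namespace Cfsg.Agent.Lib.Helper24
open scoped ComplexConjugate
open Cfsg.Agent.Lib.helper2
open Cfsg.Agent.Lib.helper7
open Cfsg.Agent.Lib.Helper25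

theorem mj_major {G : Type*} [Group G] [Fintype G]
    (p : ℕ) [hp : Fact p.Prime]
    (M : Ideal Cfsg.AlgInt) (hM : Cfsg.IsPModular p M) (B : Set (Cfsg.IrrCharacter G))
    (y : G) (k : ℕ) (hk : orderOf y = p ^ k)
    (H : Subgroup G) [Fintype H] (hH : H = Subgroup.centralizer ({y} : Set G))
    (b : Set (Cfsg.IrrCharacter H))
    (hind : Cfsg.IsInducedBlock M H b B)
    (hdef : Cfsg.blockDefect p b = Cfsg.blockDefect p B)
    (hl : Cfsg.blockRank p b ≤ 2)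
    (Bf : Finset (Cfsg.IrrCharacter G)) (hBf : ∀ χ, χ ∈ Bf ↔ χ ∈ B) :
    Bf.card ≤ p ^ Cfsg.blockDefect p B := by
  classical
  have hpp := hp.out
  have hMp := hM.2.1.isPrime
  haveI : Fintype (Cfsg.IrrCharacter H) := Fintype.ofFinite _
  haveI : Fintype (Cfsg.IrrCharacter G) := Fintype.ofFinite _
  have hyH : y ∈ H := by
    rw [hH]
    exact Subgroup.mem_centralizer_singleton_iff.mpr rfl
  have hcent : ∀ h ∈ H, h * y = y * h := fun h hh =>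
    Subgroup.mem_centralizer_singleton_iff.mp (hH ▸ hh)
  have hyk : y ^ (p ^ k) = 1 := by rw [← hk]; exact pow_orderOf_eq_one y
  set d := Cfsg.blockDefect p b with hd
  set n := p ^ (k + 1) with hn
  have hn0 : n ≠ 0 := pow_ne_zero _ hpp.ne_zero
  haveI : NeZero n := ⟨hn0⟩
  have hykn : y ^ n = 1 := by
    rw [hn, pow_succ, pow_mul, hyk, one_pow]
  obtain ⟨ψ₀, hb⟩ := hind.1
  have hyc : (⟨y, hyH⟩ : H) ∈ Subgroup.center H := by
    rw [Subgroup.mem_center_iff]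
    intro h
    apply Subtype.ext
    show (h : G) * y = y * (h : G)
    exact hcent h h.2
  have hyn : (⟨y, hyH⟩ : H) ^ n = 1 := by
    apply Subtype.ext
    show y ^ n = 1
    exact hykn
  have hlamex : ∀ ψ' : Cfsg.IrrCharacter H, ∃ lam : ℂ,
      (∀ c : H, (ψ' : H → ℂ) ((⟨y, hyH⟩ : H) * c) = lam * (ψ' : H → ℂ) c) ∧ lam ^ n = 1 :=
    fun ψ' => bp_central_shift ψ' _ hyc _ hyn
  choose lam hlam1 hlam2 using hlamex
  set ζ : ℂ := Complex.exp (2 * Real.pi * Complex.I / n) with hζdef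
  have hζ : IsPrimitiveRoot ζ n := Complex.isPrimitiveRoot_exp n hn0
  have hex : ∀ ψ' : Cfsg.IrrCharacter H, ∃ i < n, ζ ^ i = lam ψ' :=
    fun ψ' => hζ.eq_pow_of_pow_eq_one (hlam2 ψ')
  choose ex hex1 hex2 using hex
  have hnat : ∀ (χ : Cfsg.IrrCharacter G) (ψ' : Cfsg.IrrCharacter H), ∃ m : ℕ,
      Cfsg.classInner (fun h : H => (χ : G → ℂ) (h : G)) (ψ' : H → ℂ) = (m : ℂ) := fun χ ψ' =>
    classInner_character_nat (isCharacter_restrict (isCharacter_of_irr χ) H) (isCharacter_of_irr ψ')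
  choose mult hmult using hnat
  set c : Cfsg.IrrCharacter G → Cfsg.IrrCharacter H → ℤ := fun χ a => (mult χ a : ℤ) with hc
  set Z : Cfsg.IrrCharacter H → Cfsg.IrrCharacter H → ℤ := mj_Z p b with hZdef
  have hZs : ∀ a a', Z a a' = Z a' a := by
    intro a a'
    rw [hZdef, hb]
    exact mj_Z_symm p M hM ψ₀ a a'
  have hstruct : (∀ w : Cfsg.IrrCharacter H → ℤ, mj_q Z w = 0 ∨ 2 ≤ mj_q Z w) ∨
      ∃ (x y' : Cfsg.IrrCharacter H → ℤ) (γ : ℤ), 0 ≤ γ ∧ (p : ℤ) ∣ γ ∧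
        ∀ a a', Z a a' = x a * x a' + γ * y' a * y' a' := by
    have hl' : Cfsg.blockRank p (Cfsg.blockOf M (ψ₀ : H → ℂ)) ≤ 2 := by rw [← hb]; exact hl
    have := mj_structure p M hM ψ₀ hl'
    rw [← hb] at this
    exact this
  have hI1 : ∀ χ ψ j, (p : ℂ) ^ d * mj_hk_W p H b (y ^ j) χ ψ =
      mj_u ζ ex (c χ) (c ψ) Z j := by
    intro χ ψ j
    unfold mj_hk_W mj_u
    rw [su_W_formula p H y hyH hcent b χ ψ lam hlam1 j, Finset.mul_sum]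
    refine Finset.sum_congr rfl fun ψ' _ => ?_
    rw [Finset.mul_sum]
    refine Finset.sum_congr rfl fun ψ'' _ => ?_
    show _ = (((mult χ ψ' : ℤ) * (mult ψ ψ'' : ℤ) * mj_Z p b ψ' ψ'' : ℤ) : ℂ) * _
    unfold mj_Z
    split_ifs with h
    · have hspec := bf_z_spec p M hM ψ₀ ψ' ψ'' (hb ▸ h.1) (hb ▸ h.2)
      rw [← hb] at hspec
      rw [hmult χ ψ', hmult ψ ψ'', map_mul, Complex.conj_natCast, map_pow, hex2 ψ', hex2 ψ'']
      push_cast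
      rw [← hspec, mul_pow]
      ring
    · simp
  have hpow : ∀ j : ℕ, n.Coprime j → y ^ j ∈ H ∧ (∀ h ∈ H, h * y ^ j = y ^ j * h) ∧
      (∀ g : G, g * y ^ j = y ^ j * g → g ∈ H) ∧ (∃ k' : ℕ, orderOf (y ^ j) = p ^ k') := by
    intro j hj
    have hj' : (orderOf y).Coprime j := by
      rw [hk]
      exact Nat.Coprime.pow_left k ((Nat.coprime_pow_left_iff (Nat.succ_pos k) p j).mp hj)
    have h0 := su_pow_hyp p y k hk j hj'
    rw [← hH] at h0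
    exact h0
  have hBfeq : Bf = Finset.univ.filter (· ∈ B) := by
    ext χ
    simp [hBf]
  have hfs : ∀ g : Cfsg.IrrCharacter G → ℂ, ∑ᶠ χ ∈ B, g χ = ∑ χ ∈ Bf, g χ := by
    intro g
    rw [h7_finsum_mem_fintype B, hBfeq, Finset.sum_filter]
  have hDconj : conj ((p : ℂ) ^ d) = (p : ℂ) ^ d := by rw [map_pow, Complex.conj_natCast]
  have hidem : ∀ j, n.Coprime j → ∀ χ ∈ Bf, ∀ χ' ∈ Bf,
      ∑ ψ ∈ Bf, mj_u ζ ex (c χ) (c ψ) Z j * conj (mj_u ζ ex (c χ') (c ψ) Z j) =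
        (p : ℂ) ^ d * mj_u ζ ex (c χ) (c χ') Z j := by
    intro j hj χ _ χ' _
    obtain ⟨h1, h2, h3, h4⟩ := hpow j hj
    have h6 := su_idem p M hM H (y ^ j) h1 h2 h3 h4 b B hind χ χ'
    rw [hfs] at h6
    have h6' : ∑ ψ ∈ Bf, mj_hk_W p H b (y ^ j) χ ψ * conj (mj_hk_W p H b (y ^ j) χ' ψ) =
        mj_hk_W p H b (y ^ j) χ χ' := h6
    rw [← hI1 χ χ' j, ← h6', Finset.mul_sum, Finset.mul_sum]
    refine Finset.sum_congr rfl fun ψ _ => ?_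
    rw [← hI1 χ ψ j, ← hI1 χ' ψ j, map_mul, hDconj]
    ring
  have htrace : ∀ j, n.Coprime j →
      ∑ χ ∈ Bf, mj_u ζ ex (c χ) (c χ) Z j = (p : ℂ) ^ d * ((Cfsg.blockRank p b : ℕ) : ℂ) := by
    intro j hj
    obtain ⟨h1, h2, h3, h4⟩ := hpow j hj
    have h5 := st_trace p M hM H (y ^ j) h1 h2 h3 h4 b B hind
    rw [hfs] at h5
    have h5' : ∑ χ ∈ Bf, mj_hk_W p H b (y ^ j) χ χ = (Cfsg.blockRank p b : ℂ) := h5
    rw [← h5', Finset.mul_sum]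
    exact Finset.sum_congr rfl fun χ _ => (hI1 χ χ j).symm
  set ht : Cfsg.IrrCharacter G → ℕ := fun χ => Cfsg.blockHeight p B (χ : G → ℂ) with hht
  have hunit : ∀ χ ∈ Bf, ht χ = 0 → ∀ j,
      ¬ Cfsg.MemLocalIdeal M (mj_u ζ ex (c χ) (c χ) Z j) := by
    intro χ hχ hχ0 j
    have hχB := (hBf χ).mp hχ
    have h1 := su_unit p M hM H y hyH hcent k hyk b B hind χ χ hχB hχB hχ0 hχ0 j
    rw [← hI1 χ χ j]
    exact h1
  have hcong : ∀ j, n.Coprime j → ∀ χ ∈ Bf, ∀ ψ ∈ Bf, ∀ ψ' ∈ Bf,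
       Cfsg.MemLocalRing M (mj_u ζ ex (c χ) (c ψ) Z j / (p : ℂ) ^ ht ψ) ∧
       (Cfsg.MemLocalIdeal M (mj_u ζ ex (c χ) (c ψ) Z j / (p : ℂ) ^ ht ψ) →
        Cfsg.MemLocalIdeal M (mj_u ζ ex (c χ) (c ψ') Z j / (p : ℂ) ^ ht ψ')) := by
    intro j hj χ _ ψ hψ ψ' hψ'
    obtain ⟨h1, h2, h3, h4⟩ := hpow j hj
    rw [← hI1 χ ψ j, ← hI1 χ ψ' j]
    exact mj_hk_cong p M hM H (y ^ j) h1 h2 h3 h4 b B hind hdef χ ψ ψ'
      ((hBf ψ).mp hψ) ((hBf ψ').mp hψ')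
  obtain ⟨χ₁, hB₁⟩ := hind.2.1
  have hχ₁ : χ₁ ∈ B := by
    rw [hB₁]
    exact h7_sameBlock_refl hMp _
  obtain ⟨χ₀, hχ₀B, hχ₀0⟩ := bf_exists_height_zero p B ⟨χ₁, hχ₁⟩
  have hχ₀f : χ₀ ∈ Bf := (hBf χ₀).mpr hχ₀B
  have hfinal := mj_count p M hM k d (Cfsg.blockRank p b) ζ hζ ex hex1 c Z hZs hstruct Bf ht
    hidem htrace hl hunit hcong χ₀ hχ₀f hχ₀0
  rw [← hdef]
  exact hfinal

end Cfsg.Agent.Lib.Helper24
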