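import Mathlib
import Cfsg.Agent.Lib.helper7.HKS8
import Cfsg.Agent.Lib.Helper24.MJ17

set_option autoImplicit false
set_option linter.style.haveILetI false
set_option linter.unusedVariables false
set_option warn.classDefReducibility false
set_option maxHeartbeats 1600000

namespace Cfsg.Agent.Lib.Helper24
open scoped ComplexConjugate
open Cfsg.Agent.Lib.helper2
open Cfsg.Agent.Lib.helper7
open Cfsg.Agent.Lib.Helper25

theorem mj_major_final {G : Type*} [Group G] [Finite G] (p : ℕ) [hp : Fact p.Prime]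
    (M : Ideal Cfsg.AlgInt)
    (hM : Cfsg.IsPModular p M) (B : Set (Cfsg.IrrCharacter G)) (hB : Cfsg.IsPBlock M B)
    (D : Subgroup G) (hD : Cfsg.IsDefectGroup p M B D) (z : G) (hzD : z ∈ D)
    (hzc : ∀ d ∈ D, d * z = z * d)
    (b : Set (Cfsg.IrrCharacter ↥(Subgroup.centralizer ({z} : Set G))))
    (hb : Cfsg.IsInducedBlock M (Subgroup.centralizer ({z} : Set G)) b B)
    (hbD : Cfsg.IsDefectGroup p M b (D.subgroupOf (Subgroup.centralizer ({z} : Set G))))
    (hl : Cfsg.blockRank p b ≤ 2) :
    Nat.card B ≤ p ^ Cfsg.blockDefect p B := by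
  classical
  haveI : Fintype G := Fintype.ofFinite _
  haveI : Fintype ↥(Subgroup.centralizer ({z} : Set G)) := Fintype.ofFinite _
  haveI : Fintype (Cfsg.IrrCharacter G) := Fintype.ofFinite _
  have hcD := h7_hk_defect_card p M hM B hB D hD
  have hcb := h7_hk_defect_card p M hM b hb.1 _ hbD
  have hDle : D ≤ Subgroup.centralizer ({z} : Set G) := by
    intro d hd
    exact Subgroup.mem_centralizer_singleton_iff.mpr (hzc d hd)
  have hcard : Nat.card (D.subgroupOf (Subgroup.centralizer ({z} : Set G))) = Nat.card D :=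
    Nat.card_congr (Subgroup.subgroupOfEquivOfLe hDle).toEquiv
  have hdef : Cfsg.blockDefect p b = Cfsg.blockDefect p B := by
    rw [hcard, hcD] at hcb
    exact (Nat.pow_right_injective hp.out.two_le hcb).symm
  have hzord : orderOf z ∣ p ^ Cfsg.blockDefect p B := by
    rw [← hcD]
    have h1 : orderOf (⟨z, hzD⟩ : D) ∣ Nat.card D := orderOf_dvd_natCard _
    rwa [← Subgroup.orderOf_coe] at h1
  obtain ⟨k, -, hk⟩ := (Nat.dvd_prime_pow hp.out).mp hzord
  set Bf : Finset (Cfsg.IrrCharacter G) := Finset.univ.filter (· ∈ B) with hBfdef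
  have hBf : ∀ χ, χ ∈ Bf ↔ χ ∈ B := by
    intro χ
    simp [hBfdef]
  have hcardB : Nat.card B = Bf.card := by
    have h1 : Nat.card B = Nat.card Bf :=
      Nat.card_congr (Equiv.subtypeEquivRight (fun χ => (hBf χ).symm))
    rw [h1, Nat.card_eq_fintype_card, Fintype.card_coe]
  rw [hcardB]
  exact mj_major p M hM B z k hk (Subgroup.centralizer ({z} : Set G)) rfl b hb hdef hl Bf hBf

end Cfsg.Agent.Lib.Helper24
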