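import Mathlib
import Cfsg.Agent.Lib.Helper24.MNP.Defs
import Cfsg.Agent.Lib.Helper9.SCHA1

set_option autoImplicit false

namespace Cfsg.Agent.Lib.Helper24.MNP

open scoped commutatorElement
open Cfsg.Agent.Lib.Helper24.SCH (SchAct)

universe u

section C

variable {P : Type u} [Group P] [Finite P] {p q : ℕ} [Fact p.Prime] {α : MulAut P}

theorem fixSub_le_center (h : SchAct p q P α) : fixSub α ≤ Subgroup.center P := by
  intro x hx
  exact Cfsg.Agent.Lib.Helper24.SCH.fixed_central h x hx

end C

end Cfsg.Agent.Lib.Helper24.MNP
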