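import Mathlib
import Cfsg.Agent.Lib.Helper24.MNP.Defs

set_option autoImplicit false

namespace Cfsg.Agent.Lib.Helper24.MNP

open Polynomial

universe u

section C'

variable {K : Type u} [Field K] [Finite K] {p q : ℕ} [Fact p.Prime] [Fact q.Prime] [CharP K p]

theorem mnpc4_irred {V : Type u} [AddCommGroup V] [Module (ZMod p) V] [Finite V] [Nontrivial V]
    (B : Module.End (ZMod p) V)
    (hirr : ∀ S : AddSubgroup V, (∀ v ∈ S, B v ∈ S) → S = ⊥ ∨ S = ⊤) :
    Irreducible (minpoly (ZMod p) B) := by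
  haveI : Module.Finite (ZMod p) V := Module.Finite.of_finite
  have hint : IsIntegral (ZMod p) B := Algebra.IsIntegral.isIntegral B
  set f := minpoly (ZMod p) B with hf
  have hf0 : f ≠ 0 := minpoly.ne_zero hint
  have hfu : ¬ IsUnit f := minpoly.not_isUnit (ZMod p) B
  obtain ⟨g, hg, hgf⟩ := WfDvdMonoid.exists_irreducible_factor hfu hf0
  obtain ⟨h, hh⟩ := hgf
  have hcomm : ∀ (r : (ZMod p)[X]) (v : V), B (aeval B r v) = aeval B r (B v) := by
    intro r v
    have h0 : aeval B (X * r) = aeval B (r * X) := by rw [mul_comm]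
    rw [map_mul, map_mul, aeval_X] at h0
    exact congrArg (fun e : Module.End (ZMod p) V => e v) h0
  let S : AddSubgroup V := (LinearMap.ker (aeval B g)).toAddSubgroup
  have hS : ∀ v ∈ S, B v ∈ S := by
    intro v hv
    have hv' : aeval B g v = 0 := hv
    show aeval B g (B v) = 0
    rw [← hcomm, hv', map_zero]
  rcases hirr S hS with hbot | htop
  · exfalso
    have hinj : ∀ v, aeval B g v = 0 → v = 0 := by
      intro v hv
      have : v ∈ S := hv
      rw [hbot] at this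
      exact this
    have hh0 : aeval B h = 0 := by
      ext v
      apply hinj
      have : aeval B g (aeval B h v) = aeval B f v := by
        rw [hh, map_mul]
        rfl
      rw [this, hf, minpoly.aeval]
      rfl
    have hdvd : f ∣ h := minpoly.dvd (ZMod p) B hh0
    obtain ⟨k, hk⟩ := hdvd
    have : f = f * (g * k) := by
      conv_lhs => rw [hh, hk]
      ring
    have h1 : g * k = 1 := by
      have h2 : f * 1 = f * (g * k) := by rw [mul_one]; exact this
      exact (mul_left_cancel₀ hf0 h2).symm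
    exact hg.not_isUnit (IsUnit.of_mul_eq_one k h1)
  · have hg0 : aeval B g = 0 := by
      ext v
      have : v ∈ S := by rw [htop]; trivial
      exact this
    have hdvd : f ∣ g := minpoly.dvd (ZMod p) B hg0
    have hass : Associated g f := associated_of_dvd_dvd ⟨h, hh⟩ hdvd
    exact hass.irreducible hg

theorem mnpc4_aux [Algebra (ZMod p) K]
    (hspan : ∀ ζ' : K, orderOf ζ' = q → AddSubgroup.closure (Set.range fun j : ℕ => ζ' ^ j) = ⊤)
    (ζ : K) (hζ : orderOf ζ = q) {V : Type u} [AddCommGroup V] [Finite V] [Module (ZMod p) V]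
    (A : V ≃+ V) (hAq : ∀ v, (⇑A)^[q] v = v) (hA1 : ∃ v, A v ≠ v)
    (hirr : ∀ S : AddSubgroup V, (∀ v ∈ S, A v ∈ S) → S = ⊥ ∨ S = ⊤) :
    ∃ j : ℕ, j.Coprime q ∧ ∃ θ : K ≃+ V, ∀ w, θ (ζ * w) = (⇑A)^[j] (θ w) := by
  classical
  have hp : p.Prime := Fact.out
  have hq : q.Prime := Fact.out
  haveI : Module.Finite (ZMod p) V := Module.Finite.of_finite
  obtain ⟨v₁, hv₁⟩ := hA1
  haveI : Nontrivial V := ⟨⟨A v₁, v₁, hv₁⟩⟩
  let B : Module.End (ZMod p) V := A.toAddMonoidHom.toZModLinearMap p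
  have hB : ∀ v, B v = A v := fun v => rfl
  have hBq : B ^ q = 1 := by
    ext v
    rw [Module.End.pow_apply]
    exact hAq v
  have hint : IsIntegral (ZMod p) B := Algebra.IsIntegral.isIntegral B
  set f := minpoly (ZMod p) B with hf
  have hfirr : Irreducible f := mnpc4_irred B (fun S hS => hirr S hS)
  have hfm : f.Monic := minpoly.monic hint
  have hfdvd : f ∣ X ^ q - 1 := by
    apply minpoly.dvd
    rw [map_sub, aeval_X_pow, map_one, hBq, sub_self]
  have hprim : IsPrimitiveRoot ζ q := IsPrimitiveRoot.iff_orderOf.mpr hζ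
  have hsplit : (X ^ q - C (1 : K)).Splits := X_pow_sub_one_splits hprim
  have hfK : f.map (algebraMap (ZMod p) K) ∣ X ^ q - C (1 : K) := by
    have := Polynomial.map_dvd (algebraMap (ZMod p) K) hfdvd
    simpa using this
  have hne0 : (X ^ q - C (1 : K)) ≠ 0 := X_pow_sub_C_ne_zero hq.pos 1
  have hsplitf : (f.map (algebraMap (ZMod p) K)).Splits := Splits.of_dvd hsplit hne0 hfK
  have hdeg : (f.map (algebraMap (ZMod p) K)).degree ≠ 0 := by
    rw [degree_map]
    exact (minpoly.degree_pos hint).ne'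
  obtain ⟨ζ', hζ'⟩ := hsplitf.exists_eval_eq_zero hdeg
  have hroot : aeval ζ' f = 0 := by
    rw [aeval_def, ← eval_map]
    exact hζ'
  have hζ'q : ζ' ^ q = 1 := by
    obtain ⟨k, hk⟩ := hfK
    have := congrArg (eval ζ') hk
    rw [eval_mul, hζ', zero_mul, eval_sub, eval_pow, eval_X, eval_C] at this
    exact sub_eq_zero.mp this
  have hζ'1 : ζ' ≠ 1 := by
    rintro rfl
    have h1 : eval 1 f = 0 := by
      have h2 : algebraMap (ZMod p) K (eval 1 f) = 0 := by
        rw [← coe_aeval_eq_eval, ← aeval_algebraMap_apply, map_one]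
        exact hroot
      exact (map_eq_zero (algebraMap (ZMod p) K)).mp h2
    have h3 : X - C (1 : ZMod p) ∣ f := dvd_iff_isRoot.mpr h1
    have h4 : f ∣ X - C (1 : ZMod p) :=
      (irreducible_of_degree_eq_one (degree_X_sub_C 1)).dvd_symm hfirr h3
    have h5 : aeval B (X - C (1 : ZMod p)) = 0 := by
      obtain ⟨k, hk⟩ := h4
      rw [hk, map_mul, hf, minpoly.aeval, zero_mul]
    rw [map_sub, aeval_X, aeval_C, map_one, sub_eq_zero] at h5
    apply hv₁
    rw [← hB, h5]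
    rfl
  have hordζ' : orderOf ζ' = q := orderOf_eq_prime hζ'q hζ'1
  have hminζ' : f = minpoly (ZMod p) ζ' := minpoly.eq_of_irreducible_of_monic hfirr hroot hfm
  have hsurj : Function.Surjective (aeval (R := ZMod p) ζ') := by
    intro w
    have hw : w ∈ AddSubgroup.closure (Set.range fun j : ℕ => ζ' ^ j) := by
      rw [hspan ζ' hordζ']
      trivial
    induction hw using AddSubgroup.closure_induction with
    | mem x hx =>
      obtain ⟨j, rfl⟩ := hx
      exact ⟨X ^ j, by rw [aeval_X_pow]⟩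
    | zero => exact ⟨0, map_zero _⟩
    | add x y _ _ hx hy =>
      obtain ⟨a, rfl⟩ := hx
      obtain ⟨b, rfl⟩ := hy
      exact ⟨a + b, map_add _ _ _⟩
    | neg x _ hx =>
      obtain ⟨a, rfl⟩ := hx
      exact ⟨-a, map_neg _ _⟩
  obtain ⟨v₀, hv₀⟩ : ∃ v₀ : V, v₀ ≠ 0 := exists_ne 0
  have hwd : ∀ g g' : (ZMod p)[X], aeval ζ' g = aeval ζ' g' → aeval B g v₀ = aeval B g' v₀ := by
    intro g g' hgg
    have h1 : aeval ζ' (g - g') = 0 := by rw [map_sub, hgg, sub_self]
    have h2 : f ∣ g - g' := by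
      rw [hminζ']
      exact minpoly.dvd (ZMod p) ζ' h1
    obtain ⟨k, hk⟩ := h2
    have h3 : aeval B (g - g') = 0 := by
      rw [hk, map_mul, hf, minpoly.aeval, zero_mul]
    rw [map_sub, sub_eq_zero] at h3
    rw [h3]
  let θ₀ : K → V := fun w => aeval B (Function.surjInv hsurj w) v₀
  have hθ₀ : ∀ g : (ZMod p)[X], θ₀ (aeval ζ' g) = aeval B g v₀ := by
    intro g
    exact hwd _ _ (Function.surjInv_eq hsurj _)
  have hθadd : ∀ w w', θ₀ (w + w') = θ₀ w + θ₀ w' := by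
    intro w w'
    obtain ⟨g, rfl⟩ := hsurj w
    obtain ⟨g', rfl⟩ := hsurj w'
    rw [← map_add, hθ₀, hθ₀, hθ₀, map_add]
    rfl
  have hθζ' : ∀ w, θ₀ (ζ' * w) = A (θ₀ w) := by
    intro w
    obtain ⟨g, rfl⟩ := hsurj w
    have : ζ' * aeval ζ' g = aeval ζ' (X * g) := by rw [map_mul, aeval_X]
    rw [this, hθ₀, hθ₀, map_mul, aeval_X, ← hB]
    rfl
  have hθinj : ∀ w, θ₀ w = 0 → w = 0 := by
    intro w hw
    by_contra hne
    obtain ⟨g, rfl⟩ := hsurj w
    obtain ⟨h, hh⟩ := hsurj (aeval ζ' g)⁻¹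
    have h1 : aeval ζ' (h * g) = aeval ζ' (1 : (ZMod p)[X]) := by
      rw [map_mul, hh, inv_mul_cancel₀ hne, map_one]
    have h2 := hwd _ _ h1
    rw [map_mul, map_one] at h2
    rw [hθ₀] at hw
    have h3 : (aeval B h * aeval B g) v₀ = aeval B h (aeval B g v₀) := rfl
    rw [h3, hw, map_zero] at h2
    exact hv₀ h2.symm
  let θ₁ : K →+ V := AddMonoidHom.mk' θ₀ hθadd
  have hθ₁inj : Function.Injective θ₁ := by
    rw [injective_iff_map_eq_zero]
    exact hθinj
  have hθ₁surj : Function.Surjective θ₁ := by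
    have hS : ∀ v ∈ θ₁.range, A v ∈ θ₁.range := by
      rintro _ ⟨w, rfl⟩
      exact ⟨ζ' * w, hθζ' w⟩
    rcases hirr θ₁.range hS with hbot | htop
    · exfalso
      have h1 : θ₁ 1 ∈ θ₁.range := ⟨1, rfl⟩
      rw [hbot, AddSubgroup.mem_bot] at h1
      exact one_ne_zero (hθinj 1 h1)
    · intro v
      have : v ∈ θ₁.range := by rw [htop]; trivial
      exact this
  have hprim' : IsPrimitiveRoot ζ' q := IsPrimitiveRoot.iff_orderOf.mpr hordζ'
  haveI : NeZero q := ⟨hq.ne_zero⟩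
  have hζq : ζ ^ q = 1 := by rw [← hζ]; exact pow_orderOf_eq_one ζ
  obtain ⟨j, _, hj⟩ := hprim'.eq_pow_of_pow_eq_one hζq
  have hjq : j.Coprime q := by
    rw [Nat.coprime_comm, Nat.Prime.coprime_iff_not_dvd hq]
    rintro ⟨k, rfl⟩
    rw [pow_mul, hζ'q, one_pow] at hj
    rw [← hj, orderOf_one] at hζ
    exact hq.ne_one hζ.symm
  have hpow : ∀ (n : ℕ) (w : K), θ₀ (ζ' ^ n * w) = (⇑A)^[n] (θ₀ w) := by
    intro n
    induction n with
    | zero => intro w; simp
    | succ n ih =>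
      intro w
      rw [pow_succ, mul_assoc, ih, hθζ', Function.iterate_succ_apply]
  refine ⟨j, hjq, AddEquiv.ofBijective θ₁ ⟨hθ₁inj, hθ₁surj⟩, ?_⟩
  intro w
  show θ₀ (ζ * w) = (⇑A)^[j] (θ₀ w)
  rw [← hj]
  exact hpow j w

theorem mnpc4_core
    (hspan : ∀ ζ' : K, orderOf ζ' = q → AddSubgroup.closure (Set.range fun j : ℕ => ζ' ^ j) = ⊤)
    (ζ : K) (hζ : orderOf ζ = q) {V : Type u} [AddCommGroup V] [Finite V] (hV : ∀ v : V, p • v = 0)
    (A : V ≃+ V) (hAq : ∀ v, (⇑A)^[q] v = v) (hA1 : ∃ v, A v ≠ v)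
    (hirr : ∀ S : AddSubgroup V, (∀ v ∈ S, A v ∈ S) → S = ⊥ ∨ S = ⊤) :
    ∃ j : ℕ, j.Coprime q ∧ ∃ θ : K ≃+ V, ∀ w, θ (ζ * w) = (⇑A)^[j] (θ w) :=
  @mnpc4_aux K _ _ p q _ _ _ (ZMod.algebra K p) hspan ζ hζ V _ _ (AddCommGroup.zmodModule hV) A hAq hA1 hirr

end C'

end Cfsg.Agent.Lib.Helper24.MNP
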