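import Mathlib
import Cfsg.Agent.Lib.Helper24.MNP.Defs
import Cfsg.Agent.Lib.Helper24.MNPC4core
import Cfsg.Agent.Lib.Helper26.MNPF2

set_option autoImplicit false

namespace Cfsg.Agent.Lib.Helper24.MNP

universe u

section C'

variable {K : Type u} [Field K] [Finite K] {p q : ℕ} [Fact p.Prime] [Fact q.Prime] [CharP K p]

theorem lin_model (hpq : p ≠ q) {a : ℕ} (hK : Nat.card K = p ^ a) (ha : a = orderOf (p : ZMod q))
    (ζ : K) (hζ : orderOf ζ = q) {V : Type u} [AddCommGroup V] [Finite V] (hV : ∀ v : V, p • v = 0)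
    (A : V ≃+ V) (hAq : ∀ v, (⇑A)^[q] v = v) (hA1 : ∃ v, A v ≠ v)
    (hirr : ∀ S : AddSubgroup V, (∀ v ∈ S, A v ∈ S) → S = ⊥ ∨ S = ⊤) :
    ∃ j : ℕ, j.Coprime q ∧ ∃ θ : K ≃+ V, ∀ w, θ (ζ * w) = (⇑A)^[j] (θ w) :=
  mnpc4_core (fun ζ' hζ' => span_zeta hpq hK ha ζ' hζ') ζ hζ hV A hAq hA1 hirr

end C'

end Cfsg.Agent.Lib.Helper24.MNP
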