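import Mathlib
import Cfsg.Agent.S0132
import Cfsg.Agent.Lib.Helper24.MNP.Defs
import Cfsg.Agent.Lib.Helper24.MNPM1
import Cfsg.Agent.Lib.Helper24.MNPX1
import Cfsg.Agent.Lib.Helper20.MNPX2
import Cfsg.Agent.Lib.Helper11.MNPM11

set_option autoImplicit false

namespace Cfsg.Agent.Lib.Helper24.MNP

open scoped commutatorElement
open Cfsg.Agent.Lib.Helper24.SCH (SchAct)
open SemidirectProduct

universe u

variable {T : Type u} [Group T] [Finite T] {p q r : ℕ} [Fact p.Prime] {α₀ : MulAut T}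

theorem mnpm12_gen_pow (hn : α₀ ^ (q ^ r) = 1) :
    (inr (Multiplicative.ofAdd (1 : ZMod (q ^ r))) : G0 (q ^ r) α₀ hn) ^ (q ^ r) = 1 := by
  rw [← map_pow, ← ofAdd_nsmul]
  have : (q ^ r) • (1 : ZMod (q ^ r)) = 0 := by
    rw [nsmul_eq_mul, mul_one]
    exact ZMod.natCast_self (q ^ r)
  rw [this, ofAdd_zero, map_one]

theorem exists_quot [Fact q.Prime] (hpq : p ≠ q) (hT : SchAct p q T α₀) (hU : Univ p q T α₀) (hr : 1 ≤ r)
    (hn : α₀ ^ (q ^ r) = 1) (X : Type u) [Group X] [Finite X]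
    (hX : ¬ Cfsg.HasNormalPComplement p X ∧ ∀ K : Subgroup X, K ≠ ⊤ → Cfsg.HasNormalPComplement p ↥K)
    (hcard : ∃ t : ℕ, Nat.card X = p ^ t * q ^ r) :
    ∃ φ : G0 (q ^ r) α₀ hn →* X, Function.Surjective φ ∧ φ.ker ≤ Subgroup.center (G0 (q ^ r) α₀ hn) := by
  obtain ⟨hprop, hnn, hsyl⟩ := Cfsg.Agent.S0132.result hX.1 hX.2
  have hmin : Cfsg.IsMinimalNonNilpotent X := ⟨hnn, hprop⟩
  let P : Sylow p X := default
  have hPn : (P : Subgroup X).Normal := hsyl P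
  have hP1 : (P : Subgroup X) ≠ ⊥ := by
    intro hbot
    apply hX.1
    refine ⟨P, ⊤, inferInstance, ?_⟩
    rw [hbot]
    exact Subgroup.isComplement'_top_bot
  obtain ⟨q', c, hq', hq'p, hc, hsup, hact⟩ := exists_schAct_c hmin P hPn hP1
  have hc1 : c ≠ 1 := by
    rintro rfl
    apply hact.ne_one
    rw [map_one]
  obtain ⟨t, ht⟩ := hcard
  obtain ⟨hqq, hord, hinf⟩ := order_c hpq ht P hPn q' hq' hq'p c hc1 hc hsup
  subst hqq
  obtain ⟨j, ψ, hj, hψs, hψe, hψk⟩ := hU ↥(P : Subgroup X) (@MulAut.conjNormal X _ (P : Subgroup X) hPn c) hact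
  have hjr : j.Coprime (orderOf c) := by
    rw [hord]
    exact Nat.Coprime.pow_right r hj
  have hcj : (c ^ j) ^ (q' ^ r) = 1 := by
    rw [← pow_mul, mul_comm, pow_mul, ← hord, pow_orderOf_eq_one, one_pow]
  have hconj : ∀ t : T, c ^ j * ((P : Subgroup X).subtype.comp ψ) t * (c ^ j)⁻¹ =
      ((P : Subgroup X).subtype.comp ψ) (α₀ t) := by
    intro t
    have h1 := hψe t
    rw [← map_pow] at h1
    have h2 := congrArg (fun y : ↥(P : Subgroup X) => (y : X)) h1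
    exact h2.symm
  obtain ⟨φ, hφl, hφr⟩ := exists_lift hn ((P : Subgroup X).subtype.comp ψ) (c ^ j) hcj hconj
  refine ⟨φ, ?_, ?_⟩
  · rw [← MonoidHom.range_eq_top, eq_top_iff, ← hsup, sup_le_iff]
    constructor
    · intro y hy
      obtain ⟨t, ht⟩ := hψs ⟨y, hy⟩
      refine ⟨inl t, ?_⟩
      rw [hφl]
      show ((ψ t : ↥(P : Subgroup X)) : X) = y
      rw [ht]
    · rw [Subgroup.zpowers_le]
      obtain ⟨k, hk⟩ := exists_pow_eq_self_of_coprime hjr
      refine ⟨(inr (Multiplicative.ofAdd (1 : ZMod (q' ^ r)))) ^ k, ?_⟩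
      rw [map_pow, hφr, hk]
  · intro g hg
    rw [MonoidHom.mem_ker] at hg
    obtain ⟨t, k, rfl⟩ := elt_form hT hn g
    rw [map_mul, map_pow, hφl, hφr] at hg
    have hmem : ((P : Subgroup X).subtype.comp ψ) t ∈ (P : Subgroup X) ⊓ Subgroup.zpowers c := by
      refine ⟨(ψ t).2, ?_⟩
      have : ((P : Subgroup X).subtype.comp ψ) t = ((c ^ j) ^ k)⁻¹ := eq_inv_of_mul_eq_one_left hg
      rw [this]
      exact Subgroup.inv_mem _ (Subgroup.pow_mem _ (Subgroup.pow_mem _ (Subgroup.mem_zpowers c) j) k)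
    rw [hinf, Subgroup.mem_bot] at hmem
    have hψt : ψ t = 1 := Subtype.ext hmem
    rw [hmem, one_mul] at hg
    have hordj : orderOf (c ^ j) = q' ^ r := by
      rw [← hord]
      exact Nat.Coprime.orderOf_pow hjr.symm
    have hdvd : q' ^ r ∣ k := by
      rw [← hordj]
      exact orderOf_dvd_of_pow_eq_one hg
    obtain ⟨k', rfl⟩ := hdvd
    rw [pow_mul, mnpm12_gen_pow hn, one_pow, mul_one]
    exact central_inl hT hn t (hψk t hψt)

end Cfsg.Agent.Lib.Helper24.MNP
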