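import Mathlib
import Cfsg.Agent.Lib.Helper24.MNP.Defs

set_option autoImplicit false

namespace Cfsg.Agent.Lib.Helper24.MNP

open scoped commutatorElement
open Cfsg.Agent.Lib.Helper24.SCH (SchAct)

universe u

section F

variable {K : Type u} [Field K] [Finite K] {p q : ℕ} [Fact p.Prime] [Fact q.Prime] [CharP K p]

theorem frob_half_invol {m : ℕ} (hK : Nat.card K = p ^ (2 * m)) (x : K) :
    (x ^ (p ^ m)) ^ (p ^ m) = x := by
  haveI := Fintype.ofFinite K
  rw [← pow_mul, ← pow_add, ← two_mul, ← hK, Nat.card_eq_fintype_card]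
  exact FiniteField.pow_card x

end F

section T

variable {K : Type u} [Field K] [Finite K] {p q : ℕ} [Fact p.Prime] [Fact q.Prime] [CharP K p]

variable {σ : InvHom K}

theorem fix_UT (ζ : K) (hζ1 : ζ ≠ 1) (hζσ : σ.s ζ * ζ = 1) (t : UT K σ) :
    alphaU σ ζ hζσ t = t ↔ t.x = 0 := by
  constructor
  · intro h
    have h1 : ζ * t.x = t.x := by
      have := congrArg UT.x h
      rwa [alphaU_x] at this
    have h2 : (ζ - 1) * t.x = 0 := by rw [sub_mul, one_mul, h1, sub_self]
    rcases mul_eq_zero.mp h2 with h3 | h3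
    · exact absurd (sub_eq_zero.mp h3) hζ1
    · exact h3
  · intro h
    ext
    · rw [alphaU_x, h, mul_zero]
    · rw [alphaU_z]

end T

end Cfsg.Agent.Lib.Helper24.MNP
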