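import Mathlib
import Cfsg.Agent.Lib.Helper24.MNP.Defs
import Cfsg.Agent.Lib.Helper9.SCHA5core

set_option autoImplicit false

namespace Cfsg.Agent.Lib.Helper24.MNP

open scoped commutatorElement
open Cfsg.Agent.Lib.Helper24.SCH (SchAct scha5_norm scha5_norm_shift scha5_norm_fixed)

universe u

section U

variable {p q : ℕ} [Fact p.Prime]

theorem fixed_mem_commutator {W : Type u} [Group W] [Finite W] (hW : IsPGroup p W) (hq : q.Prime) (hqp : q ≠ p)
    (γ : MulAut W) (hγ : γ ^ q = 1) (w : W)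
    (hw : w ∈ Subgroup.closure {t : W | ∃ s : W, t = γ s * s⁻¹}) (hfix : γ w = w) :
    w ∈ commutator W := by
  have hp : p.Prime := Fact.out
  have hker : Subgroup.closure {t : W | ∃ s : W, t = γ s * s⁻¹} ≤ (scha5_norm q γ).ker := by
    rw [Subgroup.closure_le]
    rintro _ ⟨s, rfl⟩
    rw [SetLike.mem_coe, MonoidHom.mem_ker, map_mul, map_inv, scha5_norm_shift q γ hγ s, mul_inv_cancel]
  have h1 : scha5_norm q γ w = 1 := MonoidHom.mem_ker.mp (hker hw)
  rw [scha5_norm_fixed q γ w hfix, map_pow] at h1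
  obtain ⟨k, hk⟩ := hW w
  have h2 : (Abelianization.of w) ^ (p ^ k) = 1 := by
    rw [← map_pow, hk, map_one]
  have hcop : Nat.Coprime q (p ^ k) := Nat.Coprime.pow_right k ((Nat.coprime_primes hq hp).mpr hqp)
  have h3 : Abelianization.of w = 1 := by
    have hd1 := orderOf_dvd_of_pow_eq_one h1
    have hd2 := orderOf_dvd_of_pow_eq_one h2
    have := Nat.eq_one_of_dvd_coprimes hcop hd1 hd2
    exact orderOf_eq_one_iff.mp this
  have h4 : w ∈ (Abelianization.of : W →* Abelianization W).ker := MonoidHom.mem_ker.mpr h3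
  rwa [Abelianization.ker_of] at h4

end U

end Cfsg.Agent.Lib.Helper24.MNP
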