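import Mathlib
import Cfsg.Agent.Lib.Helper24.MNP.Defs
import Cfsg.Agent.Lib.Helper9.SCHA1

set_option autoImplicit false

namespace Cfsg.Agent.Lib.Helper24.MNP

open scoped commutatorElement
open Cfsg.Agent.Lib.Helper24.SCH (SchAct)

universe u

section U

variable {p q : ℕ} [Fact p.Prime]
variable {T P M : Type u} [Group T] [Group P] [Group M]

def mnpu2_W (πT : T →* M) (πP : P →* M) : Subgroup (T × P) :=
  MonoidHom.eqLocus (πT.comp (MonoidHom.fst T P)) (πP.comp (MonoidHom.snd T P))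

theorem mnpu2_mem_W (πT : T →* M) (πP : P →* M) (w : T × P) :
    w ∈ mnpu2_W πT πP ↔ πT w.1 = πP w.2 := Iff.rfl

def mnpu2_gam {α₀ : MulAut T} {α : MulAut P} (πT : T →* M) (πP : P →* M) (μ : MulAut M)
    (heT : ∀ t, πT (α₀ t) = μ (πT t)) (heP : ∀ y, πP (α y) = μ (πP y)) :
    MulAut ↥(mnpu2_W πT πP) where
  toFun w := ⟨(α₀ w.1.1, α w.1.2), by
    rw [mnpu2_mem_W]
    show πT (α₀ w.1.1) = πP (α w.1.2)
    rw [heT, heP, (mnpu2_mem_W πT πP w.1).mp w.2]⟩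
  invFun w := ⟨(α₀.symm w.1.1, α.symm w.1.2), by
    rw [mnpu2_mem_W]
    show πT (α₀.symm w.1.1) = πP (α.symm w.1.2)
    apply μ.injective
    rw [← heT, ← heP, MulEquiv.apply_symm_apply, MulEquiv.apply_symm_apply]
    exact (mnpu2_mem_W πT πP w.1).mp w.2⟩
  left_inv w := by
    apply Subtype.ext
    apply Prod.ext
    · exact α₀.symm_apply_apply _
    · exact α.symm_apply_apply _
  right_inv w := by
    apply Subtype.ext
    apply Prod.ext
    · exact α₀.apply_symm_apply _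
    · exact α.apply_symm_apply _
  map_mul' a b := by
    apply Subtype.ext
    apply Prod.ext
    · exact map_mul α₀ _ _
    · exact map_mul α _ _

theorem mnpu2_gam_fst {α₀ : MulAut T} {α : MulAut P} (πT : T →* M) (πP : P →* M) (μ : MulAut M)
    (heT : ∀ t, πT (α₀ t) = μ (πT t)) (heP : ∀ y, πP (α y) = μ (πP y)) (w : ↥(mnpu2_W πT πP)) :
    (mnpu2_gam πT πP μ heT heP w).1.1 = α₀ w.1.1 := rfl

theorem mnpu2_gam_snd {α₀ : MulAut T} {α : MulAut P} (πT : T →* M) (πP : P →* M) (μ : MulAut M)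
    (heT : ∀ t, πT (α₀ t) = μ (πT t)) (heP : ∀ y, πP (α y) = μ (πP y)) (w : ↥(mnpu2_W πT πP)) :
    (mnpu2_gam πT πP μ heT heP w).1.2 = α w.1.2 := rfl

theorem mnpu2_gam_pow {α₀ : MulAut T} {α : MulAut P} (πT : T →* M) (πP : P →* M) (μ : MulAut M)
    (heT : ∀ t, πT (α₀ t) = μ (πT t)) (heP : ∀ y, πP (α y) = μ (πP y)) (n : ℕ)
    (w : ↥(mnpu2_W πT πP)) :
    ((mnpu2_gam πT πP μ heT heP ^ n) w).1.1 = (α₀ ^ n) w.1.1 ∧
      ((mnpu2_gam πT πP μ heT heP ^ n) w).1.2 = (α ^ n) w.1.2 := by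
  induction n generalizing w with
  | zero => simp
  | succ n ih =>
    rw [pow_succ, pow_succ, pow_succ, MulAut.mul_apply, MulAut.mul_apply, MulAut.mul_apply]
    obtain ⟨h1, h2⟩ := ih (mnpu2_gam πT πP μ heT heP w)
    exact ⟨h1, h2⟩

theorem mnpu2_core [Finite T] [Finite P]
    {α₀ : MulAut T} {α : MulAut P} (hT : SchAct p q T α₀) (hP : SchAct p q P α)
    (hU1 : ∀ {W : Type u} [Group W] [Finite W], IsPGroup p W → q.Prime → q ≠ p →
      ∀ (γ : MulAut W), γ ^ q = 1 → ∀ w : W,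
      w ∈ Subgroup.closure {t : W | ∃ s : W, t = γ s * s⁻¹} → γ w = w → w ∈ commutator W)
    (πT : T →* M) (πP : P →* M) (μ : MulAut M)
    (hπT : Function.Surjective πT) (hπP : Function.Surjective πP)
    (hkT : ∀ t, πT t = 1 ↔ α₀ t = t) (hkP : ∀ y, πP y = 1 ↔ α y = y)
    (heT : ∀ t, πT (α₀ t) = μ (πT t)) (heP : ∀ y, πP (α y) = μ (πP y))
    (Γ : Subgroup (T × P)) (hΓ1 : ∀ y : P, ((1 : T), y) ∈ Γ → y = 1)
    (hΓ2 : ∀ (t t' : T) (y y' : P), πT t = πP y → πT t' = πP y' → ((⁅t, t'⁆, ⁅y, y'⁆) : T × P) ∈ Γ) :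
    ∃ ψ : T →* P, Function.Surjective ψ ∧ (∀ t, ψ (α₀ t) = α (ψ t)) ∧ ∀ t, ψ t = 1 → α₀ t = t := by
  classical
  set W := mnpu2_W πT πP with hWdef
  set γ := mnpu2_gam πT πP μ heT heP with hγdef
  have hpW : IsPGroup p ↥W := by
    have h1 : IsPGroup p (T × P) := by
      obtain ⟨a, ha⟩ := IsPGroup.iff_card.mp hT.pgroup
      obtain ⟨b, hb⟩ := IsPGroup.iff_card.mp hP.pgroup
      apply IsPGroup.of_card (n := a + b)
      rw [Nat.card_prod, ha, hb, pow_add]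
    exact h1.to_subgroup W
  have hγq : γ ^ q = 1 := by
    ext w
    · rw [(mnpu2_gam_pow πT πP μ heT heP q w).1, hT.powq]
      rfl
    · rw [(mnpu2_gam_pow πT πP μ heT heP q w).2, hP.powq]
      rfl
  set U₀ : Subgroup ↥W := Subgroup.closure {t : ↥W | ∃ s : ↥W, t = γ s * s⁻¹} with hU₀
  have hcomm : ∀ w ∈ commutator ↥W, (w : T × P) ∈ Γ := by
    intro w hw
    rw [commutator_eq_closure] at hw
    have hle : Subgroup.closure (commutatorSet ↥W) ≤ Γ.comap W.subtype := by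
      rw [Subgroup.closure_le]
      rintro _ ⟨a, b, rfl⟩
      show ((⁅a, b⁆ : ↥W) : T × P) ∈ Γ
      have : ((⁅a, b⁆ : ↥W) : T × P) = (⁅a.1.1, b.1.1⁆, ⁅a.1.2, b.1.2⁆) := by
        simp only [commutatorElement_def]
        rfl
      rw [this]
      exact hΓ2 _ _ _ _ ((mnpu2_mem_W πT πP a.1).mp a.2) ((mnpu2_mem_W πT πP b.1).mp b.2)
    exact hle hw
  let f₁ : ↥W →* T := (MonoidHom.fst T P).comp W.subtype
  let f₂ : ↥W →* P := (MonoidHom.snd T P).comp W.subtype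
  have hsurj₁ : U₀.map f₁ = ⊤ := by
    rw [eq_top_iff, ← Cfsg.Agent.Lib.Helper24.SCH.act_gen hT, Subgroup.closure_le]
    rintro _ ⟨s, rfl⟩
    obtain ⟨y, hy⟩ := hπP (πT s)
    have hw : (s, y) ∈ W := by
      rw [hWdef, mnpu2_mem_W]
      exact hy.symm
    refine ⟨γ ⟨(s, y), hw⟩ * (⟨(s, y), hw⟩ : ↥W)⁻¹, Subgroup.subset_closure ⟨⟨(s, y), hw⟩, rfl⟩, ?_⟩
    rfl
  have hsurj₂ : U₀.map f₂ = ⊤ := by
    rw [eq_top_iff, ← Cfsg.Agent.Lib.Helper24.SCH.act_gen hP, Subgroup.closure_le]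
    rintro _ ⟨s, rfl⟩
    obtain ⟨t, ht⟩ := hπT (πP s)
    have hw : (t, s) ∈ W := by
      rw [hWdef, mnpu2_mem_W]
      exact ht
    refine ⟨γ ⟨(t, s), hw⟩ * (⟨(t, s), hw⟩ : ↥W)⁻¹, Subgroup.subset_closure ⟨⟨(t, s), hw⟩, rfl⟩, ?_⟩
    rfl
  have hinj : ∀ w ∈ U₀, f₁ w = 1 → w = 1 := by
    intro w hw h1
    have hw1 : w.1.1 = 1 := h1
    have hπ : πP w.1.2 = 1 := by
      rw [← (mnpu2_mem_W πT πP w.1).mp w.2, hw1, map_one]
    have hfix : γ w = w := by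
      apply Subtype.ext
      apply Prod.ext
      · show α₀ w.1.1 = w.1.1
        rw [hw1, map_one]
      · exact (hkP _).mp hπ
    have hc := hU1 hpW hT.qprime hT.qne γ hγq w hw hfix
    have hΓ := hcomm w hc
    have hy : w.1.2 = 1 := by
      apply hΓ1
      have : (w : T × P) = (1, w.1.2) := Prod.ext hw1 rfl
      rw [← this]
      exact hΓ
    apply Subtype.ext
    exact Prod.ext hw1 hy
  have hinvU : ∀ w ∈ U₀, γ w ∈ U₀ := by
    intro w hw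
    have hle : U₀ ≤ U₀.comap γ.toMonoidHom := by
      rw [hU₀, Subgroup.closure_le]
      rintro _ ⟨s, rfl⟩
      rw [SetLike.mem_coe, Subgroup.mem_comap]
      show γ (γ s * s⁻¹) ∈ U₀
      rw [map_mul, map_inv]
      exact Subgroup.subset_closure ⟨γ s, rfl⟩
    exact hle hw
  let g₁ : ↥U₀ →* T := f₁.comp U₀.subtype
  have hg₁bij : Function.Bijective g₁ := by
    constructor
    · rw [injective_iff_map_eq_one]
      intro u hu
      exact Subtype.ext (hinj u.1 u.2 hu)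
    · intro t
      have : t ∈ U₀.map f₁ := by rw [hsurj₁]; trivial
      obtain ⟨w, hw, rfl⟩ := this
      exact ⟨⟨w, hw⟩, rfl⟩
  let e : ↥U₀ ≃* T := MulEquiv.ofBijective g₁ hg₁bij
  have he : ∀ u : ↥U₀, e u = u.1.1.1 := fun u => rfl
  refine ⟨(f₂.comp U₀.subtype).comp e.symm.toMonoidHom, ?_, ?_, ?_⟩
  · intro y
    have : y ∈ U₀.map f₂ := by rw [hsurj₂]; trivial
    obtain ⟨w, hw, rfl⟩ := this
    refine ⟨e ⟨w, hw⟩, ?_⟩
    show f₂ ((e.symm (e ⟨w, hw⟩) : ↥U₀) : ↥W) = f₂ w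
    rw [MulEquiv.symm_apply_apply]
  · intro t
    show f₂ ((e.symm (α₀ t) : ↥U₀) : ↥W) = α (f₂ ((e.symm t : ↥U₀) : ↥W))
    have h1 : e.symm (α₀ t) = ⟨γ (e.symm t).1, hinvU _ (e.symm t).2⟩ := by
      rw [MulEquiv.symm_apply_eq, he]
      show α₀ t = α₀ (e.symm t).1.1.1
      rw [← he, MulEquiv.apply_symm_apply]
    rw [h1]
    rfl
  · intro t ht
    have ht' : ((e.symm t : ↥U₀) : ↥W).1.2 = 1 := ht
    have h1 : ((e.symm t : ↥U₀) : ↥W).1.1 = t := by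
      rw [← he, MulEquiv.apply_symm_apply]
    have hm := (mnpu2_mem_W πT πP ((e.symm t : ↥U₀) : ↥W).1).mp ((e.symm t : ↥U₀) : ↥W).2
    rw [h1, ht', map_one] at hm
    exact (hkT t).mp hm

end U

end Cfsg.Agent.Lib.Helper24.MNP
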