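import Mathlib
import Cfsg.Agent.Lib.Helper24.MNP.Defs
import Cfsg.Agent.Lib.Helper24.MNPU1
import Cfsg.Agent.Lib.Helper24.MNPU2core

set_option autoImplicit false

namespace Cfsg.Agent.Lib.Helper24.MNP

open scoped commutatorElement
open Cfsg.Agent.Lib.Helper24.SCH (SchAct)

universe u

section U

variable {p q : ℕ} [Fact p.Prime]

theorem fiber_lift {T P M : Type u} [Group T] [Finite T] [Group P] [Finite P] [Group M]
    {α₀ : MulAut T} {α : MulAut P} (hT : SchAct p q T α₀) (hP : SchAct p q P α)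
    (πT : T →* M) (πP : P →* M) (μ : MulAut M)
    (hπT : Function.Surjective πT) (hπP : Function.Surjective πP)
    (hkT : ∀ t, πT t = 1 ↔ α₀ t = t) (hkP : ∀ y, πP y = 1 ↔ α y = y)
    (heT : ∀ t, πT (α₀ t) = μ (πT t)) (heP : ∀ y, πP (α y) = μ (πP y))
    (Γ : Subgroup (T × P)) (hΓ1 : ∀ y : P, ((1 : T), y) ∈ Γ → y = 1)
    (hΓ2 : ∀ (t t' : T) (y y' : P), πT t = πP y → πT t' = πP y' → ((⁅t, t'⁆, ⁅y, y'⁆) : T × P) ∈ Γ) :
    ∃ ψ : T →* P, Function.Surjective ψ ∧ (∀ t, ψ (α₀ t) = α (ψ t)) ∧ ∀ t, ψ t = 1 → α₀ t = t :=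
  mnpu2_core hT hP (fun hW hq hqp γ hγ w hw hfix => fixed_mem_commutator hW hq hqp γ hγ w hw hfix)
    πT πP μ hπT hπP hkT hkP heT heP Γ hΓ1 hΓ2

end U

end Cfsg.Agent.Lib.Helper24.MNP
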