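import Mathlib
import Cfsg.Agent.Lib.Helper24.MNP.Defs
import Cfsg.Agent.Lib.Helper24.MNPU2
import Cfsg.Agent.Lib.Helper24.MNPT4
import Cfsg.Agent.Lib.helper23.MNPC1
import Cfsg.Agent.Lib.helper23.MNPC5
import Cfsg.Agent.Lib.Helper22.MNPB1
import Cfsg.Agent.Lib.Helper22.MNPB2core
import Cfsg.Agent.Lib.Helper11.MNPB3core
import Cfsg.Agent.Lib.Helper9.MNPF10
import Cfsg.Agent.Lib.Helper1.MNPF7
import Cfsg.Agent.Lib.Helper1.MNPF8
import Cfsg.Agent.Lib.helper17.MNPF3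
import Cfsg.Agent.Lib.helper17.MNPT1
import Cfsg.Agent.Lib.Helper26.MNPT3core
import Cfsg.Agent.Lib.helper15.MNPT5core

set_option autoImplicit false

namespace Cfsg.Agent.Lib.Helper24.MNP

open scoped commutatorElement
open scoped IsMulCommutative
open Cfsg.Agent.Lib.Helper24.SCH (SchAct)

universe u

section U

variable {p q : ℕ} [Fact p.Prime]
variable {K : Type u} [Field K] [Finite K] [Fact q.Prime] [CharP K p]

omit [Finite K] [Fact p.Prime] [CharP K p] in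
theorem mnpu3_zeta_ne (ζ : K) (hζ : orderOf ζ = q) : ζ ≠ 0 ∧ ζ ≠ 1 := by
  have hq : q.Prime := Fact.out
  constructor
  · rintro rfl
    rw [orderOf_zero] at hζ
    exact hq.ne_zero hζ.symm
  · rintro rfl
    rw [orderOf_one] at hζ
    exact hq.ne_one hζ.symm

theorem mnpu3_abelian_of_odd {P : Type u} [Group P] [Finite P] {α : MulAut P}
    (hpq : p ≠ q) {a : ℕ} (hK : Nat.card K = p ^ a) (ha : a = orderOf (p : ZMod q))
    (hodd : a % 2 = 1) (ζ : K) (hζ : orderOf ζ = q) (hζ0 : ζ ≠ 0) (h : SchAct p q P α)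
    (π : P →* Multiplicative K) (hπs : Function.Surjective π) (hπk : ∀ x, π x = 1 ↔ α x = x)
    (hπe : ∀ x, π (α x) = alphaK ζ hζ0 (π x)) : ∀ x y : P, ⁅x, y⁆ = 1 :=
  mnpb2_core ζ hζ0 h π hπs hπk hπe
    (fun β h1 h2 h3 h4 => form_zero_odd hpq hK ha hodd ζ hζ β h1 h2 h3 h4)

theorem mnpu3_exists_gamma {P : Type u} [Group P] [Finite P] {α : MulAut P}
    (hpq : p ≠ q) {m : ℕ} (hm : 1 ≤ m) (hK : Nat.card K = p ^ (2 * m))
    (ha : 2 * m = orderOf (p : ZMod q)) (ζ : K) (hζ : orderOf ζ = q) (hζ0 : ζ ≠ 0) (σ : InvHom K)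
    (hσ : ∀ x, σ.s x = x ^ (p ^ m)) (h : SchAct p q P α)
    (π : P →* Multiplicative K) (hπs : Function.Surjective π) (hπk : ∀ x, π x = 1 ↔ α x = x)
    (hπe : ∀ x, π (α x) = alphaK ζ hζ0 (π x)) :
    ∃ Γ : Subgroup (UT K σ × P), (∀ y : P, ((1 : UT K σ), y) ∈ Γ → y = 1) ∧
      ∀ (t t' : UT K σ) (y y' : P), piU t = π y → piU t' = π y' →
        ((⁅t, t'⁆, ⁅y, y'⁆) : UT K σ × P) ∈ Γ := by
  obtain ⟨β, hβ, h1, h2, h3, h4⟩ := comm_form ζ hζ0 h π hπs hπk hπe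
  obtain ⟨L, hL1, hL2⟩ := univ_form_even hpq hm hK ha ζ hζ σ hσ β h1 h2 h3 h4
  exact mnpb3_core σ π β hβ L hL1 hL2

theorem mnpu3_card_UT {σ : InvHom K} {m : ℕ} (hm : 1 ≤ m) (hK : Nat.card K = p ^ (2 * m))
    (hσ : ∀ x, σ.s x = x ^ (p ^ m)) : Nat.card (UT K σ) = p ^ (3 * m) :=
  mnpt3_core hK (half_structure hm hK σ hσ)

theorem mnpu3_schAct_UT {σ : InvHom K} (hpq : p ≠ q) {m : ℕ} (hm : 1 ≤ m)
    (hK : Nat.card K = p ^ (2 * m))
    (ha : 2 * m = orderOf (p : ZMod q)) (ζ : K) (hζ : orderOf ζ = q)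
    (hσ : ∀ x, σ.s x = x ^ (p ^ m)) (hζσ : σ.s ζ * ζ = 1) :
    SchAct p q (UT K σ) (alphaU σ ζ hζσ) :=
  mnpt5_core hpq ζ hζ hζσ (mnpu3_card_UT hm hK hσ)
    (fun S hS => inv_addSubgroup hpq hK ha ζ hζ S hS)
    (half_structure hm hK σ hσ).2.1 (half_structure hm hK σ hσ).2.2

theorem univ_odd (hpq : p ≠ q) {a : ℕ} (hK : Nat.card K = p ^ a) (ha : a = orderOf (p : ZMod q))
    (hodd : a % 2 = 1) (ζ : K) (hζ : orderOf ζ = q) (hζ0 : ζ ≠ 0) :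
    Univ p q (Multiplicative K) (alphaK ζ hζ0) := by
  obtain ⟨-, hζ1⟩ := mnpu3_zeta_ne ζ hζ
  intro P _ _ α hP
  obtain ⟨j, π, hj, hπs, hπk, hπe⟩ := exists_piP hpq hK ha ζ hζ hζ0 hP
  obtain ⟨hPj, hfix⟩ := schAct_pow hP j hj
  have hπk' : ∀ x, π x = 1 ↔ (α ^ j) x = x := fun x => (hπk x).trans (hfix x).symm
  have hab := mnpu3_abelian_of_odd hpq hK ha hodd ζ hζ hζ0 hPj π hπs hπk' hπe
  have hT := schAct_K (K := K) hpq hK ha ζ hζ hζ0
  have hkT : ∀ t : Multiplicative K, (MonoidHom.id (Multiplicative K)) t = 1 ↔ alphaK ζ hζ0 t = t := by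
    intro t
    rw [alphaK_apply, MonoidHom.id_apply]
    constructor
    · rintro rfl
      simp
    · intro h
      have h' : ζ * Multiplicative.toAdd t = Multiplicative.toAdd t := congrArg Multiplicative.toAdd h
      have h2 : (ζ - 1) * Multiplicative.toAdd t = 0 := by rw [sub_mul, one_mul, h', sub_self]
      rcases mul_eq_zero.mp h2 with h3 | h3
      · exact absurd (sub_eq_zero.mp h3) hζ1
      · exact congrArg Multiplicative.ofAdd h3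
  obtain ⟨ψ, hψs, hψe, hψk⟩ := fiber_lift hT hPj (MonoidHom.id _) π (alphaK ζ hζ0) (fun x => ⟨x, rfl⟩) hπs hkT hπk'
    (fun t => rfl) hπe ⊥ (by
      intro y hy
      rw [Subgroup.mem_bot] at hy
      exact (Prod.ext_iff.mp hy).2) (by
      intro t t' y y' _ _
      rw [Subgroup.mem_bot, hab y y']
      have : ⁅t, t'⁆ = 1 := by
        rw [commutatorElement_eq_one_iff_commute]
        exact mul_comm t t'
      rw [this]
      rfl)
  exact ⟨j, ψ, hj, hψs, hψe, hψk⟩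

theorem univ_even (hpq : p ≠ q) {m : ℕ} (hm : 1 ≤ m) (hK : Nat.card K = p ^ (2 * m))
    (ha : 2 * m = orderOf (p : ZMod q)) (ζ : K) (hζ : orderOf ζ = q) (σ : InvHom K)
    (hσ : ∀ x, σ.s x = x ^ (p ^ m)) (hζσ : σ.s ζ * ζ = 1) :
    Univ p q (UT K σ) (alphaU σ ζ hζσ) := by
  obtain ⟨hζ0, hζ1⟩ := mnpu3_zeta_ne ζ hζ
  intro P _ _ α hP
  obtain ⟨j, π, hj, hπs, hπk, hπe⟩ := exists_piP hpq hK ha ζ hζ hζ0 hP
  obtain ⟨hPj, hfix⟩ := schAct_pow hP j hj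
  have hπk' : ∀ x, π x = 1 ↔ (α ^ j) x = x := fun x => (hπk x).trans (hfix x).symm
  obtain ⟨Γ, hΓ1, hΓ2⟩ := mnpu3_exists_gamma hpq hm hK ha ζ hζ hζ0 σ hσ hPj π hπs hπk' hπe
  have hT := mnpu3_schAct_UT (K := K) hpq hm hK ha ζ hζ hσ hζσ
  have hπT : Function.Surjective (piU : UT K σ →* Multiplicative K) := by
    intro w
    have hfixed : σ.s (Multiplicative.toAdd w * σ.s (Multiplicative.toAdd w)) =
        Multiplicative.toAdd w * σ.s (Multiplicative.toAdd w) := by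
      rw [map_mul, σ.inv, mul_comm]
    obtain ⟨z, hz⟩ := (half_structure hm hK σ hσ).2.1 _ hfixed
    exact ⟨⟨Multiplicative.toAdd w, z, hz.symm⟩, rfl⟩
  have hkT : ∀ t : UT K σ, piU t = 1 ↔ alphaU σ ζ hζσ t = t := by
    intro t
    rw [fix_UT ζ hζ1 hζσ t]
    rfl
  have heT : ∀ t : UT K σ, piU (alphaU σ ζ hζσ t) = alphaK ζ hζ0 (piU t) := fun t => rfl
  obtain ⟨ψ, hψs, hψe, hψk⟩ := fiber_lift hT hPj piU π (alphaK ζ hζ0) hπT hπs hkT hπk' heT hπe Γ hΓ1 hΓ2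
  exact ⟨j, ψ, hj, hψs, hψe, hψk⟩

end U

end Cfsg.Agent.Lib.Helper24.MNP
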