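import Mathlib
import Cfsg.Statements.S4395
import Cfsg.Agent.Lib.Helper24.MNP.Defs
import Cfsg.Agent.Lib.Helper24.MNPM1
import Cfsg.Agent.Lib.Helper24.MNPM12
import Cfsg.Agent.Lib.Helper24.MNPU3
import Cfsg.Agent.Lib.Helper24.MNPT4
import Cfsg.Agent.Lib.Helper22.MNPM6
import Cfsg.Agent.Lib.Helper12.MNPM10
import Cfsg.Agent.Lib.Helper26.MNPF1
import Cfsg.Agent.Lib.Helper9.MNPF4
import Cfsg.Agent.Lib.helper17.MNPT1

set_option autoImplicit false

namespace Cfsg.Agent.Lib.Helper24.MNP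

open Cfsg.Agent.Lib.Helper24.SCH (SchAct)
open SemidirectProduct

universe u

section M

variable {T : Type u} [Group T] [Finite T] {p q r : ℕ} [Fact p.Prime] {α₀ : MulAut T}

theorem model_main [Fact q.Prime] (hpq : p ≠ q) (hT : SchAct p q T α₀) (hU : Univ p q T α₀) (hr : 1 ≤ r)
    (e : ℕ) (hcard : Nat.card T = p ^ e) :
    ∃ (G₀ : Type u) (_ : Group G₀) (_ : Finite G₀),
      (¬ Cfsg.HasNormalPComplement p G₀ ∧ ∀ K : Subgroup G₀, K ≠ ⊤ → Cfsg.HasNormalPComplement p ↥K) ∧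
      Nat.card G₀ = p ^ e * q ^ r ∧
      ∀ (X : Type u) [Group X] [Finite X],
        (¬ Cfsg.HasNormalPComplement p X ∧ ∀ K : Subgroup X, K ≠ ⊤ → Cfsg.HasNormalPComplement p ↥K) →
        (∃ t : ℕ, Nat.card X = p ^ t * q ^ r) →
        ∃ φ : G₀ →* X, Function.Surjective φ ∧ φ.ker ≤ Subgroup.center G₀ := by
  have hn := pow_qr hT hr
  haveI : NeZero (q ^ r) := ⟨pow_ne_zero _ hT.qprime.ne_zero⟩
  refine ⟨G0 (q ^ r) α₀ hn, inferInstance, inferInstance,
    ⟨not_npc hT hr hn, fun K hK => proper_npc hT hr hn K hK⟩, ?_, ?_⟩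
  · rw [card_G0 hT hn, hcard]
  · intro X _ _ hX hc
    exact exists_quot hpq hT hU hr hn X hX hc

end M

theorem main (p q r : ℕ) [Fact p.Prime] [Fact q.Prime] (hpq : p ≠ q) (hr : 1 ≤ r) (a a₀ : ℕ)
    (ha : a = orderOf (p : ZMod q)) (ha₀ : a₀ = if a % 2 = 1 then a else 3 * a / 2) :
    ∃ (G₀ : Type u) (_ : Group G₀) (_ : Finite G₀),
      (¬ Cfsg.HasNormalPComplement p G₀ ∧ ∀ K : Subgroup G₀, K ≠ ⊤ → Cfsg.HasNormalPComplement p ↥K) ∧ Nat.card G₀ = p ^ a₀ * q ^ r ∧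
      ∀ (X : Type u) [Group X] [Finite X], (¬ Cfsg.HasNormalPComplement p X ∧ ∀ K : Subgroup X, K ≠ ⊤ → Cfsg.HasNormalPComplement p ↥K) →
        (∃ t : ℕ, Nat.card X = p ^ t * q ^ r) → ∃ φ : G₀ →* X, Function.Surjective φ ∧ φ.ker ≤ Subgroup.center G₀ := by
  have hp : p.Prime := Fact.out
  have hq : q.Prime := Fact.out
  have hapos : 0 < a := by
    rw [ha, orderOf_pos_iff, isOfFinOrder_iff_pow_eq_one]
    refine ⟨q - 1, Nat.sub_pos_of_lt hq.one_lt, ?_⟩
    apply ZMod.pow_card_sub_one_eq_one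
    intro h0
    rw [ZMod.natCast_eq_zero_iff] at h0
    exact hpq ((Nat.prime_dvd_prime_iff_eq hq hp).mp h0).symm
  by_cases hodd : a % 2 = 1
  · rw [if_pos hodd] at ha₀
    rw [ha₀]
    let K : Type u := ULift.{u} (GaloisField p a)
    have hK : Nat.card K = p ^ a := by
      rw [Nat.card_ulift]
      exact GaloisField.card p a hapos.ne'
    obtain ⟨ζ, hζ⟩ := exists_zeta (K := K) hpq hK ha
    have hζ0 : ζ ≠ 0 := by
      rintro rfl
      rw [orderOf_zero] at hζ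
      exact hq.ne_zero hζ.symm
    have hT := schAct_K (K := K) hpq hK ha ζ hζ hζ0
    have hU := univ_odd (K := K) hpq hK ha hodd ζ hζ hζ0
    have hc : Nat.card (Multiplicative K) = p ^ a := hK
    exact model_main hpq hT hU hr a hc
  · rw [if_neg hodd] at ha₀
    obtain ⟨m, hm⟩ : ∃ m, a = 2 * m := ⟨a / 2, by omega⟩
    have hm1 : 1 ≤ m := by omega
    have ha₀' : a₀ = 3 * m := by omega
    rw [ha₀']
    rw [hm] at ha hapos
    let K : Type u := ULift.{u} (GaloisField p (2 * m))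
    have hK : Nat.card K = p ^ (2 * m) := by
      rw [Nat.card_ulift]
      exact GaloisField.card p (2 * m) hapos.ne'
    obtain ⟨ζ, hζ⟩ := exists_zeta (K := K) hpq hK ha
    let σ : InvHom K := ⟨iterateFrobenius K p m, by
      intro x
      rw [iterateFrobenius_def, iterateFrobenius_def]
      exact frob_half_invol hK x⟩
    have hσ : ∀ x, σ.s x = x ^ (p ^ m) := fun x => iterateFrobenius_def p m x
    have hζσ : σ.s ζ * ζ = 1 := by
      rw [hσ]
      exact zeta_pow_half hpq ha ζ hζ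
    have hT := mnpu3_schAct_UT (K := K) hpq hm1 hK ha ζ hζ hσ hζσ
    have hU := univ_even (K := K) hpq hm1 hK ha ζ hζ σ hσ hζσ
    have hc : Nat.card (UT K σ) = p ^ (3 * m) := mnpu3_card_UT hm1 hK hσ
    exact model_main hpq hT hU hr (3 * m) hc

end Cfsg.Agent.Lib.Helper24.MNP
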