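import Mathlib
import Cfsg.Prelude.Def_Local
import Cfsg.Prelude.Def_Transfer
import Cfsg.Agent.Lib.Helper24.MetaNPC
import Cfsg.Agent.Lib.Helper21.FrobeniusNPC
import Cfsg.Agent.Lib.Helper5.PConstr
import Cfsg.Agent.Lib.Helper1.Fitting
import Cfsg.Agent.Lib.Helper1.Cores

set_option autoImplicit false

namespace Cfsg.Agent.Lib.Helper24

open Cfsg.Agent.Lib.Lead

theorem mn_conjAut_pow_eq_one_iff {G : Type*} [Group G] (Q : Subgroup G) (g : G)
    (hQ : g ∈ Subgroup.normalizer (Q : Set G)) (n : ℕ) :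
    (conjAut Q g hQ) ^ n = 1 ↔ g ^ n ∈ Subgroup.centralizer (Q : Set G) := by
  constructor
  · intro h
    rw [Subgroup.mem_centralizer_iff]
    intro x hx
    have h1 := mn_conjAut_pow Q g hQ n ⟨x, hx⟩
    rw [h] at h1
    simp only [MulAut.one_apply] at h1
    have : g ^ n * x = (g ^ n * x * (g ^ n)⁻¹) * g ^ n := by group
    rw [this, ← h1]
  · intro h
    ext x
    rw [mn_conjAut_pow]
    rw [Subgroup.mem_centralizer_iff] at h
    rw [← h x x.2]
    simp

theorem mn_mem_pPrimeCore {G : Type*} [Group G] [Finite G] {p : ℕ} [Fact p.Prime] (y : G)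
    (hy : y ∈ Cfsg.pPrimePCore p G) (hcop : (orderOf y).Coprime p) : y ∈ Cfsg.pPrimeCore p G := by
  haveI : (Cfsg.pPrimeCore p G).Normal := Cfsg.Agent.Lib.Helper1.pPrimeCore_normal p
  rw [Cfsg.Agent.Lib.Helper5.h5_mem_pPrimePCore_iff] at hy
  have hp : IsPGroup p (Cfsg.pCore p (G ⧸ Cfsg.pPrimeCore p G)) := Cfsg.Agent.Lib.Helper1.pCore_isPGroup p
  obtain ⟨j, hj⟩ := (IsPGroup.iff_orderOf.mp hp) ⟨_, hy⟩
  rw [Subgroup.orderOf_mk] at hj
  have h1 : orderOf (QuotientGroup.mk' (Cfsg.pPrimeCore p G) y) ∣ orderOf y := orderOf_map_dvd _ y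
  have h2 : orderOf (QuotientGroup.mk' (Cfsg.pPrimeCore p G) y) = 1 := by
    have hc : (orderOf (QuotientGroup.mk' (Cfsg.pPrimeCore p G) y)).Coprime (p ^ j) :=
      Nat.Coprime.pow_right _ (Nat.Coprime.coprime_dvd_left h1 hcop)
    rw [← hj] at hc
    exact (Nat.coprime_self _).mp hc
  rw [orderOf_eq_one_iff, QuotientGroup.mk'_apply, QuotientGroup.eq_one_iff] at h2
  exact h2

theorem mn_centralizes_of_mem_pPrimeCore {G : Type*} [Group G] [Finite G] {p : ℕ} [Fact p.Prime]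
    (Q : Subgroup G) (hQp : IsPGroup p Q) (y : G) (hy : y ∈ Cfsg.pPrimeCore p G)
    (hyQ : y ∈ Subgroup.normalizer (Q : Set G)) : y ∈ Subgroup.centralizer (Q : Set G) := by
  have hOn : (Cfsg.pPrimeCore p G).Normal := Cfsg.Agent.Lib.Helper1.pPrimeCore_normal p
  have hOc : (Nat.card (Cfsg.pPrimeCore p G)).Coprime p := Cfsg.Agent.Lib.Helper1.pPrimeCore_card_coprime p
  rw [Subgroup.mem_centralizer_iff]
  intro x hx
  have h1 : y * x * y⁻¹ * x⁻¹ ∈ Q :=
    Q.mul_mem ((Subgroup.mem_normalizer_iff.mp hyQ x).mp hx) (Q.inv_mem hx)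
  have h2 : y * x * y⁻¹ * x⁻¹ ∈ Cfsg.pPrimeCore p G := by
    have : x * y⁻¹ * x⁻¹ ∈ Cfsg.pPrimeCore p G := hOn.conj_mem _ (Subgroup.inv_mem _ hy) x
    have := Subgroup.mul_mem _ hy this
    convert this using 1
    group
  obtain ⟨n, hn⟩ := IsPGroup.iff_card.mp hQp
  have hcop : (Nat.card Q).Coprime (Nat.card (Cfsg.pPrimeCore p G)) := by
    rw [hn]
    exact Nat.Coprime.pow_left _ hOc.symm
  have h3 := inf_eq_bot_of_coprime' Q (Cfsg.pPrimeCore p G) hcop h1 h2
  have : y * x = (y * x * y⁻¹ * x⁻¹) * (x * y) := by group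
  rw [this, h3, one_mul]

theorem mn_frobHyp {G : Type*} [Group G] [Finite G] {p : ℕ} [Fact p.Prime] (S : Sylow p G)
    (hS : Cfsg.IsMetacyclic ↥(S : Subgroup G))
    (hcop : Nat.Coprime (Cfsg.pPrimePCore p G).index (p ^ 2 - 1)) :
    Cfsg.Agent.Lib.Helper21.FrobHyp p G := by
  have hp := (Fact.out : p.Prime)
  apply Cfsg.Agent.Lib.Helper21.frobHyp_of_sylow S
  intro Q hQS g hgQ hgcop
  by_contra hgC
  have hQp : IsPGroup p Q := S.2.to_le hQS
  set α := conjAut Q g hgQ with hα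
  set n₀ := orderOf α with hn₀
  have hn₀pos : 0 < n₀ := orderOf_pos α
  have hn₀1 : n₀ ≠ 1 := by
    intro h1
    have : α ^ 1 = 1 := by rw [pow_one]; exact orderOf_eq_one_iff.mp h1
    rw [hα, mn_conjAut_pow_eq_one_iff, pow_one] at this
    exact hgC this
  have hn₀g : n₀ ∣ orderOf g := by
    apply orderOf_dvd_of_pow_eq_one
    rw [hα, mn_conjAut_pow_eq_one_iff, pow_orderOf_eq_one]
    exact Subgroup.one_mem _
  set r := n₀.minFac with hr
  have hrP : r.Prime := Nat.minFac_prime hn₀1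
  have hrn : r ∣ n₀ := Nat.minFac_dvd n₀
  obtain ⟨m, hm⟩ := hrn
  have hmpos : 0 < m := by
    rcases Nat.eq_zero_or_pos m with h0 | h0
    · rw [h0, mul_zero] at hm; omega
    · exact h0
  have hmlt : m < n₀ := by
    rw [hm]
    have := hrP.one_lt
    nlinarith
  set h := g ^ m with hh
  have hhQ : h ∈ Subgroup.normalizer (Q : Set G) := Subgroup.pow_mem _ hgQ m
  have hhr : h ^ r ∈ Subgroup.centralizer (Q : Set G) := by
    rw [hh, ← pow_mul, mul_comm, ← hm, ← mn_conjAut_pow_eq_one_iff Q g hgQ]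
    exact pow_orderOf_eq_one α
  have hhC : h ∉ Subgroup.centralizer (Q : Set G) := by
    intro hc
    rw [hh, ← mn_conjAut_pow_eq_one_iff Q g hgQ] at hc
    have := orderOf_dvd_of_pow_eq_one hc
    exact absurd (Nat.le_of_dvd hmpos this) (not_le.mpr hmlt)
  have hhcop : (orderOf h).Coprime p := Nat.Coprime.coprime_dvd_left (orderOf_pow_dvd m) hgcop
  have hrp : r ≠ p := by
    intro hrp
    have : p ∣ orderOf g := hrp ▸ dvd_trans (Dvd.intro m hm.symm) hn₀g
    exact (Nat.Prime.coprime_iff_not_dvd hp).mp hgcop.symm this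
  set K := Cfsg.pPrimePCore p G with hK
  haveI hKn : K.Normal := Cfsg.Agent.Lib.Helper5.h5_pPrimePCore_normal p G
  set mbar := orderOf (QuotientGroup.mk' K h) with hmbar
  have hmbar_dvd : mbar ∣ K.index := by
    rw [Subgroup.index_eq_card]
    exact orderOf_dvd_natCard _
  have hr_mbar : r ∣ mbar := by
    by_contra hnd
    have hy : h ^ mbar ∈ K := by
      rw [← QuotientGroup.eq_one_iff, ← QuotientGroup.mk'_apply, map_pow]
      exact pow_orderOf_eq_one _
    have hyO := mn_mem_pPrimeCore (h ^ mbar) hy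
      (Nat.Coprime.coprime_dvd_left (orderOf_pow_dvd mbar) hhcop)
    have hyC := mn_centralizes_of_mem_pPrimeCore Q hQp (h ^ mbar) hyO (Subgroup.pow_mem _ hhQ mbar)
    rw [← mn_conjAut_pow_eq_one_iff Q h hhQ] at hyC hhr
    have h1 := orderOf_dvd_of_pow_eq_one hyC
    have h2 := orderOf_dvd_of_pow_eq_one hhr
    have h3 : orderOf (conjAut Q h hhQ) ∣ Nat.gcd mbar r := Nat.dvd_gcd h1 h2
    have h4 : Nat.gcd mbar r = 1 := by
      rw [Nat.gcd_comm]
      exact (Nat.Prime.coprime_iff_not_dvd hrP).mpr hnd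
    rw [h4, Nat.dvd_one, orderOf_eq_one_iff] at h3
    have : (conjAut Q h hhQ) ^ 1 = 1 := by rw [pow_one, h3]
    rw [mn_conjAut_pow_eq_one_iff, pow_one] at this
    exact hhC this
  have hr2 : ¬ r ∣ p ^ 2 - 1 := by
    intro hd
    have := Nat.dvd_gcd (dvd_trans hr_mbar hmbar_dvd) hd
    rw [hcop.gcd_eq_one] at this
    exact hrP.one_lt.ne' (Nat.dvd_one.mp this)
  obtain ⟨a', b', ha', hb', hab'⟩ := mn_two_gen hS (Q.subgroupOf (S : Subgroup G))
  have hab : Subgroup.closure {(a' : G), (b' : G)} = Q := by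
    have h1 := congrArg (Subgroup.map (S : Subgroup G).subtype) hab'
    rw [MonoidHom.map_closure, Subgroup.map_subgroupOf_eq_of_le hQS] at h1
    rw [← h1]
    congr 1
    simp only [Set.image_insert_eq, Set.image_singleton, Subgroup.coe_subtype]
  obtain ⟨k, hk2, hk⟩ := mn_frattini_index Q hQp (a' : G) (b' : G) hab
  have htriv := mn_quot_triv hp hrP hrp hr2 hk2 Q hk h hhQ hhr
  exact hhC (mn_burnside Q hQp h hhQ hhcop htriv)

theorem mn_top_of_npc {G : Type*} [Group G] [Finite G] {p : ℕ} [Fact p.Prime]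
    (h : Cfsg.HasNormalPComplement p G) : Cfsg.pPrimePCore p G = ⊤ := by
  have hp := (Fact.out : p.Prime)
  obtain ⟨P, N, hNn, hc⟩ := h
  have hNcard : Nat.card N = (P : Subgroup G).index := hc.index_eq_card.symm
  have hNcop : (Nat.card N).Coprime p := by
    rw [hNcard, Nat.coprime_comm]
    exact (Nat.Prime.coprime_iff_not_dvd hp).mpr P.not_dvd_index
  have hNO : N ≤ Cfsg.pPrimeCore p G := Cfsg.Agent.Lib.Helper1.le_pPrimeCore hNn hNcop
  haveI hOn : (Cfsg.pPrimeCore p G).Normal := Cfsg.Agent.Lib.Helper1.pPrimeCore_normal p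
  obtain ⟨n, hn⟩ := IsPGroup.iff_card.mp P.2
  have hidx : (Cfsg.pPrimeCore p G).index ∣ p ^ n := by
    rw [← hn, ← hc.symm.index_eq_card]
    exact Subgroup.index_dvd_of_le hNO
  obtain ⟨j, _, hj⟩ := (Nat.dvd_prime_pow hp).mp hidx
  have hquot : IsPGroup p (G ⧸ Cfsg.pPrimeCore p G) := by
    apply IsPGroup.of_card (n := j)
    rw [← Subgroup.index_eq_card, hj]
  have htop : Cfsg.pCore p (G ⧸ Cfsg.pPrimeCore p G) = ⊤ := by
    rw [eq_top_iff]
    apply Cfsg.Agent.Lib.Helper1.le_pCore inferInstance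
    exact hquot.to_subgroup ⊤
  rw [eq_top_iff]
  intro x _
  rw [Cfsg.Agent.Lib.Helper5.h5_mem_pPrimePCore_iff, htop]
  exact Subgroup.mem_top _

end Cfsg.Agent.Lib.Helper24
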