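import Cfsg.Agent.Lib.Helper28.O73C.Defs
import Cfsg.Agent.Lib.Helper16.SpinE2
import Cfsg.Agent.Lib.Helper16.SpinG2
import Cfsg.Agent.Lib.Helper29.O73CPM
import Cfsg.Agent.Lib.Helper29.O73CUA
import Cfsg.Agent.S0248

set_option autoImplicit false

namespace Cfsg.Agent.Lib.Helper28.O73C

open Cfsg.Agent.Lib.Helper12.O73 Cfsg.Agent.Lib.Helper16 Cfsg.Agent.Lib.helper6 Matrix

theorem h24sb_polar_single (i : Fin 3) (w : I7 → K) :
    QuadraticMap.polar (Cfsg.quadFormOdd 3 K) (Pi.single (Sum.inr (Sum.inl i)) 1) w =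
      w (Sum.inr (Sum.inr i)) := by
  rw [polar_odd]
  simp [Fin.sum_univ_three]
  fin_cases i <;> simp

theorem h24sb_col (u : GO) (hP : InP3 u) (ha : aX u = 1) (j : Fin 3) :
    u.mat *ᵥ (Pi.single (Sum.inr (Sum.inl j)) 1) = Pi.single (Sum.inr (Sum.inl j)) 1 := by
  funext i
  rw [Matrix.mulVec_single_one]
  show u.mat i (Sum.inr (Sum.inl j)) = _
  rcases i with i | i | i
  · rw [(hP j).1]
    simp
  · have := congrFun (congrFun ha i) j
    unfold aX at this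
    rw [Matrix.of_apply] at this
    rw [this, Matrix.one_apply, Pi.single_apply]
    by_cases hij : i = j
    · subst hij
      simp
    · rw [if_neg hij, if_neg]
      intro h
      exact hij (Sum.inl.inj (Sum.inr.inj h))
  · rw [(hP j).2 i]
    simp

theorem h24sb_row (u : GO) (hP : InP3 u) (ha : aX u = 1) (i : Fin 3) (w : I7 → K) :
    (u.mat *ᵥ w) (Sum.inr (Sum.inr i)) = w (Sum.inr (Sum.inr i)) := by
  have h1 : QuadraticMap.polar (Cfsg.quadFormOdd 3 K)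
      (u.mat *ᵥ (Pi.single (Sum.inr (Sum.inl i)) 1)) (u.mat *ᵥ w) =
      QuadraticMap.polar (Cfsg.quadFormOdd 3 K) (Pi.single (Sum.inr (Sum.inl i)) 1) w :=
    polar_iso' (qfOdd 3 K) u (Pi.single (Sum.inr (Sum.inl i)) 1) w
  rw [h24sb_col u hP ha i, h24sb_polar_single, h24sb_polar_single] at h1
  exact h1

theorem h24sb_isFU (u : GO) (hP : InP3 u) (ha : aX u = 1) (he : eps u = 1) : IsFU u := by
  have hrow : ∀ (i : Fin 3) (j : I7),
      u.mat (Sum.inr (Sum.inr i)) j = (1 : Matrix I7 I7 K) (Sum.inr (Sum.inr i)) j := by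
    intro i j
    have h := h24sb_row u hP ha i (Pi.single j 1)
    rw [Matrix.mulVec_single_one] at h
    rw [Matrix.one_apply, ← Pi.single_apply]
    exact h
  have hcolx : ∀ (i : I7) (j : Fin 3),
      u.mat i (Sum.inr (Sum.inl j)) = (1 : Matrix I7 I7 K) i (Sum.inr (Sum.inl j)) := by
    intro i j
    have h := congrFun (h24sb_col u hP ha j) i
    rw [Matrix.mulVec_single_one] at h
    rw [Matrix.one_apply, ← Pi.single_apply]
    exact h
  constructor
  · intro i j hij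
    rcases j with j | j | j
    · rcases i with i | i | i
      · exact absurd hij (lt_irrefl _)
      · exfalso
        revert hij
        fin_cases i <;> simp [rk]
      · rw [hrow, Matrix.one_apply_ne]
        simp
    · rw [hcolx, Matrix.one_apply_ne]
      intro h
      subst h
      exact lt_irrefl _ hij
    · rcases i with i | i | i
      · exfalso
        revert hij
        fin_cases j <;> simp [rk]
      · exfalso
        revert hij
        fin_cases i <;> fin_cases j <;> simp [rk]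
      · rw [hrow, Matrix.one_apply_ne]
        intro h
        rw [h] at hij
        exact lt_irrefl _ hij
  · intro i
    rcases i with i | i | i
    · exact he
    · rw [hcolx, Matrix.one_apply_eq]
    · rw [hrow, Matrix.one_apply_eq]

def h24sb_LvM (A B : Matrix (Fin 3) (Fin 3) K) : Matrix I7 I7 K :=
  Matrix.fromBlocks (1 : Matrix Unit Unit K) 0 0 (Matrix.fromBlocks A 0 0 B)

theorem h24sb_LvM_mul (A B A' B' : Matrix (Fin 3) (Fin 3) K) :
    h24sb_LvM A B * h24sb_LvM A' B' = h24sb_LvM (A * A') (B * B') := by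
  unfold h24sb_LvM
  rw [Matrix.fromBlocks_multiply, Matrix.fromBlocks_multiply]
  simp

theorem h24sb_LvM_one : h24sb_LvM 1 1 = 1 := by
  unfold h24sb_LvM
  rw [Matrix.fromBlocks_one, Matrix.fromBlocks_one]

theorem h24sb_LvM_Q (A B : Matrix (Fin 3) (Fin 3) K) (h : Aᵀ * B = 1) (v : I7 → K) :
    Cfsg.quadFormOdd 3 K (h24sb_LvM A B *ᵥ v) = Cfsg.quadFormOdd 3 K v := by
  unfold Cfsg.quadFormOdd h24sb_LvM
  rw [Matrix.fromBlocks_mulVec, Matrix.fromBlocks_mulVec]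
  simp only [Sum.elim_inl, Sum.elim_inr, Matrix.zero_mulVec, add_zero, zero_add, Matrix.one_mulVec,
    Function.comp_apply]
  congr 1
  have h1 : (∑ i : Fin 3, (A *ᵥ ((v ∘ Sum.inr) ∘ Sum.inl)) i * (B *ᵥ ((v ∘ Sum.inr) ∘ Sum.inr)) i) =
      (A *ᵥ ((v ∘ Sum.inr) ∘ Sum.inl)) ⬝ᵥ (B *ᵥ ((v ∘ Sum.inr) ∘ Sum.inr)) := rfl
  rw [h1, ← Matrix.vecMul_transpose, ← Matrix.dotProduct_mulVec, Matrix.mulVec_mulVec, h,
    Matrix.one_mulVec]
  rfl

theorem h24sb_sl_mul_inv (a : Matrix.SpecialLinearGroup (Fin 3) K) :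
    (a : Matrix (Fin 3) (Fin 3) K) * ((a⁻¹ : Matrix.SpecialLinearGroup (Fin 3) K) :
      Matrix (Fin 3) (Fin 3) K) = 1 := by
  rw [← Matrix.SpecialLinearGroup.coe_mul, mul_inv_cancel, Matrix.SpecialLinearGroup.coe_one]

theorem h24sb_sl_inv_mul (a : Matrix.SpecialLinearGroup (Fin 3) K) :
    ((a⁻¹ : Matrix.SpecialLinearGroup (Fin 3) K) : Matrix (Fin 3) (Fin 3) K) *
      (a : Matrix (Fin 3) (Fin 3) K) = 1 := by
  rw [← Matrix.SpecialLinearGroup.coe_mul, inv_mul_cancel, Matrix.SpecialLinearGroup.coe_one]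

noncomputable def h24sb_Lv (a : Matrix.SpecialLinearGroup (Fin 3) K) : GO :=
  ⟨⟨h24sb_LvM (a : Matrix (Fin 3) (Fin 3) K)
      ((a⁻¹ : Matrix.SpecialLinearGroup (Fin 3) K) : Matrix (Fin 3) (Fin 3) K)ᵀ,
    h24sb_LvM ((a⁻¹ : Matrix.SpecialLinearGroup (Fin 3) K) : Matrix (Fin 3) (Fin 3) K)
      (a : Matrix (Fin 3) (Fin 3) K)ᵀ,
    by
      rw [h24sb_LvM_mul, ← Matrix.transpose_mul, h24sb_sl_mul_inv, Matrix.transpose_one,
        h24sb_LvM_one],
    by
      rw [h24sb_LvM_mul, ← Matrix.transpose_mul, h24sb_sl_inv_mul, Matrix.transpose_one,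
        h24sb_LvM_one]⟩,
    (mem_iso_iff _ _).mpr (fun v => h24sb_LvM_Q _ _
      (by rw [← Matrix.transpose_mul, h24sb_sl_inv_mul, Matrix.transpose_one]) v)⟩

theorem h24sb_Lv_mat (a : Matrix.SpecialLinearGroup (Fin 3) K) :
    (h24sb_Lv a).mat = h24sb_LvM (a : Matrix (Fin 3) (Fin 3) K)
      ((a⁻¹ : Matrix.SpecialLinearGroup (Fin 3) K) : Matrix (Fin 3) (Fin 3) K)ᵀ := rfl

theorem h24sb_Lv_mul (a b : Matrix.SpecialLinearGroup (Fin 3) K) :
    h24sb_Lv (a * b) = h24sb_Lv a * h24sb_Lv b := by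
  apply iso_ext'
  rw [iso_mul_coe]
  show (h24sb_Lv (a * b)).mat = (h24sb_Lv a).mat * (h24sb_Lv b).mat
  rw [h24sb_Lv_mat, h24sb_Lv_mat, h24sb_Lv_mat, h24sb_LvM_mul, _root_.mul_inv_rev,
    Matrix.SpecialLinearGroup.coe_mul, Matrix.SpecialLinearGroup.coe_mul, Matrix.transpose_mul]

noncomputable def h24sb_LvHom : Matrix.SpecialLinearGroup (Fin 3) K →* GO :=
  MonoidHom.mk' h24sb_Lv h24sb_Lv_mul

theorem h24sb_Lv_inP3 (a : Matrix.SpecialLinearGroup (Fin 3) K) : InP3 (h24sb_Lv a) := by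
  intro j
  rw [h24sb_Lv_mat]
  unfold h24sb_LvM
  refine ⟨by simp, fun i => by simp⟩

theorem h24sb_Lv_aX (a : Matrix.SpecialLinearGroup (Fin 3) K) :
    aX (h24sb_Lv a) = (a : Matrix (Fin 3) (Fin 3) K) := by
  ext i j
  unfold aX
  rw [h24sb_Lv_mat]
  unfold h24sb_LvM
  simp

theorem h24sb_Lv_eps (a : Matrix.SpecialLinearGroup (Fin 3) K) : eps (h24sb_Lv a) = 1 := by
  unfold eps
  rw [h24sb_Lv_mat]
  unfold h24sb_LvM
  simp

theorem h24sb_Lv_ker {A : Type*} [CommGroup A] (φ : GO →* A)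
    (a : Matrix.SpecialLinearGroup (Fin 3) K) : φ (h24sb_Lv a) = 1 := by
  have h1 : a ∈ commutator (Matrix.SpecialLinearGroup (Fin 3) K) := by
    rw [Cfsg.Agent.S0248.result 3 (le_refl 3)]
    exact Subgroup.mem_top a
  have h2 : commutator (Matrix.SpecialLinearGroup (Fin 3) K) ≤ (φ.comp h24sb_LvHom).ker :=
    Abelianization.commutator_subset_ker _
  exact h2 h1


theorem h24sb_key {A : Type*} [CommGroup A] (hA : ∀ x : A, x ^ 2 = 1) (φ : GO →* A) (g : GO)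
    (hg : InP3 g) (he : eps g = 1) (hd : (aX g).det = 1) : φ g = 1 := by
  set a : Matrix.SpecialLinearGroup (Fin 3) K := ⟨aX g, hd⟩ with ha
  have hinv : (h24sb_Lv a)⁻¹ = h24sb_Lv a⁻¹ := (map_inv h24sb_LvHom a).symm
  obtain ⟨huP, huX, hue⟩ := p3_mul g (h24sb_Lv a⁻¹) hg (h24sb_Lv_inP3 _)
  have huX1 : aX (g * h24sb_Lv a⁻¹) = 1 := by
    rw [huX, h24sb_Lv_aX]
    exact h24sb_sl_mul_inv a
  have hue1 : eps (g * h24sb_Lv a⁻¹) = 1 := by
    rw [hue, he, h24sb_Lv_eps, one_mul]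
  have h9 := fu_pow_nine _ (h24sb_isFU _ huP huX1 hue1)
  have hφu : φ (g * h24sb_Lv a⁻¹) = 1 := by
    have h1 : φ (g * h24sb_Lv a⁻¹) ^ 9 = 1 := by rw [← map_pow, h9, map_one]
    have h2 := hA (φ (g * h24sb_Lv a⁻¹))
    have h3 : φ (g * h24sb_Lv a⁻¹) ^ 9 = φ (g * h24sb_Lv a⁻¹) * (φ (g * h24sb_Lv a⁻¹) ^ 2) ^ 4 := by
      rw [← pow_mul, ← pow_succ']
    rw [h3, h2, one_pow, mul_one] at h1
    exact h1
  have hg' : g = (g * h24sb_Lv a⁻¹) * h24sb_Lv a := by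
    rw [← hinv]
    group
  rw [hg', map_mul, hφu, h24sb_Lv_ker, one_mul]

theorem h24sb_zmod3 : ∀ x : K, x ≠ 0 → x = 1 ∨ x = -1 := by decide

theorem h24sb_eps_one : eps (1 : GO) = 1 := by
  unfold eps
  show (1 : Matrix I7 I7 K) _ _ = 1
  simp

theorem h24sb_aX_one : aX (1 : GO) = 1 := by
  ext i j
  unfold aX
  show (1 : Matrix I7 I7 K) _ _ = _
  rw [Matrix.one_apply, Matrix.one_apply]
  simp

theorem h24sb_inP3_one : InP3 (1 : GO) := by
  intro j
  refine ⟨?_, fun i => ?_⟩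
  · show (1 : Matrix I7 I7 K) _ _ = 0
    simp
  · show (1 : Matrix I7 I7 K) _ _ = 0
    simp

theorem h24sb_pm (g : GO) (hg : InP3 g) :
    (eps g = 1 ∨ eps g = -1) ∧ ((aX g).det = 1 ∨ (aX g).det = -1) := by
  obtain ⟨-, hX, he⟩ := p3_mul g g⁻¹ hg (p3_inv g hg)
  rw [mul_inv_cancel, h24sb_aX_one] at hX
  rw [mul_inv_cancel, h24sb_eps_one] at he
  constructor
  · apply h24sb_zmod3
    intro h0
    rw [h0, zero_mul] at he
    exact one_ne_zero he
  · apply h24sb_zmod3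
    intro h0
    have := congrArg Matrix.det hX
    rw [Matrix.det_one, Matrix.det_mul, h0, zero_mul] at this
    exact one_ne_zero this


def h24sb_sM : Matrix I7 I7 K :=
  Matrix.fromBlocks (-1 : Matrix Unit Unit K) 0 0 (1 : Matrix (Fin 3 ⊕ Fin 3) (Fin 3 ⊕ Fin 3) K)

theorem h24sb_sM_mul : h24sb_sM * h24sb_sM = 1 := by
  unfold h24sb_sM
  rw [Matrix.fromBlocks_multiply]
  simp

theorem h24sb_sM_Q (v : I7 → K) :
    Cfsg.quadFormOdd 3 K (h24sb_sM *ᵥ v) = Cfsg.quadFormOdd 3 K v := by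
  unfold Cfsg.quadFormOdd h24sb_sM
  rw [Matrix.fromBlocks_mulVec]
  simp [Matrix.neg_mulVec]

noncomputable def h24sb_s : GO :=
  ⟨⟨h24sb_sM, h24sb_sM, h24sb_sM_mul, h24sb_sM_mul⟩, (mem_iso_iff _ _).mpr h24sb_sM_Q⟩

theorem h24sb_s_mat : h24sb_s.mat = h24sb_sM := rfl

theorem h24sb_s_inP3 : InP3 h24sb_s := by
  intro j
  rw [h24sb_s_mat]
  unfold h24sb_sM
  refine ⟨by simp, fun i => by simp⟩

theorem h24sb_s_aX : aX h24sb_s = 1 := by
  ext i j
  unfold aX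
  rw [h24sb_s_mat]
  unfold h24sb_sM
  simp [Matrix.one_apply]

theorem h24sb_s_eps : eps h24sb_s = -1 := by
  unfold eps
  rw [h24sb_s_mat]
  unfold h24sb_sM
  simp

theorem h24sb_s_det : isoDet (Cfsg.quadFormOdd 3 K) h24sb_s = -1 := by
  apply Units.ext
  rw [isoDet_coe]
  show h24sb_sM.det = _
  unfold h24sb_sM
  rw [Matrix.det_fromBlocks_zero₂₁]
  simp


def h24sb_u : T7 := (0, 1, 0, 0, 1, 0, 0)

def h24sb_v : T7 := (0, 1, 0, 0, 2, 0, 0)

theorem h24sb_qu : Q7 (vec h24sb_u) ≠ 0 := by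
  rw [Q7_vec]
  decide

theorem h24sb_qv : Q7 (vec h24sb_v) ≠ 0 := by
  rw [Q7_vec]
  decide

theorem h24sb_refl_vec (a x : T7) (c : K) (hc : (qT a)⁻¹ = c) :
    Cfsg.reflectionMatrix (⇑Q7) (vec a) *ᵥ vec x = vec (x + -((c * pT a x) • a)) := by
  rw [reflectionMatrix_mulVec, Q7_vec, hc, polar_vec, Helper12.O73.vec_add, Helper12.O73.vec_neg,
    Helper12.O73.vec_smul, sub_eq_add_neg]

noncomputable def h24sb_r1 : GO := reflG Q7 (vec h24sb_u) h24sb_qu

noncomputable def h24sb_r2 : GO := reflG Q7 (vec h24sb_v) h24sb_qv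

noncomputable def h24sb_t : GO := h24sb_r1 * h24sb_r2

def h24sb_F (x : T7) : T7 :=
  (x + -((2 * pT h24sb_v x) • h24sb_v)) +
    -((1 * pT h24sb_u (x + -((2 * pT h24sb_v x) • h24sb_v))) • h24sb_u)

theorem h24sb_t_mulVec (x : T7) : h24sb_t.mat *ᵥ vec x = vec (h24sb_F x) := by
  have h1 : h24sb_t.mat =
      Cfsg.reflectionMatrix (⇑Q7) (vec h24sb_u) * Cfsg.reflectionMatrix (⇑Q7) (vec h24sb_v) := rfl
  have hu : (qT h24sb_u)⁻¹ = 1 := by
    have : qT h24sb_u = 1 := by decide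
    rw [this, inv_one]
  have hv : (qT h24sb_v)⁻¹ = 2 := by
    have : qT h24sb_v = 2 := by decide
    rw [this, two_inv]
  rw [h1, ← Matrix.mulVec_mulVec, h24sb_refl_vec _ _ 2 hv, h24sb_refl_vec _ _ 1 hu]
  rfl

theorem h24sb_t_entry (i j : I7) :
    h24sb_t.mat i j = vec (h24sb_F (tup (Pi.single j 1))) i := by
  rw [← h24sb_t_mulVec, vec_tup, Matrix.mulVec_single_one]
  rfl

theorem h24sb_t_inP3 : InP3 h24sb_t := by
  intro j
  refine ⟨?_, fun i => ?_⟩
  · rw [h24sb_t_entry]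
    fin_cases j <;> decide
  · rw [h24sb_t_entry]
    fin_cases j <;> fin_cases i <;> decide

theorem h24sb_t_eps : eps h24sb_t = 1 := by
  unfold eps
  rw [h24sb_t_entry]
  decide

theorem h24sb_t_det : (aX h24sb_t).det = -1 := by
  have h : aX h24sb_t = Matrix.of ![![(2 : K), 0, 0], ![0, 1, 0], ![0, 0, 1]] := by
    ext i j
    unfold aX
    rw [Matrix.of_apply, h24sb_t_entry]
    fin_cases i <;> fin_cases j <;> decide
  rw [h, Matrix.det_fin_three]
  decide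

theorem h24sb_sq_one : sqSign (1 : K) = 1 := by
  unfold sqSign
  rw [if_pos IsSquare.one]

theorem h24sb_sq_two : sqSign (2 : K) = -1 := by
  unfold sqSign
  rw [if_neg]
  rintro ⟨r, hr⟩
  revert r
  decide

theorem h24sb_chi_t (χ : GO →* ℤˣ) (κ : ℤˣ)
    (hχ : ∀ (v : I7 → K) (hv : Q7 v ≠ 0), χ (reflG Q7 v hv : GO) = κ * sqSign (Q7 v)) :
    χ h24sb_t = -1 := by
  unfold h24sb_t
  have h1 : χ h24sb_r1 = κ * sqSign (Q7 (vec h24sb_u)) := hχ _ _
  have h2 : χ h24sb_r2 = κ * sqSign (Q7 (vec h24sb_v)) := hχ _ _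
  rw [map_mul, h1, h2, Q7_vec, Q7_vec]
  have hu : qT h24sb_u = 1 := by decide
  have hv : qT h24sb_v = 2 := by decide
  rw [hu, hv, h24sb_sq_one, h24sb_sq_two, mul_one, mul_neg_one, mul_neg, Int.units_mul_self]

theorem h24sb_t_isoDet : isoDet (Cfsg.quadFormOdd 3 K) h24sb_t = 1 := by
  unfold h24sb_t
  have h1 : isoDet (Cfsg.quadFormOdd 3 K) h24sb_r1 = -1 := isoDet_reflG Q7 (vec h24sb_u) h24sb_qu
  have h2 : isoDet (Cfsg.quadFormOdd 3 K) h24sb_r2 = -1 := isoDet_reflG Q7 (vec h24sb_v) h24sb_qv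
  rw [map_mul, h1, h2]
  simp


theorem h24sb_units_sq (x : ℤˣ) : x ^ 2 = 1 := by
  rw [pow_two]
  exact Int.units_mul_self x

theorem h24sb_kunits_sq (x : Kˣ) : x ^ 2 = 1 := by
  apply Units.ext
  rw [Units.val_pow_eq_pow_val, Units.val_one]
  have h : ∀ y : K, y ≠ 0 → y ^ 2 = 1 := by decide
  exact h _ x.ne_zero

theorem h24sb_kunits_ne : (-1 : Kˣ) ≠ 1 := by
  intro h
  have h1 := congrArg Units.val h
  rw [Units.val_neg, Units.val_one] at h1
  revert h1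
  decide

theorem h24sb_neg_neg_K : (-1 : K) * -1 = 1 := by decide

theorem split_B (h : GO) (hO : h ∈ Om) (hP : InP3 h) : (aX h).det = 1 ∧ eps h = 1 := by
  obtain ⟨χ0, κ, hχ0⟩ := spin_char_formula (F := K) (by decide : (2 : K) ≠ 0) Q7
  let χ : GO →* ℤˣ := χ0
  have hχ : ∀ (v : I7 → K) (hv : Q7 v ≠ 0), χ (reflG Q7 v hv : GO) = κ * sqSign (Q7 v) :=
    fun v hv => hχ0 v hv
  have hker : ∀ {A : Type} [CommGroup A] (φ : GO →* A), φ h = 1 := by
    intro A _ φ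
    have h1 : commutator GO ≤ φ.ker := Abelianization.commutator_subset_ker φ
    exact h1 hO
  obtain ⟨he, hd⟩ := h24sb_pm h hP
  have he1 : eps h = 1 := by
    rcases he with he | he
    · exact he
    · exfalso
      obtain ⟨hP', hX', he'⟩ := p3_mul h h24sb_s hP h24sb_s_inP3
      rw [h24sb_s_aX, mul_one] at hX'
      rw [he, h24sb_s_eps, h24sb_neg_neg_K] at he'
      rcases hd with hd | hd
      · have h1 := h24sb_key h24sb_kunits_sq (isoDet (Cfsg.quadFormOdd 3 K)) (h * h24sb_s) hP' he'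
          (by rw [hX']; exact hd)
        rw [map_mul, hker, one_mul, h24sb_s_det] at h1
        exact h24sb_kunits_ne h1
      · obtain ⟨hP'', hX'', he''⟩ := p3_mul (h * h24sb_s) h24sb_t hP' h24sb_t_inP3
        have h1 := h24sb_key h24sb_kunits_sq (isoDet (Cfsg.quadFormOdd 3 K)) (h * h24sb_s * h24sb_t)
          hP'' (by rw [he'', he', h24sb_t_eps, one_mul])
          (by rw [hX'', Matrix.det_mul, hX', hd, h24sb_t_det]; exact h24sb_neg_neg_K)
        rw [map_mul, map_mul, hker, one_mul, h24sb_s_det, h24sb_t_isoDet, mul_one] at h1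
        exact h24sb_kunits_ne h1
  refine ⟨?_, he1⟩
  rcases hd with hd | hd
  · exact hd
  · exfalso
    obtain ⟨hP', hX', he'⟩ := p3_mul h h24sb_t hP h24sb_t_inP3
    have h1 := h24sb_key h24sb_units_sq χ (h * h24sb_t) hP'
      (by rw [he', he1, h24sb_t_eps, one_mul])
      (by rw [hX', Matrix.det_mul, hd, h24sb_t_det]; exact h24sb_neg_neg_K)
    rw [map_mul, hker, one_mul, h24sb_chi_t χ κ hχ] at h1
    revert h1
    decide

end Cfsg.Agent.Lib.Helper28.O73C
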