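import Cfsg.Agent.Lib.Helper28.O73C.Defs
import Cfsg.Agent.Lib.Helper13.O73CCR
import Cfsg.Agent.Lib.Helper29.O73CPM
import Cfsg.Agent.Lib.Helper28.O73C.SplitA
import Cfsg.Agent.Lib.Helper24.O73CSB

set_option autoImplicit false

namespace Cfsg.Agent.Lib.Helper28.O73C

open Cfsg.Agent.Lib.Helper12.O73 Matrix

theorem h24_t1_inP3 (t1 : GO) (ht1 : Rep t1 t1m) : InP3 t1 := by
  intro j
  have hm : t1.mat = t1m.toMat := ht1
  rw [hm]
  fin_cases j <;> refine ⟨by decide, fun i => ?_⟩ <;> fin_cases i <;> decide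

theorem h24_t1_eps (t1 : GO) (ht1 : Rep t1 t1m) : eps t1 = 1 := by
  have hm : t1.mat = t1m.toMat := ht1
  unfold eps
  rw [hm]
  decide

theorem h24_t1_det (t1 : GO) (ht1 : Rep t1 t1m) : (aX t1).det = -1 := by
  have hm : t1.mat = t1m.toMat := ht1
  have h : aX t1 = Matrix.of ![![(2 : K), 0, 0], ![0, 1, 0], ![0, 0, 1]] := by
    ext i j
    unfold aX
    rw [hm]
    fin_cases i <;> fin_cases j <;> decide
  rw [h, Matrix.det_fin_three]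
  decide

theorem h24_split_core (r3 h t1 : GO) (h3 : Rep r3 (rep 3)) (hO : h ∈ Om) (ht1 : Rep t1 t1m)
    (hn : (t1⁻¹ * h) * r3 * (t1⁻¹ * h)⁻¹ = r3 ∨ (t1⁻¹ * h) * r3 * (t1⁻¹ * h)⁻¹ = r3 ^ 2) : False := by
  obtain ⟨hnP, hndet⟩ := split_A r3 (t1⁻¹ * h) h3 hn
  have hh : h = t1 * (t1⁻¹ * h) := by group
  obtain ⟨hP, haX, heps⟩ := p3_mul t1 (t1⁻¹ * h) (h24_t1_inP3 t1 ht1) hnP
  rw [← hh] at hP haX heps
  obtain ⟨hd1, he1⟩ := split_B h hO hP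
  rw [haX, Matrix.det_mul, h24_t1_det t1 ht1, hndet] at hd1
  rw [h24_t1_eps t1 ht1, one_mul] at heps
  rw [← heps, he1] at hd1
  revert hd1
  decide

theorem split_C (r3 r4 h : GO) (h3 : Rep r3 (rep 3)) (h4 : Rep r4 (rep 4)) (hO : h ∈ Om) :
    h * r3 * h⁻¹ ≠ r4 ∧ h * r3 * h⁻¹ ≠ r4 ^ 2 := by
  obtain ⟨t1, ht1⟩ := h28_exists_rep t1m (by decide)
  have hconj : t1 * r3 = r4 * t1 := by
    refine rep_ext (rep_mul ht1 h3) ?_
    have hmm : mm t1m (rep 3) = mm (rep 4) t1m := by decide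
    rw [hmm]
    exact rep_mul h4 ht1
  have hr3 : t1⁻¹ * r4 * t1 = r3 := by
    rw [mul_assoc, ← hconj, ← mul_assoc, inv_mul_cancel, one_mul]
  constructor
  · intro he
    refine h24_split_core r3 h t1 h3 hO ht1 (Or.inl ?_)
    have : (t1⁻¹ * h) * r3 * (t1⁻¹ * h)⁻¹ = t1⁻¹ * (h * r3 * h⁻¹) * t1 := by group
    rw [this, he, hr3]
  · intro he
    refine h24_split_core r3 h t1 h3 hO ht1 (Or.inr ?_)
    have : (t1⁻¹ * h) * r3 * (t1⁻¹ * h)⁻¹ = t1⁻¹ * (h * r3 * h⁻¹) * t1 := by group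
    rw [this, he, ← hr3, pow_two, pow_two]
    group

end Cfsg.Agent.Lib.Helper28.O73C
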