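import Mathlib
import Cfsg.Agent.Lib.Helper16.O7F.Defs

set_option autoImplicit false

namespace Cfsg.Agent.Lib.Helper24.O7F

open Cfsg.Agent.Lib.Helper16.O7F Equiv Matrix Cfsg.Agent.Lib.Helper5.OSyl

section
variable (F : Type*) [Field F]

theorem intUnit_cast_ne_zero (u : ℤˣ) : (((u : ℤˣ) : ℤ) : F) ≠ 0 := by
  rcases Int.units_eq_one_or u with h | h
  · rw [h]; simp
  · rw [h]; simp

theorem intUnit_cast_mul_self (u : ℤˣ) : (((u : ℤˣ) : ℤ) : F) * (((u : ℤˣ) : ℤ) : F) = 1 := by
  rcases Int.units_eq_one_or u with h | h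
  · rw [h]; simp
  · rw [h]; simp

theorem intUnit_cast_eq_one (h2 : (2 : F) ≠ 0) (u : ℤˣ) (h : (((u : ℤˣ) : ℤ) : F) = 1) :
    u = 1 := by
  rcases Int.units_eq_one_or u with h' | h'
  · exact h'
  · exfalso
    rw [h'] at h
    apply h2
    have h3 : (-1 : F) = 1 := by simpa using h
    have : (2 : F) = 1 - (-1) := by ring
    rw [this, h3]; ring

theorem rho_injective (h2 : (2 : F) ≠ 0) : Function.Injective (rho F) := by
  rw [injective_iff_map_eq_one]
  intro x hx
  have hm : monMat F x = 1 := by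
    rw [← rho_coe, hx]; rfl
  have hr : ∀ j, x.right j = j := by
    intro j
    by_contra hne
    have h1 : monMat F x (x.right j) j = (1 : Matrix (Fin 7) (Fin 7) F) (x.right j) j := by rw [hm]
    rw [monMat_apply, if_pos rfl, Matrix.one_apply_ne hne] at h1
    exact intUnit_cast_ne_zero F _ h1
  have hl : ∀ i, x.left i = 1 := by
    intro i
    have h1 : monMat F x i i = (1 : Matrix (Fin 7) (Fin 7) F) i i := by rw [hm]
    rw [monMat_apply, if_pos (hr i).symm, Matrix.one_apply_eq] at h1
    exact intUnit_cast_eq_one F h2 _ h1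
  apply SemidirectProduct.ext
  · funext i; exact hl i
  · ext j; rw [hr j]; rfl

theorem monMat_transpose_mul (x : SP) : (monMat F x)ᵀ * monMat F x = 1 := by
  ext j k
  rw [Matrix.mul_apply]
  simp only [Matrix.transpose_apply, monMat_apply]
  rw [Finset.sum_eq_single (x.right j)]
  · rw [if_pos rfl]
    by_cases h : j = k
    · subst h
      rw [if_pos rfl, Matrix.one_apply_eq]
      exact intUnit_cast_mul_self F _
    · have : ¬ x.right j = x.right k := fun hh => h (x.right.injective hh)
      rw [if_neg this, Matrix.one_apply_ne h, mul_zero]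
  · intro i _ hi
    rw [if_neg hi, zero_mul]
  · intro h
    exact absurd (Finset.mem_univ _) h

theorem rho_mem_O7 (x : SP) : rho F x ∈ O7 F := by
  apply mem_iso_sq_of_orth
  rw [rho_coe]
  exact monMat_transpose_mul F x

theorem monMat_eq_diag_mul_perm (x : SP) :
    monMat F x = Matrix.diagonal (fun i => (((x.left i : ℤˣ) : ℤ) : F)) *
      (x.right⁻¹).permMatrix F := by
  ext i j
  rw [Matrix.diagonal_mul, monMat_apply]
  rw [Equiv.Perm.permMatrix, Equiv.toPEquiv, PEquiv.toMatrix_apply]
  by_cases h : i = x.right j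
  · have : j = x.right⁻¹ i := by rw [h]; simp
    simp [h]
  · have : ¬ (Equiv.symm x.right) i = j := by
      intro hh; apply h; rw [← hh]; simp
    simp [h, this]

theorem det_monMat (x : SP) :
    Matrix.det (monMat F x) = (((signHom x * prodHom x : ℤˣ) : ℤ) : F) := by
  rw [monMat_eq_diag_mul_perm, Matrix.det_mul, Matrix.det_diagonal, Matrix.det_permutation,
    signHom_apply, prodHom_apply]
  rw [Equiv.Perm.sign_inv, mul_comm]
  push_cast
  rfl

theorem monMat_mulVec_single (x : SP) (j : Fin 7) :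
    monMat F x *ᵥ Pi.single j 1 =
      Pi.single (x.right j) ((((x.left (x.right j) : ℤˣ) : ℤ) : F)) := by
  rw [Matrix.mulVec_single_one]
  funext i
  rw [Matrix.col_apply, monMat_apply]
  by_cases h : i = x.right j
  · subst h; rw [if_pos rfl, Pi.single_eq_same]
  · rw [if_neg h, Pi.single_eq_of_ne h]

theorem A7_le_O7 : A7 F ≤ O7 F := by
  exact Subgroup.map_subtype_le _

theorem det_of_mem_A7 (g : Matrix.GeneralLinearGroup (Fin 7) F) (hg : g ∈ A7 F) :
    Matrix.det (g : Matrix (Fin 7) (Fin 7) F) = 1 := by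
  have hg0 : g ∈ (Cfsg.Omega F (sqForm (Fin 7) F)).map
      (Cfsg.isometryGroup F (sqForm (Fin 7) F)).subtype := hg
  obtain ⟨g', hg', rfl⟩ := hg0
  let φ : ↥(Cfsg.isometryGroup F (sqForm (Fin 7) F)) →* Fˣ :=
    (Matrix.GeneralLinearGroup.det).comp (Cfsg.isometryGroup F (sqForm (Fin 7) F)).subtype
  have hk : g' ∈ φ.ker := Abelianization.commutator_subset_ker φ hg'
  rw [MonoidHom.mem_ker] at hk
  have h0 : φ g' = Matrix.GeneralLinearGroup.det
      ((Cfsg.isometryGroup F (sqForm (Fin 7) F)).subtype g') := rfl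
  rw [h0] at hk
  have h1 := congrArg (fun u : Fˣ => (u : F)) hk
  simp only [Matrix.GeneralLinearGroup.val_det_apply, Units.val_one] at h1
  exact h1

end

end Cfsg.Agent.Lib.Helper24.O7F
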