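import Mathlib
import Cfsg.Agent.Lib.Helper16.O9H.Defs

set_option autoImplicit false

namespace Cfsg.Agent.Lib.Helper16.O9H

open Matrix Polynomial Module

variable {ι : Type} [Fintype ι] [DecidableEq ι] {F : Type*} [Field F]

theorem ker_of_dvd (g : GL ι F) (f P : F[X]) (hfP : f ∣ P) (x : ι → F) (hx : x ∈ kerP g f) :
    aeval (linOf g) P x = 0 := by
  obtain ⟨P', rfl⟩ := hfP
  have h0 : aeval (linOf g) f x = 0 := LinearMap.mem_ker.mp hx
  rw [mul_comm, map_mul, Module.End.mul_apply, h0, map_zero]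

end Cfsg.Agent.Lib.Helper16.O9H
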