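import Mathlib
import Cfsg.Agent.Lib.Helper16.O9H.Defs

set_option autoImplicit false

namespace Cfsg.Agent.Lib.Helper16.O9H

open Matrix Polynomial Module

variable {ι : Type} [Fintype ι] [DecidableEq ι] {F : Type*} [Field F]

theorem o9hkpow_pow_apply (g : GL ι F) (n : ℕ) (x : ι → F) :
    (linOf g ^ n) x = ((g ^ n : GL ι F) : Matrix ι ι F) *ᵥ x := by
  rw [Units.val_pow_eq_pow_val, ← Matrix.toLin'_apply, Matrix.toLin'_pow]

theorem aeval_pow_sub (g : GL ι F) (n : ℕ) (x : ι → F) :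
    aeval (linOf g) (X ^ n - 1 : F[X]) x = ((g ^ n : GL ι F) : Matrix ι ι F) *ᵥ x - x := by
  rw [map_sub, map_pow, aeval_X, map_one, LinearMap.sub_apply, Module.End.one_apply,
    o9hkpow_pow_apply]

end Cfsg.Agent.Lib.Helper16.O9H
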