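import Mathlib

set_option autoImplicit false
set_option linter.unusedVariables false

namespace Cfsg.Agent.Lib.Helper1.ODN

theorem odnarith8_sq (q : ℕ) (hq : Odd q) : ((q : ℤ)) ^ 2 % 8 = 1 := by
  obtain ⟨k, rfl⟩ := hq
  push_cast
  have h1 : (2 * (k : ℤ) + 1) ^ 2 = 4 * ((k : ℤ) * (k + 1)) + 1 := by ring
  rw [h1]
  have h2 : (2 : ℤ) ∣ (k : ℤ) * (k + 1) := (Int.even_mul_succ_self (k : ℤ)).two_dvd
  obtain ⟨m, hm⟩ := h2
  rw [hm]
  omega

theorem odnarith8_pow (q d : ℕ) (hq : Odd q) :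
    (q : ℤ) ^ d % 8 = if Even d then 1 else (q : ℤ) % 8 := by
  have hsq := odnarith8_sq q hq
  have hk : ∀ k : ℕ, ((q : ℤ) ^ 2) ^ k % 8 = 1 := by
    intro k
    induction k with
    | zero => simp
    | succ k ih =>
      rw [pow_succ, Int.mul_emod, ih, hsq]
      rfl
  rcases Nat.even_or_odd' d with ⟨k, rfl | rfl⟩
  · rw [if_pos (by simp), pow_mul, hk]
  · rw [if_neg (by simp [parity_simps]), pow_succ, pow_mul, Int.mul_emod, hk]
    simp

theorem odn_arith_eight (q d : ℕ) (hq : Odd q) (hd : 1 ≤ d) (ε : ℤ) (hε : ε = 1 ∨ ε = -1) :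
    (8 : ℤ) ∣ (q : ℤ) ^ (d - 1) * ((q : ℤ) ^ d - ε) ↔
      ((ε = 1 ∧ (Even d ∨ q % 8 = 1)) ∨ (ε = -1 ∧ Odd d ∧ q % 8 = 7)) := by
  have hcop : IsCoprime (8 : ℤ) ((q : ℤ) ^ (d - 1)) := by
    have h2 : IsCoprime (2 : ℤ) (q : ℤ) := by
      obtain ⟨k, rfl⟩ := hq
      refine ⟨-(k : ℤ), 1, ?_⟩
      push_cast
      ring
    have h8 : IsCoprime ((2 : ℤ) ^ 3) (q : ℤ) := h2.pow_left
    have : ((2 : ℤ) ^ 3) = 8 := by norm_num
    rw [this] at h8
    exact h8.pow_right
  have hiff : (8 : ℤ) ∣ (q : ℤ) ^ (d - 1) * ((q : ℤ) ^ d - ε) ↔ (8 : ℤ) ∣ (q : ℤ) ^ d - ε := by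
    constructor
    · intro h
      exact hcop.dvd_of_dvd_mul_left h
    · intro h
      exact Dvd.dvd.mul_left h _
  rw [hiff]
  have hp := odnarith8_pow q d hq
  have hq8 : ((q : ℤ) % 8) = ((q % 8 : ℕ) : ℤ) := by push_cast; rfl
  have hqo : q % 2 = 1 := Nat.odd_iff.mp hq
  generalize (q : ℤ) ^ d = X at hp ⊢
  by_cases hev : Even d
  · rw [if_pos hev] at hp
    have hno : ¬ Odd d := by simpa using hev
    rcases hε with rfl | rfl
    · constructor
      · intro _
        exact Or.inl ⟨rfl, Or.inl hev⟩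
      · intro _
        omega
    · constructor
      · intro h
        omega
      · rintro (⟨h, _⟩ | ⟨_, h, _⟩)
        · omega
        · exact absurd h hno
  · rw [if_neg hev] at hp
    have hod : Odd d := by simpa using hev
    rcases hε with rfl | rfl
    · constructor
      · intro h
        refine Or.inl ⟨rfl, Or.inr ?_⟩
        omega
      · rintro (⟨_, h | h⟩ | ⟨h, _⟩)
        · exact absurd h hev
        · omega
        · omega
    · constructor
      · intro h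
        refine Or.inr ⟨rfl, hod, ?_⟩
        omega
      · rintro (⟨h, _⟩ | ⟨_, _, h⟩)
        · omega
        · omega

end Cfsg.Agent.Lib.Helper1.ODN
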