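import Mathlib
import Cfsg.Agent.Lib.Helper1.ODN.Defs
import Cfsg.Agent.Lib.Helper24.ODNNECSTDcore
import Cfsg.Agent.Lib.helper8.ODNCORNERABS
import Cfsg.Agent.Lib.Helper20.ODNMAXEL

set_option autoImplicit false
set_option linter.unusedVariables false

namespace Cfsg.Agent.Lib.Helper1.ODN

open Polynomial Module Cfsg.Agent.Lib.Helper13.S5955 Cfsg.Agent.Lib.helper15.S5972 Cfsg.Agent.Lib.Helper18.ONE
  Cfsg.Agent.Lib.Helper16.OSemi

theorem odn_nec_std {F : Type*} [Field F] [Fintype F] {p : ℕ} [Fact p.Prime] [CharP F p]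
    (hodd : Odd (Fintype.card F)) {ι : Type} [Fintype ι] [DecidableEq ι] (Q : QuadraticForm F (ι → F))
    (hQ : (QuadraticMap.polarBilin Q).Nondegenerate) (d m : ℕ) (hd : 4 ≤ d)
    (hcard : Fintype.card ι = 2 * d) (ε : ℤ) (hε : ε = 1 ∨ ε = -1) (htyQ : IsType (⇑Q) d ε)
    (hm : Odd m) (hmd : m < d) (W₀ : Submodule F (ι → F))
    (hW₀ : finrank F ↥W₀ = m ∧ Cfsg.Geo.IsNondegenerateOn (QuadraticMap.polar (⇑Q)) W₀)
    (r : ℕ) [Fact r.Prime] (hrp : r ≠ p) (hr2 : r ≠ 2) (i c : ℕ)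
    (hi : i = orderOf ((Fintype.card F : ℕ) : ZMod r)) (hc : c = if Even i then i else 2 * i)
    (hrΩ : r ∣ Nat.card {W : Submodule F (ι → F) // finrank F ↥W = m ∧
        Cfsg.Geo.IsNondegenerateOn (QuadraticMap.polar (⇑Q)) W ∧ Cfsg.Geo.AreIsometricFor (⇑Q) W W₀})
    (hall : ∀ x : GL ι F, x ∈ Cfsg.Geo.omegaGL (⇑Q) →
      (∃ z : F, ((x ^ r : GL ι F) : Matrix ι ι F) = z • (1 : Matrix ι ι F)) →
      (∀ z : F, (x : Matrix ι ι F) ≠ z • (1 : Matrix ι ι F)) →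
      ∃ W : Submodule F (ι → F), (finrank F ↥W = m ∧ Cfsg.Geo.IsNondegenerateOn (QuadraticMap.polar (⇑Q)) W ∧
        Cfsg.Geo.AreIsometricFor (⇑Q) W W₀) ∧ W.map (Matrix.toLin' (x : Matrix ι ι F)) ≤ W) :
    ODC i c d m ε := by
  have h2 : (2 : F) ≠ 0 := odnsuffstd_two hodd
  have hp2 : p ≠ 2 := by
    rintro rfl
    apply h2
    exact_mod_cast CharP.cast_eq_zero F 2
  have hm1 : 1 ≤ m := by
    obtain ⟨j, hj⟩ := hm
    omega
  have hW₀nd : SND (QuadraticMap.polarBilin Q) W₀ := (odn_frozen h2 Q W₀ W₀).1.mp hW₀.2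
  refine odnnecstd_core hodd Q hQ d m hd hcard ε hε htyQ hm hmd W₀ hW₀ r hrp hr2 i c hi hc hrΩ hall ?_ ?_
  · intro hcd hadm
    exact odn_maxel hp2 r hrp hr2 i c hi hc Q hQ d (by omega) hcard ε hε htyQ hcd hadm
  · intro x hx h1 h3
    exact odn_corner_abs h2 hrp hr2 hx m i c hm1 hi hc h1 h3 W₀ hW₀nd hW₀.1

end Cfsg.Agent.Lib.Helper1.ODN
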