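import Mathlib
import Cfsg.Agent.Lib.Helper1.ODN.Defs

set_option autoImplicit false
set_option linter.unusedVariables false

namespace Cfsg.Agent.Lib.Helper1.ODN

theorem odnodc_mod_pos (i c m : ℕ) (hc : c = if Even i then i else 2 * i) (hm : Odd m) :
    0 < m % c := by
  have hc2 : 2 ∣ c := by
    rw [hc]
    split_ifs with h
    · exact h.two_dvd
    · exact Dvd.intro _ rfl
  have h1 := Nat.mod_mod_of_dvd m hc2
  have h2 := Nat.odd_iff.mp hm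
  omega

theorem odc_iff_89 (i c d m r p q : ℕ) (hi1 : 1 ≤ i) (hc : c = if Even i then i else 2 * i)
    (h2r : 2 < r) (hrp : r ≠ p) (hm : Odd m) :
    ODC i c d m 1 ↔
      ((r = 2 ∧ Odd d ∧ q % 8 ≠ 1) ∨
       (r ≠ p ∧ 2 < r ∧ Odd i ∧ c ≤ m ∧ 0 < m % c ∧ m % c < (2 * d) % c) ∨
       (r ≠ p ∧ 2 < r ∧ Even i ∧ (((2 * d) % c = 0 ∧ Odd ((2 * d) / i)) ∨ (i ≤ m ∧ 0 < m % c ∧ m % c < (2 * d) % c)))) := by
  have hmc := odnodc_mod_pos i c m hc hm
  unfold ODC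
  by_cases hi : Even i
  · have hno : ¬ Odd i := by simpa using hi
    rw [if_pos hi] at hc
    subst hc
    constructor
    · rintro (⟨h1, h2, h3⟩ | ⟨h1, h2⟩)
      · exact Or.inr (Or.inr ⟨hrp, h2r, hi, Or.inr ⟨h3, hmc, h2⟩⟩)
      · refine Or.inr (Or.inr ⟨hrp, h2r, hi, Or.inl ⟨h1, ?_⟩⟩)
        rw [← Nat.not_even_iff_odd]
        intro hev
        exact h2 ⟨fun _ => Or.inr hev, fun _ => rfl⟩
    · rintro (⟨h, _⟩ | ⟨_, _, ho, _⟩ | ⟨_, _, _, ⟨h1, h2⟩ | ⟨h1, h2, h3⟩⟩)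
      · omega
      · exact absurd ho hno
      · refine Or.inr ⟨h1, ?_⟩
        rintro ⟨h, _⟩
        rcases h rfl with h | h
        · exact hno h
        · exact (Nat.not_even_iff_odd.mpr h2) h
      · exact Or.inl ⟨by omega, h3, h1⟩
  · have hod : Odd i := by simpa using hi
    rw [if_neg hi] at hc
    constructor
    · rintro (⟨h1, h2, h3⟩ | ⟨h1, h2⟩)
      · exact Or.inr (Or.inl ⟨hrp, h2r, hod, h3, hmc, h2⟩)
      · exact absurd ⟨fun _ => Or.inl hod, fun _ => rfl⟩ h2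
    · rintro (⟨h, _⟩ | ⟨_, _, _, h1, h2, h3⟩ | ⟨_, _, he, _⟩)
      · omega
      · exact Or.inl ⟨by omega, h3, h1⟩
      · exact absurd he hi

end Cfsg.Agent.Lib.Helper1.ODN
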