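import Mathlib
import Cfsg.Agent.Lib.Helper1.ODN.Defs
import Cfsg.Agent.Lib.Helper24.ODNODC89

set_option autoImplicit false
set_option linter.unusedVariables false

namespace Cfsg.Agent.Lib.Helper1.ODN

theorem odc_iff_91 (i c d m r p q : ℕ) (hi1 : 1 ≤ i) (hc : c = if Even i then i else 2 * i)
    (h2r : 2 < r) (hrp : r ≠ p) (hm : Odd m) :
    ODC i c d m (-1) ↔
      ((r = 2 ∧ (Even d ∨ q % 8 ≠ 7)) ∨
       (r ≠ p ∧ 2 < r ∧ Odd i ∧ ((2 * d) % c = 0 ∨ (c ≤ m ∧ 0 < m % c ∧ m % c < (2 * d) % c))) ∨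
       (r ≠ p ∧ 2 < r ∧ Even i ∧ (((2 * d) % c = 0 ∧ Even ((2 * d) / i)) ∨ (0 < (2 * d) % c ∧ i ≤ m ∧ 0 < m % c ∧ m % c < (2 * d) % c)))) := by
  have hmc := odnodc_mod_pos i c m hc hm
  have hneg : ¬ ((-1 : ℤ) = 1) := by decide
  unfold ODC
  by_cases hi : Even i
  · have hno : ¬ Odd i := by simpa using hi
    rw [if_pos hi] at hc
    subst hc
    constructor
    · rintro (⟨h1, h2, h3⟩ | ⟨h1, h2⟩)
      · exact Or.inr (Or.inr ⟨hrp, h2r, hi, Or.inr ⟨h1, h3, hmc, h2⟩⟩)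
      · refine Or.inr (Or.inr ⟨hrp, h2r, hi, Or.inl ⟨h1, ?_⟩⟩)
        by_contra hev
        apply h2
        constructor
        · intro h
          exact absurd h hneg
        · rintro (h | h)
          · exact absurd h hno
          · exact absurd h hev
    · rintro (⟨h, _⟩ | ⟨_, _, ho, _⟩ | ⟨_, _, _, ⟨h1, h2⟩ | ⟨h0, h1, h2, h3⟩⟩)
      · omega
      · exact absurd ho hno
      · refine Or.inr ⟨h1, ?_⟩
        rintro ⟨_, h⟩
        exact hneg (h (Or.inr h2))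
      · exact Or.inl ⟨h0, h3, h1⟩
  · have hod : Odd i := by simpa using hi
    rw [if_neg hi] at hc
    constructor
    · rintro (⟨h1, h2, h3⟩ | ⟨h1, h2⟩)
      · exact Or.inr (Or.inl ⟨hrp, h2r, hod, Or.inr ⟨h3, hmc, h2⟩⟩)
      · exact Or.inr (Or.inl ⟨hrp, h2r, hod, Or.inl h1⟩)
    · rintro (⟨h, _⟩ | ⟨_, _, _, h1 | ⟨h1, h2, h3⟩⟩ | ⟨_, _, he, _⟩)
      · omega
      · refine Or.inr ⟨h1, ?_⟩
        rintro ⟨_, h⟩
        exact hneg (h (Or.inl hod))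
      · exact Or.inl ⟨by omega, h3, h1⟩
      · exact absurd he hi

end Cfsg.Agent.Lib.Helper1.ODN
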