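import Mathlib

set_option autoImplicit false
set_option linter.unusedVariables false

namespace Cfsg.Agent.Lib.Helper1.ODN

theorem odn_perm_four {S : Type*} [Fintype S] [DecidableEq S] (σ : Equiv.Perm S)
    (h4 : ∀ v, σ (σ (σ (σ v))) = v) (h2 : ∀ v, σ (σ v) ≠ v) (hs : Equiv.Perm.sign σ = 1) :
    8 ∣ Fintype.card S := by
  have hpow : σ ^ 4 = 1 := by
    ext v
    simp [pow_succ, h4]
  have hall : ∀ n ∈ σ.cycleType, n = 4 := by
    intro n hn
    have hdvd : n ∣ 4 :=
      (Equiv.Perm.dvd_of_mem_cycleType hn).trans (orderOf_dvd_of_pow_eq_one hpow)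
    have h2le := Equiv.Perm.two_le_of_mem_cycleType hn
    have hne2 : n ≠ 2 := by
      rintro rfl
      rw [Equiv.Perm.cycleType_def] at hn
      obtain ⟨c, hc, hcard⟩ := Multiset.mem_map.mp hn
      obtain ⟨hcyc, hca⟩ := Equiv.Perm.mem_cycleFactorsFinset_iff.mp hc
      obtain ⟨a, ha⟩ := hcyc.nonempty_support
      have hord : orderOf c = 2 := by
        rw [hcyc.orderOf]
        exact hcard
      have hcc : c (c a) = a := by
        have h1 : c ^ 2 = 1 := by
          rw [← hord]
          exact pow_orderOf_eq_one c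
        have h3 := congrArg (fun f => f a) h1
        simpa [pow_two] using h3
      have h1 : c a = σ a := hca a ha
      have h3 : c (c a) = σ (c a) := hca (c a) (Equiv.Perm.apply_mem_support.mpr ha)
      exact h2 a (by rw [← h1, ← h3, hcc])
    have hle : n ≤ 4 := Nat.le_of_dvd (by norm_num) hdvd
    interval_cases n
    · exact absurd rfl hne2
    · omega
    · rfl
  have hrep : σ.cycleType = Multiset.replicate (Multiset.card σ.cycleType) 4 :=
    Multiset.eq_replicate.mpr ⟨rfl, hall⟩
  have hsupp : σ.support = Finset.univ := by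
    ext v
    simp only [Equiv.Perm.mem_support, Finset.mem_univ, iff_true]
    intro hv
    exact h2 v (by rw [hv, hv])
  have hsum : σ.cycleType.sum = Fintype.card S := by
    rw [Equiv.Perm.sum_cycleType, hsupp, Finset.card_univ]
  have hsign0 := Equiv.Perm.sign_of_cycleType σ
  generalize Multiset.card σ.cycleType = k at hrep
  rw [hrep] at hsum hsign0
  have hk4 : Fintype.card S = 4 * k := by
    rw [← hsum]
    simp [mul_comm]
  have hsign : Equiv.Perm.sign σ = (-1) ^ k := by
    rw [hsign0]
    simp only [Multiset.sum_replicate, Multiset.card_replicate, smul_eq_mul]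
    rw [pow_add, pow_mul]
    have h1 : ((-1 : ℤˣ)) ^ 4 = 1 := by decide
    rw [← pow_mul, mul_comm k 4, pow_mul, h1, one_pow, one_mul]
  rw [hsign] at hs
  have hkev : Even k := by
    by_contra hodd
    rw [Nat.not_even_iff_odd] at hodd
    rw [hodd.neg_one_pow] at hs
    exact absurd hs (by decide)
  obtain ⟨j, hj⟩ := hkev
  exact ⟨j, by omega⟩

end Cfsg.Agent.Lib.Helper1.ODN
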