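import Mathlib
import Cfsg.Agent.Lib.Helper1.ODN.Defs
import Cfsg.Agent.Lib.Helper16.SpinB
import Cfsg.Agent.Lib.Helper24.ODNPERM4

set_option autoImplicit false
set_option linter.unusedVariables false

namespace Cfsg.Agent.Lib.Helper1.ODN

open Matrix Cfsg.Agent.Lib.Helper16

theorem odn_sign {F : Type*} [Field F] [Fintype F] (h2 : (2 : F) ≠ 0) {ι : Type} [Fintype ι] [DecidableEq ι]
    (Q : (ι → F) → F) (hQ0 : Q 0 = 0) (x : GL ι F) (hx : x ∈ Cfsg.Geo.omegaGL Q)
    (hx2 : (x : Matrix ι ι F) * (x : Matrix ι ι F) = -1) :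
    8 ∣ Nat.card {v : ι → F // Q v = 1} := by
  obtain ⟨g, hg, rfl⟩ := hx
  have hker : spinSign Q 1 g = 1 := MonoidHom.mem_ker.mp (omega_le_ker Q (spinSign Q 1) hg)
  rw [spinSign_apply] at hker
  have hval : ∀ v : LevelSet Q 1,
      ((MulAction.toPerm g : Equiv.Perm (LevelSet Q 1)) v).1 =
        ((g : Matrix.GeneralLinearGroup ι F) : Matrix ι ι F) *ᵥ v.1 := fun v => rfl
  have hsq : ∀ v : LevelSet Q 1,
      ((MulAction.toPerm g : Equiv.Perm (LevelSet Q 1))
        ((MulAction.toPerm g : Equiv.Perm (LevelSet Q 1)) v)).1 = - v.1 := by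
    intro v
    rw [hval, hval, Matrix.mulVec_mulVec]
    change ((((isometryGroup F Q).subtype g : GL ι F) : Matrix ι ι F) *
      (((isometryGroup F Q).subtype g : GL ι F) : Matrix ι ι F)) *ᵥ v.1 = - v.1
    rw [hx2, Matrix.neg_mulVec, Matrix.one_mulVec]
  have h8 := odn_perm_four (MulAction.toPerm g : Equiv.Perm (LevelSet Q 1)) ?_ ?_ hker
  · change 8 ∣ Nat.card (LevelSet Q 1)
    rw [Nat.card_eq_fintype_card]
    exact h8
  · intro v
    apply Subtype.ext
    rw [hsq, hsq, neg_neg]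
  · intro v hv
    have h1 := congrArg Subtype.val hv
    rw [hsq] at h1
    have h3 : v.1 = 0 := by
      funext i
      have h4 := congrFun h1 i
      simp only [Pi.neg_apply] at h4
      have h5 : (2 : F) * v.1 i = 0 := by
        rw [two_mul]
        nth_rewrite 1 [← h4]
        exact neg_add_cancel _
      rcases mul_eq_zero.mp h5 with h | h
      · exact absurd h h2
      · exact h
    have h6 := v.2
    rw [h3, hQ0] at h6
    exact zero_ne_one h6

end Cfsg.Agent.Lib.Helper1.ODN
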