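import Mathlib
import Cfsg.Agent.Lib.Helper1.ODN.Defs
import Cfsg.Agent.Lib.Helper5.S5955T7

set_option autoImplicit false
set_option linter.unusedVariables false

namespace Cfsg.Agent.Lib.Helper1.ODN

open Polynomial Module Cfsg.Agent.Lib.Helper13.S5955 Cfsg.Agent.Lib.helper15.S5972 Cfsg.Agent.Lib.Helper18.ONE

theorem odn_sq_neg {F : Type*} [Field F] (h2 : (2 : F) ≠ 0) {V : Type*} [AddCommGroup V] [Module F V]
    [FiniteDimensional F V] (B : LinearMap.BilinForm F V) (hsymm : ∀ u v, B u v = B v u)
    (x : Module.End F V) (hpres : ∀ u v, B (x u) (x v) = B u v) (hx : ∀ v, x (x v) = -v)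
    (W : Submodule F V) (hW : SInv x W) (hWnd : SND B W) : Even (finrank F W) := by
  have halt : ∀ v, (B.comp LinearMap.id x) v v = 0 := by
    intro v
    rw [LinearMap.BilinForm.comp_apply, LinearMap.id_apply]
    have h1 : B v (x v) = - B v (x v) := by
      calc B v (x v) = B (x v) (x (x v)) := (hpres v (x v)).symm
        _ = B (x v) (-v) := by rw [hx]
        _ = - B (x v) v := by rw [map_neg]
        _ = - B v (x v) := by rw [hsymm]
    have h3 : (2 : F) * B v (x v) = 0 := by
      rw [two_mul]
      nth_rewrite 1 [h1]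
      exact neg_add_cancel _
    rcases mul_eq_zero.mp h3 with h | h
    · exact absurd h h2
    · exact h
  have hnd : SND (B.comp LinearMap.id x) W := by
    intro u hu hall
    apply hWnd u hu
    intro w hw
    have hxw : x (-w) ∈ W := hW (-w) (W.neg_mem hw)
    have h1 := hall (x (-w)) hxw
    rw [LinearMap.BilinForm.comp_apply, LinearMap.id_apply, hx, neg_neg] at h1
    exact h1
  exact nd_even (B.comp LinearMap.id x) halt W hnd

end Cfsg.Agent.Lib.Helper1.ODN
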