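import Mathlib
import Cfsg.Agent.Lib.Helper18.OPE.Defs2
import Cfsg.Agent.Lib.Helper16.PlusFam

set_option autoImplicit false
set_option linter.unusedVariables false

namespace Cfsg.Agent.Lib.Helper18.OPE

open Polynomial Module Cfsg.Agent.Lib.Helper13.S5955 Cfsg.Agent.Lib.helper15.S5972
open scoped Matrix

theorem opestdctx_pow {ι : Type} [Fintype ι] [DecidableEq ι] {F : Type*} [Field F] (x : GL ι F) (r : ℕ) :
    (Matrix.toLin' (x : Matrix ι ι F)) ^ r = Matrix.toLin' ((x ^ r : GL ι F) : Matrix ι ι F) := by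
  induction r with
  | zero =>
    rw [pow_zero, pow_zero, Units.val_one, Matrix.toLin'_one]
    rfl
  | succ n ih =>
    rw [pow_succ, pow_succ, ih, Units.val_mul, Matrix.toLin'_mul]
    rfl

theorem opestdctx_polar {F : Type*} [Field F] {V : Type*} [AddCommGroup V] [Module F V]
    (Q : QuadraticForm F V) (y : Module.End F V) (hy : ∀ v, Q (y v) = Q v) (u v : V) :
    QuadraticMap.polar Q (y u) (y v) = QuadraticMap.polar Q u v := by
  unfold QuadraticMap.polar
  rw [← map_add, hy, hy, hy]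

theorem std_qctx {F : Type*} [Field F] (d r : ℕ) (x : GL (Fin d ⊕ Fin d) F)
    (hx : x ∈ Cfsg.isometryGroup F (Cfsg.quadFormPlus d F)) (hxr : x ^ r = 1) :
    QCtx r (Cfsg.Agent.Lib.Helper16.qfPlus d F)
      (Matrix.toLin' (x : Matrix (Fin d ⊕ Fin d) (Fin d ⊕ Fin d) F)) := by
  refine ⟨?_, ?_, ?_⟩
  · intro u hu
    exact (Cfsg.Agent.Lib.Helper16.qfPlus_nondeg d F).1 u hu
  · intro v
    rw [Matrix.toLin'_apply]
    exact hx v v
  · rw [opestdctx_pow, hxr, Units.val_one, Matrix.toLin'_one]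
    rfl

theorem std_realize {F : Type*} [Field F] (d r : ℕ) (y : Module.End F (Fin d ⊕ Fin d → F))
    (h : QCtx r (Cfsg.Agent.Lib.Helper16.qfPlus d F) y) :
    ∃ x : GL (Fin d ⊕ Fin d) F, x ∈ Cfsg.isometryGroup F (Cfsg.quadFormPlus d F) ∧
      Matrix.toLin' (x : Matrix (Fin d ⊕ Fin d) (Fin d ⊕ Fin d) F) = y ∧ x ^ r = 1 := by
  classical
  have hinj : Function.Injective y := by
    rw [← LinearMap.ker_eq_bot, LinearMap.ker_eq_bot']
    intro u hu
    apply h.nd
    intro v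
    rw [QuadraticMap.polarBilin_apply_apply,
      ← opestdctx_polar (Cfsg.Agent.Lib.Helper16.qfPlus d F) y h.pres u v, hu]
    simp
  have hbij : Function.Bijective y := ⟨hinj, LinearMap.surjective_of_injective hinj⟩
  let e : (Fin d ⊕ Fin d → F) ≃ₗ[F] (Fin d ⊕ Fin d → F) := LinearEquiv.ofBijective y hbij
  let M : Matrix (Fin d ⊕ Fin d) (Fin d ⊕ Fin d) F := LinearMap.toMatrix' y
  let Mi : Matrix (Fin d ⊕ Fin d) (Fin d ⊕ Fin d) F :=
    LinearMap.toMatrix' (e.symm : (Fin d ⊕ Fin d → F) →ₗ[F] (Fin d ⊕ Fin d → F))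
  have h1 : M * Mi = 1 := by
    rw [← LinearMap.toMatrix'_comp, ← LinearMap.toMatrix'_id]
    congr 1
    apply LinearMap.ext
    intro v
    exact e.apply_symm_apply v
  have h2' : Mi * M = 1 := by
    rw [← LinearMap.toMatrix'_comp, ← LinearMap.toMatrix'_id]
    congr 1
    apply LinearMap.ext
    intro v
    exact e.symm_apply_apply v
  let x : GL (Fin d ⊕ Fin d) F := ⟨M, Mi, h1, h2'⟩
  have hxy : Matrix.toLin' (x : Matrix (Fin d ⊕ Fin d) (Fin d ⊕ Fin d) F) = y :=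
    Matrix.toLin'_toMatrix' y
  refine ⟨x, ?_, hxy, ?_⟩
  · intro v _
    have hv : (x : Matrix (Fin d ⊕ Fin d) (Fin d ⊕ Fin d) F) *ᵥ v = y v := by
      rw [← Matrix.toLin'_apply, hxy]
    change Cfsg.quadFormPlus d F ((x : Matrix (Fin d ⊕ Fin d) (Fin d ⊕ Fin d) F) *ᵥ v) =
      Cfsg.quadFormPlus d F v
    rw [hv]
    exact h.pres v
  · apply Units.ext
    rw [Units.val_pow_eq_pow_val, Units.val_one]
    apply Matrix.toLin'.injective
    have hp := opestdctx_pow x r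
    rw [hxy, h.pow] at hp
    rw [← Units.val_pow_eq_pow_val, ← hp, Matrix.toLin'_one]
    rfl

theorem std_facts {F : Type*} [Field F] [Fintype F] (d : ℕ) :
    finrank F (Fin d ⊕ Fin d → F) = 2 * d ∧
      QTy (Cfsg.Agent.Lib.Helper16.qfPlus d F) (⊤ : Submodule F (Fin d ⊕ Fin d → F)) 1 ∧
      (∀ u, (∀ v, stdP d F u v = 0) → u = 0) := by
  have hfr : finrank F (Fin d ⊕ Fin d → F) = 2 * d := by
    rw [Module.finrank_fintype_fun_eq_card, Fintype.card_sum, Fintype.card_fin]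
    omega
  refine ⟨hfr, ?_, ?_⟩
  · unfold QTy
    have hd : finrank F ↥(⊤ : Submodule F (Fin d ⊕ Fin d → F)) / 2 = d := by
      rw [finrank_top, hfr]
      omega
    rw [hd]
    refine (Cfsg.Agent.Lib.Helper16.OSemi.isType_congr
      (Submodule.topEquiv (R := F) (M := Fin d ⊕ Fin d → F)).toEquiv
      (Cfsg.quadFormPlus d F) _ ?_ d 1).mp (Cfsg.Agent.Lib.Helper16.OSemi.isType_plus d)
    intro w
    rfl
  · intro u hu
    exact (Cfsg.Agent.Lib.Helper16.qfPlus_nondeg d F).1 u hu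

end Cfsg.Agent.Lib.Helper18.OPE
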