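import Mathlib
import Cfsg.Agent.Lib.helper8.OME.Defs
import Cfsg.Agent.Lib.Helper24.OMEODDNECcore
import Cfsg.Agent.Lib.Helper24.OPESTDCTX
import Cfsg.Agent.Lib.Helper24.ElD
import Cfsg.Agent.Lib.Helper16.OHelp
import Cfsg.Agent.Lib.Helper29.OMEARITHNEC
import Cfsg.Agent.Lib.Helper9.OMEMAXEL
import Cfsg.Agent.Lib.helper4.OTSOMEGAODD

set_option autoImplicit false
set_option linter.unusedVariables false

namespace Cfsg.Agent.Lib.helper8.OME

open Polynomial Module Cfsg.Agent.Lib.Helper13.S5955 Cfsg.Agent.Lib.helper15.S5972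
  Cfsg.Agent.Lib.Helper18.OPE
open scoped Matrix

theorem omeoddnec_realize {F : Type*} [Field F] (d r : ℕ) (a b : F)
    (y : Module.End F (MI d → F)) (h : QCtx r (Qm d F a b) y) :
    ∃ x : GL (MI d) F, x ∈ Cfsg.isometryGroup F (Cfsg.quadFormMinus (d - 1) F a b) ∧
      Matrix.toLin' (x : Matrix (MI d) (MI d) F) = y ∧ x ^ r = 1 := by
  classical
  have hinj : Function.Injective y := by
    rw [← LinearMap.ker_eq_bot, LinearMap.ker_eq_bot']
    intro u hu
    apply h.nd
    intro v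
    rw [QuadraticMap.polarBilin_apply_apply,
      ← opestdctx_polar (Qm d F a b) y h.pres u v, hu]
    simp
  have hbij : Function.Bijective y := ⟨hinj, LinearMap.surjective_of_injective hinj⟩
  let e : (MI d → F) ≃ₗ[F] (MI d → F) := LinearEquiv.ofBijective y hbij
  let M : Matrix (MI d) (MI d) F := LinearMap.toMatrix' y
  let Mi : Matrix (MI d) (MI d) F :=
    LinearMap.toMatrix' (e.symm : (MI d → F) →ₗ[F] (MI d → F))
  have h1 : M * Mi = 1 := by
    rw [← LinearMap.toMatrix'_comp, ← LinearMap.toMatrix'_id]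
    congr 1
    apply LinearMap.ext
    intro v
    exact e.apply_symm_apply v
  have h2' : Mi * M = 1 := by
    rw [← LinearMap.toMatrix'_comp, ← LinearMap.toMatrix'_id]
    congr 1
    apply LinearMap.ext
    intro v
    exact e.symm_apply_apply v
  let x : GL (MI d) F := ⟨M, Mi, h1, h2'⟩
  have hxy : Matrix.toLin' (x : Matrix (MI d) (MI d) F) = y :=
    Matrix.toLin'_toMatrix' y
  refine ⟨x, ?_, hxy, ?_⟩
  · intro v _
    have hv : (x : Matrix (MI d) (MI d) F) *ᵥ v = y v := by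
      rw [← Matrix.toLin'_apply, hxy]
    change Cfsg.quadFormMinus (d - 1) F a b ((x : Matrix (MI d) (MI d) F) *ᵥ v) =
      Cfsg.quadFormMinus (d - 1) F a b v
    rw [hv]
    exact h.pres v
  · apply Units.ext
    rw [Units.val_pow_eq_pow_val, Units.val_one]
    apply Matrix.toLin'.injective
    have hp := opestdctx_pow x r
    rw [hxy, h.pow] at hp
    rw [← Units.val_pow_eq_pow_val, ← hp, Matrix.toLin'_one]
    rfl

theorem omeoddnec_facts {F : Type*} [Field F] [Fintype F] (d : ℕ) (hd : 1 ≤ d) (a b : F)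
    (hab : ∀ x y : F, x ^ 2 + a * x * y + b * y ^ 2 = 0 → x = 0 ∧ y = 0) :
    finrank F (MI d → F) = 2 * d ∧
      QTy (Qm d F a b) (⊤ : Submodule F (MI d → F)) (-1) := by
  have hfr : finrank F (MI d → F) = 2 * d := by
    rw [Module.finrank_fintype_fun_eq_card, Fintype.card_sum, Fintype.card_sum, Fintype.card_fin,
      Fintype.card_fin]
    omega
  refine ⟨hfr, ?_⟩
  unfold QTy
  have hd' : finrank F ↥(⊤ : Submodule F (MI d → F)) / 2 = (d - 1) + 1 := by
    rw [finrank_top, hfr]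
    omega
  rw [hd']
  refine (Cfsg.Agent.Lib.Helper16.OSemi.isType_congr
    (Submodule.topEquiv (R := F) (M := MI d → F)).toEquiv
    (Cfsg.quadFormMinus (d - 1) F a b) _ ?_ ((d - 1) + 1) (-1)).mp
    (Cfsg.Agent.Lib.Helper16.OSemi.isType_minus (d - 1) a b hab)
  intro w
  rfl

theorem ome_odd_nec {F : Type*} [Field F] [Fintype F] {p : ℕ} [Fact p.Prime] [CharP F p]
    (d m : ℕ) (hd : 4 ≤ d) (hm : 2 ≤ m) (hme : Even m) (hmn : m + 2 ≤ 2 * d) (a b : F)
    (hab : ∀ x y : F, x ^ 2 + a * x * y + b * y ^ 2 = 0 → x = 0 ∧ y = 0) (r : ℕ) [Fact r.Prime]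
    (hrp : r ≠ p) (hr2 : r ≠ 2) (i c : ℕ)
    (hi : i = orderOf ((Fintype.card F : ℕ) : ZMod r)) (hc : c = if Even i then i else 2 * i)
    (hC : CEm i d (m / 2)) (hall : AllFixM F d m (-1) r a b) : RM i c d m := by
  have hi1 : 1 ≤ i := by
    rw [hi]
    exact Cfsg.Agent.Lib.Helper24.el_ord_pos (F := F) (p := p) r hrp
  have hcard : 5 ≤ Fintype.card (MI d) := by
    rw [Fintype.card_sum, Fintype.card_sum, Fintype.card_fin, Fintype.card_fin]
    omega
  exact omeoddnec_core (p := p) d m hme a b r hrp hr2 i c hi hc hall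
    (ome_arith_nec i c d m hi1 hc hd hme hm hmn hC)
    (fun hA1 => ome_maxel (p := p) r hrp hr2 d (by omega) a b hab i c hi hc hA1)
    (fun y hy => omeoddnec_realize d r a b y hy)
    (fun x hx hxr => Cfsg.Agent.Lib.Helper13.OTS.q_omega_of_odd (Qm d F a b)
      (Cfsg.Agent.Lib.Helper16.OSemi.qfMinus_nondeg (d - 1) a b hab) hcard x hx r
      ((Fact.out : r.Prime).odd_of_ne_two hr2) hxr)
    (omeoddnec_facts d (by omega) a b hab)

end Cfsg.Agent.Lib.helper8.OME
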