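import Mathlib
import Cfsg.Agent.Lib.Helper18.OPE.Defs2
import Cfsg.Agent.Lib.Helper24.OPEFROZENcore
import Cfsg.Agent.Lib.helper17.OPEQTYCLASS

set_option autoImplicit false
set_option linter.unusedVariables false

namespace Cfsg.Agent.Lib.Helper18.OPE

open Polynomial Module Cfsg.Agent.Lib.Helper13.S5955 Cfsg.Agent.Lib.helper15.S5972
open scoped Matrix

theorem frozen_iff {F : Type*} [Field F] [Fintype F] (d m : ℕ) (hme : Even m)
    (W : Submodule F (Fin d ⊕ Fin d → F)) :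
    ((Module.finrank F ↥W = m ∧
        (∀ u ∈ W, u ≠ 0 → ∃ v ∈ W, QuadraticMap.polar (Cfsg.quadFormPlus d F) u v ≠ 0) ∧
        ∃ U : Submodule F (Fin d ⊕ Fin d → F), U ≤ W ∧ 2 * Module.finrank F ↥U = m ∧
          ∀ u ∈ U, Cfsg.quadFormPlus d F u = 0) ↔
      (finrank F W = m ∧ SND (stdP d F) W ∧ QTy (Cfsg.Agent.Lib.Helper16.qfPlus d F) W 1)) ∧
    ((Module.finrank F ↥W = m ∧
        Cfsg.Geo.IsNondegenerateOn (QuadraticMap.polar (Cfsg.quadFormPlus d F)) W ∧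
        ¬ Cfsg.Geo.IsPlusTypeOn (Cfsg.quadFormPlus d F) W) ↔
      (finrank F W = m ∧ SND (stdP d F) W ∧ QTy (Cfsg.Agent.Lib.Helper16.qfPlus d F) W (-1))) :=
  opefrozen_core d m hme W (fun hW hev => qty_iff (Cfsg.Agent.Lib.Helper16.qfPlus d F) W hW hev)

end Cfsg.Agent.Lib.Helper18.OPE
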