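import Mathlib
import Cfsg.Agent.Lib.Helper18.OPE.Defs2
import Cfsg.Agent.Lib.Helper13.OTS.Defs
import Cfsg.Agent.Lib.Helper27.OTSHJARITH

set_option autoImplicit false
set_option linter.unusedVariables false

namespace Cfsg.Agent.Lib.Helper18.OPE

open Polynomial Module Cfsg.Agent.Lib.Helper13.S5955 Cfsg.Agent.Lib.helper15.S5972
open scoped Matrix

theorem opetscnt_core {F : Type*} [Field F] [Fintype F] {p : ℕ} [Fact p.Prime] [CharP F p]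
    (d h : ℕ) (hh : h + 1 ≤ d) (r : ℕ) [Fact r.Prime] (hr2 : r ≠ 2) (i : ℕ)
    (hi : i = orderOf ((Fintype.card F : ℕ) : ZMod r))
    (hr : r ∣ Nat.card {U : Submodule F (Fin d ⊕ Fin d → F) //
      Module.finrank F ↥U = h ∧ ∀ u ∈ U, Cfsg.quadFormPlus d F u = 0})
    (hcd : r ∣ Nat.card (Cfsg.Agent.Lib.Helper13.OTS.TSq (Cfsg.Agent.Lib.Helper16.qfPlus d F) h) →
      r ≠ p ∧ Cfsg.Agent.Lib.Helper13.OTS.HJ (Fintype.card F) r d h 1) : CH i d h := by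
  obtain ⟨_, hj⟩ := hcd hr
  obtain ⟨j, hjh, hj'⟩ :=
    Cfsg.Agent.Lib.Helper13.OTS.q_hj_arith (Fintype.card F) r d h i 1 hr2 (Or.inl rfl) hi hh hj
  refine ⟨j, hjh, ?_⟩
  rcases hj' with ⟨_, h1 | ⟨h1, h3⟩⟩ | ⟨h1, _⟩
  · exact Or.inl h1
  · refine Or.inr ⟨h1, ?_⟩
    rw [Nat.sub_right_comm]
    exact h3
  · exact absurd h1 (by decide)

end Cfsg.Agent.Lib.Helper18.OPE
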