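import Mathlib
import Cfsg.Agent.Lib.Helper18.OPE.Defs2
import Cfsg.Agent.Lib.Helper24.OPETSCNTcore
import Cfsg.Agent.Lib.helper7.OTSCOUNTDVD
import Cfsg.Agent.Lib.Helper16.PlusFam

set_option autoImplicit false
set_option linter.unusedVariables false

namespace Cfsg.Agent.Lib.Helper18.OPE

open Polynomial Module Cfsg.Agent.Lib.Helper13.S5955 Cfsg.Agent.Lib.helper15.S5972
open scoped Matrix

theorem opetscnt_std_plus {F : Type*} [Field F] [Fintype F] (d : ℕ) :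
    Cfsg.Agent.Lib.Helper13.OTS.QStd (Cfsg.Agent.Lib.Helper16.qfPlus d F) d 1 := by
  refine ⟨Cfsg.Agent.Lib.Helper16.qfPlus_nondeg d F, ?_, Cfsg.Agent.Lib.Helper16.OSemi.isType_plus d, Or.inl rfl⟩
  rw [Fintype.card_sum, Fintype.card_fin]
  omega

theorem ts_count_ch {F : Type*} [Field F] [Fintype F] {p : ℕ} [Fact p.Prime] [CharP F p]
    (d h : ℕ) (hh : h + 1 ≤ d) (r : ℕ) [Fact r.Prime] (hr2 : r ≠ 2) (i : ℕ)
    (hi : i = orderOf ((Fintype.card F : ℕ) : ZMod r))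
    (hr : r ∣ Nat.card {U : Submodule F (Fin d ⊕ Fin d → F) //
      Module.finrank F ↥U = h ∧ ∀ u ∈ U, Cfsg.quadFormPlus d F u = 0}) : CH i d h :=
  opetscnt_core d h hh r hr2 i hi hr (fun h' =>
    Cfsg.Agent.Lib.Helper13.OTS.q_count_dvd (Cfsg.Agent.Lib.Helper16.qfPlus d F) d 1
      (opetscnt_std_plus d) h hh r h')

end Cfsg.Agent.Lib.Helper18.OPE
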