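import Mathlib

namespace Cfsg.Agent.Lib.Helper24

noncomputable def ot24 (G : Type*) [Group G] (n : ℕ) : ℕ := Nat.card {g : G // g ^ n = 1}

theorem ot24_prod (G H : Type*) [Group G] [Group H] (n : ℕ) :
    ot24 (G × H) n = ot24 G n * ot24 H n := by
  unfold ot24
  rw [← Nat.card_prod]
  apply Nat.card_congr
  refine
    { toFun := fun p => (⟨p.1.1, ?_⟩, ⟨p.1.2, ?_⟩)
      invFun := fun q => ⟨(q.1.1, q.2.1), ?_⟩
      left_inv := fun p => by ext <;> rfl
      right_inv := fun q => by ext <;> rfl }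
  · have := p.2
    rw [Prod.ext_iff] at this
    exact this.1
  · have := p.2
    rw [Prod.ext_iff] at this
    exact this.2
  · rw [Prod.ext_iff]
    exact ⟨q.1.2, q.2.2⟩

theorem ot24_pi (ι : Type*) [Finite ι] (G : Type*) [Group G] (n : ℕ) :
    ot24 (ι → G) n = ot24 G n ^ Nat.card ι := by
  unfold ot24
  rw [← Nat.card_fun]
  apply Nat.card_congr
  refine
    { toFun := fun p i => ⟨p.1 i, ?_⟩
      invFun := fun q => ⟨fun i => (q i).1, ?_⟩
      left_inv := fun p => by ext; rfl
      right_inv := fun q => by ext; rfl }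
  · have := p.2
    exact congrFun this i
  · funext i
    exact (q i).2

theorem ot24_congr {G H : Type*} [Group G] [Group H] (e : G ≃* H) (n : ℕ) :
    ot24 G n = ot24 H n := by
  unfold ot24
  apply Nat.card_congr
  refine
    { toFun := fun p => ⟨e p.1, by rw [← map_pow, p.2, map_one]⟩
      invFun := fun q => ⟨e.symm q.1, by rw [← map_pow, q.2, map_one]⟩
      left_inv := fun p => by ext; simp
      right_inv := fun q => by ext; simp }

theorem ot24_gcd {G : Type*} [Group G] (E : ℕ) (hE : ∀ g : G, g ^ E = 1) (n : ℕ) :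
    ot24 G n = ot24 G (Nat.gcd n E) := by
  unfold ot24
  apply Nat.card_congr
  refine Equiv.subtypeEquivRight fun g => ?_
  rw [← orderOf_dvd_iff_pow_eq_one, ← orderOf_dvd_iff_pow_eq_one, Nat.dvd_gcd_iff]
  exact ⟨fun h => ⟨h, orderOf_dvd_of_pow_eq_one (hE g)⟩, fun h => h.1⟩

theorem ot24_eq_card_filter (G : Type*) [Group G] [Fintype G] [DecidableEq G] (n : ℕ) :
    ot24 G n = (Finset.univ.filter fun g : G => g ^ n = 1).card := by
  unfold ot24
  rw [Nat.card_eq_fintype_card, Fintype.card_subtype]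

theorem ot24_eq_sum_divisors (K : Type*) [Group K] [Fintype K] (m : ℕ) (hm : m ≠ 0) :
    ot24 K m = ∑ d ∈ m.divisors, Nat.card {g : K // orderOf g = d} := by
  classical
  rw [ot24_eq_card_filter]
  rw [Finset.card_eq_sum_card_fiberwise (f := fun g : K => orderOf g) (t := m.divisors)]
  · apply Finset.sum_congr rfl
    intro d hd
    rw [Nat.card_eq_fintype_card, Fintype.card_subtype]
    congr 1
    ext g
    simp only [Finset.mem_filter, Finset.mem_univ, true_and]
    constructor
    · exact fun hg => hg.2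
    · intro hg
      refine ⟨?_, hg⟩
      rw [← orderOf_dvd_iff_pow_eq_one, hg]
      exact Nat.dvd_of_mem_divisors hd
  · intro g hg
    have hg' : g ^ m = 1 := by simpa using hg
    simp only [Finset.mem_coe, Nat.mem_divisors]
    exact ⟨orderOf_dvd_of_pow_eq_one hg', hm⟩

theorem order_type_of_ot24 {G H : Type*} [Group G] [Group H] [Finite G] [Finite H]
    (h : ∀ n, ot24 G n = ot24 H n) (n : ℕ) :
    Nat.card {g : G // orderOf g = n} = Nat.card {g : H // orderOf g = n} := by
  classical
  have := Fintype.ofFinite G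
  have := Fintype.ofFinite H
  induction n using Nat.strong_induction_on with
  | _ n ih =>
    rcases Nat.eq_zero_or_pos n with rfl | hn
    · have hG : IsEmpty {g : G // orderOf g = 0} :=
        ⟨fun g => (orderOf_pos g.1).ne' g.2⟩
      have hH : IsEmpty {g : H // orderOf g = 0} :=
        ⟨fun g => (orderOf_pos g.1).ne' g.2⟩
      rw [Nat.card_of_isEmpty, Nat.card_of_isEmpty]
    · have h1 := ot24_eq_sum_divisors G n hn.ne'
      have h2 := ot24_eq_sum_divisors H n hn.ne'
      rw [← Nat.insert_self_properDivisors hn.ne',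
        Finset.sum_insert (Nat.self_notMem_properDivisors)] at h1 h2
      have h3 : ∑ d ∈ n.properDivisors, Nat.card {g : G // orderOf g = d} =
          ∑ d ∈ n.properDivisors, Nat.card {g : H // orderOf g = d} := by
        apply Finset.sum_congr rfl
        intro d hd
        exact ih d (Nat.mem_properDivisors.mp hd).2
      have := h n
      omega

theorem ot24_all_of_divisors {G H : Type*} [Group G] [Group H] (E : ℕ) (hE : E ≠ 0)
    (hG : ∀ g : G, g ^ E = 1) (hH : ∀ g : H, g ^ E = 1)
    (h : ∀ d ∈ E.divisors, ot24 G d = ot24 H d) (n : ℕ) : ot24 G n = ot24 H n := by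
  rw [ot24_gcd E hG, ot24_gcd E hH]
  exact h _ (Nat.mem_divisors.mpr ⟨Nat.gcd_dvd_right _ _, hE⟩)

theorem exp24_prod {G H : Type*} [Group G] [Group H] (E : ℕ)
    (hG : ∀ g : G, g ^ E = 1) (hH : ∀ g : H, g ^ E = 1) : ∀ g : G × H, g ^ E = 1 := by
  intro g
  rw [Prod.ext_iff]
  exact ⟨hG g.1, hH g.2⟩

theorem exp24_pi {ι : Type*} {G : Type*} [Group G] (E : ℕ)
    (hG : ∀ g : G, g ^ E = 1) : ∀ g : ι → G, g ^ E = 1 := by
  intro g
  funext i
  exact hG (g i)

theorem exp24_subgroup {G : Type*} [Group G] (E : ℕ) (K : Subgroup G)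
    (hG : ∀ g : G, g ^ E = 1) : ∀ g : K, g ^ E = 1 := by
  intro g
  apply Subtype.ext
  simpa using hG g.1

theorem solvable24_pi (ι : Type*) (G : Type*) [Group G] [Group.IsSolvable G] :
    Group.IsSolvable (ι → G) := by
  obtain ⟨k, hk⟩ := (Group.isSolvable_def G).mp inferInstance
  refine ⟨⟨k, ?_⟩⟩
  rw [eq_bot_iff]
  intro g hg
  rw [Subgroup.mem_bot]
  funext i
  have h1 : (Pi.evalMonoidHom (fun _ : ι => G) i) g ∈ derivedSeries G k :=
    map_derivedSeries_le_derivedSeries (Pi.evalMonoidHom (fun _ : ι => G) i) k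
      (Subgroup.mem_map_of_mem _ hg)
  rw [hk, Subgroup.mem_bot] at h1
  exact h1

theorem solvable24_semidirect {N K : Type*} [Group N] [Group K] (φ : K →* MulAut N)
    [Group.IsSolvable N] [Group.IsSolvable K] : Group.IsSolvable (N ⋊[φ] K) :=
  Group.isSolvable_of_ker_le_range (SemidirectProduct.inl : N →* N ⋊[φ] K)
    (SemidirectProduct.rightHom : N ⋊[φ] K →* K)
    (by rw [SemidirectProduct.range_inl_eq_ker_rightHom])

theorem solvable24_of_hom {G A : Type*} [Group G] [Group A] [Group.IsSolvable A] (f : G →* A)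
    (h : ∀ a b : G, f a = 1 → f b = 1 → a * b = b * a) : Group.IsSolvable G := by
  have : Group.IsSolvable f.ker :=
    Group.isSolvable_of_comm (fun a b => Subtype.ext (h a.1 b.1 a.2 b.2))
  exact Group.isSolvable_of_ker_le_range f.ker.subtype f (by simp)

end Cfsg.Agent.Lib.Helper24
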