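import Mathlib
import Cfsg.Agent.Lib.Helper24.OT1

namespace Cfsg.Agent.Lib.Helper24

noncomputable def cnt24 (X : Type*) [Group X] (χ : X →* ℤˣ) (n : ℕ) (e : ℤˣ) : ℕ :=
  Nat.card {x : X // x ^ n = 1 ∧ χ x = e}

def chi24_prod {X Y : Type*} [Group X] [Group Y] (χ : X →* ℤˣ) (ψ : Y →* ℤˣ) : X × Y →* ℤˣ :=
  χ.comp (MonoidHom.fst X Y) * ψ.comp (MonoidHom.snd X Y)

theorem chi24_prod_apply {X Y : Type*} [Group X] [Group Y] (χ : X →* ℤˣ) (ψ : Y →* ℤˣ)
    (p : X × Y) : chi24_prod χ ψ p = χ p.1 * ψ p.2 := rfl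

theorem cnt24_eq_card_filter (X : Type*) [Group X] [Fintype X] [DecidableEq X] (χ : X →* ℤˣ)
    (n : ℕ) (e : ℤˣ) :
    cnt24 X χ n e = (Finset.univ.filter fun x : X => x ^ n = 1 ∧ χ x = e).card := by
  unfold cnt24
  rw [Nat.card_eq_fintype_card, Fintype.card_subtype]

theorem ot24_ker (X : Type*) [Group X] (χ : X →* ℤˣ) (n : ℕ) :
    ot24 χ.ker n = cnt24 X χ n 1 := by
  unfold ot24 cnt24
  apply Nat.card_congr
  refine
    { toFun := fun p => ⟨p.1.1, ?_, p.1.2⟩
      invFun := fun q => ⟨⟨q.1, q.2.2⟩, ?_⟩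
      left_inv := fun p => by ext; rfl
      right_inv := fun q => by ext; rfl }
  · have := congrArg Subtype.val p.2
    simpa using this
  · apply Subtype.ext
    simpa using q.2.1

theorem ot24_eq_cnt24 (X : Type*) [Group X] [Finite X] (χ : X →* ℤˣ) (n : ℕ) :
    ot24 X n = cnt24 X χ n 1 + cnt24 X χ n (-1) := by
  classical
  have := Fintype.ofFinite X
  rw [ot24_eq_card_filter, cnt24_eq_card_filter, cnt24_eq_card_filter,
    ← Finset.card_union_of_disjoint]
  · congr 1
    ext x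
    simp only [Finset.mem_filter, Finset.mem_univ, true_and, Finset.mem_union]
    rcases Int.units_eq_one_or (χ x) with h | h <;> simp [h]
  · rw [Finset.disjoint_filter]
    intro x _ h1 h2
    rw [h1.2] at h2
    exact absurd h2.2 (by decide)

theorem cnt24_prod (X Y : Type*) [Group X] [Group Y] [Finite X] [Finite Y]
    (χ : X →* ℤˣ) (ψ : Y →* ℤˣ) (n : ℕ) (e : ℤˣ) :
    cnt24 (X × Y) (chi24_prod χ ψ) n e =
      cnt24 X χ n 1 * cnt24 Y ψ n e + cnt24 X χ n (-1) * cnt24 Y ψ n (-e) := by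
  classical
  have := Fintype.ofFinite X
  have := Fintype.ofFinite Y
  simp only [cnt24_eq_card_filter]
  rw [← Finset.card_product, ← Finset.card_product, ← Finset.card_union_of_disjoint]
  · congr 1
    ext p
    simp only [Finset.mem_filter, Finset.mem_univ, true_and, Finset.mem_union,
      Finset.mem_product, chi24_prod_apply, Prod.ext_iff, Prod.fst_one,
      Prod.snd_one, Prod.pow_fst, Prod.pow_snd]
    rcases Int.units_eq_one_or (χ p.1) with h | h
    · simp [h]
      tauto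
    · simp [h]
      constructor
      · rintro ⟨⟨h1, h2⟩, h3⟩
        refine ⟨h1, h2, ?_⟩
        rw [← h3]
        simp
      · rintro ⟨h1, h2, h3⟩
        refine ⟨⟨h1, h2⟩, ?_⟩
        rw [h3]
        simp
  · rw [Finset.disjoint_left]
    intro p hp1 hp2
    simp only [Finset.mem_product, Finset.mem_filter, Finset.mem_univ, true_and] at hp1 hp2
    rw [hp1.1.2] at hp2
    exact absurd hp2.1.2 (by decide)

end Cfsg.Agent.Lib.Helper24
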