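import Mathlib
import Cfsg.Agent.Lib.Helper24.OT2

namespace Cfsg.Agent.Lib.Helper24

open DihedralGroup QuaternionGroup

instance fintype24_semidirect {N K : Type*} [Group N] [Group K] [Fintype N] [Fintype K]
    (φ : K →* MulAut N) : Fintype (N ⋊[φ] K) :=
  Fintype.ofEquiv (N × K) SemidirectProduct.equivProd.symm

def cyc24 {H : Type*} [Group H] (n : ℕ) [NeZero n] (a : H) (h : a ^ n = 1) :
    Multiplicative (ZMod n) →* H where
  toFun k := a ^ (Multiplicative.toAdd k).val
  map_one' := by simp
  map_mul' := by
    intro x y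
    rw [toAdd_mul, ZMod.val_add, ← pow_add, ← pow_eq_pow_mod _ h]

def dsgn24 (n : ℕ) : DihedralGroup n →* ℤˣ where
  toFun x := match x with
    | r _ => 1
    | sr _ => -1
  map_one' := rfl
  map_mul' := by rintro (a | a) (b | b) <;> rfl

def qsgn24 (n : ℕ) : QuaternionGroup n →* ℤˣ where
  toFun x := match x with
    | a _ => 1
    | xa _ => -1
  map_one' := rfl
  map_mul' := by rintro (i | i) (j | j) <;> rfl

def dalt24_4 : DihedralGroup 4 →* ℤˣ where
  toFun x := match x with
    | r i => (-1) ^ i.val
    | sr i => (-1) ^ i.val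
  map_one' := by decide
  map_mul' := by decide

def dalt24_12 : DihedralGroup 12 →* ℤˣ where
  toFun x := match x with
    | r i => (-1) ^ i.val
    | sr i => (-1) ^ i.val
  map_one' := by decide
  map_mul' := by decide

def scal24_7 (u v : ZMod 7) (h : v * u = 1) : MulAut (Multiplicative (ZMod 7)) where
  toFun x := Multiplicative.ofAdd (u * Multiplicative.toAdd x)
  invFun x := Multiplicative.ofAdd (v * Multiplicative.toAdd x)
  left_inv x := by
    change Multiplicative.ofAdd (v * (u * Multiplicative.toAdd x)) = x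
    rw [← mul_assoc, h, one_mul]
    rfl
  right_inv x := by
    change Multiplicative.ofAdd (u * (v * Multiplicative.toAdd x)) = x
    rw [← mul_assoc, mul_comm u v, h, one_mul]
    rfl
  map_mul' x y := by
    change Multiplicative.ofAdd (u * (Multiplicative.toAdd x + Multiplicative.toAdd y)) = _
    rw [mul_add]
    rfl

abbrev F42_24 : Type :=
  Multiplicative (ZMod 7) ⋊[cyc24 6 (scal24_7 3 5 (by decide)) (by decide)] Multiplicative (ZMod 6)

abbrev F21_24 : Type :=
  Multiplicative (ZMod 7) ⋊[cyc24 3 (scal24_7 2 4 (by decide)) (by decide)] Multiplicative (ZMod 3)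

end Cfsg.Agent.Lib.Helper24
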