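import Mathlib
import Cfsg.Agent.Lib.Helper24.OT3

namespace Cfsg.Agent.Lib.Helper24

open DihedralGroup QuaternionGroup

def cntF24 (X : Type*) [Group X] [Fintype X] [DecidableEq X] (χ : X →* ℤˣ) (n : ℕ) (e : ℤˣ) : ℕ :=
  (Finset.univ.filter fun x : X => x ^ n = 1 ∧ χ x = e).card

def otF24 (X : Type*) [Group X] [Fintype X] [DecidableEq X] (n : ℕ) : ℕ :=
  (Finset.univ.filter fun x : X => x ^ n = 1).card

theorem cnt24_eq_cntF24 (X : Type*) [Group X] [Fintype X] [DecidableEq X] (χ : X →* ℤˣ)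
    (n : ℕ) (e : ℤˣ) : cnt24 X χ n e = cntF24 X χ n e :=
  cnt24_eq_card_filter X χ n e

theorem ot24_eq_otF24 (X : Type*) [Group X] [Fintype X] [DecidableEq X] (n : ℕ) :
    ot24 X n = otF24 X n :=
  ot24_eq_card_filter X n

def D84_24 : Finset ℕ := {1, 2, 3, 4, 6, 7, 12, 14, 21, 28, 42, 84}

theorem divisors84_24 : Nat.divisors 84 = D84_24 := by decide +kernel

def fsgn24 : F42_24 →* ℤˣ := (cyc24 6 (-1 : ℤˣ) (by decide)).comp SemidirectProduct.rightHom

def bdv24 (k d m : ℕ) : ℕ := if k ∣ d then m else 0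

set_option maxRecDepth 100000 in
theorem tabC2_24 : ∀ d ∈ D84_24, ot24 (Multiplicative (ZMod 2)) d = Nat.gcd d 2 := by
  have h : ∀ d ∈ D84_24, otF24 (Multiplicative (ZMod 2)) d = Nat.gcd d 2 := by decide +kernel
  intro d hd
  rw [ot24_eq_otF24]
  exact h d hd

set_option maxRecDepth 100000 in
theorem expC2_24 : ∀ g : Multiplicative (ZMod 2), g ^ 84 = 1 := by decide +kernel

set_option maxRecDepth 100000 in
theorem tabC3_24 : ∀ d ∈ D84_24, ot24 (Multiplicative (ZMod 3)) d = Nat.gcd d 3 := by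
  have h : ∀ d ∈ D84_24, otF24 (Multiplicative (ZMod 3)) d = Nat.gcd d 3 := by decide +kernel
  intro d hd
  rw [ot24_eq_otF24]
  exact h d hd

set_option maxRecDepth 100000 in
theorem expC3_24 : ∀ g : Multiplicative (ZMod 3), g ^ 84 = 1 := by decide +kernel

set_option maxRecDepth 100000 in
theorem tabC4_24 : ∀ d ∈ D84_24, ot24 (Multiplicative (ZMod 4)) d = Nat.gcd d 4 := by
  have h : ∀ d ∈ D84_24, otF24 (Multiplicative (ZMod 4)) d = Nat.gcd d 4 := by decide +kernel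
  intro d hd
  rw [ot24_eq_otF24]
  exact h d hd

set_option maxRecDepth 100000 in
theorem expC4_24 : ∀ g : Multiplicative (ZMod 4), g ^ 84 = 1 := by decide +kernel

set_option maxRecDepth 100000 in
theorem tabC7_24 : ∀ d ∈ D84_24, ot24 (Multiplicative (ZMod 7)) d = Nat.gcd d 7 := by
  have h : ∀ d ∈ D84_24, otF24 (Multiplicative (ZMod 7)) d = Nat.gcd d 7 := by decide +kernel
  intro d hd
  rw [ot24_eq_otF24]
  exact h d hd

set_option maxRecDepth 100000 in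
theorem expC7_24 : ∀ g : Multiplicative (ZMod 7), g ^ 84 = 1 := by decide +kernel

set_option maxRecDepth 100000 in
theorem tabD3_24 : ∀ d ∈ D84_24, cnt24 (DihedralGroup 3) (dsgn24 3) d 1 = Nat.gcd d 3 ∧
    cnt24 (DihedralGroup 3) (dsgn24 3) d (-1) = bdv24 2 d 3 := by
  have h : ∀ d ∈ D84_24, cntF24 (DihedralGroup 3) (dsgn24 3) d 1 = Nat.gcd d 3 ∧
      cntF24 (DihedralGroup 3) (dsgn24 3) d (-1) = bdv24 2 d 3 := by decide +kernel
  intro d hd
  rw [cnt24_eq_cntF24, cnt24_eq_cntF24]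
  exact h d hd

set_option maxRecDepth 100000 in
theorem expD3_24 : ∀ g : DihedralGroup 3, g ^ 84 = 1 := by decide +kernel

set_option maxRecDepth 100000 in
theorem tabD4_24 : ∀ d ∈ D84_24, cnt24 (DihedralGroup 4) (dsgn24 4) d 1 = Nat.gcd d 4 ∧
    cnt24 (DihedralGroup 4) (dsgn24 4) d (-1) = bdv24 2 d 4 := by
  have h : ∀ d ∈ D84_24, cntF24 (DihedralGroup 4) (dsgn24 4) d 1 = Nat.gcd d 4 ∧
      cntF24 (DihedralGroup 4) (dsgn24 4) d (-1) = bdv24 2 d 4 := by decide +kernel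
  intro d hd
  rw [cnt24_eq_cntF24, cnt24_eq_cntF24]
  exact h d hd

set_option maxRecDepth 100000 in
theorem expD4_24 : ∀ g : DihedralGroup 4, g ^ 84 = 1 := by decide +kernel

set_option maxRecDepth 100000 in
theorem tabD7_24 : ∀ d ∈ D84_24, cnt24 (DihedralGroup 7) (dsgn24 7) d 1 = Nat.gcd d 7 ∧
    cnt24 (DihedralGroup 7) (dsgn24 7) d (-1) = bdv24 2 d 7 := by
  have h : ∀ d ∈ D84_24, cntF24 (DihedralGroup 7) (dsgn24 7) d 1 = Nat.gcd d 7 ∧
      cntF24 (DihedralGroup 7) (dsgn24 7) d (-1) = bdv24 2 d 7 := by decide +kernel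
  intro d hd
  rw [cnt24_eq_cntF24, cnt24_eq_cntF24]
  exact h d hd

set_option maxRecDepth 100000 in
theorem expD7_24 : ∀ g : DihedralGroup 7, g ^ 84 = 1 := by decide +kernel

set_option maxRecDepth 100000 in
theorem tabD12_24 : ∀ d ∈ D84_24, cnt24 (DihedralGroup 12) (dsgn24 12) d 1 = Nat.gcd d 12 ∧
    cnt24 (DihedralGroup 12) (dsgn24 12) d (-1) = bdv24 2 d 12 := by
  have h : ∀ d ∈ D84_24, cntF24 (DihedralGroup 12) (dsgn24 12) d 1 = Nat.gcd d 12 ∧
      cntF24 (DihedralGroup 12) (dsgn24 12) d (-1) = bdv24 2 d 12 := by decide +kernel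
  intro d hd
  rw [cnt24_eq_cntF24, cnt24_eq_cntF24]
  exact h d hd

set_option maxRecDepth 100000 in
theorem expD12_24 : ∀ g : DihedralGroup 12, g ^ 84 = 1 := by decide +kernel

set_option maxRecDepth 100000 in
theorem tabD21_24 : ∀ d ∈ D84_24, cnt24 (DihedralGroup 21) (dsgn24 21) d 1 = Nat.gcd d 21 ∧
    cnt24 (DihedralGroup 21) (dsgn24 21) d (-1) = bdv24 2 d 21 := by
  have h : ∀ d ∈ D84_24, cntF24 (DihedralGroup 21) (dsgn24 21) d 1 = Nat.gcd d 21 ∧
      cntF24 (DihedralGroup 21) (dsgn24 21) d (-1) = bdv24 2 d 21 := by decide +kernel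
  intro d hd
  rw [cnt24_eq_cntF24, cnt24_eq_cntF24]
  exact h d hd

set_option maxRecDepth 100000 in
theorem expD21_24 : ∀ g : DihedralGroup 21, g ^ 84 = 1 := by decide +kernel

set_option maxRecDepth 100000 in
theorem tabD28_24 : ∀ d ∈ D84_24, cnt24 (DihedralGroup 28) (dsgn24 28) d 1 = Nat.gcd d 28 ∧
    cnt24 (DihedralGroup 28) (dsgn24 28) d (-1) = bdv24 2 d 28 := by
  have h : ∀ d ∈ D84_24, cntF24 (DihedralGroup 28) (dsgn24 28) d 1 = Nat.gcd d 28 ∧
      cntF24 (DihedralGroup 28) (dsgn24 28) d (-1) = bdv24 2 d 28 := by decide +kernel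
  intro d hd
  rw [cnt24_eq_cntF24, cnt24_eq_cntF24]
  exact h d hd

set_option maxRecDepth 100000 in
theorem expD28_24 : ∀ g : DihedralGroup 28, g ^ 84 = 1 := by decide +kernel

set_option maxRecDepth 100000 in
theorem tabDa4_24 : ∀ d ∈ D84_24, cnt24 (DihedralGroup 4) (dalt24_4) d 1 = Nat.gcd d 2 + bdv24 2 d 2 ∧
    cnt24 (DihedralGroup 4) (dalt24_4) d (-1) = Nat.gcd d 4 - Nat.gcd d 2 + bdv24 2 d 2 := by
  have h : ∀ d ∈ D84_24, cntF24 (DihedralGroup 4) (dalt24_4) d 1 = Nat.gcd d 2 + bdv24 2 d 2 ∧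
      cntF24 (DihedralGroup 4) (dalt24_4) d (-1) = Nat.gcd d 4 - Nat.gcd d 2 + bdv24 2 d 2 := by decide +kernel
  intro d hd
  rw [cnt24_eq_cntF24, cnt24_eq_cntF24]
  exact h d hd

set_option maxRecDepth 100000 in
theorem tabDa12_24 : ∀ d ∈ D84_24, cnt24 (DihedralGroup 12) (dalt24_12) d 1 = Nat.gcd d 6 + bdv24 2 d 6 ∧
    cnt24 (DihedralGroup 12) (dalt24_12) d (-1) = Nat.gcd d 12 - Nat.gcd d 6 + bdv24 2 d 6 := by
  have h : ∀ d ∈ D84_24, cntF24 (DihedralGroup 12) (dalt24_12) d 1 = Nat.gcd d 6 + bdv24 2 d 6 ∧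
      cntF24 (DihedralGroup 12) (dalt24_12) d (-1) = Nat.gcd d 12 - Nat.gcd d 6 + bdv24 2 d 6 := by decide +kernel
  intro d hd
  rw [cnt24_eq_cntF24, cnt24_eq_cntF24]
  exact h d hd

set_option maxRecDepth 100000 in
theorem tabQ3_24 : ∀ d ∈ D84_24, cnt24 (QuaternionGroup 3) (qsgn24 3) d 1 = Nat.gcd d 6 ∧
    cnt24 (QuaternionGroup 3) (qsgn24 3) d (-1) = bdv24 4 d 6 := by
  have h : ∀ d ∈ D84_24, cntF24 (QuaternionGroup 3) (qsgn24 3) d 1 = Nat.gcd d 6 ∧
      cntF24 (QuaternionGroup 3) (qsgn24 3) d (-1) = bdv24 4 d 6 := by decide +kernel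
  intro d hd
  rw [cnt24_eq_cntF24, cnt24_eq_cntF24]
  exact h d hd

set_option maxRecDepth 100000 in
theorem expQ3_24 : ∀ g : QuaternionGroup 3, g ^ 84 = 1 := by decide +kernel

set_option maxRecDepth 100000 in
theorem tabQ7_24 : ∀ d ∈ D84_24, cnt24 (QuaternionGroup 7) (qsgn24 7) d 1 = Nat.gcd d 14 ∧
    cnt24 (QuaternionGroup 7) (qsgn24 7) d (-1) = bdv24 4 d 14 := by
  have h : ∀ d ∈ D84_24, cntF24 (QuaternionGroup 7) (qsgn24 7) d 1 = Nat.gcd d 14 ∧
      cntF24 (QuaternionGroup 7) (qsgn24 7) d (-1) = bdv24 4 d 14 := by decide +kernel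
  intro d hd
  rw [cnt24_eq_cntF24, cnt24_eq_cntF24]
  exact h d hd

set_option maxRecDepth 100000 in
theorem expQ7_24 : ∀ g : QuaternionGroup 7, g ^ 84 = 1 := by decide +kernel

set_option maxRecDepth 100000 in
theorem tabQ21_24 : ∀ d ∈ D84_24, cnt24 (QuaternionGroup 21) (qsgn24 21) d 1 = Nat.gcd d 42 ∧
    cnt24 (QuaternionGroup 21) (qsgn24 21) d (-1) = bdv24 4 d 42 := by
  have h : ∀ d ∈ D84_24, cntF24 (QuaternionGroup 21) (qsgn24 21) d 1 = Nat.gcd d 42 ∧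
      cntF24 (QuaternionGroup 21) (qsgn24 21) d (-1) = bdv24 4 d 42 := by decide +kernel
  intro d hd
  rw [cnt24_eq_cntF24, cnt24_eq_cntF24]
  exact h d hd

set_option maxRecDepth 100000 in
theorem expQ21_24 : ∀ g : QuaternionGroup 21, g ^ 84 = 1 := by decide +kernel

set_option maxRecDepth 100000 in
theorem tabF42_24 : ∀ d ∈ D84_24, cnt24 (F42_24) (fsgn24) d 1 = 1 + bdv24 3 d 14 + bdv24 7 d 6 ∧
    cnt24 (F42_24) (fsgn24) d (-1) = bdv24 2 d 7 + bdv24 6 d 14 := by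
  have h : ∀ d ∈ D84_24, cntF24 (F42_24) (fsgn24) d 1 = 1 + bdv24 3 d 14 + bdv24 7 d 6 ∧
      cntF24 (F42_24) (fsgn24) d (-1) = bdv24 2 d 7 + bdv24 6 d 14 := by decide +kernel
  intro d hd
  rw [cnt24_eq_cntF24, cnt24_eq_cntF24]
  exact h d hd

set_option maxRecDepth 100000 in
theorem expF42_24 : ∀ g : F42_24, g ^ 84 = 1 := by decide +kernel

set_option maxRecDepth 100000 in
theorem tabF21_24 : ∀ d ∈ D84_24, ot24 (F21_24) d = 1 + bdv24 3 d 14 + bdv24 7 d 6 := by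
  have h : ∀ d ∈ D84_24, otF24 (F21_24) d = 1 + bdv24 3 d 14 + bdv24 7 d 6 := by decide +kernel
  intro d hd
  rw [ot24_eq_otF24]
  exact h d hd

set_option maxRecDepth 100000 in
theorem expF21_24 : ∀ g : F21_24, g ^ 84 = 1 := by decide +kernel

theorem solvD24 (n : ℕ) : Group.IsSolvable (DihedralGroup n) := by
  refine solvable24_of_hom (dsgn24 n) ?_
  rintro (a | a) (b | b) ha hb
  · rw [DihedralGroup.r_mul_r, DihedralGroup.r_mul_r, add_comm]
  · exact absurd (show (-1 : ℤˣ) = 1 from hb) (by decide)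
  · exact absurd (show (-1 : ℤˣ) = 1 from ha) (by decide)
  · exact absurd (show (-1 : ℤˣ) = 1 from ha) (by decide)

theorem solvQ24 (n : ℕ) : Group.IsSolvable (QuaternionGroup n) := by
  refine solvable24_of_hom (qsgn24 n) ?_
  rintro (a | a) (b | b) ha hb
  · rw [QuaternionGroup.a_mul_a, QuaternionGroup.a_mul_a, add_comm]
  · exact absurd (show (-1 : ℤˣ) = 1 from hb) (by decide)
  · exact absurd (show (-1 : ℤˣ) = 1 from ha) (by decide)
  · exact absurd (show (-1 : ℤˣ) = 1 from ha) (by decide)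

instance solvDinst24 (n : ℕ) : Group.IsSolvable (DihedralGroup n) := solvD24 n

instance solvQinst24 (n : ℕ) : Group.IsSolvable (QuaternionGroup n) := solvQ24 n

instance solvSDinst24 {N K : Type*} [Group N] [Group K] (φ : K →* MulAut N)
    [Group.IsSolvable N] [Group.IsSolvable K] : Group.IsSolvable (N ⋊[φ] K) :=
  solvable24_semidirect φ

instance solvPiinst24 (ι : Type*) (G : Type*) [Group G] [Group.IsSolvable G] :
    Group.IsSolvable (ι → G) := solvable24_pi ι G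

end Cfsg.Agent.Lib.Helper24
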