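import Mathlib
import Cfsg.Agent.Lib.Helper24.OT4

namespace Cfsg.Agent.Lib.Helper24

abbrev V8_24 : Type := Multiplicative (ZMod 2 × ZMod 2 × ZMod 2)

def alpha24 : MulAut V8_24 where
  toFun v := Multiplicative.ofAdd
    ((Multiplicative.toAdd v).2.2, (Multiplicative.toAdd v).1 + (Multiplicative.toAdd v).2.2,
      (Multiplicative.toAdd v).2.1)
  invFun v := Multiplicative.ofAdd
    ((Multiplicative.toAdd v).1 + (Multiplicative.toAdd v).2.1, (Multiplicative.toAdd v).2.2,
      (Multiplicative.toAdd v).1)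
  left_inv := by decide
  right_inv := by decide
  map_mul' := by decide

def frob24 : MulAut V8_24 where
  toFun v := Multiplicative.ofAdd
    ((Multiplicative.toAdd v).1, (Multiplicative.toAdd v).2.2,
      (Multiplicative.toAdd v).2.1 + (Multiplicative.toAdd v).2.2)
  invFun v := Multiplicative.ofAdd
    ((Multiplicative.toAdd v).1, (Multiplicative.toAdd v).2.1 + (Multiplicative.toAdd v).2.2,
      (Multiplicative.toAdd v).2.1)
  left_inv := by decide
  right_inv := by decide
  map_mul' := by decide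

theorem alpha24_pow : alpha24 ^ 7 = 1 := by decide

abbrev AGL8_24 : Type := V8_24 ⋊[cyc24 7 alpha24 alpha24_pow] Multiplicative (ZMod 7)

set_option maxRecDepth 100000 in
def frobT24 : MulAut AGL8_24 where
  toFun p := ⟨frob24 p.left, scal24_7 2 4 (by decide) p.right⟩
  invFun p := ⟨frob24.symm p.left, scal24_7 4 2 (by decide) p.right⟩
  left_inv := by decide +kernel
  right_inv := by decide +kernel
  map_mul' := by decide +kernel

set_option maxRecDepth 100000 in
theorem frobT24_pow : frobT24 ^ 3 = 1 := by decide +kernel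

abbrev AGammaL8_24 : Type := AGL8_24 ⋊[cyc24 3 frobT24 frobT24_pow] Multiplicative (ZMod 3)

set_option maxRecDepth 100000 in
theorem tabAGammaL8_24 : ∀ d ∈ D84_24, ot24 AGammaL8_24 d =
    1 + bdv24 2 d 7 + bdv24 3 d 56 + bdv24 6 d 56 + bdv24 7 d 48 := by
  have h : ∀ d ∈ D84_24, otF24 AGammaL8_24 d =
      1 + bdv24 2 d 7 + bdv24 3 d 56 + bdv24 6 d 56 + bdv24 7 d 48 := by decide +kernel
  intro d hd
  rw [ot24_eq_otF24]
  exact h d hd

set_option maxRecDepth 100000 in
theorem expAGammaL8_24 : ∀ g : AGammaL8_24, g ^ 84 = 1 := by decide +kernel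

end Cfsg.Agent.Lib.Helper24
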