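import Mathlib
import Cfsg.Agent.Lib.Helper24.OT4

namespace Cfsg.Agent.Lib.Helper24

theorem ot24_three {K : Type*} [Group K] [Finite K] (a b c : ℕ)
    (hab : Nat.Coprime a b) (hac : Nat.Coprime a c) (hbc : Nat.Coprime b c)
    (h : ∀ g : K, g ^ a = 1 ∨ g ^ b = 1 ∨ g ^ c = 1) (d : ℕ) :
    ot24 K d + 2 = ot24 K (Nat.gcd d a) + ot24 K (Nat.gcd d b) + ot24 K (Nat.gcd d c) := by
  classical
  have := Fintype.ofFinite K
  simp only [ot24_eq_card_filter]
  have key : ∀ (x y : ℕ), Nat.Coprime x y → ∀ g : K, g ^ (Nat.gcd d x) = 1 →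
      g ^ (Nat.gcd d y) = 1 → g = 1 := by
    intro x y hxy g h1 h2
    have h4 : Nat.Coprime (Nat.gcd d x) (Nat.gcd d y) :=
      Nat.Coprime.coprime_dvd_left (Nat.gcd_dvd_right d x)
        (Nat.Coprime.coprime_dvd_right (Nat.gcd_dvd_right d y) hxy)
    exact (pow_eq_one_iff_of_coprime h4).mp ⟨h1, h2⟩
  have hU : (Finset.univ.filter fun g : K => g ^ d = 1) =
      ((Finset.univ.filter fun g : K => g ^ (Nat.gcd d a) = 1) ∪
        (Finset.univ.filter fun g : K => g ^ (Nat.gcd d b) = 1)) ∪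
        (Finset.univ.filter fun g : K => g ^ (Nat.gcd d c) = 1) := by
    ext g
    simp only [Finset.mem_filter, Finset.mem_univ, true_and, Finset.mem_union]
    constructor
    · intro hg
      rcases h g with h1 | h1 | h1
      · exact Or.inl (Or.inl (pow_gcd_eq_one.mpr ⟨hg, h1⟩))
      · exact Or.inl (Or.inr (pow_gcd_eq_one.mpr ⟨hg, h1⟩))
      · exact Or.inr (pow_gcd_eq_one.mpr ⟨hg, h1⟩)
    · rintro ((h1 | h1) | h1)
      · exact (pow_gcd_eq_one.mp h1).1
      · exact (pow_gcd_eq_one.mp h1).1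
      · exact (pow_gcd_eq_one.mp h1).1
  have hab' : (Finset.univ.filter fun g : K => g ^ (Nat.gcd d a) = 1) ∩
      (Finset.univ.filter fun g : K => g ^ (Nat.gcd d b) = 1) = {1} := by
    ext g
    simp only [Finset.mem_filter, Finset.mem_univ, true_and, Finset.mem_inter,
      Finset.mem_singleton]
    constructor
    · rintro ⟨h1, h2⟩
      exact key a b hab g h1 h2
    · rintro rfl
      simp
  have hc' : ((Finset.univ.filter fun g : K => g ^ (Nat.gcd d a) = 1) ∪
        (Finset.univ.filter fun g : K => g ^ (Nat.gcd d b) = 1)) ∩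
        (Finset.univ.filter fun g : K => g ^ (Nat.gcd d c) = 1) = {1} := by
    ext g
    simp only [Finset.mem_filter, Finset.mem_univ, true_and, Finset.mem_inter,
      Finset.mem_singleton, Finset.mem_union]
    constructor
    · rintro ⟨h1 | h1, h2⟩
      · exact key a c hac g h1 h2
      · exact key b c hbc g h1 h2
    · rintro rfl
      simp
  have e1 := Finset.card_union_add_card_inter
    (Finset.univ.filter fun g : K => g ^ (Nat.gcd d a) = 1)
    (Finset.univ.filter fun g : K => g ^ (Nat.gcd d b) = 1)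
  have e2 := Finset.card_union_add_card_inter
    ((Finset.univ.filter fun g : K => g ^ (Nat.gcd d a) = 1) ∪
      (Finset.univ.filter fun g : K => g ^ (Nat.gcd d b) = 1))
    (Finset.univ.filter fun g : K => g ^ (Nat.gcd d c) = 1)
  rw [hab', Finset.card_singleton] at e1
  rw [hc', Finset.card_singleton] at e2
  rw [hU]
  omega

abbrev SL32_24 : Type := Matrix.SpecialLinearGroup (Fin 3) (ZMod 2)

instance fintypeSL32_24 : Fintype SL32_24 :=
  inferInstanceAs (Fintype {A : Matrix (Fin 3) (Fin 3) (ZMod 2) // A.det = 1})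

set_option maxRecDepth 100000 in
theorem triSL32_24 : ∀ A : SL32_24, (A * A) * (A * A) = 1 ∨ A * A * A = 1 ∨
    A * A * A * A * A * A * A = 1 := by decide +kernel

set_option maxRecDepth 100000 in
theorem cntSL32_24 :
    (Finset.univ.filter fun A : SL32_24 => A * A = 1).card = 22 ∧
    (Finset.univ.filter fun A : SL32_24 => A * A * A = 1).card = 57 ∧
    (Finset.univ.filter fun A : SL32_24 => (A * A) * (A * A) = 1).card = 64 ∧
    (Finset.univ.filter fun A : SL32_24 => A * A * A * A * A * A * A = 1).card = 49 := by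
  decide +kernel

open scoped commutatorElement

theorem ot24_filter_congr (X : Type*) [Group X] [Fintype X] (n : ℕ) (P : X → Prop)
    [DecidablePred P] (h : ∀ x : X, x ^ n = 1 ↔ P x) :
    ot24 X n = (Finset.univ.filter P).card := by
  classical
  rw [ot24_eq_card_filter]
  congr 1
  ext x
  simp only [Finset.mem_filter, Finset.mem_univ, true_and]
  exact h x

theorem triSL32pow_24 (A : SL32_24) : A ^ 4 = 1 ∨ A ^ 3 = 1 ∨ A ^ 7 = 1 := by
  rcases triSL32_24 A with h | h | h
  · left
    rw [← h]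
    simp only [pow_succ, pow_zero, one_mul, mul_assoc]
  · right; left
    rw [← h]
    simp only [pow_succ, pow_zero, one_mul]
  · right; right
    rw [← h]
    simp only [pow_succ, pow_zero, one_mul]

theorem expSL32_24 : ∀ g : SL32_24, g ^ 84 = 1 := by
  intro g
  rcases triSL32pow_24 g with h | h | h
  · rw [show 84 = 4 * 21 from rfl, pow_mul, h, one_pow]
  · rw [show 84 = 3 * 28 from rfl, pow_mul, h, one_pow]
  · rw [show 84 = 7 * 12 from rfl, pow_mul, h, one_pow]

theorem valSL32_24 : ot24 SL32_24 1 = 1 ∧ ot24 SL32_24 2 = 22 ∧ ot24 SL32_24 3 = 57 ∧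
    ot24 SL32_24 4 = 64 ∧ ot24 SL32_24 7 = 49 := by
  obtain ⟨h2, h3, h4, h7⟩ := cntSL32_24
  refine ⟨?_, ?_, ?_, ?_, ?_⟩
  · rw [ot24_filter_congr SL32_24 1 (fun x => x = 1) (fun x => by rw [pow_one])]
    exact Finset.card_eq_one.mpr ⟨1, by ext; simp⟩
  · rw [← h2]
    exact ot24_filter_congr SL32_24 2 _ (fun x => by rw [pow_two])
  · rw [← h3]
    exact ot24_filter_congr SL32_24 3 _ (fun x => by simp only [pow_succ, pow_zero, one_mul])
  · rw [← h4]
    exact ot24_filter_congr SL32_24 4 _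
      (fun x => by simp only [pow_succ, pow_zero, one_mul, mul_assoc])
  · rw [← h7]
    exact ot24_filter_congr SL32_24 7 _ (fun x => by simp only [pow_succ, pow_zero, one_mul])

theorem tabSL32_24 : ∀ d ∈ D84_24, ot24 SL32_24 d =
    1 + bdv24 2 d 21 + bdv24 3 d 56 + bdv24 4 d 42 + bdv24 7 d 48 := by
  obtain ⟨v1, v2, v3, v4, v7⟩ := valSL32_24
  intro d hd
  have e := ot24_three (K := SL32_24) 4 3 7 (by decide) (by decide) (by decide) triSL32pow_24 d
  simp only [D84_24, Finset.mem_insert, Finset.mem_singleton] at hd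
  rcases hd with rfl | rfl | rfl | rfl | rfl | rfl | rfl | rfl | rfl | rfl | rfl | rfl <;>
    norm_num [v1, v2, v3, v4, v7, bdv24] at e ⊢ <;> omega

def slx24 : SL32_24 := ⟨!![0, 0, 1; 0, 1, 0; 1, 0, 0], by decide⟩

def sly24 : SL32_24 := ⟨!![0, 0, 1; 0, 1, 1; 1, 1, 0], by decide⟩

def slz24 : SL32_24 := ⟨!![0, 0, 1; 0, 1, 1; 1, 0, 0], by decide⟩

set_option maxRecDepth 100000 in
theorem slkey24 : slx24 = slz24 * ⁅slx24, sly24 * slx24 * sly24⁻¹⁆ * slz24⁻¹ := by decide +kernel

theorem slne24 : slx24 ≠ 1 := by decide +kernel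

theorem nonsolvSL32_24 : ¬ Group.IsSolvable SL32_24 := by
  refine not_isSolvable_of_mem_derivedSeries slne24 fun n => ?_
  induction n with
  | zero => exact Subgroup.mem_top slx24
  | succ n ih =>
    rw [slkey24, (derivedSeries_normal _ _).mem_comm_iff, inv_mul_cancel_left]
    exact Subgroup.commutator_mem_commutator ih ((derivedSeries_normal _ _).conj_mem _ ih _)

end Cfsg.Agent.Lib.Helper24
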