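import Mathlib
import Cfsg.Agent.Lib.Helper24.OT5
import Cfsg.Agent.Lib.Helper24.OT6

namespace Cfsg.Agent.Lib.Helper24

theorem otsum24 {X : Type*} [Group X] [Finite X] {χ : X →* ℤˣ} {d a1 a2 : ℕ}
    (h : cnt24 X χ d 1 = a1 ∧ cnt24 X χ d (-1) = a2) : ot24 X d = a1 + a2 := by
  rw [ot24_eq_cnt24 X χ d, h.1, h.2]

theorem fib2_24 {X Y : Type*} [Group X] [Group Y] [Finite X] [Finite Y] {χ : X →* ℤˣ}
    {ψ : Y →* ℤˣ} {d a1 a2 b1 b2 : ℕ}
    (hX : cnt24 X χ d 1 = a1 ∧ cnt24 X χ d (-1) = a2)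
    (hY : cnt24 Y ψ d 1 = b1 ∧ cnt24 Y ψ d (-1) = b2) :
    ot24 (chi24_prod χ ψ).ker d = a1 * b1 + a2 * b2 := by
  rw [ot24_ker, cnt24_prod, hX.1, hX.2, hY.1, hY.2]

theorem fib3_24 {X Y Z : Type*} [Group X] [Group Y] [Group Z] [Finite X] [Finite Y] [Finite Z]
    {χ : X →* ℤˣ} {ψ : Y →* ℤˣ} {ω : Z →* ℤˣ} {d a1 a2 b1 b2 c1 c2 : ℕ}
    (hX : cnt24 X χ d 1 = a1 ∧ cnt24 X χ d (-1) = a2)
    (hY : cnt24 Y ψ d 1 = b1 ∧ cnt24 Y ψ d (-1) = b2)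
    (hZ : cnt24 Z ω d 1 = c1 ∧ cnt24 Z ω d (-1) = c2) :
    ot24 (chi24_prod χ (chi24_prod ψ ω)).ker d =
      a1 * (b1 * c1 + b2 * c2) + a2 * (b1 * c2 + b2 * c1) := by
  rw [ot24_ker, cnt24_prod, cnt24_prod, cnt24_prod, neg_neg, hX.1, hX.2, hY.1, hY.2, hZ.1, hZ.2]

abbrev GS24 : Type :=
  (Fin 6 → (Multiplicative (ZMod 4))) ×
    (Fin 6 → (DihedralGroup 3)) ×
    (Multiplicative (ZMod 7)) ×
    (Fin 6 → (DihedralGroup 7)) ×
    (Fin 3 → (DihedralGroup 12)) ×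
    (Fin 3 → (DihedralGroup 21)) ×
    (Fin 6 → F42_24) ×
    (Fin 3 → AGammaL8_24) ×
    (Fin 3 → (chi24_prod (dsgn24 3) (dsgn24 3)).ker) ×
    (Fin 3 → (chi24_prod (dsgn24 3) (dalt24_4)).ker) ×
    (Fin 3 → (chi24_prod (dalt24_4) (dsgn24 7)).ker) ×
    (Fin 2 → (chi24_prod (dsgn24 7) (dsgn24 7)).ker) ×
    (Fin 6 → (chi24_prod (dsgn24 3) (qsgn24 21)).ker) ×
    (Fin 3 → (chi24_prod (dsgn24 4) (chi24_prod (dalt24_4) (dsgn24 7))).ker) ×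
    (Fin 3 → (chi24_prod (dsgn24 3) (chi24_prod (dsgn24 3) (qsgn24 7))).ker)

abbrev HS24 : Type :=
  (Fin 3 → SL32_24) ×
    (Fin 21 → (Multiplicative (ZMod 2))) ×
    (Fin 3 → (Multiplicative (ZMod 3))) ×
    (Fin 3 → (DihedralGroup 4)) ×
    (Fin 3 → (QuaternionGroup 3)) ×
    (Fin 4 → F21_24) ×
    (Fin 6 → (QuaternionGroup 7)) ×
    (Fin 3 → (DihedralGroup 28)) ×
    (Fin 3 → (QuaternionGroup 21)) ×
    (Fin 3 → (chi24_prod (dsgn24 3) (qsgn24 3)).ker) ×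
    (Fin 6 → (chi24_prod (dsgn24 3) (dsgn24 21)).ker) ×
    (Fin 3 → (chi24_prod (dsgn24 7) (dalt24_12)).ker) ×
    (Fin 3 → (chi24_prod (dsgn24 3) (chi24_prod (dsgn24 3) (dsgn24 7))).ker) ×
    (Fin 2 → (chi24_prod (dsgn24 7) (fsgn24)).ker) ×
    (Fin 3 → (chi24_prod (dsgn24 3) (chi24_prod (dsgn24 4) (dsgn24 7))).ker)

set_option synthInstance.maxSize 2000 in
set_option synthInstance.maxHeartbeats 2000000 in
instance finGS24 : Finite GS24 := inferInstance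

set_option synthInstance.maxSize 2000 in
set_option synthInstance.maxHeartbeats 2000000 in
instance finHS24 : Finite HS24 := inferInstance

theorem expGS24 : ∀ g : GS24, g ^ 84 = 1 :=
  (exp24_prod 84 (exp24_pi 84 expC4_24)
    (exp24_prod 84 (exp24_pi 84 expD3_24)
    (exp24_prod 84 expC7_24
    (exp24_prod 84 (exp24_pi 84 expD7_24)
    (exp24_prod 84 (exp24_pi 84 expD12_24)
    (exp24_prod 84 (exp24_pi 84 expD21_24)
    (exp24_prod 84 (exp24_pi 84 expF42_24)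
    (exp24_prod 84 (exp24_pi 84 expAGammaL8_24)
    (exp24_prod 84 (exp24_pi 84 (exp24_subgroup 84 _ (exp24_prod 84 expD3_24 expD3_24)))
    (exp24_prod 84 (exp24_pi 84 (exp24_subgroup 84 _ (exp24_prod 84 expD3_24 expD4_24)))
    (exp24_prod 84 (exp24_pi 84 (exp24_subgroup 84 _ (exp24_prod 84 expD4_24 expD7_24)))
    (exp24_prod 84 (exp24_pi 84 (exp24_subgroup 84 _ (exp24_prod 84 expD7_24 expD7_24)))
    (exp24_prod 84 (exp24_pi 84 (exp24_subgroup 84 _ (exp24_prod 84 expD3_24 expQ21_24)))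
    (exp24_prod 84 (exp24_pi 84 (exp24_subgroup 84 _ (exp24_prod 84 expD4_24 (exp24_prod 84 expD4_24 expD7_24))))
    (exp24_pi 84 (exp24_subgroup 84 _ (exp24_prod 84 expD3_24 (exp24_prod 84 expD3_24 expQ7_24))))))))))))))))))

theorem expHS24 : ∀ g : HS24, g ^ 84 = 1 :=
  (exp24_prod 84 (exp24_pi 84 expSL32_24)
    (exp24_prod 84 (exp24_pi 84 expC2_24)
    (exp24_prod 84 (exp24_pi 84 expC3_24)
    (exp24_prod 84 (exp24_pi 84 expD4_24)
    (exp24_prod 84 (exp24_pi 84 expQ3_24)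
    (exp24_prod 84 (exp24_pi 84 expF21_24)
    (exp24_prod 84 (exp24_pi 84 expQ7_24)
    (exp24_prod 84 (exp24_pi 84 expD28_24)
    (exp24_prod 84 (exp24_pi 84 expQ21_24)
    (exp24_prod 84 (exp24_pi 84 (exp24_subgroup 84 _ (exp24_prod 84 expD3_24 expQ3_24)))
    (exp24_prod 84 (exp24_pi 84 (exp24_subgroup 84 _ (exp24_prod 84 expD3_24 expD21_24)))
    (exp24_prod 84 (exp24_pi 84 (exp24_subgroup 84 _ (exp24_prod 84 expD7_24 expD12_24)))
    (exp24_prod 84 (exp24_pi 84 (exp24_subgroup 84 _ (exp24_prod 84 expD3_24 (exp24_prod 84 expD3_24 expD7_24))))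
    (exp24_prod 84 (exp24_pi 84 (exp24_subgroup 84 _ (exp24_prod 84 expD7_24 expF42_24)))
    (exp24_pi 84 (exp24_subgroup 84 _ (exp24_prod 84 expD3_24 (exp24_prod 84 expD4_24 expD7_24))))))))))))))))))

set_option maxRecDepth 100000 in
theorem mainOT24 : ∀ d ∈ D84_24, ot24 GS24 d = ot24 HS24 d := by
  intro d hd
  simp only [ot24_prod, ot24_pi, Nat.card_eq_fintype_card, Fintype.card_fin]
  rw [tabC4_24 d hd,
    otsum24 (tabD3_24 d hd),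
    tabC7_24 d hd,
    otsum24 (tabD7_24 d hd),
    otsum24 (tabD12_24 d hd),
    otsum24 (tabD21_24 d hd),
    otsum24 (tabF42_24 d hd),
    tabAGammaL8_24 d hd,
    fib2_24 (tabD3_24 d hd) (tabD3_24 d hd),
    fib2_24 (tabD3_24 d hd) (tabDa4_24 d hd),
    fib2_24 (tabDa4_24 d hd) (tabD7_24 d hd),
    fib2_24 (tabD7_24 d hd) (tabD7_24 d hd),
    fib2_24 (tabD3_24 d hd) (tabQ21_24 d hd),
    fib3_24 (tabD4_24 d hd) (tabDa4_24 d hd) (tabD7_24 d hd),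
    fib3_24 (tabD3_24 d hd) (tabD3_24 d hd) (tabQ7_24 d hd)]
  rw [tabSL32_24 d hd,
    tabC2_24 d hd,
    tabC3_24 d hd,
    otsum24 (tabD4_24 d hd),
    otsum24 (tabQ3_24 d hd),
    tabF21_24 d hd,
    otsum24 (tabQ7_24 d hd),
    otsum24 (tabD28_24 d hd),
    otsum24 (tabQ21_24 d hd),
    fib2_24 (tabD3_24 d hd) (tabQ3_24 d hd),
    fib2_24 (tabD3_24 d hd) (tabD21_24 d hd),
    fib2_24 (tabD7_24 d hd) (tabDa12_24 d hd),
    fib3_24 (tabD3_24 d hd) (tabD3_24 d hd) (tabD7_24 d hd),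
    fib2_24 (tabD7_24 d hd) (tabF42_24 d hd),
    fib3_24 (tabD3_24 d hd) (tabD4_24 d hd) (tabD7_24 d hd)]
  revert d
  decide +kernel

theorem allOT24 (n : ℕ) : ot24 GS24 n = ot24 HS24 n :=
  ot24_all_of_divisors 84 (by norm_num) expGS24 expHS24
    (by rw [divisors84_24]; exact mainOT24) n

theorem solvGS24 : Group.IsSolvable GS24 := inferInstance

theorem nonsolvHS24 : ¬ Group.IsSolvable HS24 := by
  intro h
  apply nonsolvSL32_24
  let f1 : HS24 →* (Fin 3 → SL32_24) := MonoidHom.fst _ _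
  let f2 : (Fin 3 → SL32_24) →* SL32_24 := Pi.evalMonoidHom (fun _ : Fin 3 => SL32_24) 0
  refine Group.isSolvable_of_surjective (f := f2.comp f1) ?_
  intro s
  exact ⟨(fun _ => s, 1), rfl⟩

end Cfsg.Agent.Lib.Helper24
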