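import Mathlib
import Cfsg.Prelude.Def_GeometricClasses
import Cfsg.Agent.Lib.Helper19.OU.Defs
import Cfsg.Agent.Lib.Helper10.OUEXSS
import Cfsg.Agent.Lib.Helper25.OUKLI
import Cfsg.Agent.Lib.Helper11.OUUSG
import Cfsg.Agent.Lib.Helper1.OURSSUB
import Cfsg.Agent.Lib.Helper13.OUFORM

set_option autoImplicit false
set_option linter.unusedVariables false
set_option linter.unusedSectionVars false

namespace Cfsg.Agent.Lib.Helper19.OU

open Matrix Cfsg.Agent.Lib.Helper28.HForm Cfsg.Agent.Lib.Helper28.OGen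
  Cfsg.Agent.Lib.Helper28.OMax Cfsg.Agent.Lib.Helper28.OQ Cfsg.Agent.Lib.Helper28.OMax2
  Cfsg.Agent.Lib.Helper28.OIwa Cfsg.Agent.Lib.Helper28.OPair

variable {n : ℕ} {F : Type*} [Field F] {Q : (Fin n → F) → F}
  {f : (Fin n → F) → (Fin n → F) → F} {θ : Matrix (Fin n) (Fin n) F} {t N : F}
  {G M : Subgroup (Matrix.GeneralLinearGroup (Fin n) F)}

theorem ouspr1h_step (ks : KS Q f θ t N) (am : Amb Q f θ G M) {u x w' : Fin n → F}
    (hu : Q u = 0) (hu0 : u ≠ 0) (hx : Q x = 0) (hw' : Q w' = 0)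
    (hux : HO f θ u x) (huw : HO f θ u w') (hxw : HO f θ x w')
    (hxu : x ∉ Kl θ u) (hw'n : w' ∉ Kl θ u ⊔ Kl θ x) (hxR : x ∈ RS Q f M u)
    (c : Fin 6 → F) (j : Fin 6) (hj : c j ≠ 0)
    (hQj : Q (![u, θ *ᵥ u, x, θ *ᵥ x, w', θ *ᵥ w'] j) = 0)
    (hfj : ∀ i, f (![u, θ *ᵥ u, x, θ *ᵥ x, w', θ *ᵥ w'] i)
      (![u, θ *ᵥ u, x, θ *ᵥ x, w', θ *ᵥ w'] j) = 0)
    (h0 : c 0 = 0) (h1 : c 1 = 0) (h4 : c 4 = 0) (h5 : c 5 = 0) :
    c 2 • (θ *ᵥ w') - (t * c 2 - c 3) • w' ∈ RS Q f M u := by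
  have hq := ks.hq
  have hs := hq.sym
  obtain ⟨w, hw, hwc⟩ := ex_sing_solve hq _ (kl_li6 ks hu0 hxu hw'n) c j hj hQj hfj
  have e0 : f u w = 0 := by simpa [h0] using hwc 0
  have e1 : f (θ *ᵥ u) w = 0 := by simpa [h1] using hwc 1
  have e2 : f x w = c 2 := by simpa using hwc 2
  have e3 : f (θ *ᵥ x) w = c 3 := by simpa using hwc 3
  have e4 : f w' w = 0 := by simpa [h4] using hwc 4
  have e5 : f (θ *ᵥ w') w = 0 := by simpa [h5] using hwc 5
  have hoUW : HO f θ u w := ⟨e0, e1⟩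
  have hoWU : HO f θ w u := ho_symm ks hoUW
  have hoW'W : HO f θ w' w := ⟨e4, e5⟩
  have hoWW' : HO f θ w w' := ho_symm ks hoW'W
  have hoW'U : HO f θ w' u := ho_symm ks huw
  have hoW'X : HO f θ w' x := ho_symm ks hxw
  obtain ⟨g, hgM, hg⟩ := usg_ex ks am hw hw' hoWW'
  have hgu : (g : Matrix (Fin n) (Fin n) F) *ᵥ u = u := by
    rw [hg, hoWU.1, hoWU.2, hoW'U.1, hoW'U.2]
    simp
  have hwx : f w x = c 2 := by rw [s_symm hs, e2]
  have hθwx : f (θ *ᵥ w) x = t * c 2 - c 3 := by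
    rw [ks.adj, hwx, s_symm hs, e3]
  have hgx : (g : Matrix (Fin n) (Fin n) F) *ᵥ x - x
      = c 2 • (θ *ᵥ w') - (t * c 2 - c 3) • w' := by
    rw [hg, hwx, hθwx, hoW'X.1, hoW'X.2]
    module
  rw [← hgx]
  exact rs_conj_fix hq am.vf am.hG am.hM hgM hu hu0 hgu hxR

theorem spread_one (ks : KS Q f θ t N) (am : Amb Q f θ G M) {u x w' : Fin n → F}
    (hu : Q u = 0) (hu0 : u ≠ 0) (hx : Q x = 0) (hw' : Q w' = 0)
    (hux : HO f θ u x) (huw : HO f θ u w') (hxw : HO f θ x w')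
    (hxu : x ∉ Kl θ u) (hw'n : w' ∉ Kl θ u ⊔ Kl θ x) (hxR : x ∈ RS Q f M u) :
    ∀ y ∈ Kl θ w', y ∈ RS Q f M u := by
  have hq := ks.hq
  have hs := hq.sym
  have hoXU : HO f θ x u := ho_symm ks hux
  have hoW'X : HO f θ w' x := ho_symm ks hxw
  have hsx := ks_sing ks hx
  have htx := ho_theta ks hux
  have htw := ho_theta ks hoW'X
  have hA : θ *ᵥ w' ∈ RS Q f M u := by
    have h := ouspr1h_step ks am hu hu0 hx hw' hux huw hxw hxu hw'n hxR
      ![0, 0, 1, t, 0, 0] 2 (by simp) (by simpa using hx)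
      (by
        intro i
        fin_cases i
        · simpa using hux.1
        · simpa using hux.2
        · simpa using f_sing hq hx
        · simpa using hsx.2.2
        · simpa using hoW'X.1
        · simpa using hoW'X.2)
      (by simp) (by simp) (by simp) (by simp)
    simpa using h
  have hB : w' ∈ RS Q f M u := by
    have h := ouspr1h_step ks am hu hu0 hx hw' hux huw hxw hxu hw'n hxR
      ![0, 0, 0, 1, 0, 0] 3 (by simp) (by simpa using hsx.1)
      (by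
        intro i
        fin_cases i
        · simpa using htx.1
        · simpa using htx.2
        · simpa using hsx.2.1
        · simpa using f_sing hq hsx.1
        · simpa using htw.1
        · simpa using htw.2)
      (by simp) (by simp) (by simp) (by simp)
    simpa using h
  intro y hy
  obtain ⟨a, b, rfl⟩ := Submodule.mem_span_pair.mp hy
  exact rs_add hq am.vf am.hG hu hu0 (rs_smul hq a hB) (rs_smul hq b hA)

end Cfsg.Agent.Lib.Helper19.OU
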