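import Cfsg.Agent.Lib.Helper24.RealBlock4

set_option autoImplicit false
open scoped ComplexConjugate

namespace Cfsg.Agent.Lib.Helper24

open Cfsg.Agent.Lib.helper2 Cfsg.Agent.Lib.helper7 Cfsg.Agent.Lib.Helper11 Cfsg.Agent.Lib.Helper25

section rb5

variable {G : Type*} [Group G] [Fintype G]

theorem rb_theta_genChar :
    Cfsg.IsGeneralizedCharacter G
      (fun x : G => if 2 ∣ orderOf x then (0 : ℂ) else (2 : ℂ) ^ (Nat.card G).factorization 2) := by
  obtain ⟨n, ρ, hρ, hχ⟩ := (trivIrr G).2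
  haveI := hρ
  have h1 : Module.finrank ℂ (Fin n → ℂ) = 1 := by
    have h2 := Representation.char_one ρ
    rw [hχ, trivIrr_apply] at h2
    exact_mod_cast h2.symm
  have hG : Nat.card G ≠ 0 := Nat.card_pos.ne'
  have hk : Nat.card G = Module.finrank ℂ (Fin n → ℂ) *
      (2 ^ (Nat.card G).factorization 2 * (Nat.card G / 2 ^ (Nat.card G).factorization 2)) := by
    rw [h1, one_mul, Nat.ordProj_mul_ordCompl_eq_self]
  have hpk : ¬ 2 ∣ Nat.card G / 2 ^ (Nat.card G).factorization 2 :=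
    Nat.not_dvd_ordCompl Nat.prime_two hG
  have h3 := prg_genChar ρ 2 Nat.prime_two _ _ hk hpk
  convert h3 using 2
  rename_i x
  rw [hχ, trivIrr_apply, mul_one]
  norm_num

theorem rb_inner_ne_zero [Fintype (Cfsg.IrrCharacter G)] (M : Ideal Cfsg.AlgInt)
    (hM : Cfsg.IsPModular 2 M) (ψ : Cfsg.IrrCharacter G)
    (hreal : ∀ g : G, ((ψ : G → ℂ) g).im = 0) (hψ : ψ ∈ Cfsg.principalBlock M G) (a : ℕ) :
    Cfsg.classInner (fun x : G => if 2 ∣ orderOf x then (0 : ℂ) else (2 : ℂ) ^ a)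
      (ψ : G → ℂ) ≠ 0 := by
  classical
  haveI : Fintype (ConjClasses G) := Fintype.ofFinite _
  have hMp := hM.2.1.isPrime
  intro h0
  unfold Cfsg.classInner at h0
  have hG : (Nat.card G : ℂ)⁻¹ ≠ 0 := by
    apply inv_ne_zero
    exact_mod_cast Nat.card_pos.ne'
  have h1 := (mul_eq_zero.mp h0).resolve_left hG
  have hord : ∀ g h : G, orderOf (h * g * h⁻¹) = orderOf g := by
    intro g h
    have := orderOf_injective (MulAut.conj h).toMonoidHom (MulAut.conj h).injective g
    simpa using this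
  rw [h7_sum_eq_sum_conjClasses (fun g : G =>
    (if 2 ∣ orderOf g then (0 : ℂ) else (2 : ℂ) ^ a) * conj ((ψ : G → ℂ) g)) (by
      intro g h
      rw [hord, h7_irr_isClassFunction ψ.2 g h])] at h1
  have hψ1 := irr_one_ne_zero ψ
  have h2 : ∀ K : ConjClasses G,
      (Subgroup.centralizer ({Quotient.out K} : Set G)).index •
        ((if 2 ∣ orderOf (Quotient.out K) then (0 : ℂ) else (2 : ℂ) ^ a) *
          conj ((ψ : G → ℂ) (Quotient.out K))) =
      ((2 : ℂ) ^ a * (ψ : G → ℂ) 1) *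
        (if 2 ∣ orderOf (Quotient.out K) then (0 : ℂ) else
          Cfsg.centralChar (ψ : G → ℂ) (Quotient.out K)) := by
    intro K
    by_cases h : 2 ∣ orderOf (Quotient.out K)
    · rw [if_pos h, if_pos h, zero_mul, smul_zero, mul_zero]
    · rw [if_neg h, if_neg h, Complex.conj_eq_iff_im.mpr (hreal _), nsmul_eq_mul]
      unfold Cfsg.centralChar
      field_simp
  rw [Finset.sum_congr rfl (fun K _ => h2 K), ← Finset.mul_sum] at h1
  have h3 : ∑ K : ConjClasses G, (if 2 ∣ orderOf (Quotient.out K) then (0 : ℂ) else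
      Cfsg.centralChar (ψ : G → ℂ) (Quotient.out K)) = 0 := by
    refine (mul_eq_zero.mp h1).resolve_left ?_
    exact mul_ne_zero (pow_ne_zero _ two_ne_zero) hψ1
  have h4 : Cfsg.MemLocalIdeal M (∑ K : ConjClasses G,
      (if 2 ∣ orderOf (Quotient.out K) then (0 : ℂ) else
        (Cfsg.centralChar (fun _ : G => (1 : ℂ)) (Quotient.out K) -
          Cfsg.centralChar (ψ : G → ℂ) (Quotient.out K)))) := by
    apply h7_memLocalIdeal_sum hMp
    intro K _
    by_cases h : 2 ∣ orderOf (Quotient.out K)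
    · rw [if_pos h]
      exact h7_memLocalIdeal_zero hMp
    · rw [if_neg h]
      exact hψ (Quotient.out K)
  have h5 : ∑ K : ConjClasses G,
      (if 2 ∣ orderOf (Quotient.out K) then (0 : ℂ) else
        (Cfsg.centralChar (fun _ : G => (1 : ℂ)) (Quotient.out K) -
          Cfsg.centralChar (ψ : G → ℂ) (Quotient.out K))) =
      ((Finset.univ.filter (fun g : G => ¬ 2 ∣ orderOf g)).card : ℂ) := by
    have e1 : ∀ K : ConjClasses G,
        (if 2 ∣ orderOf (Quotient.out K) then (0 : ℂ) else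
          (Cfsg.centralChar (fun _ : G => (1 : ℂ)) (Quotient.out K) -
            Cfsg.centralChar (ψ : G → ℂ) (Quotient.out K))) =
        (Subgroup.centralizer ({Quotient.out K} : Set G)).index •
          (if 2 ∣ orderOf (Quotient.out K) then (0 : ℂ) else 1) -
        (if 2 ∣ orderOf (Quotient.out K) then (0 : ℂ) else
          Cfsg.centralChar (ψ : G → ℂ) (Quotient.out K)) := by
      intro K
      by_cases h : 2 ∣ orderOf (Quotient.out K)
      · rw [if_pos h, if_pos h, if_pos h, smul_zero, sub_zero]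
      · rw [if_neg h, if_neg h, if_neg h, nsmul_eq_mul, mul_one]
        unfold Cfsg.centralChar
        rw [mul_one, div_one]
    rw [Finset.sum_congr rfl (fun K _ => e1 K), Finset.sum_sub_distrib, h3, sub_zero,
      ← h7_sum_eq_sum_conjClasses (fun g : G => if 2 ∣ orderOf g then (0 : ℂ) else 1) (by
        intro g h
        rw [hord]), Finset.card_filter]
    push_cast
    refine Finset.sum_congr rfl fun g _ => ?_
    by_cases h : 2 ∣ orderOf g
    · rw [if_pos h, if_neg (not_not.mpr h)]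
    · rw [if_neg h, if_pos h]
  rw [h5] at h4
  obtain ⟨m, hm⟩ := rb_card_odd_order (G := G)
  rw [hm] at h4
  have h6 : Cfsg.MemLocalIdeal M (m • ((2 : ℕ) : ℂ)) :=
    h7_memLocalIdeal_nsmul hMp m (h7_memLocalIdeal_p hM)
  have h7 := h7_memLocalIdeal_sub hMp h4 h6
  have e : (((2 * m + 1 : ℕ) : ℂ)) - m • ((2 : ℕ) : ℂ) = 1 := by
    rw [nsmul_eq_mul]
    push_cast
    ring
  rw [e] at h7
  exact h7_not_memLocalIdeal_one hMp h7

theorem rb_count [Fintype (Cfsg.IrrCharacter G)] (M : Ideal Cfsg.AlgInt)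
    (hM : Cfsg.IsPModular 2 M) :
    Nat.card {χ : Cfsg.IrrCharacter G // (∀ g : G, ((χ : G → ℂ) g).im = 0) ∧
      Odd (Cfsg.charDegree (χ : G → ℂ))} ≤ 2 ^ (2 * (Nat.card G).factorization 2) := by
  classical
  set a := (Nat.card G).factorization 2 with ha
  set θ : G → ℂ := fun x => if 2 ∣ orderOf x then (0 : ℂ) else (2 : ℂ) ^ a with hθ
  have hθgen : Cfsg.IsGeneralizedCharacter G θ := rb_theta_genChar
  have hcl := genChar_classFunction θ hθgen
  have hc := fun η => genChar_inner_int θ hθgen η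
  choose c hc using hc
  have hpar := classInner_parseval θ hcl
  simp only [hc, map_intCast] at hpar
  set Ω := Finset.univ.filter (fun g : G => ¬ 2 ∣ orderOf g) with hΩ
  have hθθ : Cfsg.classInner θ θ = (Nat.card G : ℂ)⁻¹ * ((Ω.card : ℂ) * (2 : ℂ) ^ (2 * a)) := by
    unfold Cfsg.classInner
    congr 1
    rw [hΩ, Finset.card_filter]
    push_cast
    rw [Finset.sum_mul]
    refine Finset.sum_congr rfl fun g _ => ?_
    by_cases h : 2 ∣ orderOf g
    · simp [hθ, h]
    · simp only [hθ, if_neg h, if_pos h, map_pow, one_mul]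
      rw [Complex.conj_ofNat, two_mul, pow_add]
  have hG : (Nat.card G : ℂ) ≠ 0 := by exact_mod_cast Nat.card_pos.ne'
  have hsumZ : (Nat.card G : ℤ) * ∑ η : Cfsg.IrrCharacter G, c η * c η =
      (Ω.card : ℤ) * 2 ^ (2 * a) := by
    have h1 : (((Nat.card G : ℤ) * ∑ η : Cfsg.IrrCharacter G, c η * c η : ℤ) : ℂ) =
        (((Ω.card : ℤ) * 2 ^ (2 * a) : ℤ) : ℂ) := by
      push_cast
      rw [← hpar, hθθ]
      field_simp
    exact_mod_cast h1
  have hΩle : Ω.card ≤ Nat.card G := by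
    rw [Nat.card_eq_fintype_card]
    exact Finset.card_le_univ _
  have hsumle : ∑ η : Cfsg.IrrCharacter G, c η * c η ≤ 2 ^ (2 * a) := by
    have hpos : (0 : ℤ) < (Nat.card G : ℤ) := by exact_mod_cast Nat.card_pos
    have h2 : (Nat.card G : ℤ) * ∑ η : Cfsg.IrrCharacter G, c η * c η ≤
        (Nat.card G : ℤ) * 2 ^ (2 * a) := by
      rw [hsumZ]
      have : (Ω.card : ℤ) ≤ (Nat.card G : ℤ) := by exact_mod_cast hΩle
      exact mul_le_mul_of_nonneg_right this (by positivity)
    exact le_of_mul_le_mul_left h2 hpos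
  set S := Finset.univ.filter (fun χ : Cfsg.IrrCharacter G =>
    (∀ g : G, ((χ : G → ℂ) g).im = 0) ∧ Odd (Cfsg.charDegree (χ : G → ℂ))) with hS
  have hScard : Nat.card {χ : Cfsg.IrrCharacter G // (∀ g : G, ((χ : G → ℂ) g).im = 0) ∧
      Odd (Cfsg.charDegree (χ : G → ℂ))} = S.card := by
    rw [Nat.card_eq_fintype_card, Fintype.card_subtype]
  rw [hScard]
  have hne : ∀ η ∈ S, c η ≠ 0 := by
    intro η hη h0
    obtain ⟨hr, ho⟩ := (Finset.mem_filter.mp hη).2
    have h1 := rb_inner_ne_zero M hM η hr (rb_real_principal M hM η hr ho) a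
    apply h1
    have h2 := hc η
    rw [h0] at h2
    simpa [hθ] using h2
  have h3 : (S.card : ℤ) ≤ ∑ η ∈ S, c η * c η := by
    have : (S.card : ℤ) = ∑ η ∈ S, (1 : ℤ) := by simp
    rw [this]
    refine Finset.sum_le_sum fun η hη => ?_
    have := mul_self_pos.mpr (hne η hη)
    omega
  have h4 : ∑ η ∈ S, c η * c η ≤ ∑ η : Cfsg.IrrCharacter G, c η * c η :=
    Finset.sum_le_sum_of_subset_of_nonneg (Finset.subset_univ _)
      (fun η _ _ => mul_self_nonneg (c η))
  have h5 : (S.card : ℤ) ≤ 2 ^ (2 * a) := h3.trans (h4.trans hsumle)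
  exact_mod_cast h5

end rb5

end Cfsg.Agent.Lib.Helper24
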