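import Cfsg.Agent.Lib.Helper24.SigmaParity
import Cfsg.Agent.Lib.Helper24.RealBlock5
import Cfsg.Agent.Lib.Helper11.GaloisConj

set_option autoImplicit false
open scoped ComplexConjugate

namespace Cfsg.Agent.Lib.Helper24

open Cfsg.Agent.Lib.helper2 Cfsg.Agent.Lib.helper7 Cfsg.Agent.Lib.Helper11 Cfsg.Agent.Lib.Helper25

section sp2

variable {G : Type*} [Group G] [Fintype G]

theorem sp_irr_pow (k : ℕ) (hk : Nat.Coprime k (Nat.card G)) (χ : Cfsg.IrrCharacter G) :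
    Cfsg.IsIrrCharacter G (fun g => (χ : G → ℂ) (g ^ k)) := by
  obtain ⟨τ, hτ⟩ := exists_ringAut_pow (Nat.card G) k Nat.card_pos hk
  have h1 := isIrrCharacter_ringAut τ χ.2
  have h2 : (fun g => τ ((χ : G → ℂ) g)) = fun g => (χ : G → ℂ) (g ^ k) := by
    funext g
    exact ringAut_character_apply τ k hτ (isCharacter_of_irr χ) g
  rw [h2] at h1
  exact h1

noncomputable def sp_gal (k : ℕ) (hk : Nat.Coprime k (Nat.card G)) (χ : Cfsg.IrrCharacter G) :
    Cfsg.IrrCharacter G :=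
  ⟨fun g => (χ : G → ℂ) (g ^ k), sp_irr_pow k hk χ⟩

theorem sp_gal_apply (k : ℕ) (hk : Nat.Coprime k (Nat.card G)) (χ : Cfsg.IrrCharacter G) (g : G) :
    (sp_gal k hk χ : G → ℂ) g = (χ : G → ℂ) (g ^ k) := rfl

theorem sp_gal_iterate (k : ℕ) (hk : Nat.Coprime k (Nat.card G)) (χ : Cfsg.IrrCharacter G)
    (n : ℕ) (g : G) :
    (((sp_gal k hk)^[n] χ : Cfsg.IrrCharacter G) : G → ℂ) g = (χ : G → ℂ) (g ^ (k ^ n)) := by
  induction n generalizing g with
  | zero => simp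
  | succ n ih =>
    rw [Function.iterate_succ_apply', sp_gal_apply, ih, ← pow_mul, pow_succ']

theorem sp_block_congr [Fintype (Cfsg.IrrCharacter G)] (p : ℕ) [hp : Fact p.Prime]
    (M : Ideal Cfsg.AlgInt) (hM : Cfsg.IsPModular p M)
    (χ₀ χ ψ : Cfsg.IrrCharacter G)
    (h : ∀ x : G, ¬ p ∣ orderOf x →
      Cfsg.centralChar (ψ : G → ℂ) x = Cfsg.centralChar (χ : G → ℂ) x)
    (hχ : χ ∈ Cfsg.blockOf M (χ₀ : G → ℂ)) : ψ ∈ Cfsg.blockOf M (χ₀ : G → ℂ) := by
  classical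
  haveI : Fintype (ConjClasses G) := Fintype.ofFinite _
  have hMp := hM.2.1.isPrime
  set B := Cfsg.blockOf M (χ₀ : G → ℂ) with hB
  set c : Cfsg.IrrCharacter G → ℂ := fun φ => if φ ∈ B then (1 : ℂ) else 0 with hc
  have h1 : c ψ = c χ := by
    rw [h7_eval_expand c ψ, h7_eval_expand c χ]
    refine Finset.sum_congr rfl fun K _ => ?_
    rw [h7_coef_indicator]
    by_cases hK : p ∣ orderOf (Quotient.out K)
    · rw [h7_blockCoeff_psingular hM χ₀ _ hK, zero_mul, zero_mul]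
    · rw [h _ hK]
  by_contra hψ
  simp only [hc, if_pos hχ, if_neg hψ] at h1
  exact zero_ne_one h1

end sp2

end Cfsg.Agent.Lib.Helper24
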