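import Cfsg.Agent.Lib.Helper24.RealBlock3
import Cfsg.Agent.Lib.Helper24.SigmaParity2

set_option autoImplicit false
open scoped ComplexConjugate

namespace Cfsg.Agent.Lib.Helper24

open Cfsg.Agent.Lib.helper2 Cfsg.Agent.Lib.helper7 Cfsg.Agent.Lib.Helper11 Cfsg.Agent.Lib.Helper25

section od1

variable {G : Type*} [Group G] [Fintype G]

open Classical in
theorem od_pair [Fintype (Cfsg.IrrCharacter G)] (M : Ideal Cfsg.AlgInt)
    (hM : Cfsg.IsPModular 2 M) (χ₀ ψ₁ ψ₂ : Cfsg.IrrCharacter G)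
    (hinv : ∀ x : G, ¬ 2 ∣ orderOf x → Cfsg.blockCoeff (Cfsg.blockOf M (χ₀ : G → ℂ)) x⁻¹ =
      Cfsg.blockCoeff (Cfsg.blockOf M (χ₀ : G → ℂ)) x)
    (h₁ : ∀ x : G, ¬ 2 ∣ orderOf x → Cfsg.MemLocalIdeal M
      (Cfsg.centralChar (ψ₁ : G → ℂ) x⁻¹ - Cfsg.centralChar (ψ₁ : G → ℂ) x))
    (h₂ : ∀ x : G, ¬ 2 ∣ orderOf x → Cfsg.MemLocalIdeal M
      (Cfsg.centralChar (ψ₂ : G → ℂ) x⁻¹ - Cfsg.centralChar (ψ₂ : G → ℂ) x))
    (hreal : ∀ x : G, ¬ 2 ∣ orderOf x → IsConj x x⁻¹ → Cfsg.MemLocalIdeal M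
      (Cfsg.centralChar (ψ₁ : G → ℂ) x - Cfsg.centralChar (ψ₂ : G → ℂ) x)) :
    Cfsg.MemLocalIdeal M ((if ψ₁ ∈ Cfsg.blockOf M (χ₀ : G → ℂ) then (1 : ℂ) else 0) -
      (if ψ₂ ∈ Cfsg.blockOf M (χ₀ : G → ℂ) then (1 : ℂ) else 0)) := by
  classical
  haveI : Fact (Nat.Prime 2) := ⟨Nat.prime_two⟩
  haveI : Fintype (ConjClasses G) := Fintype.ofFinite _
  have hMp := hM.2.1.isPrime
  set B := Cfsg.blockOf M (χ₀ : G → ℂ) with hB
  set c : Cfsg.IrrCharacter G → ℂ := fun φ => if φ ∈ B then (1 : ℂ) else 0 with hc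
  have hmemF : ∀ g : G, Cfsg.blockCoeff B g *
      (Cfsg.centralChar (ψ₁ : G → ℂ) g - Cfsg.centralChar (ψ₂ : G → ℂ) g) ∈
      h7_locSubring M hMp := fun g =>
    h7_memLocalRing_mul hMp (h7_osima hMp χ₀ g)
      (h7_memLocalRing_sub hMp (h7_memLocalRing_centralChar hMp ψ₁ g)
        (h7_memLocalRing_centralChar hMp ψ₂ g))
  let F : ConjClasses G → h7_locSubring M hMp := fun K =>
    ⟨Cfsg.blockCoeff B (Quotient.out K) *
      (Cfsg.centralChar (ψ₁ : G → ℂ) (Quotient.out K) -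
        Cfsg.centralChar (ψ₂ : G → ℂ) (Quotient.out K)), hmemF _⟩
  have hF : ∀ K, ((F K : h7_locSubring M hMp) : ℂ) =
      Cfsg.blockCoeff B (Quotient.out K) *
      (Cfsg.centralChar (ψ₁ : G → ℂ) (Quotient.out K) -
        Cfsg.centralChar (ψ₂ : G → ℂ) (Quotient.out K)) :=
    fun K => rfl
  have hsum : ∑ K : ConjClasses G,
      Ideal.Quotient.mk (bd_locIdeal M hMp) (F K) = 0 := by
    refine Finset.sum_involution (fun K _ => ConjClasses.mk (Quotient.out K)⁻¹) ?_ ?_ ?_ ?_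
    · intro K _
      rw [← map_add, Ideal.Quotient.eq_zero_iff_mem, bd_mem_locIdeal]
      have hc1 : IsConj (Quotient.out (ConjClasses.mk (Quotient.out K)⁻¹)) (Quotient.out K)⁻¹ :=
        rb_out_isConj _
      rw [Subring.coe_add, hF, hF, rb_blockCoeff_isConj B hc1, rb_centralChar_isConj ψ₁ hc1,
        rb_centralChar_isConj ψ₂ hc1]
      by_cases hK : 2 ∣ orderOf (Quotient.out K)
      · have hK' : 2 ∣ orderOf (Quotient.out K)⁻¹ := by
          rw [orderOf_inv]
          exact hK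
        rw [h7_blockCoeff_psingular hM χ₀ _ hK, h7_blockCoeff_psingular hM χ₀ _ hK', zero_mul,
          zero_mul, add_zero]
        exact h7_memLocalIdeal_zero hMp
      · rw [hinv _ hK]
        have e : Cfsg.blockCoeff B (Quotient.out K) *
            (Cfsg.centralChar (ψ₁ : G → ℂ) (Quotient.out K) -
              Cfsg.centralChar (ψ₂ : G → ℂ) (Quotient.out K)) +
            Cfsg.blockCoeff B (Quotient.out K) *
            (Cfsg.centralChar (ψ₁ : G → ℂ) (Quotient.out K)⁻¹ -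
              Cfsg.centralChar (ψ₂ : G → ℂ) (Quotient.out K)⁻¹) =
            (2 : ℂ) * (Cfsg.blockCoeff B (Quotient.out K) *
              (Cfsg.centralChar (ψ₁ : G → ℂ) (Quotient.out K) -
                Cfsg.centralChar (ψ₂ : G → ℂ) (Quotient.out K))) +
            Cfsg.blockCoeff B (Quotient.out K) *
              ((Cfsg.centralChar (ψ₁ : G → ℂ) (Quotient.out K)⁻¹ -
                Cfsg.centralChar (ψ₁ : G → ℂ) (Quotient.out K)) -
              (Cfsg.centralChar (ψ₂ : G → ℂ) (Quotient.out K)⁻¹ -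
                Cfsg.centralChar (ψ₂ : G → ℂ) (Quotient.out K))) := by ring
        rw [e]
        refine h7_memLocalIdeal_add hMp ?_ ?_
        · have h2 : Cfsg.MemLocalIdeal M ((2 : ℕ) : ℂ) := h7_memLocalIdeal_p hM
          have h3 := h7_memLocalIdeal_mul_right hMp h2 (hmemF (Quotient.out K))
          simpa using h3
        · exact h7_memLocalIdeal_mul_left hMp (h7_osima hMp χ₀ _)
            (h7_memLocalIdeal_sub hMp (h₁ _ hK) (h₂ _ hK))
    · intro K _ hne heq
      apply hne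
      rw [Ideal.Quotient.eq_zero_iff_mem, bd_mem_locIdeal, hF]
      by_cases hK : 2 ∣ orderOf (Quotient.out K)
      · rw [h7_blockCoeff_psingular hM χ₀ _ hK, zero_mul]
        exact h7_memLocalIdeal_zero hMp
      · have hcj : IsConj (Quotient.out K) (Quotient.out K)⁻¹ := by
          have h1 : IsConj (Quotient.out (ConjClasses.mk (Quotient.out K)⁻¹))
              (Quotient.out K)⁻¹ := rb_out_isConj _
          rw [heq] at h1
          exact h1
        exact h7_memLocalIdeal_mul_left hMp (h7_osima hMp χ₀ _) (hreal _ hK hcj)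
    · intro K _
      exact Finset.mem_univ _
    · intro K _
      have h1 : IsConj (Quotient.out (ConjClasses.mk (Quotient.out K)⁻¹)) (Quotient.out K)⁻¹ :=
        rb_out_isConj _
      have h2 : IsConj (Quotient.out (ConjClasses.mk (Quotient.out K)⁻¹))⁻¹ (Quotient.out K) := by
        have h3 := rb_isConj_inv h1
        rw [inv_inv] at h3
        exact h3
      rw [ConjClasses.mk_eq_mk_iff_isConj.mpr h2]
      exact Quotient.out_eq K
  have hexp : c ψ₁ - c ψ₂ = ((∑ K : ConjClasses G, F K : h7_locSubring M hMp) : ℂ) := by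
    rw [h7_eval_expand c ψ₁, h7_eval_expand c ψ₂, ← Finset.sum_sub_distrib]
    push_cast
    refine Finset.sum_congr rfl fun K _ => ?_
    rw [h7_coef_indicator, hF, mul_sub]
  have h2 : Ideal.Quotient.mk (bd_locIdeal M hMp) (∑ K : ConjClasses G, F K) = 0 := by
    rw [map_sum]
    exact hsum
  have h3 := (bd_mem_locIdeal M hMp _).mp (Ideal.Quotient.eq_zero_iff_mem.mp h2)
  rw [← hexp] at h3
  exact h3

end od1

end Cfsg.Agent.Lib.Helper24
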