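import Cfsg.Agent.Lib.Helper24.OddIndex
import Cfsg.Agent.Lib.helper7.BlockCover2

set_option autoImplicit false
open scoped ComplexConjugate

namespace Cfsg.Agent.Lib.Helper24

open Cfsg.Agent.Lib.helper2 Cfsg.Agent.Lib.helper7 Cfsg.Agent.Lib.Helper11 Cfsg.Agent.Lib.Helper25

section od2

variable {G : Type*} [Group G] [Fintype G]

theorem od_icc (N : Subgroup G) [hN : N.Normal] [Fintype N] (χ : Cfsg.IrrCharacter G)
    (θ : Cfsg.IrrCharacter N)
    (hover : Cfsg.classInner (fun n : N => (χ : G → ℂ) n) (θ : N → ℂ) ≠ 0) (g : N) :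
    Cfsg.centralChar (χ : G → ℂ) (g : G) = Cfsg.inducedCentralChar N (θ : N → ℂ) (g : G) := by
  classical
  obtain ⟨e, he, -, hres⟩ := h7_clifford N (χ : G → ℂ) χ.2 (θ : N → ℂ) θ.2 hover
  set S := Finset.univ.image (fun x : G => cj N (θ : N → ℂ) x) with hS
  set Ks := Finset.univ.filter (fun h : N => IsConj (g : G) (h : G)) with hKs
  have hθ1 := irr_one_ne_zero θ
  have hicc : Cfsg.inducedCentralChar N (θ : N → ℂ) (g : G) =
      (∑ h ∈ Ks, (θ : N → ℂ) h) / (θ : N → ℂ) 1 := by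
    unfold Cfsg.inducedCentralChar
    rw [h7_finsum_mem_fintype, Finset.sum_div, hKs, Finset.sum_filter]
    rfl
  have hsumψ : ∀ ψ ∈ S, ∑ h ∈ Ks, ψ h = ∑ h ∈ Ks, (θ : N → ℂ) h := by
    intro ψ hψ
    obtain ⟨x, -, rfl⟩ := Finset.mem_image.mp hψ
    refine Finset.sum_equiv (MulAut.conjNormal x : N ≃* N).toEquiv ?_ ?_
    · intro h
      simp only [hKs, Finset.mem_filter, Finset.mem_univ, true_and]
      have hcoe : (((MulAut.conjNormal x : N ≃* N).toEquiv h : N) : G) = x * h * x⁻¹ := rfl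
      rw [hcoe]
      constructor
      · intro hc
        exact hc.trans (isConj_iff.mpr ⟨x, rfl⟩)
      · intro hc
        exact hc.trans (isConj_iff.mpr ⟨x, rfl⟩).symm
    · intro h _
      rw [cj_apply]
      rfl
  have hχsum : ∑ h ∈ Ks, (χ : G → ℂ) h = (e : ℂ) * ((S.card : ℂ) * ∑ h ∈ Ks, (θ : N → ℂ) h) := by
    have h1 : ∀ h : N, (χ : G → ℂ) h = (e : ℂ) * ∑ ψ ∈ S, ψ h := by
      intro h
      have := congrFun hres h
      simp only [Pi.smul_apply, Finset.sum_apply, smul_eq_mul] at this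
      exact this
    rw [Finset.sum_congr rfl (fun h _ => h1 h), ← Finset.mul_sum, Finset.sum_comm,
      Finset.sum_congr rfl hsumψ, Finset.sum_const, nsmul_eq_mul]
  have hχK : ∑ h ∈ Ks, (χ : G → ℂ) h = (Ks.card : ℂ) * (χ : G → ℂ) (g : G) := by
    rw [Finset.sum_congr rfl (g := fun _ => (χ : G → ℂ) (g : G)), Finset.sum_const, nsmul_eq_mul]
    intro h hh
    obtain ⟨c, hc⟩ := isConj_iff.mp (Finset.mem_filter.mp hh).2
    rw [← hc, h7_irr_isClassFunction χ.2]
  have hcard : Ks.card = (Subgroup.centralizer ({(g : G)} : Set G)).index := by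
    rw [h7_index_centralizer_eq_card_class, Nat.card_eq_fintype_card, ← Fintype.card_coe]
    apply Fintype.card_congr
    refine ⟨fun h => ⟨(h.1 : G), (Finset.mem_filter.mp h.2).2⟩,
      fun y => ⟨⟨y.1, ?_⟩, ?_⟩, ?_, ?_⟩
    · obtain ⟨c, hc⟩ := isConj_iff.mp y.2
      rw [← hc]
      exact hN.conj_mem _ g.2 c
    · rw [hKs, Finset.mem_filter]
      exact ⟨Finset.mem_univ _, y.2⟩
    · intro h
      rfl
    · intro y
      rfl
  have hχ1 : (χ : G → ℂ) 1 = (e : ℂ) * ((S.card : ℂ) * (θ : N → ℂ) 1) := by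
    have := congrFun hres 1
    simp only [Pi.smul_apply, Finset.sum_apply, smul_eq_mul, OneMemClass.coe_one] at this
    rw [this]
    congr 1
    rw [Finset.sum_congr rfl (g := fun _ => (θ : N → ℂ) 1), Finset.sum_const, nsmul_eq_mul]
    intro ψ hψ
    obtain ⟨x, -, rfl⟩ := Finset.mem_image.mp hψ
    rw [cj_apply]
    refine congrArg _ (Subtype.ext ?_)
    simp
  have hχ1ne := irr_one_ne_zero χ
  have he0 : (e : ℂ) ≠ 0 := by exact_mod_cast he.ne'
  have hS0 : (S.card : ℂ) ≠ 0 := by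
    intro h
    rw [h, zero_mul, mul_zero] at hχ1
    exact hχ1ne hχ1
  unfold Cfsg.centralChar
  rw [hicc, ← hcard, hχ1]
  have h5 : (Ks.card : ℂ) * (χ : G → ℂ) (g : G) =
      (e : ℂ) * ((S.card : ℂ) * ∑ h ∈ Ks, (θ : N → ℂ) h) := by rw [← hχK, hχsum]
  rw [h5]
  field_simp

end od2

end Cfsg.Agent.Lib.Helper24
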