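import Cfsg.Agent.Lib.Helper24.OddIndex2

set_option autoImplicit false
open scoped ComplexConjugate

namespace Cfsg.Agent.Lib.Helper24

open Cfsg.Agent.Lib.helper2 Cfsg.Agent.Lib.helper7 Cfsg.Agent.Lib.Helper11 Cfsg.Agent.Lib.Helper25

section od3

variable {G : Type*} [Group G] [Fintype G]

theorem od_centralizer_pow (k : ℕ) (hk : Nat.Coprime k (Nat.card G)) (g : G) :
    Subgroup.centralizer ({g ^ k} : Set G) = Subgroup.centralizer ({g} : Set G) := by
  obtain ⟨y, hy⟩ := (powCoprime hk.symm).symm.surjective g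
  have hg : g = ((powCoprime hk.symm).symm (g ^ k)) := by
    rw [Equiv.eq_symm_apply]
    rfl
  have hz : ∃ z : ℤ, (g ^ k) ^ z = g := ⟨(Nat.card G).gcdB k, hg.symm⟩
  obtain ⟨z, hz⟩ := hz
  ext x
  rw [Subgroup.mem_centralizer_singleton_iff, Subgroup.mem_centralizer_singleton_iff]
  constructor
  · intro h
    have h1 : Commute x (g ^ k) := h
    have h2 := h1.zpow_right z
    rw [hz] at h2
    exact h2
  · intro h
    have h1 : Commute x g := h
    exact h1.pow_right k

theorem od_centralChar_gal (k : ℕ) (hk : Nat.Coprime k (Nat.card G)) (φ : Cfsg.IrrCharacter G)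
    (g : G) : Cfsg.centralChar (sp_gal k hk φ : G → ℂ) g =
      Cfsg.centralChar (φ : G → ℂ) (g ^ k) := by
  unfold Cfsg.centralChar
  rw [sp_gal_apply, sp_gal_apply, one_pow, od_centralizer_pow k hk g]

theorem od_gal_mem_iff (M : Ideal Cfsg.AlgInt) (k : ℕ) (hk : Nat.Coprime k (Nat.card G))
    (χ φ : Cfsg.IrrCharacter G) (hχ : ∀ g : G, (χ : G → ℂ) (g ^ k) = (χ : G → ℂ) g) :
    sp_gal k hk φ ∈ Cfsg.blockOf M (χ : G → ℂ) ↔ φ ∈ Cfsg.blockOf M (χ : G → ℂ) := by
  have hχfix : sp_gal k hk χ = χ := by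
    apply Subtype.ext
    funext g
    rw [sp_gal_apply, hχ]
  have hsurj : Function.Surjective (fun g : G => g ^ k) :=
    (Nat.Coprime.pow_left_bijective hk.symm).2
  constructor
  · intro h g
    obtain ⟨y, hy⟩ := hsurj g
    have hy' : y ^ k = g := hy
    have h1 := h y
    rw [od_centralChar_gal, ← hχfix, od_centralChar_gal, hy'] at h1
    exact h1
  · intro h g
    have h1 := h (g ^ k)
    rw [← od_centralChar_gal k hk φ g, ← od_centralChar_gal k hk χ g, hχfix] at h1
    exact h1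

theorem od_gal_injective (k : ℕ) (hk : Nat.Coprime k (Nat.card G)) :
    Function.Injective (sp_gal (G := G) k hk) := by
  intro φ₁ φ₂ h
  have hsurj : Function.Surjective (fun g : G => g ^ k) :=
    (Nat.Coprime.pow_left_bijective hk.symm).2
  apply Subtype.ext
  funext g
  obtain ⟨y, hy⟩ := hsurj g
  have hy' : y ^ k = g := hy
  rw [← hy', ← sp_gal_apply k hk φ₁ y, ← sp_gal_apply k hk φ₂ y, h]

theorem od_blockCoeff_inv [Fintype (Cfsg.IrrCharacter G)] (M : Ideal Cfsg.AlgInt) (k : ℕ)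
    (hk : Nat.Coprime k (Nat.card G))
    (hk₂ : ∀ g : G, Odd (orderOf g) → g ^ k = g⁻¹)
    (χ : Cfsg.IrrCharacter G) (hχ : ∀ g : G, (χ : G → ℂ) (g ^ k) = (χ : G → ℂ) g)
    (x : G) (hx : ¬ 2 ∣ orderOf x) :
    Cfsg.blockCoeff (Cfsg.blockOf M (χ : G → ℂ)) x⁻¹ =
      Cfsg.blockCoeff (Cfsg.blockOf M (χ : G → ℂ)) x := by
  classical
  have hxk : x ^ k = x⁻¹ :=
    hk₂ x (Nat.not_even_iff_odd.mp (fun h => hx (even_iff_two_dvd.mp h)))
  unfold Cfsg.blockCoeff
  congr 1
  rw [finsum_mem_def, finsum_mem_def, finsum_eq_sum_of_fintype, finsum_eq_sum_of_fintype]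
  have hbij : Function.Bijective (sp_gal (G := G) k hk) :=
    Finite.injective_iff_bijective.mp (od_gal_injective k hk)
  refine Fintype.sum_equiv (Equiv.ofBijective _ hbij) _ _ ?_
  intro φ
  have he : Equiv.ofBijective _ hbij φ = sp_gal k hk φ := rfl
  rw [he, Set.indicator_apply, Set.indicator_apply]
  by_cases hφ : φ ∈ Cfsg.blockOf M (χ : G → ℂ)
  · rw [if_pos hφ, if_pos ((od_gal_mem_iff M k hk χ φ hχ).mpr hφ), sp_gal_apply, sp_gal_apply,
      one_pow, hxk]
  · rw [if_neg hφ, if_neg (fun h => hφ ((od_gal_mem_iff M k hk χ φ hχ).mp h))]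

theorem od_real_mem (N : Subgroup G) [hN : N.Normal] (hidx : Odd N.index) (x : G)
    (hreal : IsConj x x⁻¹) : x ∈ N := by
  classical
  have hcard : Odd (Nat.card (G ⧸ N)) := by
    rw [← Subgroup.index_eq_card]
    exact hidx
  set y : G ⧸ N := QuotientGroup.mk x with hy
  have hodd : ¬ 2 ∣ orderOf y := by
    intro h
    have h1 : 2 ∣ Nat.card (G ⧸ N) := h.trans (orderOf_dvd_natCard y)
    exact (Nat.not_even_iff_odd.mpr hcard) (even_iff_two_dvd.mpr h1)
  have hidx2 : ¬ 2 ∣ (Subgroup.centralizer ({y} : Set (G ⧸ N))).index := by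
    intro h
    have h1 : 2 ∣ Nat.card (G ⧸ N) := h.trans (Subgroup.index_dvd_card _)
    exact (Nat.not_even_iff_odd.mpr hcard) (even_iff_two_dvd.mpr h1)
  have hrealy : IsConj y y⁻¹ := by
    have := (QuotientGroup.mk' N).map_isConj hreal
    simpa using this
  have h1 := rb_real_odd y hodd hidx2 hrealy
  exact (QuotientGroup.eq_one_iff x).mp h1

end od3

end Cfsg.Agent.Lib.Helper24
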