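import Cfsg.Agent.Lib.Helper24.OddIndex3
import Cfsg.Agent.Lib.Helper25.PrincipalDefect

set_option autoImplicit false
open scoped ComplexConjugate

namespace Cfsg.Agent.Lib.Helper24

open Cfsg.Agent.Lib.helper2 Cfsg.Agent.Lib.helper7 Cfsg.Agent.Lib.Helper11 Cfsg.Agent.Lib.Helper25

section od4

variable {G : Type*} [Group G] [Fintype G]

theorem od_triv_over (N : Subgroup G) [Fintype N] :
    Cfsg.classInner (fun n : N => ((trivIrr G : Cfsg.IrrCharacter G) : G → ℂ) n)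
      ((trivIrr N : Cfsg.IrrCharacter N) : N → ℂ) ≠ 0 := by
  have h1 := irr_classInner (trivIrr N) (trivIrr N)
  rw [if_pos rfl] at h1
  have h2 : (fun n : N => ((trivIrr G : Cfsg.IrrCharacter G) : G → ℂ) n) =
      ((trivIrr N : Cfsg.IrrCharacter N) : N → ℂ) := rfl
  rw [h2, h1]
  exact one_ne_zero

theorem od_forward [Fintype (Cfsg.IrrCharacter G)] (M : Ideal Cfsg.AlgInt) (hMp : M.IsPrime)
    (N : Subgroup G) [hN : N.Normal] [Fintype N]
    (θ : Cfsg.IrrCharacter N) (χ : Cfsg.IrrCharacter G)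
    (hover : Cfsg.classInner (fun n : N => (χ : G → ℂ) n) (θ : N → ℂ) ≠ 0)
    (hχ : χ ∈ Cfsg.principalBlock M G) : θ ∈ Cfsg.principalBlock M N := by
  classical
  haveI : Fintype (Cfsg.IrrCharacter N) := Fintype.ofFinite _
  rw [pb_principal_eq] at hχ ⊢
  set T := Cfsg.blockOf M ((trivIrr N : Cfsg.IrrCharacter N) : N → ℂ) with hT
  have hsmul_triv : ∀ g : G, h7_irrSmul N g (trivIrr N) = trivIrr N := by
    intro g
    apply Subtype.ext
    funext n
    rw [h7_irrSmul_apply]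
    rfl
  have hTst : h7_GStable N T := by
    intro g θ' hθ'
    have h1 := h7_sameBlock_irrSmul N g (trivIrr N) θ' hθ'
    rw [hsmul_triv] at h1
    exact h1
  have hS : ∀ n : N, Cfsg.MemLocalRing M (Cfsg.blockCoeff T n) := fun n =>
    h7_osima hMp (trivIrr N) n
  have htriv : trivIrr G ∈ h7_over N T :=
    ⟨trivIrr N, h7_sameBlock_refl hMp _, od_triv_over N⟩
  have h1 := h7_over_congr N hMp T hTst hS (trivIrr G) χ hχ htriv
  obtain ⟨θ', hθ'T, hθ'⟩ := h1
  obtain ⟨g, hg⟩ := h7_clifford_conj N (χ : G → ℂ) χ.2 (θ' : N → ℂ) (θ : N → ℂ) θ'.2 θ.2 hθ' hover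
  have h2 : θ = h7_irrSmul N g⁻¹ θ' := by
    apply Subtype.ext
    rw [hg]
    change cj N (θ' : N → ℂ) g = cj N (θ' : N → ℂ) g⁻¹⁻¹
    rw [inv_inv]
  rw [h2]
  exact hTst g⁻¹ θ' hθ'T

theorem od_backward [Fintype (Cfsg.IrrCharacter G)] (M : Ideal Cfsg.AlgInt)
    (hM : Cfsg.IsPModular 2 M)
    (N : Subgroup G) [hN : N.Normal] [Fintype N] (hidx : Odd N.index) (k : ℕ)
    (hk : Nat.Coprime k (Nat.card G))
    (hk₂ : ∀ g : G, Odd (orderOf g) → g ^ k = g⁻¹)
    (θ : Cfsg.IrrCharacter N) (χ : Cfsg.IrrCharacter G)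
    (hχ : ∀ g : G, (χ : G → ℂ) (g ^ k) = (χ : G → ℂ) g)
    (hover : Cfsg.classInner (fun n : N => (χ : G → ℂ) n) (θ : N → ℂ) ≠ 0)
    (hθ : θ ∈ Cfsg.principalBlock M N) : χ ∈ Cfsg.principalBlock M G := by
  classical
  haveI : Fintype (Cfsg.IrrCharacter N) := Fintype.ofFinite _
  have hMp := hM.2.1.isPrime
  rw [pb_principal_eq] at hθ ⊢
  have hxk : ∀ x : G, ¬ 2 ∣ orderOf x → x ^ k = x⁻¹ := fun x hx =>
    hk₂ x (Nat.not_even_iff_odd.mp (fun h => hx (even_iff_two_dvd.mp h)))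
  have hχfix : sp_gal k hk χ = χ := by
    apply Subtype.ext
    funext g
    rw [sp_gal_apply, hχ]
  have key := od_pair M hM χ χ (trivIrr G) (od_blockCoeff_inv M k hk hk₂ χ hχ)
    (by
      intro x hx
      rw [← hxk x hx, ← od_centralChar_gal k hk χ x, hχfix, sub_self]
      exact h7_memLocalIdeal_zero hMp)
    (by
      intro x hx
      have : Cfsg.centralChar ((trivIrr G : Cfsg.IrrCharacter G) : G → ℂ) x⁻¹ =
          Cfsg.centralChar ((trivIrr G : Cfsg.IrrCharacter G) : G → ℂ) x := by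
        unfold Cfsg.centralChar
        rw [rb_centralizer_inv]
        rfl
      rw [this, sub_self]
      exact h7_memLocalIdeal_zero hMp)
    (by
      intro x hx hreal
      have hxN : x ∈ N := od_real_mem N hidx x hreal
      have e1 := od_icc N χ θ hover ⟨x, hxN⟩
      have e2 := od_icc N (trivIrr G) (trivIrr N) (od_triv_over N) ⟨x, hxN⟩
      change Cfsg.centralChar (χ : G → ℂ) x = _ at e1
      change Cfsg.centralChar ((trivIrr G : Cfsg.IrrCharacter G) : G → ℂ) x = _ at e2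
      rw [e1, e2]
      exact h7_icc_congr N hMp θ (trivIrr N) (h7_sameBlock_symm hθ) x)
  have hχB : χ ∈ Cfsg.blockOf M (χ : G → ℂ) := h7_sameBlock_refl hMp _
  rw [if_pos hχB] at key
  by_contra hne
  have h3 : trivIrr G ∉ Cfsg.blockOf M (χ : G → ℂ) := by
    intro h
    exact hne (h7_sameBlock_symm h)
  rw [if_neg h3, sub_zero] at key
  exact h7_not_memLocalIdeal_one hMp key

end od4

end Cfsg.Agent.Lib.Helper24
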