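import Mathlib

set_option autoImplicit false

namespace Cfsg.Agent.Lib.Helper24.P2P

theorem arith_a (a p : ℕ) (ha : 0 < a) (hp : p = 2 * a ^ 2 + 2 * a + 1)
    (hdvd : (2 * a + 1) ∣ (p - 1) * (p - 2) / 2) : a = 1 := by
  subst hp
  obtain ⟨q, hq⟩ : ∃ q : ℕ, 2 * a ^ 2 + 2 * a = q + 1 := ⟨2 * a ^ 2 + 2 * a - 1, by
    have : 1 ≤ 2 * a ^ 2 + 2 * a := by nlinarith
    omega⟩
  have h1 : (2 * a ^ 2 + 2 * a + 1 - 1) * (2 * a ^ 2 + 2 * a + 1 - 2) / 2 = a * (a + 1) * q := by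
    have e1 : 2 * a ^ 2 + 2 * a + 1 - 1 = 2 * (a * (a + 1)) := by
      have : 2 * a ^ 2 + 2 * a + 1 - 1 = 2 * a ^ 2 + 2 * a := by omega
      rw [this]; ring
    have e2 : 2 * a ^ 2 + 2 * a + 1 - 2 = q := by omega
    rw [e1, e2, mul_assoc, Nat.mul_div_cancel_left _ (by norm_num : 0 < 2)]
  rw [h1] at hdvd
  have c1 : Nat.Coprime (2 * a + 1) a := by
    have : Nat.Coprime (a * 2 + 1) a := by
      rw [Nat.Coprime, Nat.gcd_comm, Nat.gcd_mul_left_add_right]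
      simp
    rwa [mul_comm] at this
  have c2 : Nat.Coprime (2 * a + 1) (a + 1) := by
    have e : 2 * a + 1 = (a + 1) + a := by ring
    rw [e, Nat.Coprime, Nat.gcd_comm, Nat.gcd_self_add_right, Nat.gcd_comm]
    have : Nat.gcd a (a + 1) = 1 := by simp
    exact this
  have c3 : Nat.Coprime (2 * a + 1) (a * (a + 1)) := Nat.Coprime.mul_right c1 c2
  have h2 : (2 * a + 1) ∣ q := c3.dvd_of_dvd_mul_left hdvd
  have h3 : (2 * a + 1) * (2 * a + 1) = 2 * q + 3 := by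
    have : (2 * a + 1) * (2 * a + 1) = 2 * (2 * a ^ 2 + 2 * a) + 1 := by ring
    rw [this, hq]; ring
  have h4 : (2 * a + 1) ∣ 3 := by
    have h5 : (2 * a + 1) ∣ 2 * q + 3 := by rw [← h3]; exact dvd_mul_right _ _
    have h6 : (2 * a + 1) ∣ 2 * q := dvd_mul_of_dvd_right h2 2
    exact (Nat.dvd_add_right h6).mp h5
  have h7 := Nat.le_of_dvd (by norm_num) h4
  omega

end Cfsg.Agent.Lib.Helper24.P2P
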