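import Mathlib
import Cfsg.Agent.Lib.Lead.W2P.Defs

set_option autoImplicit false
set_option linter.unusedVariables false
set_option linter.unusedSectionVars false
open scoped ComplexConjugate
open Classical

namespace Cfsg.Agent.Lib.Lead.W2P

open MulAction Cfsg.Agent.Lib.helper6.PermChar Cfsg.Agent.Lib.Helper25

universe u v

section D

variable {G : Type u} [Group G] [Fintype G] {Ω : Type v} [Fintype Ω] [DecidableEq Ω] [MulAction G Ω]
  {p : ℕ} [Fact p.Prime] {P : Sylow p G}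

theorem w2pgoodbad_pi_one : piChar G Ω 1 = (Fintype.card Ω : ℂ) := by
  have h : fixedBy Ω (1 : G) = Set.univ := by
    ext x
    simp
  unfold piChar
  rw [h, Nat.card_coe_set_eq, Set.ncard_univ, Nat.card_eq_fintype_card]

theorem w2pgoodbad_order (hP : Nat.card (P : Subgroup G) = p) (x : G) (hx : x ∈ (P : Subgroup G))
    (hx1 : x ≠ 1) : p ∣ orderOf x := by
  have hp : p.Prime := Fact.out
  have h1 : orderOf (⟨x, hx⟩ : ↥(P : Subgroup G)) ∣ p := by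
    have h0 := orderOf_dvd_natCard (⟨x, hx⟩ : ↥(P : Subgroup G))
    rwa [hP] at h0
  rw [← Subgroup.orderOf_coe] at h1
  rcases (Nat.dvd_prime hp).mp h1 with h | h
  · exact absurd (orderOf_eq_one_iff.mp h) hx1
  · exact h ▸ dvd_rfl

theorem w2pgoodbad_core (S : Setting G Ω p P)
    (hcl : ∀ χ : Cfsg.IrrCharacter G, TypeB (P : Subgroup G) (χ : G → ℂ) ∨ TypeC p (P : Subgroup G) χ)
    (pi_sing : ∀ (hfpf : ∀ g : G, orderOf g = p → ∀ ω : Ω, g • ω ≠ ω) (g : G) (hg : p ∣ orderOf g),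
      piChar G Ω g = 0)
    (mP_nat : ∀ (hP : Nat.card (P : Subgroup G) = p) {ψ : G → ℂ} (hψ : Cfsg.IsCharacter G ψ)
      {φ : G → ℂ} (hφ : IsPChar (P : Subgroup G) φ),
      ∃ m : ℕ, ∑ x : ↥(P : Subgroup G), ψ (x : G) * conj (φ (x : G)) = (p : ℂ) * (m : ℂ))
    (per_norm_sum : ∀ (hP : Nat.card (P : Subgroup G) = p) {ι : Type u} [Fintype ι] (Φ : ι → G → ℂ)
      (hΦ : ∀ j, IsPChar (P : Subgroup G) (Φ j)) (hnt : ∀ j, ∃ x ∈ (P : Subgroup G), Φ j x ≠ 1)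
      (hsum : ∀ x ∈ (P : Subgroup G), x ≠ 1 → ∑ j, per (P : Subgroup G) (Φ j) x = -1)
      (hcard : Fintype.card ι * fIdx (P : Subgroup G) = p - 1) (x : G) (hx : x ∈ (P : Subgroup G))
      (hx1 : x ≠ 1),
      ∑ j, per (P : Subgroup G) (Φ j) x * conj (per (P : Subgroup G) (Φ j) x) =
        (p : ℂ) - (fIdx (P : Subgroup G) : ℂ))
    (exists_chip : ∀ (S : Setting G Ω p P)
      (hcl : ∀ χ : Cfsg.IrrCharacter G,
        TypeB (P : Subgroup G) (χ : G → ℂ) ∨ TypeC p (P : Subgroup G) χ),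
      ∃ χp : Cfsg.IrrCharacter G, χp ≠ trivIrr G ∧ Cfsg.classInner (piChar G Ω) (χp : G → ℂ) = 1 ∧
        (χp : G → ℂ) 1 = (p : ℂ) ∧ (∀ x ∈ (P : Subgroup G), x ≠ 1 → (χp : G → ℂ) x = 0) ∧
        ∀ χ : Cfsg.IrrCharacter G, χ ≠ trivIrr G → χ ≠ χp →
          Cfsg.classInner (piChar G Ω) (χ : G → ℂ) ≠ 0 →
          ∑ x : ↥(P : Subgroup G), (χ : G → ℂ) (x : G) = 0)
    (rest_decomp : ∀ (S : Setting G Ω p P) (χp : Cfsg.IrrCharacter G) (hχp1 : χp ≠ trivIrr G)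
      (hm : Cfsg.classInner (piChar G Ω) (χp : G → ℂ) = 1) (hdeg : (χp : G → ℂ) 1 = (p : ℂ))
      (hvan : ∀ x ∈ (P : Subgroup G), x ≠ 1 → (χp : G → ℂ) x = 0)
      (hoth : ∀ χ : Cfsg.IrrCharacter G, χ ≠ trivIrr G → χ ≠ χp →
          Cfsg.classInner (piChar G Ω) (χ : G → ℂ) ≠ 0 →
          ∑ x : ↥(P : Subgroup G), (χ : G → ℂ) (x : G) = 0),
      ∃ J : Finset (Cfsg.IrrCharacter G), J.Nonempty ∧ χp ∉ J ∧ trivIrr G ∉ J ∧
        (∀ g : G, piChar G Ω g = 1 + (χp : G → ℂ) g + ∑ χ ∈ J, (χ : G → ℂ) g) ∧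
        (∀ χ ∈ J, ∑ x : ↥(P : Subgroup G), (χ : G → ℂ) (x : G) = 0) ∧
        (∀ φ : G → ℂ, IsPChar (P : Subgroup G) φ → (∃ x ∈ (P : Subgroup G), φ x ≠ 1) →
          ∑ χ ∈ J, ∑ x : ↥(P : Subgroup G), (χ : G → ℂ) (x : G) * conj (φ (x : G)) = (p : ℂ)))
    (rest_typeB : ∀ (S : Setting G Ω p P) (χ : Cfsg.IrrCharacter G)
      (hsum : ∑ x : ↥(P : Subgroup G), (χ : G → ℂ) (x : G) = 0)
      (hle : ∀ φ : G → ℂ, IsPChar (P : Subgroup G) φ → (∃ x ∈ (P : Subgroup G), φ x ≠ 1) →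
        ∑ x : ↥(P : Subgroup G), (χ : G → ℂ) (x : G) * conj (φ (x : G)) = 0 ∨
        ∑ x : ↥(P : Subgroup G), (χ : G → ℂ) (x : G) * conj (φ (x : G)) = (p : ℂ))
      (hB : TypeB (P : Subgroup G) (χ : G → ℂ)), (χ : G → ℂ) 1 = (p : ℂ) - 1)
    (rest_typeC : ∀ (S : Setting G Ω p P) (χ : Cfsg.IrrCharacter G)
      (hsum : ∑ x : ↥(P : Subgroup G), (χ : G → ℂ) (x : G) = 0)
      (hle : ∀ φ : G → ℂ, IsPChar (P : Subgroup G) φ → (∃ x ∈ (P : Subgroup G), φ x ≠ 1) →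
        ∑ x : ↥(P : Subgroup G), (χ : G → ℂ) (x : G) * conj (φ (x : G)) = 0 ∨
        ∑ x : ↥(P : Subgroup G), (χ : G → ℂ) (x : G) * conj (φ (x : G)) = (p : ℂ))
      (hC : TypeC p (P : Subgroup G) χ),
      (χ : G → ℂ) 1 = (fIdx (P : Subgroup G) : ℂ) ∧
        ∃ φ : G → ℂ, IsPChar (P : Subgroup G) φ ∧ (∃ x ∈ (P : Subgroup G), φ x ≠ 1) ∧
          ∀ x ∈ (P : Subgroup G), (χ : G → ℂ) x = per (P : Subgroup G) φ x) :
    Good G Ω p ∨ Bad G Ω p (P : Subgroup G) := by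
  obtain ⟨χp, hχpt, hm, hdegp, hvan, hoth⟩ := exists_chip S hcl
  obtain ⟨J, hJne, hχpJ, htJ, hπ, hsumJ, hφJ⟩ := rest_decomp S χp hχpt hm hdegp hvan hoth
  have hp : p.Prime := Fact.out
  have hpC : (p : ℂ) ≠ 0 := Nat.cast_ne_zero.mpr hp.ne_zero
  have hdegnat : ∀ χ : Cfsg.IrrCharacter G, ∃ n : ℕ, 0 < n ∧ (χ : G → ℂ) 1 = (n : ℂ) :=
    fun χ => irr_one_eq_finrank χ
  choose d hdpos hd using hdegnat
  have hdeg : ∑ χ ∈ J, d χ + 1 = p := by
    have h1 := hπ 1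
    rw [w2pgoodbad_pi_one, S.card, hdegp, Finset.sum_congr rfl (fun χ _ => hd χ)] at h1
    have h2 : ((2 * p : ℕ) : ℂ) = ((1 + p + ∑ χ ∈ J, d χ : ℕ) : ℂ) := by
      push_cast at h1 ⊢
      exact h1
    have := Nat.cast_injective h2
    omega
  have hle : ∀ χ ∈ J, ∀ φ : G → ℂ, IsPChar (P : Subgroup G) φ →
      (∃ x ∈ (P : Subgroup G), φ x ≠ 1) →
      ∑ x : ↥(P : Subgroup G), (χ : G → ℂ) (x : G) * conj (φ (x : G)) = 0 ∨
      ∑ x : ↥(P : Subgroup G), (χ : G → ℂ) (x : G) * conj (φ (x : G)) = (p : ℂ) := by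
    intro χ hχ φ hφ hnt
    have hmn : ∀ ψ : Cfsg.IrrCharacter G, ∃ m : ℕ,
        ∑ x : ↥(P : Subgroup G), (ψ : G → ℂ) (x : G) * conj (φ (x : G)) = (p : ℂ) * (m : ℂ) :=
      fun ψ => mP_nat S.cardP (Cfsg.Agent.Lib.helper2.isCharacter_of_irr ψ) hφ
    choose m hmm using hmn
    have h1 := hφJ φ hφ hnt
    rw [Finset.sum_congr rfl (fun ψ _ => hmm ψ), ← Finset.mul_sum] at h1
    have h2 : ((∑ ψ ∈ J, m ψ : ℕ) : ℂ) = ((1 : ℕ) : ℂ) := by
      push_cast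
      have h3 : (p : ℂ) * ∑ ψ ∈ J, (m ψ : ℂ) = (p : ℂ) * 1 := by rw [h1, mul_one]
      exact mul_left_cancel₀ hpC h3
    have h4 : ∑ ψ ∈ J, m ψ = 1 := Nat.cast_injective h2
    have h5 : m χ ≤ 1 := by
      rw [← h4]
      exact Finset.single_le_sum (f := m) (fun _ _ => Nat.zero_le _) hχ
    rcases Nat.le_one_iff_eq_zero_or_eq_one.mp h5 with h | h
    · left
      rw [hmm χ, h]
      simp
    · right
      rw [hmm χ, h]
      simp
  have hsingle : ∀ χ ∈ J, d χ + 1 = p → J = {χ} := by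
    intro χ hχ hdχ
    have h1 := Finset.add_sum_erase J d hχ
    have h2 : ∑ ψ ∈ J.erase χ, d ψ = 0 := by omega
    have h3 : J.erase χ = ∅ := by
      by_contra hne
      obtain ⟨ψ, hψ⟩ := Finset.nonempty_iff_ne_empty.mpr hne
      have := Finset.single_le_sum (f := d) (fun _ _ => Nat.zero_le _) hψ
      have := hdpos ψ
      omega
    apply Finset.eq_singleton_iff_unique_mem.mpr
    refine ⟨hχ, fun ψ hψ => ?_⟩
    by_contra hne
    have : ψ ∈ J.erase χ := Finset.mem_erase.mpr ⟨hne, hψ⟩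
    rw [h3] at this
    exact absurd this (Finset.notMem_empty ψ)
  have hgood : ∀ χ : Cfsg.IrrCharacter G, J = {χ} → Good G Ω p := by
    intro χ hJ
    have hχJ : χ ∈ J := by rw [hJ]; exact Finset.mem_singleton_self χ
    refine ⟨χ, χp, fun h => hχpJ (h ▸ hχJ), fun h => htJ (h ▸ hχJ), hχpt, ?_, ?_, hdegp⟩
    · intro g
      rw [hπ g, hJ, Finset.sum_singleton]
      ring
    · rw [hJ, Finset.sum_singleton] at hdeg
      rw [hd χ, ← hdeg]
      push_cast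
      ring
  by_cases hB : ∃ χ ∈ J, TypeB (P : Subgroup G) (χ : G → ℂ)
  · obtain ⟨χ, hχJ, hχB⟩ := hB
    have hdχ := rest_typeB S χ (hsumJ χ hχJ) (hle χ hχJ) hχB
    left
    apply hgood χ
    apply hsingle χ hχJ
    rw [hd χ] at hdχ
    have h2 : ((d χ + 1 : ℕ) : ℂ) = ((p : ℕ) : ℂ) := by
      push_cast
      rw [hdχ]
      ring
    exact Nat.cast_injective h2
  · push Not at hB
    have hC : ∀ χ ∈ J, TypeC p (P : Subgroup G) χ := fun χ hχ => (hcl χ).resolve_left (hB χ hχ)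
    have hRC := fun χ hχ => rest_typeC S χ (hsumJ χ hχ) (hle χ hχ) (hC χ hχ)
    by_cases hcard : J.card = 1
    · obtain ⟨χ, hJ⟩ := Finset.card_eq_one.mp hcard
      left
      exact hgood χ hJ
    · have hJ2 : 2 ≤ J.card := by
        have := hJne.card_pos
        omega
      right
      refine ⟨χp, J, hJ2, hχpJ, htJ, hχpt, hπ, hdegp, hvan, fun χ hχ => (hRC χ hχ).1, hsumJ, ?_⟩
      intro x hx hx1
      have hex : ∀ χ : Cfsg.IrrCharacter G, ∃ φ : G → ℂ, χ ∈ J →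
          (IsPChar (P : Subgroup G) φ ∧ (∃ x ∈ (P : Subgroup G), φ x ≠ 1) ∧
            ∀ x ∈ (P : Subgroup G), (χ : G → ℂ) x = per (P : Subgroup G) φ x) := by
        intro χ
        by_cases hχ : χ ∈ J
        · obtain ⟨φ, h1, h2, h3⟩ := (hRC χ hχ).2
          exact ⟨φ, fun _ => ⟨h1, h2, h3⟩⟩
        · exact ⟨fun _ => 0, fun h => absurd h hχ⟩
      choose φ hφ using hex
      have hdf : ∀ χ ∈ J, d χ = fIdx (P : Subgroup G) := by
        intro χ hχ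
        have h1 := (hRC χ hχ).1
        rw [hd χ] at h1
        exact Nat.cast_injective h1
      have hcardJ : Fintype.card ↥J * fIdx (P : Subgroup G) = p - 1 := by
        rw [Fintype.card_coe]
        rw [Finset.sum_congr rfl hdf, Finset.sum_const, smul_eq_mul] at hdeg
        omega
      have hsum : ∀ y ∈ (P : Subgroup G), y ≠ 1 →
          ∑ j : ↥J, per (P : Subgroup G) (φ j.1) y = -1 := by
        intro y hy hy1
        have h1 : ∑ j : ↥J, per (P : Subgroup G) (φ j.1) y = ∑ χ ∈ J, (χ : G → ℂ) y := by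
          rw [← Finset.sum_coe_sort J (fun χ => (χ : G → ℂ) y)]
          apply Finset.sum_congr rfl
          intro j _
          exact ((hφ j.1 j.2).2.2 y hy).symm
        have h2 := hπ y
        rw [pi_sing S.fpf y (w2pgoodbad_order S.cardP y hy hy1), hvan y hy hy1] at h2
        rw [h1]
        linear_combination -h2
      have hmain := per_norm_sum S.cardP (ι := ↥J) (fun j => φ j.1)
        (fun j => (hφ j.1 j.2).1) (fun j => (hφ j.1 j.2).2.1) hsum hcardJ x hx hx1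
      rw [← hmain, ← Finset.sum_coe_sort J (fun χ => (χ : G → ℂ) x * conj ((χ : G → ℂ) x))]
      apply Finset.sum_congr rfl
      intro j _
      rw [(hφ j.1 j.2).2.2 x hx]

end D

end Cfsg.Agent.Lib.Lead.W2P
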