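import Mathlib
import Cfsg.Agent.Lib.Lead.W2P.Defs
import Cfsg.Agent.Lib.Helper24.W2PGOODBADcore
import Cfsg.Agent.Lib.helper6.W2PPISING
import Cfsg.Agent.Lib.Helper28.W2PMPNAT
import Cfsg.Agent.Lib.Helper28.W2PPERNORM
import Cfsg.Agent.Lib.Helper13.W2PCHIP
import Cfsg.Agent.Lib.Helper13.W2PRESTDEC
import Cfsg.Agent.Lib.helper6.W2PRESTB
import Cfsg.Agent.Lib.Helper29.W2PRESTC

set_option autoImplicit false
set_option linter.unusedVariables false
set_option linter.unusedSectionVars false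
open scoped ComplexConjugate
open Classical

namespace Cfsg.Agent.Lib.Lead.W2P

open MulAction Cfsg.Agent.Lib.helper6.PermChar Cfsg.Agent.Lib.Helper25

universe u v

section D

variable {G : Type u} [Group G] [Fintype G] {Ω : Type v} [Fintype Ω] [DecidableEq Ω] [MulAction G Ω]
  {p : ℕ} [Fact p.Prime] {P : Sylow p G}

theorem good_or_bad (S : Setting G Ω p P)
    (hcl : ∀ χ : Cfsg.IrrCharacter G, TypeB (P : Subgroup G) (χ : G → ℂ) ∨ TypeC p (P : Subgroup G) χ) :
    Good G Ω p ∨ Bad G Ω p (P : Subgroup G) :=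
  w2pgoodbad_core S hcl (fun hfpf g hg => pi_sing hfpf g hg)
    (fun hP _ hψ _ hφ => mP_nat hP hψ hφ)
    (fun hP _ _ Φ hΦ hnt hsum hcard x hx hx1 => per_norm_sum hP Φ hΦ hnt hsum hcard x hx hx1)
    exists_chip rest_decomp rest_typeB rest_typeC

end D

end Cfsg.Agent.Lib.Lead.W2P
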