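import Mathlib
import Cfsg.Agent.Lib.Lead.W2P.Defs
import Cfsg.Agent.S4503

set_option autoImplicit false
set_option linter.unusedVariables false
set_option linter.unusedSectionVars false
open scoped ComplexConjugate
open Classical

namespace Cfsg.Agent.Lib.Lead.W2P

open MulAction Cfsg.Agent.Lib.helper6.PermChar Cfsg.Agent.Lib.Helper25

universe u v

section E

variable {G : Type u} [Group G] [Fintype G] {Ω : Type v} [Fintype Ω] [DecidableEq Ω] [MulAction G Ω]
  {p : ℕ} [Fact p.Prime] {P : Sylow p G}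

theorem w2pbadtwo_pi_one : piChar G Ω 1 = (Fintype.card Ω : ℂ) := by
  have h : fixedBy Ω (1 : G) = Set.univ := by
    ext x
    simp
  unfold piChar
  rw [h, Nat.card_coe_set_eq, Set.ncard_univ, Nat.card_eq_fintype_card]

theorem w2pbadtwo_inner (χp : Cfsg.IrrCharacter G) (J : Finset (Cfsg.IrrCharacter G))
    (hπ : ∀ g : G, piChar G Ω g = 1 + (χp : G → ℂ) g + ∑ χ ∈ J, (χ : G → ℂ) g)
    (ψ : Cfsg.IrrCharacter G) :
    Cfsg.classInner (piChar G Ω) (ψ : G → ℂ) =
      (if trivIrr G = ψ then 1 else 0) + (if χp = ψ then 1 else 0) + (if ψ ∈ J then 1 else 0) := by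
  have hπfun : piChar G Ω = (trivIrr G : G → ℂ) + (χp : G → ℂ) + ∑ χ ∈ J, (χ : G → ℂ) := by
    funext g
    rw [hπ g]
    simp [Finset.sum_apply]
  rw [hπfun, classInner_add_left, classInner_add_left, classInner_sum_left]
  simp only [irr_classInner]
  rw [Finset.sum_ite_eq' J ψ]

theorem w2pbadtwo_core (S : Setting G Ω p P) (hbad : Bad G Ω p (P : Subgroup G))
    (hnolin : ∀ χ : Cfsg.IrrCharacter G, (χ : G → ℂ) 1 = 1 → χ ≠ trivIrr G →
      Cfsg.classInner (piChar G Ω) (χ : G → ℂ) = 0)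
    (hnonorm : ∀ H : Subgroup G, H.Normal → Nat.card H ≠ p)
    (hfaith : ∀ χ : Cfsg.IrrCharacter G, ∑ x : ↥(P : Subgroup G), (χ : G → ℂ) (x : G) = 0 →
      ∀ g : G, (χ : G → ℂ) g = (χ : G → ℂ) 1 → g = 1) :
    2 * fIdx (P : Subgroup G) + 1 = p ∧ 2 ≤ fIdx (P : Subgroup G) := by
  obtain ⟨χp, J, hJ2, hχpJ, htJ, hχpt, hπ, hdegp, hvan, hdegJ, hsumJ, hnorm⟩ := hbad
  have hp : p.Prime := Fact.out
  set f := fIdx (P : Subgroup G) with hf
  have hdeg : J.card * f + 1 = p := by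
    have h1 := hπ 1
    rw [w2pbadtwo_pi_one, S.card, hdegp, Finset.sum_congr rfl (fun χ hχ => hdegJ χ hχ),
      Finset.sum_const, nsmul_eq_mul] at h1
    have h2 : ((2 * p : ℕ) : ℂ) = ((1 + p + J.card * f : ℕ) : ℂ) := by
      push_cast at h1 ⊢
      exact h1
    have := Nat.cast_injective h2
    omega
  obtain ⟨χ, hχJ⟩ : J.Nonempty := Finset.card_pos.mp (by omega)
  have hbr : p ≤ 2 * f + 1 := by
    have hdiv : p ∣ Nat.card G := by
      rw [← S.cardP]
      exact Subgroup.card_subgroup_dvd_card _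
    have hsq : ¬ p ^ 2 ∣ Nat.card G := by
      intro h
      have h1 := P.pow_dvd_card_of_pow_dvd_card h
      rw [S.cardP] at h1
      have h2 := Nat.le_of_dvd hp.pos h1
      nlinarith [hp.two_le]
    have h3 := Cfsg.Agent.S4503.result p hp hdiv hsq hnonorm (χ : G → ℂ)
      (Cfsg.Agent.Lib.helper2.isCharacter_of_irr χ) (hfaith χ (hsumJ χ hχJ))
    have hcd : Cfsg.charDegree (χ : G → ℂ) = f := by
      unfold Cfsg.charDegree
      rw [hdegJ χ hχJ]
      simp
    rwa [hcd] at h3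
  have hfpos : 0 < f := by
    rcases Nat.eq_zero_or_pos f with h | h
    · rw [h] at hdeg
      have := hp.two_le
      omega
    · exact h
  have hJ : J.card = 2 := by
    have h1 : J.card * f ≤ 2 * f := by omega
    have h2 := Nat.le_of_mul_le_mul_right h1 hfpos
    omega
  refine ⟨by rw [hJ] at hdeg; exact hdeg, ?_⟩
  by_contra hlt
  have hf1 : f = 1 := by omega
  have hlin : (χ : G → ℂ) 1 = 1 := by
    rw [hdegJ χ hχJ, hf1]
    simp
  have hχt : χ ≠ trivIrr G := fun h => htJ (h ▸ hχJ)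
  have h0 := hnolin χ hlin hχt
  have hχp : ¬ χp = χ := fun h => hχpJ (h ▸ hχJ)
  rw [w2pbadtwo_inner χp J hπ χ, if_neg (Ne.symm hχt), if_neg hχp, if_pos hχJ] at h0
  norm_num at h0

end E

end Cfsg.Agent.Lib.Lead.W2P
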