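import Mathlib
import Cfsg.Agent.Lib.Lead.W2P.Defs
import Cfsg.Agent.Lib.Helper24.W2PBADTWOcore
import Cfsg.Agent.Lib.Helper1.W2PNONORM
import Cfsg.Agent.Lib.helper23.W2PNOLIN
import Cfsg.Agent.Lib.helper23.W2PFAITH

set_option autoImplicit false
set_option linter.unusedVariables false
set_option linter.unusedSectionVars false
open scoped ComplexConjugate
open Classical

namespace Cfsg.Agent.Lib.Lead.W2P

open MulAction Cfsg.Agent.Lib.helper6.PermChar Cfsg.Agent.Lib.Helper25

universe u v

section E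

variable {G : Type u} [Group G] [Fintype G] {Ω : Type v} [Fintype Ω] [DecidableEq Ω] [MulAction G Ω]
  {p : ℕ} [Fact p.Prime] {P : Sylow p G}

theorem bad_two (S : Setting G Ω p P) (hbad : Bad G Ω p (P : Subgroup G)) :
    2 * fIdx (P : Subgroup G) + 1 = p ∧ 2 ≤ fIdx (P : Subgroup G) :=
  w2pbadtwo_core S hbad (fun χ h1 hne => no_linear S χ h1 hne) (fun H hH => no_normal_p S H hH)
    (fun χ hP => faithful_of_sum_zero S χ hP)

end E

end Cfsg.Agent.Lib.Lead.W2P
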