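import Mathlib
import Cfsg.Agent.Lib.Lead.W2P.Defs

set_option autoImplicit false
set_option linter.unusedVariables false
set_option linter.unusedSectionVars false
set_option linter.style.haveILetI false
open scoped ComplexConjugate
open Classical

namespace Cfsg.Agent.Lib.Lead.W2P

open MulAction Cfsg.Agent.Lib.helper6.PermChar Cfsg.Agent.Lib.Helper25

universe u v

section E

variable {G : Type u} [Group G] [Fintype G] {Ω : Type v} [Fintype Ω] [DecidableEq Ω] [MulAction G Ω]
  {p : ℕ} [Fact p.Prime] {P : Sylow p G}

theorem four_orbits [IsPretransitive G Ω] (a : Ω)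
    (hrank : Nat.card (orbitRel.Quotient (stabilizer G a) Ω) = 4) :
    ∃ b : Fin 3 → Ω, (∀ i, b i ≠ a) ∧ (∀ i k, i ≠ k → ¬ orbRel G a (b i) a (b k)) ∧
      (∀ c : Ω, c ≠ a → ∃ i, orbRel G a (b i) a c) ∧
      sdeg G a (b 0) + sdeg G a (b 1) + sdeg G a (b 2) + 1 = Fintype.card Ω := by
  haveI : Finite (orbitRel.Quotient (stabilizer G a) Ω) :=
    Nat.finite_of_card_ne_zero (by rw [hrank]; norm_num)
  haveI : Fintype (orbitRel.Quotient (stabilizer G a) Ω) := Fintype.ofFinite _
  let q : Ω → orbitRel.Quotient (stabilizer G a) Ω := fun y => Quotient.mk'' y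
  have hq : ∀ y z, q y = q z ↔ y ∈ orbit (stabilizer G a) z := by
    intro y z
    exact Quotient.eq''
  have hqsurj : ∀ z : orbitRel.Quotient (stabilizer G a) Ω, ∃ y, q y = z :=
    fun z => Quotient.mk''_surjective z
  have hcard3 : Fintype.card {z : orbitRel.Quotient (stabilizer G a) Ω // z ≠ q a} = 3 := by
    rw [Fintype.card_subtype_compl, Fintype.card_subtype_eq, ← Nat.card_eq_fintype_card, hrank]
  let f : Fin 3 ≃ {z : orbitRel.Quotient (stabilizer G a) Ω // z ≠ q a} :=
    (Fintype.equivFinOfCardEq hcard3).symm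
  have hb0 : ∀ i : Fin 3, ∃ y, q y = (f i).1 := fun i => hqsurj (f i).1
  choose b hbq using hb0
  have hba : ∀ i, b i ≠ a := by
    intro i h
    have := (f i).2
    rw [← hbq i, h] at this
    exact this rfl
  have hinj : ∀ i k, q (b i) = q (b k) → i = k := by
    intro i k h
    rw [hbq i, hbq k] at h
    exact f.injective (Subtype.ext h)
  have hcover : ∀ c : Ω, c ≠ a → ∃ i, c ∈ orbit (stabilizer G a) (b i) := by
    intro c hc
    have hqc : q c ≠ q a := by
      intro h
      rw [hq] at h
      have h' : a ∈ orbit (stabilizer G a) c := by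
        rw [← MulAction.orbit_eq_iff] at h ⊢
        exact h.symm
      exact hc ((mem_orbit_stab_self_iff a c).mp h')
    obtain ⟨i, hi⟩ := f.surjective ⟨q c, hqc⟩
    refine ⟨i, ?_⟩
    rw [← hq, hbq i, hi]
  refine ⟨b, hba, ?_, ?_, ?_⟩
  · intro i k hik h
    rw [orbRel_base] at h
    exact hik (hinj k i ((hq _ _).mpr h)).symm
  · intro c hc
    obtain ⟨i, hi⟩ := hcover c hc
    exact ⟨i, (orbRel_base a (b i) c).mpr hi⟩
  · have h1 : ∀ z : Ω, sdeg G a z
        = (Finset.univ.filter (fun y : Ω => y ∈ orbit (stabilizer G a) z)).card := by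
      intro z
      unfold sdeg
      rw [Nat.card_eq_fintype_card, ← Fintype.card_subtype]
    have key : ∀ y : Ω, (if y = a then 1 else 0)
        + ∑ i : Fin 3, (if y ∈ orbit (stabilizer G a) (b i) then 1 else 0) = 1 := by
      intro y
      by_cases hya : y = a
      · subst hya
        rw [if_pos rfl]
        have : ∀ i : Fin 3, (if y ∈ orbit (stabilizer G y) (b i) then 1 else 0) = 0 := by
          intro i
          rw [if_neg (fun h => hba i ((mem_orbit_stab_self_iff y (b i)).mp h))]
        rw [Finset.sum_congr rfl (fun i _ => this i)]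
        simp
      · rw [if_neg hya, zero_add]
        obtain ⟨i0, hi0⟩ := hcover y hya
        rw [Finset.sum_eq_single i0]
        · rw [if_pos hi0]
        · intro k _ hk
          rw [if_neg]
          intro hyk
          apply hk
          apply hinj
          rw [← (hq y (b k)).mpr hyk, ← (hq y (b i0)).mpr hi0]
        · intro h
          exact absurd (Finset.mem_univ i0) h
    have hsum : Fintype.card Ω = 1 + ∑ i : Fin 3, sdeg G a (b i) := by
      calc Fintype.card Ω = ∑ _y : Ω, 1 := by simp
        _ = ∑ y : Ω, ((if y = a then 1 else 0)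
            + ∑ i : Fin 3, (if y ∈ orbit (stabilizer G a) (b i) then 1 else 0)) :=
            Finset.sum_congr rfl (fun y _ => (key y).symm)
        _ = 1 + ∑ i : Fin 3, sdeg G a (b i) := by
            rw [Finset.sum_add_distrib, Finset.sum_comm, Finset.sum_ite_eq' Finset.univ a]
            simp only [Finset.mem_univ, if_true]
            congr 1
            apply Finset.sum_congr rfl
            intro i _
            rw [h1 (b i), Finset.card_filter]
    rw [hsum, Fin.sum_univ_three]
    ring

end E

end Cfsg.Agent.Lib.Lead.W2P
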