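import Mathlib
import Cfsg.Agent.Lib.Lead.W2P.Defs

set_option autoImplicit false
set_option linter.unusedVariables false
set_option linter.unusedSectionVars false
open scoped ComplexConjugate
open Classical

namespace Cfsg.Agent.Lib.Lead.W2P

open MulAction Cfsg.Agent.Lib.helper6.PermChar Cfsg.Agent.Lib.Helper25

universe u v

theorem w2psemireg_burnside {K : Type*} [Group K] [Fintype K] {X : Type*} [Fintype X]
    [MulAction K X] (F : Finset X)
    (h1 : ∀ k : K, k ≠ 1 → ∀ x : X, k • x = x → x ∈ F)
    (h2 : ∀ x ∈ F, ∀ k : K, k • x = x) :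
    Fintype.card X % Fintype.card K = F.card % Fintype.card K := by
  have hB := MulAction.sum_card_fixedBy_eq_card_orbits_mul_card_group K X
  have hk : ∀ k : K, Fintype.card (fixedBy X k) =
      if k = 1 then Fintype.card X else F.card := by
    intro k
    by_cases hk1 : k = 1
    · subst hk1
      rw [if_pos rfl]
      apply Fintype.card_congr
      refine ⟨fun x => x.1, fun x => ⟨x, by simp⟩, fun x => rfl, fun x => rfl⟩
    · rw [if_neg hk1, ← Fintype.card_coe]
      apply Fintype.card_congr
      refine ⟨fun x => ⟨x.1, h1 k hk1 x.1 x.2⟩, fun x => ⟨x.1, h2 x.1 x.2 k⟩,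
        fun x => rfl, fun x => rfl⟩
  rw [Finset.sum_congr rfl (fun k _ => hk k)] at hB
  rw [Finset.sum_ite, Finset.sum_const, Finset.sum_const, smul_eq_mul, smul_eq_mul] at hB
  have hc1 : (Finset.univ.filter (fun k : K => k = 1)).card = 1 := by
    rw [Finset.filter_eq' Finset.univ (1 : K), if_pos (Finset.mem_univ _), Finset.card_singleton]
  have hc2 : (Finset.univ.filter (fun k : K => ¬ k = 1)).card + 1 = Fintype.card K := by
    have := Finset.card_filter_add_card_filter_not (s := (Finset.univ : Finset K))
      (fun k : K => k = 1)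
    rw [hc1, Finset.card_univ] at this
    omega
  rw [hc1, one_mul] at hB
  set c := (Finset.univ.filter (fun k : K => ¬ k = 1)).card with hc
  set N := Fintype.card (Quotient (orbitRel K X)) with hN
  have h3 : Fintype.card X + Fintype.card K * F.card = N * Fintype.card K + F.card := by
    rw [← hB, ← hc2]
    ring
  have h4 : (Fintype.card X + Fintype.card K * F.card) % Fintype.card K
      = Fintype.card X % Fintype.card K := by
    rw [Nat.add_mul_mod_self_left]
  have h5 : (N * Fintype.card K + F.card) % Fintype.card K = F.card % Fintype.card K := by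
    rw [add_comm, Nat.add_mul_mod_self_right]
  rw [← h4, h3, h5]

section E

variable {G : Type u} [Group G] [Fintype G] {Ω : Type v} [Fintype Ω] [DecidableEq Ω] [MulAction G Ω]
  {p : ℕ} [Fact p.Prime] {P : Sylow p G}

theorem sdeg_mod (a β : Ω) (hβ : β ≠ a) (E : Subgroup G) (hE : E ≤ stabilizer G a)
    (hfix : ∀ g ∈ E, g • β = β)
    (hsemi : ∀ g ∈ E, g ≠ 1 → ∀ ω : Ω, g • ω = ω → ω = a ∨ ω = β) (b : Ω) (hb : b ≠ a) :
    sdeg G a b % Nat.card E = if b ∈ orbit (stabilizer G a) β then 1 % Nat.card E else 0 := by
  let T : SubMulAction ↥E Ω :=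
    { carrier := orbit (stabilizer G a) b
      smul_mem' := by
        intro g x hx
        have : (g : G) • x = (⟨(g : G), hE g.2⟩ : stabilizer G a) • x := rfl
        change (g : G) • x ∈ orbit (stabilizer G a) b
        rw [this]
        exact MulAction.mem_orbit_of_mem_orbit _ hx }
  have hTmem : ∀ x : Ω, x ∈ T ↔ x ∈ orbit (stabilizer G a) b := fun x => Iff.rfl
  have hcardT : Fintype.card ↥T = sdeg G a b := by
    unfold sdeg
    rw [Nat.card_eq_fintype_card]
    exact Fintype.card_congr (Equiv.refl _)
  have hcardE : Nat.card E = Fintype.card ↥E := Nat.card_eq_fintype_card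
  have haT : ∀ x : ↥T, (x : Ω) ≠ a := by
    intro x hxa
    have hx : (x : Ω) ∈ orbit (stabilizer G a) b := x.2
    rw [hxa] at hx
    exact hb ((mem_orbit_stab_self_iff a b).mp hx)
  rw [← hcardT, hcardE]
  by_cases hbβ : b ∈ orbit (stabilizer G a) β
  · rw [if_pos hbβ]
    have hβT : β ∈ T := by
      rw [hTmem]
      rw [← MulAction.orbit_eq_iff] at hbβ ⊢
      exact hbβ.symm
    have := w2psemireg_burnside (K := ↥E) (X := ↥T) {(⟨β, hβT⟩ : ↥T)}
      (by
        intro k hk x hx
        rw [Finset.mem_singleton]
        apply Subtype.ext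
        have hx' : (k : G) • (x : Ω) = (x : Ω) := congrArg Subtype.val hx
        have hk' : (k : G) ≠ 1 := fun h => hk (Subtype.ext h)
        rcases hsemi k k.2 hk' x hx' with h | h
        · exact absurd h (haT x)
        · exact h)
      (by
        intro x hx k
        rw [Finset.mem_singleton] at hx
        subst hx
        apply Subtype.ext
        exact hfix k k.2)
    rw [this, Finset.card_singleton]
  · rw [if_neg hbβ]
    have hβT : ∀ x : ↥T, (x : Ω) ≠ β := by
      intro x hxβ
      have hx : (x : Ω) ∈ orbit (stabilizer G a) b := x.2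
      rw [hxβ] at hx
      apply hbβ
      rw [← MulAction.orbit_eq_iff] at hx ⊢
      exact hx.symm
    have := w2psemireg_burnside (K := ↥E) (X := ↥T) (∅ : Finset ↥T)
      (by
        intro k hk x hx
        exfalso
        have hx' : (k : G) • (x : Ω) = (x : Ω) := congrArg Subtype.val hx
        have hk' : (k : G) ≠ 1 := fun h => hk (Subtype.ext h)
        rcases hsemi k k.2 hk' x hx' with h | h
        · exact haT x h
        · exact hβT x h)
      (by
        intro x hx
        exact absurd hx (Finset.notMem_empty x))
    rw [this, Finset.card_empty, Nat.zero_mod]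

end E

end Cfsg.Agent.Lib.Lead.W2P
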