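import Mathlib
import Cfsg.Agent.Lib.helper23.P4S.DefsC
import Cfsg.Agent.Lib.Helper25.P4COUT1
import Cfsg.Agent.Lib.Helper13.P4CR3
import Cfsg.Agent.Lib.helper15.P4CNILP
import Cfsg.Agent.Lib.helper4.P4CGEO2

set_option autoImplicit false

namespace Cfsg.Agent.Lib.helper23.P4S

open Matrix
open scoped Kronecker

theorem outer_uni {E : Type} [Field E] (p : ℕ) [Fact p.Prime] [CharP E p] (hp : 5 ≤ p) (φ : E →+* E) (hφ : ∀ x, φ (φ x) = x)
    (A : Matrix.SpecialLinearGroup (Fin 2) E) (htr : (A * Matrix.SpecialLinearGroup.map φ A).1.trace ^ 2 = 4) :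
    orderOf (rho2 φ A * Tgl) ∣ 2 * p ∧
      gsum ((rho2 φ A * Tgl : GL (Fin 2 × Fin 2) E) : Matrix (Fin 2 × Fin 2) (Fin 2 × Fin 2) E) (2 * p) = 0 := by
  obtain ⟨B, hB⟩ : ∃ B : Matrix.SpecialLinearGroup (Fin 2) E, B = A * Matrix.SpecialLinearGroup.map φ A := ⟨_, rfl⟩
  rw [← hB] at htr
  obtain ⟨y, hy⟩ : ∃ y : GL (Fin 2 × Fin 2) E, y = rho2 φ A * Tgl := ⟨_, rfl⟩
  rw [← hy]
  have h1 : y * y = rho2 φ B := by
    rw [hy, hB]
    exact (outer_sq φ hφ A).1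
  have h2 : ((y : GL (Fin 2 × Fin 2) E) : Matrix (Fin 2 × Fin 2) (Fin 2 × Fin 2) E) *
      ((y : GL (Fin 2 × Fin 2) E) : Matrix (Fin 2 × Fin 2) (Fin 2 × Fin 2) E) = rho2M φ B.1 := by
    rw [← Units.val_mul, h1, rho2_coe]
  have h3 := (rho2M_uni φ B.1 B.2 htr).1
  obtain ⟨h4, h5⟩ := nil_order p hp (rho2M φ B.1) h3
  constructor
  · apply orderOf_dvd_of_pow_eq_one
    apply Units.ext
    rw [Units.val_pow_eq_pow_val, pow_mul, pow_two, h2, h4, Units.val_one]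
  · rw [gsum_two_mul, h2, h5, mul_zero]

end Cfsg.Agent.Lib.helper23.P4S
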