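import Mathlib
import Cfsg.Agent.Lib.helper23.P4S.DefsC

set_option autoImplicit false
set_option linter.unusedSimpArgs false

namespace Cfsg.Agent.Lib.helper23.P4S

open Matrix
open scoped Kronecker

theorem p4csl6_eps {E : Type} [Field E] (t : E) (ht : t ^ 2 = 4) :
    ∃ ε : E, ε * ε = 1 ∧ t = 2 * ε := by
  have h1 : (t - 2) * (t + 2) = 0 := by
    have : (t - 2) * (t + 2) = t ^ 2 - 4 := by ring
    rw [this, ht, sub_self]
  rcases mul_eq_zero.mp h1 with h | h
  · exact ⟨1, by ring, by rw [mul_one]; exact sub_eq_zero.mp h⟩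
  · refine ⟨-1, by ring, ?_⟩
    have : t = -2 := eq_neg_of_add_eq_zero_left h
    rw [this]
    ring

theorem p4csl6_sq_zero {E : Type} [Field E] (A : Matrix (Fin 2) (Fin 2) E) (ε : E) (hε : ε * ε = 1)
    (hdet : A.det = 1) (htr : A.trace = 2 * ε) : (ε • A - 1) * (ε • A - 1) = 0 := by
  rw [Matrix.det_fin_two] at hdet
  rw [Matrix.trace_fin_two] at htr
  have hd : A 1 1 = 2 * ε - A 0 0 := by rw [← htr]; ring
  ext i j
  fin_cases i <;> fin_cases j
  · simp only [Matrix.mul_apply, Fin.sum_univ_two, Matrix.sub_apply, Matrix.smul_apply, Matrix.one_apply,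
      smul_eq_mul, Fin.zero_eta, Fin.mk_one, Matrix.zero_apply]
    simp only [Fin.isValue, ↓reduceIte, zero_ne_one, one_ne_zero, sub_zero]
    rw [hd] at hdet
    linear_combination (ε * ε) * (-hdet) - (1 - 2 * ε * A 0 0) * hε
  · simp only [Matrix.mul_apply, Fin.sum_univ_two, Matrix.sub_apply, Matrix.smul_apply, Matrix.one_apply,
      smul_eq_mul, Fin.zero_eta, Fin.mk_one, Matrix.zero_apply]
    simp only [Fin.isValue, ↓reduceIte, zero_ne_one, one_ne_zero, sub_zero]
    rw [hd]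
    linear_combination (2 * ε * A 0 1) * hε
  · simp only [Matrix.mul_apply, Fin.sum_univ_two, Matrix.sub_apply, Matrix.smul_apply, Matrix.one_apply,
      smul_eq_mul, Fin.zero_eta, Fin.mk_one, Matrix.zero_apply]
    simp only [Fin.isValue, ↓reduceIte, zero_ne_one, one_ne_zero, sub_zero]
    rw [hd]
    linear_combination (2 * ε * A 1 0) * hε
  · simp only [Matrix.mul_apply, Fin.sum_univ_two, Matrix.sub_apply, Matrix.smul_apply, Matrix.one_apply,
      smul_eq_mul, Fin.zero_eta, Fin.mk_one, Matrix.zero_apply]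
    simp only [Fin.isValue, ↓reduceIte, zero_ne_one, one_ne_zero, sub_zero]
    rw [hd] at hdet ⊢
    linear_combination (ε * ε) * (-hdet) + (4 * ε * ε - 1 - 2 * ε * A 0 0) * hε

theorem p4csl6_pow_p {E : Type} [Field E] {ι : Type} [Fintype ι] [DecidableEq ι] [Nonempty ι]
    (p : ℕ) [Fact p.Prime] [CharP E p]
    (M : Matrix ι ι E) (hM : (M - 1) * (M - 1) = 0) : M ^ p = 1 := by
  have h2 : 2 ≤ p := (Fact.out : p.Prime).two_le
  have hch : CharP (Matrix ι ι E) p := Matrix.charP p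
  have hcomm : Commute (M - 1) (1 : Matrix ι ι E) := Commute.one_right _
  have h1 : ((M - 1) + 1) ^ p = (M - 1) ^ p + 1 ^ p := add_pow_char_of_commute p hcomm
  rw [sub_add_cancel, one_pow] at h1
  have h3 : (M - 1) ^ p = 0 := by
    have : p = 2 + (p - 2) := by omega
    rw [this, pow_add, pow_two, hM, zero_mul]
  rw [h1, h3, zero_add]

theorem p4csl6_mat {E : Type} [Field E] (p : ℕ) [Fact p.Prime] [CharP E p]
    (A : Matrix (Fin 2) (Fin 2) E) (hdet : A.det = 1) (htr : A.trace ^ 2 = 4) : A ^ (2 * p) = 1 := by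
  obtain ⟨ε, hε, ht⟩ := p4csl6_eps A.trace htr
  have h1 := p4csl6_pow_p p (ε • A) (p4csl6_sq_zero A ε hε hdet ht)
  have h2 : (ε • A) ^ (2 * p) = 1 := by
    rw [mul_comm, pow_mul, h1, one_pow]
  rw [smul_pow, pow_mul, pow_two, hε, one_pow, one_smul] at h2
  exact h2

theorem sl2_uni_order {E : Type} [Field E] (p : ℕ) [Fact p.Prime] [CharP E p]
    (A : Matrix.SpecialLinearGroup (Fin 2) E) (htr : A.1.trace ^ 2 = 4) : orderOf A ∣ 2 * p := by
  apply orderOf_dvd_of_pow_eq_one
  apply Subtype.ext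
  rw [Matrix.SpecialLinearGroup.coe_pow]
  exact p4csl6_mat p A.1 A.2 htr

end Cfsg.Agent.Lib.helper23.P4S
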