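import Cfsg.Agent.Lib.Helper24.PRegGen2
import Cfsg.Agent.Lib.Helper24.GaloisNorm

set_option autoImplicit false
open scoped ComplexConjugate

namespace Cfsg.Agent.Lib.Helper24

open Cfsg.Agent.Lib.helper2 Cfsg.Agent.Lib.helper7 Cfsg.Agent.Lib.Helper11 Cfsg.Agent.Lib.Helper25

theorem pc_root_fix (m : ℕ) (hm : m ≠ 0) (σ : ℂ ≃+* ℂ)
    (hσ : σ (Complex.exp (2 * Real.pi * Complex.I / (m : ℕ))) =
      Complex.exp (2 * Real.pi * Complex.I / (m : ℕ))) (z : ℂ) (hz : z ^ m = 1) : σ z = z := by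
  have hprim := Complex.isPrimitiveRoot_exp m hm
  haveI : NeZero m := ⟨hm⟩
  obtain ⟨i, _, hi⟩ := hprim.eq_pow_of_pow_eq_one hz
  rw [← hi, map_pow, hσ]

theorem pc_agree {G : Type*} [Group G] [Finite G] (m : ℕ) (σ : ℂ ≃+* ℂ)
    (hσ : ∀ z : ℂ, z ^ m = 1 → σ z = z) {χ : G → ℂ} (hχ : Cfsg.IsCharacter G χ) (x : G)
    (hx : orderOf x ∣ m) : σ (χ x) = χ x := by
  classical
  set C := Subgroup.zpowers x with hC
  have hres := isCharacter_restrict hχ C
  let gC : C := ⟨x, Subgroup.mem_zpowers x⟩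
  obtain ⟨s, c, hs, hk⟩ := gn_char_pow_expansion hres gC
  have h1 := hk 1
  rw [pow_one] at h1
  have h2 : χ x = ∑ z ∈ s, (c z : ℂ) * z ^ 1 := h1
  rw [h2, map_sum]
  refine Finset.sum_congr rfl fun z hz => ?_
  rw [map_mul, map_natCast, pow_one]
  congr 1
  apply hσ
  have h3 := hs z hz
  rw [Nat.card_zpowers] at h3
  obtain ⟨d, hd⟩ := hx
  rw [hd, pow_mul, h3, one_pow]

theorem pc_core {G : Type*} [Group G] [Fintype G] (p : ℕ) (hp : p.Prime)
    (χ : Cfsg.IrrCharacter G) (S : Finset (Cfsg.IrrCharacter G)) (hχS : χ ∈ S)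
    (hreg : ∀ ψ ∈ S, ∀ x : G, ¬ p ∣ orderOf x → (ψ : G → ℂ) x = (χ : G → ℂ) x)
    (P : Sylow p G) [Fintype (P : Subgroup G)]
    (hsyl : ∀ ψ ∈ S, ∑ y : (P : Subgroup G), (ψ : G → ℂ) y = ∑ y : (P : Subgroup G), (χ : G → ℂ) y) :
    (S.card * Cfsg.charDegree (χ : G → ℂ)).factorization p ≤ (Nat.card G).factorization p ∧
    (p ^ (Nat.card G).factorization p ∣ S.card * Cfsg.charDegree (χ : G → ℂ) →
      p ^ (Nat.card G).factorization p ∣ Cfsg.charDegree (χ : G → ℂ)) := by
  classical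
  haveI : Fact p.Prime := ⟨hp⟩
  obtain ⟨n, ρ, hρ, hχρ⟩ := χ.2
  haveI := hρ
  have hfr : Module.finrank ℂ (Fin n → ℂ) = n := by simp
  have hn0 : n ≠ 0 := by
    have := Cfsg.Agent.Lib.Helper25.finrank_ne_zero_of_irr ρ
    rwa [hfr] at this
  have hχ1 : (χ : G → ℂ) 1 = (n : ℂ) := by
    rw [← hχρ, Representation.char_one, hfr]
  have hdeg : Cfsg.charDegree (χ : G → ℂ) = n := by
    unfold Cfsg.charDegree
    rw [hχ1]
    simp
  obtain ⟨k, hk⟩ := Cfsg.Agent.Lib.helper2.degree_dvd_card ρ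
  rw [hfr] at hk
  have hk0 : k ≠ 0 := by
    intro h0
    rw [h0, mul_zero] at hk
    exact Nat.card_pos.ne' hk
  obtain ⟨e, k', hpk, hkk⟩ := Nat.exists_eq_pow_mul_and_not_dvd hk0 p hp.ne_one
  have hk'0 : k' ≠ 0 := by
    intro h0
    apply hpk
    rw [h0]
    exact dvd_zero p
  have hfac : (Nat.card G).factorization p = n.factorization p + e := by
    rw [hk, Nat.factorization_mul hn0 hk0, hkk,
      Nat.factorization_mul (pow_ne_zero e hp.ne_zero) hk'0]
    simp only [Finsupp.coe_add, Pi.add_apply]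
    rw [Nat.Prime.factorization_pow hp, Nat.factorization_eq_zero_of_not_dvd hpk]
    simp
  rw [hdeg]
  have hgen0 := prg_genChar ρ p hp e k' (by rw [hfr, hk, hkk]) hpk
  rw [hχρ] at hgen0
  set η : G → ℂ := fun x => if p ∣ orderOf x then 0 else (p : ℂ) ^ e * (χ : G → ℂ) x with hη
  have hgen : Cfsg.IsGeneralizedCharacter G η := hgen0
  haveI : Fintype (Cfsg.IrrCharacter G) := Fintype.ofFinite _
  choose z hz using genChar_inner_int η hgen
  have hcl := genChar_classFunction η hgen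
  have hexp := classFunction_expansion η hcl
  set T : ℝ := ∑ x : G, if p ∣ orderOf x then 0 else Complex.normSq ((χ : G → ℂ) x) with hT
  have hTpos : 0 < T := by
    have h1 : ¬ p ∣ orderOf (1 : G) := by
      rw [orderOf_one]
      exact hp.one_lt.ne' ∘ Nat.dvd_one.mp
    have h2 : (if p ∣ orderOf (1 : G) then 0 else Complex.normSq ((χ : G → ℂ) 1)) ≤ T := by
      rw [hT]
      apply Finset.single_le_sum (f := fun x : G => if p ∣ orderOf x then 0 else
        Complex.normSq ((χ : G → ℂ) x))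
      · intro x _
        by_cases h : p ∣ orderOf x
        · simp [h]
        · simp only [h, if_false]
          exact Complex.normSq_nonneg _
      · exact Finset.mem_univ _
    rw [if_neg h1, hχ1] at h2
    have h3 : 0 < Complex.normSq (n : ℂ) := by
      rw [Complex.normSq_pos]
      exact_mod_cast hn0
    linarith
  have h1 : ∀ ψ ∈ S, Cfsg.classInner η (ψ : G → ℂ) =
      (Nat.card G : ℂ)⁻¹ * ((p : ℂ) ^ e * (T : ℂ)) := by
    intro ψ hψ
    unfold Cfsg.classInner
    congr 1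
    rw [hT, Complex.ofReal_sum, Finset.mul_sum]
    refine Finset.sum_congr rfl fun x _ => ?_
    by_cases h : p ∣ orderOf x
    · simp [hη, h]
    · simp only [hη, h, if_false]
      rw [hreg ψ hψ x h, mul_assoc, Complex.mul_conj]
  have h2 : Cfsg.classInner η η =
      (Nat.card G : ℂ)⁻¹ * ((p : ℂ) ^ e * ((p : ℂ) ^ e * (T : ℂ))) := by
    unfold Cfsg.classInner
    congr 1
    rw [hT, Complex.ofReal_sum, Finset.mul_sum, Finset.mul_sum]
    refine Finset.sum_congr rfl fun x _ => ?_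
    by_cases h : p ∣ orderOf x
    · simp [hη, h]
    · simp only [hη, h, if_false]
      rw [map_mul, map_pow, Complex.conj_natCast]
      have := Complex.mul_conj ((χ : G → ℂ) x)
      calc (p : ℂ) ^ e * (χ : G → ℂ) x * ((p : ℂ) ^ e * conj ((χ : G → ℂ) x))
          = (p : ℂ) ^ e * ((p : ℂ) ^ e * ((χ : G → ℂ) x * conj ((χ : G → ℂ) x))) := by ring
        _ = _ := by rw [this]
  set m : ℤ := z χ with hm
  have hmC : (m : ℂ) = (Nat.card G : ℂ)⁻¹ * ((p : ℂ) ^ e * (T : ℂ)) := by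
    rw [hm, ← hz χ, h1 χ hχS]
  have hmS : ∀ ψ ∈ S, z ψ = m := by
    intro ψ hψ
    have : ((z ψ : ℤ) : ℂ) = ((m : ℤ) : ℂ) := by
      rw [← hz ψ, h1 ψ hψ, hmC]
    exact_mod_cast this
  have hGpos : (0 : ℝ) < (Nat.card G : ℝ) := by exact_mod_cast Nat.card_pos
  have hppos : (0 : ℝ) < (p : ℝ) ^ e := by
    apply pow_pos
    exact_mod_cast hp.pos
  have hmR : (m : ℝ) = (Nat.card G : ℝ)⁻¹ * ((p : ℝ) ^ e * T) := by
    have : ((m : ℝ) : ℂ) = (((Nat.card G : ℝ)⁻¹ * ((p : ℝ) ^ e * T) : ℝ) : ℂ) := by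
      push_cast
      exact hmC
    exact Complex.ofReal_injective this
  have hmpos : 0 < m := by
    have : (0 : ℝ) < (m : ℝ) := by
      rw [hmR]
      positivity
    exact_mod_cast this
  have hnorm : Cfsg.classInner η η = ∑ ψ : Cfsg.IrrCharacter G, (z ψ : ℂ) * (z ψ : ℂ) := by
    have h3 : Cfsg.classInner η η =
        Cfsg.classInner (∑ ψ : Cfsg.IrrCharacter G, Cfsg.classInner η (ψ : G → ℂ) • (ψ : G → ℂ)) η := by
      rw [← hexp]
    rw [h3, classInner_sum_left]
    refine Finset.sum_congr rfl fun ψ _ => ?_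
    rw [classInner_smul_left, Cfsg.Agent.Lib.helper2.classInner_conj_symm (ψ : G → ℂ) η, hz ψ, map_intCast]
  have hpar : ((p : ℤ) ^ e) * m = ∑ ψ : Cfsg.IrrCharacter G, (z ψ) ^ 2 := by
    have h3 : (((p : ℤ) ^ e * m : ℤ) : ℂ) = ((∑ ψ : Cfsg.IrrCharacter G, (z ψ) ^ 2 : ℤ) : ℂ) := by
      push_cast
      rw [hmC]
      have h4 : ∑ ψ : Cfsg.IrrCharacter G, ((z ψ : ℂ)) ^ 2 =
          ∑ ψ : Cfsg.IrrCharacter G, (z ψ : ℂ) * (z ψ : ℂ) := by
        refine Finset.sum_congr rfl fun ψ _ => ?_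
        ring
      rw [h4, ← hnorm, h2]
      ring
    exact_mod_cast h3
  have hSsum : ∑ ψ ∈ S, (z ψ) ^ 2 = (S.card : ℤ) * m ^ 2 := by
    rw [Finset.sum_congr rfl (fun ψ hψ => by rw [hmS ψ hψ]), Finset.sum_const, nsmul_eq_mul]
  have hle : (S.card : ℤ) * m ^ 2 ≤ (p : ℤ) ^ e * m := by
    rw [hpar, ← hSsum]
    apply Finset.sum_le_sum_of_subset_of_nonneg (Finset.subset_univ S)
    intro ψ _ _
    positivity
  have hrm : (S.card : ℤ) * m ≤ (p : ℤ) ^ e := by
    have h3 : (S.card : ℤ) * m * m ≤ (p : ℤ) ^ e * m := by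
      have : (S.card : ℤ) * m * m = (S.card : ℤ) * m ^ 2 := by ring
      rw [this]
      exact hle
    exact le_of_mul_le_mul_right h3 hmpos
  have hrpos : 0 < S.card := Finset.card_pos.mpr ⟨χ, hχS⟩
  have hr : S.card ≤ p ^ e := by
    have h3 : (S.card : ℤ) ≤ (S.card : ℤ) * m := by
      have : (1 : ℤ) ≤ m := hmpos
      nlinarith [hrpos]
    have h4 : (S.card : ℤ) ≤ (p : ℤ) ^ e := le_trans h3 hrm
    exact_mod_cast h4
  have hfr2 : (S.card * n).factorization p = S.card.factorization p + n.factorization p := by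
    rw [Nat.factorization_mul hrpos.ne' hn0]
    rfl
  constructor
  · rw [hfr2, hfac]
    have h3 : p ^ S.card.factorization p ≤ p ^ e :=
      le_trans (Nat.le_of_dvd hrpos (Nat.ordProj_dvd _ _)) hr
    have h4 : S.card.factorization p ≤ e := (Nat.pow_le_pow_iff_right hp.one_lt).mp h3
    omega
  · intro hdiv
    have h3 : (Nat.card G).factorization p ≤ (S.card * n).factorization p :=
      (hp.pow_dvd_iff_le_factorization (Nat.mul_ne_zero hrpos.ne' hn0)).mp hdiv
    rw [hfr2, hfac] at h3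
    have h4 : e ≤ S.card.factorization p := by omega
    have h5 : p ^ e ∣ S.card := dvd_trans (pow_dvd_pow p h4) (Nat.ordProj_dvd _ _)
    have hreq : S.card = p ^ e := le_antisymm hr (Nat.le_of_dvd hrpos h5)
    have hm1 : m = 1 := by
      have h6 : (S.card : ℤ) = (p : ℤ) ^ e := by exact_mod_cast hreq
      rw [h6] at hrm
      have h7 : (0 : ℤ) < (p : ℤ) ^ e := by
        apply pow_pos
        exact_mod_cast hp.pos
      have h8 : m ≤ 1 := by
        by_contra hlt
        rw [not_le] at hlt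
        nlinarith
      omega
    have hzero : ∀ ψ : Cfsg.IrrCharacter G, ψ ∉ S → z ψ = 0 := by
      intro ψ hψ
      have h6 := Finset.sum_sdiff (Finset.subset_univ S) (f := fun ψ => (z ψ) ^ 2)
      rw [← hpar, hSsum, hm1] at h6
      have h7 : (S.card : ℤ) = (p : ℤ) ^ e := by exact_mod_cast hreq
      rw [h7] at h6
      have h8 : ∑ ψ ∈ Finset.univ \ S, (z ψ) ^ 2 = 0 := by linarith
      have h9 := (Finset.sum_eq_zero_iff_of_nonneg (fun ψ _ => sq_nonneg (z ψ))).mp h8 ψ
        (Finset.mem_sdiff.mpr ⟨Finset.mem_univ _, hψ⟩)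
      exact pow_eq_zero_iff (two_ne_zero) |>.mp h9
    have hsum1 : ∑ y : (P : Subgroup G), η (y : G) = (p : ℂ) ^ e * (n : ℂ) := by
      rw [Finset.sum_eq_single (1 : (P : Subgroup G))]
      · have h1' : ¬ p ∣ orderOf (1 : G) := by
          rw [orderOf_one]
          exact hp.one_lt.ne' ∘ Nat.dvd_one.mp
        simp only [hη, OneMemClass.coe_one, h1', if_false, hχ1]
      · intro y _ hy
        have hdvd : p ∣ orderOf (y : G) := by
          rw [Subgroup.orderOf_coe]
          obtain ⟨j, hj⟩ := (IsPGroup.iff_orderOf.mp P.isPGroup') y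
          rw [hj]
          have hj0 : j ≠ 0 := by
            intro h0
            rw [h0, pow_zero, orderOf_eq_one_iff] at hj
            exact hy hj
          exact dvd_pow_self p hj0
        simp only [hη, hdvd, if_true]
      · intro h
        exact absurd (Finset.mem_univ _) h
    have hχP : Cfsg.IsCharacter (P : Subgroup G) (fun y : (P : Subgroup G) => (χ : G → ℂ) y) :=
      isCharacter_restrict (isCharacter_of_irr χ) _
    obtain ⟨c, hc⟩ := classInner_character_nat hχP (isCharacter_of_irr (trivIrr (P : Subgroup G)))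
    unfold Cfsg.classInner at hc
    simp only [trivIrr_apply, map_one, mul_one] at hc
    have hPne : (Nat.card (P : Subgroup G) : ℂ) ≠ 0 := by exact_mod_cast Nat.card_pos.ne'
    have hsumχ : ∑ y : (P : Subgroup G), (χ : G → ℂ) y = (Nat.card (P : Subgroup G) : ℂ) * (c : ℂ) := by
      rw [← hc, ← mul_assoc, mul_inv_cancel₀ hPne, one_mul]
    have hsum2 : ∑ y : (P : Subgroup G), η (y : G) =
        (S.card : ℂ) * ((Nat.card (P : Subgroup G) : ℂ) * (c : ℂ)) := by
      have h6 : ∀ y : (P : Subgroup G), η (y : G) =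
          ∑ ψ : Cfsg.IrrCharacter G, (z ψ : ℂ) * (ψ : G → ℂ) y := by
        intro y
        have := congrFun hexp (y : G)
        rw [this]
        simp only [Finset.sum_apply, Pi.smul_apply, smul_eq_mul]
        refine Finset.sum_congr rfl fun ψ _ => ?_
        rw [hz ψ]
      rw [Finset.sum_congr rfl (fun y _ => h6 y), Finset.sum_comm]
      have h7 : ∀ ψ : Cfsg.IrrCharacter G, ∑ y : (P : Subgroup G), (z ψ : ℂ) * (ψ : G → ℂ) y =
          if ψ ∈ S then (Nat.card (P : Subgroup G) : ℂ) * (c : ℂ) else 0 := by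
        intro ψ
        by_cases hψ : ψ ∈ S
        · rw [if_pos hψ, ← Finset.mul_sum, hmS ψ hψ, hm1, hsyl ψ hψ, hsumχ]
          simp
        · rw [if_neg hψ, hzero ψ hψ]
          simp
      rw [Finset.sum_congr rfl (fun ψ _ => h7 ψ), ← Finset.sum_filter, Finset.sum_const,
        nsmul_eq_mul]
      congr 2
      simp
    rw [hsum1, hreq] at hsum2
    have hcardP : Nat.card (P : Subgroup G) = p ^ (Nat.card G).factorization p :=
      P.card_eq_multiplicity
    rw [hcardP] at hsum2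
    have hpe : ((p : ℂ) ^ e) ≠ 0 := by
      apply pow_ne_zero
      exact_mod_cast hp.ne_zero
    have h8 : (n : ℂ) = ((p ^ (Nat.card G).factorization p : ℕ) : ℂ) * (c : ℂ) := by
      have : (p : ℂ) ^ e * (n : ℂ) =
          (p : ℂ) ^ e * (((p ^ (Nat.card G).factorization p : ℕ) : ℂ) * (c : ℂ)) := by
        rw [hsum2]
        push_cast
        ring
      exact mul_left_cancel₀ hpe this
    have h9 : n = p ^ (Nat.card G).factorization p * c := by exact_mod_cast h8
    exact ⟨c, h9⟩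

theorem pc_sylow_sum_fixed {G : Type*} [Group G] [Finite G] (σ : ℂ ≃+* ℂ) {χ : G → ℂ}
    (hχ : Cfsg.IsCharacter G χ) (H : Subgroup G) [Fintype H] :
    ∑ y : H, σ (χ y) = ∑ y : H, χ y := by
  have hχH : Cfsg.IsCharacter H (fun y : H => χ y) := isCharacter_restrict hχ _
  obtain ⟨c, hc⟩ := classInner_character_nat hχH (isCharacter_of_irr (trivIrr H))
  unfold Cfsg.classInner at hc
  simp only [trivIrr_apply, map_one, mul_one] at hc
  have hne : (Nat.card H : ℂ) ≠ 0 := by exact_mod_cast Nat.card_pos.ne'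
  have hsum : ∑ y : H, χ y = (Nat.card H : ℂ) * (c : ℂ) := by
    rw [← hc, ← mul_assoc, mul_inv_cancel₀ hne, one_mul]
  rw [← map_sum, hsum, map_mul, map_natCast, map_natCast]

end Cfsg.Agent.Lib.Helper24
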