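import Cfsg.Agent.Lib.Helper1.PLK.Defs
import Cfsg.Agent.Lib.Helper29.SLKE8
import Cfsg.Agent.Lib.Helper26.SLKR3

set_option autoImplicit false

namespace Cfsg.Agent.Lib.Helper1.PLK

open Polynomial
open Cfsg.Agent.Lib.Helper29.GLK
open Cfsg.Agent.Lib.Helper1.SLK

universe u

theorem plkt5_core {F : Type u} [Field F] [Fintype F] [DecidableEq F] (n m : ℕ)
    (hT1 : ∀ T : Fin n → F[X], T ∈ tupTw F n m → tctr m T ∈ tupFin F (n / m))
    (hT2 : Set.InjOn (tctr (F := F) (n := n) m) (tupTw F n m))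
    (hT3 : ∀ T : Fin n → F[X], T ∈ tupTw F n m → ∀ q : ℕ, tg q (tctr m T) = tg q T)
    (hT4 : ∀ T : Fin n → F[X], T ∈ tupTw F n m →
      tdet T = (-1) ^ ((m - 1) * (n / m)) * tdet (tctr m T)) :
    (Fintype.card F - 1) *
        ∑ T ∈ (tupTw F n m).filter (fun T => tdet T = 1), tg (Fintype.card F) T ≤
      (tupFin F (n / m)).card +
        ∑ d ∈ (Nat.divisors (Nat.gcd (n / m) (Fintype.card F - 1))).filter (fun d => 1 < d),
          (d ^ 2 - 1) * (tupFin F (n / m / d)).card := by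
  classical
  set ε : Fˣ := (-1) ^ ((m - 1) * (n / m)) with hε
  have hεc : ((ε : Fˣ) : F) = (-1) ^ ((m - 1) * (n / m)) := by
    rw [hε]; push_cast; rfl
  have hεsq : ((ε : Fˣ) : F) * ((ε : Fˣ) : F) = 1 := by
    rw [hεc, ← pow_add, ← two_mul, pow_mul]; simp
  have hsub : ∑ T ∈ (tupTw F n m).filter (fun T => tdet T = 1), tg (Fintype.card F) T ≤
      ∑ H ∈ (tupFin F (n / m)).filter (fun H => tdet H = (ε : F)), tg (Fintype.card F) H := by
    have h1 : ∑ T ∈ (tupTw F n m).filter (fun T => tdet T = 1), tg (Fintype.card F) T =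
        ∑ T ∈ (tupTw F n m).filter (fun T => tdet T = 1), tg (Fintype.card F) (tctr m T) := by
      refine Finset.sum_congr rfl (fun T hT => ?_)
      rw [hT3 T (Finset.mem_filter.mp hT).1]
    rw [h1]
    have hinj : Set.InjOn (tctr (F := F) (n := n) m)
        (((tupTw F n m).filter (fun T => tdet T = 1) : Finset (Fin n → F[X])) : Set (Fin n → F[X])) := by
      intro a ha b hb hab
      exact hT2 (Finset.mem_filter.mp ha).1 (Finset.mem_filter.mp hb).1 hab
    rw [← Finset.sum_image (f := fun H => tg (Fintype.card F) H) hinj]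
    refine Finset.sum_le_sum_of_subset ?_
    intro H hH
    obtain ⟨T, hT, rfl⟩ := Finset.mem_image.mp hH
    obtain ⟨hTw, hd⟩ := Finset.mem_filter.mp hT
    refine Finset.mem_filter.mpr ⟨hT1 T hTw, ?_⟩
    have h4 := hT4 T hTw
    rw [hd, ← hεc] at h4
    calc tdet (tctr m T) = ((ε : Fˣ) : F) * ((ε : Fˣ) : F) * tdet (tctr m T) := by
          rw [hεsq, one_mul]
      _ = ((ε : Fˣ) : F) * (((ε : Fˣ) : F) * tdet (tctr m T)) := mul_assoc _ _ _
      _ = ((ε : Fˣ) : F) := by rw [← h4, mul_one]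
  calc (Fintype.card F - 1) *
        ∑ T ∈ (tupTw F n m).filter (fun T => tdet T = 1), tg (Fintype.card F) T
      ≤ (Fintype.card F - 1) *
        ∑ H ∈ (tupFin F (n / m)).filter (fun H => tdet H = (ε : F)), tg (Fintype.card F) H :=
        Nat.mul_le_mul_left _ hsub
    _ ≤ ∑ T ∈ tupFin F (n / m), tg (Fintype.card F) T ^ 2 := slke8_equidist_gen (n / m) ε
    _ ≤ _ := sq_sum_le (n / m)

end Cfsg.Agent.Lib.Helper1.PLK
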