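import Cfsg.Agent.Lib.Helper1.PLK.Defs

set_option autoImplicit false

namespace Cfsg.Agent.Lib.Helper1.PLK

open Polynomial
open Cfsg.Agent.Lib.Helper29.GLK
open Cfsg.Agent.Lib.Helper1.SLK

universe u

theorem plku2_h24_sm_eq {F : Type u} [Field F] {M : Type*} [AddCommGroup M] [Module F M]
    (φ : M →ₗ[F] M) (a : F[X]) :
    sm a (Module.AEval' φ) =
      ((Module.AEval'.of φ : M ≃ₗ[F] Module.AEval' φ) : M →ₗ[F] Module.AEval' φ) ∘ₗ
        (Polynomial.aeval φ a) ∘ₗ
          (((Module.AEval'.of φ).symm : Module.AEval' φ ≃ₗ[F] M) : Module.AEval' φ →ₗ[F] M) := by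
  apply LinearMap.ext
  intro m
  obtain ⟨v, rfl⟩ := (Module.AEval'.of φ).surjective m
  rw [sm_apply, LinearMap.comp_apply, LinearMap.comp_apply, LinearEquiv.coe_coe, LinearEquiv.coe_coe,
    LinearEquiv.symm_apply_apply]
  exact (Module.AEval.of_aeval_smul (R := F) (M := M) φ a v).symm

theorem plku2_h24_ker {F : Type u} [Field F] {M : Type*} [AddCommGroup M] [Module F M]
    (φ : M →ₗ[F] M) (a : F[X]) :
    Module.finrank F (LinearMap.ker (sm a (Module.AEval' φ))) =
      Module.finrank F (LinearMap.ker (Polynomial.aeval φ a)) := by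
  rw [plku2_h24_sm_eq φ a, LinearEquiv.ker_comp, LinearMap.ker_comp,
    ← Submodule.map_equiv_eq_comap_symm, LinearEquiv.finrank_map_eq]

theorem plku2_h24_nu_twist {F : Type u} [Field F] {n : ℕ}
    (x y : Matrix.GeneralLinearGroup (Fin n) F) (ζ : Fˣ)
    (hy : (y : Matrix (Fin n) (Fin n) F) = (ζ : F) • (x : Matrix (Fin n) (Fin n) F)) (a : F[X]) :
    nu y a = nu x (a.comp (C (ζ : F) * X)) := by
  unfold nu
  have hφ : (Polynomial.aeval (Matrix.toLin' (x : Matrix (Fin n) (Fin n) F))) (C (ζ : F) * X) =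
      Matrix.toLin' ((ζ : F) • (x : Matrix (Fin n) (Fin n) F)) := by
    rw [map_mul, Polynomial.aeval_C, Polynomial.aeval_X, map_smul, Algebra.algebraMap_eq_smul_one,
      smul_mul_assoc, one_mul]
  rw [plku2_h24_ker, plku2_h24_ker, Polynomial.aeval_comp, hy, hφ]

end Cfsg.Agent.Lib.Helper1.PLK
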