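import Cfsg.Agent.Lib.Helper24.PLKU12core
import Cfsg.Agent.Lib.Helper24.PLKU2h24
import Cfsg.Agent.Lib.Helper11.PLKU9core
import Cfsg.Agent.Lib.Helper11.PLKU8core
import Cfsg.Agent.Lib.helper2.PLKU6core
import Cfsg.Agent.Lib.helper4.PLKU1
import Cfsg.Agent.Lib.Helper25.PLKU2b
import Cfsg.Agent.Lib.helper7.PLKU9a
import Cfsg.Agent.Lib.helper7.PLKU7
import Cfsg.Agent.Lib.helper7.PLKU11
import Cfsg.Agent.Lib.Helper16.PLKU3
import Cfsg.Agent.Lib.Helper16.PLKU4c
import Cfsg.Agent.Lib.Helper21.PLKU10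

set_option autoImplicit false

namespace Cfsg.Agent.Lib.Helper1.PLK

open Polynomial
open Cfsg.Agent.Lib.Helper29.GLK
open Cfsg.Agent.Lib.Helper1.SLK

universe u

theorem plku12_nu_decomp {F : Type u} [Field F] {n : ℕ} (x : Matrix.GeneralLinearGroup (Fin n) F)
    {ι : Type u} [Fintype ι] (p : ι → F[X]) (e : ι → ℕ) (hp : ∀ j, Irreducible (p j))
    (Φ : gMod x ≃ₗ[F[X]] DirectSum ι fun j => F[X] ⧸ Ideal.span {p j ^ e j})
    (P : F[X]) (hP : Irreducible P) (k : ℕ) :
    nu x (P ^ k) =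
      P.natDegree * ∑ j, (open Classical in if Associated (p j) P then min (e j) k else 0) :=
  plku6_core x (fun M _ _ _ f => finrank_ker_lmap M f)
    (fun p hp e k => finrank_ker_quot_pow p hp e k) p e hp Φ P hP k

theorem plku12_count_add_nu {F : Type u} [Field F] [DecidableEq F] {n : ℕ}
    (x : Matrix.GeneralLinearGroup (Fin n) F) (G : ℕ → F[X]) (h : IsInv x G)
    (P : F[X]) (hP : Irreducible P) (hPm : P.Monic) (i : ℕ) :
    P.natDegree * Multiset.count P (UniqueFactorizationMonoid.normalizedFactors (G i)) +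
        nu x (P ^ (i + 2)) + nu x (P ^ i) = 2 * nu x (P ^ (i + 1)) :=
  plku8_core (fun x _ _ p e hp Φ P hP k => plku12_nu_decomp x p e hp Φ P hP k)
    (fun s e k => min_identity s e k) x G h P hP hPm i

theorem plku12_count_twist {F : Type u} [Field F] [DecidableEq F] {n : ℕ}
    (x y : Matrix.GeneralLinearGroup (Fin n) F) (ζ : Fˣ)
    (hy : (y : Matrix (Fin n) (Fin n) F) = (ζ : F) • (x : Matrix (Fin n) (Fin n) F))
    (hc : IsConj y x) (G : ℕ → F[X]) (h : IsInv x G)
    (P : F[X]) (hP : Irreducible P) (hPm : P.Monic) (i : ℕ) :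
    Multiset.count P (UniqueFactorizationMonoid.normalizedFactors (G i)) =
      Multiset.count (tw ζ P) (UniqueFactorizationMonoid.normalizedFactors (G i)) :=
  plku9_core (fun x y h a => nu_conj x y h a) (fun x y ζ hy a => plku2_h24_nu_twist x y ζ hy a)
    (fun x u hu a => nu_C_mul x u hu a)
    (fun x G h P hP hPm i => plku12_count_add_nu x G h P hP hPm i)
    (fun ζ P hP hPm => tw_props ζ P hP hPm) x y ζ hy hc G h P hP hPm i

theorem coeff_of_isConj_twist {F : Type u} [Field F] [DecidableEq F] {n : ℕ}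
    (x y : Matrix.GeneralLinearGroup (Fin n) F) (ζ : Fˣ)
    (hy : (y : Matrix (Fin n) (Fin n) F) = (ζ : F) • (x : Matrix (Fin n) (Fin n) F))
    (hc : IsConj y x) (G : ℕ → F[X]) (h : IsInv x G) (i k : ℕ) (hk : ¬ orderOf ζ ∣ k) :
    (G i).coeff k = 0 :=
  plku12_core x ζ G h (fun P hP hPm i => plku12_count_twist x y ζ hy hc G h P hP hPm i)
    (fun g hg hh => comp_eq_of_count ζ g hg hh)
    (fun g h0 hh k hk => coeff_eq_zero_of_comp ζ g h0 hh k hk) i k hk

end Cfsg.Agent.Lib.Helper1.PLK
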