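import Mathlib
import Cfsg.Agent.Lib.Helper24.PPowerDefect1

set_option autoImplicit false

namespace Cfsg.Agent.Lib.Helper24

open Cfsg.Agent.Lib.helper7 Cfsg.Agent.Lib.Helper25 Cfsg.Agent.Lib.helper2

variable {G : Type*} [Group G]

theorem pd_sum_nat [Finite G] (A : Subgroup G) [Fintype A] (ψ : Cfsg.IrrCharacter G) :
    ∃ m : ℕ, ∑ a : A, (ψ : G → ℂ) a = (Nat.card A : ℂ) * (m : ℂ) := by
  have h1 : Cfsg.IsCharacter A (fun a : A => (ψ : G → ℂ) a) :=
    isCharacter_restrict (h7_irr_isCharacter ψ.2) A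
  have h2 : Cfsg.IsCharacter A (fun _ => (1 : ℂ)) := Cfsg.Agent.Lib.Helper1.isCharacter_const_one A
  obtain ⟨m, hm⟩ := classInner_character_nat h1 h2
  refine ⟨m, ?_⟩
  unfold Cfsg.classInner at hm
  simp only [map_one, mul_one] at hm
  have hne : (Nat.card A : ℂ) ≠ 0 := by exact_mod_cast Nat.card_pos.ne'
  rw [← hm, ← mul_assoc, mul_inv_cancel₀ hne, one_mul]

theorem pd_dvd [Finite G] {p : ℕ} [hp : Fact p.Prime] {M : Ideal Cfsg.AlgInt}
    (hM : Cfsg.IsPModular p M) (A : Subgroup G) (b : ℕ) (hA : Nat.card A = p ^ b)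
    (ψ : Cfsg.IrrCharacter G)
    (hrat : ∀ z ∈ A, z ≠ 1 → Cfsg.MemLocalIdeal M ((ψ : G → ℂ) z / (ψ : G → ℂ) 1)) :
    p ^ b ∣ Cfsg.charDegree (ψ : G → ℂ) := by
  classical
  haveI : Fintype A := Fintype.ofFinite _
  have hPr := hM.2.1.isPrime
  obtain ⟨m, hm⟩ := pd_sum_nat A ψ
  obtain ⟨hd, hdpos⟩ := charDegree_irr ψ
  set d := Cfsg.charDegree (ψ : G → ℂ) with hddef
  have hd0 : (d : ℂ) ≠ 0 := by exact_mod_cast hdpos.ne'
  have h1 : Cfsg.MemLocalIdeal M ((p ^ b : ℕ) * (m : ℂ) / (d : ℂ) - 1) := by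
    have e : ((p ^ b : ℕ) : ℂ) * (m : ℂ) / (d : ℂ) - 1 =
        ∑ a ∈ Finset.univ.erase (1 : A), (ψ : G → ℂ) a / (ψ : G → ℂ) 1 := by
      rw [← hA, ← hm, ← Finset.add_sum_erase Finset.univ _ (Finset.mem_univ (1 : A)), ← hd]
      have : (ψ : G → ℂ) ((1 : A) : G) = (d : ℂ) := by
        rw [hd]
        rfl
      rw [add_div, this, div_self hd0, Finset.sum_div]
      ring
    rw [e]
    apply h7_memLocalIdeal_sum hPr
    intro a ha
    apply hrat a a.2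
    intro h1
    apply Finset.ne_of_mem_erase ha
    exact Subtype.ext h1
  by_contra hnd
  have hdne : d ≠ 0 := hdpos.ne'
  obtain ⟨s, d', hd', hdeq⟩ := Nat.exists_eq_pow_mul_and_not_dvd hdne p hp.out.ne_one
  have hsb : s < b := by
    by_contra hge
    push Not at hge
    apply hnd
    rw [hdeq]
    exact (pow_dvd_pow p hge).trans (dvd_mul_right _ _)
  have hd'M : (d' : Cfsg.AlgInt) ∉ M :=
    h7_natCast_not_mem hM d' ((Nat.Prime.coprime_iff_not_dvd hp.out).mpr hd').symm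
  have hd'0 : (d' : ℂ) ≠ 0 := by
    have := h7_coe_ne_zero_of_not_mem hd'M
    simpa using this
  have hr : Cfsg.MemLocalRing M ((p ^ (b - s - 1) * m : ℕ) * ((d' : ℂ)⁻¹)) := by
    apply h7_memLocalRing_mul hPr (h7_memLocalRing_natCast hPr _)
    refine ⟨1, (d' : Cfsg.AlgInt), hd'M, ?_⟩
    simp
  have h2 : Cfsg.MemLocalIdeal M ((p ^ b : ℕ) * (m : ℂ) / (d : ℂ)) := by
    have e : ((p ^ b : ℕ) : ℂ) * (m : ℂ) / (d : ℂ) =
        ((p ^ (b - s - 1) * m : ℕ) * ((d' : ℂ)⁻¹)) * (p : ℂ) := by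
      have hp0 : (p : ℂ) ≠ 0 := by exact_mod_cast hp.out.ne_zero
      have hb : b = (b - s - 1) + 1 + s := by omega
      rw [hdeq]
      push_cast
      conv_lhs => rw [hb]
      rw [pow_add, pow_add, pow_one]
      field_simp
    rw [e]
    exact h7_memLocalIdeal_mul_left hPr hr (h7_memLocalIdeal_p hM)
  have h3 := h7_memLocalIdeal_sub hPr h2 h1
  rw [sub_sub_cancel] at h3
  exact h7_not_memLocalIdeal_one hPr h3

end Cfsg.Agent.Lib.Helper24
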