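import Mathlib
import Cfsg.Agent.Lib.Helper24.PPowerDefect2

set_option autoImplicit false

namespace Cfsg.Agent.Lib.Helper24

open Cfsg.Agent.Lib.helper7 Cfsg.Agent.Lib.Helper25 Cfsg.Agent.Lib.helper2

variable {G : Type*} [Group G]

theorem pd_main [Finite G] (p : ℕ) [hp : Fact p.Prime] (M : Ideal Cfsg.AlgInt) (hM : Cfsg.IsPModular p M)
    (hZ : Subgroup.center G = ⊥) (P : Sylow p G) (a b : ℕ) (ha : Nat.card P = p ^ a)
    (hb : Nat.card (Subgroup.center ↥(P : Subgroup G)) = p ^ b) (χ : Cfsg.IrrCharacter G)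
    (hfaith : ∀ g : G, (χ : G → ℂ) g = (χ : G → ℂ) 1 → g = 1) (n : ℕ)
    (hdeg : Cfsg.charDegree (χ : G → ℂ) = p ^ n) :
    Cfsg.blockDefect p (Cfsg.blockOf M (χ : G → ℂ)) ≤ a - b ∧
      (IsMulCommutative ↥(P : Subgroup G) → Cfsg.blockDefect p (Cfsg.blockOf M (χ : G → ℂ)) = 0) := by
  classical
  haveI : Fintype G := Fintype.ofFinite _
  haveI : Fintype (Cfsg.IrrCharacter G) := Fintype.ofFinite _
  have hPr := hM.2.1.isPrime
  set A : Subgroup G := (Subgroup.center ↥(P : Subgroup G)).map (P : Subgroup G).subtype with hA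
  have hAcard : Nat.card A = p ^ b := by
    rw [hA, Subgroup.card_map_of_injective (Subgroup.subtype_injective _), hb]
  have hAP : ∀ z ∈ A, z ∈ (P : Subgroup G) ∧ ∀ y ∈ (P : Subgroup G), y * z = z * y := by
    intro z hz
    rw [hA, Subgroup.mem_map] at hz
    obtain ⟨w, hw, rfl⟩ := hz
    refine ⟨w.2, fun y hy => ?_⟩
    have := Subgroup.mem_center_iff.mp hw ⟨y, hy⟩
    exact congrArg Subtype.val this
  have hidx : ∀ z ∈ A, ¬ p ∣ (Subgroup.centralizer ({z} : Set G)).index := by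
    intro z hz hdvd
    have hPC : (P : Subgroup G) ≤ Subgroup.centralizer ({z} : Set G) := by
      intro y hy
      rw [Subgroup.mem_centralizer_iff]
      intro w hw
      rw [Set.mem_singleton_iff] at hw
      rw [hw]
      exact ((hAP z hz).2 y hy).symm
    exact P.not_dvd_index (hdvd.trans (Subgroup.index_dvd_of_le hPC))
  have hall : ∀ ψ ∈ Cfsg.blockOf M (χ : G → ℂ), p ^ b ∣ Cfsg.charDegree (ψ : G → ℂ) := by
    intro ψ hψ
    apply pd_dvd hM A b hAcard ψ
    intro z hz hz1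
    have hχz := pd_vanish p hZ P χ hfaith n hdeg z (hAP z hz).2 hz1
    exact pd_ratio hM χ ψ hψ z hχz (hidx z hz)
  have hGa : (Nat.card G).factorization p = a := by
    have h1 := Sylow.card_eq_multiplicity P
    rw [ha] at h1
    exact (Nat.pow_right_injective hp.out.two_le h1).symm
  have hχmem : χ ∈ Cfsg.blockOf M (χ : G → ℂ) := h7_sameBlock_refl hPr _
  have hle : b ≤ sInf ((fun ψ : Cfsg.IrrCharacter G =>
      (Cfsg.charDegree (ψ : G → ℂ)).factorization p) '' Cfsg.blockOf M (χ : G → ℂ)) := by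
    apply le_csInf
    · exact ⟨_, χ, hχmem, rfl⟩
    · rintro _ ⟨ψ, hψ, rfl⟩
      have hpos := (charDegree_irr ψ).2
      exact (hp.out.pow_dvd_iff_le_factorization hpos.ne').mp (hall ψ hψ)
  have hmain : Cfsg.blockDefect p (Cfsg.blockOf M (χ : G → ℂ)) ≤ a - b := by
    unfold Cfsg.blockDefect
    rw [hGa]
    exact Nat.sub_le_sub_left hle a
  refine ⟨hmain, fun hcomm => ?_⟩
  have hcen : Subgroup.center ↥(P : Subgroup G) = ⊤ := by
    rw [eq_top_iff]
    intro x _
    rw [Subgroup.mem_center_iff]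
    intro y
    exact hcomm.is_comm.comm y x
  have hab : a = b := by
    have h1 : Nat.card (Subgroup.center ↥(P : Subgroup G)) = Nat.card (P : Subgroup G) := by
      rw [hcen, Subgroup.card_top]
    rw [hb] at h1
    have h2 : Nat.card (P : Subgroup G) = p ^ a := ha
    rw [h2] at h1
    exact (Nat.pow_right_injective hp.out.two_le h1).symm
  rw [hab, Nat.sub_self] at hmain
  exact Nat.le_zero.mp hmain

end Cfsg.Agent.Lib.Helper24
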