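import Mathlib
import Cfsg.Prelude.Def_Characters
import Cfsg.Agent.Lib.helper2.DefectZero
import Cfsg.Agent.S0164

set_option autoImplicit false
open scoped ComplexConjugate

namespace Cfsg.Agent.Lib.Helper24

open Cfsg.Agent.Lib.helper2 Cfsg.Agent.Lib.helper7 Cfsg.Agent.Lib.Helper11 Cfsg.Agent.Lib.Helper25

theorem prg_div {G : Type*} [Group G] [Finite G] {V : Type*} [AddCommGroup V] [Module ℂ V]
    [FiniteDimensional ℂ V] (ρ : Representation ℂ G V) [ρ.IsIrreducible] (p : ℕ) (hp : p.Prime)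
    (e k : ℕ) (hk : Nat.card G = Module.finrank ℂ V * (p ^ e * k)) (hpk : ¬ p ∣ k)
    (y : G) (b : ℕ)
    (hb : p ^ b ∣ Nat.card (Subgroup.centralizer ({y} : Set G))) :
    IsIntegral ℤ ((p : ℂ) ^ e * ρ.character y / ((p : ℂ) ^ b)) := by
  obtain ⟨c, hc⟩ := hb
  have hcop : Nat.Coprime k (p ^ b) :=
    Nat.Coprime.pow_right _ ((Nat.Prime.coprime_iff_not_dvd hp).mpr hpk).symm
  have hω := central_char_integral ρ y
  have hidx : (Subgroup.centralizer ({y} : Set G)).index *
      Nat.card (Subgroup.centralizer ({y} : Set G)) = Nat.card G := Subgroup.index_mul_card _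
  have hfr : (Module.finrank ℂ V : ℂ) ≠ 0 := by
    exact_mod_cast finrank_ne_zero_of_irr ρ
  have hpb : ((p : ℂ) ^ b) ≠ 0 := by
    apply pow_ne_zero
    exact_mod_cast hp.ne_zero
  have hrel : ((Subgroup.centralizer ({y} : Set G)).index : ℂ) * ((p : ℂ) ^ b * (c : ℂ)) =
      (Module.finrank ℂ V : ℂ) * ((p : ℂ) ^ e * (k : ℂ)) := by
    rw [hc, hk] at hidx
    exact_mod_cast hidx
  have h1 : (k : ℂ) * ((p : ℂ) ^ e * ρ.character y) / (p : ℂ) ^ b =
      (((Subgroup.centralizer ({y} : Set G)).index : ℂ) * ρ.character y /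
        (Module.finrank ℂ V : ℂ)) * (c : ℂ) := by
    rw [div_eq_iff hpb]
    have : ((Subgroup.centralizer ({y} : Set G)).index : ℂ) * ρ.character y /
        (Module.finrank ℂ V : ℂ) * (c : ℂ) * (p : ℂ) ^ b =
        (((Subgroup.centralizer ({y} : Set G)).index : ℂ) * ((p : ℂ) ^ b * (c : ℂ))) *
          ρ.character y / (Module.finrank ℂ V : ℂ) := by ring
    rw [this, hrel]
    field_simp
  have h2 : IsIntegral ℤ ((k : ℂ) * ((p : ℂ) ^ e * ρ.character y) / (p : ℂ) ^ b) := by
    rw [h1]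
    exact hω.mul (isIntegral_natCast c)
  have hco : IsCoprime (k : ℤ) ((p ^ b : ℕ) : ℤ) := Nat.isCoprime_iff_coprime.mpr hcop
  obtain ⟨a, a', haa⟩ := hco
  have haa' : (a : ℂ) * (k : ℂ) + (a' : ℂ) * (p : ℂ) ^ b = 1 := by
    have := congrArg (fun z : ℤ => (z : ℂ)) haa
    simpa using this
  have h3 : (p : ℂ) ^ e * ρ.character y / (p : ℂ) ^ b =
      (a : ℂ) * ((k : ℂ) * ((p : ℂ) ^ e * ρ.character y) / (p : ℂ) ^ b) +
        (a' : ℂ) * ((p : ℂ) ^ e * ρ.character y) := by
    rw [div_eq_iff hpb]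
    have : ((a : ℂ) * ((k : ℂ) * ((p : ℂ) ^ e * ρ.character y) / (p : ℂ) ^ b) +
        (a' : ℂ) * ((p : ℂ) ^ e * ρ.character y)) *
        (p : ℂ) ^ b = ((a : ℂ) * (k : ℂ) + (a' : ℂ) * (p : ℂ) ^ b) *
          ((p : ℂ) ^ e * ρ.character y) := by
      field_simp
    rw [this, haa', one_mul]
  rw [h3]
  have hpe : IsIntegral ℤ ((p : ℂ) ^ e * ρ.character y) :=
    ((isIntegral_natCast p).pow e).mul (char_integral ρ y)
  exact ((isIntegral_intCast a).mul h2).add ((isIntegral_intCast a').mul hpe)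

theorem prg_restrict {G : Type*} [Group G] [Finite G] {V : Type*} [AddCommGroup V]
    [Module ℂ V] [FiniteDimensional ℂ V] (ρ : Representation ℂ G V) [ρ.IsIrreducible] (p : ℕ)
    (hp : p.Prime) (e k : ℕ) (hk : Nat.card G = Module.finrank ℂ V * (p ^ e * k)) (hpk : ¬ p ∣ k)
    (E : Subgroup G) [Group.IsNilpotent E] :
    Cfsg.IsCharacter E
      (fun x : E => if p ∣ orderOf (x : G) then 0 else (p : ℂ) ^ e * ρ.character (x : G)) := by
  classical
  haveI : Fact p.Prime := ⟨hp⟩
  haveI : Fintype E := Fintype.ofFinite E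
  obtain ⟨P, Q, hP, hQ, hcard, hcop, hcomm⟩ := exists_p_complement (E := E) p
  obtain ⟨b, hb⟩ := hP.exists_card_eq
  have hχ : Cfsg.IsCharacter G ρ.character := isCharacter_of_rep ρ
  have hχcl := isCharacter_isClassFunction hχ
  apply isCharacter_of_classInner_nat
  · intro x h
    have h1 : ((h * x * h⁻¹ : E) : G) = (h : G) * (x : G) * (h : G)⁻¹ := by simp
    have h2 : orderOf ((h : G) * (x : G) * (h : G)⁻¹) = orderOf (x : G) := by
      have := orderOf_injective (MulAut.conj (h : G)).toMonoidHom (MulAut.conj (h : G)).injective (x : G)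
      simpa using this
    simp only [h1, h2, hχcl (x : G) (h : G)]
  · intro ψ
    haveI : Fintype Q := Fintype.ofFinite Q
    have hsum : ∑ x : E, (if p ∣ orderOf (x : G) then 0 else (p : ℂ) ^ e * ρ.character (x : G)) *
          conj ((ψ : E → ℂ) x) =
        ∑ y : Q, (p : ℂ) ^ e * ρ.character ((y : E) : G) * conj ((ψ : E → ℂ) (y : E)) := by
      rw [← Finset.sum_subtype (Finset.univ.filter (fun x : E => x ∈ Q)) (by simp)
        (fun x : E => (p : ℂ) ^ e * ρ.character (x : G) * conj ((ψ : E → ℂ) x))]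
      rw [Finset.sum_filter]
      refine Finset.sum_congr rfl fun x _ => ?_
      rw [hQ x, Subgroup.orderOf_coe]
      by_cases h : p ∣ orderOf x
      · simp [h]
      · simp [h]
    have hχQ : Cfsg.IsCharacter Q (fun y : Q => ρ.character ((y : E) : G)) :=
      isCharacter_comp_hom hχ (E.subtype.comp Q.subtype)
    have hψQ : Cfsg.IsCharacter Q (fun y : Q => (ψ : E → ℂ) (y : E)) :=
      isCharacter_restrict (isCharacter_of_irr ψ) Q
    obtain ⟨m, hm⟩ := classInner_character_nat hχQ hψQ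
    unfold Cfsg.classInner at hm
    have hQne : (Nat.card Q : ℂ) ≠ 0 := by exact_mod_cast Nat.card_pos.ne'
    have hS : ∑ y : Q, ρ.character ((y : E) : G) * conj ((ψ : E → ℂ) (y : E)) =
        (Nat.card Q : ℂ) * (m : ℂ) := by
      rw [← hm, ← mul_assoc, mul_inv_cancel₀ hQne, one_mul]
    have hS' : ∑ y : Q, (p : ℂ) ^ e * ρ.character ((y : E) : G) * conj ((ψ : E → ℂ) (y : E)) =
        (p : ℂ) ^ e * ((Nat.card Q : ℂ) * (m : ℂ)) := by
      rw [← hS, Finset.mul_sum]
      refine Finset.sum_congr rfl fun y _ => ?_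
      ring
    have hpb : ((p : ℂ) ^ b) ≠ 0 := by
      apply pow_ne_zero
      exact_mod_cast hp.ne_zero
    have hint : IsIntegral ℤ ((∑ y : Q, (p : ℂ) ^ e * ρ.character ((y : E) : G) *
        conj ((ψ : E → ℂ) (y : E))) / (p : ℂ) ^ b) := by
      rw [Finset.sum_div]
      apply IsIntegral.sum
      intro y _
      have hdvd : p ^ b ∣ Nat.card (Subgroup.centralizer ({((y : E) : G)} : Set G)) := by
        have hle : P.map E.subtype ≤ Subgroup.centralizer ({((y : E) : G)} : Set G) := by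
          rintro _ ⟨z, hz, rfl⟩
          rw [Subgroup.mem_centralizer_singleton_iff]
          have := (hcomm z hz (y : E) y.2).eq
          have h2 := congrArg (fun x : E => (x : G)) this
          simp only [Subgroup.coe_mul] at h2
          exact h2
        have h1 := Subgroup.card_dvd_of_le hle
        rwa [Subgroup.card_map_of_injective E.subtype_injective, hb] at h1
      have h1 := prg_div ρ p hp e k hk hpk ((y : E) : G) b hdvd
      have h2 : IsIntegral ℤ (conj ((ψ : E → ℂ) (y : E))) :=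
        map_isIntegral_int (starRingEnd ℂ) (irr_integral ψ (y : E))
      have : (p : ℂ) ^ e * ρ.character ((y : E) : G) * conj ((ψ : E → ℂ) (y : E)) / (p : ℂ) ^ b =
          ((p : ℂ) ^ e * ρ.character ((y : E) : G) / (p : ℂ) ^ b) * conj ((ψ : E → ℂ) (y : E)) := by
        ring
      rw [this]
      exact h1.mul h2
    rw [hS'] at hint
    have hdvd : p ^ b ∣ p ^ e * (Nat.card Q * m) := by
      apply nat_dvd_of_isIntegral_div _ _ (pow_ne_zero _ hp.ne_zero)
      push_cast
      exact hint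
    have hdvd' : p ^ b ∣ p ^ e * m := by
      have h1 : p ^ b ∣ Nat.card Q * (p ^ e * m) := by
        have : Nat.card Q * (p ^ e * m) = p ^ e * (Nat.card Q * m) := by ring
        rw [this]
        exact hdvd
      exact (Nat.Coprime.pow_left b hcop.symm).dvd_of_dvd_mul_left h1
    obtain ⟨m', hm'⟩ := hdvd'
    refine ⟨m', ?_⟩
    unfold Cfsg.classInner
    rw [hsum, hS', ← hcard, hb]
    have hm'' : (p : ℂ) ^ e * (m : ℂ) = (p : ℂ) ^ b * (m' : ℂ) := by exact_mod_cast hm'
    have : (p : ℂ) ^ e * ((Nat.card Q : ℂ) * (m : ℂ)) = (Nat.card Q : ℂ) * ((p : ℂ) ^ b * (m' : ℂ)) := by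
      rw [← hm'']
      ring
    rw [this]
    push_cast
    field_simp

theorem prg_genChar {G : Type*} [Group G] [Finite G] {V : Type*} [AddCommGroup V]
    [Module ℂ V] [FiniteDimensional ℂ V] (ρ : Representation ℂ G V) [ρ.IsIrreducible] (p : ℕ)
    (hp : p.Prime) (e k : ℕ) (hk : Nat.card G = Module.finrank ℂ V * (p ^ e * k)) (hpk : ¬ p ∣ k) :
    Cfsg.IsGeneralizedCharacter G
      (fun x : G => if p ∣ orderOf x then 0 else (p : ℂ) ^ e * ρ.character x) := by
  classical
  have hχ : Cfsg.IsCharacter G ρ.character := isCharacter_of_rep ρ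
  have hχcl := isCharacter_isClassFunction hχ
  apply Cfsg.Agent.S0164.result
  · intro g h
    have h2 : orderOf (h * g * h⁻¹) = orderOf g := by
      have := orderOf_injective (MulAut.conj h).toMonoidHom (MulAut.conj h).injective g
      simpa using this
    simp only [h2, hχcl g h]
  · intro E q hq hEl
    haveI : Group.IsNilpotent E := isNilpotent_of_isElementary q hq hEl
    exact ⟨_, 0, prg_restrict ρ p hp e k hk hpk E, isCharacter_zero _, (sub_zero _).symm⟩

end Cfsg.Agent.Lib.Helper24
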