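import Mathlib
import Cfsg.Agent.Lib.Helper16.PS4.Hyps

set_option autoImplicit false

namespace Cfsg.Agent.Lib.Helper24.PS4

open Matrix Cfsg.Agent.Lib.Helper16.PS4

variable {F : Type*} [Field F]

theorem blk_mk_mul (a b c d : SL2 F) : (blk (a, b) : Sp4 F) * blk (c, d) = blk (a * c, b * d) :=
  (map_mul blk (a, b) (c, d)).symm

theorem blk_mk_inv (a b : SL2 F) : (blk (a, b) : Sp4 F)⁻¹ = blk (a⁻¹, b⁻¹) :=
  (map_inv blk (a, b)).symm

theorem blk_one_one : (blk ((1 : SL2 F), (1 : SL2 F)) : Sp4 F) = 1 := map_one blk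

theorem neg_one_mul_self : (-1 : SL2 F) * (-1) = 1 := by
  rw [neg_mul_neg, one_mul]

theorem zt_mul_self : (zt : Sp4 F) * zt = 1 := by
  unfold zt
  rw [blk_mk_mul, neg_one_mul_self, one_mul, blk_one_one]

variable [Fintype F]

theorem sw_inv (L : Leaf F) : (sw : Sp4 F)⁻¹ = sw :=
  inv_eq_of_mul_eq_one_right L.sw_mul_self

theorem sw_blk (L : Leaf F) (a b : SL2 F) : (sw : Sp4 F) * blk (a, b) = blk (b, a) * sw := by
  have h := L.sw_conj_blk a b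
  rw [mul_inv_eq_iff_eq_mul] at h
  exact h

theorem blk_sw_sq (L : Leaf F) (c d : SL2 F) :
    (blk (c, d) * sw : Sp4 F) * (blk (c, d) * sw) = blk (c * d, d * c) := by
  calc (blk (c, d) * sw : Sp4 F) * (blk (c, d) * sw)
      = blk (c, d) * (sw * blk (c, d)) * sw := by simp only [mul_assoc]
    _ = blk (c, d) * (blk (d, c) * sw) * sw := by rw [sw_blk L]
    _ = (blk (c, d) * blk (d, c)) * (sw * sw) := by simp only [mul_assoc]
    _ = blk (c * d, d * c) := by rw [L.sw_mul_self, mul_one, blk_mk_mul]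

theorem zt_ne_one (L : Leaf F) : (zt : Sp4 F) ≠ 1 := by
  intro h
  unfold zt at h
  rw [← blk_one_one] at h
  have := L.blk_injective h
  exact L.neg_one_ne_one (Prod.ext_iff.mp this).1

theorem zt_ne_negOne (L : Leaf F) : (zt : Sp4 F) ≠ Cfsg.Agent.S0246.negOne F 2 := by
  intro h
  unfold zt at h
  rw [← L.blk_neg_one] at h
  have := L.blk_injective h
  exact L.neg_one_ne_one (Prod.ext_iff.mp this).2.symm

theorem blk_mem_S4 (L : Leaf F) (Q : Subgroup (SL2 F)) {a b : SL2 F} (ha : a ∈ Q) (hb : b ∈ Q) :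
    (blk (a, b) : Sp4 F) ∈ S4 Q :=
  (L.mem_S4_iff Q _).mpr ⟨a, ha, b, hb, Or.inl rfl⟩

theorem blk_sw_mem_S4 (L : Leaf F) (Q : Subgroup (SL2 F)) {a b : SL2 F} (ha : a ∈ Q)
    (hb : b ∈ Q) : (blk (a, b) * sw : Sp4 F) ∈ S4 Q :=
  (L.mem_S4_iff Q _).mpr ⟨a, ha, b, hb, Or.inr rfl⟩

theorem sw_mem_S4 (L : Leaf F) (Q : Subgroup (SL2 F)) : (sw : Sp4 F) ∈ S4 Q := by
  have := blk_sw_mem_S4 L Q Q.one_mem Q.one_mem
  rwa [blk_one_one, one_mul] at this

theorem zt_mem_S4 (L : Leaf F) (Q : Sylow 2 (SL2 F)) :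
    (zt : Sp4 F) ∈ S4 (Q : Subgroup (SL2 F)) :=
  blk_mem_S4 L _ (L.neg_one_mem Q) (Q : Subgroup (SL2 F)).one_mem

omit [Fintype F] in
theorem negOne_conj (g : Sp4 F) :
    g * Cfsg.Agent.S0246.negOne F 2 * g⁻¹ = Cfsg.Agent.S0246.negOne F 2 := by
  have h := Subgroup.mem_center_iff.mp (Cfsg.Agent.S0246.negOne_mem_center (F := F) (m := 2)) g
  rw [h, mul_inv_cancel_right]

theorem blk_eq_cases (L : Leaf F) {c d : SL2 F}
    (h : (blk (c, d) : Sp4 F) * blk (c, d) = 1) :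
    (c = 1 ∨ c = -1) ∧ (d = 1 ∨ d = -1) := by
  rw [blk_mk_mul, ← blk_one_one] at h
  have h2 := Prod.ext_iff.mp (L.blk_injective h)
  exact ⟨L.sl2_sq_eq_one c h2.1, L.sl2_sq_eq_one d h2.2⟩

end Cfsg.Agent.Lib.Helper24.PS4
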