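import Mathlib
import Cfsg.Agent.Lib.Helper16.PS4.Hyps
import Cfsg.Agent.Lib.Helper24.PS4Aux

set_option autoImplicit false

namespace Cfsg.Agent.Lib.Helper24.PS4

open Matrix Cfsg.Agent.Lib.Helper16.PS4

variable {F : Type*} [Field F] [Fintype F]

theorem exists_sq_central {G : Type*} [Group G] (Z T : Subgroup G) (y0 : G) (hy0 : y0 ∈ T)
    (hy0Z : y0 ∉ Z) (k : ℕ) (hk : y0 ^ (2 ^ k) = 1) :
    ∃ y ∈ T, y ∉ Z ∧ y * y ∈ Z := by
  induction k generalizing y0 with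
  | zero =>
    exfalso
    rw [pow_zero, pow_one] at hk
    rw [hk] at hy0Z
    exact hy0Z Z.one_mem
  | succ k ih =>
    by_cases h : y0 * y0 ∈ Z
    · exact ⟨y0, hy0, hy0Z, h⟩
    · apply ih (y0 * y0) (T.mul_mem hy0 hy0) h
      rw [← pow_two, ← pow_mul, ← pow_succ']
      exact hk

omit [Fintype F] in
theorem neg_one_inv_sl2 : ((-1 : SL2 F))⁻¹ = -1 :=
  inv_eq_of_mul_eq_one_right neg_one_mul_self

omit [Fintype F] in
theorem inv_sq_neg_one {a : SL2 F} (ha : a * a = -1) : a⁻¹ * a⁻¹ = -1 := by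
  rw [← _root_.mul_inv_rev, ha, neg_one_inv_sl2]

theorem zt_mem_of_hsc (L : Leaf F) (Q : Sylow 2 (SL2 F)) (T : Subgroup (Sp4 F))
    (hTS : T ≤ S4 (Q : Subgroup (SL2 F)))
    (hT : ∃ x ∈ T, x ∉ Subgroup.center (Sp4 F))
    (hcl : ∀ x ∈ T, ∀ g : Sp4 F, g * x * g⁻¹ ∈ S4 (Q : Subgroup (SL2 F)) → g * x * g⁻¹ ∈ T) :
    (zt : Sp4 F) ∈ T := by
  obtain ⟨y0, hy0, hy0Z⟩ := hT
  have hp : IsPGroup 2 (S4 (Q : Subgroup (SL2 F))) := IsPGroup.of_card (L.card_S4 Q)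
  obtain ⟨k, hk⟩ := hp ⟨y0, hTS hy0⟩
  have hk' : y0 ^ (2 ^ k) = 1 := by
    have := congrArg Subtype.val hk
    simpa using this
  obtain ⟨y, hy, hyZ, hyy⟩ := exists_sq_central (Subgroup.center (Sp4 F)) T y0 hy0 hy0Z k hk'
  rcases Cfsg.Agent.S0246.center_cases (by norm_num) _ hyy with h1 | h1
  · have hy1 : y ≠ 1 := fun h => hyZ (by rw [h]; exact Subgroup.one_mem _)
    have hyn : y ≠ Cfsg.Agent.S0246.negOne F 2 :=
      fun h => hyZ (by rw [h]; exact Cfsg.Agent.S0246.negOne_mem_center)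
    obtain ⟨g, hg⟩ := L.conj_zt y h1 hy1 hyn
    have := hcl y hy g (by rw [hg]; exact zt_mem_S4 L Q)
    rwa [hg] at this
  · obtain ⟨g, a, b, ha, hb, hg⟩ := L.conj_blk_of_sq y h1
    obtain ⟨a0, ha0, ha0sq⟩ := L.Q_exists_sq Q
    have ha0inv : a0⁻¹ ∈ Q := (Q : Subgroup (SL2 F)).inv_mem ha0
    obtain ⟨g1, hg1⟩ := L.conj_sl2_of_sq a a0 ha ha0sq
    obtain ⟨g2, hg2⟩ := L.conj_sl2_of_sq b a0 hb ha0sq
    obtain ⟨g3, hg3⟩ := L.conj_sl2_of_sq b a0⁻¹ hb (inv_sq_neg_one ha0sq)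
    have e1 : (blk (g1, g2) * g) * y * (blk (g1, g2) * g)⁻¹ = blk (a0, a0) := by
      calc (blk (g1, g2) * g) * y * (blk (g1, g2) * g)⁻¹
          = blk (g1, g2) * (g * y * g⁻¹) * (blk (g1, g2))⁻¹ := by group
        _ = blk (a0, a0) := by
          rw [hg, blk_mk_inv, blk_mk_mul, blk_mk_mul, hg1, hg2]
    have e2 : (blk (g1, g3) * g) * y * (blk (g1, g3) * g)⁻¹ = blk (a0, a0⁻¹) := by
      calc (blk (g1, g3) * g) * y * (blk (g1, g3) * g)⁻¹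
          = blk (g1, g3) * (g * y * g⁻¹) * (blk (g1, g3))⁻¹ := by group
        _ = blk (a0, a0⁻¹) := by
          rw [hg, blk_mk_inv, blk_mk_mul, blk_mk_mul, hg1, hg3]
    have m1 := hcl y hy _ (by rw [e1]; exact blk_mem_S4 L _ ha0 ha0)
    have m2 := hcl y hy _ (by rw [e2]; exact blk_mem_S4 L _ ha0 ha0inv)
    rw [e1] at m1
    rw [e2] at m2
    have m3 := T.mul_mem m1 m2
    rw [blk_mk_mul, ha0sq, mul_inv_cancel] at m3
    exact m3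

theorem S4_hsc (L : Leaf F) (Q : Sylow 2 (SL2 F)) (T : Subgroup (Sp4 F))
    (hTS : T ≤ S4 (Q : Subgroup (SL2 F))) (_hZT : Subgroup.center (Sp4 F) ≤ T)
    (hT : ∃ x ∈ T, x ∉ Subgroup.center (Sp4 F))
    (hcl : ∀ x ∈ T, ∀ g : Sp4 F, g * x * g⁻¹ ∈ S4 (Q : Subgroup (SL2 F)) → g * x * g⁻¹ ∈ T) :
    S4 (Q : Subgroup (SL2 F)) ≤ T := by
  have hzt : (zt : Sp4 F) ∈ T := zt_mem_of_hsc L Q T hTS hT hcl
  have hw : ∀ c ∈ Q, (blk (c, c⁻¹) * sw : Sp4 F) ∈ T := by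
    intro c hc
    have hcinv : c⁻¹ ∈ Q := (Q : Subgroup (SL2 F)).inv_mem hc
    have hsq : (blk (c, c⁻¹) * sw : Sp4 F) * (blk (c, c⁻¹) * sw) = 1 := by
      rw [blk_sw_sq L, mul_inv_cancel, inv_mul_cancel, blk_one_one]
    have hne1 : (blk (c, c⁻¹) * sw : Sp4 F) ≠ 1 := by
      rw [← blk_one_one]
      exact L.blk_mul_sw_ne_blk _ _
    have hnen : (blk (c, c⁻¹) * sw : Sp4 F) ≠ Cfsg.Agent.S0246.negOne F 2 := by
      rw [← L.blk_neg_one]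
      exact L.blk_mul_sw_ne_blk _ _
    obtain ⟨g, hg⟩ := L.conj_zt _ hsq hne1 hnen
    have e : g⁻¹ * zt * g⁻¹⁻¹ = blk (c, c⁻¹) * sw := by
      rw [← hg]
      group
    have := hcl zt hzt g⁻¹ (by rw [e]; exact blk_sw_mem_S4 L _ hc hcinv)
    rwa [e] at this
  have hsw : (sw : Sp4 F) ∈ T := by
    have := hw 1 (Q : Subgroup (SL2 F)).one_mem
    rwa [inv_one, blk_one_one, one_mul] at this
  have hcc : ∀ c ∈ Q, (blk (c, c⁻¹) : Sp4 F) ∈ T := by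
    intro c hc
    have := T.mul_mem (hw c hc) (T.inv_mem hsw)
    rwa [mul_inv_cancel_right] at this
  obtain ⟨a0, ha0, ha0sq⟩ := L.Q_exists_sq Q
  have hab : ∀ a ∈ Q, ∀ b ∈ Q, a * a = -1 → b * b = -1 → (blk (a, b) : Sp4 F) ∈ T := by
    intro a ha b hb hasq hbsq
    obtain ⟨g1, hg1⟩ := L.conj_sl2_of_sq a0 a ha0sq hasq
    obtain ⟨g2, hg2⟩ := L.conj_sl2_of_sq a0⁻¹ b (inv_sq_neg_one ha0sq) hbsq
    have e : blk (g1, g2) * blk (a0, a0⁻¹) * (blk (g1, g2))⁻¹ = (blk (a, b) : Sp4 F) := by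
      rw [blk_mk_inv, blk_mk_mul, blk_mk_mul, hg1, hg2]
    have := hcl _ (hcc a0 ha0) (blk (g1, g2)) (by rw [e]; exact blk_mem_S4 L _ ha hb)
    rwa [e] at this
  have hprod : ∀ a ∈ Q, ∀ b ∈ Q, a * a = -1 → b * b = -1 → (blk (a * b, 1) : Sp4 F) ∈ T := by
    intro a ha b hb hasq hbsq
    have := T.mul_mem (hab a ha b hb hasq hbsq) (hcc b hb)
    rwa [blk_mk_mul, mul_inv_cancel] at this
  have hc1 : ∀ c ∈ Q, (blk (c, 1) : Sp4 F) ∈ T := by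
    have hle : (Q : Subgroup (SL2 F)) ≤
        T.comap ((blk : SL2 F × SL2 F →* Sp4 F).comp (MonoidHom.inl (SL2 F) (SL2 F))) := by
      refine le_trans (L.Q_closure_prod Q) ?_
      rw [Subgroup.closure_le]
      rintro z ⟨a, ha, b, hb, hasq, hbsq, rfl⟩
      exact hprod a ha b hb hasq hbsq
    intro c hc
    exact hle hc
  have h1c : ∀ c ∈ Q, (blk (1, c) : Sp4 F) ∈ T := by
    intro c hc
    have hcinv : c⁻¹ ∈ Q := (Q : Subgroup (SL2 F)).inv_mem hc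
    have := T.mul_mem (T.inv_mem (hc1 c⁻¹ hcinv)) (hcc c⁻¹ hcinv)
    rwa [blk_mk_inv, blk_mk_mul, inv_inv, mul_inv_cancel, inv_one, one_mul] at this
  intro x hx
  obtain ⟨a, ha, b, hb, h | h⟩ := (L.mem_S4_iff _ _).mp hx
  · rw [h]
    have := T.mul_mem (hc1 a ha) (h1c b hb)
    rwa [blk_mk_mul, mul_one, one_mul] at this
  · rw [h]
    apply T.mul_mem _ hsw
    have := T.mul_mem (hc1 a ha) (h1c b hb)
    rwa [blk_mk_mul, mul_one, one_mul] at this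

end Cfsg.Agent.Lib.Helper24.PS4
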