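import Mathlib
import Cfsg.Agent.Lib.Helper16.PS4.Hyps
import Cfsg.Agent.Lib.Helper24.PS4Aux

set_option autoImplicit false

namespace Cfsg.Agent.Lib.Helper24.PS4

open Matrix Cfsg.Agent.Lib.Helper16.PS4

variable {F : Type*} [Field F] [Fintype F]

theorem blk_norm_mem (L : Leaf F) (hq : Fintype.card F % 8 = 1 ∨ Fintype.card F % 8 = 7)
    (Q : Sylow 2 (SL2 F)) (p : SL2 F × SL2 F)
    (hg : ∀ x ∈ S4 (Q : Subgroup (SL2 F)), blk p * x * (blk p)⁻¹ ∈ S4 (Q : Subgroup (SL2 F))) :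
    (blk p : Sp4 F) ∈ S4 (Q : Subgroup (SL2 F)) := by
  obtain ⟨A, B⟩ := p
  have hA : A ∈ Q := by
    apply L.Q_norm hq Q A
    intro c hc
    have h1 := hg (blk (c, 1)) (blk_mem_S4 L _ hc (Q : Subgroup (SL2 F)).one_mem)
    rw [blk_mk_inv, blk_mk_mul, blk_mk_mul, mul_one, mul_inv_cancel] at h1
    obtain ⟨a, ha, b, _, h2 | h2⟩ := (L.mem_S4_iff _ _).mp h1
    · have h3 := (Prod.ext_iff.mp (L.blk_injective h2)).1
      change A * c * A⁻¹ = a at h3
      rw [h3]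
      exact ha
    · exact absurd h2.symm (L.blk_mul_sw_ne_blk _ _)
  have hB : B ∈ Q := by
    apply L.Q_norm hq Q B
    intro c hc
    have h1 := hg (blk (1, c)) (blk_mem_S4 L _ (Q : Subgroup (SL2 F)).one_mem hc)
    rw [blk_mk_inv, blk_mk_mul, blk_mk_mul, mul_one, mul_inv_cancel] at h1
    obtain ⟨a, _, b, hb, h2 | h2⟩ := (L.mem_S4_iff _ _).mp h1
    · have h3 := (Prod.ext_iff.mp (L.blk_injective h2)).2
      change B * c * B⁻¹ = b at h3
      rw [h3]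
      exact hb
    · exact absurd h2.symm (L.blk_mul_sw_ne_blk _ _)
  exact blk_mem_S4 L _ hA hB

theorem S4_norm (L : Leaf F) (hq : Fintype.card F % 8 = 1 ∨ Fintype.card F % 8 = 7)
    (Q : Sylow 2 (SL2 F)) (g : Sp4 F)
    (hg : ∀ x ∈ S4 (Q : Subgroup (SL2 F)), g * x * g⁻¹ ∈ S4 (Q : Subgroup (SL2 F))) :
    g ∈ S4 (Q : Subgroup (SL2 F)) := by
  obtain ⟨a0, ha0, ha0sq⟩ := L.Q_exists_sq Q
  have hx0 : (blk (a0, 1) : Sp4 F) ∈ S4 (Q : Subgroup (SL2 F)) :=
    blk_mem_S4 L _ ha0 (Q : Subgroup (SL2 F)).one_mem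
  have hx0sq : (blk (a0, 1) : Sp4 F) * blk (a0, 1) = zt := by
    rw [blk_mk_mul, ha0sq, mul_one]
    rfl
  have hy := hg _ hx0
  have hysq : (g * blk (a0, 1) * g⁻¹) * (g * blk (a0, 1) * g⁻¹) = g * zt * g⁻¹ := by
    rw [← hx0sq]
    group
  have hex : ∃ c d : SL2 F, g * zt * g⁻¹ = blk (c, d) := by
    obtain ⟨c, _, d, _, h | h⟩ := (L.mem_S4_iff _ _).mp hy
    · refine ⟨c * c, d * d, ?_⟩
      rw [← hysq, h, blk_mk_mul]
    · refine ⟨c * d, d * c, ?_⟩
      rw [← hysq, h, blk_sw_sq L]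
  obtain ⟨c, d, hcd⟩ := hex
  have hsq1 : (blk (c, d) : Sp4 F) * blk (c, d) = 1 := by
    rw [← hcd]
    calc g * zt * g⁻¹ * (g * zt * g⁻¹) = g * (zt * zt) * g⁻¹ := by group
      _ = 1 := by rw [zt_mul_self, mul_one, mul_inv_cancel]
  obtain ⟨hc, hd⟩ := blk_eq_cases L hsq1
  have hzt_of_conj : ∀ z : Sp4 F, g * zt * g⁻¹ = z → zt = g⁻¹ * z * g := by
    intro z hz
    rw [← hz]
    group
  rcases hc with rfl | rfl <;> rcases hd with rfl | rfl
  · exfalso
    rw [blk_one_one] at hcd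
    have := hzt_of_conj _ hcd
    rw [mul_one, inv_mul_cancel] at this
    exact zt_ne_one L this
  · have hsw : (sw : Sp4 F) ∈ S4 (Q : Subgroup (SL2 F)) := sw_mem_S4 L _
    have hconj : (sw * g) * zt = zt * (sw * g) := by
      have h1 : (sw * g) * zt * (sw * g)⁻¹ = zt := by
        calc (sw * g) * zt * (sw * g)⁻¹ = sw * (g * zt * g⁻¹) * sw⁻¹ := by group
          _ = zt := by
            rw [hcd, L.sw_conj_blk]
            rfl
      rw [mul_inv_eq_iff_eq_mul] at h1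
      exact h1
    obtain ⟨p, hp⟩ := L.cent_zt _ hconj
    have hnorm : ∀ x ∈ S4 (Q : Subgroup (SL2 F)),
        blk p * x * (blk p)⁻¹ ∈ S4 (Q : Subgroup (SL2 F)) := by
      intro x hx
      rw [← hp]
      have h1 := hg x hx
      have h2 := Subgroup.mul_mem _ (Subgroup.mul_mem _ hsw h1) (Subgroup.inv_mem _ hsw)
      have h3 : sw * g * x * (sw * g)⁻¹ = sw * (g * x * g⁻¹) * sw⁻¹ := by group
      rw [h3]
      exact h2
    have hmem := blk_norm_mem L hq Q p hnorm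
    rw [← hp] at hmem
    have h4 := Subgroup.mul_mem _ (Subgroup.inv_mem _ hsw) hmem
    rwa [inv_mul_cancel_left] at h4
  · have hconj : g * zt = zt * g := by
      have h1 : g * zt * g⁻¹ = zt := hcd
      rw [mul_inv_eq_iff_eq_mul] at h1
      exact h1
    obtain ⟨p, hp⟩ := L.cent_zt _ hconj
    rw [hp]
    apply blk_norm_mem L hq Q p
    rw [← hp]
    exact hg
  · exfalso
    rw [L.blk_neg_one] at hcd
    have := hzt_of_conj _ hcd
    have h2 : g⁻¹ * Cfsg.Agent.S0246.negOne F 2 * g = Cfsg.Agent.S0246.negOne F 2 := by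
      have := negOne_conj (F := F) g⁻¹
      rwa [inv_inv] at this
    rw [h2] at this
    exact zt_ne_negOne L this

end Cfsg.Agent.Lib.Helper24.PS4
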