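import Mathlib
import Cfsg.Agent.Lib.Helper24.CommIndex
import Cfsg.Agent.Lib.Helper1.Tate

set_option autoImplicit false

namespace Cfsg.Agent.Lib.Helper24

open scoped commutatorElement Pointwise

section Abstract
variable {P : Type*} [Group P]

theorem ps_commutator_le (K Z : Subgroup P) [hK : K.Normal] [hZ : Z.Normal] (hKZ : K ≤ Z)
    (hcent : ⁅Z, (⊤ : Subgroup P)⁆ ≤ K) (hcyc : IsCyclic (P ⧸ Z)) : commutator P ≤ K := by
  have hker : (QuotientGroup.map K Z (MonoidHom.id P) hKZ).ker ≤ Subgroup.center (P ⧸ K) := by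
    intro x hx
    induction x using QuotientGroup.induction_on with
    | H x =>
      have hx' : (QuotientGroup.mk x : P ⧸ Z) = 1 := hx
      rw [QuotientGroup.eq_one_iff] at hx'
      have hx := hx'
      rw [Subgroup.mem_center_iff]
      intro y
      induction y using QuotientGroup.induction_on with
      | H y =>
        rw [← QuotientGroup.mk_mul, ← QuotientGroup.mk_mul, QuotientGroup.eq]
        have h1 : ⁅x, y⁆ ∈ K :=
          hcent (Subgroup.commutator_mem_commutator hx (Subgroup.mem_top y))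
        have h2 : (y * x)⁻¹ * (x * y) = y⁻¹ * (x⁻¹ * ⁅x, y⁆ * x) * y := by
          rw [commutatorElement_def]
          group
        rw [h2]
        have h3 : x⁻¹ * ⁅x, y⁆ * x ∈ K := by
          have := hK.conj_mem _ h1 x⁻¹
          simpa using this
        have := hK.conj_mem _ h3 y⁻¹
        simpa using this
  have hcomm := (MonoidHom.isMulCommutative_of_isCyclic_of_ker_le_center
    (QuotientGroup.map K Z (MonoidHom.id P) hKZ) hker).is_comm.comm
  rw [commutator_def, Subgroup.commutator_le]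
  intro a _ b _
  have h := hcomm (QuotientGroup.mk a) (QuotientGroup.mk b)
  rw [← QuotientGroup.mk_mul, ← QuotientGroup.mk_mul, QuotientGroup.eq] at h
  have h2 : ⁅a, b⁆ = (b * a) * ((a * b)⁻¹ * (b * a))⁻¹ * (b * a)⁻¹ := by
    rw [commutatorElement_def]
    group
  rw [h2]
  exact hK.conj_mem _ (inv_mem h) (b * a)

theorem ps_isCyclic_of_index_dvd {p : ℕ} (hp : p.Prime) (Z : Subgroup P) [Z.Normal]
    (h : Z.index ∣ p) : IsCyclic (P ⧸ Z) := by
  rcases (Nat.dvd_prime hp).mp h with h1 | h1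
  · have : Subsingleton (P ⧸ Z) := by
      rw [Subgroup.index_eq_one] at h1
      rw [h1]
      exact QuotientGroup.subsingleton_quotient_top
    exact isCyclic_of_subsingleton
  · have : Fact p.Prime := ⟨hp⟩
    exact isCyclic_of_prime_card (p := p) (by rw [← h1]; rfl)

variable [Finite P] {p : ℕ} [hp : Fact p.Prime]

theorem ps_A (hP : IsPGroup p P) (h : (commutator P).index ∣ p) : commutator P = ⊥ := by
  have hnil : Group.IsNilpotent P := hP.isNilpotent
  apply Cfsg.Agent.Lib.Helper1.Tate.eq_bot_of_le_commutator_top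
  have hn : (⁅commutator P, (⊤ : Subgroup P)⁆).Normal := Subgroup.commutator_normal _ _
  exact ps_commutator_le _ (commutator P) (Subgroup.commutator_le_left _ _) le_rfl
    (ps_isCyclic_of_index_dvd hp.out _ h)

theorem ps_F (hP : IsPGroup p P) (R : Subgroup P) [hR : R.Normal] (hR' : ¬ R ≤ commutator P)
    (h2 : (commutator P).index = p ^ 2) : commutator P ≤ R ∧ R.index ∣ p := by
  have hsup : (commutator P ⊔ R).index ∣ p := by
    have h1 : (commutator P ⊔ R).index ∣ p ^ 2 := by
      rw [← h2]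
      exact Subgroup.index_dvd_of_le le_sup_left
    obtain ⟨k, hk, hk'⟩ := (Nat.dvd_prime_pow hp.out).mp h1
    interval_cases k
    · rw [hk']; exact one_dvd _
    · rw [hk', pow_one]
    · exfalso
      apply hR'
      have h3 : (commutator P).relIndex (commutator P ⊔ R) = 1 := by
        have h4 := Subgroup.relIndex_mul_index (le_sup_left : commutator P ≤ commutator P ⊔ R)
        rw [hk', h2] at h4
        have hpos : 0 < p ^ 2 := pow_pos hp.out.pos 2
        exact Nat.eq_of_mul_eq_mul_right hpos (by rw [h4, one_mul])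
      rw [Subgroup.relIndex_eq_one] at h3
      exact le_trans le_sup_right h3
  have hPq : IsPGroup p (P ⧸ R) := hP.to_quotient R
  have hcq : commutator (P ⧸ R) = (commutator P).map (QuotientGroup.mk' R) := by
    rw [commutator_def, commutator_def, Subgroup.map_commutator]
    congr 1 <;>
    exact (Subgroup.map_top_of_surjective _ (QuotientGroup.mk'_surjective R)).symm
  have hidx : (commutator (P ⧸ R)).index ∣ p := by
    rw [hcq, Subgroup.index_map, QuotientGroup.ker_mk',
      MonoidHom.range_eq_top_of_surjective _ (QuotientGroup.mk'_surjective R),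
      Subgroup.index_top, mul_one]
    exact hsup
  have h0 := ps_A hPq hidx
  rw [hcq, Subgroup.map_eq_bot_iff, QuotientGroup.ker_mk'] at h0
  refine ⟨h0, ?_⟩
  rwa [sup_of_le_right h0] at hsup

theorem ps_X (hP : IsPGroup p P) (R₁ R₂ : Subgroup P) [R₁.Normal] [R₂.Normal]
    (hinf : R₁ ⊓ R₂ = ⊥) (h1 : ¬ R₁ ≤ commutator P) (h2 : ¬ R₂ ≤ commutator P)
    (hidx : (commutator P).index = p ^ 2) : commutator P = ⊥ := by
  rw [eq_bot_iff, ← hinf]
  exact le_inf (ps_F hP R₁ h1 hidx).1 (ps_F hP R₂ h2 hidx).1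

theorem ps_Y (hP : IsPGroup p P) (Q Q₂ : Subgroup P) [hQ : Q.Normal] [hQ₂ : Q₂.Normal]
    (hinf : Q ⊓ Q₂ = ⊥) (hidx : (Q ⊔ Q₂).index ∣ p) (hle : Q ≤ commutator P) : Q = ⊥ := by
  have hnil : Group.IsNilpotent P := hP.isNilpotent
  apply Cfsg.Agent.Lib.Helper1.Tate.eq_bot_of_le_commutator_top
  have hn1 : (⁅Q, (⊤ : Subgroup P)⁆).Normal := Subgroup.commutator_normal _ _
  have hKn : (⁅Q, (⊤ : Subgroup P)⁆ ⊔ Q₂).Normal := Subgroup.sup_normal _ _
  have hZn : (Q ⊔ Q₂).Normal := Subgroup.sup_normal _ _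
  have hc : commutator P ≤ ⁅Q, (⊤ : Subgroup P)⁆ ⊔ Q₂ := by
    apply ps_commutator_le _ (Q ⊔ Q₂) (sup_le_sup_right (Subgroup.commutator_le_left _ _) _) _
      (ps_isCyclic_of_index_dvd hp.out _ hidx)
    rw [Subgroup.commutator_le]
    intro g hg y _
    have hg' : g ∈ ((Q ⊔ Q₂ : Subgroup P) : Set P) := hg
    rw [Subgroup.mul_normal] at hg'
    obtain ⟨a, ha, b, hb, rfl⟩ := hg'
    have e : ⁅a * b, y⁆ = (a * ⁅b, y⁆ * a⁻¹) * ⁅a, y⁆ := by
      rw [commutatorElement_def, commutatorElement_def, commutatorElement_def]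
      group
    rw [e]
    apply Subgroup.mul_mem
    · apply Subgroup.mem_sup_right
      apply hQ₂.conj_mem
      have hb' : b ∈ Q₂ := hb
      have e2 : ⁅b, y⁆ = b * (y * b⁻¹ * y⁻¹) := by
        rw [commutatorElement_def]
        group
      rw [e2]
      exact Q₂.mul_mem hb' (hQ₂.conj_mem _ (inv_mem hb') y)
    · exact Subgroup.mem_sup_left (Subgroup.commutator_mem_commutator ha (Subgroup.mem_top y))
  intro x hx
  have hx' : x ∈ ((⁅Q, (⊤ : Subgroup P)⁆ ⊔ Q₂ : Subgroup P) : Set P) := hc (hle hx)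
  rw [Subgroup.mul_normal] at hx'
  obtain ⟨a, ha, b, hb, rfl⟩ := hx'
  have haQ : a ∈ Q := Subgroup.commutator_le_left Q ⊤ ha
  have hbQ : b ∈ Q := by
    have : b = a⁻¹ * (a * b) := by group
    rw [this]
    exact Q.mul_mem (inv_mem haQ) hx
  have hb1 : b ∈ Q ⊓ Q₂ := ⟨hbQ, hb⟩
  rw [hinf, Subgroup.mem_bot] at hb1
  subst hb1
  show a * 1 ∈ _
  rw [mul_one]
  exact ha

end Abstract

end Cfsg.Agent.Lib.Helper24
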