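import Mathlib
import Cfsg.Agent.Lib.Helper24.PSq1

set_option autoImplicit false

namespace Cfsg.Agent.Lib.Helper24

open scoped commutatorElement Pointwise

section AbstractC
variable {P : Type*} [Group P]

def psc (w s : P) (k : ℕ) : P := w ^ k * s * (w ^ k)⁻¹

theorem psc_zero (w s : P) : psc w s 0 = s := by
  unfold psc
  simp

theorem psc_succ (w s : P) (k : ℕ) : w * psc w s k * w⁻¹ = psc w s (k + 1) := by
  unfold psc
  rw [pow_succ']
  group

def psT (w s : P) (n : ℕ) : P := ((List.range n).map (fun k => psc w s (k + 1))).prod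

theorem ps_conj_list (w : P) (l : List P) :
    w * l.prod * w⁻¹ = (l.map (fun x => w * x * w⁻¹)).prod := by
  induction l with
  | nil => simp
  | cons a l ih =>
    rw [List.prod_cons, List.map_cons, List.prod_cons, ← ih]
    group

theorem ps_conj_sT (w s : P) (n : ℕ) :
    w * (s * psT w s n) * w⁻¹ = psT w s n * psc w s (n + 1) := by
  have h1 : s * psT w s n = ((List.range (n + 1)).map (fun k => psc w s k)).prod := by
    rw [List.prod_range_succ', psc_zero]
    rfl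
  rw [h1, ps_conj_list, List.map_map]
  have h2 : ((fun x => w * x * w⁻¹) ∘ fun k => psc w s k) = fun k => psc w s (k + 1) := by
    funext k
    exact psc_succ w s k
  rw [h2, List.prod_range_succ]
  rfl

theorem psT_mem (w s : P) (n : ℕ) (H : Subgroup P) (h : ∀ k, k < n → psc w s (k + 1) ∈ H) :
    psT w s n ∈ H := by
  unfold psT
  apply Subgroup.list_prod_mem
  intro x hx
  rw [List.mem_map] at hx
  obtain ⟨k, hk, rfl⟩ := hx
  exact h k (List.mem_range.mp hk)

variable (R Q Q₂ : Subgroup P)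

theorem ps_norm_Q (hcomm : ∀ a ∈ Q, ∀ b ∈ Q₂, a * b = b * a)
    (hgen : ∀ r ∈ R, ∃ a ∈ Q, ∃ b ∈ Q₂, r = a * b) (r : P) (hr : r ∈ R) (s : P) (hs : s ∈ Q) :
    r * s * r⁻¹ ∈ Q := by
  obtain ⟨a, ha, b, hb, rfl⟩ := hgen r hr
  have h1 : a * b * s * (a * b)⁻¹ = a * s * a⁻¹ := by
    have h2 : b * s = s * b := (hcomm s hs b hb).symm
    calc a * b * s * (a * b)⁻¹ = a * (b * s) * b⁻¹ * a⁻¹ := by group
      _ = a * (s * b) * b⁻¹ * a⁻¹ := by rw [h2]
      _ = a * s * a⁻¹ := by group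
  rw [h1]
  exact Q.mul_mem (Q.mul_mem ha hs) (inv_mem ha)

theorem ps_comm_le (hcomm : ∀ a ∈ Q, ∀ b ∈ Q₂, a * b = b * a)
    (hgen : ∀ r ∈ R, ∃ a ∈ Q, ∃ b ∈ Q₂, r = a * b) : ⁅R, R⁆ ≤ ⁅Q, Q⁆ ⊔ Q₂ := by
  rw [Subgroup.commutator_le]
  intro r hr r' hr'
  obtain ⟨a, ha, b, hb, rfl⟩ := hgen r hr
  obtain ⟨a', ha', b', hb', rfl⟩ := hgen r' hr'
  have e : ⁅a * b, a' * b'⁆ = ⁅a, a'⁆ * ⁅b, b'⁆ := by
    rw [commutatorElement_def, commutatorElement_def, commutatorElement_def]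
    have h1 := hcomm a ha b' hb'
    have h2 := hcomm a' ha' b hb
    have h3 := hcomm a⁻¹ (inv_mem ha) b hb
    have h4 := hcomm a⁻¹ (inv_mem ha) b' hb'
    have h5 := hcomm a'⁻¹ (inv_mem ha') b hb
    have h6 := hcomm a'⁻¹ (inv_mem ha') b' hb'
    have h7 := hcomm a' ha' b' hb'
    have h8 := hcomm a ha b hb
    have h9 := hcomm a⁻¹ (inv_mem ha) b⁻¹ (inv_mem hb)
    have h10 := hcomm a'⁻¹ (inv_mem ha') b⁻¹ (inv_mem hb)
    have h11 := hcomm a'⁻¹ (inv_mem ha') b'⁻¹ (inv_mem hb')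
    have h12 := hcomm a⁻¹ (inv_mem ha) b'⁻¹ (inv_mem hb')
    calc a * b * (a' * b') * (a * b)⁻¹ * (a' * b')⁻¹
        = a * (b * a') * b' * (b⁻¹ * a⁻¹) * (b'⁻¹ * a'⁻¹) := by group
      _ = a * (a' * b) * b' * (a⁻¹ * b⁻¹) * (a'⁻¹ * b'⁻¹) := by rw [← h2, h9, h11]
      _ = a * a' * (b * b' * a⁻¹) * b⁻¹ * a'⁻¹ * b'⁻¹ := by group
      _ = a * a' * (a⁻¹ * (b * b')) * b⁻¹ * a'⁻¹ * b'⁻¹ := by
          rw [hcomm a⁻¹ (inv_mem ha) (b * b') (Q₂.mul_mem hb hb')]
      _ = a * a' * a⁻¹ * (b * b' * b⁻¹ * a'⁻¹) * b'⁻¹ := by group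
      _ = a * a' * a⁻¹ * (a'⁻¹ * (b * b' * b⁻¹)) * b'⁻¹ := by
          rw [hcomm a'⁻¹ (inv_mem ha') (b * b' * b⁻¹)
            (Q₂.mul_mem (Q₂.mul_mem hb hb') (inv_mem hb))]
      _ = a * a' * a⁻¹ * a'⁻¹ * (b * b' * b⁻¹ * b'⁻¹) := by group
  rw [e]
  exact Subgroup.mul_mem _ (Subgroup.mem_sup_left (Subgroup.commutator_mem_commutator ha ha'))
    (Subgroup.mem_sup_right (Q₂.mul_mem (Q₂.mul_mem (Q₂.mul_mem hb hb') (inv_mem hb)) (inv_mem hb')))

end AbstractC

section AbstractH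
variable {P : Type*} [Group P] [Finite P] {p : ℕ} [hp : Fact p.Prime]

theorem ps_H (R : Subgroup P) [hR : R.Normal] (hidx : R.index = p) (hab : ⁅R, R⁆ = ⊥)
    (h2 : (commutator P).index = p ^ 2) (w : P) (hw : w ∉ R) :
    Nat.card (Subgroup.centralizer ({w} : Set P)) = p ^ 2 := by
  have hcount := (cx_index_commutator hp.out R hidx hw).mp h2
  have hc1 : Nat.card (commutator R) = 1 := by
    have h := cx_map_commutator R
    rw [hab, Subgroup.map_eq_bot_iff_of_injective _ R.subtype_injective] at h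
    rw [h]
    exact Subgroup.card_bot
  rw [hc1, mul_one, cx_map_commutator, hab] at hcount
  have hinf : Nat.card (R ⊓ Subgroup.centralizer ({w} : Set P) : Subgroup P) = p := by
    rw [← hcount]
    apply Nat.card_congr
    refine ⟨fun x => ⟨⟨x.1, x.2.1⟩, ?_⟩, fun n => ⟨n.1.1, n.1.2, ?_⟩, fun x => rfl, fun n => rfl⟩
    · have h : x.1 ∈ Subgroup.centralizer ({w} : Set P) := x.2.2
      rw [Subgroup.mem_centralizer_iff] at h
      have h' := h w (Set.mem_singleton w)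
      rw [Subgroup.mem_bot]
      show w * x.1 * w⁻¹ * (x.1)⁻¹ = 1
      rw [h']
      group
    · show (n.1 : P) ∈ Subgroup.centralizer ({w} : Set P)
      rw [Subgroup.mem_centralizer_iff]
      intro y hy
      rw [Set.mem_singleton_iff] at hy
      subst hy
      have h := n.2
      rw [Subgroup.mem_bot] at h
      have h' : y * (n.1 : P) * y⁻¹ * (n.1 : P)⁻¹ = 1 := h
      calc y * (n.1 : P) = (y * (n.1 : P) * y⁻¹ * (n.1 : P)⁻¹) * ((n.1 : P) * y) := by group
        _ = (n.1 : P) * y := by rw [h', one_mul]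
  have hsup : Subgroup.centralizer ({w} : Set P) ⊔ R = ⊤ := by
    have h := cx_sup_eq_top_of_prime_index hp.out R hidx hw
    rw [eq_top_iff, ← h]
    apply sup_le_sup_right
    rw [Subgroup.zpowers_le]
    rw [Subgroup.mem_centralizer_iff]
    intro y hy
    rw [Set.mem_singleton_iff] at hy
    rw [hy]
  have hrel : R.relIndex (Subgroup.centralizer ({w} : Set P)) = p := by
    rw [← Subgroup.relIndex_sup_right, hsup, Subgroup.relIndex_top_right, hidx]
  have hmul := Subgroup.card_mul_index (R.subgroupOf (Subgroup.centralizer ({w} : Set P)))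
  have hcard : Nat.card (R.subgroupOf (Subgroup.centralizer ({w} : Set P))) = p := by
    rw [← hinf, ← Subgroup.inf_subgroupOf_right]
    exact Nat.card_congr (Subgroup.subgroupOfEquivOfLe inf_le_right).toEquiv
  have hrel' : (R.subgroupOf (Subgroup.centralizer ({w} : Set P))).index = p := hrel
  rw [hcard, hrel'] at hmul
  rw [← hmul, pow_two]

end AbstractH

end Cfsg.Agent.Lib.Helper24
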