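import Mathlib
import Cfsg.Agent.Lib.Helper24.PSq2

set_option autoImplicit false

namespace Cfsg.Agent.Lib.Helper24

open scoped commutatorElement Pointwise

section AbstractC2
variable {P : Type*} [Group P] [Finite P] {p : ℕ} [hp : Fact p.Prime]

theorem ps_card_sup_le (A B : Subgroup P) (hcomm : ∀ a ∈ A, ∀ b ∈ B, a * b = b * a) :
    Nat.card (A ⊔ B : Subgroup P) ≤ Nat.card A * Nat.card B := by
  have hc : ∀ (m : A) (n : B), Commute (A.subtype m) (B.subtype n) := fun m n =>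
    hcomm m.1 m.2 n.1 n.2
  have h := MonoidHom.noncommCoprod_range A.subtype B.subtype hc
  rw [Subgroup.range_subtype, Subgroup.range_subtype] at h
  rw [← h, ← Nat.card_prod]
  exact Nat.le_of_dvd Nat.card_pos (Subgroup.card_range_dvd _)

theorem ps_card_mul_le (R Q Q₂ : Subgroup P) (hQR : Q ≤ R) (hQ₂R : Q₂ ≤ R) (hinf : Q ⊓ Q₂ = ⊥) :
    Nat.card Q * Nat.card Q₂ ≤ Nat.card R := by
  rw [← Nat.card_prod]
  apply Nat.card_le_card_of_injective (fun x : Q × Q₂ => (⟨x.1.1 * x.2.1, R.mul_mem (hQR x.1.2)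
    (hQ₂R x.2.2)⟩ : R))
  rintro ⟨a, b⟩ ⟨a', b'⟩ h
  have h1 : a.1 * b.1 = a'.1 * b'.1 := congrArg Subtype.val h
  have h2 : a'.1⁻¹ * a.1 = b'.1 * b.1⁻¹ := by
    calc a'.1⁻¹ * a.1 = a'.1⁻¹ * (a.1 * b.1) * b.1⁻¹ := by group
      _ = a'.1⁻¹ * (a'.1 * b'.1) * b.1⁻¹ := by rw [h1]
      _ = b'.1 * b.1⁻¹ := by group
  have h3 : a'.1⁻¹ * a.1 ∈ Q ⊓ Q₂ :=
    ⟨Q.mul_mem (inv_mem a'.2) a.2, by rw [h2]; exact Q₂.mul_mem b'.2 (inv_mem b.2)⟩
  rw [hinf, Subgroup.mem_bot] at h3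
  have h4 : a.1 = a'.1 := by
    calc a.1 = a'.1 * (a'.1⁻¹ * a.1) := by group
      _ = a'.1 := by rw [h3, mul_one]
  have h5 : b.1 = b'.1 := by
    rw [h4] at h1
    exact mul_left_cancel h1
  exact Prod.ext (Subtype.ext h4) (Subtype.ext h5)

theorem ps_E_mem (R : Subgroup P) [hR : R.Normal] (hidx : R.index = p) (w : P) (Q Q₂ : Subgroup P)
    (hQR : Q ≤ R) (hQ₂R : Q₂ ≤ R) (hcomm : ∀ a ∈ Q, ∀ b ∈ Q₂, a * b = b * a)
    (hgen : ∀ r ∈ R, ∃ a ∈ Q, ∃ b ∈ Q₂, r = a * b)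
    (hmove : ∀ k, 0 < k → k < p → ∀ s ∈ Q, psc w s k ∈ Q₂) (a : P) (ha : a ∈ Q) :
    psT w a (p - 1) ∈ Q₂ ∧
      w * (a * psT w a (p - 1)) * w⁻¹ * (a * psT w a (p - 1))⁻¹ ∈ ⁅R, R⁆ := by
  have hp1 : p - 1 + 1 = p := Nat.sub_add_cancel hp.out.one_le
  have hT : psT w a (p - 1) ∈ Q₂ := by
    apply psT_mem
    intro k hk
    exact hmove (k + 1) (Nat.succ_pos k) (by omega) a ha
  refine ⟨hT, ?_⟩
  rw [ps_conj_sT, hp1]
  have hwp : w ^ p ∈ R := by
    have := Subgroup.pow_index_mem R w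
    rwa [hidx] at this
  have hcp : psc w a p ∈ Q := ps_norm_Q R Q Q₂ hcomm hgen (w ^ p) hwp a ha
  have e : psT w a (p - 1) * psc w a p * (a * psT w a (p - 1))⁻¹ = ⁅w ^ p, a⁆ := by
    have h1 := hcomm (psc w a p) hcp (psT w a (p - 1)) hT
    calc psT w a (p - 1) * psc w a p * (a * psT w a (p - 1))⁻¹
        = (psT w a (p - 1) * psc w a p) * (psT w a (p - 1))⁻¹ * a⁻¹ := by group
      _ = (psc w a p * psT w a (p - 1)) * (psT w a (p - 1))⁻¹ * a⁻¹ := by rw [h1]
      _ = psc w a p * a⁻¹ := by group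
      _ = ⁅w ^ p, a⁆ := by
        rw [commutatorElement_def]
        rfl
  rw [e]
  exact Subgroup.commutator_mem_commutator hwp (hQR ha)

theorem ps_C (hP : IsPGroup p P) (R : Subgroup P) [hR : R.Normal] (hidx : R.index = p)
    (h2 : (commutator P).index = p ^ 2) (w : P) (hw : w ∉ R) (Q Q₂ : Subgroup P)
    (hQR : Q ≤ R) (hQ₂R : Q₂ ≤ R) (hcomm : ∀ a ∈ Q, ∀ b ∈ Q₂, a * b = b * a)
    (hinf : Q ⊓ Q₂ = ⊥) (hgen : ∀ r ∈ R, ∃ a ∈ Q, ∃ b ∈ Q₂, r = a * b)
    (hmove : ∀ k, 0 < k → k < p → ∀ s ∈ Q, psc w s k ∈ Q₂) : ⁅Q, Q⁆ = ⊥ := by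
  have hcount := (cx_index_commutator hp.out R hidx hw).mp h2
  have hE : Nat.card (cxHom R w).ker = p * Nat.card (commutator R) := by
    rw [← hcount]
    apply Nat.card_congr
    apply Equiv.subtypeEquivRight
    intro n
    rw [cx_map_commutator]
    exact cxHom_mem_ker R w n
  set E' : Subgroup R := (cxHom R w).ker with hE'
  set Y : Subgroup P := ⁅Q, Q⁆ ⊔ Q₂ with hY
  have hQQ : ⁅Q, Q⁆ ≤ Q := Subgroup.commutator_le.mpr (fun a ha b hb =>
    Q.mul_mem (Q.mul_mem (Q.mul_mem ha hb) (inv_mem ha)) (inv_mem hb))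
  have hYR : Y ≤ R := sup_le (le_trans hQQ hQR) hQ₂R
  have hsup : Y.subgroupOf R ⊔ E' = ⊤ := by
    rw [eq_top_iff]
    intro r _
    obtain ⟨a, ha, b, hb, hab⟩ := hgen r.1 r.2
    obtain ⟨hT, hmem⟩ := ps_E_mem R hidx w Q Q₂ hQR hQ₂R hcomm hgen hmove a ha
    have heR : a * psT w a (p - 1) ∈ R := R.mul_mem (hQR ha) (hQ₂R hT)
    have hyR : (psT w a (p - 1))⁻¹ * b ∈ R := R.mul_mem (inv_mem (hQ₂R hT)) (hQ₂R hb)
    have hr : r = (⟨a * psT w a (p - 1), heR⟩ : R) * ⟨(psT w a (p - 1))⁻¹ * b, hyR⟩ := by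
      apply Subtype.ext
      rw [Subgroup.coe_mul]
      simp only
      rw [hab]
      group
    rw [hr]
    apply Subgroup.mul_mem
    · apply Subgroup.mem_sup_right
      rw [hE', cxHom_mem_ker]
      exact hmem
    · apply Subgroup.mem_sup_left
      rw [Subgroup.mem_subgroupOf]
      exact Subgroup.mem_sup_right (Q₂.mul_mem (inv_mem hT) hb)
  have hEn : E'.Normal := MonoidHom.normal_ker _
  have hrel : E'.index = (E' ⊓ Y.subgroupOf R).relIndex (Y.subgroupOf R) := by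
    rw [Subgroup.inf_relIndex_right, ← Subgroup.relIndex_sup_right, hsup,
      Subgroup.relIndex_top_right]
  have hc1 := Subgroup.card_mul_index E'
  have hc2 := Subgroup.card_mul_index ((E' ⊓ Y.subgroupOf R).subgroupOf (Y.subgroupOf R))
  have hc3 : Nat.card ((E' ⊓ Y.subgroupOf R).subgroupOf (Y.subgroupOf R))
      = Nat.card (E' ⊓ Y.subgroupOf R : Subgroup R) :=
    Nat.card_congr (Subgroup.subgroupOfEquivOfLe inf_le_right).toEquiv
  have hc4 : ((E' ⊓ Y.subgroupOf R).subgroupOf (Y.subgroupOf R)).index = E'.index := hrel.symm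
  rw [hc3, hc4] at hc2
  have hcomle : commutator R ≤ E' ⊓ Y.subgroupOf R := by
    rw [commutator_def, Subgroup.commutator_le]
    intro x _ y _
    refine Subgroup.mem_inf.mpr ⟨?_, ?_⟩
    · rw [hE', cxHom_mem_ker]
      have h1 : w * ((⁅x, y⁆ : R) : P) * w⁻¹ ∈ ⁅R, R⁆ := by
        have e : w * ((⁅x, y⁆ : R) : P) * w⁻¹ = ⁅w * (x : P) * w⁻¹, w * (y : P) * w⁻¹⁆ := by
          rw [commutatorElement_def, commutatorElement_def]
          simp only [Subgroup.coe_mul, Subgroup.coe_inv]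
          group
        rw [e]
        exact Subgroup.commutator_mem_commutator (hR.conj_mem _ x.2 w) (hR.conj_mem _ y.2 w)
      have h2 : ((⁅x, y⁆ : R) : P) ∈ ⁅R, R⁆ := by
        have e : ((⁅x, y⁆ : R) : P) = ⁅(x : P), (y : P)⁆ := by
          rw [commutatorElement_def, commutatorElement_def]
          simp only [Subgroup.coe_mul, Subgroup.coe_inv]
        rw [e]
        exact Subgroup.commutator_mem_commutator x.2 y.2
      exact Subgroup.mul_mem _ h1 (inv_mem h2)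
    · rw [Subgroup.mem_subgroupOf]
      apply ps_comm_le R Q Q₂ hcomm hgen
      have e : ((⁅x, y⁆ : R) : P) = ⁅(x : P), (y : P)⁆ := by
        rw [commutatorElement_def, commutatorElement_def]
        simp only [Subgroup.coe_mul, Subgroup.coe_inv]
      rw [e]
      exact Subgroup.commutator_mem_commutator x.2 y.2
  have hc5 : Nat.card (commutator R) ≤ Nat.card (E' ⊓ Y.subgroupOf R : Subgroup R) :=
    Nat.le_of_dvd Nat.card_pos (Subgroup.card_dvd_of_le hcomle)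
  have hc6 : Nat.card (Y.subgroupOf R) = Nat.card Y :=
    Nat.card_congr (Subgroup.subgroupOfEquivOfLe hYR).toEquiv
  have hc7 : Nat.card Y ≤ Nat.card (⁅Q, Q⁆ : Subgroup P) * Nat.card Q₂ := by
    apply ps_card_sup_le
    intro a ha b hb
    exact hcomm a (hQQ ha) b hb
  have hc8 := ps_card_mul_le R Q Q₂ hQR hQ₂R hinf
  have hRle : Nat.card R ≤ p * Nat.card Y := by
    have hpos : 0 < Nat.card (commutator R) := Nat.card_pos
    have h3 : Nat.card R * Nat.card (commutator R) ≤ p * Nat.card Y * Nat.card (commutator R) := by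
      calc Nat.card R * Nat.card (commutator R)
          ≤ Nat.card R * Nat.card (E' ⊓ Y.subgroupOf R : Subgroup R) :=
            Nat.mul_le_mul_left _ hc5
        _ = Nat.card E' * (Nat.card (E' ⊓ Y.subgroupOf R : Subgroup R) * E'.index) := by
            rw [← hc1]; ring
        _ = Nat.card E' * Nat.card (Y.subgroupOf R) := by rw [hc2]
        _ = p * Nat.card Y * Nat.card (commutator R) := by rw [hE, hc6]; ring
    exact Nat.le_of_mul_le_mul_right h3 hpos
  have hQle : Nat.card Q ≤ p * Nat.card (⁅Q, Q⁆ : Subgroup P) := by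
    have hpos : 0 < Nat.card Q₂ := Nat.card_pos
    have h3 : Nat.card Q * Nat.card Q₂ ≤ p * Nat.card (⁅Q, Q⁆ : Subgroup P) * Nat.card Q₂ := by
      calc Nat.card Q * Nat.card Q₂ ≤ Nat.card R := hc8
        _ ≤ p * Nat.card Y := hRle
        _ ≤ p * (Nat.card (⁅Q, Q⁆ : Subgroup P) * Nat.card Q₂) := Nat.mul_le_mul_left _ hc7
        _ = p * Nat.card (⁅Q, Q⁆ : Subgroup P) * Nat.card Q₂ := by ring
    exact Nat.le_of_mul_le_mul_right h3 hpos
  have hPQ : IsPGroup p Q := hP.to_subgroup Q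
  have hcq : Nat.card (commutator Q) = Nat.card (⁅Q, Q⁆ : Subgroup P) := by
    rw [← cx_map_commutator Q, Subgroup.card_map_of_injective Q.subtype_injective]
  have hdvd : (commutator Q).index ∣ p := by
    obtain ⟨n, hn⟩ := hPQ.index (commutator Q)
    have h3 := Subgroup.card_mul_index (commutator Q)
    rw [hcq] at h3
    have hpos : 0 < Nat.card (⁅Q, Q⁆ : Subgroup P) := Nat.card_pos
    have h4 : (commutator Q).index ≤ p := by
      have : Nat.card (⁅Q, Q⁆ : Subgroup P) * (commutator Q).index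
          ≤ Nat.card (⁅Q, Q⁆ : Subgroup P) * p := by
        rw [h3, mul_comm]; exact hQle
      exact Nat.le_of_mul_le_mul_left this hpos
    rw [hn] at h4 ⊢
    have hn1 : n ≤ 1 := by
      by_contra hcon
      have : 2 ≤ n := by omega
      have h5 : p ^ 2 ≤ p ^ n := Nat.pow_le_pow_right hp.out.pos this
      have h6 : p < p ^ 2 := by
        have := hp.out.one_lt
        nlinarith
      omega
    interval_cases n
    · exact one_dvd _
    · rw [pow_one]
  have h0 := ps_A hPQ hdvd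
  have h7 := cx_map_commutator Q
  rw [h0, Subgroup.map_bot] at h7
  exact h7.symm

end AbstractC2

end Cfsg.Agent.Lib.Helper24
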