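import Mathlib
import Cfsg.Agent.Lib.Helper24.PSq3

set_option autoImplicit false

namespace Cfsg.Agent.Lib.Helper24

open scoped commutatorElement Pointwise

section Conv
variable {P : Type*} [Group P] [Finite P] {p : ℕ} [hp : Fact p.Prime]

theorem ps_class_le (x : P) :
    (Subgroup.centralizer ({x} : Set P)).index ≤ Nat.card (commutator P) := by
  rw [Subgroup.index]
  apply Nat.card_le_card_of_injective
    (Quotient.lift (fun u : P => (⟨⁅u, x⁆, by
      rw [commutator_def]
      exact Subgroup.commutator_mem_commutator (Subgroup.mem_top u) (Subgroup.mem_top x)⟩ :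
        commutator P)) ?_)
  · intro a b
    induction a using Quotient.inductionOn with
    | _ a =>
      induction b using Quotient.inductionOn with
      | _ b =>
        intro h
        have h1 : ⁅a, x⁆ = ⁅b, x⁆ := congrArg Subtype.val h
        apply Quotient.sound
        apply QuotientGroup.leftRel_apply.mpr
        rw [Subgroup.mem_centralizer_iff]
        intro y hy
        rw [Set.mem_singleton_iff] at hy
        subst hy
        rw [commutatorElement_def, commutatorElement_def] at h1
        have h2 : a * y * a⁻¹ = b * y * b⁻¹ := by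
          calc a * y * a⁻¹ = (a * y * a⁻¹ * y⁻¹) * y := by group
            _ = (b * y * b⁻¹ * y⁻¹) * y := by rw [h1]
            _ = b * y * b⁻¹ := by group
        calc y * (a⁻¹ * b) = a⁻¹ * (a * y * a⁻¹) * b := by group
          _ = a⁻¹ * (b * y * b⁻¹) * b := by rw [h2]
          _ = a⁻¹ * b * y := by group
  · intro a b hab
    have hab' : a⁻¹ * b ∈ Subgroup.centralizer ({x} : Set P) := QuotientGroup.leftRel_apply.mp hab
    rw [Subgroup.mem_centralizer_iff] at hab'
    have h1 := hab' x (Set.mem_singleton x)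
    apply Subtype.ext
    show ⁅a, x⁆ = ⁅b, x⁆
    rw [commutatorElement_def, commutatorElement_def]
    have h2 : b * x * b⁻¹ = a * x * a⁻¹ := by
      calc b * x * b⁻¹ = a * (a⁻¹ * b * x) * b⁻¹ := by group
        _ = a * (x * (a⁻¹ * b)) * b⁻¹ := by rw [h1]
        _ = a * x * a⁻¹ := by group
    rw [h2]

theorem ps_conv (hP : IsPGroup p P) (hbig : p ^ 2 ∣ Nat.card P) (x : P)
    (hx : Nat.card (Subgroup.centralizer ({x} : Set P)) = p ^ 2) :
    (commutator P).index = p ^ 2 := by
  have h1 := ps_class_le x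
  have h2 := Subgroup.card_mul_index (Subgroup.centralizer ({x} : Set P))
  have h3 := Subgroup.card_mul_index (commutator P)
  rw [hx] at h2
  obtain ⟨n, hn⟩ := hP.index (commutator P)
  have hle : (commutator P).index ≤ p ^ 2 := by
    have hpos : 0 < Nat.card (commutator P) := Nat.card_pos
    have : Nat.card (commutator P) * (commutator P).index ≤ Nat.card (commutator P) * p ^ 2 := by
      rw [h3, ← h2, mul_comm]
      exact Nat.mul_le_mul_right _ h1
    exact Nat.le_of_mul_le_mul_left this hpos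
  rw [hn] at hle ⊢
  have hn2 : n ≤ 2 := by
    by_contra hcon
    have h4 : p ^ 3 ≤ p ^ n := Nat.pow_le_pow_right hp.out.pos (by omega)
    have h5 : p ^ 2 < p ^ 3 := Nat.pow_lt_pow_right hp.out.one_lt (by norm_num)
    omega
  by_cases hn1 : n = 2
  · rw [hn1]
  · exfalso
    have hdvd : (commutator P).index ∣ p := by
      rw [hn]
      have : n ≤ 1 := by omega
      interval_cases n
      · exact one_dvd _
      · rw [pow_one]
    have h0 := ps_A hP hdvd
    rw [h0, Subgroup.index_bot] at hn
    rw [hn] at hbig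
    have h6 : 2 ≤ n := (Nat.pow_dvd_pow_iff_le_right hp.out.one_lt).mp hbig
    omega

end Conv

section GLevel
variable {G : Type*} [Group G] [Finite G] {p : ℕ} [hp : Fact p.Prime]

theorem ps_card_centralizer_conj (g w : G) :
    Nat.card (Subgroup.centralizer ({g * w * g⁻¹} : Set G))
      = Nat.card (Subgroup.centralizer ({w} : Set G)) := by
  symm
  apply Nat.card_congr
  refine ⟨fun y => ⟨g * y.1 * g⁻¹, ?_⟩, fun y => ⟨g⁻¹ * y.1 * g, ?_⟩, ?_, ?_⟩
  · have h := y.2
    rw [Subgroup.mem_centralizer_iff] at h ⊢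
    intro z hz
    rw [Set.mem_singleton_iff] at hz
    subst hz
    have h1 := h w (Set.mem_singleton w)
    calc g * w * g⁻¹ * (g * y.1 * g⁻¹) = g * (w * y.1) * g⁻¹ := by group
      _ = g * (y.1 * w) * g⁻¹ := by rw [h1]
      _ = g * y.1 * g⁻¹ * (g * w * g⁻¹) := by group
  · have h := y.2
    rw [Subgroup.mem_centralizer_iff] at h ⊢
    intro z hz
    rw [Set.mem_singleton_iff] at hz
    subst hz
    have h1 := h (g * z * g⁻¹) (Set.mem_singleton _)
    calc z * (g⁻¹ * y.1 * g) = g⁻¹ * (g * z * g⁻¹ * y.1) * g := by group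
      _ = g⁻¹ * (y.1 * (g * z * g⁻¹)) * g := by rw [h1]
      _ = g⁻¹ * y.1 * g * z := by group
  · intro y
    apply Subtype.ext
    simp only
    group
  · intro y
    apply Subtype.ext
    simp only
    group

theorem ps_extremal (P : Sylow p G) (w : G) (hw : ∃ k : ℕ, orderOf w = p ^ k) :
    ∃ g : G, g * w * g⁻¹ ∈ (P : Subgroup G) ∧
      Nat.card (Subgroup.centralizer ({g * w * g⁻¹} : Set G) ⊓ (P : Subgroup G) : Subgroup G)
        = p ^ (Nat.card (Subgroup.centralizer ({w} : Set G))).factorization p := by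
  obtain ⟨k, hk⟩ := hw
  set C := Subgroup.centralizer ({w} : Set G) with hC
  have hwC : w ∈ C := by
    rw [hC, Subgroup.mem_centralizer_iff]
    intro z hz
    rw [Set.mem_singleton_iff] at hz
    rw [hz]
  have hpg : IsPGroup p (Subgroup.zpowers (⟨w, hwC⟩ : C)) := by
    apply IsPGroup.of_card (n := k)
    rw [Nat.card_zpowers, ← hk]
    exact Subgroup.orderOf_mk w hwC
  obtain ⟨Q, hQ⟩ := hpg.exists_le_sylow
  have hQcard : Nat.card Q = p ^ (Nat.card C).factorization p := Sylow.card_eq_multiplicity Q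
  have hQ'pg : IsPGroup p ((Q : Subgroup C).map C.subtype) := Q.isPGroup'.map _
  obtain ⟨S, hS⟩ := hQ'pg.exists_le_sylow
  obtain ⟨g, hg⟩ := MulAction.exists_smul_eq G S P
  have hconj : ∀ y ∈ (S : Subgroup G), g * y * g⁻¹ ∈ (P : Subgroup G) := by
    intro y hy
    rw [← hg, Sylow.coe_subgroup_smul]
    have := Subgroup.smul_mem_pointwise_smul y (MulAut.conj g) (S : Subgroup G) hy
    rwa [MulAut.smul_def, MulAut.conj_apply] at this
  have hwQ : w ∈ (Q : Subgroup C).map C.subtype :=
    ⟨⟨w, hwC⟩, hQ (Subgroup.mem_zpowers _), rfl⟩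
  refine ⟨g, hconj w (hS hwQ), ?_⟩
  set Cx := Subgroup.centralizer ({g * w * g⁻¹} : Set G) with hCx
  have hle : ((Q : Subgroup C).map C.subtype).map (MulAut.conj g).toMonoidHom
      ≤ Cx ⊓ (P : Subgroup G) := by
    rintro _ ⟨y, hy, rfl⟩
    refine Subgroup.mem_inf.mpr ⟨?_, hconj y (hS hy)⟩
    obtain ⟨c, _, rfl⟩ := hy
    have hc : (c : G) ∈ Subgroup.centralizer ({w} : Set G) := c.2
    rw [Subgroup.mem_centralizer_iff] at hc
    have h1 := hc w (Set.mem_singleton w)
    rw [hCx, Subgroup.mem_centralizer_iff]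
    intro z hz
    rw [Set.mem_singleton_iff] at hz
    subst hz
    show g * w * g⁻¹ * (g * (c : G) * g⁻¹) = g * (c : G) * g⁻¹ * (g * w * g⁻¹)
    calc g * w * g⁻¹ * (g * (c : G) * g⁻¹) = g * (w * (c : G)) * g⁻¹ := by group
      _ = g * ((c : G) * w) * g⁻¹ := by rw [h1]
      _ = g * (c : G) * g⁻¹ * (g * w * g⁻¹) := by group
  have hcard1 : Nat.card (((Q : Subgroup C).map C.subtype).map (MulAut.conj g).toMonoidHom)
      = p ^ (Nat.card C).factorization p := by
    rw [Subgroup.card_map_of_injective (MulAut.conj g).injective,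
      Subgroup.card_map_of_injective C.subtype_injective]
    exact hQcard
  have hpg2 : IsPGroup p (Cx ⊓ (P : Subgroup G) : Subgroup G) := P.isPGroup'.to_le inf_le_right
  obtain ⟨m, hm⟩ := IsPGroup.iff_card.mp hpg2
  have hd1 : p ^ (Nat.card C).factorization p ∣ p ^ m := by
    rw [← hcard1, ← hm]
    exact Subgroup.card_dvd_of_le hle
  have hd2 : p ^ m ∣ Nat.card C := by
    rw [← hm, ← ps_card_centralizer_conj g w]
    exact Subgroup.card_dvd_of_le inf_le_left
  have h1 : (Nat.card C).factorization p ≤ m := (Nat.pow_dvd_pow_iff_le_right hp.out.one_lt).mp hd1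
  have h2 : m ≤ (Nat.card C).factorization p :=
    (hp.out.pow_dvd_iff_le_factorization Nat.card_pos.ne').mp hd2
  rw [hm, le_antisymm h2 h1]

end GLevel

end Cfsg.Agent.Lib.Helper24
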