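import Mathlib
import Cfsg.Agent.Lib.Helper24.PSq4
import Cfsg.Agent.Lib.Helper1.Frat
import Cfsg.Agent.Lib.Helper1.Residual
import Cfsg.Agent.Lib.helper23.ZpMin2
import Cfsg.Agent.Lib.Helper13.Basic
import Cfsg.Agent.Lib.Helper18.SylowIn

set_option autoImplicit false

namespace Cfsg.Agent.Lib.Helper24

open scoped commutatorElement Pointwise

section Transfer
variable {G : Type*} [Group G] (H : Subgroup G)

theorem ps_sub_comm : commutator ↥H = (⁅H, H⁆).subgroupOf H := by
  have h := cx_map_commutator H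
  rw [← h, Subgroup.subgroupOf, Subgroup.comap_map_eq_self_of_injective H.subtype_injective]

theorem ps_comm_le_self : ⁅H, H⁆ ≤ H := Subgroup.commutator_le.mpr (fun a ha b hb =>
  H.mul_mem (H.mul_mem (H.mul_mem ha hb) (inv_mem ha)) (inv_mem hb))

theorem ps_sub_comm_index : (commutator ↥H).index = (⁅H, H⁆).relIndex H := by
  rw [ps_sub_comm]
  rfl

theorem ps_sub_le_comm (A : Subgroup G) (hA : A ≤ H) :
    A.subgroupOf H ≤ commutator ↥H ↔ A ≤ ⁅H, H⁆ := by
  rw [ps_sub_comm]
  constructor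
  · intro h x hx
    exact h (show (⟨x, hA hx⟩ : H) ∈ A.subgroupOf H from hx)
  · intro h x hx
    exact h hx

theorem ps_sub_comm_eq_bot : commutator ↥H = ⊥ ↔ ⁅H, H⁆ = ⊥ := by
  rw [ps_sub_comm, Subgroup.subgroupOf_eq_bot, disjoint_iff, inf_eq_left.mpr (ps_comm_le_self H)]

theorem ps_sub_card_centralizer (x : H) :
    Nat.card (Subgroup.centralizer ({x} : Set H))
      = Nat.card (Subgroup.centralizer ({(x : G)} : Set G) ⊓ H : Subgroup G) := by
  apply Nat.card_congr
  refine ⟨fun y => ⟨y.1.1, ?_, y.1.2⟩, fun y => ⟨⟨y.1, y.2.2⟩, ?_⟩, fun y => rfl, fun y => rfl⟩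
  · have h := y.2
    rw [Subgroup.mem_centralizer_iff] at h
    have h1 := h x (Set.mem_singleton x)
    show y.1.1 ∈ Subgroup.centralizer ({(x : G)} : Set G)
    rw [Subgroup.mem_centralizer_iff]
    intro z hz
    rw [Set.mem_singleton_iff] at hz
    rw [hz]
    exact congrArg Subtype.val h1
  · have h : y.1 ∈ Subgroup.centralizer ({(x : G)} : Set G) := y.2.1
    rw [Subgroup.mem_centralizer_iff] at h
    have h1 := h x (Set.mem_singleton _)
    rw [Subgroup.mem_centralizer_iff]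
    intro z hz
    rw [Set.mem_singleton_iff] at hz
    rw [hz]
    exact Subtype.ext h1

end Transfer

section GLevel2
variable {G : Type*} [Group G] [Finite G] {p : ℕ} [hp : Fact p.Prime]

theorem ps_sylow_sq_dvd (P : Sylow p G) (hbig : p ^ 2 ∣ Nat.card G) :
    p ^ 2 ∣ Nat.card (P : Subgroup G) := by
  rw [Sylow.card_eq_multiplicity]
  apply pow_dvd_pow
  exact (hp.out.pow_dvd_iff_le_factorization Nat.card_pos.ne').mp hbig

theorem ps_backward (P : Sylow p G) (hbig : p ^ 2 ∣ Nat.card G) (x : G)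
    (hx : ∃ k : ℕ, orderOf x = p ^ k)
    (hc : (Nat.card (Subgroup.centralizer ({x} : Set G))).factorization p = 2) :
    (⁅(P : Subgroup G), (P : Subgroup G)⁆).relIndex (P : Subgroup G) = p ^ 2 := by
  obtain ⟨g, hg, hcard⟩ := ps_extremal P x hx
  rw [hc] at hcard
  rw [← ps_sub_comm_index]
  apply ps_conv P.isPGroup' (ps_sylow_sq_dvd P hbig) ⟨g * x * g⁻¹, hg⟩
  rw [ps_sub_card_centralizer]
  exact hcard

theorem ps_abelian_case (P : Sylow p G)
    (h : (⁅(P : Subgroup G), (P : Subgroup G)⁆).relIndex (P : Subgroup G) = p ^ 2)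
    (hab : ⁅(P : Subgroup G), (P : Subgroup G)⁆ = ⊥) :
    ∃ x : G, (∃ k : ℕ, orderOf x = p ^ k) ∧
      (Nat.card (Subgroup.centralizer ({x} : Set G))).factorization p = 2 := by
  refine ⟨1, ⟨0, by simp⟩, ?_⟩
  have h1 : Subgroup.centralizer ({(1 : G)} : Set G) = ⊤ := by
    rw [eq_top_iff]
    intro y _
    rw [Subgroup.mem_centralizer_iff]
    intro z hz
    rw [Set.mem_singleton_iff] at hz
    rw [hz, one_mul, mul_one]
  rw [h1, Subgroup.card_top]
  rw [hab, Subgroup.relIndex_bot_left, Sylow.card_eq_multiplicity] at h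
  exact Nat.pow_right_injective hp.out.two_le h

theorem ps_step2 (P : Sylow p G) (hcore : Cfsg.pPrimeCore p G = ⊥)
    (hcore' : (⁅(P : Subgroup G), (P : Subgroup G)⁆).normalCore = ⊥)
    (N : Subgroup G) [hN : N.Normal] (hne : N ≠ ⊥) :
    ¬ N ⊓ (P : Subgroup G) ≤ ⁅(P : Subgroup G), (P : Subgroup G)⁆ := by
  intro hle
  have hfr : N ⊓ (P : Subgroup G)
      ≤ (frattini ↥(P : Subgroup G)).map (P : Subgroup G).subtype := by
    refine le_trans hle ?_
    rw [← cx_map_commutator]
    exact Subgroup.map_mono (Cfsg.Agent.Lib.Helper1.pgroup_commutator_le_frattini P.isPGroup')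
  have ht := Cfsg.Agent.Lib.Helper1.Tate.tate P N hfr
  have hRn := Cfsg.Agent.Lib.Helper1.pResidual_normal (G := ↥N) p
  have hT : (Cfsg.pResidual p ↥N).map N.subtype = ⊥ := by
    apply Cfsg.Agent.Lib.helper23.zq_sub_eq_bot hcore N _ hN (Subgroup.map_subtype_le _)
    · rw [Subgroup.subgroupOf, Subgroup.comap_map_eq_self_of_injective N.subtype_injective]
      exact hRn
    · rw [Subgroup.card_map_of_injective N.subtype_injective]
      exact (hp.out.coprime_iff_not_dvd.mpr ht).symm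
  rw [Subgroup.map_eq_bot_iff_of_injective _ N.subtype_injective] at hT
  have hq := Cfsg.Agent.Lib.Helper1.quotient_pResidual_isPGroup (G := ↥N) p
  have hNp : IsPGroup p N := by
    intro n
    obtain ⟨k, hk⟩ := hq (QuotientGroup.mk n)
    refine ⟨k, ?_⟩
    rw [← QuotientGroup.mk_pow, QuotientGroup.eq_one_iff, hT, Subgroup.mem_bot] at hk
    exact hk
  have hNP : N ≤ (P : Subgroup G) := Cfsg.Agent.Lib.Helper13.normal_pgroup_le_sylow N hNp P
  have h1 : N ≤ ⁅(P : Subgroup G), (P : Subgroup G)⁆ := by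
    rw [inf_eq_left.mpr hNP] at hle
    exact hle
  have h2 : N ≤ (⁅(P : Subgroup G), (P : Subgroup G)⁆).normalCore :=
    Subgroup.normal_le_normalCore.mpr h1
  rw [hcore', le_bot_iff] at h2
  exact hne h2

end GLevel2

end Cfsg.Agent.Lib.Helper24
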