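import Mathlib
import Cfsg.Agent.Lib.Helper24.PSq5

set_option autoImplicit false

namespace Cfsg.Agent.Lib.Helper24

open scoped commutatorElement Pointwise

section Ctx
variable {G : Type*} [Group G] [Finite G] {p : ℕ} [hp : Fact p.Prime]

structure PSqCtx (P : Sylow p G) : Prop where
  hcore : Cfsg.pPrimeCore p G = ⊥
  hcore' : (⁅(P : Subgroup G), (P : Subgroup G)⁆).normalCore = ⊥
  hidx : (⁅(P : Subgroup G), (P : Subgroup G)⁆).relIndex (P : Subgroup G) = p ^ 2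
  hnab : ⁅(P : Subgroup G), (P : Subgroup G)⁆ ≠ ⊥

variable {P : Sylow p G}

theorem PSqCtx.idx' (c : PSqCtx P) : (commutator ↥(P : Subgroup G)).index = p ^ 2 := by
  rw [ps_sub_comm_index]
  exact c.hidx

theorem PSqCtx.not_le (c : PSqCtx P) (N : Subgroup G) [N.Normal] (hne : N ≠ ⊥) :
    ¬ N.subgroupOf (P : Subgroup G) ≤ commutator ↥(P : Subgroup G) := by
  intro h
  apply ps_step2 P c.hcore c.hcore' N hne
  rw [← Subgroup.inf_subgroupOf_right] at h
  exact (ps_sub_le_comm (P : Subgroup G) _ inf_le_right).mp h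

theorem PSqCtx.meet_ne_bot (c : PSqCtx P) (M₁ M₂ : Subgroup G) [M₁.Normal] [M₂.Normal]
    (h1 : M₁ ≠ ⊥) (h2 : M₂ ≠ ⊥) : M₁ ⊓ M₂ ≠ ⊥ := by
  intro h
  apply c.hnab
  rw [← ps_sub_comm_eq_bot]
  apply ps_X P.isPGroup' (M₁.subgroupOf (P : Subgroup G)) (M₂.subgroupOf (P : Subgroup G)) _
    (c.not_le M₁ h1) (c.not_le M₂ h2) c.idx'
  rw [eq_bot_iff]
  intro x hx
  have hx' : (x : G) ∈ M₁ ⊓ M₂ := ⟨hx.1, hx.2⟩
  rw [h, Subgroup.mem_bot] at hx'
  rw [Subgroup.mem_bot]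
  exact Subtype.ext hx'

theorem PSqCtx.exists_min (c : PSqCtx P) :
    ∃ N : Subgroup G, N.Normal ∧ N ≠ ⊥ ∧ ∀ M : Subgroup G, M.Normal → M ≠ ⊥ → N ≤ M := by
  have hnt : Nontrivial G := by
    by_contra hcon
    rw [not_nontrivial_iff_subsingleton] at hcon
    apply c.hnab
    exact Subsingleton.elim _ _
  obtain ⟨N, hN, hne, hmin⟩ := Cfsg.Agent.Lib.Helper1.exists_minimal_normal (G := G)
  refine ⟨N, hN, hne, fun M hM hMne => ?_⟩
  have h1 : N ⊓ M ≠ ⊥ := c.meet_ne_bot N M hne hMne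
  have h2 : (N ⊓ M).Normal := Subgroup.normal_inf_normal N M
  rcases hmin (N ⊓ M) h2 inf_le_left with h | h
  · exact absurd h h1
  · rw [← h]
    exact inf_le_right

theorem PSqCtx.sub_facts (c : PSqCtx P) (N : Subgroup G) [N.Normal] (hne : N ≠ ⊥) :
    ⁅(P : Subgroup G), (P : Subgroup G)⁆ ≤ N ∧ (N.subgroupOf (P : Subgroup G)).index ∣ p := by
  obtain ⟨h1, h2⟩ := ps_F P.isPGroup' (N.subgroupOf (P : Subgroup G)) (c.not_le N hne) c.idx'
  refine ⟨?_, h2⟩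
  rw [ps_sub_comm] at h1
  intro x hx
  have hxP : x ∈ (P : Subgroup G) := ps_comm_le_self _ hx
  exact h1 (show (⟨x, hxP⟩ : (P : Subgroup G)) ∈ _ from hx)

theorem ps_orderOf_of_mem (P : Sylow p G) (w : G) (hw : w ∈ (P : Subgroup G)) :
    ∃ k : ℕ, orderOf w = p ^ k := by
  obtain ⟨k, hk⟩ := P.isPGroup' ⟨w, hw⟩
  have h1 : w ^ p ^ k = 1 := congrArg Subtype.val hk
  obtain ⟨j, _, hj⟩ := (Nat.dvd_prime_pow hp.out).mp (orderOf_dvd_of_pow_eq_one h1)
  exact ⟨j, hj⟩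

theorem PSqCtx.finish (c : PSqCtx P) (N : Subgroup G) [hN : N.Normal]
    (hidx : (N.subgroupOf (P : Subgroup G)).index = p)
    (hab : ∀ a ∈ N ⊓ (P : Subgroup G), ∀ b ∈ N ⊓ (P : Subgroup G), a * b = b * a) :
    ∃ x : G, (∃ k : ℕ, orderOf x = p ^ k) ∧
      (Nat.card (Subgroup.centralizer ({x} : Set G))).factorization p = 2 := by
  have hex : ∃ w : (P : Subgroup G), w ∉ N.subgroupOf (P : Subgroup G) := by
    by_contra hcon
    push Not at hcon
    have : N.subgroupOf (P : Subgroup G) = ⊤ := by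
      rw [eq_top_iff]
      intro x _
      exact hcon x
    rw [this, Subgroup.index_top] at hidx
    exact hp.out.one_lt.ne hidx
  obtain ⟨w, hw⟩ := hex
  have habR : ⁅N.subgroupOf (P : Subgroup G), N.subgroupOf (P : Subgroup G)⁆ = ⊥ := by
    rw [Subgroup.commutator_eq_bot_iff_le_centralizer]
    intro a ha
    rw [Subgroup.mem_centralizer_iff]
    intro b hb
    apply Subtype.ext
    exact hab b.1 ⟨hb, b.2⟩ a.1 ⟨ha, a.2⟩
  have hH : ∀ w' : (P : Subgroup G), w' ∉ N.subgroupOf (P : Subgroup G) →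
      Nat.card (Subgroup.centralizer ({w'} : Set (P : Subgroup G))) = p ^ 2 := fun w' hw' =>
    ps_H (N.subgroupOf (P : Subgroup G)) hidx habR c.idx' w' hw'
  obtain ⟨g, hg, hcard⟩ := ps_extremal P w.1 (ps_orderOf_of_mem P w.1 w.2)
  have hxN : (⟨g * w.1 * g⁻¹, hg⟩ : (P : Subgroup G)) ∉ N.subgroupOf (P : Subgroup G) := by
    intro h
    apply hw
    have h1 : g * w.1 * g⁻¹ ∈ N := h
    have h2 := hN.conj_mem _ h1 g⁻¹
    have h3 : g⁻¹ * (g * w.1 * g⁻¹) * g⁻¹⁻¹ = w.1 := by group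
    rw [h3] at h2
    exact h2
  have h4 := hH _ hxN
  rw [ps_sub_card_centralizer] at h4
  rw [h4] at hcard
  refine ⟨w.1, ps_orderOf_of_mem P w.1 w.2, ?_⟩
  exact (Nat.pow_right_injective hp.out.two_le hcard).symm

theorem PSqCtx.abelian_case (c : PSqCtx P) (N : Subgroup G) [hN : N.Normal] (hne : N ≠ ⊥)
    (hab : ∀ a ∈ N, ∀ b ∈ N, a * b = b * a) :
    ∃ x : G, (∃ k : ℕ, orderOf x = p ^ k) ∧
      (Nat.card (Subgroup.centralizer ({x} : Set G))).factorization p = 2 := by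
  obtain ⟨h1, h2⟩ := c.sub_facts N hne
  apply c.finish N _ (fun a ha b hb => hab a ha.1 b hb.1)
  rcases (Nat.dvd_prime hp.out).mp h2 with h | h
  · exfalso
    rw [Subgroup.index_eq_one, Subgroup.subgroupOf_eq_top] at h
    apply c.hnab
    rw [Subgroup.commutator_eq_bot_iff_le_centralizer]
    intro a ha
    rw [Subgroup.mem_centralizer_iff]
    intro b hb
    exact hab b (h hb) a (h ha)
  · exact h

end Ctx

end Cfsg.Agent.Lib.Helper24
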