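import Mathlib
import Cfsg.Agent.Lib.Helper24.PSq6

set_option autoImplicit false

namespace Cfsg.Agent.Lib.Helper24

open scoped commutatorElement Pointwise
open Cfsg.Agent.Lib.Helper18 (conjSub mem_conjSub conj_mem_conjSub)

section MinIn
variable {G : Type*} [Group G]

def PsNorm (N M : Subgroup G) : Prop := ∀ n ∈ N, ∀ x ∈ M, n * x * n⁻¹ ∈ M

def PsMinIn (N L : Subgroup G) : Prop :=
  L ≠ ⊥ ∧ L ≤ N ∧ PsNorm N L ∧ ∀ M : Subgroup G, M ≤ L → M ≠ ⊥ → PsNorm N M → M = L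

theorem PsNorm.le_normalizer {N M : Subgroup G} (h : PsNorm N M) :
    N ≤ Subgroup.normalizer (M : Set G) := by
  intro n hn
  rw [Subgroup.mem_normalizer_iff]
  intro x
  constructor
  · exact h n hn x
  · intro hx
    have := h n⁻¹ (inv_mem hn) _ hx
    have e : n⁻¹ * (n * x * n⁻¹) * n⁻¹⁻¹ = x := by group
    rwa [e] at this

theorem PsNorm.cj {N M : Subgroup G} [hN : N.Normal] (h : PsNorm N M) (g : G) :
    PsNorm N (conjSub g M) := by
  intro n hn x hx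
  rw [mem_conjSub] at hx ⊢
  have h1 : g⁻¹ * n * g ∈ N := by
    have := hN.conj_mem n hn g⁻¹
    simpa using this
  have h2 := h _ h1 _ hx
  have e : g⁻¹ * n * g * (g⁻¹ * x * g) * (g⁻¹ * n * g)⁻¹ = g⁻¹ * (n * x * n⁻¹) * g := by group
  rwa [e] at h2

theorem PsNorm.inf {N M₁ M₂ : Subgroup G} (h1 : PsNorm N M₁) (h2 : PsNorm N M₂) :
    PsNorm N (M₁ ⊓ M₂) := fun n hn x hx => ⟨h1 n hn x hx.1, h2 n hn x hx.2⟩

theorem PsNorm.centralizer {N M : Subgroup G} (h : PsNorm N M) :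
    PsNorm N (Subgroup.centralizer (M : Set G)) := by
  intro n hn c hc
  rw [Subgroup.mem_centralizer_iff] at hc ⊢
  intro l hl
  have h1 : n⁻¹ * l * n⁻¹⁻¹ ∈ M := h n⁻¹ (inv_mem hn) l hl
  have h2 := hc _ h1
  calc l * (n * c * n⁻¹) = n * ((n⁻¹ * l * n⁻¹⁻¹) * c) * n⁻¹ := by group
    _ = n * (c * (n⁻¹ * l * n⁻¹⁻¹)) * n⁻¹ := by rw [h2]
    _ = n * c * n⁻¹ * l := by group

theorem conjSub_ne_bot {L : Subgroup G} (h : L ≠ ⊥) (g : G) : conjSub g L ≠ ⊥ := by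
  intro h0
  apply h
  exact (Subgroup.map_eq_bot_iff_of_injective _ (MulAut.conj g).injective).mp h0

theorem conjSub_inv_conjSub (g : G) (L : Subgroup G) : conjSub g⁻¹ (conjSub g L) = L := by
  rw [Cfsg.Agent.Lib.Helper18.conjSub_mul, inv_mul_cancel, Cfsg.Agent.Lib.Helper18.conjSub_one]

theorem conjSub_conjSub_inv (g : G) (L : Subgroup G) : conjSub g (conjSub g⁻¹ L) = L := by
  rw [Cfsg.Agent.Lib.Helper18.conjSub_mul, mul_inv_cancel, Cfsg.Agent.Lib.Helper18.conjSub_one]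

theorem PsMinIn.cj {N L : Subgroup G} [hN : N.Normal] (h : PsMinIn N L) (g : G) :
    PsMinIn N (conjSub g L) := by
  obtain ⟨h1, h2, h3, h4⟩ := h
  refine ⟨conjSub_ne_bot h1 g, ?_, h3.cj g, ?_⟩
  · rintro _ ⟨y, hy, rfl⟩
    exact hN.conj_mem y (h2 hy) g
  · intro M hM hM0 hMn
    have h5 : conjSub g⁻¹ M = L := by
      apply h4
      · have := Cfsg.Agent.Lib.Helper18.conjSub_mono (g := g⁻¹) hM
        rwa [conjSub_inv_conjSub] at this
      · exact conjSub_ne_bot hM0 g⁻¹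
      · exact hMn.cj g⁻¹
    rw [← h5, conjSub_conjSub_inv]

theorem PsMinIn.disjoint {N L₁ L₂ : Subgroup G} (h1 : PsMinIn N L₁) (h2 : PsMinIn N L₂)
    (hne : L₁ ≠ L₂) : L₁ ⊓ L₂ = ⊥ := by
  by_contra h0
  have hn : PsNorm N (L₁ ⊓ L₂) := h1.2.2.1.inf h2.2.2.1
  have e1 := h1.2.2.2 _ inf_le_left h0 hn
  have e2 := h2.2.2.2 _ inf_le_right h0 hn
  exact hne (e1.symm.trans e2)

theorem PsMinIn.commute {N L₁ L₂ : Subgroup G} (h1 : PsMinIn N L₁) (h2 : PsMinIn N L₂)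
    (hne : L₁ ≠ L₂) (a : G) (ha : a ∈ L₁) (b : G) (hb : b ∈ L₂) : a * b = b * a := by
  have hd := h1.disjoint h2 hne
  have hc : a * b * a⁻¹ * b⁻¹ ∈ L₁ ⊓ L₂ := by
    constructor
    · have h3 := h1.2.2.1 b (h2.2.1 hb) a⁻¹ (inv_mem ha)
      have e : a * b * a⁻¹ * b⁻¹ = a * (b * a⁻¹ * b⁻¹) := by group
      rw [e]
      exact L₁.mul_mem ha h3
    · have h3 := h2.2.2.1 a (h1.2.1 ha) b hb
      exact L₂.mul_mem h3 (inv_mem hb)
  rw [hd, Subgroup.mem_bot] at hc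
  calc a * b = (a * b * a⁻¹ * b⁻¹) * (b * a) := by group
    _ = b * a := by rw [hc, one_mul]

theorem ps_le_of_conj_le {N L K : Subgroup G}
    (hmin : ∀ M : Subgroup G, M.Normal → M ≠ ⊥ → N ≤ M) (hL : L ≠ ⊥)
    (h : ∀ g : G, conjSub g L ≤ K) : N ≤ K := by
  have h1 : N ≤ Subgroup.normalClosure (L : Set G) := by
    apply hmin _ Subgroup.normalClosure_normal
    intro h0
    apply hL
    rw [eq_bot_iff, ← h0]
    exact Subgroup.le_normalClosure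
  refine le_trans h1 ?_
  unfold Subgroup.normalClosure
  rw [Subgroup.closure_le]
  intro x hx
  rw [Group.mem_conjugatesOfSet_iff] at hx
  obtain ⟨a, ha, hax⟩ := hx
  obtain ⟨c, hc⟩ := isConj_iff.mp hax
  rw [← hc]
  exact h c (conj_mem_conjSub ha)

end MinIn

end Cfsg.Agent.Lib.Helper24
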