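import Mathlib
import Cfsg.Agent.Lib.Helper24.PSq7

set_option autoImplicit false

namespace Cfsg.Agent.Lib.Helper24

open scoped commutatorElement Pointwise
open Cfsg.Agent.Lib.Helper18 (conjSub mem_conjSub conj_mem_conjSub)

section MinIn2
variable {G : Type*} [Group G]

theorem ps_exists_minIn [Finite G] (N : Subgroup G) (hne : N ≠ ⊥) (hns : ¬ IsSimpleGroup ↥N) :
    ∃ L : Subgroup G, PsMinIn N L ∧ L ≠ N := by
  have hnt : Nontrivial ↥N := (Subgroup.nontrivial_iff_ne_bot N).mpr hne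
  have hex : ∃ H : Subgroup ↥N, H.Normal ∧ H ≠ ⊥ ∧ H ≠ ⊤ := by
    by_contra hcon
    apply hns
    refine ⟨fun H hH => ?_⟩
    by_contra h1
    push Not at h1
    exact hcon ⟨H, hH, h1.1, h1.2⟩
  obtain ⟨H, hHn, hH0, hH1⟩ := hex
  set M₀ : Subgroup G := H.map N.subtype with hM₀
  have hM₀N : M₀ ≤ N := Subgroup.map_subtype_le H
  have hM₀0 : M₀ ≠ ⊥ := by
    intro h
    exact hH0 ((Subgroup.map_eq_bot_iff_of_injective _ N.subtype_injective).mp h)
  have hM₀ne : M₀ ≠ N := by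
    intro h
    apply hH1
    rw [eq_top_iff]
    intro x _
    have hx : (x : G) ∈ M₀ := by rw [h]; exact x.2
    obtain ⟨y, hy, hyx⟩ := hx
    have : y = x := Subtype.ext hyx
    rw [← this]
    exact hy
  have hM₀n : PsNorm N M₀ := by
    rintro n hn _ ⟨y, hy, rfl⟩
    refine ⟨⟨n, hn⟩ * y * ⟨n, hn⟩⁻¹, hHn.conj_mem y hy ⟨n, hn⟩, rfl⟩
  have hfin : {M : Subgroup G | M ≠ ⊥ ∧ M ≤ M₀ ∧ PsNorm N M}.Finite := Set.toFinite _
  have hnon : {M : Subgroup G | M ≠ ⊥ ∧ M ≤ M₀ ∧ PsNorm N M}.Nonempty :=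
    ⟨M₀, hM₀0, le_rfl, hM₀n⟩
  obtain ⟨L, hL⟩ := hfin.exists_minimal hnon
  obtain ⟨⟨hL0, hLM, hLn⟩, hLmin⟩ := hL
  refine ⟨L, ⟨hL0, le_trans hLM hM₀N, hLn, ?_⟩, ?_⟩
  · intro M hML hM0 hMn
    exact le_antisymm hML (hLmin ⟨hM0, le_trans hML hLM, hMn⟩ hML)
  · intro h
    apply hM₀ne
    exact le_antisymm hM₀N (h ▸ hLM)

variable {N L : Subgroup G} [hN : N.Normal]

theorem PsMinIn.center_eq_bot (h : PsMinIn N L)
    (hmin : ∀ M : Subgroup G, M.Normal → M ≠ ⊥ → N ≤ M)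
    (hnab : ∃ a ∈ N, ∃ b ∈ N, a * b ≠ b * a) :
    L ⊓ Subgroup.centralizer (L : Set G) = ⊥ := by
  by_contra h0
  have hn : PsNorm N (L ⊓ Subgroup.centralizer (L : Set G)) := h.2.2.1.inf h.2.2.1.centralizer
  have hLab : L ≤ Subgroup.centralizer (L : Set G) := by
    have e := h.2.2.2 (L ⊓ Subgroup.centralizer (L : Set G)) inf_le_left h0 hn
    intro x hx
    rw [← e] at hx
    exact hx.2
  have hcomm : ∀ g k : G, ∀ a ∈ conjSub g L, ∀ b ∈ conjSub k L, a * b = b * a := by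
    intro g k a ha b hb
    by_cases he : conjSub g L = conjSub k L
    · rw [he] at ha
      rw [mem_conjSub] at ha hb
      have h1 := hLab ha
      rw [Subgroup.mem_centralizer_iff] at h1
      have h2 := h1 _ hb
      calc a * b = k * ((k⁻¹ * a * k) * (k⁻¹ * b * k)) * k⁻¹ := by group
        _ = k * ((k⁻¹ * b * k) * (k⁻¹ * a * k)) * k⁻¹ := by rw [h2]
        _ = b * a := by group
    · exact (h.cj g).commute (h.cj k) he a ha b hb
  have h1 : ∀ k : G, N ≤ Subgroup.centralizer (conjSub k L : Set G) := by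
    intro k
    apply ps_le_of_conj_le hmin h.1
    intro g a ha
    rw [Subgroup.mem_centralizer_iff]
    intro b hb
    exact (hcomm g k a ha b hb).symm
  have h2 : N ≤ Subgroup.centralizer (N : Set G) := by
    apply ps_le_of_conj_le hmin h.1
    intro k b hb
    rw [Subgroup.mem_centralizer_iff]
    intro n hn'
    have h3 := h1 k hn'
    rw [Subgroup.mem_centralizer_iff] at h3
    exact (h3 b hb).symm
  obtain ⟨a, ha, b, hb, hab⟩ := hnab
  apply hab
  have h3 := h2 ha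
  rw [Subgroup.mem_centralizer_iff] at h3
  exact (h3 b hb).symm

theorem PsMinIn.conj_eq_or_le (h : PsMinIn N L) (g : G) :
    conjSub g L = L ∨ conjSub g L ≤ N ⊓ Subgroup.centralizer (L : Set G) := by
  by_cases he : conjSub g L = L
  · exact Or.inl he
  · right
    intro a ha
    refine Subgroup.mem_inf.mpr ⟨(h.cj g).2.1 ha, ?_⟩
    rw [Subgroup.mem_centralizer_iff]
    intro b hb
    exact ((h.cj g).commute h he a ha b hb).symm

theorem PsMinIn.gen (h : PsMinIn N L) (hmin : ∀ M : Subgroup G, M.Normal → M ≠ ⊥ → N ≤ M) :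
    ∀ n ∈ N, ∃ a ∈ L, ∃ b ∈ N ⊓ Subgroup.centralizer (L : Set G), n = a * b := by
  have hc : ∀ (m : L) (n : (N ⊓ Subgroup.centralizer (L : Set G) : Subgroup G)),
      Commute (L.subtype m) ((N ⊓ Subgroup.centralizer (L : Set G)).subtype n) := by
    intro m n
    have h1 : n.1 ∈ Subgroup.centralizer (L : Set G) := n.2.2
    rw [Subgroup.mem_centralizer_iff] at h1
    exact h1 m.1 m.2
  have hr := MonoidHom.noncommCoprod_range L.subtype
    (N ⊓ Subgroup.centralizer (L : Set G)).subtype hc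
  rw [Subgroup.range_subtype, Subgroup.range_subtype] at hr
  have hle : N ≤ L ⊔ (N ⊓ Subgroup.centralizer (L : Set G)) := by
    apply ps_le_of_conj_le hmin h.1
    intro g
    rcases h.conj_eq_or_le g with h1 | h1
    · rw [h1]; exact le_sup_left
    · exact le_trans h1 le_sup_right
  intro n hn
  have h2 := hle hn
  rw [← hr] at h2
  obtain ⟨⟨a, b⟩, hab⟩ := h2
  exact ⟨a.1, a.2, b.1, b.2, hab.symm⟩

theorem PsMinIn.exists_conj_ne (h : PsMinIn N L)
    (hmin : ∀ M : Subgroup G, M.Normal → M ≠ ⊥ → N ≤ M) (hne : L ≠ N) :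
    ∃ g : G, conjSub g L ≠ L := by
  by_contra hcon
  push Not at hcon
  apply hne
  apply le_antisymm h.2.1
  apply ps_le_of_conj_le hmin h.1
  intro g
  rw [hcon g]

end MinIn2

end Cfsg.Agent.Lib.Helper24
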