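import Mathlib
import Cfsg.Agent.Lib.Helper24.PSq8

set_option autoImplicit false

namespace Cfsg.Agent.Lib.Helper24

open scoped commutatorElement Pointwise
open Cfsg.Agent.Lib.Helper18 (conjSub mem_conjSub conj_mem_conjSub IsSylowIn)

section SylCount
variable {G : Type*} [Group G] [Finite G] {p : ℕ} [hp : Fact p.Prime]

theorem ps_sylowIn_card {Q H : Subgroup G} (h : IsSylowIn p Q H) :
    Nat.card Q = p ^ (Nat.card H).factorization p := by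
  obtain ⟨n, hn⟩ := IsPGroup.iff_card.mp h.isPGroup
  have h1 := Subgroup.card_mul_index (Q.subgroupOf H)
  have h2 : Nat.card (Q.subgroupOf H) = Nat.card Q :=
    Nat.card_congr (Subgroup.subgroupOfEquivOfLe h.le).toEquiv
  have h3 : (Q.subgroupOf H).index = Q.relIndex H := rfl
  rw [h2, h3, hn] at h1
  have hcop : ¬ p ∣ Q.relIndex H := h.not_dvd
  have hne : Q.relIndex H ≠ 0 := by
    intro h0
    rw [h0, mul_zero] at h1
    exact Nat.card_pos.ne' h1.symm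
  rw [hn, ← h1, Nat.factorization_mul (pow_ne_zero n hp.out.ne_zero) hne]
  simp only [Finsupp.coe_add, Pi.add_apply]
  rw [hp.out.factorization_pow, Nat.factorization_eq_zero_of_not_dvd hcop]
  simp

theorem ps_mul_inj (R Q Q₂ : Subgroup G) (hQR : Q ≤ R) (hQ₂R : Q₂ ≤ R) (hinf : Q ⊓ Q₂ = ⊥) :
    Function.Injective (fun x : Q × Q₂ => (⟨x.1.1 * x.2.1, R.mul_mem (hQR x.1.2)
    (hQ₂R x.2.2)⟩ : R)) := by
  rintro ⟨a, b⟩ ⟨a', b'⟩ h
  have h1 : a.1 * b.1 = a'.1 * b'.1 := congrArg Subtype.val h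
  have h2 : a'.1⁻¹ * a.1 = b'.1 * b.1⁻¹ := by
    calc a'.1⁻¹ * a.1 = a'.1⁻¹ * (a.1 * b.1) * b.1⁻¹ := by group
      _ = a'.1⁻¹ * (a'.1 * b'.1) * b.1⁻¹ := by rw [h1]
      _ = b'.1 * b.1⁻¹ := by group
  have h3 : a'.1⁻¹ * a.1 ∈ Q ⊓ Q₂ :=
    ⟨Q.mul_mem (inv_mem a'.2) a.2, by rw [h2]; exact Q₂.mul_mem b'.2 (inv_mem b.2)⟩
  rw [hinf, Subgroup.mem_bot] at h3
  have h4 : a.1 = a'.1 := by
    calc a.1 = a'.1 * (a'.1⁻¹ * a.1) := by group
      _ = a'.1 := by rw [h3, mul_one]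
  have h5 : b.1 = b'.1 := by
    rw [h4] at h1
    exact mul_left_cancel h1
  exact Prod.ext (Subtype.ext h4) (Subtype.ext h5)

theorem ps_gen_of_card (R Q Q₂ : Subgroup G) (hQR : Q ≤ R) (hQ₂R : Q₂ ≤ R) (hinf : Q ⊓ Q₂ = ⊥)
    (hcard : Nat.card R ≤ Nat.card Q * Nat.card Q₂) :
    ∀ r ∈ R, ∃ a ∈ Q, ∃ b ∈ Q₂, r = a * b := by
  have hbij := (ps_mul_inj R Q Q₂ hQR hQ₂R hinf).bijective_of_nat_card_le
    (by rw [Nat.card_prod]; exact hcard)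
  intro r hr
  obtain ⟨⟨a, b⟩, hab⟩ := hbij.2 ⟨r, hr⟩
  exact ⟨a.1, a.2, b.1, b.2, (congrArg Subtype.val hab).symm⟩

end SylCount

end Cfsg.Agent.Lib.Helper24
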