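import Mathlib
import Cfsg.Agent.Lib.Helper24.PSq9

set_option autoImplicit false

namespace Cfsg.Agent.Lib.Helper24

open scoped commutatorElement Pointwise
open Cfsg.Agent.Lib.Helper18 (conjSub mem_conjSub conj_mem_conjSub IsSylowIn)

section NA
variable {G : Type*} [Group G] [Finite G] {p : ℕ} [hp : Fact p.Prime]

structure PSqNA (P : Sylow p G) (N L : Subgroup G) : Prop where
  ctx : PSqCtx P
  hN : N.Normal
  hNne : N ≠ ⊥
  hmin : ∀ M : Subgroup G, M.Normal → M ≠ ⊥ → N ≤ M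
  hnab : ∃ a ∈ N, ∃ b ∈ N, a * b ≠ b * a
  hL : PsMinIn N L
  hLne : L ≠ N

variable {P : Sylow p G} {N L : Subgroup G}

def psM (N L : Subgroup G) : Subgroup G := N ⊓ Subgroup.centralizer (L : Set G)

theorem PSqNA.cj (c : PSqNA P N L) (g : G) : PSqNA P N (conjSub g L) := by
  have := c.hN
  refine ⟨c.ctx, c.hN, c.hNne, c.hmin, c.hnab, c.hL.cj g, ?_⟩
  intro h
  apply c.hLne
  have h1 : conjSub g⁻¹ (conjSub g L) = conjSub g⁻¹ N := by rw [h]
  rw [conjSub_inv_conjSub] at h1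
  rw [h1]
  apply le_antisymm
  · rintro _ ⟨y, hy, rfl⟩
    exact c.hN.conj_mem y hy g⁻¹
  · intro y hy
    rw [mem_conjSub]
    have := c.hN.conj_mem y hy g⁻¹⁻¹
    simpa using this

theorem PSqNA.inf_eq_bot (c : PSqNA P N L) : L ⊓ psM N L = ⊥ := by
  have := c.hN
  have h1 := c.hL.center_eq_bot c.hmin c.hnab
  rw [eq_bot_iff, ← h1]
  intro x hx
  exact ⟨hx.1, hx.2.2⟩

theorem PSqNA.comm (c : PSqNA P N L) : ∀ a ∈ L, ∀ b ∈ psM N L, a * b = b * a := by
  intro a ha b hb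
  have h1 : b ∈ Subgroup.centralizer (L : Set G) := hb.2
  rw [Subgroup.mem_centralizer_iff] at h1
  exact h1 a ha

theorem PSqNA.genN (c : PSqNA P N L) : ∀ n ∈ N, ∃ a ∈ L, ∃ b ∈ psM N L, n = a * b := by
  have := c.hN
  exact c.hL.gen c.hmin

theorem PSqNA.M_le (c : PSqNA P N L) : psM N L ≤ N := inf_le_left

theorem PSqNA.normM (c : PSqNA P N L) : PsNorm N (psM N L) := by
  have hNN : PsNorm N N := fun n hn x hx => N.mul_mem (N.mul_mem hn hx) (inv_mem hn)
  exact hNN.inf c.hL.2.2.1.centralizer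

theorem PSqNA.card_N (c : PSqNA P N L) : Nat.card N = Nat.card L * Nat.card (psM N L) := by
  apply le_antisymm
  · have h1 : N ≤ L ⊔ psM N L := by
      intro n hn
      obtain ⟨a, ha, b, hb, rfl⟩ := c.genN n hn
      exact Subgroup.mul_mem _ (Subgroup.mem_sup_left ha) (Subgroup.mem_sup_right hb)
    exact le_trans (Nat.le_of_dvd Nat.card_pos (Subgroup.card_dvd_of_le h1))
      (ps_card_sup_le L (psM N L) c.comm)
  · exact ps_card_mul_le N L (psM N L) c.hL.2.1 c.M_le c.inf_eq_bot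

theorem PSqNA.sylN (c : PSqNA P N L) : IsSylowIn p ((P : Subgroup G) ⊓ N) N := by
  have := c.hN
  apply (Cfsg.Agent.Lib.Helper18.isSylowIn_top_of_sylow P).inf_of_normal le_top
  rw [Subgroup.normalizer_eq_top]

theorem PSqNA.sylL (c : PSqNA P N L) : IsSylowIn p ((P : Subgroup G) ⊓ L) L := by
  have h := c.sylN.inf_of_normal c.hL.2.1 c.hL.2.2.1.le_normalizer
  rwa [inf_assoc, inf_eq_right.mpr c.hL.2.1] at h

theorem PSqNA.sylM (c : PSqNA P N L) : IsSylowIn p ((P : Subgroup G) ⊓ psM N L) (psM N L) := by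
  have h := c.sylN.inf_of_normal c.M_le c.normM.le_normalizer
  rwa [inf_assoc, inf_eq_right.mpr c.M_le] at h

theorem PSqNA.genR (c : PSqNA P N L) :
    ∀ r ∈ (P : Subgroup G) ⊓ N, ∃ a ∈ (P : Subgroup G) ⊓ L,
      ∃ b ∈ (P : Subgroup G) ⊓ psM N L, r = a * b := by
  apply ps_gen_of_card
  · exact inf_le_inf_left _ c.hL.2.1
  · exact inf_le_inf_left _ c.M_le
  · rw [eq_bot_iff, ← c.inf_eq_bot]
    intro x hx
    exact ⟨hx.1.2, hx.2.2⟩
  · rw [ps_sylowIn_card c.sylN, ps_sylowIn_card c.sylL, ps_sylowIn_card c.sylM, c.card_N,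
      Nat.factorization_mul Nat.card_pos.ne' Nat.card_pos.ne', ← pow_add]
    rfl

theorem PSqNA.subnormal_ne (c : PSqNA P N L) (K : Subgroup G) (hK0 : K ≠ ⊥) (hKN : K ≤ N)
    (hKn : PsNorm N K) : (P : Subgroup G) ⊓ K ≠ ⊥ := by
  intro h0
  apply hK0
  have hs : IsSylowIn p ((P : Subgroup G) ⊓ K) K := by
    have h := c.sylN.inf_of_normal hKN hKn.le_normalizer
    rwa [inf_assoc, inf_eq_right.mpr hKN] at h
  have h1 := ps_sylowIn_card hs
  rw [h0, Subgroup.card_bot] at h1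
  have h2 : (Nat.card K).factorization p = 0 := by
    by_contra hne
    have : 1 < p ^ (Nat.card K).factorization p := Nat.one_lt_pow hne hp.out.one_lt
    omega
  have hcop : (Nat.card K).Coprime p := by
    rw [Nat.coprime_comm, hp.out.coprime_iff_not_dvd]
    intro hd
    have := (hp.out.dvd_iff_one_le_factorization Nat.card_pos.ne').mp hd
    omega
  exact Cfsg.Agent.Lib.helper23.zq_sub_eq_bot c.ctx.hcore N K c.hN hKN
    (Subgroup.normal_subgroupOf_of_le_normalizer hKn.le_normalizer) hcop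

theorem PSqNA.PL_ne (c : PSqNA P N L) : (P : Subgroup G) ⊓ L ≠ ⊥ :=
  c.subnormal_ne L c.hL.1 c.hL.2.1 c.hL.2.2.1

theorem PSqNA.PM_ne (c : PSqNA P N L) : (P : Subgroup G) ⊓ psM N L ≠ ⊥ := by
  apply c.subnormal_ne _ _ c.M_le c.normM
  have := c.hN
  obtain ⟨g, hg⟩ := c.hL.exists_conj_ne c.hmin c.hLne
  intro h0
  rcases c.hL.conj_eq_or_le g with h1 | h1
  · exact hg h1
  · have h2 : conjSub g L ≤ psM N L := h1
    rw [h0, le_bot_iff] at h2
    exact conjSub_ne_bot c.hL.1 g h2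

end NA

end Cfsg.Agent.Lib.Helper24
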