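import Mathlib
import Cfsg.Agent.Lib.Helper24.PSq10

set_option autoImplicit false

namespace Cfsg.Agent.Lib.Helper24

open scoped commutatorElement Pointwise
open Cfsg.Agent.Lib.Helper18 (conjSub mem_conjSub conj_mem_conjSub IsSylowIn)

section NA2
variable {G : Type*} [Group G] [Finite G] {p : ℕ} [hp : Fact p.Prime]
variable {P : Sylow p G} {N L : Subgroup G}

theorem PSqNA.normP_M (c : PSqNA P N L) (hPL : PsNorm (P : Subgroup G) L) :
    PsNorm (P : Subgroup G) (psM N L) := by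
  have hPN : PsNorm (P : Subgroup G) N := fun n _ x hx => c.hN.conj_mem x hx n
  exact hPN.inf hPL.centralizer

theorem PSqNA.sub_inf (c : PSqNA P N L) :
    L.subgroupOf (P : Subgroup G) ⊓ (psM N L).subgroupOf (P : Subgroup G) = ⊥ := by
  rw [eq_bot_iff]
  intro x hx
  rw [Subgroup.mem_bot]
  apply Subtype.ext
  have h1 : x.1 ∈ L ⊓ psM N L := ⟨Subgroup.mem_subgroupOf.mp hx.1, Subgroup.mem_subgroupOf.mp hx.2⟩
  rw [c.inf_eq_bot, Subgroup.mem_bot] at h1
  exact h1

theorem PSqNA.sub_le_sup (c : PSqNA P N L) :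
    N.subgroupOf (P : Subgroup G) ≤
      L.subgroupOf (P : Subgroup G) ⊔ (psM N L).subgroupOf (P : Subgroup G) := by
  intro x hx
  have hx' : x.1 ∈ (P : Subgroup G) ⊓ N := ⟨x.2, Subgroup.mem_subgroupOf.mp hx⟩
  obtain ⟨a, ha, b, hb, hab⟩ := c.genR x.1 hx'
  have e : x = (⟨a, ha.1⟩ : (P : Subgroup G)) * ⟨b, hb.1⟩ := Subtype.ext hab
  rw [e]
  exact Subgroup.mul_mem _ (Subgroup.mem_sup_left (Subgroup.mem_subgroupOf.mpr ha.2))
    (Subgroup.mem_sup_right (Subgroup.mem_subgroupOf.mpr hb.2))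

theorem PSqNA.sup_index (c : PSqNA P N L) :
    (L.subgroupOf (P : Subgroup G) ⊔ (psM N L).subgroupOf (P : Subgroup G)).index ∣ p := by
  have := c.hN
  exact dvd_trans (Subgroup.index_dvd_of_le c.sub_le_sup) (c.ctx.sub_facts N c.hNne).2

theorem PSqNA.not_norm (c : PSqNA P N L) : ¬ PsNorm (P : Subgroup G) L := by
  intro hPL
  have := c.hN
  have hPM := c.normP_M hPL
  have hQn : (L.subgroupOf (P : Subgroup G)).Normal :=
    Subgroup.normal_subgroupOf_of_le_normalizer hPL.le_normalizer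
  have hQ₂n : ((psM N L).subgroupOf (P : Subgroup G)).Normal :=
    Subgroup.normal_subgroupOf_of_le_normalizer hPM.le_normalizer
  have hcne : commutator ↥(P : Subgroup G) ≠ ⊥ := by
    intro h
    exact c.ctx.hnab ((ps_sub_comm_eq_bot (P : Subgroup G)).mp h)
  have hor : L.subgroupOf (P : Subgroup G) ≤ commutator ↥(P : Subgroup G) ∨
      (psM N L).subgroupOf (P : Subgroup G) ≤ commutator ↥(P : Subgroup G) := by
    by_contra hcon
    push Not at hcon
    exact hcne (ps_X P.isPGroup' _ _ c.sub_inf hcon.1 hcon.2 c.ctx.idx')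
  rcases hor with h | h
  · have h0 := ps_Y P.isPGroup' _ _ c.sub_inf c.sup_index h
    rw [Subgroup.subgroupOf_eq_bot, disjoint_iff] at h0
    apply c.PL_ne
    rw [inf_comm]
    exact h0
  · have hinf' : (psM N L).subgroupOf (P : Subgroup G) ⊓ L.subgroupOf (P : Subgroup G) = ⊥ := by
      rw [inf_comm]
      exact c.sub_inf
    have hidx' : ((psM N L).subgroupOf (P : Subgroup G) ⊔ L.subgroupOf (P : Subgroup G)).index ∣ p := by
      rw [sup_comm]
      exact c.sup_index
    have h0 := ps_Y P.isPGroup' _ _ hinf' hidx' h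
    rw [Subgroup.subgroupOf_eq_bot, disjoint_iff] at h0
    apply c.PM_ne
    rw [inf_comm]
    exact h0

end NA2

end Cfsg.Agent.Lib.Helper24
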