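import Mathlib
import Cfsg.Agent.Lib.Helper24.PSq11

set_option autoImplicit false

namespace Cfsg.Agent.Lib.Helper24

open scoped commutatorElement Pointwise
open Cfsg.Agent.Lib.Helper18 (conjSub mem_conjSub conj_mem_conjSub IsSylowIn)

section NA3
variable {G : Type*} [Group G] [Finite G] {p : ℕ} [hp : Fact p.Prime]
variable {P : Sylow p G} {N L : Subgroup G}

theorem ps_pow_not_mem {H : Type*} [Group H] (R : Subgroup H) [R.Normal] (hidx : R.index = p)
    (w : H) (hw : w ∉ R) (k : ℕ) (hk0 : 0 < k) (hkp : k < p) : w ^ k ∉ R := by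
  intro hk
  apply hw
  have hcop : Nat.Coprime k p := by
    rw [Nat.coprime_comm, hp.out.coprime_iff_not_dvd]
    intro hd
    have := Nat.le_of_dvd hk0 hd
    omega
  obtain ⟨m, -, hm⟩ := Nat.exists_mul_mod_eq_one_of_coprime hcop hp.out.one_lt
  have hwp : w ^ p ∈ R := by
    have := Subgroup.pow_index_mem R w
    rwa [hidx] at this
  have e : k * m = p * (k * m / p) + 1 := by
    have := Nat.div_add_mod (k * m) p
    omega
  have h1 : w ^ (k * m) ∈ R := by
    rw [pow_mul]
    exact R.pow_mem hk m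
  rw [e, pow_succ, pow_mul] at h1
  have h2 : (w ^ p) ^ (k * m / p) ∈ R := R.pow_mem hwp _
  have e2 : w = ((w ^ p) ^ (k * m / p))⁻¹ * ((w ^ p) ^ (k * m / p) * w) := by group
  rw [e2]
  exact R.mul_mem (R.inv_mem h2) h1

theorem PSqNA.idx_eq (c : PSqNA P N L) : (N.subgroupOf (P : Subgroup G)).index = p := by
  have := c.hN
  rcases (Nat.dvd_prime hp.out).mp (c.ctx.sub_facts N c.hNne).2 with h | h
  · exfalso
    apply c.not_norm
    rw [Subgroup.index_eq_one, Subgroup.subgroupOf_eq_top] at h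
    intro n hn x hx
    exact c.hL.2.2.1 n (h hn) x hx
  · exact h

theorem PSqNA.conj_le (c : PSqNA P N L) (v : G) (hvP : v ∈ (P : Subgroup G)) (hvN : v ∉ N) :
    conjSub v L ≤ psM N L := by
  have := c.hN
  rcases c.hL.conj_eq_or_le v with h | h
  · exfalso
    apply c.not_norm
    have hvn : v ∈ Subgroup.normalizer (L : Set G) :=
      Cfsg.Agent.Lib.Helper18.mem_normalizer_of_conjSub_le (le_of_eq h)
    have hv' : (⟨v, hvP⟩ : (P : Subgroup G)) ∉ N.subgroupOf (P : Subgroup G) := hvN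
    have hsup := cx_sup_eq_top_of_prime_index hp.out _ c.idx_eq hv'
    have htop : (Subgroup.normalizer (L : Set G)).subgroupOf (P : Subgroup G) = ⊤ := by
      apply cx_eq_top_of_mem _ _ hsup
      · exact hvn
      · intro x hx
        exact c.hL.2.2.1.le_normalizer (Subgroup.mem_subgroupOf.mp hx)
    rw [Subgroup.subgroupOf_eq_top] at htop
    intro n hn x hx
    exact (Subgroup.mem_normalizer_iff.mp (htop hn) x).mp hx
  · exact h

theorem PSqNA.comm_PL (c : PSqNA P N L) :
    ∀ a ∈ (P : Subgroup G) ⊓ L, ∀ b ∈ (P : Subgroup G) ⊓ L, a * b = b * a := by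
  have := c.hN
  have hidx := c.idx_eq
  have hex : ∃ w : (P : Subgroup G), w ∉ N.subgroupOf (P : Subgroup G) := by
    by_contra hcon
    push Not at hcon
    have : N.subgroupOf (P : Subgroup G) = ⊤ := by
      rw [eq_top_iff]
      intro x _
      exact hcon x
    rw [this, Subgroup.index_top] at hidx
    exact hp.out.one_lt.ne hidx
  obtain ⟨w, hw⟩ := hex
  have hmove : ∀ k, 0 < k → k < p → ∀ s ∈ L.subgroupOf (P : Subgroup G),
      psc w s k ∈ (psM N L).subgroupOf (P : Subgroup G) := by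
    intro k hk0 hkp s hs
    have hwk := ps_pow_not_mem (N.subgroupOf (P : Subgroup G)) hidx w hw k hk0 hkp
    have hle := c.conj_le (w ^ k : (P : Subgroup G)).1 (w ^ k : (P : Subgroup G)).2 hwk
    rw [Subgroup.mem_subgroupOf]
    apply hle
    unfold psc
    exact conj_mem_conjSub (Subgroup.mem_subgroupOf.mp hs)
  have hgen : ∀ r ∈ N.subgroupOf (P : Subgroup G), ∃ a ∈ L.subgroupOf (P : Subgroup G),
      ∃ b ∈ (psM N L).subgroupOf (P : Subgroup G), r = a * b := by
    intro x hx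
    have hx' : x.1 ∈ (P : Subgroup G) ⊓ N := ⟨x.2, Subgroup.mem_subgroupOf.mp hx⟩
    obtain ⟨a, ha, b, hb, hab⟩ := c.genR x.1 hx'
    exact ⟨⟨a, ha.1⟩, Subgroup.mem_subgroupOf.mpr ha.2, ⟨b, hb.1⟩,
      Subgroup.mem_subgroupOf.mpr hb.2, Subtype.ext hab⟩
  have hC := ps_C P.isPGroup' (N.subgroupOf (P : Subgroup G)) hidx c.ctx.idx' w hw
    (L.subgroupOf (P : Subgroup G)) ((psM N L).subgroupOf (P : Subgroup G))
    (fun x hx => c.hL.2.1 (Subgroup.mem_subgroupOf.mp hx))
    (fun x hx => c.M_le (Subgroup.mem_subgroupOf.mp hx))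
    (fun a ha b hb => Subtype.ext (c.comm a.1 (Subgroup.mem_subgroupOf.mp ha) b.1
      (Subgroup.mem_subgroupOf.mp hb)))
    c.sub_inf hgen hmove
  intro a ha b hb
  have h1 : ⁅(⟨a, ha.1⟩ : (P : Subgroup G)), ⟨b, hb.1⟩⁆ ∈
      ⁅L.subgroupOf (P : Subgroup G), L.subgroupOf (P : Subgroup G)⁆ :=
    Subgroup.commutator_mem_commutator (Subgroup.mem_subgroupOf.mpr ha.2)
      (Subgroup.mem_subgroupOf.mpr hb.2)
  rw [hC, Subgroup.mem_bot] at h1
  have h2 : a * b * a⁻¹ * b⁻¹ = 1 := by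
    have := congrArg Subtype.val h1
    simpa [commutatorElement_def] using this
  calc a * b = (a * b * a⁻¹ * b⁻¹) * (b * a) := by group
    _ = b * a := by rw [h2, one_mul]

end NA3

end Cfsg.Agent.Lib.Helper24
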