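import Mathlib
import Cfsg.Agent.Lib.Helper24.PSq12

set_option autoImplicit false

namespace Cfsg.Agent.Lib.Helper24

open scoped commutatorElement Pointwise
open Cfsg.Agent.Lib.Helper18 (conjSub mem_conjSub conj_mem_conjSub IsSylowIn)

section NA4
variable {G : Type*} [Group G] [Finite G] {p : ℕ} [hp : Fact p.Prime]
variable {P : Sylow p G} {N L : Subgroup G}

theorem PSqNA.comm_R_le (c : PSqNA P N L) :
    ⁅(P : Subgroup G) ⊓ N, (P : Subgroup G) ⊓ N⁆ ≤ Subgroup.centralizer (L : Set G) := by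
  have h1 := ps_comm_le ((P : Subgroup G) ⊓ N) ((P : Subgroup G) ⊓ L) ((P : Subgroup G) ⊓ psM N L)
    (fun a ha b hb => c.comm a ha.2 b hb.2) c.genR
  have h2 : ⁅(P : Subgroup G) ⊓ L, (P : Subgroup G) ⊓ L⁆ = ⊥ := by
    rw [Subgroup.commutator_eq_bot_iff_le_centralizer]
    intro a ha
    rw [Subgroup.mem_centralizer_iff]
    intro b hb
    exact c.comm_PL b hb a ha
  rw [h2, bot_sup_eq] at h1
  exact le_trans h1 (le_trans inf_le_right inf_le_right)

theorem PSqNA.centN (c : PSqNA P N L) : N ⊓ Subgroup.centralizer (N : Set G) = ⊥ := by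
  have := c.hN
  by_contra h0
  have hn : (N ⊓ Subgroup.centralizer (N : Set G)).Normal := inferInstance
  have h1 := c.hmin _ hn h0
  obtain ⟨a, ha, b, hb, hab⟩ := c.hnab
  apply hab
  have h2 : b ∈ Subgroup.centralizer (N : Set G) := (h1 hb).2
  rw [Subgroup.mem_centralizer_iff] at h2
  exact h2 a ha

theorem PSqNA.comm_R (c : PSqNA P N L) :
    ∀ a ∈ N ⊓ (P : Subgroup G), ∀ b ∈ N ⊓ (P : Subgroup G), a * b = b * a := by
  have := c.hN
  have hbot : ⁅(P : Subgroup G) ⊓ N, (P : Subgroup G) ⊓ N⁆ = ⊥ := by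
    rw [eq_bot_iff, ← c.centN]
    intro x hx
    constructor
    · have h1 : ⁅(P : Subgroup G) ⊓ N, (P : Subgroup G) ⊓ N⁆ ≤ (P : Subgroup G) ⊓ N :=
        ps_comm_le_self _
      exact (h1 hx).2
    · have h2 : N ≤ Subgroup.centralizer ({x} : Set G) := by
        apply ps_le_of_conj_le c.hmin c.hL.1
        intro g y hy
        have h3 := (c.cj g).comm_R_le hx
        rw [Subgroup.mem_centralizer_iff] at h3
        rw [Subgroup.mem_centralizer_iff]
        intro z hz
        rw [Set.mem_singleton_iff] at hz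
        rw [hz]
        exact (h3 y hy).symm
      have h5 : x ∈ Subgroup.centralizer (N : Set G) := by
        rw [Subgroup.mem_centralizer_iff]
        intro n hn
        have h4 := h2 hn
        rw [Subgroup.mem_centralizer_iff] at h4
        exact (h4 x rfl).symm
      exact h5
  intro a ha b hb
  have h1 : ⁅a, b⁆ ∈ ⁅(P : Subgroup G) ⊓ N, (P : Subgroup G) ⊓ N⁆ :=
    Subgroup.commutator_mem_commutator ⟨ha.2, ha.1⟩ ⟨hb.2, hb.1⟩
  rw [hbot, Subgroup.mem_bot, commutatorElement_def] at h1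
  calc a * b = (a * b * a⁻¹ * b⁻¹) * (b * a) := by group
    _ = b * a := by rw [h1, one_mul]

theorem PSqNA.goal (c : PSqNA P N L) :
    ∃ x : G, (∃ k : ℕ, orderOf x = p ^ k) ∧
      (Nat.card (Subgroup.centralizer ({x} : Set G))).factorization p = 2 := by
  have := c.hN
  exact c.ctx.finish N c.idx_eq c.comm_R

end NA4

end Cfsg.Agent.Lib.Helper24
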