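import Mathlib
import Cfsg.Agent.Lib.Helper24.PSq13

set_option autoImplicit false

namespace Cfsg.Agent.Lib.Helper24

open scoped commutatorElement Pointwise

section Fwd
variable {G : Type*} [Group G] [Finite G] {p : ℕ} [hp : Fact p.Prime]

theorem ps_forward (P : Sylow p G) (hcore : Cfsg.pPrimeCore p G = ⊥)
    (hcore' : (⁅(P : Subgroup G), (P : Subgroup G)⁆).normalCore = ⊥)
    (hnas : ¬ ∃ S : Subgroup G, S.Normal ∧ IsSimpleGroup S ∧ ¬ IsMulCommutative S ∧
      Subgroup.centralizer (S : Set G) = ⊥)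
    (h : (⁅(P : Subgroup G), (P : Subgroup G)⁆).relIndex (P : Subgroup G) = p ^ 2) :
    ∃ x : G, (∃ k : ℕ, orderOf x = p ^ k) ∧
      (Nat.card (Subgroup.centralizer ({x} : Set G))).factorization p = 2 := by
  by_cases hab : ⁅(P : Subgroup G), (P : Subgroup G)⁆ = ⊥
  · exact ps_abelian_case P h hab
  · have ctx : PSqCtx P := ⟨hcore, hcore', h, hab⟩
    obtain ⟨N, hN, hNne, hmin⟩ := ctx.exists_min
    by_cases hNab : ∀ a ∈ N, ∀ b ∈ N, a * b = b * a
    · exact ctx.abelian_case N hNne hNab
    · push Not at hNab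
      have hcent : Subgroup.centralizer (N : Set G) = ⊥ := by
        by_contra h0
        have h1 := hmin _ inferInstance h0
        obtain ⟨a, ha, b, hb, hne⟩ := hNab
        apply hne
        have h2 := h1 hb
        rw [Subgroup.mem_centralizer_iff] at h2
        exact h2 a ha
      have hns : ¬ IsSimpleGroup ↥N := by
        intro hs
        apply hnas
        refine ⟨N, hN, hs, ?_, hcent⟩
        intro hc
        obtain ⟨a, ha, b, hb, hne⟩ := hNab
        apply hne
        have := hc.is_comm.comm ⟨a, ha⟩ ⟨b, hb⟩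
        exact congrArg Subtype.val this
      obtain ⟨L, hL, hLne⟩ := ps_exists_minIn N hNne hns
      exact (PSqNA.mk ctx hN hNne hmin hNab hL hLne).goal

end Fwd

end Cfsg.Agent.Lib.Helper24
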