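import Mathlib
import Cfsg.Agent.Lib.helper2.PT.Defs
import Cfsg.Agent.Lib.helper7.BlockCover2
import Cfsg.Agent.Lib.helper7.BlockDefect2
import Cfsg.Agent.Lib.helper7.BlockOsima
import Cfsg.Agent.Lib.helper2.CharInd

set_option autoImplicit false

namespace Cfsg.Agent.Lib.Helper24.PT

universe u

open scoped ComplexConjugate
open Cfsg Cfsg.Agent.Lib.helper2.PT Cfsg.Agent.Lib.helper7 Cfsg.Agent.Lib.helper2
  Cfsg.Agent.Lib.Helper11 Cfsg.Agent.Lib.Helper25

theorem lo_sum_icc {H : Type*} [Group H] [Fintype H] [Fintype (ConjClasses H)] (C : Subgroup H)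
    [Fintype C] (W : H → ℂ) (hW : ∀ g x : H, W (x * g * x⁻¹) = W g) (ξ : C → ℂ) :
    ∑ K : ConjClasses H, W (Quotient.out K) * inducedCentralChar C ξ (Quotient.out K) =
      ∑ h : C, W (h : H) * (ξ h / ξ 1) := by
  classical
  have hicc : ∀ g : H, inducedCentralChar C ξ g =
      ∑ h : C, if IsConj g (h : H) then ξ h / ξ 1 else 0 := by
    intro g
    unfold inducedCentralChar
    rw [h7_finsum_mem_fintype]
    rfl
  simp only [hicc, Finset.mul_sum]
  rw [Finset.sum_comm]
  refine Finset.sum_congr rfl fun h _ => ?_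
  rw [Finset.sum_eq_single (ConjClasses.mk (h : H))]
  · have hc : IsConj (Quotient.out (ConjClasses.mk (h : H))) (h : H) := by
      rw [← ConjClasses.mk_eq_mk_iff_isConj]
      exact Quotient.out_eq _
    rw [if_pos hc]
    obtain ⟨c, hc'⟩ := isConj_iff.mp hc
    have : W (h : H) = W (Quotient.out (ConjClasses.mk (h : H))) := by
      conv_lhs => rw [← hc']
      exact hW _ _
    rw [this]
  · intro K _ hK
    rw [if_neg, mul_zero]
    intro hc
    apply hK
    rw [← ConjClasses.mk_eq_mk_iff_isConj] at hc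
    rw [← hc]
    exact (Quotient.out_eq K).symm
  · intro h'
    exact absurd (Finset.mem_univ _) h'

theorem lo_sum_cc {H : Type*} [Group H] [Fintype H] [Fintype (ConjClasses H)] (W χ : H → ℂ)
    (hW : ∀ g x : H, W (x * g * x⁻¹) = W g) (hχ : ∀ g x : H, χ (x * g * x⁻¹) = χ g) :
    ∑ K : ConjClasses H, W (Quotient.out K) * centralChar χ (Quotient.out K) =
      (∑ g : H, W g * χ g) / χ 1 := by
  have hcl : ∀ g x : H, W (x * g * x⁻¹) * χ (x * g * x⁻¹) / χ 1 = W g * χ g / χ 1 := by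
    intro g x
    rw [hW, hχ]
  rw [Finset.sum_div, h7_sum_eq_sum_conjClasses (fun g => W g * χ g / χ 1) hcl]
  refine Finset.sum_congr rfl fun K _ => ?_
  unfold centralChar
  rw [nsmul_eq_mul]
  ring

theorem lo_ratio {C : Type*} [Group C] [Fintype C] (N : Subgroup C) [hN : N.Normal] [Fintype N]
    (ξ : C → ℂ) (hξ : IsIrrCharacter C ξ) (ρ : N → ℂ) (hρ : ∀ c : C, cj N ρ c = ρ)
    (φ₀ : IrrCharacter N) (h0 : classInner (fun n : N => ξ n) (φ₀ : N → ℂ) ≠ 0) :
    classInner (fun n : N => ξ n) ρ =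
      conj (classInner ρ (φ₀ : N → ℂ)) / (φ₀ : N → ℂ) 1 * ξ 1 := by
  classical
  have : Fintype (IrrCharacter N) := Fintype.ofFinite _
  have hR := isCharacter_restrict (h7_irr_isCharacter hξ) N
  obtain ⟨a, ha, hexp⟩ := isCharacter_expansion hR
  have hφ1 : (φ₀ : N → ℂ) 1 ≠ 0 := irr_one_ne_zero φ₀
  have hterm : ∀ φ : IrrCharacter N, (a φ : ℂ) * classInner (φ : N → ℂ) ρ =
      conj (classInner ρ (φ₀ : N → ℂ)) / (φ₀ : N → ℂ) 1 * ((a φ : ℂ) * (φ : N → ℂ) 1) := by
    intro φ
    by_cases haφ : a φ = 0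
    · rw [haφ]; simp
    · have hcon : classInner (fun n : N => ξ n) (φ : N → ℂ) ≠ 0 := by
        rw [ha φ]
        exact_mod_cast haφ
      obtain ⟨c, hc⟩ := h7_clifford_conj N ξ hξ (φ₀ : N → ℂ) (φ : N → ℂ) φ₀.2 φ.2 h0 hcon
      have h1 : classInner ρ (φ : N → ℂ) = classInner ρ (φ₀ : N → ℂ) := by
        rw [hc]
        have := h7_classInner_cj_cj N ρ (φ₀ : N → ℂ) c
        rwa [hρ c] at this
      have h2 : (φ : N → ℂ) 1 = (φ₀ : N → ℂ) 1 := by
        rw [hc, cj_apply]
        have h3 : (⟨c * ((1 : N) : C) * c⁻¹, hN.conj_mem _ (1 : N).2 c⟩ : N) = 1 :=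
          Subtype.ext (by simp)
        rw [h3]
      rw [Cfsg.Agent.Lib.helper2.classInner_conj_symm, h1, h2]
      field_simp
  have hone : ξ 1 = ∑ φ : IrrCharacter N, (a φ : ℂ) * (φ : N → ℂ) 1 := by
    have := congrFun hexp 1
    simp only [Finset.sum_apply, Pi.smul_apply, smul_eq_mul] at this
    exact this
  conv_lhs => rw [hexp]
  rw [classInner_sum_left']
  simp only [classInner_smul_left']
  rw [Finset.sum_congr rfl (fun φ _ => hterm φ), ← Finset.mul_sum, ← hone]

theorem lo_conj_integral {z : ℂ} (hz : IsIntegral ℤ z) : IsIntegral ℤ (conj z) :=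
  map_isIntegral_int (starRingEnd ℂ) hz

theorem lieOver : LieOverProp.{u} := by
  intro p hp M hM H instG instF K₀ hK₀ instK hcop θ₀ hinv R hR instK₁ θ₁ hgl χ hover f hind ξ hξ
  classical
  have hPr : M.IsPrime := hM.2.1.isPrime
  have : Fintype (ConjClasses H) := Fintype.ofFinite _
  have : Fintype (IrrCharacter H) := Fintype.ofFinite _
  have : Fintype ↥(Subgroup.centralizer (R : Set H)) := Fintype.ofFinite _
  intro hzero
  have hinv' : ∀ g : H, cj K₀ (θ₀ : K₀ → ℂ) g = (θ₀ : K₀ → ℂ) := by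
    intro g
    funext k
    rw [cj_apply]
    exact hinv g k ⟨g * k * g⁻¹, hK₀.conj_mem k k.2 g⟩ rfl
  have hcard0 : (Nat.card K₀ : ℂ) ≠ 0 := by exact_mod_cast Nat.card_pos.ne'
  set c₀ : ℂ := (θ₀ : K₀ → ℂ) 1 * (Nat.card K₀ : ℂ)⁻¹ with hc₀
  have hc₀loc : MemLocalRing M c₀ :=
    h7_memLocalRing_mul hPr (h7_memLocalRing_of_isIntegral hPr (irr_integral θ₀ 1))
      (h7_memLocalRing_inv_natCast hM _ hcop)
  set w : K₀ → ℂ := fun k => c₀ * conj ((θ₀ : K₀ → ℂ) k) with hw
  have hwcj : ∀ x : H, cj K₀ w x = w := by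
    intro x
    funext k
    rw [cj_apply, hw]
    show c₀ * conj ((θ₀ : K₀ → ℂ) ⟨x * k * x⁻¹, _⟩) = c₀ * conj ((θ₀ : K₀ → ℂ) k)
    rw [hinv x k ⟨x * k * x⁻¹, hK₀.conj_mem k k.2 x⟩ rfl]
  set W : H → ℂ := extendByZero K₀ w with hWdef
  have hWcl : ∀ g x : H, W (x * g * x⁻¹) = W g := by
    intro g x
    rw [hWdef, ← extendByZero_cj, hwcj]
  have hWloc : ∀ g : H, MemLocalRing M (W g) := by
    intro g
    by_cases hg : g ∈ K₀
    · rw [hWdef, h7_extendByZero_mem K₀ w g hg, hw]
      exact h7_memLocalRing_mul hPr hc₀loc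
        (h7_memLocalRing_of_isIntegral hPr (lo_conj_integral (irr_integral θ₀ ⟨g, hg⟩)))
    · rw [hWdef, h7_extendByZero_not_mem K₀ w g hg]
      exact h7_memLocalRing_zero hPr
  have hB : ∑ K : ConjClasses H, W (Quotient.out K) * centralChar (χ : H → ℂ) (Quotient.out K) = 1 := by
    rw [lo_sum_cc W (χ : H → ℂ) hWcl (fun g x => irr_conj_invariant χ g x)]
    obtain ⟨e, he, he1, he2⟩ := h7_clifford_invariant K₀ (χ : H → ℂ) χ.2 (θ₀ : K₀ → ℂ) θ₀.2 hover hinv'
    have h1 : ∑ g : H, W g * (χ : H → ℂ) g = (θ₀ : K₀ → ℂ) 1 * (e : ℂ) := by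
      have h2 : ∑ g : H, W g * (χ : H → ℂ) g = ∑ g : H, (χ : H → ℂ) g * extendByZero K₀ w g := by
        refine Finset.sum_congr rfl fun g _ => ?_
        rw [mul_comm]
      rw [h2, h7_sum_mul_extendByZero K₀ w (χ : H → ℂ)]
      have h3 : ∑ k : K₀, (χ : H → ℂ) k * w k =
          c₀ * ∑ k : K₀, (χ : H → ℂ) k * conj ((θ₀ : K₀ → ℂ) k) := by
        rw [Finset.mul_sum]
        refine Finset.sum_congr rfl fun k _ => ?_
        rw [hw]
        ring
      have h4 : ∑ k : K₀, (χ : H → ℂ) k * conj ((θ₀ : K₀ → ℂ) k) = (Nat.card K₀ : ℂ) * (e : ℂ) := by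
        rw [← he1]
        unfold classInner
        field_simp
      rw [h3, h4, hc₀]
      field_simp
    have h5 : (χ : H → ℂ) 1 = (e : ℂ) * (θ₀ : K₀ → ℂ) 1 := by
      have := congrFun he2 1
      simpa using this
    have he0 : (e : ℂ) ≠ 0 := by exact_mod_cast he.ne'
    have hθ1 : (θ₀ : K₀ → ℂ) 1 ≠ 0 := irr_one_ne_zero θ₀
    rw [h1, h5]
    field_simp
  have hχmem : χ ∈ blockOf M (χ : H → ℂ) := h7_sameBlock_refl hPr _
  have hdiff : MemLocalIdeal M
      (∑ K : ConjClasses H, W (Quotient.out K) *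
          inducedCentralChar (Subgroup.centralizer (R : Set H))
            (ξ : Subgroup.centralizer (R : Set H) → ℂ) (Quotient.out K) -
        ∑ K : ConjClasses H, W (Quotient.out K) * centralChar (χ : H → ℂ) (Quotient.out K)) := by
    rw [← Finset.sum_sub_distrib]
    apply h7_memLocalIdeal_sum hPr
    intro K _
    rw [← mul_sub]
    exact h7_memLocalIdeal_mul_left hPr (hWloc _) (hind.2.2 ξ hξ χ hχmem (Quotient.out K))
  have hA : MemLocalIdeal M
      (∑ K : ConjClasses H, W (Quotient.out K) *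
          inducedCentralChar (Subgroup.centralizer (R : Set H))
            (ξ : Subgroup.centralizer (R : Set H) → ℂ) (Quotient.out K)) := by
    rw [lo_sum_icc (Subgroup.centralizer (R : Set H)) W hWcl
      (ξ : Subgroup.centralizer (R : Set H) → ℂ)]
    set ρ : ↥(K₀.subgroupOf (Subgroup.centralizer (R : Set H))) → ℂ :=
      fun k => (θ₀ : K₀ → ℂ) ⟨((k : Subgroup.centralizer (R : Set H)) : H), k.2⟩ with hρ
    set w₁ : ↥(K₀.subgroupOf (Subgroup.centralizer (R : Set H))) → ℂ :=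
      fun k => c₀ * conj (ρ k) with hw₁
    have hWC : ∀ h : Subgroup.centralizer (R : Set H),
        W (h : H) = extendByZero (K₀.subgroupOf (Subgroup.centralizer (R : Set H))) w₁ h := by
      intro h
      by_cases hh : (h : H) ∈ K₀
      · have hh' : h ∈ K₀.subgroupOf (Subgroup.centralizer (R : Set H)) := hh
        rw [hWdef, h7_extendByZero_mem K₀ w _ hh, h7_extendByZero_mem _ w₁ h hh']
      · have hh' : h ∉ K₀.subgroupOf (Subgroup.centralizer (R : Set H)) := hh
        rw [hWdef, h7_extendByZero_not_mem K₀ w _ hh, h7_extendByZero_not_mem _ w₁ h hh']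
    have hξ1 : (ξ : Subgroup.centralizer (R : Set H) → ℂ) 1 ≠ 0 := irr_one_ne_zero ξ
    have hsum1 : ∑ h : Subgroup.centralizer (R : Set H), W (h : H) *
        ((ξ : Subgroup.centralizer (R : Set H) → ℂ) h /
          (ξ : Subgroup.centralizer (R : Set H) → ℂ) 1) =
        c₀ / (ξ : Subgroup.centralizer (R : Set H) → ℂ) 1 *
          ((Nat.card ↥(K₀.subgroupOf (Subgroup.centralizer (R : Set H))) : ℂ) *
            classInner (fun k : ↥(K₀.subgroupOf (Subgroup.centralizer (R : Set H))) =>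
              (ξ : Subgroup.centralizer (R : Set H) → ℂ) k) ρ) := by
      have h2 : ∑ h : Subgroup.centralizer (R : Set H), W (h : H) *
          ((ξ : Subgroup.centralizer (R : Set H) → ℂ) h /
            (ξ : Subgroup.centralizer (R : Set H) → ℂ) 1) =
          ∑ h : Subgroup.centralizer (R : Set H),
            ((ξ : Subgroup.centralizer (R : Set H) → ℂ) h /
              (ξ : Subgroup.centralizer (R : Set H) → ℂ) 1) *
              extendByZero (K₀.subgroupOf (Subgroup.centralizer (R : Set H))) w₁ h := by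
        refine Finset.sum_congr rfl fun h _ => ?_
        rw [hWC h, mul_comm]
      rw [h2, h7_sum_mul_extendByZero (K₀.subgroupOf (Subgroup.centralizer (R : Set H))) w₁
        (fun h => (ξ : Subgroup.centralizer (R : Set H) → ℂ) h /
              (ξ : Subgroup.centralizer (R : Set H) → ℂ) 1)]
      have hcard1 : (Nat.card ↥(K₀.subgroupOf (Subgroup.centralizer (R : Set H))) : ℂ) ≠ 0 := by
        exact_mod_cast Nat.card_pos.ne'
      unfold classInner
      rw [← mul_assoc (Nat.card ↥(K₀.subgroupOf (Subgroup.centralizer (R : Set H))) : ℂ),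
        mul_inv_cancel₀ hcard1, one_mul, Finset.mul_sum]
      refine Finset.sum_congr rfl fun k _ => ?_
      rw [hw₁]
      field_simp
    rw [hsum1]
    have hR := isCharacter_restrict (h7_irr_isCharacter ξ.2)
      (K₀.subgroupOf (Subgroup.centralizer (R : Set H)))
    obtain ⟨φ₀, m, hm, hφ₀⟩ := isCharacter_exists_constituent hR hξ1
    have h0 : classInner (fun k : ↥(K₀.subgroupOf (Subgroup.centralizer (R : Set H))) =>
        (ξ : Subgroup.centralizer (R : Set H) → ℂ) k)
        (φ₀ : ↥(K₀.subgroupOf (Subgroup.centralizer (R : Set H))) → ℂ) ≠ 0 := by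
      rw [hφ₀]
      exact_mod_cast hm.ne'
    have hne : φ₀ ≠ θ₁ := by
      rintro rfl
      exact h0 hzero
    have hρinv : ∀ c : Subgroup.centralizer (R : Set H),
        cj (K₀.subgroupOf (Subgroup.centralizer (R : Set H))) ρ c = ρ := by
      intro c
      funext k
      rw [cj_apply, hρ]
      exact hinv (c : H) ⟨((k : Subgroup.centralizer (R : Set H)) : H), k.2⟩ _ rfl
    rw [lo_ratio (K₀.subgroupOf (Subgroup.centralizer (R : Set H)))
      (ξ : Subgroup.centralizer (R : Set H) → ℂ) ξ.2 ρ hρinv φ₀ h0]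
    obtain ⟨m', hm', hdvd⟩ := hgl φ₀
    obtain ⟨m'', rfl⟩ := hdvd.2 hne
    obtain ⟨n, hn, hn1, hnd⟩ := irr_degree_dvd_card φ₀
    have hρeq : classInner ρ (φ₀ : ↥(K₀.subgroupOf (Subgroup.centralizer (R : Set H))) → ℂ) =
        ((p * m'' : ℕ) : ℂ) := hm'
    rw [hρeq, hn1]
    have hncop : n.Coprime p := by
      have h1 : Nat.card ↥(K₀.subgroupOf (Subgroup.centralizer (R : Set H))) ∣ Nat.card K₀ := by
        have h2 : (K₀.subgroupOf (Subgroup.centralizer (R : Set H))).map
            (Subgroup.centralizer (R : Set H)).subtype ≤ K₀ := by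
          rintro _ ⟨k, hk, rfl⟩
          exact hk
        have h3 := Subgroup.card_dvd_of_le h2
        rwa [Subgroup.card_map_of_injective (Subgroup.subtype_injective _)] at h3
      exact Nat.Coprime.coprime_dvd_left (dvd_trans hnd h1) hcop
    have hn0 : (n : ℂ) ≠ 0 := by exact_mod_cast hn.ne'
    have hform : c₀ / (ξ : Subgroup.centralizer (R : Set H) → ℂ) 1 *
        ((Nat.card ↥(K₀.subgroupOf (Subgroup.centralizer (R : Set H))) : ℂ) *
          (conj (((p * m'' : ℕ) : ℂ)) / (n : ℂ) *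
            (ξ : Subgroup.centralizer (R : Set H) → ℂ) 1)) =
        (p : ℂ) * (c₀ * ((Nat.card ↥(K₀.subgroupOf (Subgroup.centralizer (R : Set H))) : ℂ) *
          ((m'' : ℂ) * (n : ℂ)⁻¹))) := by
      rw [Complex.conj_natCast]
      push_cast
      field_simp
    rw [hform]
    refine h7_memLocalIdeal_mul_right hPr (h7_memLocalIdeal_p hM) ?_
    exact h7_memLocalRing_mul hPr hc₀loc (h7_memLocalRing_mul hPr (h7_memLocalRing_natCast hPr _)
      (h7_memLocalRing_mul hPr (h7_memLocalRing_natCast hPr _)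
        (h7_memLocalRing_inv_natCast hM _ hncop)))
  have h1 : MemLocalIdeal M 1 := by
    have := h7_memLocalIdeal_sub hPr hA hdiff
    rw [sub_sub_cancel, hB] at this
    exact this
  exact h7_not_memLocalIdeal_one hPr h1

end Cfsg.Agent.Lib.Helper24.PT
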