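import Mathlib
import Cfsg.Prelude.Def_Blocks
import Cfsg.Agent.S0139
import Cfsg.Agent.Lib.helper2.CenterIndex
import Cfsg.Agent.Lib.helper2.CharInt
import Cfsg.Agent.Lib.helper7.LocalIdeal
import Cfsg.Agent.Lib.helper7.BlockCover
import Cfsg.Agent.Lib.helper7.BlockOsima

set_option autoImplicit false

namespace Cfsg.Agent.Lib.Helper24

open Cfsg.Agent.Lib.helper7 Cfsg.Agent.Lib.helper2

theorem pb_degree_dvd_index {G : Type*} [Group G] [Finite G] (N : Subgroup G)
    (χ : Cfsg.IrrCharacter G) (hker : ∀ n ∈ N, (χ : G → ℂ) n = (χ : G → ℂ) 1) :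
    ∃ d : ℕ, 0 < d ∧ (χ : G → ℂ) 1 = (d : ℂ) ∧ d ∣ N.index := by
  obtain ⟨n, ρ, hρ, hχ⟩ := χ.2
  haveI := hρ
  refine ⟨Module.finrank ℂ (Fin n → ℂ), ?_, ?_, ?_⟩
  · apply Nat.pos_of_ne_zero
    intro h0
    have h1 : (χ : G → ℂ) 1 = 0 := by
      rw [← hχ, Representation.char_one, h0]
      simp
    obtain ⟨m, hm, hm1, _⟩ := irr_degree_dvd_card χ
    rw [h1] at hm1
    have : (m : ℂ) = 0 := hm1.symm
    have : m = 0 := by exact_mod_cast this
    omega
  · rw [← hχ, Representation.char_one]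
  · apply degree_dvd_index_of_scalar ρ N
    intro a ha
    refine ⟨1, ?_⟩
    rw [one_smul]
    have h1 := hker a ha
    rw [← hχ, Representation.char_one] at h1
    exact (Cfsg.Agent.S0139.result ρ a).mp h1

theorem pb_exists_conj_le_centralizer {G : Type*} [Group G] [Finite G] (p : ℕ) [Fact p.Prime]
    (P : Sylow p G) (g : G) (h : ¬ p ∣ (Subgroup.centralizer ({g} : Set G)).index) :
    ∃ x : G, ∀ y ∈ (P : Subgroup G), (x⁻¹ * y * x) * g = g * (x⁻¹ * y * x) := by
  set C := Subgroup.centralizer ({g} : Set G) with hC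
  have hcard : ¬ p ∣ Nat.card (G ⧸ C) := by
    rw [← Subgroup.index_eq_card]
    exact h
  obtain ⟨q, hq⟩ := P.2.nonempty_fixed_point_of_prime_not_dvd_card (G ⧸ C) hcard
  obtain ⟨x, rfl⟩ := QuotientGroup.mk_surjective q
  refine ⟨x, fun y hy => ?_⟩
  have h1 := hq ⟨y, hy⟩
  have h2 : ((y * x : G) : G ⧸ C) = (x : G ⧸ C) := h1
  rw [QuotientGroup.eq] at h2
  have h3 : x⁻¹ * y * x ∈ C := by
    have := C.inv_mem h2
    have e : ((y * x)⁻¹ * x)⁻¹ = x⁻¹ * y * x := by group
    rw [e] at this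
    exact this
  rw [hC, Subgroup.mem_centralizer_iff] at h3
  exact (h3 g rfl).symm

theorem pb_mem_of_not_dvd {G : Type*} [Group G] [Finite G] (p : ℕ) [Fact p.Prime]
    (P : Sylow p G) (N : Subgroup G) [hN : N.Normal]
    (hC : Subgroup.centralizer ((P : Subgroup G) : Set G) ≤ N) (g : G)
    (h : ¬ p ∣ (Subgroup.centralizer ({g} : Set G)).index) : g ∈ N := by
  obtain ⟨x, hx⟩ := pb_exists_conj_le_centralizer p P g h
  have h1 : x * g * x⁻¹ ∈ Subgroup.centralizer ((P : Subgroup G) : Set G) := by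
    rw [Subgroup.mem_centralizer_iff]
    intro y hy
    have h2 := hx y hy
    have e1 : y * (x * g * x⁻¹) = x * ((x⁻¹ * y * x) * g) * x⁻¹ := by group
    have e2 : x * g * x⁻¹ * y = x * (g * (x⁻¹ * y * x)) * x⁻¹ := by group
    rw [e1, e2, h2]
  have h2 := hC h1
  have h3 := hN.conj_mem _ h2 x⁻¹
  have e : x⁻¹ * (x * g * x⁻¹) * x⁻¹⁻¹ = g := by group
  rw [e] at h3
  exact h3

theorem pb_main {G : Type*} [Group G] [Finite G] (p : ℕ) [Fact p.Prime] (M : Ideal Cfsg.AlgInt)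
    (hM : Cfsg.IsPModular p M) (P : Sylow p G) (N : Subgroup G) [N.Normal] (hidx : ¬ p ∣ N.index)
    (hC : Subgroup.centralizer ((P : Subgroup G) : Set G) ≤ N) (χ : Cfsg.IrrCharacter G)
    (hker : ∀ n ∈ N, (χ : G → ℂ) n = (χ : G → ℂ) 1) :
    Cfsg.SameBlock M (fun _ : G => (1 : ℂ)) (χ : G → ℂ) := by
  have hP := h7_isPrime_of_isPModular hM
  obtain ⟨d, hd0, hd1, hdN⟩ := pb_degree_dvd_index N χ hker
  have hdp : d.Coprime p := by
    apply Nat.Coprime.symm
    rw [Nat.Prime.coprime_iff_not_dvd (Fact.out : p.Prime)]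
    intro h
    exact hidx (h.trans hdN)
  intro g
  unfold Cfsg.centralChar
  by_cases hg : p ∣ (Subgroup.centralizer ({g} : Set G)).index
  · obtain ⟨k, hk⟩ := hg
    have e : (((Subgroup.centralizer ({g} : Set G)).index : ℂ) * (1 : ℂ) / 1 -
        ((Subgroup.centralizer ({g} : Set G)).index : ℂ) * (χ : G → ℂ) g / (χ : G → ℂ) 1) =
        ((k : ℂ) * (((d : ℂ) - (χ : G → ℂ) g) * (d : ℂ)⁻¹)) * (p : ℂ) := by
      rw [hk, hd1]
      have : (d : ℂ) ≠ 0 := by exact_mod_cast hd0.ne'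
      push_cast
      field_simp
    rw [e]
    apply h7_memLocalIdeal_mul_left hP
    · apply h7_memLocalRing_mul hP
      · exact h7_memLocalRing_of_isIntegral hP (isIntegral_algebraMap (R := ℤ) (x := (k : ℤ)) |> fun h => by simpa using h)
      · apply h7_memLocalRing_mul hP
        · apply h7_memLocalRing_sub hP
          · exact h7_memLocalRing_of_isIntegral hP (isIntegral_algebraMap (R := ℤ) (x := (d : ℤ)) |> fun h => by simpa using h)
          · exact h7_memLocalRing_of_isIntegral hP (irr_integral χ g)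
        · exact h7_memLocalRing_inv_natCast hM d hdp
    · have := h7_memLocalIdeal_of_mem hP hM.2.2
      simpa using this
  · have hgN := pb_mem_of_not_dvd p P N hC g hg
    rw [hker g hgN]
    have h1 : (χ : G → ℂ) 1 ≠ 0 := by
      rw [hd1]
      exact_mod_cast hd0.ne'
    have e : (((Subgroup.centralizer ({g} : Set G)).index : ℂ) * (1 : ℂ) / 1 -
        ((Subgroup.centralizer ({g} : Set G)).index : ℂ) * (χ : G → ℂ) 1 / (χ : G → ℂ) 1) = 0 := by
      field_simp
      ring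
    rw [e]
    exact h7_memLocalIdeal_zero hP

end Cfsg.Agent.Lib.Helper24
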