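import Mathlib
import Cfsg.Prelude.Def_Blocks
import Cfsg.Agent.Lib.Helper24.PrincCol3
import Cfsg.Agent.Lib.Helper24.FongReynolds1
import Cfsg.Agent.Lib.Helper26.CoverAll
import Cfsg.Agent.Lib.helper7.BlockCover
import Cfsg.Agent.Lib.helper7.Clifford
import Cfsg.Agent.S0913

set_option autoImplicit false
set_option linter.style.haveILetI false
set_option linter.unusedSectionVars false
set_option linter.unusedVariables false

namespace Cfsg.Agent.Lib.Helper24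

open scoped ComplexConjugate
open Cfsg.Agent.Lib.Helper25 Cfsg.Agent.Lib.helper7 Cfsg.Agent.Lib.helper2

theorem pl_mult_exists {G : Type*} [Group G] [Fintype G] (H : Subgroup G) [Fintype H]
    (χ : Cfsg.IrrCharacter G) (θ : Cfsg.IrrCharacter H) :
    ∃ m : ℕ, Cfsg.classInner (fun n : H => (χ : G → ℂ) n) (θ : H → ℂ) = (m : ℂ) :=
  classInner_character_nat (isCharacter_restrict (isCharacter_of_irr χ) H) (isCharacter_of_irr θ)

theorem pl_res_degree {G : Type*} [Group G] [Fintype G] (H : Subgroup G) [Fintype H]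
    [Fintype (Cfsg.IrrCharacter H)]
    (m : Cfsg.IrrCharacter G → Cfsg.IrrCharacter H → ℕ)
    (hm : ∀ (χ : Cfsg.IrrCharacter G) (θ : Cfsg.IrrCharacter H), Cfsg.classInner (fun n : H => (χ : G → ℂ) n) (θ : H → ℂ) = (m χ θ : ℂ))
    (χ : Cfsg.IrrCharacter G) :
    Cfsg.charDegree (χ : G → ℂ) =
      ∑ θ : Cfsg.IrrCharacter H, m χ θ * Cfsg.charDegree (θ : H → ℂ) := by
  have h1 := classFunction_expansion (fun n : H => (χ : G → ℂ) n) (by
    intro g h
    simp only [Subgroup.coe_mul, Subgroup.coe_inv]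
    exact irr_conj_invariant χ _ _)
  have h2 := congrFun h1 1
  simp only [Finset.sum_apply, Pi.smul_apply, smul_eq_mul, Subgroup.coe_one] at h2
  have h3 : ((Cfsg.charDegree (χ : G → ℂ) : ℕ) : ℂ) =
      ((∑ θ : Cfsg.IrrCharacter H, m χ θ * Cfsg.charDegree (θ : H → ℂ) : ℕ) : ℂ) := by
    rw [(charDegree_irr χ).1, h2]
    push_cast
    refine Finset.sum_congr rfl fun θ _ => ?_
    rw [hm χ θ, (charDegree_irr θ).1]
  exact_mod_cast h3

theorem pl_ind_degree {G : Type*} [Group G] [Fintype G] (H : Subgroup G) [Fintype H]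
    [Fintype (Cfsg.IrrCharacter G)]
    (m : Cfsg.IrrCharacter G → Cfsg.IrrCharacter H → ℕ)
    (hm : ∀ (χ : Cfsg.IrrCharacter G) (θ : Cfsg.IrrCharacter H), Cfsg.classInner (fun n : H => (χ : G → ℂ) n) (θ : H → ℂ) = (m χ θ : ℂ))
    (θ : Cfsg.IrrCharacter H) :
    H.index * Cfsg.charDegree (θ : H → ℂ) =
      ∑ χ : Cfsg.IrrCharacter G, m χ θ * Cfsg.charDegree (χ : G → ℂ) := by
  have h1 := classFunction_expansion (Cfsg.indFun H (θ : H → ℂ))
    (fun g h => h7_indFun_conj H (θ : H → ℂ) g h)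
  have h2 := congrFun h1 1
  simp only [Finset.sum_apply, Pi.smul_apply, smul_eq_mul] at h2
  rw [h7_indFun_one] at h2
  have h3 : ((H.index * Cfsg.charDegree (θ : H → ℂ) : ℕ) : ℂ) =
      ((∑ χ : Cfsg.IrrCharacter G, m χ θ * Cfsg.charDegree (χ : G → ℂ) : ℕ) : ℂ) := by
    push_cast
    rw [(charDegree_irr θ).1, h2]
    refine Finset.sum_congr rfl fun χ _ => ?_
    rw [h7_frobenius_irr H (χ : G → ℂ) (h7_irr_isClassFunction χ.2), hm χ θ, Complex.conj_natCast,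
      (charDegree_irr χ).1]
  exact_mod_cast h3

end Cfsg.Agent.Lib.Helper24

namespace Cfsg.Agent.Lib.Helper24

open scoped ComplexConjugate
open Cfsg.Agent.Lib.Helper25 Cfsg.Agent.Lib.helper7 Cfsg.Agent.Lib.helper2 Cfsg.Agent.Lib.Helper11

theorem pl_cj_one {G : Type*} [Group G] (H : Subgroup G) [hH : H.Normal] (g : G) :
    cj H (fun _ : H => (1 : ℂ)) g = fun _ => 1 := by
  funext n
  rw [cj_apply]

theorem pl_cov_down {G : Type*} [Group G] [Fintype G] (p : ℕ) [Fact p.Prime]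
    (M : Ideal Cfsg.AlgInt) (hM : Cfsg.IsPModular p M) (H : Subgroup G) [hH : H.Normal]
    [Fintype H] (χ : Cfsg.IrrCharacter G) (hχ : χ ∈ Cfsg.principalBlock M G)
    (θ : Cfsg.IrrCharacter H)
    (hcon : Cfsg.classInner (fun n : H => (χ : G → ℂ) n) (θ : H → ℂ) ≠ 0) :
    θ ∈ Cfsg.principalBlock M H := by
  classical
  have hPr := hM.2.1.isPrime
  haveI : Fintype (Cfsg.IrrCharacter G) := Fintype.ofFinite _
  haveI : Fintype (Cfsg.IrrCharacter H) := Fintype.ofFinite _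
  have hstab : ∀ (g : G) (θ' : Cfsg.IrrCharacter H), θ' ∈ Cfsg.principalBlock M H →
      Cfsg.SameBlock M (fun _ : H => (1 : ℂ)) (cj H (θ' : H → ℂ) g) := by
    intro g θ' hθ'
    have := fr_sameBlock_cj H (M := M) g (fun _ : H => (1 : ℂ)) (θ' : H → ℂ) hθ'
    rwa [pl_cj_one] at this
  have hT : h7_GStable H (Cfsg.principalBlock M H) := by
    intro g θ' hθ'
    exact hstab g⁻¹ θ' hθ'
  have hS : ∀ n : H, Cfsg.MemLocalRing M (Cfsg.blockCoeff (Cfsg.principalBlock M H) n) :=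
    fun n => Cfsg.Agent.S0913.result p M hM _ ⟨trivIrr H, rfl⟩ n
  have h1 : trivIrr G ∈ h7_over H (Cfsg.principalBlock M H) := by
    refine ⟨trivIrr H, h7_sameBlock_refl hPr _, ?_⟩
    have := irr_classInner (trivIrr H) (trivIrr H)
    rw [if_pos rfl] at this
    have e : (fun n : H => ((trivIrr G : Cfsg.IrrCharacter G) : G → ℂ) n) =
        ((trivIrr H : Cfsg.IrrCharacter H) : H → ℂ) := rfl
    rw [e, this]
    exact one_ne_zero
  obtain ⟨θ₀, hθ₀, hcon₀⟩ := h7_over_congr H hPr _ hT hS (trivIrr G) χ hχ h1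
  obtain ⟨g, hg⟩ := h7_clifford_conj H (χ : G → ℂ) χ.2 (θ₀ : H → ℂ) (θ : H → ℂ) θ₀.2 θ.2
    hcon₀ hcon
  show Cfsg.SameBlock M (fun _ : H => (1 : ℂ)) (θ : H → ℂ)
  rw [hg]
  exact hstab g θ₀ hθ₀

theorem pl_cov_up {G : Type*} [Group G] [Fintype G] (p : ℕ) [Fact p.Prime]
    (M : Ideal Cfsg.AlgInt) (hM : Cfsg.IsPModular p M) (H : Subgroup G) [hH : H.Normal]
    [Fintype H] (θ : Cfsg.IrrCharacter H) (hθ : θ ∈ Cfsg.principalBlock M H) :
    ∃ χ ∈ Cfsg.principalBlock M G,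
      Cfsg.classInner (fun n : H => (χ : G → ℂ) n) (θ : H → ℂ) ≠ 0 := by
  have hPr := hM.2.1.isPrime
  haveI : Fintype (Cfsg.IrrCharacter G) := Fintype.ofFinite _
  haveI : Fintype (Cfsg.IrrCharacter H) := Fintype.ofFinite _
  apply Cfsg.Agent.Lib.Helper26.cva_main H p M hM _ ⟨trivIrr G, rfl⟩ _ ⟨trivIrr H, rfl⟩ _ θ hθ
  refine ⟨trivIrr G, h7_sameBlock_refl hPr _, trivIrr H, h7_sameBlock_refl hPr _, ?_⟩
  have := irr_classInner (trivIrr H) (trivIrr H)
  rw [if_pos rfl] at this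
  have e : (fun n : H => ((trivIrr G : Cfsg.IrrCharacter G) : G → ℂ) n) =
      ((trivIrr H : Cfsg.IrrCharacter H) : H → ℂ) := rfl
  rw [e, this]
  exact one_ne_zero

theorem pl_sum_sq_le {ι : Type*} (s : Finset ι) (a : ι → ℕ) :
    ∑ i ∈ s, a i ^ 2 ≤ (∑ i ∈ s, a i) ^ 2 := by
  rw [sq, Finset.sum_mul]
  apply Finset.sum_le_sum
  intro i hi
  rw [sq]
  exact Nat.mul_le_mul_left _ (Finset.single_le_sum (f := a) (fun _ _ => Nat.zero_le _) hi)

end Cfsg.Agent.Lib.Helper24
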