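import Mathlib
import Cfsg.Prelude.Def_Blocks
import Cfsg.Agent.Lib.Helper24.PrincLambda

set_option autoImplicit false
set_option linter.style.haveILetI false
set_option linter.unusedSectionVars false
set_option linter.unusedVariables false

namespace Cfsg.Agent.Lib.Helper24

open scoped ComplexConjugate
open Cfsg.Agent.Lib.Helper25 Cfsg.Agent.Lib.helper7 Cfsg.Agent.Lib.helper2

theorem pl_main {G : Type*} [Group G] [Finite G] (p : ℕ) [Fact p.Prime] (M : Ideal Cfsg.AlgInt)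
    (hM : Cfsg.IsPModular p M) (H : Subgroup G) [H.Normal] :
    (∑ᶠ θ ∈ Cfsg.principalBlock M H, Cfsg.charDegree (θ : H → ℂ) ^ 2) ≤
      (∑ᶠ χ ∈ Cfsg.principalBlock M G, Cfsg.charDegree (χ : G → ℂ) ^ 2) ∧
    (∑ᶠ χ ∈ Cfsg.principalBlock M G, Cfsg.charDegree (χ : G → ℂ) ^ 2) ≤
      H.index * ∑ᶠ θ ∈ Cfsg.principalBlock M H, Cfsg.charDegree (θ : H → ℂ) ^ 2 := by
  classical
  letI : Fintype G := Fintype.ofFinite G
  letI : Fintype H := Fintype.ofFinite H
  haveI : Fintype (Cfsg.IrrCharacter G) := Fintype.ofFinite _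
  haveI : Fintype (Cfsg.IrrCharacter H) := Fintype.ofFinite _
  have hex : ∀ (χ : Cfsg.IrrCharacter G) (θ : Cfsg.IrrCharacter H), ∃ m : ℕ,
      Cfsg.classInner (fun n : H => (χ : G → ℂ) n) (θ : H → ℂ) = (m : ℂ) :=
    fun χ θ => pl_mult_exists H χ θ
  choose m hm using hex
  have hdown : ∀ χ ∈ Cfsg.principalBlock M G, ∀ θ : Cfsg.IrrCharacter H, m χ θ ≠ 0 →
      θ ∈ Cfsg.principalBlock M H := by
    intro χ hχ θ hne
    apply pl_cov_down p M hM H χ hχ θ
    rw [hm χ θ]
    exact_mod_cast hne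
  have hup : ∀ θ ∈ Cfsg.principalBlock M H, ∃ χ ∈ Cfsg.principalBlock M G, m χ θ ≠ 0 := by
    intro θ hθ
    obtain ⟨χ, hχ, hne⟩ := pl_cov_up p M hM H θ hθ
    refine ⟨χ, hχ, ?_⟩
    rw [hm χ θ] at hne
    exact_mod_cast hne
  rw [pc_finsum_filter, pc_finsum_filter]
  set BG := Finset.univ.filter (· ∈ Cfsg.principalBlock M G) with hBG
  set BH := Finset.univ.filter (· ∈ Cfsg.principalBlock M H) with hBH
  have hdeg : ∀ χ ∈ BG, Cfsg.charDegree (χ : G → ℂ) =
      ∑ θ ∈ BH, m χ θ * Cfsg.charDegree (θ : H → ℂ) := by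
    intro χ hχ
    rw [pl_res_degree H m hm χ, hBH, Finset.sum_filter]
    refine Finset.sum_congr rfl fun θ _ => ?_
    split_ifs with h
    · rfl
    · have : m χ θ = 0 := by
        by_contra hne
        exact h (hdown χ (Finset.mem_filter.mp hχ).2 θ hne)
      rw [this, zero_mul]
  constructor
  · calc ∑ θ ∈ BH, Cfsg.charDegree (θ : H → ℂ) ^ 2
        ≤ ∑ θ ∈ BH, ∑ χ ∈ BG, (if m χ θ ≠ 0 then Cfsg.charDegree (θ : H → ℂ) else 0) ^ 2 := by
          apply Finset.sum_le_sum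
          intro θ hθ
          obtain ⟨χ, hχ, hne⟩ := hup θ (Finset.mem_filter.mp hθ).2
          have hχ' : χ ∈ BG := Finset.mem_filter.mpr ⟨Finset.mem_univ _, hχ⟩
          calc Cfsg.charDegree (θ : H → ℂ) ^ 2
              = (if m χ θ ≠ 0 then Cfsg.charDegree (θ : H → ℂ) else 0) ^ 2 := by rw [if_pos hne]
            _ ≤ _ := Finset.single_le_sum
                (f := fun χ => (if m χ θ ≠ 0 then Cfsg.charDegree (θ : H → ℂ) else 0) ^ 2)
                (fun _ _ => Nat.zero_le _) hχ'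
      _ = ∑ χ ∈ BG, ∑ θ ∈ BH, (if m χ θ ≠ 0 then Cfsg.charDegree (θ : H → ℂ) else 0) ^ 2 :=
          Finset.sum_comm
      _ ≤ ∑ χ ∈ BG, (∑ θ ∈ BH, (if m χ θ ≠ 0 then Cfsg.charDegree (θ : H → ℂ) else 0)) ^ 2 :=
          Finset.sum_le_sum fun χ _ => pl_sum_sq_le BH _
      _ ≤ ∑ χ ∈ BG, Cfsg.charDegree (χ : G → ℂ) ^ 2 := by
          apply Finset.sum_le_sum
          intro χ hχ
          apply Nat.pow_le_pow_left
          rw [hdeg χ hχ]
          apply Finset.sum_le_sum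
          intro θ _
          split_ifs with h
          · exact Nat.le_mul_of_pos_left _ (Nat.pos_of_ne_zero h)
          · exact Nat.zero_le _
  · calc ∑ χ ∈ BG, Cfsg.charDegree (χ : G → ℂ) ^ 2
        = ∑ χ ∈ BG, ∑ θ ∈ BH, Cfsg.charDegree (θ : H → ℂ) *
            (m χ θ * Cfsg.charDegree (χ : G → ℂ)) := by
          refine Finset.sum_congr rfl fun χ hχ => ?_
          rw [sq]
          nth_rewrite 1 [hdeg χ hχ]
          rw [Finset.sum_mul]
          refine Finset.sum_congr rfl fun θ _ => ?_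
          ring
      _ = ∑ θ ∈ BH, Cfsg.charDegree (θ : H → ℂ) *
            ∑ χ ∈ BG, m χ θ * Cfsg.charDegree (χ : G → ℂ) := by
          rw [Finset.sum_comm]
          refine Finset.sum_congr rfl fun θ _ => ?_
          rw [Finset.mul_sum]
      _ ≤ ∑ θ ∈ BH, Cfsg.charDegree (θ : H → ℂ) *
            ∑ χ : Cfsg.IrrCharacter G, m χ θ * Cfsg.charDegree (χ : G → ℂ) := by
          apply Finset.sum_le_sum
          intro θ _
          apply Nat.mul_le_mul_left
          exact Finset.sum_le_sum_of_subset (Finset.filter_subset _ _)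
      _ = H.index * ∑ θ ∈ BH, Cfsg.charDegree (θ : H → ℂ) ^ 2 := by
          rw [Finset.mul_sum]
          refine Finset.sum_congr rfl fun θ _ => ?_
          rw [← pl_ind_degree H m hm θ]
          ring

end Cfsg.Agent.Lib.Helper24
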