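import Mathlib
import Cfsg.Agent.Lib.helper7.BlockBrauer2
import Cfsg.Agent.Lib.helper7.BlockQuot
import Cfsg.Agent.S0965

set_option autoImplicit false
open scoped ComplexConjugate

namespace Cfsg.Agent.Lib.Helper24

open Cfsg.Agent.Lib.helper2 Cfsg.Agent.Lib.helper7 Cfsg.Agent.Lib.Helper11 Cfsg.Agent.Lib.Helper25

section qc

variable {G : Type*} [Group G]

theorem qc_icc_zero (N : Subgroup G) [hN : N.Normal] (ξ : N → ℂ) (g : G) (hg : g ∉ N) :
    Cfsg.inducedCentralChar N ξ g = 0 := by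
  unfold Cfsg.inducedCentralChar
  have : {h : N | IsConj g (h : G)} = ∅ := by
    ext h
    simp only [Set.mem_ofPred_eq, Set.mem_empty_iff_false, iff_false]
    intro hc
    obtain ⟨c, hc⟩ := isConj_iff.mp hc.symm
    apply hg
    rw [← hc]
    exact hN.conj_mem _ h.2 c
  rw [this]
  exact finsum_mem_empty

theorem qc_aux [Fintype G] (p : ℕ) [hp : Fact p.Prime] (M : Ideal Cfsg.AlgInt)
    (hM : Cfsg.IsPModular p M) (Q : Subgroup G) [hQn : Q.Normal] (hQ : IsPGroup p Q)
    (N : Subgroup G) [hN : N.Normal] [Fintype N] (hQN : Q ≤ N)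
    (hCN : Subgroup.centralizer (Q : Set G) ≤ N)
    (b : Set (Cfsg.IrrCharacter N)) (hb : Cfsg.IsPBlock M b) :
    Cfsg.InducedBlockDefined M N b ∧
    ∀ B : Set (Cfsg.IrrCharacter G), Cfsg.IsPBlock M B →
      (∃ χ ∈ B, ∃ θ ∈ b, Cfsg.classInner (fun n : N => (χ : G → ℂ) n) (θ : N → ℂ) ≠ 0) →
      Cfsg.IsInducedBlock M N b B := by
  classical
  haveI : Fintype (Cfsg.IrrCharacter G) := Fintype.ofFinite _
  haveI : Fintype (Cfsg.IrrCharacter N) := Fintype.ofFinite _
  have hMp := hM.2.1.isPrime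
  have hNN : N ≤ Subgroup.normalizer (Q : Set G) := by
    rw [Subgroup.normalizer_eq_top]
    exact le_top
  constructor
  · obtain ⟨ξ₀, rfl⟩ := hb
    obtain ⟨χ₀, hχ₀⟩ := h7_brauer_hom_block Q N hM hQ hCN hNN ξ₀
    exact ⟨_, h7_brauer_induced Q N hM hQ hQN hNN ξ₀ χ₀ hχ₀⟩
  · intro B hB hcov
    have h1 := (Cfsg.Agent.S0965.result p M hM N B hB b hb).1 hcov
    refine ⟨hb, hB, ?_⟩
    intro ξ hξ χ hχ g
    by_cases hg : g ∈ N
    · have h2 := h1 χ hχ ξ hξ ⟨g, hg⟩
      have h3 := h7_memLocalIdeal_neg h2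
      rw [neg_sub] at h3
      exact h3
    · rw [qc_icc_zero N _ g hg, zero_sub]
      apply h7_memLocalIdeal_neg
      apply h7_centralChar_mem_of_not_centralize hM Q hQ χ g
      intro hle
      apply hg
      apply hCN
      rw [Subgroup.mem_centralizer_iff]
      intro q hq
      have := Subgroup.mem_centralizer_iff.mp (hle hq) g (Set.mem_singleton g)
      exact this.symm

end qc

end Cfsg.Agent.Lib.Helper24
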