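import Mathlib
import Cfsg.Agent.Lib.helper7.R1.Defs
import Cfsg.Agent.Lib.helper7.KleinDef9

set_option autoImplicit false
set_option linter.style.haveILetI false
set_option linter.unusedSectionVars false
set_option linter.unusedVariables false
set_option maxHeartbeats 1600000

namespace Cfsg.Agent.Lib.Helper24.R1

open Cfsg.Agent.Lib.helper7 Cfsg.Agent.Lib.helper7.Br Cfsg.Agent.Lib.helper7.R1
open scoped ComplexConjugate

section nil3aux

open Cfsg.Agent.Lib.helper2 Cfsg.Agent.Lib.Helper11 Cfsg.Agent.Lib.Helper25 Cfsg.Agent.Lib.Helper24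

theorem nil3_local_rank {H : Type*} [Group H] [Finite H] (p : ℕ) [hp : Fact p.Prime]
    (M : Ideal Cfsg.AlgInt)
    (hM : Cfsg.IsPModular p M) (y : H) (hy : orderOf y = p) (hyc : y ∈ Subgroup.center H)
    (b : Set (Cfsg.IrrCharacter H)) (hb : Cfsg.IsPBlock M b)
    (hd : Cfsg.blockDefect p b ≤ 1) : Cfsg.blockRank p b = 1 := by
  classical
  haveI : Fintype H := Fintype.ofFinite _
  haveI : Fintype (Cfsg.IrrCharacter H) := Fintype.ofFinite _
  have hMp := hM.2.1.isPrime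
  have hcases : Cfsg.blockDefect p b = 0 ∨ Cfsg.blockDefect p b = 1 := by omega
  rcases hcases with h0 | h1
  · exact ((bk_main p M hM b hb).2.1.mp h0).2
  · set Q : Subgroup H := Subgroup.zpowers y with hQ
    have hQc : Q ≤ Subgroup.center H := Subgroup.zpowers_le.mpr hyc
    haveI hQn : Q.Normal := by
      constructor
      intro n hn g
      have h1 : g * n = n * g := (Subgroup.mem_center_iff.mp (hQc hn) g)
      rw [h1, mul_inv_cancel_right]
      exact hn
    have hQcard : Nat.card Q = p := by rw [hQ, Nat.card_zpowers, hy]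
    have hQp : IsPGroup p Q := by
      apply IsPGroup.of_card (n := 1)
      rw [hQcard, pow_one]
    have hsup : Q ⊔ Subgroup.centralizer (Q : Set H) = ⊤ := by
      have : Subgroup.centralizer (Q : Set H) = ⊤ :=
        Subgroup.centralizer_eq_top_iff_subset.mpr hQc
      rw [this, sup_top_eq]
    haveI : Fintype (H ⧸ Q) := Fintype.ofFinite _
    haveI : Fintype (Cfsg.IrrCharacter (H ⧸ Q)) := Fintype.ofFinite _
    have hrank := h7_kd_dom_rank p M hM Q hQp hsup b hb
    have hblock := h7_kd_dom_block p M hM Q hQp hsup b hb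
    rw [hrank]
    have hcardH : (Nat.card H).factorization p = (Nat.card (H ⧸ Q)).factorization p + 1 := by
      have h1 := Subgroup.card_eq_card_quotient_mul_card_subgroup Q
      rw [hQcard] at h1
      rw [h1, Nat.factorization_mul (Nat.card_pos.ne') hp.out.ne_zero]
      simp [Nat.Prime.factorization_self hp.out]
    set m := sInf ((fun ψ : Cfsg.IrrCharacter H =>
      (Cfsg.charDegree (ψ : H → ℂ)).factorization p) '' b) with hm
    have hheights : ∀ χ ∈ b, (Cfsg.charDegree (χ : H → ℂ)).factorization p = m := by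
      intro χ hχ
      have h3 := ((bf_complement p M hM b hb 1 h1).2 χ hχ).1 (le_refl 1)
      have h2 : m ≤ (Cfsg.charDegree (χ : H → ℂ)).factorization p :=
        Nat.sInf_le ⟨χ, hχ, rfl⟩
      unfold Cfsg.blockHeight at h3
      rw [← hm] at h3
      omega
    have hdeg : ∀ ψ ∈ h7_kd_dom Q b, (Cfsg.charDegree (ψ : H ⧸ Q → ℂ)).factorization p = m := by
      intro ψ hψ
      have := hheights _ hψ
      rw [← this]
      rfl
    obtain ⟨ψ₀, hψ₀⟩ : (h7_kd_dom Q b).Nonempty := by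
      obtain ⟨ψ₀, hψ₀⟩ := hblock
      rw [hψ₀]
      exact ⟨ψ₀, h7_sameBlock_refl hMp _⟩
    have hsInf : sInf ((fun ψ : Cfsg.IrrCharacter (H ⧸ Q) =>
        (Cfsg.charDegree (ψ : H ⧸ Q → ℂ)).factorization p) '' h7_kd_dom Q b) = m := by
      have hset : ((fun ψ : Cfsg.IrrCharacter (H ⧸ Q) =>
          (Cfsg.charDegree (ψ : H ⧸ Q → ℂ)).factorization p) '' h7_kd_dom Q b) = {m} := by
        ext n
        constructor
        · rintro ⟨ψ, hψ, rfl⟩
          exact hdeg ψ hψ
        · intro hn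
          rw [Set.mem_singleton_iff] at hn
          exact ⟨ψ₀, hψ₀, (hdeg ψ₀ hψ₀).trans hn.symm⟩
      rw [hset, csInf_singleton]
    have hdefect : Cfsg.blockDefect p (h7_kd_dom Q b) = 0 := by
      unfold Cfsg.blockDefect
      rw [hsInf]
      unfold Cfsg.blockDefect at h1
      rw [← hm] at h1
      omega
    exact ((bk_main p M hM _ hblock).2.1.mp hdefect).2

theorem nil3_pair_rank {G : Type*} [Group G] [Fintype G] (p : ℕ) [hp : Fact p.Prime]
    (M : Ideal Cfsg.AlgInt) (hM : Cfsg.IsPModular p M)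
    (B : Set (Cfsg.IrrCharacter G)) (hd : Cfsg.blockDefect p B ≤ 1) (y : G) (hy : orderOf y = p)
    (f : Set (Cfsg.IrrCharacter (Subgroup.centralizer (Subgroup.zpowers y : Set G))))
    (hf : Cfsg.IsInducedBlock M (Subgroup.centralizer (Subgroup.zpowers y : Set G)) f B) :
    Cfsg.blockRank p f = 1 := by
  have hyC : y ∈ Subgroup.centralizer (Subgroup.zpowers y : Set G) := by
    rw [← h7_kd_centralizer_zpowers]
    exact Subgroup.mem_centralizer_singleton_iff.mpr rfl
  apply nil3_local_rank p M hM (⟨y, hyC⟩ : Subgroup.centralizer (Subgroup.zpowers y : Set G))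
  · rw [Subgroup.orderOf_mk]
    exact hy
  · rw [Subgroup.mem_center_iff]
    intro h
    apply Subtype.ext
    have := Subgroup.mem_centralizer_iff.mp h.2 y (Subgroup.mem_zpowers y)
    simpa using this.symm
  · exact hf.1
  · exact (h7_kd_defect_le p M hM _ f B hf).trans hd

theorem nil3_elems {G : Type*} [Group G] (P : Subgroup G) (hP3 : Nat.card P = 3)
    (y₀ : G) (hy₀ : y₀ ∈ P) (hy₀1 : y₀ ≠ 1) :
    orderOf y₀ = 3 ∧ ∀ z ∈ P, z = 1 ∨ z = y₀ ∨ z = y₀⁻¹ := by
  haveI : Fact (Nat.Prime 3) := ⟨Nat.prime_three⟩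
  haveI : Finite P := Nat.finite_of_card_ne_zero (by rw [hP3]; norm_num)
  have hne : (⟨y₀, hy₀⟩ : P) ≠ 1 := fun h => hy₀1 (congrArg Subtype.val h)
  have hord' : orderOf (⟨y₀, hy₀⟩ : P) = 3 := by
    rw [orderOf_eq_card_of_zpowers_eq_top (zpowers_eq_top_of_prime_card (p := 3) hP3 hne), hP3]
  have hord : orderOf y₀ = 3 := by
    rw [← hord', Subgroup.orderOf_mk]
  refine ⟨hord, ?_⟩
  intro z hz
  have hmem : (⟨z, hz⟩ : P) ∈ Subgroup.zpowers (⟨y₀, hy₀⟩ : P) :=
    mem_zpowers_of_prime_card (p := 3) hP3 hne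
  obtain ⟨k, hk⟩ := Subgroup.mem_zpowers_iff.mp hmem
  have hk' : y₀ ^ k = z := by
    have := congrArg Subtype.val hk
    simpa using this
  have h3 : y₀ ^ 3 = 1 := by rw [← hord]; exact pow_orderOf_eq_one y₀
  have hmod : y₀ ^ k = y₀ ^ (k % 3) := by
    have h := zpow_mod_orderOf y₀ k
    rw [hord] at h
    exact_mod_cast h.symm
  have hlt : k % 3 = 0 ∨ k % 3 = 1 ∨ k % 3 = 2 := by omega
  rcases hlt with h | h | h
  · left
    rw [← hk', hmod, h, zpow_zero]
  · right; left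
    rw [← hk', hmod, h, zpow_one]
  · right; right
    rw [← hk', hmod, h]
    have : y₀ ^ (2 : ℤ) * y₀ = 1 := by
      have : y₀ ^ (2 : ℤ) = y₀ ^ 2 := zpow_ofNat y₀ 2
      rw [this, ← pow_succ]
      exact h3
    exact eq_inv_of_mul_eq_one_left this

end nil3aux

section chars

variable {G : Type*} [Group G] [Finite G]

open Cfsg.Agent.Lib.helper2 Cfsg.Agent.Lib.Helper25 Cfsg.Agent.Lib.Helper24 in
theorem card_eq_rank_add_one (M : Ideal Cfsg.AlgInt) (hM : Cfsg.IsPModular 3 M)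
    (B : Set (Cfsg.IrrCharacter G)) (hB : Cfsg.IsPBlock M B) (P : Subgroup G)
    (hP3 : Nat.card P = 3)
    (c : Set (Cfsg.IrrCharacter (Subgroup.centralizer (P : Set G))))
    (hmax : Cfsg.IsMaximalBrauerPair 3 M B P c)
    (t : G) (htN : t ∈ Subgroup.normalizer (P : Set G))
    (htS : Cfsg.StabilizesBlock (Subgroup.centralizer (P : Set G)) c t)
    (htC : t ∉ Subgroup.centralizer (P : Set G)) :
    Nat.card B = Cfsg.blockRank 3 B + 1 := by
  classical
  haveI : Fact (Nat.Prime 3) := ⟨Nat.prime_three⟩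
  haveI : Fintype G := Fintype.ofFinite G
  have hPr := hM.2.1.isPrime
  obtain ⟨X, h1X, hXp, hXrep, hform⟩ := h7_kd_brauer 3 M hM B hB
  have hPD := bq_max_defect 3 M hM B P c hmax
  have hcardP := Cfsg.Agent.S0908.result 3 M hM B hB P hPD
  have hd : Cfsg.blockDefect 3 B = 1 := by
    rw [hP3] at hcardP
    have : (3 : ℕ) ^ 1 = 3 ^ Cfsg.blockDefect 3 B := by rw [pow_one]; exact hcardP
    exact (Nat.pow_right_injective (by norm_num : 2 ≤ 3) this).symm
  obtain ⟨y₀, hy₀, hy₀1⟩ : ∃ y₀ ∈ P, y₀ ≠ 1 := by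
    by_contra hcon
    push Not at hcon
    have : P = ⊥ := (Subgroup.eq_bot_iff_forall P).mpr hcon
    rw [this, Subgroup.card_bot] at hP3
    omega
  obtain ⟨hy₀3, helems⟩ := nil3_elems P hP3 y₀ hy₀ hy₀1
  have hy₀p : ∃ k : ℕ, orderOf y₀ = 3 ^ k := ⟨1, by rw [hy₀3, pow_one]⟩
  have hinv1 : y₀⁻¹ ≠ 1 := fun h => hy₀1 (inv_eq_one.mp h)
  have hinvne : y₀⁻¹ ≠ y₀ := by
    intro h
    have h2 : y₀ ^ 2 = 1 := by
      rw [pow_two]
      nth_rewrite 1 [← h]
      exact inv_mul_cancel y₀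
    have := orderOf_dvd_of_pow_eq_one h2
    rw [hy₀3] at this
    omega
  have hty₀P : t * y₀ * t⁻¹ ∈ P := (Subgroup.mem_normalizer_iff.mp htN y₀).mp hy₀
  have hty₀ : t * y₀ * t⁻¹ = y₀⁻¹ := by
    rcases helems _ hty₀P with h | h | h
    · exact absurd h (h7_kd_conj_ne_one y₀ t hy₀1)
    · exfalso
      apply htC
      rw [Subgroup.mem_centralizer_iff]
      have hc : t * y₀ = y₀ * t := by
        calc t * y₀ = (t * y₀ * t⁻¹) * t := by group
          _ = y₀ * t := by rw [h]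
      intro z hz
      rcases helems z hz with hz | hz | hz
      · rw [hz, one_mul, mul_one]
      · rw [hz, hc]
      · rw [hz]
        exact (Commute.inv_right (show Commute t y₀ from hc)).eq.symm
    · exact h
  have hty₀' : t * y₀⁻¹ * t⁻¹ = y₀ := by
    have : t * y₀⁻¹ * t⁻¹ = (t * y₀ * t⁻¹)⁻¹ := by group
    rw [this, hty₀, inv_inv]
  have h1N : (1 : G) ∈ Subgroup.normalizer (P : Set G) := Subgroup.one_mem _
  have h1S : Cfsg.StabilizesBlock (Subgroup.centralizer (P : Set G)) c 1 :=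
    bq_inner_stabilizes _ c 1 (Subgroup.one_mem _)
  have htrans : ∀ y ∈ P, y ≠ 1 → ∀ y' ∈ P, y' ≠ 1 → ∃ t : G,
      t ∈ Subgroup.normalizer (P : Set G) ∧
      Cfsg.StabilizesBlock (Subgroup.centralizer (P : Set G)) c t ∧ t * y * t⁻¹ = y' := by
    intro y hy hy1 y' hy' hy'1
    rcases helems y hy with h | h | h
    · exact absurd h hy1
    · rcases helems y' hy' with h' | h' | h'
      · exact absurd h' hy'1
      · exact ⟨1, h1N, h1S, by rw [h, h']; group⟩
      · exact ⟨t, htN, htS, by rw [h, h']; exact hty₀⟩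
    · rcases helems y' hy' with h' | h' | h'
      · exact absurd h' hy'1
      · exact ⟨t, htN, htS, by rw [h, h']; exact hty₀'⟩
      · exact ⟨1, h1N, h1S, by rw [h, h']; group⟩
  have hny₀ : h7_kd_n 3 M B y₀ = 1 := by
    haveI : Fintype (Cfsg.IrrCharacter (Subgroup.centralizer (Subgroup.zpowers y₀ : Set G))) :=
      Fintype.ofFinite _
    rw [h7_kd_n_eq 3 M hM B y₀ hy₀p]
    obtain ⟨f₀, hf₀, hle₀⟩ := bq_subpair_exists 3 M hM P c hmax.1.1 (Subgroup.zpowers y₀)
      (Subgroup.zpowers_le.mpr hy₀)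
    have hpair₀ := (bq_pairOf_le 3 M hM P _ c f₀ hle₀ B).mp hmax.1
    have : {f : Set (Cfsg.IrrCharacter
        (Subgroup.centralizer (Subgroup.zpowers y₀ : Set G))) |
        Cfsg.IsBrauerPairOf 3 M B (Subgroup.zpowers y₀) f} = {f₀} := by
      ext f
      rw [Set.mem_singleton_iff]
      constructor
      · intro hf
        have hle := h7_kd_pair_le 3 M hM B P c hmax htrans y₀ hy₀ hy₀1 f hf
        exact bq_subpair_unique 3 M hM P c hmax.1.1 _ f f₀ hle hle₀
      · intro hf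
        rw [hf]
        exact hpair₀
    rw [this, finsum_mem_singleton]
    exact nil3_pair_rank 3 M hM B (le_of_eq hd) y₀ hy₀3 f₀ (tp_pair_induced 3 M hM _ B f₀ hpair₀)
  obtain ⟨x₀, ⟨hx₀X, hx₀c⟩, hx₀u⟩ := hXrep y₀ hy₀p
  have hx₀1 : x₀ ≠ 1 := by
    intro h
    rw [h] at hx₀c
    exact hy₀1 (isConj_one_left.mp hx₀c)
  have hx₀E : x₀ ∈ X.erase 1 := Finset.mem_erase.mpr ⟨hx₀1, hx₀X⟩
  have hnx₀ : h7_kd_n 3 M B x₀ = 1 := by
    rw [← h7_kd_n_conj 3 M hM B hB y₀ x₀ hy₀p hx₀c]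
    exact hny₀
  have hsum : ∑ x ∈ X.erase 1, h7_kd_n 3 M B x = 1 := by
    rw [Finset.sum_eq_single_of_mem x₀ hx₀E]
    · exact hnx₀
    · intro x hx hne
      by_contra hn
      obtain ⟨hx1, hxX⟩ := Finset.mem_erase.mp hx
      obtain ⟨f, hf⟩ := h7_kd_n_ne_zero 3 M hM B x (hXp x hxX) hn
      obtain ⟨g, hg⟩ := h7_kd_conj_into 3 M hM B P c hmax x f hf
      obtain ⟨s, -, -, hsy⟩ := htrans _ hg (h7_kd_conj_ne_one x g hx1) y₀ hy₀ hy₀1
      apply hne
      apply hx₀u
      refine ⟨hxX, ?_⟩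
      rw [isConj_iff]
      refine ⟨(s * g)⁻¹, ?_⟩
      rw [← hsy]
      group
  rw [hsum] at hform
  exact hform

end chars

end Cfsg.Agent.Lib.Helper24.R1
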