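import Mathlib
import Cfsg.Agent.Lib.helper7.REE.Defs

set_option autoImplicit false

namespace Cfsg.Agent.Lib.helper7.REE

open Matrix Polynomial Cfsg.Agent.Lib.helper8
open scoped Pointwise

universe u v

section GEN

variable {G : Type u} [Group G] [Finite G]

theorem conj_into_sylow (p : ℕ) [Fact p.Prime] (P : Subgroup G) (hP : IsPGroup p P)
    (hfull : ¬ p ∣ Nat.card G / Nat.card P) (x : G) (k : ℕ) (hx : x ^ (p ^ k) = 1) :
    ∃ g : G, g * x * g⁻¹ ∈ P := by
  have hidx : P.index = Nat.card G / Nat.card P := by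
    have h1 := P.index_mul_card
    rw [← h1, Nat.mul_div_cancel _ Nat.card_pos]
  obtain ⟨P', hP'⟩ : ∃ P' : Sylow p G, (P' : Subgroup G) = P :=
    ⟨hP.toSylow (by rw [hidx]; exact hfull), rfl⟩
  have hxp : IsPGroup p (Subgroup.zpowers x) := by
    rintro ⟨y, hy⟩
    refine ⟨k, ?_⟩
    obtain ⟨n, rfl⟩ := Subgroup.mem_zpowers_iff.mp hy
    apply Subtype.ext
    show (x ^ n) ^ (p ^ k) = 1
    rw [← zpow_natCast, ← _root_.zpow_mul, mul_comm, _root_.zpow_mul, zpow_natCast, hx, _root_.one_zpow]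
  obtain ⟨Q, hQ⟩ := hxp.exists_le_sylow
  obtain ⟨g, hg⟩ := MulAction.exists_smul_eq G Q P'
  refine ⟨g, ?_⟩
  rw [← hP', ← hg]
  have hxQ : x ∈ (Q : Subgroup G) := hQ (Subgroup.mem_zpowers x)
  have h2 := Subgroup.smul_mem_pointwise_smul x (MulAut.conj g) (Q : Subgroup G) hxQ
  rw [MulAut.smul_def, MulAut.conj_apply] at h2
  have h3 : ((g • Q : Sylow p G) : Subgroup G) = MulAut.conj g • (Q : Subgroup G) :=
    Sylow.pointwise_smul_def
  rw [h3]
  exact h2

end GEN

end Cfsg.Agent.Lib.helper7.REE
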