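import Mathlib
import Cfsg.Agent.Lib.Helper18.REELA.Defs
import Cfsg.Agent.Lib.Helper24.REELA15core
import Cfsg.Agent.Lib.Helper11.REELA13

set_option autoImplicit false

namespace Cfsg.Agent.Lib.helper7.REE

open Matrix Polynomial

universe v

section finite

variable {K : Type v} [Field K] [Fintype K]

variable {V : Type*} [AddCommGroup V] [Module K V]

theorem la_abs_pres [Module.Finite K V] (f : Module.End K V) (p : K[X]) (hs : LaSplit f p)
    {G : Type*} [Group G] [Finite G] (ρ : G →* Module.End K V)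
    (hcom : ∀ g, Commute (ρ g) f) (hcop : (Nat.card G).Coprime (Fintype.card K - 1))
    (N N' : Module.End K V) (hNN' : N * N' = 1) (hN'N : N' * N = 1)
    (g₁ : G) (hg₁ : N * f * N' = ρ g₁) :
    (∀ x ∈ LinearMap.ker (f - 1), N x ∈ LinearMap.ker (f - 1) ∧ N' x ∈ LinearMap.ker (f - 1)) ∧
    (∀ x ∈ LinearMap.ker (aeval f p),
      N x ∈ LinearMap.ker (aeval f p) ∧ N' x ∈ LinearMap.ker (aeval f p)) :=
  reela15_core f p hs (ρ g₁) (hcom g₁) (la_abs_fix f p hs ρ hcom hcop g₁) N N' hNN' hN'N hg₁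

end finite

end Cfsg.Agent.Lib.helper7.REE
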