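import Mathlib
import Cfsg.Agent.Lib.helper8.RSM.Defs
import Cfsg.Agent.Lib.Helper5.StemQ
import Cfsg.Agent.Lib.helper2.RSMC7
import Cfsg.Agent.Lib.helper4.RSMC1

set_option autoImplicit false

namespace Cfsg.Agent.Lib.helper8.RSM

open Cfsg.Agent.Lib.Helper5.Stem
open scoped commutatorElement

universe u v w

variable {G : Type u} [Group G] {K : Type v} [Field K] [Fintype K] {m : ℕ}
variable {Γ : Type w} [Group Γ] {σ : Γ →* G}

theorem rsme6h24_avg_zero (H0 : Γ) (w : Γ) : avg H0 0 w = 1 := by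
  simp [avg]

theorem rsme6h24_avg_succ (H0 : Γ) (n : ℕ) (w : Γ) :
    avg H0 (n + 1) w = avg H0 n w * (H0 ^ n * w * (H0 ^ n)⁻¹) := by
  simp [avg, List.range_succ]

theorem rsme6h24_avg_succ' (H0 : Γ) (n : ℕ) (w : Γ) :
    avg H0 (n + 1) w = w * avg H0 n (H0 * w * H0⁻¹) := by
  unfold avg
  rw [List.range_succ_eq_map, List.map_cons, List.prod_cons, List.map_map]
  congr 1
  · simp
  · congr 1
    apply List.map_congr_left
    intro j _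
    simp only [Function.comp]
    rw [pow_succ]
    group

theorem rsme6h24_avg_conj (H0 : Γ) (n : ℕ) (hpow : H0 ^ n = 1) (w : Γ) :
    avg H0 n (H0 * w * H0⁻¹) = w⁻¹ * avg H0 n w * w := by
  have h1 := rsme6h24_avg_succ H0 n w
  have h2 := rsme6h24_avg_succ' H0 n w
  rw [hpow] at h1
  rw [h1] at h2
  have h3 : avg H0 n (H0 * w * H0⁻¹) = w⁻¹ * (avg H0 n w * (1 * w * (1 : Γ)⁻¹)) := by
    rw [h2]
    group
  rw [h3]
  group

theorem rsme6h24_conj_InU2 (RU : ReeU G K m) (H0 : Γ) (hH0 : σ H0 = RU.h0) (i : ℕ) (w : Γ)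
    (hw : RU.InU2 (σ w)) : RU.InU2 (σ (H0 ^ i * w * (H0 ^ i)⁻¹)) := by
  obtain ⟨u, v, huv⟩ := hw
  refine ⟨nrm m (RU.a0 ^ i) * u, RU.a0 ^ i * nrm m (RU.a0 ^ i) * v, ?_⟩
  rw [map_mul, map_mul, map_inv, map_pow, hH0, huv, h0_pow_conj, mul_zero]

theorem rsme6h24_avg_InU2 (RU : ReeU G K m) (H0 : Γ) (hH0 : σ H0 = RU.h0) (n : ℕ) (w : Γ)
    (hw : RU.InU2 (σ w)) : RU.InU2 (σ (avg H0 n w)) := by
  induction n with
  | zero =>
    rw [rsme6h24_avg_zero, map_one]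
    exact ⟨0, 0, (x_basic RU).1.symm⟩
  | succ n ih =>
    rw [rsme6h24_avg_succ, map_mul]
    obtain ⟨a, b, hab⟩ := ih
    obtain ⟨c, d, hcd⟩ := rsme6h24_conj_InU2 RU H0 hH0 n w hw
    rw [hab, hcd]
    exact ⟨a + c, b + d, (x_basic RU).2.1 0 a b c d⟩

theorem rsme6h24_step (RU : ReeU G K m)
    (hD4 : ∀ g g' : Γ, RU.InU2 (σ g) → RU.InU2 (σ g') → g * g' = g' * g)
    (H0 : Γ) (hH0 : σ H0 = RU.h0) (hpow : H0 ^ (3 ^ (2 * m + 1) - 1) = 1) (w : Γ)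
    (hw : RU.InU2 (σ w)) : proj H0 m (H0 * w * H0⁻¹) = proj H0 m w := by
  unfold proj
  rw [rsme6h24_avg_conj H0 _ hpow w]
  have hc := hD4 (avg H0 (3 ^ (2 * m + 1) - 1) w) w
    (rsme6h24_avg_InU2 RU H0 hH0 _ w hw) hw
  rw [mul_assoc, hc, ← mul_assoc, inv_mul_cancel, one_mul]

theorem rsme6h24_core (RU : ReeU G K m)
    (hD4 : ∀ g g' : Γ, RU.InU2 (σ g) → RU.InU2 (σ g') → g * g' = g' * g)
    (H0 : Γ) (hH0 : σ H0 = RU.h0)
    (hpow : H0 ^ (3 ^ (2 * m + 1) - 1) = 1) (i : ℕ) (w : Γ) (hw : RU.InU2 (σ w)) :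
    proj H0 m (H0 ^ i * w * (H0 ^ i)⁻¹) = proj H0 m w := by
  induction i with
  | zero => simp
  | succ i ih =>
    have h1 : H0 ^ (i + 1) * w * (H0 ^ (i + 1))⁻¹ = H0 * (H0 ^ i * w * (H0 ^ i)⁻¹) * H0⁻¹ := by
      rw [pow_succ']
      group
    rw [h1, rsme6h24_step RU hD4 H0 hH0 hpow _ (rsme6h24_conj_InU2 RU H0 hH0 i w hw), ih]

end Cfsg.Agent.Lib.helper8.RSM
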