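import Cfsg.Agent.Lib.Helper24.RealBlock
import Cfsg.Agent.Lib.Helper24.BlockDefClass4
import Cfsg.Agent.Lib.Helper25.RealOrbits

set_option autoImplicit false
open scoped ComplexConjugate

namespace Cfsg.Agent.Lib.Helper24

open Cfsg.Agent.Lib.helper2 Cfsg.Agent.Lib.helper7 Cfsg.Agent.Lib.Helper11 Cfsg.Agent.Lib.Helper25

section rb2

variable {G : Type*} [Group G] [Fintype G]

theorem rb_out_isConj (x : G) : IsConj (Quotient.out (ConjClasses.mk x)) x :=
  ConjClasses.mk_eq_mk_iff_isConj.mp (Quotient.out_eq (ConjClasses.mk x))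

theorem rb_out_one : Quotient.out (ConjClasses.mk (1 : G)) = 1 :=
  isConj_one_left.mp (rb_out_isConj (1 : G))

theorem rb_centralChar_one (χ : Cfsg.IrrCharacter G) : Cfsg.centralChar (χ : G → ℂ) 1 = 1 := by
  unfold Cfsg.centralChar
  have h1 : Subgroup.centralizer ({1} : Set G) = ⊤ := by
    ext x
    simp [Subgroup.mem_centralizer_singleton_iff]
  rw [h1, Subgroup.index_top]
  have := irr_one_ne_zero χ
  rw [Nat.cast_one, one_mul, div_self this]

theorem rb_blockCoeff_isConj [Fintype (Cfsg.IrrCharacter G)] (B : Set (Cfsg.IrrCharacter G))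
    {g h : G} (hgh : IsConj g h) : Cfsg.blockCoeff B g = Cfsg.blockCoeff B h := by
  obtain ⟨c, hc⟩ := isConj_iff.mp hgh
  rw [← hc, bu_blockCoeff_conj]

theorem rb_centralChar_isConj (χ : Cfsg.IrrCharacter G)
    {g h : G} (hgh : IsConj g h) :
    Cfsg.centralChar (χ : G → ℂ) g = Cfsg.centralChar (χ : G → ℂ) h := by
  obtain ⟨c, hc⟩ := isConj_iff.mp hgh
  rw [← hc, rb_centralChar_conj]

theorem rb_irr_inv (χ : Cfsg.IrrCharacter G) (g : G) :
    (χ : G → ℂ) g⁻¹ = conj ((χ : G → ℂ) g) := by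
  obtain ⟨k, ρ, hρ, hχ⟩ := χ.2
  rw [← hχ]
  exact Cfsg.Agent.Lib.Helper25.char_inv ρ g

theorem rb_blockCoeff_inv [Fintype (Cfsg.IrrCharacter G)] (B : Set (Cfsg.IrrCharacter G))
    (hcl : ∀ χ : Cfsg.IrrCharacter G, irrConj χ ∈ B ↔ χ ∈ B) (x : G) :
    Cfsg.blockCoeff B x⁻¹ = Cfsg.blockCoeff B x := by
  classical
  unfold Cfsg.blockCoeff
  congr 1
  rw [finsum_mem_def, finsum_mem_def, finsum_eq_sum_of_fintype, finsum_eq_sum_of_fintype]
  let e : Cfsg.IrrCharacter G ≃ Cfsg.IrrCharacter G :=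
    ⟨irrConj, irrConj, irrConj_irrConj, irrConj_irrConj⟩
  refine Fintype.sum_equiv e _ _ ?_
  intro χ
  have he : e χ = irrConj χ := rfl
  rw [he, Set.indicator_apply, Set.indicator_apply]
  by_cases hχ : χ ∈ B
  · rw [if_pos hχ, if_pos ((hcl χ).mpr hχ), irrConj_apply, irrConj_apply, rb_irr_inv,
      h7_irr_conj_one]
  · rw [if_neg hχ, if_neg (fun h => hχ ((hcl χ).mp h))]

theorem rb_isConj_inv {a b : G} (h : IsConj a b) : IsConj a⁻¹ b⁻¹ := by
  obtain ⟨c, hc⟩ := isConj_iff.mp h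
  rw [isConj_iff]
  refine ⟨c, ?_⟩
  rw [← hc]
  group

open Classical in
theorem rb_key [Fintype (Cfsg.IrrCharacter G)] (M : Ideal Cfsg.AlgInt)
    (hM : Cfsg.IsPModular 2 M) (χ₀ ψ : Cfsg.IrrCharacter G)
    (hχ₀ : Cfsg.blockDefect 2 (Cfsg.blockOf M (χ₀ : G → ℂ)) = (Nat.card G).factorization 2)
    (hψ : Cfsg.blockDefect 2 (Cfsg.blockOf M (ψ : G → ℂ)) = (Nat.card G).factorization 2)
    (hinv : ∀ x : G, Cfsg.blockCoeff (Cfsg.blockOf M (χ₀ : G → ℂ)) x⁻¹ =
      Cfsg.blockCoeff (Cfsg.blockOf M (χ₀ : G → ℂ)) x)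
    (hψinv : ∀ x : G, Cfsg.MemLocalIdeal M
      (Cfsg.centralChar (ψ : G → ℂ) x⁻¹ - Cfsg.centralChar (ψ : G → ℂ) x)) :
    Cfsg.MemLocalIdeal M ((if ψ ∈ Cfsg.blockOf M (χ₀ : G → ℂ) then (1 : ℂ) else 0) -
      Cfsg.blockCoeff (Cfsg.blockOf M (χ₀ : G → ℂ)) 1) := by
  classical
  haveI : Fact (Nat.Prime 2) := ⟨Nat.prime_two⟩
  haveI : Fintype (ConjClasses G) := Fintype.ofFinite _
  have hMp := hM.2.1.isPrime
  set B := Cfsg.blockOf M (χ₀ : G → ℂ) with hB
  set c : Cfsg.IrrCharacter G → ℂ := fun φ => if φ ∈ B then (1 : ℂ) else 0 with hc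
  have hmemF : ∀ g : G, Cfsg.blockCoeff B g * Cfsg.centralChar (ψ : G → ℂ) g ∈
      h7_locSubring M hMp := fun g =>
    h7_memLocalRing_mul hMp (h7_osima hMp χ₀ g) (h7_memLocalRing_centralChar hMp ψ g)
  let F : ConjClasses G → h7_locSubring M hMp := fun K =>
    ⟨Cfsg.blockCoeff B (Quotient.out K) * Cfsg.centralChar (ψ : G → ℂ) (Quotient.out K),
      hmemF _⟩
  have hF : ∀ K, ((F K : h7_locSubring M hMp) : ℂ) =
      Cfsg.blockCoeff B (Quotient.out K) * Cfsg.centralChar (ψ : G → ℂ) (Quotient.out K) :=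
    fun K => rfl
  have hsum : ∑ K ∈ Finset.univ.erase (ConjClasses.mk (1 : G)),
      Ideal.Quotient.mk (bd_locIdeal M hMp) (F K) = 0 := by
    refine Finset.sum_involution (fun K _ => ConjClasses.mk (Quotient.out K)⁻¹) ?_ ?_ ?_ ?_
    · intro K _
      rw [← map_add, Ideal.Quotient.eq_zero_iff_mem, bd_mem_locIdeal]
      have hc1 : IsConj (Quotient.out (ConjClasses.mk (Quotient.out K)⁻¹)) (Quotient.out K)⁻¹ :=
        rb_out_isConj _
      have e : ((F K + F (ConjClasses.mk (Quotient.out K)⁻¹) : h7_locSubring M hMp) : ℂ) =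
          (2 : ℂ) * (Cfsg.blockCoeff B (Quotient.out K) *
            Cfsg.centralChar (ψ : G → ℂ) (Quotient.out K)) +
          Cfsg.blockCoeff B (Quotient.out K) *
            (Cfsg.centralChar (ψ : G → ℂ) (Quotient.out K)⁻¹ -
              Cfsg.centralChar (ψ : G → ℂ) (Quotient.out K)) := by
        rw [Subring.coe_add, hF, hF, rb_blockCoeff_isConj B hc1, rb_centralChar_isConj ψ hc1,
          hinv]
        ring
      rw [e]
      refine h7_memLocalIdeal_add hMp ?_ ?_
      · have h2 : Cfsg.MemLocalIdeal M ((2 : ℕ) : ℂ) := h7_memLocalIdeal_p hM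
        have h3 := h7_memLocalIdeal_mul_right hMp h2 (hmemF (Quotient.out K))
        simpa using h3
      · exact h7_memLocalIdeal_mul_left hMp (h7_osima hMp χ₀ _) (hψinv _)
    · intro K hK hne heq
      apply hne
      rw [Ideal.Quotient.eq_zero_iff_mem, bd_mem_locIdeal, hF]
      apply bd_term 2 M hM χ₀ ψ _ hχ₀ hψ
      rintro ⟨hreg, hcard⟩
      have hcj : IsConj (Quotient.out K) (Quotient.out K)⁻¹ := by
        have h1 : IsConj (Quotient.out (ConjClasses.mk (Quotient.out K)⁻¹)) (Quotient.out K)⁻¹ :=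
          rb_out_isConj _
        rw [heq] at h1
        exact h1
      have hidx : ¬ 2 ∣ (Subgroup.centralizer ({Quotient.out K} : Set G)).index := by
        intro hdvd
        have h1 := bd_card_centralizer 2 (Quotient.out K)
        rw [hcard] at h1
        have h2 : (Subgroup.centralizer ({Quotient.out K} : Set G)).index.factorization 2 = 0 := by
          omega
        have h3 := (Nat.factorization_eq_zero_iff _ _).mp h2
        rcases h3 with h3 | h3 | h3
        · exact h3 Nat.prime_two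
        · exact h3 hdvd
        · exact Subgroup.index_ne_zero_of_finite h3
      have h1 := rb_real_odd (Quotient.out K) hreg hidx hcj
      have h2 : K = ConjClasses.mk (1 : G) := by
        rw [← h1]
        exact (Quotient.out_eq K).symm
      exact (Finset.mem_erase.mp hK).1 h2
    · intro K hK
      refine Finset.mem_erase.mpr ⟨?_, Finset.mem_univ _⟩
      intro h
      have h1 : IsConj (Quotient.out K)⁻¹ 1 := ConjClasses.mk_eq_mk_iff_isConj.mp h
      have h2 : (Quotient.out K)⁻¹ = 1 := isConj_one_left.mp h1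
      have h3 : Quotient.out K = 1 := inv_eq_one.mp h2
      have h4 : K = ConjClasses.mk (1 : G) := by
        rw [← h3]
        exact (Quotient.out_eq K).symm
      exact (Finset.mem_erase.mp hK).1 h4
    · intro K _
      have h1 : IsConj (Quotient.out (ConjClasses.mk (Quotient.out K)⁻¹)) (Quotient.out K)⁻¹ :=
        rb_out_isConj _
      have h2 : IsConj (Quotient.out (ConjClasses.mk (Quotient.out K)⁻¹))⁻¹ (Quotient.out K) := by
        have h3 := rb_isConj_inv h1
        rw [inv_inv] at h3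
        exact h3
      rw [ConjClasses.mk_eq_mk_iff_isConj.mpr h2]
      exact Quotient.out_eq K
  have hexp : c ψ = ∑ K : ConjClasses G, ((F K : h7_locSubring M hMp) : ℂ) := by
    rw [h7_eval_expand c ψ]
    refine Finset.sum_congr rfl fun K _ => ?_
    rw [h7_coef_indicator, hF]
  have h1 : c ψ - Cfsg.blockCoeff B 1 =
      ((∑ K ∈ Finset.univ.erase (ConjClasses.mk (1 : G)), F K : h7_locSubring M hMp) : ℂ) := by
    rw [hexp, ← Finset.add_sum_erase _ _ (Finset.mem_univ (ConjClasses.mk (1 : G))), hF,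
      rb_out_one, rb_centralChar_one, mul_one, add_sub_cancel_left]
    push_cast
    rfl
  have h2 : Ideal.Quotient.mk (bd_locIdeal M hMp)
      (∑ K ∈ Finset.univ.erase (ConjClasses.mk (1 : G)), F K) = 0 := by
    rw [map_sum]
    exact hsum
  have h3 := (bd_mem_locIdeal M hMp _).mp (Ideal.Quotient.eq_zero_iff_mem.mp h2)
  rw [← h1] at h3
  exact h3

end rb2

end Cfsg.Agent.Lib.Helper24
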