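import Cfsg.Agent.Lib.Helper24.RealBlock2

set_option autoImplicit false
open scoped ComplexConjugate

namespace Cfsg.Agent.Lib.Helper24

open Cfsg.Agent.Lib.helper2 Cfsg.Agent.Lib.helper7 Cfsg.Agent.Lib.Helper11 Cfsg.Agent.Lib.Helper25

section rb3

variable {G : Type*} [Group G] [Fintype G]

open Classical in
theorem rb_key2 [Fintype (Cfsg.IrrCharacter G)] (M : Ideal Cfsg.AlgInt)
    (hM : Cfsg.IsPModular 2 M) (χ₀ ψ : Cfsg.IrrCharacter G)
    (hχ₀ : Cfsg.blockDefect 2 (Cfsg.blockOf M (χ₀ : G → ℂ)) = (Nat.card G).factorization 2)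
    (hψ : Cfsg.blockDefect 2 (Cfsg.blockOf M (ψ : G → ℂ)) = (Nat.card G).factorization 2)
    (hinv : ∀ x : G, ¬ 2 ∣ orderOf x → Cfsg.blockCoeff (Cfsg.blockOf M (χ₀ : G → ℂ)) x⁻¹ =
      Cfsg.blockCoeff (Cfsg.blockOf M (χ₀ : G → ℂ)) x)
    (hψinv : ∀ x : G, ¬ 2 ∣ orderOf x → Cfsg.MemLocalIdeal M
      (Cfsg.centralChar (ψ : G → ℂ) x⁻¹ - Cfsg.centralChar (ψ : G → ℂ) x)) :
    Cfsg.MemLocalIdeal M ((if ψ ∈ Cfsg.blockOf M (χ₀ : G → ℂ) then (1 : ℂ) else 0) -
      Cfsg.blockCoeff (Cfsg.blockOf M (χ₀ : G → ℂ)) 1) := by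
  classical
  haveI : Fact (Nat.Prime 2) := ⟨Nat.prime_two⟩
  haveI : Fintype (ConjClasses G) := Fintype.ofFinite _
  have hMp := hM.2.1.isPrime
  set B := Cfsg.blockOf M (χ₀ : G → ℂ) with hB
  set c : Cfsg.IrrCharacter G → ℂ := fun φ => if φ ∈ B then (1 : ℂ) else 0 with hc
  have hmemF : ∀ g : G, Cfsg.blockCoeff B g * Cfsg.centralChar (ψ : G → ℂ) g ∈
      h7_locSubring M hMp := fun g =>
    h7_memLocalRing_mul hMp (h7_osima hMp χ₀ g) (h7_memLocalRing_centralChar hMp ψ g)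
  let F : ConjClasses G → h7_locSubring M hMp := fun K =>
    ⟨Cfsg.blockCoeff B (Quotient.out K) * Cfsg.centralChar (ψ : G → ℂ) (Quotient.out K),
      hmemF _⟩
  have hF : ∀ K, ((F K : h7_locSubring M hMp) : ℂ) =
      Cfsg.blockCoeff B (Quotient.out K) * Cfsg.centralChar (ψ : G → ℂ) (Quotient.out K) :=
    fun K => rfl
  have hsum : ∑ K ∈ Finset.univ.erase (ConjClasses.mk (1 : G)),
      Ideal.Quotient.mk (bd_locIdeal M hMp) (F K) = 0 := by
    refine Finset.sum_involution (fun K _ => ConjClasses.mk (Quotient.out K)⁻¹) ?_ ?_ ?_ ?_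
    · intro K _
      rw [← map_add, Ideal.Quotient.eq_zero_iff_mem, bd_mem_locIdeal]
      have hc1 : IsConj (Quotient.out (ConjClasses.mk (Quotient.out K)⁻¹)) (Quotient.out K)⁻¹ :=
        rb_out_isConj _
      by_cases hK : ¬ 2 ∣ orderOf (Quotient.out K) ∧
          (Nat.card (Subgroup.centralizer ({Quotient.out K} : Set G))).factorization 2 =
            (Nat.card G).factorization 2
      · have e : ((F K + F (ConjClasses.mk (Quotient.out K)⁻¹) : h7_locSubring M hMp) : ℂ) =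
            (2 : ℂ) * (Cfsg.blockCoeff B (Quotient.out K) *
              Cfsg.centralChar (ψ : G → ℂ) (Quotient.out K)) +
            Cfsg.blockCoeff B (Quotient.out K) *
              (Cfsg.centralChar (ψ : G → ℂ) (Quotient.out K)⁻¹ -
                Cfsg.centralChar (ψ : G → ℂ) (Quotient.out K)) := by
          rw [Subring.coe_add, hF, hF, rb_blockCoeff_isConj B hc1, rb_centralChar_isConj ψ hc1,
            hinv _ hK.1]
          ring
        rw [e]
        refine h7_memLocalIdeal_add hMp ?_ ?_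
        · have h2 : Cfsg.MemLocalIdeal M ((2 : ℕ) : ℂ) := h7_memLocalIdeal_p hM
          have h3 := h7_memLocalIdeal_mul_right hMp h2 (hmemF (Quotient.out K))
          simpa using h3
        · exact h7_memLocalIdeal_mul_left hMp (h7_osima hMp χ₀ _) (hψinv _ hK.1)
      · rw [Subring.coe_add, hF, hF, rb_blockCoeff_isConj B hc1, rb_centralChar_isConj ψ hc1]
        refine h7_memLocalIdeal_add hMp (bd_term 2 M hM χ₀ ψ _ hχ₀ hψ _ hK)
          (bd_term 2 M hM χ₀ ψ _ hχ₀ hψ _ ?_)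
        rw [orderOf_inv, rb_centralizer_inv]
        exact hK
    · intro K hK hne heq
      apply hne
      rw [Ideal.Quotient.eq_zero_iff_mem, bd_mem_locIdeal, hF]
      apply bd_term 2 M hM χ₀ ψ _ hχ₀ hψ
      rintro ⟨hreg, hcard⟩
      have hcj : IsConj (Quotient.out K) (Quotient.out K)⁻¹ := by
        have h1 : IsConj (Quotient.out (ConjClasses.mk (Quotient.out K)⁻¹)) (Quotient.out K)⁻¹ :=
          rb_out_isConj _
        rw [heq] at h1
        exact h1
      have hidx : ¬ 2 ∣ (Subgroup.centralizer ({Quotient.out K} : Set G)).index := by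
        intro hdvd
        have h1 := bd_card_centralizer 2 (Quotient.out K)
        rw [hcard] at h1
        have h2 : (Subgroup.centralizer ({Quotient.out K} : Set G)).index.factorization 2 = 0 := by
          omega
        have h3 := (Nat.factorization_eq_zero_iff _ _).mp h2
        rcases h3 with h3 | h3 | h3
        · exact h3 Nat.prime_two
        · exact h3 hdvd
        · exact Subgroup.index_ne_zero_of_finite h3
      have h1 := rb_real_odd (Quotient.out K) hreg hidx hcj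
      have h2 : K = ConjClasses.mk (1 : G) := by
        rw [← h1]
        exact (Quotient.out_eq K).symm
      exact (Finset.mem_erase.mp hK).1 h2
    · intro K hK
      refine Finset.mem_erase.mpr ⟨?_, Finset.mem_univ _⟩
      intro h
      have h1 : IsConj (Quotient.out K)⁻¹ 1 := ConjClasses.mk_eq_mk_iff_isConj.mp h
      have h2 : (Quotient.out K)⁻¹ = 1 := isConj_one_left.mp h1
      have h3 : Quotient.out K = 1 := inv_eq_one.mp h2
      have h4 : K = ConjClasses.mk (1 : G) := by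
        rw [← h3]
        exact (Quotient.out_eq K).symm
      exact (Finset.mem_erase.mp hK).1 h4
    · intro K _
      have h1 : IsConj (Quotient.out (ConjClasses.mk (Quotient.out K)⁻¹)) (Quotient.out K)⁻¹ :=
        rb_out_isConj _
      have h2 : IsConj (Quotient.out (ConjClasses.mk (Quotient.out K)⁻¹))⁻¹ (Quotient.out K) := by
        have h3 := rb_isConj_inv h1
        rw [inv_inv] at h3
        exact h3
      rw [ConjClasses.mk_eq_mk_iff_isConj.mpr h2]
      exact Quotient.out_eq K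
  have hexp : c ψ = ∑ K : ConjClasses G, ((F K : h7_locSubring M hMp) : ℂ) := by
    rw [h7_eval_expand c ψ]
    refine Finset.sum_congr rfl fun K _ => ?_
    rw [h7_coef_indicator, hF]
  have h1 : c ψ - Cfsg.blockCoeff B 1 =
      ((∑ K ∈ Finset.univ.erase (ConjClasses.mk (1 : G)), F K : h7_locSubring M hMp) : ℂ) := by
    rw [hexp, ← Finset.add_sum_erase _ _ (Finset.mem_univ (ConjClasses.mk (1 : G))), hF,
      rb_out_one, rb_centralChar_one, mul_one, add_sub_cancel_left]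
    push_cast
    rfl
  have h2 : Ideal.Quotient.mk (bd_locIdeal M hMp)
      (∑ K ∈ Finset.univ.erase (ConjClasses.mk (1 : G)), F K) = 0 := by
    rw [map_sum]
    exact hsum
  have h3 := (bd_mem_locIdeal M hMp _).mp (Ideal.Quotient.eq_zero_iff_mem.mp h2)
  rw [← h1] at h3
  exact h3

theorem rb_defect_of_coprime_degree [Fintype (Cfsg.IrrCharacter G)] (p : ℕ) [hp : Fact p.Prime]
    (M : Ideal Cfsg.AlgInt) (hM : M.IsPrime) (χ : Cfsg.IrrCharacter G)
    (hχ : ¬ p ∣ Cfsg.charDegree (χ : G → ℂ)) :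
    Cfsg.blockDefect p (Cfsg.blockOf M (χ : G → ℂ)) = (Nat.card G).factorization p := by
  obtain ⟨h₀, _, hle, _, hd⟩ := bd_min p M hM χ
  have h1 := hle χ (h7_sameBlock_refl hM _)
  rw [Nat.factorization_eq_zero_of_not_dvd hχ] at h1
  have h3 : h₀ = 0 := Nat.le_zero.mp h1
  rw [hd, h3, Nat.sub_zero]

theorem rb_charDegree_triv : Cfsg.charDegree ((trivIrr G : Cfsg.IrrCharacter G) : G → ℂ) = 1 := by
  unfold Cfsg.charDegree
  rw [trivIrr_apply]
  simp

open Classical in
theorem rb_principal [Fintype (Cfsg.IrrCharacter G)] (M : Ideal Cfsg.AlgInt)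
    (hM : Cfsg.IsPModular 2 M) (χ₀ : Cfsg.IrrCharacter G)
    (hχ₀ : Cfsg.blockDefect 2 (Cfsg.blockOf M (χ₀ : G → ℂ)) = (Nat.card G).factorization 2)
    (hinv : ∀ x : G, ¬ 2 ∣ orderOf x → Cfsg.blockCoeff (Cfsg.blockOf M (χ₀ : G → ℂ)) x⁻¹ =
      Cfsg.blockCoeff (Cfsg.blockOf M (χ₀ : G → ℂ)) x)
    (hψinv : ∀ x : G, ¬ 2 ∣ orderOf x → Cfsg.MemLocalIdeal M
      (Cfsg.centralChar (χ₀ : G → ℂ) x⁻¹ - Cfsg.centralChar (χ₀ : G → ℂ) x)) :
    Cfsg.blockOf M (χ₀ : G → ℂ) = Cfsg.principalBlock M G := by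
  classical
  haveI : Fact (Nat.Prime 2) := ⟨Nat.prime_two⟩
  have hMp := hM.2.1.isPrime
  have htriv : Cfsg.blockDefect 2 (Cfsg.blockOf M ((trivIrr G : Cfsg.IrrCharacter G) : G → ℂ)) =
      (Nat.card G).factorization 2 := by
    apply rb_defect_of_coprime_degree 2 M hMp
    rw [rb_charDegree_triv]
    norm_num
  have hconjtriv : irrConj (trivIrr G) = trivIrr G := by
    apply Subtype.ext
    funext g
    rw [irrConj_apply, trivIrr_apply, map_one]
  by_contra hne
  have htrivB : trivIrr G ∉ Cfsg.blockOf M (χ₀ : G → ℂ) := by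
    intro h
    apply hne
    rw [bd_blockOf_eq M hMp χ₀ (trivIrr G) h]
    rfl
  have hχ₀B : χ₀ ∈ Cfsg.blockOf M (χ₀ : G → ℂ) := h7_sameBlock_refl hMp _
  have k1 := rb_key2 M hM χ₀ χ₀ hχ₀ hχ₀ hinv hψinv
  have k2 := rb_key2 M hM χ₀ (trivIrr G) hχ₀ htriv hinv (by
    intro x _
    rw [rb_centralChar_inv, hconjtriv, sub_self]
    exact h7_memLocalIdeal_zero hMp)
  rw [if_pos hχ₀B] at k1
  rw [if_neg htrivB] at k2
  have k3 := h7_memLocalIdeal_sub hMp k1 k2
  have e : (1 : ℂ) - Cfsg.blockCoeff (Cfsg.blockOf M (χ₀ : G → ℂ)) 1 -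
      (0 - Cfsg.blockCoeff (Cfsg.blockOf M (χ₀ : G → ℂ)) 1) = 1 := by ring
  rw [e] at k3
  exact h7_not_memLocalIdeal_one hMp k3

end rb3

end Cfsg.Agent.Lib.Helper24
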