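import Cfsg.Agent.Lib.Helper24.RealBlock3
import Cfsg.Agent.Lib.Helper24.PRegGen
import Cfsg.Agent.Lib.Helper25.CharAbelian
import Cfsg.Agent.Lib.Helper11.VirtChar

set_option autoImplicit false
open scoped ComplexConjugate

namespace Cfsg.Agent.Lib.Helper24

open Cfsg.Agent.Lib.helper2 Cfsg.Agent.Lib.helper7 Cfsg.Agent.Lib.Helper11 Cfsg.Agent.Lib.Helper25

section rb4

variable {G : Type*} [Group G] [Fintype G]

theorem rb_irrConj_of_real (χ : Cfsg.IrrCharacter G) (hreal : ∀ g : G, ((χ : G → ℂ) g).im = 0) :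
    irrConj χ = χ := by
  apply Subtype.ext
  funext g
  rw [irrConj_apply]
  exact Complex.conj_eq_iff_im.mpr (hreal g)

theorem rb_real_principal [Fintype (Cfsg.IrrCharacter G)] (M : Ideal Cfsg.AlgInt)
    (hM : Cfsg.IsPModular 2 M) (χ : Cfsg.IrrCharacter G)
    (hreal : ∀ g : G, ((χ : G → ℂ) g).im = 0) (hodd : Odd (Cfsg.charDegree (χ : G → ℂ))) :
    χ ∈ Cfsg.principalBlock M G := by
  classical
  haveI : Fact (Nat.Prime 2) := ⟨Nat.prime_two⟩
  have hMp := hM.2.1.isPrime
  have hconj := rb_irrConj_of_real χ hreal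
  have hcl1 : ∀ φ : Cfsg.IrrCharacter G, φ ∈ Cfsg.blockOf M (χ : G → ℂ) →
      irrConj φ ∈ Cfsg.blockOf M (χ : G → ℂ) := by
    intro φ h g
    have h1 := h g⁻¹
    rw [rb_centralChar_inv, rb_centralChar_inv, hconj] at h1
    exact h1
  have hcl : ∀ φ : Cfsg.IrrCharacter G, irrConj φ ∈ Cfsg.blockOf M (χ : G → ℂ) ↔
      φ ∈ Cfsg.blockOf M (χ : G → ℂ) := by
    intro φ
    constructor
    · intro h
      have h2 := hcl1 _ h
      rw [irrConj_irrConj] at h2
      exact h2
    · exact hcl1 φ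
  have hdef : Cfsg.blockDefect 2 (Cfsg.blockOf M (χ : G → ℂ)) = (Nat.card G).factorization 2 := by
    apply rb_defect_of_coprime_degree 2 M hMp
    intro h
    exact (Nat.not_even_iff_odd.mpr hodd) (even_iff_two_dvd.mpr h)
  have h1 := rb_principal M hM χ hdef (fun x _ => rb_blockCoeff_inv _ hcl x) (by
    intro x _
    rw [rb_centralChar_inv, hconj, sub_self]
    exact h7_memLocalIdeal_zero hMp)
  rw [← h1]
  exact h7_sameBlock_refl hMp _

theorem rb_card_odd_order [DecidableEq G] :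
    Odd (Finset.univ.filter (fun g : G => ¬ 2 ∣ orderOf g)).card := by
  set Ω := Finset.univ.filter (fun g : G => ¬ 2 ∣ orderOf g) with hΩ
  have h1 : (1 : G) ∈ Ω := by
    rw [hΩ, Finset.mem_filter]
    refine ⟨Finset.mem_univ _, ?_⟩
    rw [orderOf_one]
    norm_num
  have h2 : ∑ g ∈ Ω.erase 1, (1 : ZMod 2) = 0 := by
    refine Finset.sum_involution (fun g _ => g⁻¹) ?_ ?_ ?_ ?_
    · intro g _
      decide
    · intro g hg _ h
      have hg1 := (Finset.mem_erase.mp hg).1
      have hg2 := (Finset.mem_filter.mp (Finset.mem_erase.mp hg).2).2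
      have h3 : g ^ 2 = 1 := by
        rw [pow_two]
        nth_rewrite 1 [← h]
        exact inv_mul_cancel g
      have h4 := orderOf_dvd_of_pow_eq_one h3
      rcases (Nat.dvd_prime Nat.prime_two).mp h4 with h5 | h5
      · exact hg1 (orderOf_eq_one_iff.mp h5)
      · exact hg2 (by rw [h5])
    · intro g hg
      have hg1 := (Finset.mem_erase.mp hg).1
      have hg2 := (Finset.mem_filter.mp (Finset.mem_erase.mp hg).2).2
      refine Finset.mem_erase.mpr ⟨?_, ?_⟩
      · intro h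
        exact hg1 (inv_eq_one.mp h)
      · rw [hΩ, Finset.mem_filter]
        refine ⟨Finset.mem_univ _, ?_⟩
        rw [orderOf_inv]
        exact hg2
    · intro g _
      exact inv_inv g
  rw [Finset.sum_const, nsmul_eq_mul, mul_one] at h2
  have h3 : 2 ∣ (Ω.erase 1).card := (ZMod.natCast_eq_zero_iff _ _).mp h2
  rw [← Finset.card_erase_add_one h1]
  obtain ⟨m, hm⟩ := h3
  exact ⟨m, by rw [hm]⟩

end rb4

end Cfsg.Agent.Lib.Helper24
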