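import Cfsg.Agent.Lib.Helper24.RealBlock5
import Cfsg.Agent.Lib.Helper24.BlockDefClass2
import Cfsg.Agent.Lib.helper7.ExtUnique

set_option autoImplicit false
open scoped ComplexConjugate

namespace Cfsg.Agent.Lib.Helper24

open Cfsg.Agent.Lib.helper2 Cfsg.Agent.Lib.helper7 Cfsg.Agent.Lib.Helper11 Cfsg.Agent.Lib.Helper25

section rb6

variable {G : Type*} [Group G] [Fintype G]

theorem rb_regreal_principal [Fintype (Cfsg.IrrCharacter G)] (M : Ideal Cfsg.AlgInt)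
    (hM : Cfsg.IsPModular 2 M) (χ : Cfsg.IrrCharacter G)
    (hreal : ∀ x : G, ¬ 2 ∣ orderOf x → conj ((χ : G → ℂ) x) = (χ : G → ℂ) x)
    (hodd : Odd (Cfsg.charDegree (χ : G → ℂ))) :
    χ ∈ Cfsg.principalBlock M G := by
  classical
  haveI : Fact (Nat.Prime 2) := ⟨Nat.prime_two⟩
  have hMp := hM.2.1.isPrime
  have hnd : ¬ 2 ∣ Cfsg.charDegree (χ : G → ℂ) := by
    intro h
    exact (Nat.not_even_iff_odd.mpr hodd) (even_iff_two_dvd.mpr h)
  have hdeg : Cfsg.charDegree ((irrConj χ : Cfsg.IrrCharacter G) : G → ℂ) =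
      Cfsg.charDegree (χ : G → ℂ) := by
    unfold Cfsg.charDegree
    rw [irrConj_apply, h7_irr_conj_one]
  have hdef : Cfsg.blockDefect 2 (Cfsg.blockOf M (χ : G → ℂ)) = (Nat.card G).factorization 2 :=
    rb_defect_of_coprime_degree 2 M hMp χ hnd
  have hdef' : Cfsg.blockDefect 2 (Cfsg.blockOf M ((irrConj χ : Cfsg.IrrCharacter G) : G → ℂ)) =
      (Nat.card G).factorization 2 := by
    apply rb_defect_of_coprime_degree 2 M hMp
    rw [hdeg]
    exact hnd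
  have hω : ∀ x : G, ¬ 2 ∣ orderOf x →
      Cfsg.centralChar ((irrConj χ : Cfsg.IrrCharacter G) : G → ℂ) x =
        Cfsg.centralChar (χ : G → ℂ) x := by
    intro x hx
    unfold Cfsg.centralChar
    rw [irrConj_apply, irrConj_apply, hreal x hx, h7_irr_conj_one]
  have hsame : Cfsg.SameBlock M (χ : G → ℂ) ((irrConj χ : Cfsg.IrrCharacter G) : G → ℂ) := by
    rw [bd_sameBlock_iff 2 M hM _ χ (irrConj χ) hdef hdef']
    intro x hx _
    rw [hω x hx, sub_self]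
    exact h7_memLocalIdeal_zero hMp
  have hcl1 : ∀ φ : Cfsg.IrrCharacter G, φ ∈ Cfsg.blockOf M (χ : G → ℂ) →
      irrConj φ ∈ Cfsg.blockOf M (χ : G → ℂ) := by
    intro φ h
    have h2 : Cfsg.SameBlock M ((irrConj χ : Cfsg.IrrCharacter G) : G → ℂ)
        ((irrConj φ : Cfsg.IrrCharacter G) : G → ℂ) := by
      intro g
      have h1 := h g⁻¹
      rw [rb_centralChar_inv, rb_centralChar_inv] at h1
      exact h1
    exact h7_sameBlock_trans hMp hsame h2
  have hcl : ∀ φ : Cfsg.IrrCharacter G, irrConj φ ∈ Cfsg.blockOf M (χ : G → ℂ) ↔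
      φ ∈ Cfsg.blockOf M (χ : G → ℂ) := by
    intro φ
    constructor
    · intro h
      have h2 := hcl1 _ h
      rw [irrConj_irrConj] at h2
      exact h2
    · exact hcl1 φ
  have h1 := rb_principal M hM χ hdef (fun x _ => rb_blockCoeff_inv _ hcl x) (by
    intro x hx
    rw [rb_centralChar_inv, hω x hx, sub_self]
    exact h7_memLocalIdeal_zero hMp)
  rw [← h1]
  exact h7_sameBlock_refl hMp _

theorem rb_extension (N : Subgroup G) [hN : N.Normal] (θ : Cfsg.IrrCharacter N)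
    (hreal : ∀ n : N, ((θ : N → ℂ) n).im = 0)
    (η₀ : Cfsg.IrrCharacter G) (hη₀ : ∀ n : N, (η₀ : G → ℂ) n = (θ : N → ℂ) n) :
    ∃ η : Cfsg.IrrCharacter G, (∀ n : N, (η : G → ℂ) n = (θ : N → ℂ) n) ∧
      ∀ x : G, ¬ 2 ∣ orderOf x → conj ((η : G → ℂ) x) = (η : G → ℂ) x := by
  classical
  obtain ⟨n₀, σ₁, hσ₁, hc₁⟩ := η₀.2
  obtain ⟨n₁, σ₂, hσ₂, hc₂⟩ := (irrConj η₀).2
  obtain ⟨m, ρ, hρ, hcρ⟩ := θ.2
  haveI := hρ
  haveI := hσ₁
  have h1 : ∀ n : N, σ₁.character (n : G) = ρ.character n := by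
    intro n
    rw [hc₁, hcρ]
    exact hη₀ n
  have h2 : ∀ n : N, σ₂.character (n : G) = ρ.character n := by
    intro n
    rw [hc₂, hcρ, irrConj_apply, hη₀ n]
    exact Complex.conj_eq_iff_im.mpr (hreal n)
  obtain ⟨β, hβN, hβ, _⟩ := h7_extensions_differ N ρ σ₁ σ₂ h1 h2
  set a := (Nat.card G).factorization 2 with ha
  set m' := Nat.card G / 2 ^ a with hm'
  have hG : Nat.card G ≠ 0 := Nat.card_pos.ne'
  have hGm : 2 ^ a * m' = Nat.card G := Nat.ordProj_mul_ordCompl_eq_self _ _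
  have hm'odd : ¬ 2 ∣ m' := Nat.not_dvd_ordCompl Nat.prime_two hG
  obtain ⟨s, hs⟩ : ∃ s, m' + 1 = 2 * s := by
    have : Odd m' := Nat.not_even_iff_odd.mp (fun h => hm'odd (even_iff_two_dvd.mp h))
    obtain ⟨k, hk⟩ := this
    exact ⟨k + 1, by omega⟩
  have hβnorm : ∀ g : G, ‖((β g : ℂˣ) : ℂ)‖ = 1 := by
    intro g
    apply Complex.norm_eq_one_of_pow_eq_one (n := Nat.card G) _ hG
    rw [← Units.val_pow_eq_pow_val, ← map_pow, pow_card_eq_one', map_one, Units.val_one]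
  have hβconj : ∀ g : G, conj ((β g : ℂˣ) : ℂ) = ((β g : ℂˣ) : ℂ)⁻¹ := fun g =>
    (Complex.inv_eq_conj (hβnorm g)).symm
  refine ⟨⟨(h7_twist (β ^ s) σ₁).character, n₀, h7_twist (β ^ s) σ₁, h7_twist_irr _ _, rfl⟩,
    ?_, ?_⟩
  · intro n
    change (h7_twist (β ^ s) σ₁).character (n : G) = _
    rw [h7_twist_character, MonoidHom.pow_apply, hβN n, one_pow, Units.val_one, one_mul, hc₁]
    exact hη₀ n
  · intro x hx
    change conj ((h7_twist (β ^ s) σ₁).character x) = (h7_twist (β ^ s) σ₁).character x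
    rw [h7_twist_character, MonoidHom.pow_apply, map_mul, Units.val_pow_eq_pow_val, map_pow,
      hβconj]
    have h3 : conj (σ₁.character x) = ((β x : ℂˣ) : ℂ) * σ₁.character x := by
      rw [← hβ x, hc₂, hc₁, irrConj_apply]
    rw [h3]
    have hox : orderOf x ∣ m' := by
      have h4 : orderOf x ∣ 2 ^ a * m' := by
        rw [hGm]
        exact orderOf_dvd_natCard x
      have hcop : Nat.Coprime (orderOf x) (2 ^ a) :=
        Nat.Coprime.pow_right _ ((Nat.Prime.coprime_iff_not_dvd Nat.prime_two).mpr hx).symm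
      exact hcop.dvd_of_dvd_mul_left h4
    have h5 : ((β x : ℂˣ) : ℂ) ^ m' = 1 := by
      obtain ⟨t, ht⟩ := hox
      rw [ht, pow_mul, ← Units.val_pow_eq_pow_val, ← map_pow, pow_orderOf_eq_one, map_one,
        Units.val_one, one_pow]
    have hne : ((β x : ℂˣ) : ℂ) ≠ 0 := Units.ne_zero _
    have h6 : ((β x : ℂˣ) : ℂ) ^ (2 * s) = ((β x : ℂˣ) : ℂ) := by
      rw [← hs, pow_succ, h5, one_mul]
    have h7 : ((β x : ℂˣ) : ℂ)⁻¹ ^ s * ((β x : ℂˣ) : ℂ) = ((β x : ℂˣ) : ℂ) ^ s := by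
      rw [inv_pow]
      field_simp
      rw [← pow_mul, mul_comm s 2, h6]
    rw [← mul_assoc, h7]

end rb6

end Cfsg.Agent.Lib.Helper24
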