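import Mathlib
import Cfsg.Prelude.Def_Transfer
import Cfsg.Agent.Lib.Helper5.S1906.Defs

set_option autoImplicit false
set_option linter.unusedSectionVars false

namespace Cfsg.Agent.Lib.Helper5.S1906

theorem s1906g8_card_mul_relIndex {G : Type*} [Group G] (B X : Subgroup G) (hB : B ≤ X) :
    Nat.card B * B.relIndex X = Nat.card X := by
  rw [← Subgroup.relIndex_bot_left, ← Subgroup.relIndex_bot_left]
  exact Subgroup.relIndex_mul_relIndex ⊥ B X bot_le hB

variable {G : Type*} [Group G] [Finite G] (hG : ∀ H : Subgroup G, H.index ≠ 2) (P : Sylow 2 G)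
  {X0 : Subgroup G} {c z : G}

theorem s1906g8_core (h : Ctx (P : Subgroup G) X0 c z)
    (hP7 : ∀ B : Subgroup G, B ≤ (P : Subgroup G) → B.relIndex (P : Subgroup G) = 2 →
      (∀ a ∈ B, ∀ b ∈ B, a * b = b * a) → B = X0) :
    Cfsg.IsWeaklyClosed X0 (P : Subgroup G) := by
  refine ⟨h.le, ?_⟩
  intro g hg
  apply hP7 _ hg
  · have hinj : Function.Injective (MulAut.conj g).toMonoidHom := (MulAut.conj g).injective
    have hcard : Nat.card (X0.map (MulAut.conj g).toMonoidHom) = Nat.card X0 :=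
      Subgroup.card_map_of_injective hinj
    have e1 := s1906g8_card_mul_relIndex X0 (P : Subgroup G) h.le
    have e2 := s1906g8_card_mul_relIndex (X0.map (MulAut.conj g).toMonoidHom) (P : Subgroup G) hg
    rw [hcard] at e2
    rw [h.idx] at e1
    have hpos : 0 < Nat.card X0 := Nat.card_pos
    exact Nat.eq_of_mul_eq_mul_left hpos (e2.trans e1.symm)
  · rintro _ ⟨a, ha, rfl⟩ _ ⟨b, hb, rfl⟩
    rw [← map_mul, ← map_mul, h.ab a ha b hb]

end Cfsg.Agent.Lib.Helper5.S1906
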