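import Mathlib
import Cfsg.Prelude.Def_Transfer
import Cfsg.Agent.Lib.Helper5.S1906.Defs
import Cfsg.Agent.Lib.Helper24.S1906G8core
import Cfsg.Agent.Lib.Helper10.S1906P7

set_option autoImplicit false
set_option linter.unusedSectionVars false

namespace Cfsg.Agent.Lib.Helper5.S1906

variable {G : Type*} [Group G] [Finite G] (hG : ∀ H : Subgroup G, H.index ≠ 2) (P : Sylow 2 G)
  {X0 : Subgroup G} {c z : G}

theorem weakly_closed (h : Ctx (P : Subgroup G) X0 c z)
    (h2 : Nat.card (⁅(P : Subgroup G), (P : Subgroup G)⁆ : Subgroup G) ≠ 2) :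
    Cfsg.IsWeaklyClosed X0 (P : Subgroup G) :=
  s1906g8_core P h (fun B hB hB2 hBab => unique_X0 h h2 B hB hB2 hBab)

end Cfsg.Agent.Lib.Helper5.S1906
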