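import Mathlib
import Cfsg.Agent.Lib.Helper5.S1906.Defs

set_option autoImplicit false
set_option linter.unusedSectionVars false

namespace Cfsg.Agent.Lib.Helper5.S1906

open scoped IsMulCommutative

theorem s1906p3_mul_mem_iff {G : Type*} [Group G] {X X0 : Subgroup G} (hidx : X0.relIndex X = 2)
    {a b : G} (ha : a ∈ X) (hb : b ∈ X) : a * b ∈ X0 ↔ (a ∈ X0 ↔ b ∈ X0) := by
  have h := Subgroup.mul_mem_iff_of_index_two (H := X0.subgroupOf X) hidx
    (a := ⟨a, ha⟩) (b := ⟨b, hb⟩)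
  simpa [Subgroup.mem_subgroupOf] using h

theorem s1906p3_apply_coe {G : Type*} [Group G] {X0 : Subgroup G} (t : G)
    (ht : t ∈ Subgroup.normalizer (X0 : Set G)) (a : X0) :
    ((X0.normalizerMonoidHom ⟨t, ht⟩ a : X0) : G) = t * (a : G) * t⁻¹ := rfl

variable {G : Type*} [Group G] {X X0 : Subgroup G} {c z : G}

theorem s1906p3_core [IsMulCommutative X0] (h : Ctx X X0 c z) (t : G) (htX : t ∈ X) (ht0 : t ∉ X0)
    (hc : c ∈ X0) (hz : z ∈ X0) (ht : t ∈ Subgroup.normalizer (X0 : Set G))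
    (hP4 : ⁅X, X⁆ = (dl (X0.normalizerMonoidHom ⟨t, ht⟩)).range.map X0.subtype) :
    ACtx (X0.normalizerMonoidHom ⟨t, ht⟩) (⟨c, hc⟩ : X0) ⟨z, hz⟩ := by
  have htt : t * t ∈ X0 := (s1906p3_mul_mem_iff h.idx htX htX).mpr Iff.rfl
  refine ⟨?_, ?_, ?_, ?_, ?_, ?_, ?_, ?_, ?_, ?_⟩
  · apply MulEquiv.ext
    intro a
    apply Subtype.ext
    rw [MulAut.mul_apply, s1906p3_apply_coe, s1906p3_apply_coe, MulAut.one_apply]
    have h1 : t * (t * (a : G) * t⁻¹) * t⁻¹ = (t * t) * (a : G) * (t * t)⁻¹ := by group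
    rw [h1, h.ab _ htt _ a.2, mul_inv_cancel_right]
  · have h1 : c ∈ ⁅X, X⁆ := h.cD
    rw [hP4] at h1
    obtain ⟨y, hy, hyc⟩ := h1
    have h2 : y = ⟨c, hc⟩ := Subtype.ext hyc
    rw [← h2]
    exact hy
  · exact Subtype.ext h.c2
  · exact Subtype.ext h.z2
  · intro h1
    exact h.c1 (congrArg Subtype.val h1)
  · intro h1
    exact h.z1 (congrArg Subtype.val h1)
  · intro h1
    exact h.cz (congrArg Subtype.val h1)
  · apply Subtype.ext
    rw [s1906p3_apply_coe]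
    show t * z * t⁻¹ = z
    rw [h.zC t htX, mul_inv_cancel_right]
  · intro w hw hw2
    have h1 : (w : G) ∈ ⁅X, X⁆ := by
      rw [hP4]
      exact ⟨w, hw, rfl⟩
    have h2 : (w : G) * (w : G) = 1 := congrArg Subtype.val hw2
    rcases h.invD _ h1 h2 with h3 | h3
    · exact Or.inl (Subtype.ext h3)
    · exact Or.inr (Subtype.ext h3)
  · intro a ha ha2
    have hta : t * (a : G) = (a : G) * t := by
      have h1 := congrArg Subtype.val ha
      rw [s1906p3_apply_coe] at h1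
      exact mul_inv_eq_iff_eq_mul.mp h1
    have hcen : Cen X (a : G) := by
      intro x hx
      by_cases hx0 : x ∈ X0
      · exact h.ab x hx0 _ a.2
      · have hti : t⁻¹ ∈ X := X.inv_mem htX
        have hti0 : t⁻¹ ∉ X0 := fun h1 => ht0 (by simpa using X0.inv_mem h1)
        have hb : x * t⁻¹ ∈ X0 :=
          (s1906p3_mul_mem_iff h.idx hx hti).mpr ⟨fun h1 => absurd h1 hx0, fun h1 => absurd h1 hti0⟩
        have hx' : x = (x * t⁻¹) * t := by group
        rw [hx', mul_assoc, hta, ← mul_assoc, h.ab _ hb _ a.2, mul_assoc]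
    have h2 : (a : G) * (a : G) = 1 := congrArg Subtype.val ha2
    rcases h.invZ _ (h.le a.2) hcen h2 with h3 | h3 | h3 | h3
    · exact Or.inl (Subtype.ext h3)
    · exact Or.inr (Or.inl (Subtype.ext h3))
    · exact Or.inr (Or.inr (Or.inl (Subtype.ext h3)))
    · exact Or.inr (Or.inr (Or.inr (Subtype.ext h3)))

end Cfsg.Agent.Lib.Helper5.S1906
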