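import Mathlib
import Cfsg.Agent.Lib.Helper5.S1906.Defs
import Cfsg.Agent.Lib.Helper24.S1906P3core
import Cfsg.Agent.Lib.Helper10.S1906P4

set_option autoImplicit false
set_option linter.unusedSectionVars false

namespace Cfsg.Agent.Lib.Helper5.S1906

open scoped IsMulCommutative

variable {G : Type*} [Group G] {X X0 : Subgroup G} {c z : G}

theorem actx_of_ctx [IsMulCommutative X0] (h : Ctx X X0 c z) (t : G) (htX : t ∈ X) (ht0 : t ∉ X0)
    (hc : c ∈ X0) (hz : z ∈ X0) (ht : t ∈ Subgroup.normalizer (X0 : Set G)) :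
    ACtx (X0.normalizerMonoidHom ⟨t, ht⟩) (⟨c, hc⟩ : X0) ⟨z, hz⟩ :=
  s1906p3_core h t htX ht0 hc hz ht (comm_eq_range h t htX ht0 ht)

end Cfsg.Agent.Lib.Helper5.S1906
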