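import Mathlib
import Cfsg.Agent.Lib.Helper5.S1906.Defs

set_option autoImplicit false
set_option linter.unusedSectionVars false

namespace Cfsg.Agent.Lib.Helper5.S1906

theorem s1906u1_pow_apply {A : Type*} [CommGroup A] (β : MulAut A) (a ε : A) (ha : β a = a * ε)
    (hε : β ε = ε) (m : ℕ) : (β ^ m) a = a * ε ^ m := by
  induction m with
  | zero => simp
  | succ m ih =>
    rw [pow_succ', MulAut.mul_apply, ih, map_mul, map_pow, ha, hε, pow_succ']
    rw [mul_assoc]

theorem s1906u1_fix_of_pow {A : Type*} [CommGroup A] (β : MulAut A) (hβ : Odd (orderOf β))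
    (hfix : ∀ a : A, a * a = 1 → β a = a) (n : ℕ) : ∀ a : A, a ^ 2 ^ n = 1 → β a = a := by
  induction n with
  | zero =>
    intro a ha
    rw [pow_zero, pow_one] at ha
    rw [ha, map_one]
  | succ n ih =>
    intro a ha
    have h1 : β (a * a) = a * a := by
      apply ih
      rw [← pow_two, ← pow_mul, ← pow_succ']
      exact ha
    obtain ⟨ε, hε⟩ : ∃ ε : A, ε = a⁻¹ * β a := ⟨_, rfl⟩
    have hε2 : ε * ε = 1 := by
      rw [hε]
      calc a⁻¹ * β a * (a⁻¹ * β a) = (a * a)⁻¹ * (β a * β a) := by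
            rw [mul_inv_rev]
            exact mul_mul_mul_comm _ _ _ _
        _ = 1 := by rw [← map_mul, h1, inv_mul_cancel]
    have hβε : β ε = ε := hfix ε hε2
    have hβa : β a = a * ε := by rw [hε, mul_inv_cancel_left]
    obtain ⟨k, hk⟩ := hβ
    have h2 := s1906u1_pow_apply β a ε hβa hβε (orderOf β)
    rw [pow_orderOf_eq_one, MulAut.one_apply] at h2
    have h3 : ε ^ orderOf β = ε := by
      rw [hk, pow_succ, pow_mul, pow_two, hε2, one_pow, one_mul]
    rw [h3] at h2
    rw [hβa]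
    exact h2.symm

variable {A : Type*} [CommGroup A] [Finite A] {σ : MulAut A} {c z : A}

theorem odd_aut_trivial (hA : IsPGroup 2 A) (β : MulAut A) (hβ : Odd (orderOf β))
    (hfix : ∀ a : A, a * a = 1 → β a = a) : β = 1 := by
  apply MulEquiv.ext
  intro a
  obtain ⟨n, hn⟩ := hA a
  exact s1906u1_fix_of_pow β hβ hfix n a hn

end Cfsg.Agent.Lib.Helper5.S1906
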