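import Mathlib
import Cfsg.Agent.Lib.Helper5.S1906.Defs

set_option autoImplicit false

namespace Cfsg.Agent.Lib.Helper5.S1906

theorem inverted {K : Type*} [Group K] [Finite K] (τ : MulAut K) (hτ : τ * τ = 1)
    (hfix : ∀ k : K, τ k = k → k = 1) : ∀ k : K, τ k = k⁻¹ := by
  have hττ : ∀ a, τ (τ a) = a := by
    intro a
    have h1 : (τ * τ) a = a := by rw [hτ]; rfl
    exact h1
  have hinj : Function.Injective (fun k : K => k⁻¹ * τ k) := by
    intro a b hab
    have hab' : a⁻¹ * τ a = b⁻¹ * τ b := hab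
    have h1 : τ (b * a⁻¹) = b * a⁻¹ := by
      rw [map_mul, map_inv]
      have h2 : τ b = b * (a⁻¹ * τ a) := by
        rw [hab']
        group
      rw [h2]
      group
    have h2 := hfix _ h1
    exact (mul_inv_eq_one.mp h2).symm
  have hsurj := Finite.surjective_of_injective hinj
  intro k
  obtain ⟨a, rfl⟩ := hsurj k
  show τ (a⁻¹ * τ a) = (a⁻¹ * τ a)⁻¹
  rw [map_mul, map_inv, hττ, mul_inv_rev, inv_inv]

end Cfsg.Agent.Lib.Helper5.S1906
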