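import Mathlib
import Cfsg.Agent.Lib.Helper5.S1906.Defs
import Cfsg.Agent.Lib.Helper24.S1906U1

set_option autoImplicit false
set_option linter.unusedSectionVars false

namespace Cfsg.Agent.Lib.Helper5.S1906

theorem s1906u5_ss {A : Type*} [CommGroup A] {σ : MulAut A} {c z : A} (h : ACtx σ c z) (a : A) :
    σ (σ a) = a := by
  have h1 : (σ * σ) a = a := by rw [h.s2]; rfl
  exact h1

theorem s1906u5_inv_of_sq {A : Type*} [Group A] (a : A) (ha : a * a = 1) : a⁻¹ = a :=
  inv_eq_of_mul_eq_one_left ha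

theorem s1906u5_sigma_range {A : Type*} [CommGroup A] {σ : MulAut A} {c z : A} (h : ACtx σ c z)
    (w : A) (hw : w ∈ (dl σ).range) : σ w = w⁻¹ := by
  obtain ⟨a, rfl⟩ := hw
  rw [dl_apply, map_mul, map_inv, s1906u5_ss h, mul_inv_rev, inv_inv]

theorem s1906u5_sigma_c {A : Type*} [CommGroup A] {σ : MulAut A} {c z : A} (h : ACtx σ c z) :
    σ c = c := by
  rw [s1906u5_sigma_range h c h.cD, s1906u5_inv_of_sq c h.c2]

theorem s1906u5_distinct {A : Type*} [CommGroup A] {σ : MulAut A} {c z : A} (h : ACtx σ c z) :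
    c * z ≠ 1 ∧ c * z ≠ c ∧ c * z ≠ z := by
  refine ⟨?_, ?_, ?_⟩
  · intro h1
    apply h.cz
    have h2 : c = z⁻¹ := eq_inv_of_mul_eq_one_left h1
    rw [h2, s1906u5_inv_of_sq z h.z2]
  · intro h1
    exact h.z1 (mul_eq_left.mp h1)
  · intro h1
    exact h.c1 (mul_eq_right.mp h1)

theorem s1906u5_four {A : Type*} [CommGroup A] [Finite A] {σ : MulAut A} {c z : A}
    (h : ACtx σ c z) (hrk : Nat.card (Om1 A) ≤ 4) (a : A) (ha : a * a = 1) :
    a = 1 ∨ a = c ∨ a = z ∨ a = c * z := by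
  classical
  by_contra hcon
  rw [not_or, not_or, not_or] at hcon
  obtain ⟨ha1, hac, haz, hacz⟩ := hcon
  obtain ⟨d1, d2, d3⟩ := s1906u5_distinct h
  have hS : ({a, 1, c, z, c * z} : Finset A).card = 5 := by
    rw [Finset.card_insert_of_notMem, Finset.card_insert_of_notMem, Finset.card_insert_of_notMem,
      Finset.card_insert_of_notMem, Finset.card_singleton]
    · simp only [Finset.mem_singleton]
      exact fun h1 => d3 h1.symm
    · simp only [Finset.mem_insert, Finset.mem_singleton, not_or]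
      exact ⟨h.cz, fun h1 => d2 h1.symm⟩
    · simp only [Finset.mem_insert, Finset.mem_singleton, not_or]
      exact ⟨h.c1.symm, h.z1.symm, fun h1 => d1 h1.symm⟩
    · simp only [Finset.mem_insert, Finset.mem_singleton, not_or]
      exact ⟨ha1, hac, haz, hacz⟩
  have hsub : (({a, 1, c, z, c * z} : Finset A) : Set A) ⊆ (Om1 A : Set A) := by
    intro x hx
    simp only [Finset.coe_insert, Finset.coe_singleton, Set.mem_insert_iff,
      Set.mem_singleton_iff] at hx
    show x ∈ Om1 A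
    rw [mem_Om1]
    rcases hx with rfl | rfl | rfl | rfl | rfl
    · exact ha
    · exact one_mul 1
    · exact h.c2
    · exact h.z2
    · rw [mul_mul_mul_comm, h.c2, h.z2, one_mul]
  have h5 := Set.ncard_le_ncard hsub (Set.toFinite _)
  rw [Set.ncard_coe_finset, hS] at h5
  have h6 : (Om1 A : Set A).ncard = Nat.card (Om1 A) := rfl
  omega

variable {A : Type*} [CommGroup A] [Finite A] {σ : MulAut A} {c z : A}

theorem rank2_trivial (hA : IsPGroup 2 A) (h : ACtx σ c z) (hrk : Nat.card (Om1 A) ≤ 4)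
    (β : MulAut A) (hβ : Odd (orderOf β)) (hinv : σ * β * σ = β⁻¹) : β = 1 := by
  have hσfix : ∀ a : A, a * a = 1 → σ a = a := by
    intro a ha
    rcases s1906u5_four h hrk a ha with rfl | rfl | rfl | rfl
    · exact map_one σ
    · exact s1906u5_sigma_c h
    · exact h.zf
    · rw [map_mul, s1906u5_sigma_c h, h.zf]
  have hββ : ∀ a : A, a * a = 1 → (β ^ 2) a = a := by
    intro a ha
    have h1 : β a * β a = 1 := by rw [← map_mul, ha, map_one]
    have h2 : (σ * β * σ) a = β a := by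
      rw [MulAut.mul_apply, MulAut.mul_apply, hσfix a ha, hσfix _ h1]
    rw [hinv] at h2
    rw [pow_two, MulAut.mul_apply, ← h2, MulAut.apply_inv_self]
  have hodd2 : Odd (orderOf (β ^ 2)) := Odd.of_dvd_nat hβ (orderOf_pow_dvd 2)
  have h2 : β ^ 2 = 1 := odd_aut_trivial hA (β ^ 2) hodd2 hββ
  have h3 : orderOf β ∣ 2 := orderOf_dvd_of_pow_eq_one h2
  have h4 : orderOf β = 1 := by
    have h5 : orderOf β ≤ 2 := Nat.le_of_dvd (by norm_num) h3
    obtain ⟨k, hk⟩ := hβ
    omega
  exact orderOf_eq_one_iff.mp h4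

end Cfsg.Agent.Lib.Helper5.S1906
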