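import Mathlib
import Cfsg.Agent.Lib.Helper5.S1906.Defs

set_option autoImplicit false
set_option linter.unusedSectionVars false

namespace Cfsg.Agent.Lib.Helper5.S1906

theorem s1906u8_invol_pow {A : Type*} [Group A] (hA : IsPGroup 2 A) (u : A) (hu : u ≠ 1) :
    ∃ j : ℕ, u ^ j ≠ 1 ∧ u ^ j * u ^ j = 1 := by
  classical
  have hex : ∃ k : ℕ, u ^ 2 ^ k = 1 := hA u
  obtain ⟨k, hk, hmin⟩ : ∃ k : ℕ, u ^ 2 ^ k = 1 ∧ ∀ m < k, u ^ 2 ^ m ≠ 1 :=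
    ⟨Nat.find hex, Nat.find_spec hex, fun m hm => Nat.find_min hex hm⟩
  have hk0 : k ≠ 0 := by
    rintro rfl
    rw [pow_zero, pow_one] at hk
    exact hu hk
  obtain ⟨m, rfl⟩ : ∃ m, k = m + 1 := ⟨k - 1, by omega⟩
  refine ⟨2 ^ m, hmin m (by omega), ?_⟩
  rw [← pow_add, ← two_mul, ← pow_succ']
  exact hk

theorem s1906u8_c_mem {A : Type*} [CommGroup A] {σ : MulAut A} {c z : A} (hA : IsPGroup 2 A)
    (h : ACtx σ c z) (C : Subgroup A) (hC : ∀ a ∈ C, σ a ∈ C) (a : A) (ha : a ∈ C)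
    (hne : σ a ≠ a) : c ∈ C := by
  have hu : dl σ a ≠ 1 := by
    rw [dl_apply]
    intro h1
    apply hne
    exact (inv_mul_eq_one.mp h1).symm
  obtain ⟨j, hj1, hj2⟩ := s1906u8_invol_pow hA (dl σ a) hu
  have hmemC : (dl σ a) ^ j ∈ C := by
    apply C.pow_mem
    rw [dl_apply]
    exact C.mul_mem (C.inv_mem ha) (hC a ha)
  have hmemR : (dl σ a) ^ j ∈ (dl σ).range := (dl σ).range.pow_mem ⟨a, rfl⟩ j
  rcases h.invD _ hmemR hj2 with h1 | h1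
  · exact absurd h1 hj1
  · rw [← h1]
    exact hmemC

variable {A : Type*} [CommGroup A] [Finite A] {σ : MulAut A} {c z : A}

theorem sigma_dichotomy (hA : IsPGroup 2 A) (h : ACtx σ c z) (C0 D : Subgroup A)
    (hC : ∀ a ∈ C0, σ a ∈ C0) (hD : ∀ a ∈ D, σ a ∈ D) (hdisj : C0 ⊓ D = ⊥) :
    (∀ a ∈ C0, σ a = a) ∨ (∀ a ∈ D, σ a = a) := by
  by_contra hcon
  rw [not_or] at hcon
  obtain ⟨h1, h2⟩ := hcon
  rw [not_forall] at h1 h2
  obtain ⟨a, ha⟩ := h1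
  obtain ⟨b, hb⟩ := h2
  rw [Classical.not_imp] at ha hb
  have hc1 : c ∈ C0 := s1906u8_c_mem hA h C0 hC a ha.1 ha.2
  have hc2 : c ∈ D := s1906u8_c_mem hA h D hD b hb.1 hb.2
  have hc3 : c ∈ C0 ⊓ D := ⟨hc1, hc2⟩
  rw [hdisj, Subgroup.mem_bot] at hc3
  exact h.c1 hc3

end Cfsg.Agent.Lib.Helper5.S1906
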