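import Mathlib
import Cfsg.Agent.Lib.Helper24.SU3M.Defs
import Cfsg.Agent.Lib.Helper18.SU3MA2
import Cfsg.Agent.Lib.Helper22.SU3MA1
import Cfsg.Agent.Lib.Helper28.UHerm

set_option autoImplicit false

namespace Cfsg.Agent.Lib.Helper24.SU3M

universe u

theorem s2089_core {F : Type u} [Field F] [Fintype F] (n q : ℕ) (hF : Fintype.card F = q ^ 2) (hn : 3 ≤ n) (h3 : ¬ (n = 3 ∧ q = 2))
    (hSU3 : n = 3 → 3 ≤ q → Cfsg.HasCyclicSchurMultiplier (Cfsg.PSU 3 F q) (Nat.gcd 3 (q + 1)))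
    (hCEU : 4 ≤ n → Cfsg.HasCyclicSchurMultiplier ↥(Cfsg.SU n F q) 1) :
    Cfsg.HasCyclicSchurMultiplier (Cfsg.PSU n F q) (Nat.gcd n (q + 1)) := by
  have hq2 : 2 ≤ q := Cfsg.Agent.Lib.Helper28.UHerm.two_le_q hF
  by_cases hn3 : n = 3
  · subst hn3
    have hq3 : 3 ≤ q := by
      by_contra hlt
      exact h3 ⟨rfl, by omega⟩
    exact hSU3 rfl hq3
  · have hn4 : 4 ≤ n := by omega
    exact psu_mult hF n hn (hCEU hn4) (su_perfect hF n hn h3)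

end Cfsg.Agent.Lib.Helper24.SU3M
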