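import Mathlib
import Cfsg.Agent.Lib.Helper24.S2089core
import Cfsg.Agent.Lib.Helper9.SU3MA5
import Cfsg.Agent.Lib.helper7.CEUN2

set_option autoImplicit false

namespace Cfsg.Agent.Lib.Helper24.SU3M

universe u

theorem s2089_core2 {F : Type u} [Field F] [Fintype F] (n q : ℕ) (hF : Fintype.card F = q ^ 2) (hn : 3 ≤ n) (h3 : ¬ (n = 3 ∧ q = 2))
    (hexc : (n, q) ∉ ({(4, 2), (4, 3), (6, 2)} : Set (ℕ × ℕ)))
    (hodd : ∀ m : ℕ, 2 ≤ m → Cfsg.HasCyclicSchurMultiplier ↥(Cfsg.SU (2 * m + 1) F q) 1) :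
    Cfsg.HasCyclicSchurMultiplier (Cfsg.PSU n F q) (Nat.gcd n (q + 1)) := by
  by_cases hev : Even n
  · by_cases hn3 : n = 3
    · subst hn3
      exact absurd hev (by decide)
    · exact Cfsg.Agent.Lib.helper7.CEU.psu_mult_even hF n (by omega) hev hexc
  · refine s2089_core n q hF hn h3 (fun _ hq => psu3_mult hF hq) (fun h4 => ?_)
    obtain ⟨m, rfl⟩ := Nat.not_even_iff_odd.1 hev
    exact hodd m (by omega)

end Cfsg.Agent.Lib.Helper24.SU3M
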