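import Mathlib
import Cfsg.Prelude.Def_LieExceptional

set_option autoImplicit false
set_option linter.style.haveILetI false
set_option linter.unusedVariables false

namespace Cfsg.Agent.Lib.helper3.S496

theorem h24_d2_fact720 : (720 : ℕ).factorization 3 = 2 := by
  have h : (720 : ℕ) = 3 ^ 2 * 80 := by norm_num
  rw [h, Nat.factorization_mul (by norm_num) (by norm_num),
    Nat.Prime.factorization_pow Nat.prime_three]
  have h80 : (80 : ℕ).factorization 3 = 0 :=
    Nat.factorization_eq_zero_of_not_dvd (by norm_num)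
  simp [h80]

theorem h24_d2_card_sylow {G : Type*} [Group G] [Finite G] (hG : Nat.card G = 720) (P : Sylow 3 G) :
    Nat.card (P : Subgroup G) = 9 := by
  haveI : Fact (Nat.Prime 3) := ⟨Nat.prime_three⟩
  rw [Sylow.card_eq_multiplicity, hG, h24_d2_fact720]
  norm_num

theorem h24_d2_stab {G : Type*} [Group G] [Finite G]
    (hTI : ∀ P R : Sylow 3 G, P ≠ R → (P : Subgroup G) ⊓ (R : Subgroup G) = ⊥)
    (P R : Sylow 3 G) (hR : R ≠ P) : MulAction.stabilizer (P : Subgroup G) R = ⊥ := by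
  haveI : Fact (Nat.Prime 3) := ⟨Nat.prime_three⟩
  rw [Subgroup.eq_bot_iff_forall]
  intro g hg
  have h1 : (g : G) • R = R := hg
  have h2 := Sylow.smul_eq_iff_mem_normalizer.mp h1
  have h4 := P.2.inf_normalizer_sylow R
  have h3 : (g : G) ∈ (P : Subgroup G) ⊓ (R : Subgroup G) := by
    rw [← h4]
    exact ⟨g.2, h2⟩
  rw [hTI P R (Ne.symm hR)] at h3
  exact Subtype.ext (Subgroup.mem_bot.mp h3)

theorem h24_d2_key {G : Type*} [Group G] [Finite G] (hG : Nat.card G = 720)
    (h10 : Nat.card (Sylow 3 G) = 10)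
    (hTI : ∀ P R : Sylow 3 G, P ≠ R → (P : Subgroup G) ⊓ (R : Subgroup G) = ⊥)
    (P R R' : Sylow 3 G) (hR : R ≠ P) (hR' : R' ≠ P) :
    ∃ g : G, g ∈ (P : Subgroup G) ∧ g • R = R' := by
  classical
  haveI : Fact (Nat.Prime 3) := ⟨Nat.prime_three⟩
  have hPcard := h24_d2_card_sylow hG P
  have hstab := h24_d2_stab hTI P R hR
  have horb : (MulAction.orbit (P : Subgroup G) R).ncard = 9 := by
    rw [← MulAction.index_stabilizer, hstab, Subgroup.index_bot, hPcard]
  have hsub : MulAction.orbit (P : Subgroup G) R ⊆ ({P}ᶜ : Set (Sylow 3 G)) := by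
    rintro _ ⟨g, rfl⟩ h
    apply hR
    have h1 : (g : G) • R = P := h
    have h2 : (g : G) • P = P :=
      Sylow.smul_eq_iff_mem_normalizer.mpr (Subgroup.le_normalizer g.2)
    have h3 : (g : G) • R = (g : G) • P := h1.trans h2.symm
    exact smul_left_cancel _ h3
  haveI : Finite (Sylow 3 G) := inferInstance
  have hcompl : ({P}ᶜ : Set (Sylow 3 G)).ncard = 9 := by
    rw [Set.ncard_compl, Set.ncard_singleton, h10]
  have heq : MulAction.orbit (P : Subgroup G) R = ({P}ᶜ : Set (Sylow 3 G)) := by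
    apply Set.eq_of_subset_of_ncard_le hsub
    rw [hcompl, horb]
  have hmem : R' ∈ MulAction.orbit (P : Subgroup G) R := by
    rw [heq]
    exact hR'
  obtain ⟨g, hg⟩ := hmem
  exact ⟨g, g.2, hg⟩

theorem s720_two_trans {G : Type*} [Group G] [Finite G] [IsSimpleGroup G] (hG : Nat.card G = 720)
    (h10 : Nat.card (Sylow 3 G) = 10)
    (hTI : ∀ P R : Sylow 3 G, P ≠ R → (P : Subgroup G) ⊓ (R : Subgroup G) = ⊥) :
    MulAction.IsMultiplyPretransitive G (Sylow 3 G) 2 := by
  haveI : Fact (Nat.Prime 3) := ⟨Nat.prime_three⟩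
  rw [MulAction.is_two_pretransitive_iff]
  intro a b c d hab hcd
  obtain ⟨g₁, hg₁⟩ := MulAction.exists_smul_eq G a c
  have hne : g₁ • b ≠ c := by
    rw [← hg₁]
    intro h
    exact hab (smul_left_cancel g₁ h).symm
  obtain ⟨g₂, hg₂c, hg₂⟩ := h24_d2_key hG h10 hTI c (g₁ • b) d hne (Ne.symm hcd)
  refine ⟨g₂ * g₁, ?_, ?_⟩
  · rw [mul_smul, hg₁]
    exact Sylow.smul_eq_iff_mem_normalizer.mpr (Subgroup.le_normalizer hg₂c)
  · rw [mul_smul, hg₂]

end Cfsg.Agent.Lib.helper3.S496
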