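import Mathlib
import Cfsg.Prelude.Def_LieExceptional
import Cfsg.Agent.Lib.helper8.Parity
import Cfsg.Agent.Lib.helper8.SimpleEmbed
import Cfsg.Agent.Lib.Helper24.S496D2

set_option autoImplicit false
set_option linter.style.haveILetI false
set_option linter.unusedVariables false

namespace Cfsg.Agent.Lib.helper3.S496

open Cfsg.Agent.Lib.helper8

theorem h24_d3_fix_card {G : Type*} [Group G] [Finite G] (hG : Nat.card G = 720)
    (h10 : Nat.card (Sylow 3 G) = 10)
    (hTI : ∀ P R : Sylow 3 G, P ≠ R → (P : Subgroup G) ⊓ (R : Subgroup G) = ⊥)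
    (h : G) (A B : Sylow 3 G) (hAB : A ≠ B) (hA : h • A = A) (hB : h • B = B) :
    ∃ s : ℕ, s ∣ 9 ∧ (MulAction.fixedBy (Sylow 3 G) h).ncard = s + 1 := by
  classical
  haveI : Fact (Nat.Prime 3) := ⟨Nat.prime_three⟩
  have hAcard := h24_d2_card_sylow hG A
  set S : Subgroup (A : Subgroup G) := (Subgroup.centralizer ({h} : Set G)).subgroupOf A with hS
  have hSmem : ∀ x : (A : Subgroup G), x ∈ S ↔ h * (x : G) * h⁻¹ = (x : G) := by
    intro x
    rw [hS, Subgroup.mem_subgroupOf, Subgroup.mem_centralizer_singleton_iff]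
    constructor
    · intro hx
      rw [← hx, mul_inv_cancel_right]
    · intro hx
      calc (x : G) * h = h * (x : G) * h⁻¹ * h := by rw [hx]
        _ = h * (x : G) := by group
  refine ⟨Nat.card S, ?_, ?_⟩
  · rw [← hAcard]
    exact Subgroup.card_subgroup_dvd_card S
  · have hstab := h24_d2_stab hTI A B (Ne.symm hAB)
    have hinj : Function.Injective (fun x : (A : Subgroup G) => (x : G) • B) := by
      intro x y hxy
      have h1 : (x : G) • B = (y : G) • B := hxy
      have h2 : (y⁻¹ * x) ∈ MulAction.stabilizer (A : Subgroup G) B := by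
        show ((y⁻¹ * x : (A : Subgroup G)) : G) • B = B
        rw [Subgroup.coe_mul, Subgroup.coe_inv, mul_smul, h1, smul_smul, inv_mul_cancel, one_smul]
      rw [hstab, Subgroup.mem_bot] at h2
      exact (inv_mul_eq_one.mp h2).symm
    have hhN : h ∈ Subgroup.normalizer ((A : Subgroup G) : Set G) :=
      Sylow.smul_eq_iff_mem_normalizer.mp hA
    have hconj : ∀ x : (A : Subgroup G), h * (x : G) * h⁻¹ ∈ (A : Subgroup G) := fun x =>
      (Subgroup.mem_normalizer_iff.mp hhN (x : G)).mp x.2
    have hact : ∀ x : (A : Subgroup G), h • ((x : G) • B) = (h * (x : G) * h⁻¹) • B := by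
      intro x
      conv_rhs => rw [← hB]
      rw [smul_smul, smul_smul, inv_mul_cancel_right]
    have hset : MulAction.fixedBy (Sylow 3 G) h =
        insert A ((fun x : (A : Subgroup G) => (x : G) • B) '' (S : Set (A : Subgroup G))) := by
      ext Q
      rw [MulAction.mem_fixedBy, Set.mem_insert_iff]
      constructor
      · intro hQ
        by_cases hQA : Q = A
        · exact Or.inl hQA
        · right
          obtain ⟨g, hgA, hgQ⟩ := h24_d2_key hG h10 hTI A B Q (Ne.symm hAB) hQA
          refine ⟨⟨g, hgA⟩, ?_, hgQ⟩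
          rw [SetLike.mem_coe, hSmem]
          have h1 := hact ⟨g, hgA⟩
          have h2 : h • (g • B) = g • B := by rw [hgQ]; exact hQ
          have h3 : (⟨h * g * h⁻¹, hconj ⟨g, hgA⟩⟩ : (A : Subgroup G)) = ⟨g, hgA⟩ := by
            apply hinj
            show (h * g * h⁻¹) • B = g • B
            rw [← h2]
            exact h1.symm
          exact congrArg Subtype.val h3
      · rintro (hQ | ⟨x, hx, rfl⟩)
        · rw [hQ]
          exact hA
        · show h • ((x : G) • B) = (x : G) • B
          rw [hact x, (hSmem x).mp hx]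
    have hnot : A ∉ (fun x : (A : Subgroup G) => (x : G) • B) '' (S : Set (A : Subgroup G)) := by
      rintro ⟨x, -, hx⟩
      apply hAB
      have h1 : (x : G) • B = A := hx
      have h2 : (x : G) • A = A :=
        Sylow.smul_eq_iff_mem_normalizer.mpr (Subgroup.le_normalizer x.2)
      have h3 : (x : G) • B = (x : G) • A := h1.trans h2.symm
      exact (smul_left_cancel _ h3).symm
    rw [hset, Set.ncard_insert_of_notMem hnot, Set.ncard_image_of_injective _ hinj]
    show _ = Nat.card (S : Set (A : Subgroup G)) + 1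
    rw [Nat.card_coe_set_eq]

theorem s720_invol_fix {G : Type*} [Group G] [Finite G] [IsSimpleGroup G] (hG : Nat.card G = 720)
    (h10 : Nat.card (Sylow 3 G) = 10)
    (hTI : ∀ P R : Sylow 3 G, P ≠ R → (P : Subgroup G) ⊓ (R : Subgroup G) = ⊥)
    (h : G) (hh : orderOf h = 2) (A B C : Sylow 3 G) (hAB : A ≠ B) (hBC : B ≠ C) (hAC : A ≠ C)
    (hA : h • A = A) (hB : h • B = B) (hC : h • C = C) : False := by
  classical
  haveI : Fact (Nat.Prime 3) := ⟨Nat.prime_three⟩
  have hGnc : ¬ IsMulCommutative G := h8_not_comm_of_card (by rw [hG]; norm_num)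
  have hh2 : h ^ 2 = 1 := by rw [← hh]; exact pow_orderOf_eq_one h
  have hpar := h8_simple_involution_fixed (X := Sylow 3 G) hGnc h hh2
  rw [h10, Nat.card_coe_set_eq] at hpar
  obtain ⟨s, hs9, hfix⟩ := h24_d3_fix_card hG h10 hTI h A B hAB hA hB
  rw [hfix] at hpar
  have hs : s = 1 ∨ s = 3 ∨ s = 9 := by
    have hle : s ≤ 9 := Nat.le_of_dvd (by norm_num) hs9
    interval_cases s <;> simp_all
  have h3 : 3 ≤ (MulAction.fixedBy (Sylow 3 G) h).ncard := by
    have hsub : ({A, B, C} : Set (Sylow 3 G)) ⊆ MulAction.fixedBy (Sylow 3 G) h := by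
      intro Q hQ
      rcases hQ with rfl | rfl | rfl
      · exact hA
      · exact hB
      · exact hC
    have hc3 : ({A, B, C} : Set (Sylow 3 G)).ncard = 3 := by
      rw [Set.ncard_eq_three]
      exact ⟨A, B, C, hAB, hAC, hBC, rfl⟩
    exact le_trans (le_of_eq hc3.symm) (Set.ncard_le_ncard hsub (Set.toFinite _))
  rw [hfix] at h3
  rcases hs with hs | hs | hs
  · omega
  · rw [hs] at hpar
    omega
  · have hall : MulAction.fixedBy (Sylow 3 G) h = Set.univ := by
      rw [Set.eq_univ_iff_ncard, hfix, hs, h10]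
    have hker : h ∈ (MulAction.toPermHom G (Sylow 3 G)).ker := by
      rw [MonoidHom.mem_ker]
      apply Equiv.Perm.ext
      intro Q
      have hQ : Q ∈ MulAction.fixedBy (Sylow 3 G) h := by rw [hall]; exact Set.mem_univ Q
      exact hQ
    have hK : ((MulAction.toPermHom G (Sylow 3 G)).ker).Normal := inferInstance
    rcases hK.eq_bot_or_eq_top with hbot | htop
    · rw [hbot, Subgroup.mem_bot] at hker
      rw [hker, orderOf_one] at hh
      omega
    · obtain ⟨g, hg⟩ := MulAction.exists_smul_eq G A B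
      have hgK : g ∈ (MulAction.toPermHom G (Sylow 3 G)).ker := by rw [htop]; exact Subgroup.mem_top g
      rw [MonoidHom.mem_ker] at hgK
      have : g • A = A := by
        have := congrArg (fun σ : Equiv.Perm (Sylow 3 G) => σ A) hgK
        exact this
      exact hAB (this.symm.trans hg)

end Cfsg.Agent.Lib.helper3.S496
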