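import Mathlib

set_option autoImplicit false

namespace Cfsg.Agent.Lib.Helper19.S5954

theorem s5954tin_arith (q r : ℕ) [Fact r.Prime] (hq : 1 ≤ q)
    (hi : orderOf (q : ZMod r) = 2) : r ∣ q + 1 ∧ ¬ r ∣ q - 1 := by
  have h1 : (q : ZMod r) ^ 2 = 1 := by
    rw [← hi]
    exact pow_orderOf_eq_one _
  have h2 : (q : ZMod r) ≠ 1 := by
    intro h
    rw [h, orderOf_one] at hi
    omega
  have h3 : ((q : ZMod r) - 1) * ((q : ZMod r) + 1) = 0 := by
    linear_combination h1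
  have h4 : (q : ZMod r) - 1 ≠ 0 := sub_ne_zero.mpr h2
  constructor
  · rcases mul_eq_zero.mp h3 with h5 | h5
    · exact absurd h5 h4
    · rw [← ZMod.natCast_eq_zero_iff]
      push_cast
      exact h5
  · intro h
    rw [← ZMod.natCast_eq_zero_iff, Nat.cast_sub hq, Nat.cast_one] at h
    exact h4 h

theorem s5954tin_exists_z {F : Type*} [Field F] [Fintype F] (q r : ℕ) [Fact r.Prime]
    (hF : Fintype.card F = q ^ 2) (hq : 2 ≤ q) (hr1 : r ∣ q + 1) (hr2 : ¬ r ∣ q - 1) :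
    ∃ z : F, z ≠ 0 ∧ orderOf z = r ^ padicValNat r (q + 1) ∧ z ^ (q + 1) = 1 ∧
      ∀ b : F, b ^ r ≠ z := by
  classical
  have hrp : r.Prime := Fact.out
  obtain ⟨k, hk⟩ : ∃ k, k = padicValNat r (q + 1) := ⟨_, rfl⟩
  have hk1 : 1 ≤ k := by
    rw [hk]
    exact one_le_padicValNat_of_dvd (by omega) hr1
  have hfac : q ^ 2 - 1 = (q - 1) * (q + 1) := by
    obtain ⟨s, rfl⟩ : ∃ s, q = s + 1 := ⟨q - 1, by omega⟩
    have : (s + 1) ^ 2 = (s + 1 - 1) * (s + 1 + 1) + 1 := by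
      simp only [Nat.add_sub_cancel]
      ring
    omega
  have hq1 : q - 1 ≠ 0 := by omega
  have hq2 : q + 1 ≠ 0 := by omega
  have hQ0 : q ^ 2 - 1 ≠ 0 := by
    rw [hfac]
    exact mul_ne_zero hq1 hq2
  have hvQ : padicValNat r (q ^ 2 - 1) = k := by
    rw [hfac, padicValNat.mul hq1 hq2, padicValNat.eq_zero_of_not_dvd hr2, zero_add, hk]
  have hrkQ : r ^ k ∣ q ^ 2 - 1 := by
    rw [padicValNat_dvd_iff_le hQ0, hvQ]
  have hrQ : r ∣ q ^ 2 - 1 := dvd_trans (dvd_pow_self r (by omega)) hrkQ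
  obtain ⟨g, hg⟩ := IsCyclic.exists_generator (α := Fˣ)
  have hordg : orderOf g = q ^ 2 - 1 := by
    rw [orderOf_eq_card_of_forall_mem_zpowers hg, Nat.card_eq_fintype_card, Fintype.card_units, hF]
  obtain ⟨e, he⟩ : ∃ e, e = (q ^ 2 - 1) / r ^ k := ⟨_, rfl⟩
  have hemul : e * r ^ k = q ^ 2 - 1 := by
    rw [he]
    exact Nat.div_mul_cancel hrkQ
  have he0 : e ≠ 0 := by
    rintro rfl
    rw [zero_mul] at hemul
    exact hQ0 hemul.symm
  have hedvd : e ∣ orderOf g := by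
    rw [hordg]
    exact ⟨r ^ k, hemul.symm⟩
  have hordz : orderOf (g ^ e) = r ^ k := by
    rw [orderOf_pow_of_dvd he0 hedvd, hordg, ← hemul]
    exact Nat.mul_div_cancel_left _ (Nat.pos_of_ne_zero he0)
  refine ⟨((g ^ e : Fˣ) : F), Units.ne_zero _, ?_, ?_, ?_⟩
  · rw [orderOf_units, hordz, hk]
  · have h1 : (g ^ e) ^ (q + 1) = 1 := by
      apply orderOf_dvd_iff_pow_eq_one.mp
      rw [hordz, hk]
      exact pow_padicValNat_dvd
    rw [← Units.val_pow_eq_pow_val, h1, Units.val_one]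
  · intro b hb
    have hb0 : b ≠ 0 := by
      rintro rfl
      rw [zero_pow hrp.ne_zero] at hb
      exact Units.ne_zero _ hb.symm
    have h1 : b ^ (q ^ 2 - 1) = 1 := by
      rw [← hF]
      exact FiniteField.pow_card_sub_one_eq_one b hb0
    have h2 : (((g ^ e : Fˣ) : F)) ^ ((q ^ 2 - 1) / r) = 1 := by
      rw [← hb, ← pow_mul, Nat.mul_div_cancel' hrQ, h1]
    have h3 : orderOf (((g ^ e : Fˣ) : F)) ∣ (q ^ 2 - 1) / r := orderOf_dvd_of_pow_eq_one h2
    rw [orderOf_units, hordz] at h3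
    have hdiv0 : (q ^ 2 - 1) / r ≠ 0 := by
      intro h0
      have := Nat.div_mul_cancel hrQ
      rw [h0, zero_mul] at this
      exact hQ0 this.symm
    rw [padicValNat_dvd_iff_le hdiv0, padicValNat.div hrQ, hvQ] at h3
    omega

end Cfsg.Agent.Lib.Helper19.S5954
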