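import Mathlib
import Cfsg.Prelude.Def_Classical

set_option autoImplicit false

namespace Cfsg.Agent.Lib.Helper19.S5954

open Matrix

variable {F : Type*} [Field F]

def s5954tin_sh (r t : ℕ) : Equiv.Perm (ZMod r × Fin t) where
  toFun p := (p.1 + 1, p.2)
  invFun p := (p.1 - 1, p.2)
  left_inv p := by simp
  right_inv p := by simp

theorem s5954tin_sh_symm_apply (r t : ℕ) (p : ZMod r × Fin t) :
    (s5954tin_sh r t).symm p = (p.1 - 1, p.2) := rfl

theorem s5954tin_sh_symm_pow (r t : ℕ) (k : ℕ) (p : ZMod r × Fin t) :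
    ((s5954tin_sh r t).symm ^ k) p = (p.1 - (k : ZMod r), p.2) := by
  induction k generalizing p with
  | zero => simp
  | succ k ih =>
    rw [pow_succ, Equiv.Perm.mul_apply, s5954tin_sh_symm_apply, ih]
    simp only [Nat.cast_add, Nat.cast_one]
    congr 1
    ring

theorem s5954tin_sign (r t : ℕ) [NeZero r] (hodd : Odd r) :
    Equiv.Perm.sign (s5954tin_sh r t).symm = 1 := by
  have h1 : (s5954tin_sh r t).symm ^ r = 1 := by
    apply Equiv.ext
    intro p
    rw [s5954tin_sh_symm_pow, ZMod.natCast_self, sub_zero]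
    rfl
  have h2 : Equiv.Perm.sign (s5954tin_sh r t).symm ^ r = 1 := by
    rw [← map_pow, h1, map_one]
  rcases Int.units_eq_one_or (Equiv.Perm.sign (s5954tin_sh r t).symm) with h3 | h3
  · exact h3
  · rw [h3, hodd.neg_one_pow] at h2
    exact absurd h2 (by decide)

def s5954tin_d (r t : ℕ) (z : F) : ZMod r × Fin t → F := fun p => if p.1 = 0 then z else 1

def s5954tin_M (r t : ℕ) [NeZero r] (z : F) : Matrix (ZMod r × Fin t) (ZMod r × Fin t) F :=
  (Matrix.diagonal (s5954tin_d r t z)).submatrix (s5954tin_sh r t).symm id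

theorem s5954tin_M_mulVec (r t : ℕ) [NeZero r] (z : F) (v : ZMod r × Fin t → F)
    (p : ZMod r × Fin t) :
    (s5954tin_M r t z *ᵥ v) p = s5954tin_d r t z (p.1 - 1, p.2) * v (p.1 - 1, p.2) := by
  classical
  unfold s5954tin_M
  simp only [Matrix.mulVec, dotProduct, Matrix.submatrix_apply, id_eq, Matrix.diagonal_apply,
    s5954tin_sh_symm_apply, ite_mul, zero_mul]
  rw [Finset.sum_ite_eq]
  simp

theorem s5954tin_M_det (r t : ℕ) [NeZero r] (hodd : Odd r) (z : F) :
    (s5954tin_M r t z).det = z ^ t := by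
  classical
  unfold s5954tin_M
  rw [Matrix.det_permute, s5954tin_sign r t hodd, Matrix.det_diagonal]
  simp only [Units.val_one, Int.cast_one, one_mul]
  rw [Fintype.prod_prod_type]
  simp only [s5954tin_d]
  have h : ∀ a : ZMod r, (∏ _y : Fin t, (if a = 0 then z else (1 : F))) =
      if a = 0 then z ^ t else 1 := by
    intro a
    rw [Finset.prod_const, Finset.card_univ, Fintype.card_fin]
    split_ifs
    · rfl
    · exact one_pow t
  rw [Finset.prod_congr rfl (fun a _ => h a), Finset.prod_ite_eq']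
  simp

theorem s5954tin_M_pow_mulVec (r t : ℕ) [NeZero r] (z : F) (k : ℕ) :
    ∀ (v : ZMod r × Fin t → F) (p : ZMod r × Fin t),
      ((s5954tin_M r t z) ^ k *ᵥ v) p =
        (∏ l ∈ Finset.range k, s5954tin_d r t z (p.1 - 1 - (l : ZMod r), p.2)) *
          v (p.1 - (k : ZMod r), p.2) := by
  induction k with
  | zero =>
    intro v p
    simp
  | succ k ih =>
    intro v p
    rw [pow_succ', ← Matrix.mulVec_mulVec, s5954tin_M_mulVec, ih, Finset.prod_range_succ']
    simp only [Nat.cast_add, Nat.cast_one, Nat.cast_zero, sub_zero]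
    have e1 : p.1 - 1 - (k : ZMod r) = p.1 - ((k : ZMod r) + 1) := by ring
    have e2 : ∀ l : ℕ, p.1 - 1 - 1 - (l : ZMod r) = p.1 - 1 - ((l : ZMod r) + 1) := by
      intro l
      ring
    simp only [e1, e2]
    ring

theorem s5954tin_prod_d (r t : ℕ) [NeZero r] (z : F) (p : ZMod r × Fin t) :
    (∏ l ∈ Finset.range r, s5954tin_d r t z (p.1 - 1 - (l : ZMod r), p.2)) = z := by
  classical
  have h : ∀ l ∈ Finset.range r, s5954tin_d r t z (p.1 - 1 - (l : ZMod r), p.2) =
      if l = (p.1 - 1).val then z else 1 := by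
    intro l hl
    have hl' : l < r := Finset.mem_range.mp hl
    unfold s5954tin_d
    simp only
    have hiff : (p.1 - 1 - (l : ZMod r) = 0) ↔ l = (p.1 - 1).val := by
      constructor
      · intro h0
        have h1 : (l : ZMod r) = p.1 - 1 := (sub_eq_zero.mp h0).symm
        rw [← h1, ZMod.val_natCast_of_lt hl']
      · intro h0
        rw [h0, ZMod.natCast_zmod_val, sub_self]
    by_cases hc : l = (p.1 - 1).val
    · rw [if_pos hc, if_pos (hiff.mpr hc)]
    · rw [if_neg hc, if_neg (fun h0 => hc (hiff.mp h0))]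
  rw [Finset.prod_congr rfl h, Finset.prod_ite_eq']
  rw [if_pos (Finset.mem_range.mpr (ZMod.val_lt _))]

theorem s5954tin_M_pow (r t : ℕ) [NeZero r] (z : F) :
    (s5954tin_M r t z) ^ r = z • (1 : Matrix (ZMod r × Fin t) (ZMod r × Fin t) F) := by
  rw [Matrix.ext_iff_mulVec]
  intro v
  funext p
  rw [s5954tin_M_pow_mulVec, s5954tin_prod_d, ZMod.natCast_self, sub_zero, Matrix.smul_mulVec,
    Matrix.one_mulVec]
  rfl

theorem s5954tin_M_herm (r t q : ℕ) [NeZero r] (z : F) (hz : z ^ (q + 1) = 1)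
    (u v : ZMod r × Fin t → F) :
    ∑ p, (s5954tin_M r t z *ᵥ u) p * ((s5954tin_M r t z *ᵥ v) p) ^ q = ∑ p, u p * (v p) ^ q := by
  have h1 : ∀ p : ZMod r × Fin t, (s5954tin_M r t z *ᵥ u) p * ((s5954tin_M r t z *ᵥ v) p) ^ q =
      (fun p' => u p' * (v p') ^ q) ((s5954tin_sh r t).symm p) := by
    intro p
    rw [s5954tin_M_mulVec, s5954tin_M_mulVec, s5954tin_sh_symm_apply]
    have hd : s5954tin_d r t z (p.1 - 1, p.2) ^ (q + 1) = 1 := by
      unfold s5954tin_d
      simp only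
      split_ifs
      · exact hz
      · exact one_pow _
    simp only
    rw [mul_pow]
    calc s5954tin_d r t z (p.1 - 1, p.2) * u (p.1 - 1, p.2) *
          (s5954tin_d r t z (p.1 - 1, p.2) ^ q * v (p.1 - 1, p.2) ^ q)
        = s5954tin_d r t z (p.1 - 1, p.2) ^ (q + 1) * (u (p.1 - 1, p.2) * v (p.1 - 1, p.2) ^ q) := by
          ring
      _ = u (p.1 - 1, p.2) * v (p.1 - 1, p.2) ^ q := by rw [hd, one_mul]
  rw [Finset.sum_congr rfl (fun p _ => h1 p)]
  exact Equiv.sum_comp (s5954tin_sh r t).symm (fun p' => u p' * (v p') ^ q)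

theorem s5954tin_elt (n r t q : ℕ) [Fact r.Prime] (hodd : Odd r) (hn : n = r * t) (z : F)
    (hzN : z ^ (q + 1) = 1) (hzt : z ^ t = 1) :
    ∃ X : Matrix (Fin n) (Fin n) F, X.det = 1 ∧ X ^ r = z • 1 ∧
      ∀ u v : Fin n → F, Cfsg.hermForm n F q (X *ᵥ u) (X *ᵥ v) = Cfsg.hermForm n F q u v := by
  classical
  have hrp : r.Prime := Fact.out
  have : NeZero r := ⟨hrp.ne_zero⟩
  have hcard : Fintype.card (ZMod r × Fin t) = Fintype.card (Fin n) := by
    rw [Fintype.card_prod, ZMod.card, Fintype.card_fin, Fintype.card_fin, hn]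
  let e : ZMod r × Fin t ≃ Fin n := Fintype.equivOfCardEq hcard
  refine ⟨Matrix.reindexAlgEquiv F F e (s5954tin_M r t z), ?_, ?_, ?_⟩
  · rw [Matrix.det_reindexAlgEquiv, s5954tin_M_det r t hodd, hzt]
  · rw [← map_pow, s5954tin_M_pow, map_smul, map_one]
  · intro u v
    have hmv : ∀ w : Fin n → F, (Matrix.reindexAlgEquiv F F e (s5954tin_M r t z)) *ᵥ w =
        (s5954tin_M r t z *ᵥ (w ∘ e)) ∘ e.symm := by
      intro w
      rw [Matrix.coe_reindexAlgEquiv, Matrix.reindex_apply, Matrix.submatrix_mulVec_equiv]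
      rfl
    unfold Cfsg.hermForm
    rw [hmv, hmv]
    have hL : ∑ i, ((s5954tin_M r t z *ᵥ (u ∘ e)) ∘ e.symm) i *
        (((s5954tin_M r t z *ᵥ (v ∘ e)) ∘ e.symm) i) ^ q =
        ∑ p, (s5954tin_M r t z *ᵥ (u ∘ e)) p * ((s5954tin_M r t z *ᵥ (v ∘ e)) p) ^ q :=
      Equiv.sum_comp e.symm (fun p => (s5954tin_M r t z *ᵥ (u ∘ e)) p *
        ((s5954tin_M r t z *ᵥ (v ∘ e)) p) ^ q)
    have hR : ∑ i, u i * v i ^ q = ∑ p, (u ∘ e) p * ((v ∘ e) p) ^ q :=
      (Equiv.sum_comp e (fun i => u i * v i ^ q)).symm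
    rw [hL, hR]
    exact s5954tin_M_herm r t q z hzN (u ∘ e) (v ∘ e)

end Cfsg.Agent.Lib.Helper19.S5954
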