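import Mathlib
import Cfsg.Agent.Lib.helper3.S5953.Defs
import Cfsg.Prelude.Def_LieClassical
import Cfsg.Agent.Lib.Helper24.S5954TINa
import Cfsg.Agent.Lib.Helper24.S5954TINb

set_option autoImplicit false

namespace Cfsg.Agent.Lib.helper3.S5953

open Polynomial Module
open Matrix

theorem ns_elem {F : Type*} [Field F] [Fintype F] {q : ℕ} (hF : Fintype.card F = q ^ 2)
    (r n : ℕ) [Fact r.Prime] (hr2 : r ≠ 2) (hrq : r ∣ q + 1) (hn : 0 < n)
    (hval : padicValNat r (q + 1) < padicValNat r n) :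
    ∃ (x : Matrix.SpecialLinearGroup (Fin n) F) (z : F), x ∈ Cfsg.SU n F q ∧
      ((x ^ r : Matrix.SpecialLinearGroup (Fin n) F) : Matrix (Fin n) (Fin n) F) =
        z • (1 : Matrix (Fin n) (Fin n) F) ∧ (∀ a : F, a ^ r ≠ z) := by
  classical
  have hrpr : r.Prime := Fact.out
  have hq2 : 2 ≤ q := by
    have h1 : 1 < Fintype.card F := Fintype.one_lt_card
    rw [hF] at h1
    by_contra hc
    have h2 : q ≤ 1 := by omega
    have h3 := Nat.pow_le_pow_left h2 2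
    omega
  have hr2' : ¬ r ∣ q - 1 := by
    intro h
    have h1 : r ∣ (q + 1) - (q - 1) := Nat.dvd_sub hrq h
    have h2 : (q + 1) - (q - 1) = 2 := by omega
    rw [h2] at h1
    have h3 := Nat.le_of_dvd (by norm_num) h1
    have h4 := hrpr.two_le
    omega
  obtain ⟨z, hz0, hzord, hzN, hznr⟩ :=
    Cfsg.Agent.Lib.Helper19.S5954.s5954tin_exists_z (F := F) q r hF hq2 hrq hr2'
  obtain ⟨k, hk⟩ : ∃ k, k = padicValNat r (q + 1) := ⟨_, rfl⟩
  rw [← hk] at hval hzord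
  have hn0 : n ≠ 0 := by omega
  have hdvd : r ^ (k + 1) ∣ n := (padicValNat_dvd_iff_le hn0).mpr (by omega)
  obtain ⟨s, hs⟩ := hdvd
  obtain ⟨t, ht⟩ : ∃ t, t = r ^ k * s := ⟨_, rfl⟩
  have hnt : n = r * t := by
    rw [hs, ht]
    ring
  have hzt : z ^ t = 1 := by
    apply orderOf_dvd_iff_pow_eq_one.mp
    rw [hzord, ht]
    exact ⟨s, rfl⟩
  have hodd : Odd r := hrpr.odd_of_ne_two hr2
  obtain ⟨X, hdet, hXr, hherm⟩ :=
    Cfsg.Agent.Lib.Helper19.S5954.s5954tin_elt (F := F) n r t q hodd hnt z hzN hzt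
  obtain ⟨x, hx⟩ : ∃ x : Matrix.SpecialLinearGroup (Fin n) F,
      (x : Matrix (Fin n) (Fin n) F) = X := ⟨⟨X, hdet⟩, rfl⟩
  refine ⟨x, z, ?_, ?_, hznr⟩
  · intro u v
    show Cfsg.hermForm n F q ((x : Matrix (Fin n) (Fin n) F) *ᵥ u)
      ((x : Matrix (Fin n) (Fin n) F) *ᵥ v) = Cfsg.hermForm n F q u v
    rw [hx]
    exact hherm u v
  · rw [Matrix.SpecialLinearGroup.coe_pow, hx]
    exact hXr

end Cfsg.Agent.Lib.helper3.S5953
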