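import Mathlib
import Cfsg.Agent.Lib.Helper19.S5954.Defs
import Cfsg.Agent.Lib.helper4.S5954.NSDefs
import Cfsg.Agent.Lib.Helper24.S5954TINa
import Cfsg.Agent.Lib.Helper26.SFOCYCARITH

set_option autoImplicit false
set_option linter.unusedVariables false
set_option linter.unusedSectionVars false

namespace Cfsg.Agent.Lib.Helper19.S5954

open Polynomial Module Cfsg.Agent.Lib.Helper13.S5955

variable {F : Type*} [Field F] {V : Type*} [AddCommGroup V] [Module F V]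

theorem s5954nsdiv_pos (q r : ℕ) [Fact r.Prime] (hi : orderOf (q : ZMod r) = 2) : 1 ≤ q := by
  by_contra hcon
  have hq0 : q = 0 := by omega
  have h1 : (q : ZMod r) ^ 2 = 1 := by
    rw [← hi]
    exact pow_orderOf_eq_one _
  rw [hq0, Nat.cast_zero, zero_pow (by norm_num)] at h1
  exact zero_ne_one h1

theorem ns_div (q r : ℕ) [Fact r.Prime] (hi : orderOf (q : ZMod r) = 2) : r ∣ q + 1 ∧ ¬ r ∣ q - 1 :=
  s5954tin_arith q r (s5954nsdiv_pos q r hi) hi

theorem s5954nsroot_two_le [Fintype F] {q : ℕ} (hq : Fintype.card F = q ^ 2) : 2 ≤ q := by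
  have h1 : 1 < Fintype.card F := Fintype.one_lt_card
  rw [hq] at h1
  by_contra hc
  have h2 : q ≤ 1 := by omega
  have h3 := Nat.pow_le_pow_left h2 2
  omega

theorem s5954nsroot_fac (q : ℕ) (hq : 1 ≤ q) : q ^ 2 - 1 = (q - 1) * (q + 1) := by
  obtain ⟨s, rfl⟩ : ∃ s, q = s + 1 := ⟨q - 1, by omega⟩
  have : (s + 1) ^ 2 = (s + 1 - 1) * (s + 1 + 1) + 1 := by
    simp only [Nat.add_sub_cancel]
    ring
  omega

theorem ns_root [Fintype F] {q : ℕ} (hq : Fintype.card F = q ^ 2) (r : ℕ) [Fact r.Prime] (hi : orderOf (q : ZMod r) = 2)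
    (z w : F) (hz : z ^ (q + 1) = 1) (hw : w ^ r = z) : w ^ (q + 1) = 1 := by
  have hrp : r.Prime := Fact.out
  have hq2 := s5954nsroot_two_le hq
  obtain ⟨hr1, hr2⟩ := ns_div q r hi
  have hz0 : z ≠ 0 := by
    rintro rfl
    rw [zero_pow (by omega)] at hz
    exact zero_ne_one hz
  have hw0 : w ≠ 0 := by
    rintro rfl
    rw [zero_pow hrp.ne_zero] at hw
    exact hz0 hw.symm
  have h1 : (w ^ (q + 1)) ^ r = 1 := by
    rw [← pow_mul, mul_comm, pow_mul, hw, hz]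
  have h2 : (w ^ (q + 1)) ^ (q - 1) = 1 := by
    rw [← pow_mul, mul_comm, ← s5954nsroot_fac q (by omega), ← hq]
    exact FiniteField.pow_card_sub_one_eq_one w hw0
  have h3 : orderOf (w ^ (q + 1)) ∣ Nat.gcd r (q - 1) :=
    Nat.dvd_gcd (orderOf_dvd_of_pow_eq_one h1) (orderOf_dvd_of_pow_eq_one h2)
  have h4 : Nat.gcd r (q - 1) = 1 := (Nat.Prime.coprime_iff_not_dvd hrp).mpr hr2
  rw [h4, Nat.dvd_one] at h3
  exact orderOf_eq_one_iff.mp h3

theorem ns_lam [Fintype F] {q : ℕ} (hq : Fintype.card F = q ^ 2) (r : ℕ) [Fact r.Prime] (hi : orderOf (q : ZMod r) = 2) :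
    ∃ l : F, l ^ r = 1 ∧ l ≠ 1 ∧ l ^ (q + 1) = 1 := by
  have hrp : r.Prime := Fact.out
  have hq2 := s5954nsroot_two_le hq
  obtain ⟨hr1, hr2⟩ := ns_div q r hi
  obtain ⟨z, hz0, hzord, hzN, -⟩ := s5954tin_exists_z (F := F) q r hq hq2 hr1 hr2
  obtain ⟨k, hk⟩ : ∃ k, k = padicValNat r (q + 1) := ⟨_, rfl⟩
  rw [← hk] at hzord
  have hk1 : 1 ≤ k := by
    rw [hk]
    exact one_le_padicValNat_of_dvd (by omega) hr1
  obtain ⟨j, rfl⟩ : ∃ j, k = j + 1 := ⟨k - 1, by omega⟩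
  refine ⟨z ^ (r ^ j), ?_, ?_, ?_⟩
  · rw [← pow_mul, ← pow_succ, ← hzord]
    exact pow_orderOf_eq_one z
  · intro h1
    have h2 := orderOf_dvd_of_pow_eq_one h1
    rw [hzord] at h2
    have h3 := Nat.le_of_dvd (pow_pos hrp.pos j) h2
    have h4 : r ^ j < r ^ (j + 1) := Nat.pow_lt_pow_right hrp.one_lt (by omega)
    omega
  · rw [← pow_mul, mul_comm, pow_mul, hzN, one_pow]

theorem ns_arith1 [Fintype F] {q : ℕ} (hq : Fintype.card F = q ^ 2) (r : ℕ) [Fact r.Prime] (hi : orderOf (q : ZMod r) = 2)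
    (n : ℕ) (hn : 0 < n) (z : F) (hzN : z ^ (q + 1) = 1) (hz : ∀ b : F, b ^ r ≠ z) (hrn : r ∣ n) (hzn : z ^ (n / r) = 1) :
    padicValNat r (q + 1) < padicValNat r n := by
  by_contra hcon
  rw [not_lt] at hcon
  have hq2 := s5954nsroot_two_le hq
  have hz0 : z ≠ 0 := by
    rintro rfl
    rw [zero_pow (by omega)] at hzN
    exact zero_ne_one hzN
  have hv : padicValNat r n ≤ padicValNat r (q ^ 2 - 1) := by
    rw [s5954nsroot_fac q (by omega), padicValNat.mul (by omega) (by omega)]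
    omega
  obtain ⟨b, hb⟩ := Cfsg.Agent.Lib.helper8.SFO.cyc_arith hq n r hn z hz0 hrn hzn hv
  exact hz b hb

end Cfsg.Agent.Lib.Helper19.S5954
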