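import Mathlib
import Cfsg.Agent.Lib.helper8.SFOTYPEB

set_option autoImplicit false

namespace Cfsg.Agent.Lib.Helper19.S5954

open Matrix Polynomial

theorem s5954tin_dvd_of_pow {F : Type*} [Field F] {m : ℕ} (r : ℕ) [Fact r.Prime]
    (A : Matrix (Fin m) (Fin m) F) (z : F) (hA : A ^ r = z • 1) (hz : ∀ b : F, b ^ r ≠ z) :
    r ∣ m := by
  classical
  have hrpr : r.Prime := Fact.out
  set g : F[X] := X ^ r - C z with hg
  have hgirr : Irreducible g := X_pow_sub_C_irreducible_of_prime hrpr hz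
  have hgm : g.Monic := monic_X_pow_sub_C z hrpr.ne_zero
  have hgdeg : g.natDegree = r := natDegree_X_pow_sub_C
  have hkill : aeval A g = 0 := by
    rw [hg, map_sub, map_pow, aeval_X, aeval_C, hA, Algebra.algebraMap_eq_smul_one, sub_self]
  have hmin : minpoly F A ∣ g := minpoly.dvd F A hkill
  obtain ⟨k, hk⟩ := Cfsg.Agent.Lib.helper8.SFO.sfotypeb_pow_of_factors g hgirr hgm A.charpoly
    (Matrix.charpoly_monic A)
    (fun f hf hd => (Cfsg.Agent.Lib.helper6.SSCONJ.ssconjirr_matrix A f hf hd).trans hmin)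
  have h1 := Matrix.charpoly_natDegree_eq_dim A
  rw [hk, natDegree_pow, hgdeg, Fintype.card_fin] at h1
  exact ⟨k, by rw [← h1, mul_comm]⟩

theorem s5954tin_inv_dvd {F : Type*} [Field F] {n : ℕ} (r : ℕ) [Fact r.Prime]
    (X : Matrix (Fin n) (Fin n) F) (z : F) (hX : X ^ r = z • 1) (hz : ∀ b : F, b ^ r ≠ z)
    (W : Submodule F (Fin n → F)) (hW : W.map (Matrix.toLin' X) ≤ W) :
    r ∣ Module.finrank F W := by
  classical
  have hW' : ∀ w ∈ W, Matrix.toLin' X w ∈ W := fun w hw => hW (Submodule.mem_map_of_mem hw)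
  obtain ⟨f, hf⟩ : ∃ f : Module.End F W, f = (Matrix.toLin' X).restrict hW' := ⟨_, rfl⟩
  have hfr : f ^ r = z • (1 : Module.End F W) := by
    rw [hf, Module.End.pow_restrict]
    apply LinearMap.ext
    intro w
    apply Subtype.ext
    rw [LinearMap.coe_restrict_apply, ← Matrix.toLin'_pow, hX]
    simp
  let b := Module.finBasis F W
  have hA : (LinearMap.toMatrixAlgEquiv b f) ^ r = z • 1 := by
    rw [← map_pow, hfr, map_smul, map_one]
  exact s5954tin_dvd_of_pow r _ z hA hz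

end Cfsg.Agent.Lib.Helper19.S5954
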