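import Mathlib
import Cfsg.Agent.Lib.Helper19.S5954.Defs
import Cfsg.Agent.Lib.helper3.S5953.Defs
import Cfsg.Agent.Lib.Helper19.S5954.DefsTop
import Cfsg.Agent.Lib.Helper24.S5954TINa
import Cfsg.Agent.Lib.Helper24.S5954TINb
import Cfsg.Agent.Lib.Helper24.S5954TINc

set_option autoImplicit false
set_option linter.unusedVariables false
set_option linter.unusedSectionVars false

namespace Cfsg.Agent.Lib.Helper19.S5954

open Cfsg.Agent.Lib.helper3.S5953 (cc)
open Matrix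

variable {F : Type*} [Field F] [Fintype F] {p : ℕ} [Fact p.Prime] [CharP F p] {q : ℕ}

theorem top_i2_nec (hq : Fintype.card F = q ^ 2) (r : ℕ) [Fact r.Prime] (hrp : r ≠ p) (hr2 : 2 < r)
    (hi : orderOf (q : ZMod r) = 2) (n m : ℕ) (hn : 3 ≤ n) (hm : 1 ≤ m) (hmn : 2 * m < n)
    (h : AllFix F n m q r) : r ∣ m ∨ padicValNat r n ≤ padicValNat r (q + 1) := by
  classical
  by_contra hcon
  rw [not_or, not_le] at hcon
  obtain ⟨hrm, hv⟩ := hcon
  have hrpr : r.Prime := Fact.out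
  have hq2 : 2 ≤ q := by
    have h1 : 1 < Fintype.card F := Fintype.one_lt_card
    rw [hq] at h1
    by_contra hc
    have h2 : q ≤ 1 := by omega
    have h3 := Nat.pow_le_pow_left h2 2
    omega
  obtain ⟨hr1, hr2'⟩ := s5954tin_arith q r (by omega) hi
  obtain ⟨z, hz0, hzord, hzN, hznr⟩ := s5954tin_exists_z (F := F) q r hq hq2 hr1 hr2'
  obtain ⟨k, hk⟩ : ∃ k, k = padicValNat r (q + 1) := ⟨_, rfl⟩
  rw [← hk] at hv hzord
  have hn0 : n ≠ 0 := by omega
  have hdvd : r ^ (k + 1) ∣ n := (padicValNat_dvd_iff_le hn0).mpr (by omega)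
  obtain ⟨s, hs⟩ := hdvd
  obtain ⟨t, ht⟩ : ∃ t, t = r ^ k * s := ⟨_, rfl⟩
  have hnt : n = r * t := by
    rw [hs, ht]
    ring
  have hzt : z ^ t = 1 := by
    apply orderOf_dvd_iff_pow_eq_one.mp
    rw [hzord, ht]
    exact ⟨s, rfl⟩
  have hodd : Odd r := hrpr.odd_of_ne_two (by omega)
  obtain ⟨X, hdet, hXr, hherm⟩ := s5954tin_elt (F := F) n r t q hodd hnt z hzN hzt
  obtain ⟨x, hx⟩ : ∃ x : Matrix.SpecialLinearGroup (Fin n) F,
      (x : Matrix (Fin n) (Fin n) F) = X := ⟨⟨X, hdet⟩, rfl⟩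
  have hxSU : x ∈ Cfsg.SU n F q := by
    intro u v
    show Cfsg.hermForm n F q ((x : Matrix (Fin n) (Fin n) F) *ᵥ u)
      ((x : Matrix (Fin n) (Fin n) F) *ᵥ v) = Cfsg.hermForm n F q u v
    rw [hx]
    exact hherm u v
  have hpow : ((x ^ r : Matrix.SpecialLinearGroup (Fin n) F) : Matrix (Fin n) (Fin n) F) =
      z • (1 : Matrix (Fin n) (Fin n) F) := by
    rw [Matrix.SpecialLinearGroup.coe_pow, hx]
    exact hXr
  have hns : ∀ c : F, (x : Matrix (Fin n) (Fin n) F) ≠ c • (1 : Matrix (Fin n) (Fin n) F) := by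
    intro c hc
    rw [hx] at hc
    rw [hc, smul_pow, one_pow] at hXr
    have h00 := congrFun (congrFun hXr ⟨0, by omega⟩) ⟨0, by omega⟩
    simp only [Matrix.smul_apply, Matrix.one_apply_eq, smul_eq_mul, mul_one] at h00
    exact hznr c h00
  obtain ⟨W, hWdim, -, hWinv⟩ := h x hxSU ⟨z, hpow⟩ hns
  rw [hx] at hWinv
  have hfin := s5954tin_inv_dvd r X z hXr hznr W hWinv
  rw [hWdim] at hfin
  exact hrm hfin

end Cfsg.Agent.Lib.Helper19.S5954
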