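import Mathlib

set_option autoImplicit false
set_option linter.unusedVariables false

namespace Cfsg.Agent.Lib.Helper13.S5955

theorem s5955t12_h24 (i c d m fixd cycd tdim r : ℕ) (hi : 1 ≤ i)
    (hc : c = if Even i then i else 2 * i) (hm : m ≤ d)
    (hsum : fixd + cycd = 2 * d) (hfe : Even fixd) (hidvd : i ∣ cycd) (hit : i ∣ tdim)
    (hir : i ∣ r - 1) (hT2 : 2 * tdim ≤ cycd)
    (hT : (Odd i ∧ 2 * tdim = cycd) ∨ (Even i ∧ cycd ≤ 2 * tdim + (r - 1)))
    (h1 : 2 * (m % i) ≤ (2 * d) % c)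
    (h2 : Odd i ∨ (r - 1) / i + 2 * (m / i) ≤ (2 * d) / i) :
    ∃ w1 s : ℕ, 2 * w1 ≤ fixd ∧ s * i ≤ tdim ∧ m = w1 + s * i := by
  obtain ⟨t', ht'⟩ := hit
  obtain ⟨k, hk⟩ := hidvd
  have hm_eq : i * (m / i) + m % i = m := Nat.div_add_mod m i
  have hcdvd : c ∣ cycd := by
    rcases hT with ⟨hodd, h2t⟩ | ⟨hev, _⟩
    · have hne : ¬ Even i := Nat.not_even_iff_odd.mpr hodd
      rw [hc, if_neg hne]
      exact ⟨t', by rw [← h2t, ht']; ring⟩
    · rw [hc, if_pos hev]
      exact ⟨k, hk⟩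
  have hfix : 2 * (m % i) ≤ fixd := by
    obtain ⟨j, hj⟩ := hcdvd
    have h3 : (2 * d) % c = fixd % c := by
      rw [← hsum, hj, Nat.add_mul_mod_self_left]
    have h4 : fixd % c ≤ fixd := Nat.mod_le _ _
    omega
  by_cases hle : m / i ≤ t'
  · refine ⟨m % i, m / i, hfix, ?_, ?_⟩
    · rw [ht', mul_comm]
      exact Nat.mul_le_mul_left i hle
    · rw [mul_comm (m / i) i, add_comm]
      exact hm_eq.symm
  · push Not at hle
    have h5 : i * t' ≤ i * (m / i) := Nat.mul_le_mul_left i hle.le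
    refine ⟨m - i * t', t', ?_, ?_, ?_⟩
    · rcases hT with ⟨hodd, h2t⟩ | ⟨hev, hcy⟩
      · rw [ht'] at h2t
        omega
      · have hne : ¬ Odd i := Nat.not_odd_iff_even.mpr hev
        have h6 : (r - 1) / i + 2 * (m / i) ≤ (2 * d) / i := by
          rcases h2 with h | h
          · exact absurd h hne
          · exact h
        rw [hc, if_pos hev] at h1
        obtain ⟨ρ, hρ⟩ := hir
        have h7 : (r - 1) / i = ρ := by
          rw [hρ]
          exact Nat.mul_div_cancel_left ρ (by omega)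
        rw [h7] at h6
        have h8 : i * (ρ + 2 * (m / i)) ≤ i * ((2 * d) / i) := Nat.mul_le_mul_left i h6
        have h9 : i * ((2 * d) / i) + (2 * d) % i = 2 * d := Nat.div_add_mod (2 * d) i
        have h10 : i * (ρ + 2 * (m / i)) = i * ρ + 2 * (i * (m / i)) := by ring
        rw [ht'] at hcy
        omega
    · rw [ht', mul_comm]
    · rw [mul_comm t' i]
      omega

end Cfsg.Agent.Lib.Helper13.S5955
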