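import Mathlib
import Cfsg.Agent.Lib.helper15.S5972.Defs
import Cfsg.Agent.Lib.helper15.S5972STDO
import Cfsg.Agent.Lib.Helper24.S5972TRANSPORT
import Cfsg.Agent.Lib.Helper16.SpinE3
import Cfsg.Agent.Lib.Helper16.OCount1

set_option autoImplicit false

namespace Cfsg.Agent.Lib.helper15.S5972

open Polynomial Module Cfsg.Agent.Lib.Helper13.S5955

theorem s5972twonec_sumsq {F : Type*} [Field F] [Fintype F] (hq : Fintype.card F % 4 = 3)
    (a b : F) (hab : a * a + b * b = 0) : a = 0 ∧ b = 0 := by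
  have hns : ¬ IsSquare (-1 : F) := by
    rw [FiniteField.isSquare_neg_one_iff]
    omega
  by_cases hb : b = 0
  · subst hb
    rw [mul_zero, add_zero] at hab
    exact ⟨mul_self_eq_zero.mp hab, rfl⟩
  · exfalso
    apply hns
    refine ⟨a / b, ?_⟩
    field_simp
    linear_combination -hab

theorem o_two_nec {F : Type*} [Field F] [Fintype F] (hq : Fintype.card F % 4 = 3) (d : ℕ)
    (hd : 1 ≤ d) :
    ∃ x : GL (Unit ⊕ (Fin d ⊕ Fin d)) F, x ∈ Cfsg.Geo.omegaGL (Cfsg.quadFormOdd d F) ∧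
      orderOf x = 2 ∧
      ¬ ∃ W : Submodule F (Unit ⊕ (Fin d ⊕ Fin d) → F), Module.finrank F ↥W = d ∧
        (∀ w ∈ W, Cfsg.quadFormOdd d F w = 0) ∧
        W.map (Matrix.toLin' (x : Matrix (Unit ⊕ (Fin d ⊕ Fin d)) (Unit ⊕ (Fin d ⊕ Fin d)) F)) ≤ W := by
  classical
  have hoddq : Odd (Fintype.card F) := by
    rw [Nat.odd_iff]
    omega
  have h2 : (2 : F) ≠ 0 := Cfsg.Agent.Lib.Helper16.OSemi.two_ne_zero_of_odd_card hoddq
  obtain ⟨hsymm, hnd, hQ2, hSTI⟩ := stdO_facts (F := F) h2 d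
  let i0 : Fin d := ⟨0, hd⟩
  let u₁ : Unit ⊕ (Fin d ⊕ Fin d) → F := Pi.single (Sum.inl ()) 1
  let u₂ : Unit ⊕ (Fin d ⊕ Fin d) → F :=
    Pi.single (Sum.inr (Sum.inl i0)) 1 + Pi.single (Sum.inr (Sum.inr i0)) 1
  have h11 : stdO d F u₁ u₁ = 2 := s5972transport_std_single d _ _
  have h12 : stdO d F u₁ u₂ = 0 := by
    show stdO d F (Pi.single (Sum.inl ()) 1)
      (Pi.single (Sum.inr (Sum.inl i0)) 1 + Pi.single (Sum.inr (Sum.inr i0)) 1) = 0
    rw [map_add, s5972transport_std_single, s5972transport_std_single, add_zero]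
  have h21 : stdO d F u₂ u₁ = 0 := by rw [hsymm, h12]
  have h22 : stdO d F u₂ u₂ = 2 := by
    show stdO d F (Pi.single (Sum.inr (Sum.inl i0)) 1 + Pi.single (Sum.inr (Sum.inr i0)) 1)
      (Pi.single (Sum.inr (Sum.inl i0)) 1 + Pi.single (Sum.inr (Sum.inr i0)) 1) = 2
    rw [map_add, map_add, LinearMap.add_apply, LinearMap.add_apply, s5972transport_std_single,
      s5972transport_std_single, s5972transport_std_single, s5972transport_std_single]
    simp only [if_true]
    ring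
  have hQ1 : Cfsg.quadFormOdd d F u₁ = 1 := by
    have := hQ2 u₁
    rw [h11] at this
    exact (mul_left_cancel₀ h2 (by rw [mul_one]; exact this)).symm
  have hQ2' : Cfsg.quadFormOdd d F u₂ = 1 := by
    have := hQ2 u₂
    rw [h22] at this
    exact (mul_left_cancel₀ h2 (by rw [mul_one]; exact this)).symm
  have hQab : ∀ a b : F, Cfsg.quadFormOdd d F (a • u₁ + b • u₂) = 0 → a = 0 ∧ b = 0 := by
    intro a b hab
    have h := hQ2 (a • u₁ + b • u₂)
    rw [hab, mul_zero] at h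
    simp only [map_add, map_smul, LinearMap.add_apply, LinearMap.smul_apply, smul_eq_mul, h11, h12,
      h21, h22] at h
    apply s5972twonec_sumsq hq
    have h3 : (2 : F) * (a * a + b * b) = 0 := by linear_combination h
    exact (mul_eq_zero.mp h3).resolve_left h2
  let Q : QuadraticForm F (Unit ⊕ (Fin d ⊕ Fin d) → F) := Cfsg.Agent.Lib.Helper16.qfOdd d F
  have hp : ∀ a b, QuadraticMap.polar (⇑Q) a b = stdO d F a b := fun _ _ => rfl
  have hQu1 : Q u₁ = 1 := hQ1
  have hQu2 : Q u₂ = 1 := hQ2'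
  have hvs : ∀ v ∈ [u₁, u₂], Q v ≠ 0 := by
    intro v hv
    simp only [List.mem_cons, List.mem_nil_iff, or_false] at hv
    rcases hv with rfl | rfl
    · rw [hQu1]; exact one_ne_zero
    · rw [hQu2]; exact one_ne_zero
  have hmem := Cfsg.Agent.Lib.Helper16.master_backward h2 Q [u₁, u₂] hvs ⟨1, rfl⟩
    (by
      simp only [List.map_cons, List.map_nil, List.prod_cons, List.prod_nil, hQu1, hQu2, mul_one]
      exact ⟨1, (mul_one 1).symm⟩)
  obtain ⟨g, hg⟩ : ∃ g : ↥(Cfsg.isometryGroup F ⇑Q),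
      g = ([u₁, u₂].map (Cfsg.Agent.Lib.Helper16.reflG' Q)).prod := ⟨_, rfl⟩
  rw [← hg] at hmem
  have hgcoe : (((g : GL (Unit ⊕ (Fin d ⊕ Fin d)) F)) :
      Matrix (Unit ⊕ (Fin d ⊕ Fin d)) (Unit ⊕ (Fin d ⊕ Fin d)) F) =
      Cfsg.reflectionMatrix (⇑Q) u₁ * Cfsg.reflectionMatrix (⇑Q) u₂ := by
    rw [hg, Cfsg.Agent.Lib.Helper16.prod_reflG'_coe Q [u₁, u₂] hvs]
    simp only [List.map_cons, List.map_nil, List.prod_cons, List.prod_nil, mul_one]
  have hX : ∀ w, Matrix.toLin' (((g : GL (Unit ⊕ (Fin d ⊕ Fin d)) F)) :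
      Matrix (Unit ⊕ (Fin d ⊕ Fin d)) (Unit ⊕ (Fin d ⊕ Fin d)) F) w =
      w - stdO d F u₂ w • u₂ - stdO d F u₁ w • u₁ := by
    intro w
    rw [Matrix.toLin'_apply, hgcoe, ← Matrix.mulVec_mulVec,
      Cfsg.Agent.Lib.helper6.reflectionMatrix_mulVec, Cfsg.Agent.Lib.helper6.reflectionMatrix_mulVec,
      hp, hp, hQu1, hQu2, inv_one, one_mul, one_mul, map_sub, map_smul, h12, smul_zero, sub_zero]
  have hXX : ∀ w, Matrix.toLin' (((g : GL (Unit ⊕ (Fin d ⊕ Fin d)) F)) :
      Matrix (Unit ⊕ (Fin d ⊕ Fin d)) (Unit ⊕ (Fin d ⊕ Fin d)) F)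
      (Matrix.toLin' (((g : GL (Unit ⊕ (Fin d ⊕ Fin d)) F)) :
      Matrix (Unit ⊕ (Fin d ⊕ Fin d)) (Unit ⊕ (Fin d ⊕ Fin d)) F) w) = w := by
    intro w
    rw [hX, hX w]
    simp only [map_sub, map_smul, smul_eq_mul, h11, h12, h21, h22]
    module
  refine ⟨(g : GL (Unit ⊕ (Fin d ⊕ Fin d)) F), ?_, ?_, ?_⟩
  · exact Subgroup.mem_map.mpr ⟨g, hmem, rfl⟩
  · have : Fact (Nat.Prime 2) := ⟨Nat.prime_two⟩
    apply orderOf_eq_prime
    · apply Units.ext
      rw [Units.val_pow_eq_pow_val, Units.val_one]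
      apply Matrix.toLin'.injective
      apply LinearMap.ext
      intro w
      rw [pow_two, Matrix.toLin'_mul, LinearMap.comp_apply, hXX, Matrix.toLin'_one,
        LinearMap.id_apply]
    · intro h1
      have h3 := hX u₁
      rw [h1] at h3
      rw [Units.val_one, Matrix.toLin'_one, LinearMap.id_apply, h21, h11, zero_smul, sub_zero] at h3
      have h4 := congrFun h3 (Sum.inl ())
      simp only [u₁, Pi.sub_apply, Pi.smul_apply, Pi.single_eq_same, smul_eq_mul, mul_one] at h4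
      apply h2
      linear_combination h4
  · rintro ⟨W, hWd, hWs, hWinv⟩
    have hWti : STI (stdO d F) W := (hSTI W).mpr hWs
    have hperp : ∀ w ∈ W, stdO d F u₁ w = 0 ∧ stdO d F u₂ w = 0 := by
      intro w hw
      have hxw : Matrix.toLin' (((g : GL (Unit ⊕ (Fin d ⊕ Fin d)) F)) :
          Matrix (Unit ⊕ (Fin d ⊕ Fin d)) (Unit ⊕ (Fin d ⊕ Fin d)) F) w ∈ W :=
        hWinv ⟨w, hw, rfl⟩
      have hdiff : stdO d F u₁ w • u₁ + stdO d F u₂ w • u₂ ∈ W := by
        have := W.sub_mem hw hxw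
        rw [hX] at this
        convert this using 1
        module
      exact hQab _ _ (hWs _ hdiff)
    have hNd : (stdO d F).Nondegenerate :=
      ⟨hnd, fun v hv => hnd v (fun u => by rw [hsymm]; exact hv u)⟩
    let P : Submodule F (Unit ⊕ (Fin d ⊕ Fin d) → F) := Submodule.span F {u₁, u₂}
    have hWP : W ⊓ P = ⊥ := by
      rw [eq_bot_iff]
      rintro v ⟨hvW, hvP⟩
      obtain ⟨a, b, rfl⟩ := Submodule.mem_span_pair.mp hvP
      obtain ⟨ha, hb⟩ := hQab a b (hWs _ hvW)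
      rw [ha, hb, zero_smul, zero_smul, add_zero]
      exact Submodule.zero_mem _
    have hli : LinearIndependent F ![u₁, u₂] := by
      rw [LinearIndependent.pair_iff]
      intro s t hst
      have e1 : stdO d F u₁ (s • u₁ + t • u₂) = 0 := by rw [hst, map_zero]
      have e2 : stdO d F u₂ (s • u₁ + t • u₂) = 0 := by rw [hst, map_zero]
      simp only [map_add, map_smul, smul_eq_mul, h11, h12, h21, h22, mul_zero, add_zero,
        zero_add] at e1 e2
      exact ⟨(mul_eq_zero.mp e1).resolve_right h2, (mul_eq_zero.mp e2).resolve_right h2⟩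
    have hPdim : finrank F P = 2 := by
      have := finrank_span_eq_card hli
      rw [Fintype.card_fin] at this
      have hr : Set.range ![u₁, u₂] = {u₁, u₂} := by
        ext v
        simp
        exact or_comm
      rw [hr] at this
      exact this
    have hle : W ≤ (stdO d F).orthogonal (W ⊔ P) := by
      intro w hw
      rw [LinearMap.BilinForm.mem_orthogonal_iff]
      intro n hn
      obtain ⟨w', hw', p, hp', rfl⟩ := Submodule.mem_sup.mp hn
      obtain ⟨a, b, rfl⟩ := Submodule.mem_span_pair.mp hp'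
      show stdO d F (w' + (a • u₁ + b • u₂)) w = 0
      rw [map_add, LinearMap.add_apply, map_add, LinearMap.add_apply, map_smul, map_smul,
        LinearMap.smul_apply, LinearMap.smul_apply, hWti w' hw' w hw, (hperp w hw).1,
        (hperp w hw).2, smul_zero, smul_zero, add_zero, add_zero]
    have h5 := Submodule.finrank_mono hle
    have h6 := LinearMap.BilinForm.finrank_orthogonal hNd (W ⊔ P)
    have h7 := Submodule.finrank_sup_add_finrank_inf_eq W P
    rw [hWP, finrank_bot, add_zero, hWd, hPdim] at h7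
    have h8 : finrank F (Unit ⊕ (Fin d ⊕ Fin d) → F) = 2 * d + 1 := by
      rw [Module.finrank_fintype_fun_eq_card, Fintype.card_sum, Fintype.card_sum,
        Fintype.card_unit, Fintype.card_fin]
      omega
    rw [hWd, h6, h7, h8] at h5
    omega

end Cfsg.Agent.Lib.helper15.S5972
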