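import Mathlib
import Cfsg.Agent.S0999
import Cfsg.Agent.Lib.helper6.PSL2Index
import Cfsg.Agent.Lib.Helper24.S983E2h24

set_option autoImplicit false

namespace Cfsg.Agent.Lib.helper3.S983

theorem s983e1h24_kill {G : Type*} [Group G] [Finite G] [IsSimpleGroup G] (hG : ¬ IsMulCommutative G)
    (p : ℕ) (hp : p.Prime) (hdvd : p ∣ Nat.card G) (hbig : Nat.card G < p ^ 3) :
    2 * Nat.card G = p * (p ^ 2 - 1) ∨ Nat.card G = (p - 2) * (p - 1) * p := by
  have hcyc : ¬ IsCyclic G := fun h => hG (@IsCyclic.isMulCommutative G _ h)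
  have h5 : 3 < p → 5 ≤ p := by
    intro h3
    have : p ≠ 4 := by
      rintro rfl
      norm_num at hp
    omega
  rcases Cfsg.Agent.S0999.result hcyc p hp hdvd hbig with
    ⟨F, hF1, hF2, hF, h3, ⟨e⟩⟩ | ⟨m, F, hF1, hF2, hF, hpm, h3, ⟨e⟩⟩
  · left
    have hp5 := h5 h3
    have h1 := Cfsg.Agent.Lib.helper6.PSL2Index.card_PSL2_mul (F := F)
    rw [← Nat.card_congr e.toEquiv, hF] at h1
    have hodd : Odd p := hp.odd_of_ne_two (by omega)
    have hev : 2 ∣ p - 1 := by
      obtain ⟨k, hk⟩ := hodd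
      exact ⟨k, by omega⟩
    rw [Nat.gcd_eq_left hev] at h1
    rw [mul_comm]
    exact h1
  · right
    have hp5 := h5 h3
    have h1 := Cfsg.Agent.Lib.helper6.PSL2Index.card_PSL2_mul (F := F)
    rw [← Nat.card_congr e.toEquiv, hF] at h1
    have hm2 : 2 ≤ m := by
      by_contra hcon
      push Not at hcon
      interval_cases m <;> omega
    have hodd : ¬ 2 ∣ 2 ^ m - 1 := by
      have h4 : 2 ∣ 2 ^ m := dvd_pow_self 2 (by omega)
      have h5 : 1 ≤ 2 ^ m := Nat.one_le_two_pow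
      omega
    have hg1 : Nat.gcd 2 (2 ^ m - 1) = 1 := by
      rcases (Nat.dvd_prime Nat.prime_two).mp (Nat.gcd_dvd_left 2 (2 ^ m - 1)) with h | h
      · exact h
      · exfalso
        apply hodd
        have h7 := Nat.gcd_dvd_right 2 (2 ^ m - 1)
        rwa [h] at h7
    rw [hg1, mul_one] at h1
    have h6 : 2 ^ m = p - 1 := by omega
    rw [h6] at h1
    rw [h1]
    exact s983e2h24_key p hp5

end Cfsg.Agent.Lib.helper3.S983
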