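import Mathlib
import Cfsg.Agent.S4501

set_option autoImplicit false
set_option linter.style.haveILetI false

namespace Cfsg.Agent.Lib.helper3.S983

theorem s983n5292_noncomm {G : Type*} [Group G] [Finite G] [IsSimpleGroup G]
    (hnp : ¬ (Nat.card G).Prime) : ∃ x y : G, x * y ≠ y * x := by
  by_contra hcon
  push Not at hcon
  apply hnp
  letI : CommGroup G := { (inferInstance : Group G) with mul_comm := hcon }
  exact IsSimpleGroup.prime_card

theorem s983n5292_a5 {G : Type*} [Group G] (e : Nonempty (G ≃* alternatingGroup (Fin 5))) :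
    Nat.card G = 60 := by
  obtain ⟨e⟩ := e
  rw [Nat.card_congr e.toEquiv]
  have h : 2 * Nat.card (alternatingGroup (Fin 5)) = 2 * 60 := by
    rw [two_mul_nat_card_alternatingGroup, Nat.card_perm, Nat.card_eq_fintype_card, Fintype.card_fin]
    rfl
  omega

theorem no_simple_5292 {G : Type*} [Group G] [Finite G] [IsSimpleGroup G] (hG : Nat.card G = 5292) : False := by
  have hna : ∃ x y : G, x * y ≠ y * x := s983n5292_noncomm (by rw [hG]; norm_num)
  have h := (Cfsg.Agent.S4501.result hna 7 3 2 3 (by norm_num) (by norm_num) (by norm_num) le_rfl).1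
    (by rw [hG]; norm_num)
  have h60 := s983n5292_a5 h
  omega

end Cfsg.Agent.Lib.helper3.S983
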