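import Mathlib
import Cfsg.Prelude.Def_AxialAlgebras
import Cfsg.Agent.Lib.Helper24.SAK.Defs

set_option autoImplicit false

namespace Cfsg.Agent.Lib.Helper24.SAK

open Cfsg.Axial

variable {V : Type*} [AddCommGroup V] [Module ℝ V]

theorem dih_of_cfg {mul : V →ₗ[ℝ] V →ₗ[ℝ] V} {B : LinearMap.BilinForm ℝ V} {μ₀ μ₁ : V ≃ₗ[ℝ] V} {a0 a1 : V}
    (h : Cfg mul B μ₀ μ₁ a0 a1) :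
    Dih mul B μ₀ μ₁ (μ₀ (μ₁ a0)) (μ₀ a1) a0 a1 (μ₁ a0) (μ₁ (μ₀ a1)) (sg mul a0 a1) (sg mul a0 (μ₁ a0))
      (sg mul a1 (μ₀ a1)) (B a0 a1) (B a0 (μ₁ a0)) (B a1 (μ₀ a1)) (B a0 (μ₁ (μ₀ a1)))
      (B (μ₀ (μ₁ a0)) (μ₁ a0)) (B (μ₀ a1) (μ₁ (μ₀ a1))) (B (μ₀ (μ₁ a0)) (μ₁ (μ₀ a1))) :=
  ⟨h, rfl, rfl, rfl, rfl, rfl, rfl, rfl, rfl, rfl, rfl, rfl, rfl, rfl, rfl⟩

end Cfsg.Agent.Lib.Helper24.SAK
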