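import Mathlib
import Cfsg.Prelude.Def_AxialAlgebras
import Cfsg.Agent.Lib.Helper24.SAK.Defs

set_option autoImplicit false

namespace Cfsg.Agent.Lib.Helper24.SAK

open Cfsg.Axial

variable {V : Type*} [AddCommGroup V] [Module ℝ V]

theorem sakb2_core {mul : V →ₗ[ℝ] V →ₗ[ℝ] V} {B : LinearMap.BilinForm ℝ V} {μ₀ μ₁ : V ≃ₗ[ℝ] V}
    {am2 am1 a0 a1 a2 a3 s1 s2e s2o : V} {l m n k p q r : ℝ}
    (hA1 : ∀ (μ : V ≃ₗ[ℝ] V) (a : V), IsMajoranaPair mul B μ a → ∀ v : V, μ (μ v) = v)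
    (h : Dih mul B μ₀ μ₁ am2 am1 a0 a1 a2 a3 s1 s2e s2o l m n k p q r) :
    Dih mul B μ₁ μ₀ a3 a2 a1 a0 am1 am2 s1 s2o s2e l n m k q p r := by
  obtain ⟨⟨hV, h0, h1, n0, n1⟩, ha2, ham1, ham2, ha3, hs1, hs2e, hs2o, hl, hm, hn, hk, hp, hq, hr⟩ := h
  have hcomm := hV.1
  have hsym := hV.2.1
  have inv0 : ∀ u v : V, B (μ₀ u) (μ₀ v) = B u v := h0.2.1
  have inv1 : ∀ u v : V, B (μ₁ u) (μ₁ v) = B u v := h1.2.1
  refine ⟨⟨hV, h1, h0, n1, n0⟩, ham1, ha2, ha3, ham2, ?_, hs2o, hs2e, ?_, hn, hm, ?_, ?_, ?_, ?_⟩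
  · rw [hs1]
    unfold sg
    rw [hcomm a0 a1, add_comm a0 a1]
  · rw [hl]
    exact hsym a0 a1
  · have e1 : B a0 a3 = B a2 am1 := by
      rw [← inv1 a2 am1, ← ha3, ha2, hA1 μ₁ a1 h1]
    have e2 : B a1 am2 = B am1 a2 := by
      rw [← inv0 am1 a2, ← ham2, ham1, hA1 μ₀ a0 h0]
    rw [hk, e1, e2]
    exact hsym _ _
  · rw [hq]
    exact hsym _ _
  · rw [hp]
    exact hsym _ _
  · rw [hr]
    exact hsym _ _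

end Cfsg.Agent.Lib.Helper24.SAK
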