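import Mathlib
import Cfsg.Prelude.Def_AxialAlgebras
import Cfsg.Agent.Lib.Helper24.SAK.Defs
import Cfsg.Agent.Lib.Helper24.SAKB2core
import Cfsg.Agent.Lib.helper2.SAKA1

set_option autoImplicit false

namespace Cfsg.Agent.Lib.Helper24.SAK

open Cfsg.Axial

variable {V : Type*} [AddCommGroup V] [Module ℝ V]

theorem dih_symm {mul : V →ₗ[ℝ] V →ₗ[ℝ] V} {B : LinearMap.BilinForm ℝ V} {μ₀ μ₁ : V ≃ₗ[ℝ] V}
    {am2 am1 a0 a1 a2 a3 s1 s2e s2o : V} {l m n k p q r : ℝ}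
    (h : Dih mul B μ₀ μ₁ am2 am1 a0 a1 a2 a3 s1 s2e s2o l m n k p q r) :
    Dih mul B μ₁ μ₀ a3 a2 a1 a0 am1 am2 s1 s2o s2e l n m k q p r :=
  sakb2_core (fun _ _ h v => mu_invol h v) h

end Cfsg.Agent.Lib.Helper24.SAK
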