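import Mathlib
import Cfsg.Prelude.Def_AxialAlgebras
import Cfsg.Agent.Lib.Helper24.SAK.Defs

set_option autoImplicit false

namespace Cfsg.Agent.Lib.Helper24.SAK

open Cfsg.Axial

variable {V : Type*} [AddCommGroup V] [Module ℝ V]

theorem sakb9_core {mul : V →ₗ[ℝ] V →ₗ[ℝ] V} {B : LinearMap.BilinForm ℝ V} {μ₀ μ₁ : V ≃ₗ[ℝ] V}
    {am2 am1 a0 a1 a2 a3 s1 s2e s2o : V} {l m n k p q r : ℝ}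
    (hfus : mul a0 (mul (u0 mul B μ₀ a0 a1) (u0 mul B μ₀ a0 a1)) = 0 ∧
      mul a0 (mul (u0 mul B μ₀ a0 a1) (u4 mul B μ₀ a0 a1)) =
        (1 / 4 : ℝ) • mul (u0 mul B μ₀ a0 a1) (u4 mul B μ₀ a0 a1) ∧
      mul a0 (mul (u4 mul B μ₀ a0 a1) (u4 mul B μ₀ a0 a1)) =
        ((1 / 4 : ℝ) * B (u4 mul B μ₀ a0 a1) a1) • a0)
    (hAA : B am2 am2 = (1 : ℝ) ∧
      B am2 am1 = l ∧
      B am2 a0 = m ∧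
      B am2 a1 = k ∧
      B am2 a2 = p ∧
      B am2 a3 = r ∧
      B am1 am1 = (1 : ℝ) ∧
      B am1 a0 = l ∧
      B am1 a1 = n ∧
      B am1 a2 = k ∧
      B am1 a3 = q ∧
      B a0 a0 = (1 : ℝ) ∧
      B a0 a1 = l ∧
      B a0 a2 = m ∧
      B a0 a3 = k ∧
      B a1 a1 = (1 : ℝ) ∧
      B a1 a2 = l ∧
      B a1 a3 = n ∧
      B a2 a2 = (1 : ℝ) ∧
      B a2 a3 = l ∧
      B a3 a3 = (1 : ℝ))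
    (hAS : B am2 s1 = ((31 / 32 : ℝ) * l + (-1 / 32 : ℝ)) ∧
      B am1 s1 = ((31 / 32 : ℝ) * l + (-1 / 32 : ℝ)) ∧
      B a0 s1 = ((31 / 32 : ℝ) * l + (-1 / 32 : ℝ)) ∧
      B a1 s1 = ((31 / 32 : ℝ) * l + (-1 / 32 : ℝ)) ∧
      B a2 s1 = ((31 / 32 : ℝ) * l + (-1 / 32 : ℝ)) ∧
      B a3 s1 = ((31 / 32 : ℝ) * l + (-1 / 32 : ℝ)) ∧
      B am2 s2e = ((31 / 32 : ℝ) * m + (-1 / 32 : ℝ)) ∧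
      B am1 s2e = ((15 / 16 : ℝ) * l + (1 / 32 : ℝ) * m + (-1 / 32 : ℝ)) ∧
      B a0 s2e = ((31 / 32 : ℝ) * m + (-1 / 32 : ℝ)) ∧
      B a1 s2e = ((15 / 16 : ℝ) * l + (1 / 32 : ℝ) * m + (-1 / 32 : ℝ)) ∧
      B a2 s2e = ((31 / 32 : ℝ) * m + (-1 / 32 : ℝ)) ∧
      B a3 s2e = ((15 / 16 : ℝ) * l + (1 / 32 : ℝ) * m + (-1 / 32 : ℝ)) ∧
      B am2 s2o = ((15 / 16 : ℝ) * l + (1 / 32 : ℝ) * n + (-1 / 32 : ℝ)) ∧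
      B am1 s2o = ((31 / 32 : ℝ) * n + (-1 / 32 : ℝ)) ∧
      B a0 s2o = ((15 / 16 : ℝ) * l + (1 / 32 : ℝ) * n + (-1 / 32 : ℝ)) ∧
      B a1 s2o = ((31 / 32 : ℝ) * n + (-1 / 32 : ℝ)) ∧
      B a2 s2o = ((15 / 16 : ℝ) * l + (1 / 32 : ℝ) * n + (-1 / 32 : ℝ)) ∧
      B a3 s2o = ((31 / 32 : ℝ) * n + (-1 / 32 : ℝ)))
    (h : Dih mul B μ₀ μ₁ am2 am1 a0 a1 a2 a3 s1 s2e s2o l m n k p q r) :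
    mul a0 (mul ((7 / 16 : ℝ) • am1 + ((3 : ℝ) * l + (-1 / 8 : ℝ)) • a0 + (7 / 16 : ℝ) • a1 + (-4 : ℝ) • s1) ((7 / 16 : ℝ) • am1 + ((3 : ℝ) * l + (-1 / 8 : ℝ)) • a0 + (7 / 16 : ℝ) • a1 + (-4 : ℝ) • s1)) = 0 ∧
      mul a0 (mul ((7 / 16 : ℝ) • am1 + ((3 : ℝ) * l + (-1 / 8 : ℝ)) • a0 + (7 / 16 : ℝ) • a1 + (-4 : ℝ) • s1) ((1 / 16 : ℝ) • am1 + ((-4 : ℝ) * l + (1 / 8 : ℝ)) • a0 + (1 / 16 : ℝ) • a1 + (4 : ℝ) • s1)) =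
        (1 / 4 : ℝ) • mul ((7 / 16 : ℝ) • am1 + ((3 : ℝ) * l + (-1 / 8 : ℝ)) • a0 + (7 / 16 : ℝ) • a1 + (-4 : ℝ) • s1) ((1 / 16 : ℝ) • am1 + ((-4 : ℝ) * l + (1 / 8 : ℝ)) • a0 + (1 / 16 : ℝ) • a1 + (4 : ℝ) • s1) ∧
      mul a0 (mul ((1 / 16 : ℝ) • am1 + ((-4 : ℝ) * l + (1 / 8 : ℝ)) • a0 + (1 / 16 : ℝ) • a1 + (4 : ℝ) • s1) ((1 / 16 : ℝ) • am1 + ((-4 : ℝ) * l + (1 / 8 : ℝ)) • a0 + (1 / 16 : ℝ) • a1 + (4 : ℝ) • s1)) =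
        ((1 / 4 : ℝ) * ((-4 : ℝ) * l ^ 2 + (4 : ℝ) * l + (1 / 16 : ℝ) * n + (-1 / 16 : ℝ))) • a0 := by
  obtain ⟨⟨hV, h0, h1, n0, n1⟩, ha2, ham1, ham2, ha3, hs1, hs2e, hs2o, hl, hm, hn, hk, hp, hq, hr⟩ := h
  obtain ⟨g_am2_am2, g_am2_am1, g_am2_a0, g_am2_a1, g_am2_a2, g_am2_a3, g_am1_am1, g_am1_a0, g_am1_a1, g_am1_a2, g_am1_a3, g_a0_a0, g_a0_a1, g_a0_a2, g_a0_a3, g_a1_a1, g_a1_a2, g_a1_a3, g_a2_a2, g_a2_a3, g_a3_a3⟩ := hAA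
  obtain ⟨g_am2_s1, g_am1_s1, g_a0_s1, g_a1_s1, g_a2_s1, g_a3_s1, g_am2_s2e, g_am1_s2e, g_a0_s2e, g_a1_s2e, g_a2_s2e, g_a3_s2e, g_am2_s2o, g_am1_s2o, g_a0_s2o, g_a1_s2o, g_a2_s2o, g_a3_s2o⟩ := hAS
  have hsym := hV.2.1
  have e0 : u0 mul B μ₀ a0 a1 = (7 / 16 : ℝ) • am1 + ((3 : ℝ) * l + (-1 / 8 : ℝ)) • a0 + (7 / 16 : ℝ) • a1 + (-4 : ℝ) • s1 := by
    unfold u0
    rw [← ham1, ← hs1, ← hl]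
    module
  have e4 : u4 mul B μ₀ a0 a1 = (1 / 16 : ℝ) • am1 + ((-4 : ℝ) * l + (1 / 8 : ℝ)) • a0 + (1 / 16 : ℝ) • a1 + (4 : ℝ) • s1 := by
    unfold u4
    rw [← ham1, ← hs1, ← hl]
    module
  have g_s1_a1 : B s1 a1 = _ := (hsym s1 a1).trans g_a1_s1
  have en : B (u4 mul B μ₀ a0 a1) a1 = ((-4 : ℝ) * l ^ 2 + (4 : ℝ) * l + (1 / 16 : ℝ) * n + (-1 / 16 : ℝ)) := by
    rw [e4]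
    simp only [map_add, map_smul, LinearMap.add_apply, LinearMap.smul_apply, smul_eq_mul]
    rw [g_am1_a1, g_a0_a1, g_a1_a1, g_s1_a1]
    ring
  rw [en, e0, e4] at hfus
  exact hfus

end Cfsg.Agent.Lib.Helper24.SAK
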