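import Mathlib
import Cfsg.Prelude.Def_AxialAlgebras
import Cfsg.Agent.Lib.Helper24.SAK.Defs
import Cfsg.Agent.Lib.Helper24.SAKB9core
import Cfsg.Agent.Lib.Helper22.SAKA14
import Cfsg.Agent.Lib.Helper24.SAKB5
import Cfsg.Agent.Lib.Helper24.SAKBr2

set_option autoImplicit false

namespace Cfsg.Agent.Lib.Helper24.SAK

open Cfsg.Axial

variable {V : Type*} [AddCommGroup V] [Module ℝ V]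

theorem fusD {mul : V →ₗ[ℝ] V →ₗ[ℝ] V} {B : LinearMap.BilinForm ℝ V} {μ₀ μ₁ : V ≃ₗ[ℝ] V}
    {am2 am1 a0 a1 a2 a3 s1 s2e s2o : V} {l m n k p q r : ℝ}
    (h : Dih mul B μ₀ μ₁ am2 am1 a0 a1 a2 a3 s1 s2e s2o l m n k p q r) :
    mul a0 (mul ((7 / 16 : ℝ) • am1 + ((3 : ℝ) * l + (-1 / 8 : ℝ)) • a0 + (7 / 16 : ℝ) • a1 + (-4 : ℝ) • s1) ((7 / 16 : ℝ) • am1 + ((3 : ℝ) * l + (-1 / 8 : ℝ)) • a0 + (7 / 16 : ℝ) • a1 + (-4 : ℝ) • s1)) = 0 ∧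
      mul a0 (mul ((7 / 16 : ℝ) • am1 + ((3 : ℝ) * l + (-1 / 8 : ℝ)) • a0 + (7 / 16 : ℝ) • a1 + (-4 : ℝ) • s1) ((1 / 16 : ℝ) • am1 + ((-4 : ℝ) * l + (1 / 8 : ℝ)) • a0 + (1 / 16 : ℝ) • a1 + (4 : ℝ) • s1)) =
        (1 / 4 : ℝ) • mul ((7 / 16 : ℝ) • am1 + ((3 : ℝ) * l + (-1 / 8 : ℝ)) • a0 + (7 / 16 : ℝ) • a1 + (-4 : ℝ) • s1) ((1 / 16 : ℝ) • am1 + ((-4 : ℝ) * l + (1 / 8 : ℝ)) • a0 + (1 / 16 : ℝ) • a1 + (4 : ℝ) • s1) ∧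
      mul a0 (mul ((1 / 16 : ℝ) • am1 + ((-4 : ℝ) * l + (1 / 8 : ℝ)) • a0 + (1 / 16 : ℝ) • a1 + (4 : ℝ) • s1) ((1 / 16 : ℝ) • am1 + ((-4 : ℝ) * l + (1 / 8 : ℝ)) • a0 + (1 / 16 : ℝ) • a1 + (4 : ℝ) • s1)) =
        ((1 / 4 : ℝ) * ((-4 : ℝ) * l ^ 2 + (4 : ℝ) * l + (1 / 16 : ℝ) * n + (-1 / 16 : ℝ))) • a0 :=
  sakb9_core (fus_b h.1.1 h.1.2.1 h.1.2.2.2.1 a1) (gramAA h) (sakbr_gramAS h) h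

end Cfsg.Agent.Lib.Helper24.SAK
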