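import Mathlib
import Cfsg.Prelude.Def_AxialAlgebras
import Cfsg.Agent.Lib.Helper24.SAK.Defs
import Cfsg.Agent.Lib.Helper12.SAKE5core
import Cfsg.Agent.Lib.helper2.SAKA1
import Cfsg.Agent.Lib.Helper11.SAKA3
import Cfsg.Agent.Lib.Helper11.SAKA4
import Cfsg.Agent.Lib.Helper24.SAKE2

set_option autoImplicit false

namespace Cfsg.Agent.Lib.Helper24.SAK

open Cfsg.Axial

variable {V : Type*} [AddCommGroup V] [Module ℝ V]

theorem sakbr_fin2 {mul : V →ₗ[ℝ] V →ₗ[ℝ] V} {B : LinearMap.BilinForm ℝ V} {μ₀ μ₁ : V ≃ₗ[ℝ] V} {a0 a1 : V}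
    (h : Cfg mul B μ₀ μ₁ a0 a1) (hm : B a0 (μ₁ a0) = 1) : (μ₀ * μ₁) ^ 2 = 1 :=
  sake5_core (fun _ _ h v => mu_invol h v) (fun _ _ _ h h' => pair_unique h h')
    (fun _ _ _ _ hg h => pair_conj hg h) (fun hV x y => eq_of_form hV x y) h hm

end Cfsg.Agent.Lib.Helper24.SAK
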