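import Mathlib
import Cfsg.Prelude.Def_AxialAlgebras
import Cfsg.Agent.Lib.Helper24.SAK.Defs
import Cfsg.Agent.Lib.Helper24.SAKC1core
import Cfsg.Agent.Lib.Helper24.SAKB6
import Cfsg.Agent.Lib.Helper24.SAKBr2
import Cfsg.Agent.Lib.Helper24.SAKB9

set_option autoImplicit false

namespace Cfsg.Agent.Lib.Helper24.SAK

open Cfsg.Axial

variable {V : Type*} [AddCommGroup V] [Module ℝ V]

theorem eq1 {mul : V →ₗ[ℝ] V →ₗ[ℝ] V} {B : LinearMap.BilinForm ℝ V} {μ₀ μ₁ : V ≃ₗ[ℝ] V}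
    {am2 am1 a0 a1 a2 a3 s1 s2e s2o : V} {l m n k p q r : ℝ}
    (h : Dih mul B μ₀ μ₁ am2 am1 a0 a1 a2 a3 s1 s2e s2o l m n k p q r) :
    (16 : ℝ) • mul a0 (mul s1 s1) + (49 / 128 : ℝ) • mul a0 s2o + ((-21 / 256 : ℝ) * l + (497 / 131072 : ℝ)) • am1 + (-49 / 131072 : ℝ) • am2 + ((-9 : ℝ) * l ^ 2 + (-9 / 16 : ℝ) * l + (31 / 2048 : ℝ)) • a0 + ((-21 / 256 : ℝ) * l + (497 / 131072 : ℝ)) • a1 + (-49 / 131072 : ℝ) • a2 + ((-21 / 4 : ℝ) * l + (497 / 2048 : ℝ)) • s1 + (-49 / 2048 : ℝ) • s2e = 0 :=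
  sakc1_core h.1.1.1 (prodAA h) (sakbr_prodAS h) (fusD h).1

end Cfsg.Agent.Lib.Helper24.SAK
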