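import Mathlib
import Cfsg.Prelude.Def_AxialAlgebras
import Cfsg.Agent.Lib.Helper24.SAK.Defs

set_option autoImplicit false

namespace Cfsg.Agent.Lib.Helper24.SAK

open Cfsg.Axial

variable {V : Type*} [AddCommGroup V] [Module ℝ V]

theorem sakc2_core {mul : V →ₗ[ℝ] V →ₗ[ℝ] V} (hcomm : ∀ u v : V, mul u v = mul v u)
    {am2 am1 a0 a1 a2 a3 s1 s2e s2o : V} {l m n : ℝ}
    (hAA : mul am2 am2 = am2 ∧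
      mul am1 am1 = am1 ∧
      mul a0 a0 = a0 ∧
      mul a1 a1 = a1 ∧
      mul a2 a2 = a2 ∧
      mul a3 a3 = a3 ∧
      mul am2 am1 = s1 + (1 / 32 : ℝ) • (am2 + am1) ∧
      mul am1 a0 = s1 + (1 / 32 : ℝ) • (am1 + a0) ∧
      mul a0 a1 = s1 + (1 / 32 : ℝ) • (a0 + a1) ∧
      mul a1 a2 = s1 + (1 / 32 : ℝ) • (a1 + a2) ∧
      mul a2 a3 = s1 + (1 / 32 : ℝ) • (a2 + a3) ∧
      mul am2 a0 = s2e + (1 / 32 : ℝ) • (am2 + a0) ∧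
      mul am1 a1 = s2o + (1 / 32 : ℝ) • (am1 + a1) ∧
      mul a0 a2 = s2e + (1 / 32 : ℝ) • (a0 + a2) ∧
      mul a1 a3 = s2o + (1 / 32 : ℝ) • (a1 + a3))
    (hAS : mul am1 s1 = (7 / 32 : ℝ) • s1 + ((3 / 4 : ℝ) * l - 25 / 1024) • am1 + (7 / 2048 : ℝ) • (am2 + a0) ∧
      mul a0 s1 = (7 / 32 : ℝ) • s1 + ((3 / 4 : ℝ) * l - 25 / 1024) • a0 + (7 / 2048 : ℝ) • (am1 + a1) ∧
      mul a1 s1 = (7 / 32 : ℝ) • s1 + ((3 / 4 : ℝ) * l - 25 / 1024) • a1 + (7 / 2048 : ℝ) • (a0 + a2) ∧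
      mul a2 s1 = (7 / 32 : ℝ) • s1 + ((3 / 4 : ℝ) * l - 25 / 1024) • a2 + (7 / 2048 : ℝ) • (a1 + a3) ∧
      mul a0 s2e = (7 / 32 : ℝ) • s2e + ((3 / 4 : ℝ) * m - 25 / 1024) • a0 + (7 / 2048 : ℝ) • (am2 + a2) ∧
      mul a1 s2o = (7 / 32 : ℝ) • s2o + ((3 / 4 : ℝ) * n - 25 / 1024) • a1 + (7 / 2048 : ℝ) • (am1 + a3))
    (hF : mul a0 (mul ((1 / 16 : ℝ) • am1 + ((-4 : ℝ) * l + (1 / 8 : ℝ)) • a0 + (1 / 16 : ℝ) • a1 + (4 : ℝ) • s1) ((1 / 16 : ℝ) • am1 + ((-4 : ℝ) * l + (1 / 8 : ℝ)) • a0 + (1 / 16 : ℝ) • a1 + (4 : ℝ) • s1)) =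
        ((1 / 4 : ℝ) * ((-4 : ℝ) * l ^ 2 + (4 : ℝ) * l + (1 / 16 : ℝ) * n + (-1 / 16 : ℝ))) • a0) :
    (16 : ℝ) • mul a0 (mul s1 s1) + (1 / 128 : ℝ) • mul a0 s2o + ((-5 / 256 : ℝ) * l + (193 / 131072 : ℝ)) • am1 + (7 / 131072 : ℝ) • am2 + ((-13 : ℝ) * l ^ 2 + (1 / 16 : ℝ) * l + (-1 / 64 : ℝ) * n + (-3 / 8192 : ℝ)) • a0 + ((-5 / 256 : ℝ) * l + (193 / 131072 : ℝ)) • a1 + (7 / 131072 : ℝ) • a2 + ((-5 / 4 : ℝ) * l + (193 / 2048 : ℝ)) • s1 + (7 / 2048 : ℝ) • s2e = 0 := by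
  obtain ⟨p_am2_am2, p_am1_am1, p_a0_a0, p_a1_a1, p_a2_a2, p_a3_a3, p_am2_am1, p_am1_a0, p_a0_a1, p_a1_a2, p_a2_a3, p_am2_a0, p_am1_a1, p_a0_a2, p_a1_a3⟩ := hAA
  obtain ⟨p_am1_s1, p_a0_s1, p_a1_s1, p_a2_s1, p_a0_s2e, p_a1_s2o⟩ := hAS
  have cp_am2_am1 : mul am1 am2 = _ := (hcomm am1 am2).trans p_am2_am1
  have cp_am1_a0 : mul a0 am1 = _ := (hcomm a0 am1).trans p_am1_a0
  have cp_a0_a1 : mul a1 a0 = _ := (hcomm a1 a0).trans p_a0_a1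
  have cp_a1_a2 : mul a2 a1 = _ := (hcomm a2 a1).trans p_a1_a2
  have cp_a2_a3 : mul a3 a2 = _ := (hcomm a3 a2).trans p_a2_a3
  have cp_am2_a0 : mul a0 am2 = _ := (hcomm a0 am2).trans p_am2_a0
  have cp_am1_a1 : mul a1 am1 = _ := (hcomm a1 am1).trans p_am1_a1
  have cp_a0_a2 : mul a2 a0 = _ := (hcomm a2 a0).trans p_a0_a2
  have cp_a1_a3 : mul a3 a1 = _ := (hcomm a3 a1).trans p_a1_a3
  have cp_am1_s1 : mul s1 am1 = _ := (hcomm s1 am1).trans p_am1_s1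
  have cp_a0_s1 : mul s1 a0 = _ := (hcomm s1 a0).trans p_a0_s1
  have cp_a1_s1 : mul s1 a1 = _ := (hcomm s1 a1).trans p_a1_s1
  have cp_a2_s1 : mul s1 a2 = _ := (hcomm s1 a2).trans p_a2_s1
  have cp_a0_s2e : mul s2e a0 = _ := (hcomm s2e a0).trans p_a0_s2e
  have cp_a1_s2o : mul s2o a1 = _ := (hcomm s2o a1).trans p_a1_s2o
  simp only [map_add, map_smul, LinearMap.add_apply, LinearMap.smul_apply] at hF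
  simp only [p_am2_am2, p_am1_am1, p_a0_a0, p_a1_a1, p_a2_a2, p_a3_a3, p_am2_am1, p_am1_a0, p_a0_a1, p_a1_a2, p_a2_a3, p_am2_a0, p_am1_a1, p_a0_a2, p_a1_a3, p_am1_s1, p_a0_s1, p_a1_s1, p_a2_s1, p_a0_s2e, p_a1_s2o, cp_am2_am1, cp_am1_a0, cp_a0_a1, cp_a1_a2, cp_a2_a3, cp_am2_a0, cp_am1_a1, cp_a0_a2, cp_a1_a3, cp_am1_s1, cp_a0_s1, cp_a1_s1, cp_a2_s1, cp_a0_s2e, cp_a1_s2o] at hF
  simp only [map_add, map_smul, LinearMap.add_apply, LinearMap.smul_apply] at hF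
  simp only [p_am2_am2, p_am1_am1, p_a0_a0, p_a1_a1, p_a2_a2, p_a3_a3, p_am2_am1, p_am1_a0, p_a0_a1, p_a1_a2, p_a2_a3, p_am2_a0, p_am1_a1, p_a0_a2, p_a1_a3, p_am1_s1, p_a0_s1, p_a1_s1, p_a2_s1, p_a0_s2e, p_a1_s2o, cp_am2_am1, cp_am1_a0, cp_a0_a1, cp_a1_a2, cp_a2_a3, cp_am2_a0, cp_am1_a1, cp_a0_a2, cp_a1_a3, cp_am1_s1, cp_a0_s1, cp_a1_s1, cp_a2_s1, cp_a0_s2e, cp_a1_s2o] at hF
  have hF' := sub_eq_zero.mpr hF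
  rw [← hF']
  module

end Cfsg.Agent.Lib.Helper24.SAK
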