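import Mathlib
import Cfsg.Prelude.Def_AxialAlgebras
import Cfsg.Agent.Lib.Helper24.SAK.Defs
import Cfsg.Agent.Lib.Helper24.SAKC3core
import Cfsg.Agent.Lib.Helper24.SAKC1
import Cfsg.Agent.Lib.Helper24.SAKC2

set_option autoImplicit false

namespace Cfsg.Agent.Lib.Helper24.SAK

open Cfsg.Axial

variable {V : Type*} [AddCommGroup V] [Module ℝ V]

theorem Yf {mul : V →ₗ[ℝ] V →ₗ[ℝ] V} {B : LinearMap.BilinForm ℝ V} {μ₀ μ₁ : V ≃ₗ[ℝ] V}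
    {am2 am1 a0 a1 a2 a3 s1 s2e s2o : V} {l m n k p q r : ℝ}
    (h : Dih mul B μ₀ μ₁ am2 am1 a0 a1 a2 a3 s1 s2e s2o l m n k p q r) :
    mul a0 s2o = ((1 / 6 : ℝ) * l + (-19 / 3072 : ℝ)) • am1 + (7 / 6144 : ℝ) • am2 + ((-32 / 3 : ℝ) * l ^ 2 + (5 / 3 : ℝ) * l + (-1 / 24 : ℝ) * n + (-127 / 3072 : ℝ)) • a0 + ((1 / 6 : ℝ) * l + (-19 / 3072 : ℝ)) • a1 + (7 / 6144 : ℝ) • a2 + ((32 / 3 : ℝ) * l + (-19 / 48 : ℝ)) • s1 + (7 / 96 : ℝ) • s2e :=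
  sakc3_core (a3 := a3) (m := m) (eq1 h) (eq3 h)

end Cfsg.Agent.Lib.Helper24.SAK
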