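import Mathlib
import Cfsg.Prelude.Def_AxialAlgebras
import Cfsg.Agent.Lib.Helper24.SAK.Defs

set_option autoImplicit false

namespace Cfsg.Agent.Lib.Helper24.SAK

open Cfsg.Axial

variable {V : Type*} [AddCommGroup V] [Module ℝ V]

theorem sakc4_core {mul : V →ₗ[ℝ] V →ₗ[ℝ] V} {am2 am1 a0 a1 a2 a3 s1 s2e s2o : V} {l m n : ℝ}
    (e1 : (16 : ℝ) • mul a0 (mul s1 s1) + (49 / 128 : ℝ) • mul a0 s2o + ((-21 / 256 : ℝ) * l + (497 / 131072 : ℝ)) • am1 + (-49 / 131072 : ℝ) • am2 + ((-9 : ℝ) * l ^ 2 + (-9 / 16 : ℝ) * l + (31 / 2048 : ℝ)) • a0 + ((-21 / 256 : ℝ) * l + (497 / 131072 : ℝ)) • a1 + (-49 / 131072 : ℝ) • a2 + ((-21 / 4 : ℝ) * l + (497 / 2048 : ℝ)) • s1 + (-49 / 2048 : ℝ) • s2e = 0)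
    (e3 : (16 : ℝ) • mul a0 (mul s1 s1) + (1 / 128 : ℝ) • mul a0 s2o + ((-5 / 256 : ℝ) * l + (193 / 131072 : ℝ)) • am1 + (7 / 131072 : ℝ) • am2 + ((-13 : ℝ) * l ^ 2 + (1 / 16 : ℝ) * l + (-1 / 64 : ℝ) * n + (-3 / 8192 : ℝ)) • a0 + ((-5 / 256 : ℝ) * l + (193 / 131072 : ℝ)) • a1 + (7 / 131072 : ℝ) • a2 + ((-5 / 4 : ℝ) * l + (193 / 2048 : ℝ)) • s1 + (7 / 2048 : ℝ) • s2e = 0) :
    mul a0 (mul s1 s1) = ((7 / 6144 : ℝ) * l + (-35 / 393216 : ℝ)) • am1 + (-49 / 12582912 : ℝ) • am2 + ((157 / 192 : ℝ) * l ^ 2 + (-29 / 6144 : ℝ) * l + (49 / 49152 : ℝ) * n + (271 / 6291456 : ℝ)) • a0 + ((7 / 6144 : ℝ) * l + (-35 / 393216 : ℝ)) • a1 + (-49 / 12582912 : ℝ) • a2 + ((7 / 96 : ℝ) * l + (-35 / 6144 : ℝ)) • s1 + (-49 / 196608 : ℝ) • s2e := by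
  linear_combination (norm := module) (-1 / 768 : ℝ) • e1 + (49 / 768 : ℝ) • e3

end Cfsg.Agent.Lib.Helper24.SAK
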