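import Mathlib
import Cfsg.Prelude.Def_AxialAlgebras
import Cfsg.Agent.Lib.Helper24.SAK.Defs
import Cfsg.Agent.Lib.Helper24.SAKC6core
import Cfsg.Agent.Lib.Helper24.SAKC5
import Cfsg.Agent.Lib.Helper24.SAKC4
import Cfsg.Agent.Lib.Helper24.SAKC3

set_option autoImplicit false

namespace Cfsg.Agent.Lib.Helper24.SAK

open Cfsg.Axial

variable {V : Type*} [AddCommGroup V] [Module ℝ V]

theorem Sigf {mul : V →ₗ[ℝ] V →ₗ[ℝ] V} {B : LinearMap.BilinForm ℝ V} {μ₀ μ₁ : V ≃ₗ[ℝ] V}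
    {am2 am1 a0 a1 a2 a3 s1 s2e s2o : V} {l m n k p q r : ℝ}
    (h : Dih mul B μ₀ μ₁ am2 am1 a0 a1 a2 a3 s1 s2e s2o l m n k p q r) :
    mul s1 s1 = ((49 / 768 : ℝ) * l + (-245 / 196608 : ℝ)) • am1 + (49 / 196608 : ℝ) • am2 + ((7 / 6 : ℝ) * l ^ 2 + (-7 / 384 : ℝ) * l + (7 / 1536 : ℝ) * n + (-7 / 98304 : ℝ)) • a0 + ((49 / 768 : ℝ) * l + (-245 / 196608 : ℝ)) • a1 + (49 / 196608 : ℝ) • a2 + ((-5 / 12 : ℝ) * l + (-13 / 1536 : ℝ)) • s1 + (-7 / 1536 : ℝ) • s2e + (7 / 2048 : ℝ) • s2o :=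
  sakc6_core (a3 := a3) (m := m) (eq2 h) (X1f h) (Yf h)

end Cfsg.Agent.Lib.Helper24.SAK
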