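import Mathlib
import Cfsg.Prelude.Def_AxialAlgebras
import Cfsg.Agent.Lib.Helper24.SAK.Defs

set_option autoImplicit false

namespace Cfsg.Agent.Lib.Helper24.SAK

open Cfsg.Axial

variable {V : Type*} [AddCommGroup V] [Module ℝ V]

theorem sakc7_core {mul : V →ₗ[ℝ] V →ₗ[ℝ] V} {am2 am1 a0 a1 a2 a3 s1 s2e s2o : V} {l m n : ℝ}
    (hS : mul s1 s1 = ((49 / 768 : ℝ) * l + (-245 / 196608 : ℝ)) • am1 + (49 / 196608 : ℝ) • am2 + ((7 / 6 : ℝ) * l ^ 2 + (-7 / 384 : ℝ) * l + (7 / 1536 : ℝ) * n + (-7 / 98304 : ℝ)) • a0 + ((49 / 768 : ℝ) * l + (-245 / 196608 : ℝ)) • a1 + (49 / 196608 : ℝ) • a2 + ((-5 / 12 : ℝ) * l + (-13 / 1536 : ℝ)) • s1 + (-7 / 1536 : ℝ) • s2e + (7 / 2048 : ℝ) • s2o)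
    (hS' : mul s1 s1 = ((49 / 768 : ℝ) * l + (-245 / 196608 : ℝ)) • a2 + (49 / 196608 : ℝ) • a3 + ((7 / 6 : ℝ) * l ^ 2 + (-7 / 384 : ℝ) * l + (7 / 1536 : ℝ) * m + (-7 / 98304 : ℝ)) • a1 + ((49 / 768 : ℝ) * l + (-245 / 196608 : ℝ)) • a0 + (49 / 196608 : ℝ) • am1 + ((-5 / 12 : ℝ) * l + (-13 / 1536 : ℝ)) • s1 + (-7 / 1536 : ℝ) • s2o + (7 / 2048 : ℝ) • s2e) :
    ((-1792 : ℝ) * l + (42 : ℝ)) • am1 + (-7 : ℝ) • am2 + ((-32768 : ℝ) * l ^ 2 + (2304 : ℝ) * l + (-128 : ℝ) * n + (-33 : ℝ)) • a0 + ((32768 : ℝ) * l ^ 2 + (-2304 : ℝ) * l + (128 : ℝ) * m + (33 : ℝ)) • a1 + ((1792 : ℝ) * l + (-42 : ℝ)) • a2 + (7 : ℝ) • a3 + (224 : ℝ) • s2e + (-224 : ℝ) • s2o = 0 := by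
  linear_combination (norm := module) (196608 / 7 : ℝ) • hS - (196608 / 7 : ℝ) • hS'

end Cfsg.Agent.Lib.Helper24.SAK
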