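import Mathlib
import Cfsg.Prelude.Def_AxialAlgebras
import Cfsg.Agent.Lib.Helper24.SAK.Defs
import Cfsg.Agent.Lib.Helper24.SAKC7core
import Cfsg.Agent.Lib.Helper24.SAKC6
import Cfsg.Agent.Lib.Helper24.SAKB2

set_option autoImplicit false

namespace Cfsg.Agent.Lib.Helper24.SAK

open Cfsg.Axial

variable {V : Type*} [AddCommGroup V] [Module ℝ V]

theorem Rf {mul : V →ₗ[ℝ] V →ₗ[ℝ] V} {B : LinearMap.BilinForm ℝ V} {μ₀ μ₁ : V ≃ₗ[ℝ] V}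
    {am2 am1 a0 a1 a2 a3 s1 s2e s2o : V} {l m n k p q r : ℝ}
    (h : Dih mul B μ₀ μ₁ am2 am1 a0 a1 a2 a3 s1 s2e s2o l m n k p q r) :
    ((-1792 : ℝ) * l + (42 : ℝ)) • am1 + (-7 : ℝ) • am2 + ((-32768 : ℝ) * l ^ 2 + (2304 : ℝ) * l + (-128 : ℝ) * n + (-33 : ℝ)) • a0 + ((32768 : ℝ) * l ^ 2 + (-2304 : ℝ) * l + (128 : ℝ) * m + (33 : ℝ)) • a1 + ((1792 : ℝ) * l + (-42 : ℝ)) • a2 + (7 : ℝ) • a3 + (224 : ℝ) • s2e + (-224 : ℝ) • s2o = 0 :=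
  sakc7_core (Sigf h) (Sigf (dih_symm h))

end Cfsg.Agent.Lib.Helper24.SAK
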