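import Mathlib
import Cfsg.Prelude.Def_AxialAlgebras
import Cfsg.Agent.Lib.Helper24.SAK.Defs

set_option autoImplicit false

namespace Cfsg.Agent.Lib.Helper24.SAK

open Cfsg.Axial

variable {V : Type*} [AddCommGroup V] [Module ℝ V]

theorem sakd1_core {mul : V →ₗ[ℝ] V →ₗ[ℝ] V} {B : LinearMap.BilinForm ℝ V}
    {am2 am1 a0 a1 a2 a3 s1 s2e s2o : V} {l m n k p q r : ℝ}
    (hcomm : ∀ u v : V, mul u v = mul v u) (hsym : ∀ u v : V, B u v = B v u) (hassoc : ∀ u v w : V, B u (mul v w) = B (mul u v) w)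
    (hAA : B am2 am2 = (1 : ℝ) ∧
      B am2 am1 = l ∧
      B am2 a0 = m ∧
      B am2 a1 = k ∧
      B am2 a2 = p ∧
      B am2 a3 = r ∧
      B am1 am1 = (1 : ℝ) ∧
      B am1 a0 = l ∧
      B am1 a1 = n ∧
      B am1 a2 = k ∧
      B am1 a3 = q ∧
      B a0 a0 = (1 : ℝ) ∧
      B a0 a1 = l ∧
      B a0 a2 = m ∧
      B a0 a3 = k ∧
      B a1 a1 = (1 : ℝ) ∧
      B a1 a2 = l ∧
      B a1 a3 = n ∧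
      B a2 a2 = (1 : ℝ) ∧
      B a2 a3 = l ∧
      B a3 a3 = (1 : ℝ))
    (hAS : B am2 s1 = ((31 / 32 : ℝ) * l + (-1 / 32 : ℝ)) ∧
      B am1 s1 = ((31 / 32 : ℝ) * l + (-1 / 32 : ℝ)) ∧
      B a0 s1 = ((31 / 32 : ℝ) * l + (-1 / 32 : ℝ)) ∧
      B a1 s1 = ((31 / 32 : ℝ) * l + (-1 / 32 : ℝ)) ∧
      B a2 s1 = ((31 / 32 : ℝ) * l + (-1 / 32 : ℝ)) ∧
      B a3 s1 = ((31 / 32 : ℝ) * l + (-1 / 32 : ℝ)) ∧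
      B am2 s2e = ((31 / 32 : ℝ) * m + (-1 / 32 : ℝ)) ∧
      B am1 s2e = ((15 / 16 : ℝ) * l + (1 / 32 : ℝ) * m + (-1 / 32 : ℝ)) ∧
      B a0 s2e = ((31 / 32 : ℝ) * m + (-1 / 32 : ℝ)) ∧
      B a1 s2e = ((15 / 16 : ℝ) * l + (1 / 32 : ℝ) * m + (-1 / 32 : ℝ)) ∧
      B a2 s2e = ((31 / 32 : ℝ) * m + (-1 / 32 : ℝ)) ∧
      B a3 s2e = ((15 / 16 : ℝ) * l + (1 / 32 : ℝ) * m + (-1 / 32 : ℝ)) ∧
      B am2 s2o = ((15 / 16 : ℝ) * l + (1 / 32 : ℝ) * n + (-1 / 32 : ℝ)) ∧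
      B am1 s2o = ((31 / 32 : ℝ) * n + (-1 / 32 : ℝ)) ∧
      B a0 s2o = ((15 / 16 : ℝ) * l + (1 / 32 : ℝ) * n + (-1 / 32 : ℝ)) ∧
      B a1 s2o = ((31 / 32 : ℝ) * n + (-1 / 32 : ℝ)) ∧
      B a2 s2o = ((15 / 16 : ℝ) * l + (1 / 32 : ℝ) * n + (-1 / 32 : ℝ)) ∧
      B a3 s2o = ((31 / 32 : ℝ) * n + (-1 / 32 : ℝ)))
    (hpAS : mul am1 s1 = (7 / 32 : ℝ) • s1 + ((3 / 4 : ℝ) * l - 25 / 1024) • am1 + (7 / 2048 : ℝ) • (am2 + a0) ∧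
      mul a0 s1 = (7 / 32 : ℝ) • s1 + ((3 / 4 : ℝ) * l - 25 / 1024) • a0 + (7 / 2048 : ℝ) • (am1 + a1) ∧
      mul a1 s1 = (7 / 32 : ℝ) • s1 + ((3 / 4 : ℝ) * l - 25 / 1024) • a1 + (7 / 2048 : ℝ) • (a0 + a2) ∧
      mul a2 s1 = (7 / 32 : ℝ) • s1 + ((3 / 4 : ℝ) * l - 25 / 1024) • a2 + (7 / 2048 : ℝ) • (a1 + a3) ∧
      mul a0 s2e = (7 / 32 : ℝ) • s2e + ((3 / 4 : ℝ) * m - 25 / 1024) • a0 + (7 / 2048 : ℝ) • (am2 + a2) ∧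
      mul a1 s2o = (7 / 32 : ℝ) • s2o + ((3 / 4 : ℝ) * n - 25 / 1024) • a1 + (7 / 2048 : ℝ) • (am1 + a3)) : m = n := by
  obtain ⟨g_am2_am2, g_am2_am1, g_am2_a0, g_am2_a1, g_am2_a2, g_am2_a3, g_am1_am1, g_am1_a0, g_am1_a1, g_am1_a2, g_am1_a3, g_a0_a0, g_a0_a1, g_a0_a2, g_a0_a3, g_a1_a1, g_a1_a2, g_a1_a3, g_a2_a2, g_a2_a3, g_a3_a3⟩ := hAA
  obtain ⟨g_am2_s1, g_am1_s1, g_a0_s1, g_a1_s1, g_a2_s1, g_a3_s1, g_am2_s2e, g_am1_s2e, g_a0_s2e, g_a1_s2e, g_a2_s2e, g_a3_s2e, g_am2_s2o, g_am1_s2o, g_a0_s2o, g_a1_s2o, g_a2_s2o, g_a3_s2o⟩ := hAS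
  obtain ⟨p_am1_s1, p_a0_s1, p_a1_s1, p_a2_s1, p_a0_s2e, p_a1_s2o⟩ := hpAS
  have g_a1_a0' : B a1 a0 = _ := (hsym a1 a0).trans g_a0_a1
  have g_a1_am1' : B a1 am1 = _ := (hsym a1 am1).trans g_am1_a1
  have e : B a0 (mul a1 s1) = B a1 (mul a0 s1) := by
    rw [hassoc a0 a1 s1, hassoc a1 a0 s1, hcomm a0 a1]
  rw [p_a1_s1, p_a0_s1] at e
  simp only [map_add, map_smul, map_zero, smul_eq_mul] at e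
  simp only [g_a0_s1, g_a1_s1, g_a0_a1, g_a0_a0, g_a0_a2, g_a1_a0', g_a1_am1', g_a1_a1] at e
  linarith

end Cfsg.Agent.Lib.Helper24.SAK
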