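import Mathlib
import Cfsg.Prelude.Def_AxialAlgebras
import Cfsg.Agent.Lib.Helper24.SAK.Defs
import Cfsg.Agent.Lib.Helper24.SAKD2core
import Cfsg.Agent.Lib.Helper24.SAKB5
import Cfsg.Agent.Lib.Helper24.SAKBr2
import Cfsg.Agent.Lib.Helper24.SAKC7
import Cfsg.Agent.Lib.Helper24.SAKD1

set_option autoImplicit false

namespace Cfsg.Agent.Lib.Helper24.SAK

open Cfsg.Axial

variable {V : Type*} [AddCommGroup V] [Module ℝ V]

theorem kf {mul : V →ₗ[ℝ] V →ₗ[ℝ] V} {B : LinearMap.BilinForm ℝ V} {μ₀ μ₁ : V ≃ₗ[ℝ] V}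
    {am2 am1 a0 a1 a2 a3 s1 s2e s2o : V} {l m n k p q r : ℝ}
    (h : Dih mul B μ₀ μ₁ am2 am1 a0 a1 a2 a3 s1 s2e s2o l m n k p q r) :
    7 * k = -32768 * l ^ 3 + 36864 * l ^ 2 - 1920 * l * m - 2169 * l - 33 * m + 33 :=
  sakd2_core (mul := mul) h.1.1.2.1 (gramAA h) (sakbr_gramAS h) (Rf h) (m_eq_n h)

end Cfsg.Agent.Lib.Helper24.SAK
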