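import Mathlib
import Cfsg.Prelude.Def_AxialAlgebras
import Cfsg.Agent.Lib.Helper24.SAK.Defs
import Cfsg.Agent.Lib.Helper24.SAKD3core
import Cfsg.Agent.Lib.Helper24.SAKB5
import Cfsg.Agent.Lib.Helper24.SAKBr2
import Cfsg.Agent.Lib.Helper24.SAKC7
import Cfsg.Agent.Lib.Helper24.SAKD1
import Cfsg.Agent.Lib.Helper24.SAKD2

set_option autoImplicit false

namespace Cfsg.Agent.Lib.Helper24.SAK

open Cfsg.Axial

variable {V : Type*} [AddCommGroup V] [Module ℝ V]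

theorem pf {mul : V →ₗ[ℝ] V →ₗ[ℝ] V} {B : LinearMap.BilinForm ℝ V} {μ₀ μ₁ : V ≃ₗ[ℝ] V}
    {am2 am1 a0 a1 a2 a3 s1 s2e s2o : V} {l m n k p q r : ℝ}
    (h : Dih mul B μ₀ μ₁ am2 am1 a0 a1 a2 a3 s1 s2e s2o l m n k p q r) :
    7 * p = 8388608 * l ^ 4 - 9601024 * l ^ 3 + 458752 * l ^ 2 * m + 774144 * l ^ 2 - 640 * l * m - 19840 * l - 128 * m ^ 2 - 21 * m + 156 :=
  sakd3_core (mul := mul) h.1.1.2.1 (gramAA h) (sakbr_gramAS h) (Rf h) (m_eq_n h) (kf h)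

end Cfsg.Agent.Lib.Helper24.SAK
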