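import Mathlib
import Cfsg.Prelude.Def_AxialAlgebras
import Cfsg.Agent.Lib.Helper24.SAK.Defs

set_option autoImplicit false

namespace Cfsg.Agent.Lib.Helper24.SAK

open Cfsg.Axial

variable {V : Type*} [AddCommGroup V] [Module ℝ V]

theorem sakd4_core {l m n p q : ℝ} (hmn : m = n)
    (pf : 7 * p = 8388608 * l ^ 4 - 9601024 * l ^ 3 + 458752 * l ^ 2 * m + 774144 * l ^ 2 - 640 * l * m - 19840 * l - 128 * m ^ 2 - 21 * m + 156)
    (qf : 7 * q = 8388608 * l ^ 4 - 9601024 * l ^ 3 + 458752 * l ^ 2 * n + 774144 * l ^ 2 - 640 * l * n - 19840 * l - 128 * n ^ 2 - 21 * n + 156) : q = p := by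
  subst hmn
  linarith

end Cfsg.Agent.Lib.Helper24.SAK
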