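import Mathlib
import Cfsg.Prelude.Def_AxialAlgebras
import Cfsg.Agent.Lib.Helper24.SAK.Defs

set_option autoImplicit false

namespace Cfsg.Agent.Lib.Helper24.SAK

open Cfsg.Axial

variable {V : Type*} [AddCommGroup V] [Module ℝ V]

theorem sakd5_core {mul : V →ₗ[ℝ] V →ₗ[ℝ] V} {B : LinearMap.BilinForm ℝ V}
    {am2 am1 a0 a1 a2 a3 s1 s2e s2o : V} {l m n k p q r : ℝ}
    (hsym : ∀ u v : V, B u v = B v u)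
    (hAA : B am2 am2 = (1 : ℝ) ∧
      B am2 am1 = l ∧
      B am2 a0 = m ∧
      B am2 a1 = k ∧
      B am2 a2 = p ∧
      B am2 a3 = r ∧
      B am1 am1 = (1 : ℝ) ∧
      B am1 a0 = l ∧
      B am1 a1 = n ∧
      B am1 a2 = k ∧
      B am1 a3 = q ∧
      B a0 a0 = (1 : ℝ) ∧
      B a0 a1 = l ∧
      B a0 a2 = m ∧
      B a0 a3 = k ∧
      B a1 a1 = (1 : ℝ) ∧
      B a1 a2 = l ∧
      B a1 a3 = n ∧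
      B a2 a2 = (1 : ℝ) ∧
      B a2 a3 = l ∧
      B a3 a3 = (1 : ℝ))
    (hAS : B am2 s1 = ((31 / 32 : ℝ) * l + (-1 / 32 : ℝ)) ∧
      B am1 s1 = ((31 / 32 : ℝ) * l + (-1 / 32 : ℝ)) ∧
      B a0 s1 = ((31 / 32 : ℝ) * l + (-1 / 32 : ℝ)) ∧
      B a1 s1 = ((31 / 32 : ℝ) * l + (-1 / 32 : ℝ)) ∧
      B a2 s1 = ((31 / 32 : ℝ) * l + (-1 / 32 : ℝ)) ∧
      B a3 s1 = ((31 / 32 : ℝ) * l + (-1 / 32 : ℝ)) ∧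
      B am2 s2e = ((31 / 32 : ℝ) * m + (-1 / 32 : ℝ)) ∧
      B am1 s2e = ((15 / 16 : ℝ) * l + (1 / 32 : ℝ) * m + (-1 / 32 : ℝ)) ∧
      B a0 s2e = ((31 / 32 : ℝ) * m + (-1 / 32 : ℝ)) ∧
      B a1 s2e = ((15 / 16 : ℝ) * l + (1 / 32 : ℝ) * m + (-1 / 32 : ℝ)) ∧
      B a2 s2e = ((31 / 32 : ℝ) * m + (-1 / 32 : ℝ)) ∧
      B a3 s2e = ((15 / 16 : ℝ) * l + (1 / 32 : ℝ) * m + (-1 / 32 : ℝ)) ∧
      B am2 s2o = ((15 / 16 : ℝ) * l + (1 / 32 : ℝ) * n + (-1 / 32 : ℝ)) ∧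
      B am1 s2o = ((31 / 32 : ℝ) * n + (-1 / 32 : ℝ)) ∧
      B a0 s2o = ((15 / 16 : ℝ) * l + (1 / 32 : ℝ) * n + (-1 / 32 : ℝ)) ∧
      B a1 s2o = ((31 / 32 : ℝ) * n + (-1 / 32 : ℝ)) ∧
      B a2 s2o = ((15 / 16 : ℝ) * l + (1 / 32 : ℝ) * n + (-1 / 32 : ℝ)) ∧
      B a3 s2o = ((31 / 32 : ℝ) * n + (-1 / 32 : ℝ)))
    (hR : ((-1792 : ℝ) * l + (42 : ℝ)) • am1 + (-7 : ℝ) • am2 + ((-32768 : ℝ) * l ^ 2 + (2304 : ℝ) * l + (-128 : ℝ) * n + (-33 : ℝ)) • a0 + ((32768 : ℝ) * l ^ 2 + (-2304 : ℝ) * l + (128 : ℝ) * m + (33 : ℝ)) • a1 + ((1792 : ℝ) * l + (-42 : ℝ)) • a2 + (7 : ℝ) • a3 + (224 : ℝ) • s2e + (-224 : ℝ) • s2o = 0) (hmn : m = n)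
    (kf : 7 * k = -32768 * l ^ 3 + 36864 * l ^ 2 - 1920 * l * m - 2169 * l - 33 * m + 33)
    (pf : 7 * p = 8388608 * l ^ 4 - 9601024 * l ^ 3 + 458752 * l ^ 2 * m + 774144 * l ^ 2 - 640 * l * m - 19840 * l - 128 * m ^ 2 - 21 * m + 156)
    (hqp : q = p) :
    49 * r = -13958643712 * l ^ 5 + 16273899520 * l ^ 4 - 754974720 * l ^ 3 * m - 1633419264 * l ^ 3 + 12582912 * l ^ 2 * m + 60784640 * l ^ 2 + 475136 * l * m ^ 2 + 259584 * l * m - 964047 * l - 256 * m ^ 2 - 5256 * m + 5512 := by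
  obtain ⟨g_am2_am2, g_am2_am1, g_am2_a0, g_am2_a1, g_am2_a2, g_am2_a3, g_am1_am1, g_am1_a0, g_am1_a1, g_am1_a2, g_am1_a3, g_a0_a0, g_a0_a1, g_a0_a2, g_a0_a3, g_a1_a1, g_a1_a2, g_a1_a3, g_a2_a2, g_a2_a3, g_a3_a3⟩ := hAA
  obtain ⟨g_am2_s1, g_am1_s1, g_a0_s1, g_a1_s1, g_a2_s1, g_a3_s1, g_am2_s2e, g_am1_s2e, g_a0_s2e, g_a1_s2e, g_a2_s2e, g_a3_s2e, g_am2_s2o, g_am1_s2o, g_a0_s2o, g_a1_s2o, g_a2_s2o, g_a3_s2o⟩ := hAS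
  have g_am2_a3' : B a3 am2 = _ := (hsym a3 am2).trans g_am2_a3
  have g_am1_a3' : B a3 am1 = _ := (hsym a3 am1).trans g_am1_a3
  have g_a0_a3' : B a3 a0 = _ := (hsym a3 a0).trans g_a0_a3
  have g_a1_a3' : B a3 a1 = _ := (hsym a3 a1).trans g_a1_a3
  have g_a2_a3' : B a3 a2 = _ := (hsym a3 a2).trans g_a2_a3
  have e := congrArg (fun v => B a3 v) hR
  simp only [map_add, map_smul, map_zero, smul_eq_mul] at e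
  simp only [g_am2_a3', g_am1_a3', g_a0_a3', g_a1_a3', g_a2_a3', g_a3_a3, g_a3_s2e, g_a3_s2o] at e
  linear_combination (-7 : ℝ) * e - (((12544 : ℝ) * l + (-294 : ℝ))) * hqp - (((1792 : ℝ) * l + (-42 : ℝ))) * pf - (((32768 : ℝ) * l ^ 2 + (-2304 : ℝ) * l + (128 : ℝ) * n + (33 : ℝ))) * kf - (((4194304 : ℝ) * l ^ 3 + (-4489216 : ℝ) * l ^ 2 + (245760 : ℝ) * l * m + (261504 : ℝ) * l + (5120 : ℝ) * m + (-5512 : ℝ))) * hmn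

end Cfsg.Agent.Lib.Helper24.SAK
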