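import Mathlib
import Cfsg.Prelude.Def_AxialAlgebras
import Cfsg.Agent.Lib.Helper24.SAK.Defs

set_option autoImplicit false

namespace Cfsg.Agent.Lib.Helper24.SAK

open Cfsg.Axial

variable {V : Type*} [AddCommGroup V] [Module ℝ V]

theorem sakd6_core {mul : V →ₗ[ℝ] V →ₗ[ℝ] V} {B : LinearMap.BilinForm ℝ V}
    {am2 am1 a0 a1 a2 a3 s1 s2e s2o : V} {l m n k p q r : ℝ}
    (hcomm : ∀ u v : V, mul u v = mul v u) (hsym : ∀ u v : V, B u v = B v u) (hassoc : ∀ u v w : V, B u (mul v w) = B (mul u v) w)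
    (hAA : B am2 am2 = (1 : ℝ) ∧
      B am2 am1 = l ∧
      B am2 a0 = m ∧
      B am2 a1 = k ∧
      B am2 a2 = p ∧
      B am2 a3 = r ∧
      B am1 am1 = (1 : ℝ) ∧
      B am1 a0 = l ∧
      B am1 a1 = n ∧
      B am1 a2 = k ∧
      B am1 a3 = q ∧
      B a0 a0 = (1 : ℝ) ∧
      B a0 a1 = l ∧
      B a0 a2 = m ∧
      B a0 a3 = k ∧
      B a1 a1 = (1 : ℝ) ∧
      B a1 a2 = l ∧
      B a1 a3 = n ∧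
      B a2 a2 = (1 : ℝ) ∧
      B a2 a3 = l ∧
      B a3 a3 = (1 : ℝ))
    (hAS : B am2 s1 = ((31 / 32 : ℝ) * l + (-1 / 32 : ℝ)) ∧
      B am1 s1 = ((31 / 32 : ℝ) * l + (-1 / 32 : ℝ)) ∧
      B a0 s1 = ((31 / 32 : ℝ) * l + (-1 / 32 : ℝ)) ∧
      B a1 s1 = ((31 / 32 : ℝ) * l + (-1 / 32 : ℝ)) ∧
      B a2 s1 = ((31 / 32 : ℝ) * l + (-1 / 32 : ℝ)) ∧
      B a3 s1 = ((31 / 32 : ℝ) * l + (-1 / 32 : ℝ)) ∧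
      B am2 s2e = ((31 / 32 : ℝ) * m + (-1 / 32 : ℝ)) ∧
      B am1 s2e = ((15 / 16 : ℝ) * l + (1 / 32 : ℝ) * m + (-1 / 32 : ℝ)) ∧
      B a0 s2e = ((31 / 32 : ℝ) * m + (-1 / 32 : ℝ)) ∧
      B a1 s2e = ((15 / 16 : ℝ) * l + (1 / 32 : ℝ) * m + (-1 / 32 : ℝ)) ∧
      B a2 s2e = ((31 / 32 : ℝ) * m + (-1 / 32 : ℝ)) ∧
      B a3 s2e = ((15 / 16 : ℝ) * l + (1 / 32 : ℝ) * m + (-1 / 32 : ℝ)) ∧
      B am2 s2o = ((15 / 16 : ℝ) * l + (1 / 32 : ℝ) * n + (-1 / 32 : ℝ)) ∧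
      B am1 s2o = ((31 / 32 : ℝ) * n + (-1 / 32 : ℝ)) ∧
      B a0 s2o = ((15 / 16 : ℝ) * l + (1 / 32 : ℝ) * n + (-1 / 32 : ℝ)) ∧
      B a1 s2o = ((31 / 32 : ℝ) * n + (-1 / 32 : ℝ)) ∧
      B a2 s2o = ((15 / 16 : ℝ) * l + (1 / 32 : ℝ) * n + (-1 / 32 : ℝ)) ∧
      B a3 s2o = ((31 / 32 : ℝ) * n + (-1 / 32 : ℝ)))
    (hpAA : mul am2 am2 = am2 ∧
      mul am1 am1 = am1 ∧
      mul a0 a0 = a0 ∧
      mul a1 a1 = a1 ∧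
      mul a2 a2 = a2 ∧
      mul a3 a3 = a3 ∧
      mul am2 am1 = s1 + (1 / 32 : ℝ) • (am2 + am1) ∧
      mul am1 a0 = s1 + (1 / 32 : ℝ) • (am1 + a0) ∧
      mul a0 a1 = s1 + (1 / 32 : ℝ) • (a0 + a1) ∧
      mul a1 a2 = s1 + (1 / 32 : ℝ) • (a1 + a2) ∧
      mul a2 a3 = s1 + (1 / 32 : ℝ) • (a2 + a3) ∧
      mul am2 a0 = s2e + (1 / 32 : ℝ) • (am2 + a0) ∧
      mul am1 a1 = s2o + (1 / 32 : ℝ) • (am1 + a1) ∧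
      mul a0 a2 = s2e + (1 / 32 : ℝ) • (a0 + a2) ∧
      mul a1 a3 = s2o + (1 / 32 : ℝ) • (a1 + a3))
    (hpAS : mul am1 s1 = (7 / 32 : ℝ) • s1 + ((3 / 4 : ℝ) * l - 25 / 1024) • am1 + (7 / 2048 : ℝ) • (am2 + a0) ∧
      mul a0 s1 = (7 / 32 : ℝ) • s1 + ((3 / 4 : ℝ) * l - 25 / 1024) • a0 + (7 / 2048 : ℝ) • (am1 + a1) ∧
      mul a1 s1 = (7 / 32 : ℝ) • s1 + ((3 / 4 : ℝ) * l - 25 / 1024) • a1 + (7 / 2048 : ℝ) • (a0 + a2) ∧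
      mul a2 s1 = (7 / 32 : ℝ) • s1 + ((3 / 4 : ℝ) * l - 25 / 1024) • a2 + (7 / 2048 : ℝ) • (a1 + a3) ∧
      mul a0 s2e = (7 / 32 : ℝ) • s2e + ((3 / 4 : ℝ) * m - 25 / 1024) • a0 + (7 / 2048 : ℝ) • (am2 + a2) ∧
      mul a1 s2o = (7 / 32 : ℝ) • s2o + ((3 / 4 : ℝ) * n - 25 / 1024) • a1 + (7 / 2048 : ℝ) • (am1 + a3))
    (hY : mul a0 s2o = ((1 / 6 : ℝ) * l + (-19 / 3072 : ℝ)) • am1 + (7 / 6144 : ℝ) • am2 + ((-32 / 3 : ℝ) * l ^ 2 + (5 / 3 : ℝ) * l + (-1 / 24 : ℝ) * n + (-127 / 3072 : ℝ)) • a0 + ((1 / 6 : ℝ) * l + (-19 / 3072 : ℝ)) • a1 + (7 / 6144 : ℝ) • a2 + ((32 / 3 : ℝ) * l + (-19 / 48 : ℝ)) • s1 + (7 / 96 : ℝ) • s2e) :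
    B s2e s2e = (3 / 4 : ℝ) * m ^ 2 + (65 / 512 : ℝ) * m + (7 / 2048 : ℝ) * p - 3 / 2048 ∧
      B s2e s2o = ((-32 / 3 : ℝ) * l ^ 2 * m + (21 / 2 : ℝ) * l ^ 2 + (5 / 3 : ℝ) * l * m + (1 / 6 : ℝ) * l * k + (-2401 / 3072 : ℝ) * l + (-1 / 24 : ℝ) * m * n + (15 / 512 : ℝ) * m + (-1 / 512 : ℝ) * n + (-19 / 3072 : ℝ) * k + (7 / 6144 : ℝ) * p + (27 / 2048 : ℝ)) := by
  obtain ⟨g_am2_am2, g_am2_am1, g_am2_a0, g_am2_a1, g_am2_a2, g_am2_a3, g_am1_am1, g_am1_a0, g_am1_a1, g_am1_a2, g_am1_a3, g_a0_a0, g_a0_a1, g_a0_a2, g_a0_a3, g_a1_a1, g_a1_a2, g_a1_a3, g_a2_a2, g_a2_a3, g_a3_a3⟩ := hAA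
  obtain ⟨g_am2_s1, g_am1_s1, g_a0_s1, g_a1_s1, g_a2_s1, g_a3_s1, g_am2_s2e, g_am1_s2e, g_a0_s2e, g_a1_s2e, g_a2_s2e, g_a3_s2e, g_am2_s2o, g_am1_s2o, g_a0_s2o, g_a1_s2o, g_a2_s2o, g_a3_s2o⟩ := hAS
  obtain ⟨p_am2_am2, p_am1_am1, p_a0_a0, p_a1_a1, p_a2_a2, p_a3_a3, p_am2_am1, p_am1_a0, p_a0_a1, p_a1_a2, p_a2_a3, p_am2_a0, p_am1_a1, p_a0_a2, p_a1_a3⟩ := hpAA
  obtain ⟨p_am1_s1, p_a0_s1, p_a1_s1, p_a2_s1, p_a0_s2e, p_a1_s2o⟩ := hpAS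
  have g_a2_am2' : B a2 am2 = _ := (hsym a2 am2).trans g_am2_a2
  have g_a2_am1' : B a2 am1 = _ := (hsym a2 am1).trans g_am1_a2
  have g_a2_a0' : B a2 a0 = _ := (hsym a2 a0).trans g_a0_a2
  have g_a2_a1' : B a2 a1 = _ := (hsym a2 a1).trans g_a1_a2
  constructor
  · have e : B (mul a0 a2) s2e = B a2 (mul a0 s2e) := by
      rw [hassoc a2 a0 s2e, hcomm a2 a0]
    rw [p_a0_a2, p_a0_s2e] at e
    simp only [map_add, map_smul, map_zero, smul_eq_mul, LinearMap.add_apply, LinearMap.smul_apply] at e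
    simp only [g_a0_s2e, g_a2_s2e, g_a2_a0', g_a2_am2', g_a2_a2] at e
    linear_combination e
  · have e : B (mul a0 a2) s2o = B a2 (mul a0 s2o) := by
      rw [hassoc a2 a0 s2o, hcomm a2 a0]
    rw [p_a0_a2, hY] at e
    simp only [map_add, map_smul, map_zero, smul_eq_mul, LinearMap.add_apply, LinearMap.smul_apply] at e
    simp only [g_a0_s2o, g_a2_s2o, g_a2_a0', g_a2_am2', g_a2_am1', g_a2_a1', g_a2_a2, g_a2_s1, g_a2_s2e] at e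
    linear_combination e

end Cfsg.Agent.Lib.Helper24.SAK
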