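import Mathlib
import Cfsg.Prelude.Def_AxialAlgebras
import Cfsg.Agent.Lib.Helper24.SAK.Defs
import Cfsg.Agent.Lib.Helper24.SAKD6core
import Cfsg.Agent.Lib.Helper24.SAKB5
import Cfsg.Agent.Lib.Helper24.SAKBr2
import Cfsg.Agent.Lib.Helper24.SAKB6
import Cfsg.Agent.Lib.Helper24.SAKC3

set_option autoImplicit false

namespace Cfsg.Agent.Lib.Helper24.SAK

open Cfsg.Axial

variable {V : Type*} [AddCommGroup V] [Module ℝ V]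

theorem gramSS {mul : V →ₗ[ℝ] V →ₗ[ℝ] V} {B : LinearMap.BilinForm ℝ V} {μ₀ μ₁ : V ≃ₗ[ℝ] V}
    {am2 am1 a0 a1 a2 a3 s1 s2e s2o : V} {l m n k p q r : ℝ}
    (h : Dih mul B μ₀ μ₁ am2 am1 a0 a1 a2 a3 s1 s2e s2o l m n k p q r) :
    B s2e s2e = (3 / 4 : ℝ) * m ^ 2 + (65 / 512 : ℝ) * m + (7 / 2048 : ℝ) * p - 3 / 2048 ∧
      B s2e s2o = ((-32 / 3 : ℝ) * l ^ 2 * m + (21 / 2 : ℝ) * l ^ 2 + (5 / 3 : ℝ) * l * m + (1 / 6 : ℝ) * l * k + (-2401 / 3072 : ℝ) * l + (-1 / 24 : ℝ) * m * n + (15 / 512 : ℝ) * m + (-1 / 512 : ℝ) * n + (-19 / 3072 : ℝ) * k + (7 / 6144 : ℝ) * p + (27 / 2048 : ℝ)) :=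
  sakd6_core h.1.1.1 h.1.1.2.1 h.1.1.2.2.2.1 (gramAA h) (sakbr_gramAS h) (prodAA h) (sakbr_prodAS h) (Yf h)

end Cfsg.Agent.Lib.Helper24.SAK
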