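import Mathlib
import Cfsg.Prelude.Def_AxialAlgebras
import Cfsg.Agent.Lib.Helper24.SAK.Defs
import Cfsg.Agent.Lib.Helper24.SAKD7core
import Cfsg.Agent.Lib.Helper24.SAKBr2
import Cfsg.Agent.Lib.Helper24.SAKD6
import Cfsg.Agent.Lib.Helper24.SAKC7
import Cfsg.Agent.Lib.Helper24.SAKD1
import Cfsg.Agent.Lib.Helper24.SAKD2
import Cfsg.Agent.Lib.Helper24.SAKD3

set_option autoImplicit false

namespace Cfsg.Agent.Lib.Helper24.SAK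

open Cfsg.Axial

variable {V : Type*} [AddCommGroup V] [Module ℝ V]

theorem F1f {mul : V →ₗ[ℝ] V →ₗ[ℝ] V} {B : LinearMap.BilinForm ℝ V} {μ₀ μ₁ : V ≃ₗ[ℝ] V}
    {am2 am1 a0 a1 a2 a3 s1 s2e s2o : V} {l m n k p q r : ℝ}
    (h : Dih mul B μ₀ μ₁ am2 am1 a0 a1 a2 a3 s1 s2e s2o l m n k p q r) :
    6291456 * l ^ 4 - 6979584 * l ^ 3 + 122880 * l ^ 2 * m + 552960 * l ^ 2 + 26688 * l * m - 14400 * l + 384 * m ^ 2 - 501 * m + 117 = 0 :=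
  sakd7_core (mul := mul) (q := q) (r := r) h.1.1.2.1 (sakbr_gramAS h) (gramSS h) (Rf h) (m_eq_n h) (kf h) (pf h)

end Cfsg.Agent.Lib.Helper24.SAK
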