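import Mathlib
import Cfsg.Prelude.Def_AxialAlgebras
import Cfsg.Agent.Lib.Helper24.SAK.Defs
import Cfsg.Agent.Lib.Helper24.SAKD8core
import Cfsg.Agent.Lib.Helper24.SAKBr1
import Cfsg.Agent.Lib.Helper24.SAKB4
import Cfsg.Agent.Lib.Helper24.SAKB5
import Cfsg.Agent.Lib.Helper24.SAKBr2
import Cfsg.Agent.Lib.Helper24.SAKC3

set_option autoImplicit false

namespace Cfsg.Agent.Lib.Helper24.SAK

open Cfsg.Axial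

variable {V : Type*} [AddCommGroup V] [Module ℝ V]

theorem r2f {mul : V →ₗ[ℝ] V →ₗ[ℝ] V} {B : LinearMap.BilinForm ℝ V} {μ₀ μ₁ : V ≃ₗ[ℝ] V}
    {am2 am1 a0 a1 a2 a3 s1 s2e s2o : V} {l m n k p q r : ℝ}
    (h : Dih mul B μ₀ μ₁ am2 am1 a0 a1 a2 a3 s1 s2e s2o l m n k p q r) :
    ((-32 / 3 : ℝ) * l ^ 2 * k + (31 / 3 : ℝ) * l ^ 2 + (1 / 6 : ℝ) * l * n + (5 / 3 : ℝ) * l * k + (1 / 6 : ℝ) * l * q + (-2629 / 3072 : ℝ) * l + (7 / 3072 : ℝ) * m + (-19 / 24 : ℝ) * n * k + (-5 / 384 : ℝ) * n + (-13 / 768 : ℝ) * k + (-19 / 3072 : ℝ) * q + (-7 / 3072 : ℝ) * r + (13 / 768 : ℝ)) = 0 := by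
  have hact := sakbr_act h
  have hsf := dih_sfix h
  obtain ⟨f00, f01, f0m1, f02, f0m2, f11, f10, f12, f1m1, f13⟩ := hact
  obtain ⟨s01, s11, s02e, s12e, s02o, s12o⟩ := hsf
  have inv0 : ∀ u v : V, B (μ₀ u) (μ₀ v) = B u v := h.1.2.1.2.1
  have inv1 : ∀ u v : V, B (μ₁ u) (μ₁ v) = B u v := h.1.2.2.1.2.1
  have hm0 : ∀ u v : V, μ₀ (mul u v) = mul (μ₀ u) (μ₀ v) := h.1.2.1.1
  have hm1 : ∀ u v : V, μ₁ (mul u v) = mul (μ₁ u) (μ₁ v) := h.1.2.2.1.1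
  have hinv : B a0 (mul a3 s2o) = B am2 (mul a1 s2o) := by
    rw [← inv1 a0 (mul a3 s2o), hm1, f10, f13, s12o, ← inv0 a2 (mul am1 s2o), hm0, f02, f0m1, s02o]
  exact sakd8_core h.1.1.1 h.1.1.2.1 h.1.1.2.2.2.1 (gramAA h) (sakbr_gramAS h) (sakbr_prodAS h) (Yf h) hinv

end Cfsg.Agent.Lib.Helper24.SAK
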