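import Mathlib
import Cfsg.Prelude.Def_AxialAlgebras
import Cfsg.Agent.Lib.Helper24.SAK.Defs

set_option autoImplicit false

namespace Cfsg.Agent.Lib.Helper24.SAK

open Cfsg.Axial

variable {V : Type*} [AddCommGroup V] [Module ℝ V]

theorem sakd9_core {l m n k p q r : ℝ}
    (e : ((-32 / 3 : ℝ) * l ^ 2 * k + (31 / 3 : ℝ) * l ^ 2 + (1 / 6 : ℝ) * l * n + (5 / 3 : ℝ) * l * k + (1 / 6 : ℝ) * l * q + (-2629 / 3072 : ℝ) * l + (7 / 3072 : ℝ) * m + (-19 / 24 : ℝ) * n * k + (-5 / 384 : ℝ) * n + (-13 / 768 : ℝ) * k + (-19 / 3072 : ℝ) * q + (-7 / 3072 : ℝ) * r + (13 / 768 : ℝ)) = 0) (hmn : m = n)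
    (kf : 7 * k = -32768 * l ^ 3 + 36864 * l ^ 2 - 1920 * l * m - 2169 * l - 33 * m + 33)
    (pf : 7 * p = 8388608 * l ^ 4 - 9601024 * l ^ 3 + 458752 * l ^ 2 * m + 774144 * l ^ 2 - 640 * l * m - 19840 * l - 128 * m ^ 2 - 21 * m + 156)
    (hqp : q = p)
    (rf : 49 * r = -13958643712 * l ^ 5 + 16273899520 * l ^ 4 - 754974720 * l ^ 3 * m - 1633419264 * l ^ 3 + 12582912 * l ^ 2 * m + 60784640 * l ^ 2 + 475136 * l * m ^ 2 + 259584 * l * m - 964047 * l - 256 * m ^ 2 - 5256 * m + 5512)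
    (hF1 : 6291456 * l ^ 4 - 6979584 * l ^ 3 + 122880 * l ^ 2 * m + 552960 * l ^ 2 + 26688 * l * m - 14400 * l + 384 * m ^ 2 - 501 * m + 117 = 0) :
    -268435456 * l ^ 5 + 283115520 * l ^ 4 - 1048576 * l ^ 3 * m - 10911744 * l ^ 3 - 2408448 * l ^ 2 * m - 356352 * l ^ 2 + 25408 * l * m + 19648 * l + 195 * m - 195 = 0 := by
  linear_combination (1792 / 15 : ℝ) * e - ((-1 / 180 : ℝ)) * rf - (((896 / 45 : ℝ) * l + (-133 / 180 : ℝ))) * hqp - (((128 / 45 : ℝ) * l + (-19 / 180 : ℝ))) * pf - (((-8192 / 45 : ℝ) * l ^ 2 + (256 / 9 : ℝ) * l + (-608 / 45 : ℝ) * n + (-13 / 45 : ℝ))) * kf - (((-19922944 / 45 : ℝ) * l ^ 3 + (2490368 / 5 : ℝ) * l ^ 2 + (-77824 / 3 : ℝ) * l * m + (-1319648 / 45 : ℝ) * l + (-6688 / 15 : ℝ) * m + (20134 / 45 : ℝ))) * hmn - (((896 / 15 : ℝ) * l + (6 / 5 : ℝ))) * hF1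

end Cfsg.Agent.Lib.Helper24.SAK
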