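import Mathlib
import Cfsg.Prelude.Def_AxialAlgebras
import Cfsg.Agent.Lib.Helper24.SAK.Defs
import Cfsg.Agent.Lib.Helper24.SAKD9core
import Cfsg.Agent.Lib.Helper24.SAKD8
import Cfsg.Agent.Lib.Helper24.SAKD1
import Cfsg.Agent.Lib.Helper24.SAKD2
import Cfsg.Agent.Lib.Helper24.SAKD3
import Cfsg.Agent.Lib.Helper24.SAKD4
import Cfsg.Agent.Lib.Helper24.SAKD5
import Cfsg.Agent.Lib.Helper24.SAKD7

set_option autoImplicit false

namespace Cfsg.Agent.Lib.Helper24.SAK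

open Cfsg.Axial

variable {V : Type*} [AddCommGroup V] [Module ℝ V]

theorem F2f {mul : V →ₗ[ℝ] V →ₗ[ℝ] V} {B : LinearMap.BilinForm ℝ V} {μ₀ μ₁ : V ≃ₗ[ℝ] V}
    {am2 am1 a0 a1 a2 a3 s1 s2e s2o : V} {l m n k p q r : ℝ}
    (h : Dih mul B μ₀ μ₁ am2 am1 a0 a1 a2 a3 s1 s2e s2o l m n k p q r) :
    -268435456 * l ^ 5 + 283115520 * l ^ 4 - 1048576 * l ^ 3 * m - 10911744 * l ^ 3 - 2408448 * l ^ 2 * m - 356352 * l ^ 2 + 25408 * l * m + 19648 * l + 195 * m - 195 = 0 :=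
  sakd9_core (r2f h) (m_eq_n h) (kf h) (pf h) (q_eq_p h) (rf h) (F1f h)

end Cfsg.Agent.Lib.Helper24.SAK
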