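import Mathlib
import Cfsg.Prelude.Def_AxialAlgebras
import Cfsg.Agent.Lib.Helper24.SAK.Defs

set_option autoImplicit false

namespace Cfsg.Agent.Lib.Helper24.SAK

open Cfsg.Axial

variable {V : Type*} [AddCommGroup V] [Module ℝ V]

theorem sake1_resultant (l m : ℝ)
    (h1 : 6291456 * l ^ 4 - 6979584 * l ^ 3 + 122880 * l ^ 2 * m + 552960 * l ^ 2 + 26688 * l * m - 14400 * l + 384 * m ^ 2 - 501 * m + 117 = 0)
    (h2 : -268435456 * l ^ 5 + 283115520 * l ^ 4 - 1048576 * l ^ 3 * m - 10911744 * l ^ 3 - 2408448 * l ^ 2 * m - 356352 * l ^ 2 + 25408 * l * m + 19648 * l + 195 * m - 195 = 0) :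
    l * (l - 1) * (8 * l - 1) * (256 * l - 13) * (64 * l - 1) ^ 2 * (32 * l - 1) * (128 * l - 3) * (256 * l - 5) = 0 := by
  linear_combination (-1 / 9633792 : ℝ) * ((195 + 25408 * l - 2408448 * l ^ 2 - 1048576 * l ^ 3) ^ 2 * h1 - (384 * ((195 + 25408 * l - 2408448 * l ^ 2 - 1048576 * l ^ 3) * m - (-195 + 19648 * l - 356352 * l ^ 2 - 10911744 * l ^ 3 + 283115520 * l ^ 4 - 268435456 * l ^ 5)) + (-501 + 26688 * l + 122880 * l ^ 2) * (195 + 25408 * l - 2408448 * l ^ 2 - 1048576 * l ^ 3)) * h2)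

theorem classify (l m : ℝ)
    (h1 : 6291456 * l ^ 4 - 6979584 * l ^ 3 + 122880 * l ^ 2 * m + 552960 * l ^ 2 + 26688 * l * m - 14400 * l + 384 * m ^ 2 - 501 * m + 117 = 0)
    (h2 : -268435456 * l ^ 5 + 283115520 * l ^ 4 - 1048576 * l ^ 3 * m - 10911744 * l ^ 3 - 2408448 * l ^ 2 * m - 356352 * l ^ 2 + 25408 * l * m + 19648 * l + 195 * m - 195 = 0) :
    l = 1 ∨ (l = 1 / 8 ∧ m = 1) ∨ (l = 0 ∧ m = 1) ∨ (l = 13 / 256 ∧ m = 13 / 256) ∨
      (l = 1 / 64 ∧ m = 1 / 64) ∨ (l = 1 / 64 ∧ m = 1 / 8) ∨ (l = 1 / 32 ∧ m = 0) ∨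
      (l = 3 / 128 ∧ m = 3 / 128) ∨ (l = 5 / 256 ∧ m = 13 / 256) := by
  have hres := sake1_resultant l m h1 h2
  simp only [mul_eq_zero, pow_eq_zero_iff, ne_eq, OfNat.ofNat_ne_zero, not_false_eq_true] at hres
  rcases hres with (((((((h | h) | h) | h) | h) | h) | h) | h)
  · right; right; left
    subst h
    refine ⟨rfl, ?_⟩
    linarith
  · left; linarith
  · right; left
    have hl : l = 1 / 8 := by linarith
    subst hl
    refine ⟨rfl, ?_⟩
    linarith
  · right; right; right; left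
    have hl : l = 13 / 256 := by linarith
    subst hl
    refine ⟨rfl, ?_⟩
    linarith
  · have hl : l = 1 / 64 := by linarith
    subst hl
    have : (m - 1 / 64) * (m - 1 / 8) = 0 := by linarith
    rcases mul_eq_zero.mp this with h' | h'
    · right; right; right; right; left
      exact ⟨rfl, by linarith⟩
    · right; right; right; right; right; left
      exact ⟨rfl, by linarith⟩
  · right; right; right; right; right; right; left
    have hl : l = 1 / 32 := by linarith
    subst hl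
    refine ⟨rfl, ?_⟩
    linarith
  · right; right; right; right; right; right; right; left
    have hl : l = 3 / 128 := by linarith
    subst hl
    refine ⟨rfl, ?_⟩
    linarith
  · right; right; right; right; right; right; right; right
    have hl : l = 5 / 256 := by linarith
    subst hl
    refine ⟨rfl, ?_⟩
    linarith

end Cfsg.Agent.Lib.Helper24.SAK
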