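import Mathlib
import Cfsg.Prelude.Def_AxialAlgebras
import Cfsg.Agent.Lib.Helper24.SAK.Defs
import Cfsg.Agent.Lib.Helper24.SAKB1
import Cfsg.Agent.Lib.Helper24.SAKE3
import Cfsg.Agent.Lib.Helper24.SAKD2
import Cfsg.Agent.Lib.helper8.SAKE6

set_option autoImplicit false

namespace Cfsg.Agent.Lib.Helper24.SAK

open Cfsg.Axial

variable {V : Type*} [AddCommGroup V] [Module ℝ V]

theorem three_of {mul : V →ₗ[ℝ] V →ₗ[ℝ] V} {B : LinearMap.BilinForm ℝ V} {μ₀ μ₁ : V ≃ₗ[ℝ] V} {a0 a1 : V}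
    (h : Cfg mul B μ₀ μ₁ a0 a1) (hl : B a0 a1 = 13 / 256) : (μ₀ * μ₁) ^ 3 = 1 := by
  have hd := dih_of_cfg h
  have hc := cls hd
  have hk := kf hd
  have hl' : (13 / 256 : ℝ) = B a0 a1 := hl.symm
  rw [← hl'] at hc hk
  have hm : B a0 (μ₁ a0) = 13 / 256 := by
    rcases hc with hc | hc | hc | hc | hc | hc | hc | hc | hc
    · norm_num at hc
    · norm_num at hc
    · norm_num at hc
    · exact hc.2
    · norm_num at hc
    · norm_num at hc
    · norm_num at hc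
    · norm_num at hc
    · norm_num at hc
  rw [hm] at hk
  apply fin3 h
  linarith

end Cfsg.Agent.Lib.Helper24.SAK
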