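import Mathlib
import Cfsg.Prelude.Def_AxialAlgebras
import Cfsg.Agent.Lib.Helper24.SAK.Defs
import Cfsg.Agent.Lib.Helper11.SAKA4

set_option autoImplicit false

namespace Cfsg.Agent.Lib.Helper24.SAK

open Cfsg.Axial

variable {V : Type*} [AddCommGroup V] [Module ℝ V]

theorem sub_cfg {mul : V →ₗ[ℝ] V →ₗ[ℝ] V} {B : LinearMap.BilinForm ℝ V} {μ₀ μ₁ : V ≃ₗ[ℝ] V} {a0 a1 : V}
    (h : Cfg mul B μ₀ μ₁ a0 a1) : Cfg mul B μ₀ (μ₁ * μ₀ * μ₁) a0 (μ₁ a0) := by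
  obtain ⟨hV, h0, h1, n0, n1⟩ := h
  refine ⟨hV, h0, pair_conj h1 h0, n0, ?_⟩
  rw [h1.2.1 a0 a0, n0]

end Cfsg.Agent.Lib.Helper24.SAK
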