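import Mathlib
import Cfsg.Prelude.Def_AxialAlgebras
import Cfsg.Agent.Lib.Helper24.SAK.Defs
import Cfsg.Agent.Lib.Helper24.SAKB1
import Cfsg.Agent.Lib.Helper24.SAKE3
import Cfsg.Agent.Lib.Helper24.SAKD2
import Cfsg.Agent.Lib.Helper24.SAKD3
import Cfsg.Agent.Lib.Helper24.SAKD5
import Cfsg.Agent.Lib.helper15.SAKE4
import Cfsg.Agent.Lib.Helper24.SAKBr3
import Cfsg.Agent.Lib.helper8.SAKE6
import Cfsg.Agent.Lib.Helper24.SAKE7
import Cfsg.Agent.Lib.Helper24.SAKE8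
import Cfsg.Agent.Lib.Helper24.SAKE9
import Cfsg.Agent.Lib.Helper24.SAKE10

set_option autoImplicit false

namespace Cfsg.Agent.Lib.Helper24.SAK

open Cfsg.Axial

variable {V : Type*} [AddCommGroup V] [Module ℝ V]

theorem main {mul : V →ₗ[ℝ] V →ₗ[ℝ] V} {B : LinearMap.BilinForm ℝ V} {μ₀ μ₁ : V ≃ₗ[ℝ] V} {a0 a1 : V}
    (h : Cfg mul B μ₀ μ₁ a0 a1) : ∃ n : ℕ, 1 ≤ n ∧ n ≤ 6 ∧ (μ₀ * μ₁) ^ n = 1 := by
  have hd := dih_of_cfg h
  have hc := cls hd
  have hk := kf hd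
  have hp := pf hd
  have hr := rf hd
  rcases hc with hc | hc | hc | hc | hc | hc | hc | hc | hc
  · exact ⟨1, le_refl 1, by norm_num, by rw [pow_one]; exact fin1 h hc⟩
  · exact ⟨2, by norm_num, by norm_num, sakbr_fin2 h hc.2⟩
  · exact ⟨2, by norm_num, by norm_num, sakbr_fin2 h hc.2⟩
  · refine ⟨3, by norm_num, by norm_num, fin3 h ?_⟩
    rw [hc.1, hc.2] at hk
    linarith
  · refine ⟨3, by norm_num, by norm_num, fin3 h ?_⟩
    rw [hc.1, hc.2] at hk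
    linarith
  · refine ⟨4, by norm_num, by norm_num, fin4 h ?_⟩
    rw [hc.1, hc.2] at hp
    linarith
  · refine ⟨4, by norm_num, by norm_num, fin4 h ?_⟩
    rw [hc.1, hc.2] at hp
    linarith
  · refine ⟨5, by norm_num, by norm_num, fin5 h ?_⟩
    rw [hc.1, hc.2] at hr
    linarith
  · refine ⟨6, by norm_num, by norm_num, ?_⟩
    have h3 := three_of (sub_cfg h) hc.2
    have e : μ₀ * (μ₁ * μ₀ * μ₁) = (μ₀ * μ₁) ^ 2 := by
      rw [pow_two]
      simp only [mul_assoc]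
    rw [e, ← pow_mul] at h3
    exact h3

end Cfsg.Agent.Lib.Helper24.SAK
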