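import Mathlib
import Cfsg.Prelude.Def_AxialAlgebras
import Cfsg.Agent.Lib.Helper24.SAK.Defs
import Cfsg.Agent.Lib.helper2.SAKA1
import Cfsg.Agent.Lib.Helper11.SAKA3
import Cfsg.Agent.Lib.Helper11.SAKA4
import Cfsg.Agent.Lib.Helper24.SAKE2

set_option autoImplicit false

namespace Cfsg.Agent.Lib.Helper24.SAK

open Cfsg.Axial

variable {V : Type*} [AddCommGroup V] [Module ℝ V]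

theorem fin5 {mul : V →ₗ[ℝ] V →ₗ[ℝ] V} {B : LinearMap.BilinForm ℝ V} {μ₀ μ₁ : V ≃ₗ[ℝ] V} {a0 a1 : V}
    (h : Cfg mul B μ₀ μ₁ a0 a1) (hr : B (μ₀ (μ₁ a0)) (μ₁ (μ₀ a1)) = 1) : (μ₀ * μ₁) ^ 5 = 1 := by
  obtain ⟨hV, h0, h1, hn0, hn1⟩ := h
  have inv0 : ∀ u v : V, B (μ₀ u) (μ₀ v) = B u v := h0.2.1
  have inv1 : ∀ u v : V, B (μ₁ u) (μ₁ v) = B u v := h1.2.1
  have hn2 : B (μ₁ a0) (μ₁ a0) = 1 := by rw [inv1, hn0]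
  have hnm2 : B (μ₀ (μ₁ a0)) (μ₀ (μ₁ a0)) = 1 := by rw [inv0, hn2]
  have hnm1 : B (μ₀ a1) (μ₀ a1) = 1 := by rw [inv0, hn1]
  have hn3 : B (μ₁ (μ₀ a1)) (μ₁ (μ₀ a1)) = 1 := by rw [inv1, hnm1]
  have e : μ₀ (μ₁ a0) = μ₁ (μ₀ a1) := eq_of_form hV _ _ hnm2 hn3 hr
  have hT2 : IsMajoranaPair mul B (μ₁ * μ₀ * μ₁) (μ₁ a0) := pair_conj h1 h0
  have hTm2 : IsMajoranaPair mul B (μ₀ * (μ₁ * μ₀ * μ₁) * μ₀) (μ₀ (μ₁ a0)) := pair_conj h0 hT2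
  have hTm1 : IsMajoranaPair mul B (μ₀ * μ₁ * μ₀) (μ₀ a1) := pair_conj h0 h1
  have hT3 : IsMajoranaPair mul B (μ₁ * (μ₀ * μ₁ * μ₀) * μ₁) (μ₁ (μ₀ a1)) := pair_conj h1 hTm1
  rw [e] at hTm2
  have hu : μ₀ * (μ₁ * μ₀ * μ₁) * μ₀ = μ₁ * (μ₀ * μ₁ * μ₀) * μ₁ := pair_unique hTm2 hT3
  have hsq : (μ₁ * (μ₀ * μ₁ * μ₀) * μ₁) * (μ₁ * (μ₀ * μ₁ * μ₀) * μ₁) = 1 := by
    ext v
    rw [LinearEquiv.mul_apply, mu_invol hT3 v]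
    rfl
  calc (μ₀ * μ₁) ^ 5 = (μ₀ * (μ₁ * μ₀ * μ₁) * μ₀) * (μ₁ * (μ₀ * μ₁ * μ₀) * μ₁) := by
        simp only [pow_succ, pow_zero, one_mul, mul_assoc]
    _ = (μ₁ * (μ₀ * μ₁ * μ₀) * μ₁) * (μ₁ * (μ₀ * μ₁ * μ₀) * μ₁) := by rw [hu]
    _ = 1 := hsq

end Cfsg.Agent.Lib.Helper24.SAK
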