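import Cfsg.Agent.Lib.helper7.SAP.Defs

set_option autoImplicit false

namespace Cfsg.Agent.Lib.helper7.SAP

open Equiv

universe u

theorem sapnt3_small_part (n : ℕ) (n_pos : 0 < n) :
    ∏ x ∈ Finset.range (2 * n / 3 + 1), x ^ (Nat.centralBinom n).factorization x ≤
      (2 * n) ^ Nat.sqrt (2 * n) * 4 ^ (2 * n / 3) := by
  have n2_pos : 1 ≤ 2 * n := Nat.mul_pos (Nat.zero_lt_two) n_pos
  let S := {p ∈ Finset.range (2 * n / 3 + 1) | Nat.Prime p}
  let f x := x ^ n.centralBinom.factorization x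
  have : ∏ x ∈ S, f x = ∏ x ∈ Finset.range (2 * n / 3 + 1), f x := by
    refine Finset.prod_filter_of_ne fun p _ h => ?_
    contrapose h; dsimp only [f]
    rw [Nat.factorization_eq_zero_of_not_prime n.centralBinom h, _root_.pow_zero]
  show ∏ x ∈ Finset.range (2 * n / 3 + 1), f x ≤ _
  rw [← this, ← Finset.prod_filter_mul_prod_filter_not S (· ≤ Nat.sqrt (2 * n))]
  apply mul_le_mul'
  · refine (Finset.prod_le_prod' fun p _ => (?_ : f p ≤ 2 * n)).trans ?_
    · exact Nat.pow_factorization_choose_le (Nat.mul_pos Nat.two_pos n_pos)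
    have : (Finset.Icc 1 (Nat.sqrt (2 * n))).card = Nat.sqrt (2 * n) := by
      rw [Nat.card_Icc, Nat.add_sub_cancel]
    rw [Finset.prod_const]
    refine pow_right_mono₀ n2_pos ((Finset.card_le_card fun x hx => ?_).trans this.le)
    obtain ⟨h1, h2⟩ := Finset.mem_filter.1 hx
    exact Finset.mem_Icc.mpr ⟨(Finset.mem_filter.1 h1).2.one_lt.le, h2⟩
  · refine le_trans ?_ (primorial_le_four_pow (2 * n / 3))
    refine (Finset.prod_le_prod' fun p hp => (?_ : f p ≤ p)).trans ?_
    · obtain ⟨h1, h2⟩ := Finset.mem_filter.1 hp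
      refine (pow_right_mono₀ (Finset.mem_filter.1 h1).2.one_lt.le ?_).trans (pow_one p).le
      exact Nat.factorization_choose_le_one (Nat.sqrt_lt'.mp <| not_le.1 h2)
    refine Finset.prod_le_prod_of_subset_of_one_le' (Finset.filter_subset _ _) ?_
    exact fun p hp _ => (Finset.mem_filter.1 hp).2.one_lt.le

theorem sapnt3_big_part (n : ℕ) (hn : 4 ≤ n)
    (no_prime : ∀ p : ℕ, p.Prime → n < p → 2 * n < p + 4) :
    ∏ x ∈ Finset.Ico (2 * n / 3 + 1) (2 * n + 1), x ^ (Nat.centralBinom n).factorization x ≤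
      (2 * n) ^ 2 := by
  have hsub : ({2 * n - 3, 2 * n - 1} : Finset ℕ) ⊆ Finset.Ico (2 * n / 3 + 1) (2 * n + 1) := by
    intro x hx
    rw [Finset.mem_insert, Finset.mem_singleton] at hx
    rw [Finset.mem_Ico]
    rcases hx with rfl | rfl <;> omega
  rw [← Finset.prod_subset hsub]
  · have hne : 2 * n - 3 ≠ 2 * n - 1 := by omega
    rw [Finset.prod_pair hne, pow_two]
    exact Nat.mul_le_mul (Nat.pow_factorization_choose_le (by omega))
      (Nat.pow_factorization_choose_le (by omega))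
  · intro x hx hx'
    rw [Finset.mem_Ico] at hx
    rw [Finset.mem_insert, Finset.mem_singleton, not_or] at hx'
    by_cases hp : x.Prime
    · rcases le_or_gt x n with hxn | hxn
      · rw [Nat.factorization_centralBinom_of_two_mul_self_lt_three_mul (by omega) hxn (by omega),
          pow_zero]
      · exfalso
        have h1 := no_prime x hp hxn
        have h2 : x = 2 * n - 2 ∨ x = 2 * n := by omega
        have heven : 2 ∣ x := by
          rcases h2 with rfl | rfl <;> omega
        have := (Nat.prime_dvd_prime_iff_eq Nat.prime_two hp).mp heven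
        omega
    · rw [Nat.factorization_eq_zero_of_not_prime _ hp, pow_zero]

theorem sap_centralBinom_le (n : ℕ) (hn : 4 ≤ n)
    (no_prime : ∀ p : ℕ, p.Prime → n < p → 2 * n < p + 4) :
    Nat.centralBinom n ≤ (2 * n) ^ (Nat.sqrt (2 * n) + 2) * 4 ^ (2 * n / 3) := by
  have h1 := sapnt3_small_part n (by omega)
  have h2 := sapnt3_big_part n hn no_prime
  have hsplit : Nat.centralBinom n =
      (∏ x ∈ Finset.range (2 * n / 3 + 1), x ^ (Nat.centralBinom n).factorization x) *
        ∏ x ∈ Finset.Ico (2 * n / 3 + 1) (2 * n + 1), x ^ (Nat.centralBinom n).factorization x := by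
    rw [Finset.range_eq_Ico, Finset.prod_Ico_consecutive _ (Nat.zero_le _) (by omega),
      ← Finset.range_eq_Ico]
    exact (Nat.prod_pow_factorization_centralBinom n).symm
  rw [hsplit]
  calc _ ≤ ((2 * n) ^ Nat.sqrt (2 * n) * 4 ^ (2 * n / 3)) * (2 * n) ^ 2 := Nat.mul_le_mul h1 h2
    _ = (2 * n) ^ (Nat.sqrt (2 * n) + 2) * 4 ^ (2 * n / 3) := by ring

end Cfsg.Agent.Lib.helper7.SAP
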