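import Cfsg.Agent.Lib.helper7.SAP.Defs

set_option autoImplicit false

namespace Cfsg.Agent.Lib.helper7.SAP

open Equiv

universe u

theorem sapnt6_core
    (hNT5 : ∀ n : ℕ, 8 ≤ n → ∃ p : ℕ, p.Prime ∧ n < p ∧ p + 4 ≤ 2 * n)
    (n : ℕ) (hn : 5 ≤ n) (h6 : n ≠ 6) :
    ∃ p k l : ℕ, p.Prime ∧ 3 ≤ p ∧ p + 2 + k = n ∧ k + 1 ≤ l ∧ l + 1 ≤ p ∧ Odd (l + k) ∧
      ¬ 3 ∣ (l + k) := by
  rcases lt_or_ge n 15 with hlt | hge
  · interval_cases n
    · exact ⟨3, 0, 1, by norm_num1, by norm_num1, rfl, by norm_num1, by norm_num1, by decide, by decide⟩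
    · exact absurd rfl h6
    · exact ⟨5, 0, 1, by norm_num1, by norm_num1, rfl, by norm_num1, by norm_num1, by decide, by decide⟩
    · exact ⟨5, 1, 4, by norm_num1, by norm_num1, rfl, by norm_num1, by norm_num1, by decide, by decide⟩
    · exact ⟨7, 0, 1, by norm_num1, by norm_num1, rfl, by norm_num1, by norm_num1, by decide, by decide⟩
    · exact ⟨7, 1, 4, by norm_num1, by norm_num1, rfl, by norm_num1, by norm_num1, by decide, by decide⟩
    · exact ⟨7, 2, 3, by norm_num1, by norm_num1, rfl, by norm_num1, by norm_num1, by decide, by decide⟩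
    · exact ⟨7, 3, 4, by norm_num1, by norm_num1, rfl, by norm_num1, by norm_num1, by decide, by decide⟩
    · exact ⟨11, 0, 1, by norm_num1, by norm_num1, rfl, by norm_num1, by norm_num1, by decide, by decide⟩
    · exact ⟨11, 1, 4, by norm_num1, by norm_num1, rfl, by norm_num1, by norm_num1, by decide, by decide⟩
  · obtain ⟨p, hp, h1, h2⟩ := hNT5 ((n + 1) / 2) (by omega)
    have hk : p + 2 + (n - 2 - p) = n := by omega
    by_cases h3 : 3 ∣ (n - 2 - p + 1 + (n - 2 - p))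
    · refine ⟨p, n - 2 - p, n - 2 - p + 3, hp, by omega, hk, by omega, by omega, ?_, by omega⟩
      rw [Nat.odd_iff]; omega
    · refine ⟨p, n - 2 - p, n - 2 - p + 1, hp, by omega, hk, by omega, by omega, ?_, h3⟩
      rw [Nat.odd_iff]; omega

theorem sapnt7_core
    (hNT5 : ∀ n : ℕ, 8 ≤ n → ∃ p : ℕ, p.Prime ∧ n < p ∧ p + 4 ≤ 2 * n)
    (n : ℕ) (hn : 5 ≤ n) (h6 : n ≠ 6) :
    ∃ p k l : ℕ, p.Prime ∧ 3 ≤ p ∧ p + 2 + k = n ∧ k + 1 ≤ l ∧ l + 1 ≤ p ∧ Even (l + k) ∧
      ¬ 3 ∣ (l + k) := by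
  rcases lt_or_ge n 14 with hlt | hge
  · interval_cases n
    · exact ⟨3, 0, 2, by norm_num1, by norm_num1, rfl, by norm_num1, by norm_num1, by decide, by decide⟩
    · exact absurd rfl h6
    · exact ⟨5, 0, 2, by norm_num1, by norm_num1, rfl, by norm_num1, by norm_num1, by decide, by decide⟩
    · exact ⟨5, 1, 3, by norm_num1, by norm_num1, rfl, by norm_num1, by norm_num1, by decide, by decide⟩
    · exact ⟨7, 0, 2, by norm_num1, by norm_num1, rfl, by norm_num1, by norm_num1, by decide, by decide⟩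
    · exact ⟨7, 1, 3, by norm_num1, by norm_num1, rfl, by norm_num1, by norm_num1, by decide, by decide⟩
    · exact ⟨7, 2, 6, by norm_num1, by norm_num1, rfl, by norm_num1, by norm_num1, by decide, by decide⟩
    · exact ⟨7, 3, 5, by norm_num1, by norm_num1, rfl, by norm_num1, by norm_num1, by decide, by decide⟩
    · exact ⟨11, 0, 2, by norm_num1, by norm_num1, rfl, by norm_num1, by norm_num1, by decide, by decide⟩
  · obtain ⟨p, hp, h1, h2⟩ := hNT5 ((n + 2) / 2) (by omega)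
    have hk : p + 2 + (n - 2 - p) = n := by omega
    by_cases h3 : 3 ∣ (n - 2 - p + 2 + (n - 2 - p))
    · refine ⟨p, n - 2 - p, n - 2 - p + 4, hp, by omega, hk, by omega, by omega, ?_, by omega⟩
      rw [Nat.even_iff]; omega
    · refine ⟨p, n - 2 - p, n - 2 - p + 2, hp, by omega, hk, by omega, by omega, ?_, h3⟩
      rw [Nat.even_iff]; omega

end Cfsg.Agent.Lib.helper7.SAP
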