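import Cfsg.Agent.Lib.Helper24.SAPNT4core
import Cfsg.Agent.Lib.Helper24.SAPNT6core
import Cfsg.Agent.Lib.Helper16.SAPNT1

set_option autoImplicit false

namespace Cfsg.Agent.Lib.helper7.SAP

open Equiv

universe u

theorem sap_bertrand_large (n : ℕ) (hn : 2048 ≤ n) : ∃ p : ℕ, p.Prime ∧ n < p ∧ p + 4 ≤ 2 * n :=
  sapnt4_core (fun _ h => sap_nat_ineq h) n hn

theorem sap_bertrand (n : ℕ) (hn : 8 ≤ n) : ∃ p : ℕ, p.Prime ∧ n < p ∧ p + 4 ≤ 2 * n :=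
  sapnt5_core sap_bertrand_large n hn

theorem sap_goodA (n : ℕ) (hn : 5 ≤ n) (h6 : n ≠ 6) :
    ∃ p k l : ℕ, p.Prime ∧ 3 ≤ p ∧ p + 2 + k = n ∧ k + 1 ≤ l ∧ l + 1 ≤ p ∧ Odd (l + k) ∧
      ¬ 3 ∣ (l + k) :=
  sapnt6_core sap_bertrand n hn h6

theorem sap_goodS (n : ℕ) (hn : 5 ≤ n) (h6 : n ≠ 6) :
    ∃ p k l : ℕ, p.Prime ∧ 3 ≤ p ∧ p + 2 + k = n ∧ k + 1 ≤ l ∧ l + 1 ≤ p ∧ Even (l + k) ∧
      ¬ 3 ∣ (l + k) :=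
  sapnt7_core sap_bertrand n hn h6

end Cfsg.Agent.Lib.helper7.SAP
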