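import Cfsg.Agent.Lib.Helper24.SAPNT3

set_option autoImplicit false

namespace Cfsg.Agent.Lib.helper7.SAP

open Equiv

universe u

theorem sapnt4_core
    (hNT2 : ∀ n : ℕ, 2048 ≤ n → n * (2 * n) ^ (Nat.sqrt (2 * n) + 2) * 4 ^ (2 * n / 3) ≤ 4 ^ n)
    (n : ℕ) (hn : 2048 ≤ n) : ∃ p : ℕ, p.Prime ∧ n < p ∧ p + 4 ≤ 2 * n := by
  have no_prime : 4 ^ n < n * n.centralBinom :=
    Nat.four_pow_lt_mul_centralBinom n (le_trans (by norm_num1) hn)
  contrapose! no_prime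
  have h1 : n.centralBinom ≤ (2 * n) ^ (Nat.sqrt (2 * n) + 2) * 4 ^ (2 * n / 3) :=
    sap_centralBinom_le n (le_trans (by norm_num1) hn) no_prime
  calc n * n.centralBinom ≤ n * ((2 * n) ^ (Nat.sqrt (2 * n) + 2) * 4 ^ (2 * n / 3)) :=
        Nat.mul_le_mul_left n h1
    _ = n * (2 * n) ^ (Nat.sqrt (2 * n) + 2) * 4 ^ (2 * n / 3) := by ring
    _ ≤ 4 ^ n := hNT2 n hn

theorem sapnt5_step {n : ℕ} (q : ℕ) {p : ℕ} (prime_p : Nat.Prime p) (covering : p + 4 ≤ 2 * q)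
    (H : n < q → ∃ p : ℕ, p.Prime ∧ n < p ∧ p + 4 ≤ 2 * n) (hn : n < p) :
    ∃ p : ℕ, p.Prime ∧ n < p ∧ p + 4 ≤ 2 * n := by
  by_cases h : n < q
  · exact H h
  · exact ⟨p, prime_p, hn, by omega⟩

theorem sapnt5_core
    (hNT4 : ∀ n : ℕ, 2048 ≤ n → ∃ p : ℕ, p.Prime ∧ n < p ∧ p + 4 ≤ 2 * n)
    (n : ℕ) (hn : 8 ≤ n) : ∃ p : ℕ, p.Prime ∧ n < p ∧ p + 4 ≤ 2 * n := by
  rcases lt_or_ge 2047 n with h | h
  · exact hNT4 n h
  replace h : n < 3049 := by omega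
  revert h
  refine sapnt5_step 1531 (p := 3049) (by norm_num1) (by norm_num1) ?_
  refine sapnt5_step 773 (p := 1531) (by norm_num1) (by norm_num1) ?_
  refine sapnt5_step 389 (p := 773) (by norm_num1) (by norm_num1) ?_
  refine sapnt5_step 197 (p := 389) (by norm_num1) (by norm_num1) ?_
  refine sapnt5_step 101 (p := 197) (by norm_num1) (by norm_num1) ?_
  refine sapnt5_step 53 (p := 101) (by norm_num1) (by norm_num1) ?_
  refine sapnt5_step 29 (p := 53) (by norm_num1) (by norm_num1) ?_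
  refine sapnt5_step 17 (p := 29) (by norm_num1) (by norm_num1) ?_
  refine sapnt5_step 11 (p := 17) (by norm_num1) (by norm_num1) ?_
  intro h
  exact ⟨11, by norm_num1, h, by omega⟩

end Cfsg.Agent.Lib.helper7.SAP
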