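import Cfsg.Agent.Lib.helper7.SAP.Defs
import Cfsg.Agent.Lib.Helper10.SAPSIX1
import Cfsg.Agent.Lib.Helper10.SAPTR2
import Cfsg.Agent.Lib.helper4.SAPCAR3
import Cfsg.Agent.Lib.helper7.SAP.Spares
import Cfsg.Agent.Lib.Helper26.SAPALT3
import Cfsg.Agent.Lib.Helper29.SAPBASE1

set_option autoImplicit false

namespace Cfsg.Agent.Lib.helper7.SAP

open Equiv

universe u

def sapsix3_h24_a : Perm (Fin 6) := swap 0 1 * swap 1 2 * swap 2 3

def sapsix3_h24_z : Perm (Fin 6) := c3 0 4 5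

def sapsix3_h24_X (i : ℕ) : FreeGroup (Fin 2) := wA ^ i * wG * (wA ^ i)⁻¹

def sapsix3_h24_W : FreeGroup (Fin 2) :=
  sapsix3_h24_X 0 * sapsix3_h24_X 1 * sapsix3_h24_X 2 * (sapsix3_h24_X 0)⁻¹ * (sapsix3_h24_X 3)⁻¹ *
    sapsix3_h24_X 1

def sapsix3_h24_list : List (FreeGroup (Fin 2)) :=
  [wA ^ 4, wG ^ 3, (wG * (wA * wG * wA⁻¹)) ^ 2, (wG * (wA ^ 2 * wG * (wA ^ 2)⁻¹)) ^ 2,
    (wA ^ 2)⁻¹ * sapsix3_h24_W]

def sapsix3_h24_rels : Finset (FreeGroup (Fin 2)) := sapsix3_h24_list.toFinset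

theorem sapsix3_h24_card : sapsix3_h24_rels.card ≤ 7 :=
  le_trans (List.toFinset_card_le _) (by simp [sapsix3_h24_list])

theorem sapsix3_h24_mem (r : FreeGroup (Fin 2)) (hr : r ∈ sapsix3_h24_list) :
    r ∈ (↑sapsix3_h24_rels : Set (FreeGroup (Fin 2))) := by
  rw [Finset.mem_coe, sapsix3_h24_rels, List.mem_toFinset]
  exact hr

theorem sapsix3_h24_lift_X (i : ℕ) :
    FreeGroup.lift ![sapsix3_h24_a, sapsix3_h24_z] (sapsix3_h24_X i) =
      sapsix3_h24_a ^ i * sapsix3_h24_z * (sapsix3_h24_a ^ i)⁻¹ := by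
  simp [sapsix3_h24_X, wA, wG]

set_option maxRecDepth 20000 in
theorem sapsix3_h24_eval : ∀ r ∈ (↑sapsix3_h24_rels : Set (FreeGroup (Fin 2))),
    FreeGroup.lift ![sapsix3_h24_a, sapsix3_h24_z] r = 1 := by
  intro r hr
  rw [Finset.mem_coe, sapsix3_h24_rels, List.mem_toFinset] at hr
  simp only [sapsix3_h24_list, List.mem_cons, List.not_mem_nil, or_false] at hr
  rcases hr with rfl | rfl | rfl | rfl | rfl
  · simp only [map_pow, wA, FreeGroup.lift_apply_of, Matrix.cons_val_zero]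
    decide
  · simp only [map_pow, wG, FreeGroup.lift_apply_of, Matrix.cons_val_one, Matrix.cons_val_zero]
    decide
  · simp only [map_pow, map_mul, map_inv, wA, wG, FreeGroup.lift_apply_of, Matrix.cons_val_one,
      Matrix.cons_val_zero]
    decide
  · simp only [map_pow, map_mul, map_inv, wA, wG, FreeGroup.lift_apply_of, Matrix.cons_val_one,
      Matrix.cons_val_zero]
    decide
  · simp only [sapsix3_h24_W, map_mul, map_inv, sapsix3_h24_lift_X, map_pow, wA,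
      FreeGroup.lift_apply_of, Matrix.cons_val_zero]
    decide


noncomputable def sapsix3_h24_phi :
    PresentedGroup (↑sapsix3_h24_rels : Set (FreeGroup (Fin 2))) →* Perm (Fin 6) :=
  PresentedGroup.toGroup sapsix3_h24_eval

theorem sapsix3_h24_phi_of (i : Fin 2) :
    sapsix3_h24_phi (PresentedGroup.of i) = ![sapsix3_h24_a, sapsix3_h24_z] i :=
  PresentedGroup.toGroup.of sapsix3_h24_eval

set_option maxRecDepth 20000 in
theorem sapsix3_h24_surj : Function.Surjective sapsix3_h24_phi := by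
  rw [← MonoidHom.range_eq_top]
  have ha : sapsix3_h24_a ∈ sapsix3_h24_phi.range := ⟨PresentedGroup.of 0, sapsix3_h24_phi_of 0⟩
  have hz : sapsix3_h24_z ∈ sapsix3_h24_phi.range := ⟨PresentedGroup.of 1, sapsix3_h24_phi_of 1⟩
  have hx : ∀ y : {y : Fin 6 // y ≠ 4 ∧ y ≠ 5}, c3 (y : Fin 6) 4 5 ∈ sapsix3_h24_phi.range := by
    rintro ⟨y, hy4, hy5⟩
    have key : ∀ i : ℕ, sapsix3_h24_a ^ i * sapsix3_h24_z * (sapsix3_h24_a ^ i)⁻¹ ∈
        sapsix3_h24_phi.range := fun i =>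
      Subgroup.mul_mem _ (Subgroup.mul_mem _ (Subgroup.pow_mem _ ha i) hz)
        (Subgroup.inv_mem _ (Subgroup.pow_mem _ ha i))
    fin_cases y
    · have h : c3 (0 : Fin 6) 4 5 = sapsix3_h24_a ^ 0 * sapsix3_h24_z * (sapsix3_h24_a ^ 0)⁻¹ := by decide
      show c3 (0 : Fin 6) 4 5 ∈ _
      rw [h]; exact key 0
    · have h : c3 (1 : Fin 6) 4 5 = sapsix3_h24_a ^ 1 * sapsix3_h24_z * (sapsix3_h24_a ^ 1)⁻¹ := by decide
      show c3 (1 : Fin 6) 4 5 ∈ _
      rw [h]; exact key 1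
    · have h : c3 (2 : Fin 6) 4 5 = sapsix3_h24_a ^ 2 * sapsix3_h24_z * (sapsix3_h24_a ^ 2)⁻¹ := by decide
      show c3 (2 : Fin 6) 4 5 ∈ _
      rw [h]; exact key 2
    · have h : c3 (3 : Fin 6) 4 5 = sapsix3_h24_a ^ 3 * sapsix3_h24_z * (sapsix3_h24_a ^ 3)⁻¹ := by decide
      show c3 (3 : Fin 6) 4 5 ∈ _
      rw [h]; exact key 3
    · exact absurd rfl hy4
    · exact absurd rfl hy5
  have hA : alternatingGroup (Fin 6) ≤ sapsix3_h24_phi.range := by
    rw [← altgen (4 : Fin 6) 5 (by decide), Subgroup.closure_le]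
    rintro _ ⟨y, rfl⟩
    exact hx y
  have hodd : Perm.sign sapsix3_h24_a = -1 := by decide
  rw [eq_top_iff]
  intro σ _
  rcases Int.units_eq_one_or (Perm.sign σ) with h | h
  · exact hA (Perm.mem_alternatingGroup.2 h)
  · have h1 : σ * sapsix3_h24_a⁻¹ ∈ alternatingGroup (Fin 6) := by
      rw [Perm.mem_alternatingGroup, map_mul, map_inv, h, hodd]
      decide
    have h2 := Subgroup.mul_mem _ (hA h1) ha
    rwa [inv_mul_cancel_right] at h2

theorem sapsix3_h24_card_le :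
    Finite (PresentedGroup (↑sapsix3_h24_rels : Set (FreeGroup (Fin 2)))) ∧
      Nat.card (PresentedGroup (↑sapsix3_h24_rels : Set (FreeGroup (Fin 2)))) ≤ 720 := by
  set P := PresentedGroup (↑sapsix3_h24_rels : Set (FreeGroup (Fin 2))) with hP
  set a : P := PresentedGroup.of 0 with ha
  set z : P := PresentedGroup.of 1 with hz
  have mk_a : PresentedGroup.mk (↑sapsix3_h24_rels : Set (FreeGroup (Fin 2))) wA = a := rfl
  have mk_z : PresentedGroup.mk (↑sapsix3_h24_rels : Set (FreeGroup (Fin 2))) wG = z := rfl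
  have r1 : a ^ 4 = 1 := by
    have := PresentedGroup.one_of_mem (sapsix3_h24_mem (wA ^ 4) (by simp [sapsix3_h24_list]))
    rwa [map_pow, mk_a] at this
  have r2 : z ^ 3 = 1 := by
    have := PresentedGroup.one_of_mem (sapsix3_h24_mem (wG ^ 3) (by simp [sapsix3_h24_list]))
    rwa [map_pow, mk_z] at this
  have r3 : (z * (a * z * a⁻¹)) ^ 2 = 1 := by
    have := PresentedGroup.one_of_mem
      (sapsix3_h24_mem ((wG * (wA * wG * wA⁻¹)) ^ 2) (by simp [sapsix3_h24_list]))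
    rwa [map_pow, map_mul, map_mul, map_mul, map_inv, mk_a, mk_z] at this
  have r4 : (z * (a ^ 2 * z * (a ^ 2)⁻¹)) ^ 2 = 1 := by
    have := PresentedGroup.one_of_mem
      (sapsix3_h24_mem ((wG * (wA ^ 2 * wG * (wA ^ 2)⁻¹)) ^ 2) (by simp [sapsix3_h24_list]))
    rwa [map_pow, map_mul, map_mul, map_mul, map_inv, map_pow, mk_a, mk_z] at this
  have mkX : ∀ i : ℕ, PresentedGroup.mk (↑sapsix3_h24_rels : Set (FreeGroup (Fin 2))) (sapsix3_h24_X i) =
      a ^ i * z * (a ^ i)⁻¹ := by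
    intro i
    rw [sapsix3_h24_X, map_mul, map_mul, map_inv, map_pow, mk_a, mk_z]
  have r5 : a ^ 2 = (a ^ 0 * z * (a ^ 0)⁻¹) * (a ^ 1 * z * (a ^ 1)⁻¹) * (a ^ 2 * z * (a ^ 2)⁻¹) *
      (a ^ 0 * z * (a ^ 0)⁻¹)⁻¹ * (a ^ 3 * z * (a ^ 3)⁻¹)⁻¹ * (a ^ 1 * z * (a ^ 1)⁻¹) := by
    have := PresentedGroup.one_of_mem
      (sapsix3_h24_mem ((wA ^ 2)⁻¹ * sapsix3_h24_W) (by simp [sapsix3_h24_list]))
    rw [map_mul, map_inv, map_pow, mk_a, sapsix3_h24_W, map_mul, map_mul, map_mul, map_mul, map_mul,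
      map_inv, map_inv, mkX, mkX, mkX, mkX] at this
    exact (inv_mul_eq_one.mp this)
  have hzo : ∀ i : ℕ, i < 4 → zo a z ((i : ℕ) : ZMod 4) = a ^ i * z * (a ^ i)⁻¹ := by
    intro i hi
    unfold zo
    have : (((i : ℕ) : ZMod 4)).val = i := by
      rw [ZMod.val_natCast]; exact Nat.mod_eq_of_lt hi
    rw [this]
  have hcar : CarRel (zo a z : ZMod 4 → P) := by
    refine cyc4_carRel a (zo a z) 1 (Or.inl rfl) ?_ ?_ ?_ ?_
    · intro i
      rw [zpow_one]
      exact zo_conj_a a z r1 i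
    · intro i
      unfold zo
      rw [conj_pow, r2, mul_one, mul_inv_cancel]
    · have h0 := hzo 0 (by norm_num)
      have h1 := hzo 1 (by norm_num)
      simp only [Nat.cast_zero, Nat.cast_one, pow_zero, one_mul, inv_one, mul_one, pow_one] at h0 h1
      rw [h0, h1]
      exact r3
    · have h0 := hzo 0 (by norm_num)
      have h2 := hzo 2 (by norm_num)
      simp only [Nat.cast_zero, pow_zero, one_mul, inv_one, mul_one] at h0
      have h2' : zo a z (2 : ZMod 4) = a ^ 2 * z * (a ^ 2)⁻¹ := by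
        have : ((2 : ℕ) : ZMod 4) = 2 := by norm_num
        rw [← this]; exact h2
      rw [h0, h2']
      exact r4
  obtain ⟨hfin, hcard⟩ := car_card_le (zo a z : ZMod 4 → P) hcar
  set N : Subgroup P := Subgroup.closure (Set.range (zo a z : ZMod 4 → P)) with hN
  have hmem : ∀ i : ℕ, i < 4 → a ^ i * z * (a ^ i)⁻¹ ∈ N := by
    intro i hi
    rw [← hzo i hi]
    exact Subgroup.subset_closure ⟨_, rfl⟩
  have hn : ∀ x ∈ N, a * x * a⁻¹ ∈ N := by
    intro x hx
    have hmap : N.map (MulAut.conj a).toMonoidHom ≤ N := by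
      rw [hN, MonoidHom.map_closure, Subgroup.closure_le]
      rintro _ ⟨_, ⟨i, rfl⟩, rfl⟩
      show a * zo a z i * a⁻¹ ∈ _
      rw [zo_conj_a a z r1 i]
      exact Subgroup.subset_closure ⟨_, rfl⟩
    exact hmap (Subgroup.mem_map_of_mem _ hx)
  have ht : a ^ 2 ∈ N := by
    rw [r5]
    have h0 := hmem 0 (by norm_num)
    have h1 := hmem 1 (by norm_num)
    have h2 := hmem 2 (by norm_num)
    have h3 := hmem 3 (by norm_num)
    exact N.mul_mem (N.mul_mem (N.mul_mem (N.mul_mem (N.mul_mem h0 h1) h2) (N.inv_mem h0))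
      (N.inv_mem h3)) h1
  have hgen : N ⊔ Subgroup.zpowers a = ⊤ := by
    rw [eq_top_iff, ← PresentedGroup.closure_range_of, Subgroup.closure_le]
    rintro _ ⟨i, rfl⟩
    fin_cases i
    · exact (le_sup_right : Subgroup.zpowers a ≤ N ⊔ Subgroup.zpowers a) (Subgroup.mem_zpowers a)
    · have : z ∈ N := by
        have := hmem 0 (by norm_num)
        simpa using this
      exact (le_sup_left : N ≤ N ⊔ Subgroup.zpowers a) this
  have hcardZ : Nat.card (ZMod 4) = 4 := by simp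
  obtain ⟨hF, hle⟩ := index_two_bound N a hn ht hgen
  refine ⟨hF, le_trans hle ?_⟩
  rw [hcardZ] at hcard
  have : (4 + 2).factorial = 720 := by decide
  omega

theorem sapsix3_h24_pres_S6 : ∃ rels : Finset (FreeGroup (Fin 2)), rels.card ≤ 7 ∧
    Nonempty (PresentedGroup (↑rels : Set (FreeGroup (Fin 2))) ≃* Perm (Fin 6)) := by
  refine ⟨sapsix3_h24_rels, sapsix3_h24_card, ⟨?_⟩⟩
  obtain ⟨hF, hle⟩ := sapsix3_h24_card_le
  have hc : Nat.card (PresentedGroup (↑sapsix3_h24_rels : Set (FreeGroup (Fin 2)))) ≤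
      Nat.card (Perm (Fin 6)) := by
    rw [Nat.card_eq_fintype_card (α := Perm (Fin 6)), Fintype.card_perm, Fintype.card_fin]
    exact hle
  exact MulEquiv.ofBijective sapsix3_h24_phi
    (saptr1_h7_iso_of_card sapsix3_h24_phi sapsix3_h24_surj hc)

end Cfsg.Agent.Lib.helper7.SAP
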