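import Mathlib
import Cfsg.Prelude.Def_Blocks
import Cfsg.Agent.S0973
import Cfsg.Agent.S0912
import Cfsg.Agent.S0028
import Cfsg.Agent.S4487
import Cfsg.Agent.S0936
import Cfsg.Agent.Lib.helper7.BlockEval
import Cfsg.Agent.Lib.Helper25.CharLinear

set_option autoImplicit false
set_option linter.style.haveILetI false
set_option linter.unusedSectionVars false
set_option linter.unusedVariables false

namespace Cfsg.Agent.Lib.Helper26.SB

open Cfsg Cfsg.Agent.Lib.helper7 Cfsg.Agent.Lib.Helper25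

theorem h24_defect_isPGroup {G : Type*} [Group G] {p : ℕ} [Fact p.Prime] {M : Ideal Cfsg.AlgInt}
    {B : Set (Cfsg.IrrCharacter G)} {P : Subgroup G} (hP : Cfsg.IsDefectGroup p M B P) :
    IsPGroup p P := by
  obtain ⟨g, hg, Q, hQ⟩ := hP
  rw [hQ]
  exact Q.isPGroup'.map _

theorem h24_exists_central_involution {G : Type*} [Group G] [Finite G] (D : Subgroup G)
    (hD : IsPGroup 2 D) (hD1 : D ≠ ⊥) :
    ∃ t : G, t ∈ D ∧ orderOf t = 2 ∧ ∀ d ∈ D, Commute d t := by
  haveI : Fact (Nat.Prime 2) := ⟨Nat.prime_two⟩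
  haveI : Nontrivial D := (Subgroup.nontrivial_iff_ne_bot D).mpr hD1
  haveI : Nontrivial (Subgroup.center D) := hD.center_nontrivial
  have hZ : IsPGroup 2 (Subgroup.center D) := hD.to_subgroup _
  obtain ⟨n, hn⟩ := hZ.exists_card_eq
  have hn0 : n ≠ 0 := by
    rintro rfl
    rw [pow_zero] at hn
    have : Subsingleton (Subgroup.center D) := (Nat.card_eq_one_iff_unique.mp hn).1
    exact not_subsingleton _ this
  have hdvd : 2 ∣ Nat.card (Subgroup.center D) := by
    rw [hn]
    exact dvd_pow_self 2 hn0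
  obtain ⟨z, hz⟩ := exists_prime_orderOf_dvd_card' 2 hdvd
  refine ⟨((z : D) : G), (z : D).2, ?_, ?_⟩
  · rw [Subgroup.orderOf_coe, Subgroup.orderOf_coe, hz]
  · intro d hd
    have := Subgroup.mem_center_iff.mp z.2 ⟨d, hd⟩
    have h2 := congrArg (Subtype.val) this
    simpa [Commute, SemiconjBy] using h2

theorem h24_isPGroup_of_odd_trivial {G : Type*} [Group G] [Finite G] (C : Subgroup G)
    (h : ∀ y ∈ C, ¬ 2 ∣ orderOf y → y = 1) : IsPGroup 2 C := by
  intro c
  have hpos : 0 < orderOf (c : G) := orderOf_pos _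
  obtain ⟨k, m, hm, hkm⟩ := Nat.exists_eq_two_pow_mul_odd hpos.ne'
  refine ⟨k, ?_⟩
  have hy : ((c : G) ^ (2 ^ k)) ∈ C := C.pow_mem c.2 _
  have hord : orderOf ((c : G) ^ (2 ^ k)) = m := by
    rw [orderOf_pow' _ (by positivity), hkm, Nat.gcd_eq_right (Dvd.intro _ rfl)]
    exact Nat.mul_div_cancel_left _ (by positivity)
  have h1 := h _ hy (by
    rw [hord]
    exact fun h2 => (Nat.not_even_iff_odd.mpr hm) (even_iff_two_dvd.mpr h2))
  apply Subtype.ext
  simpa using h1

theorem principal_of_local {G : Type*} [Group G] [Finite G] (M : Ideal Cfsg.AlgInt)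
    (hM : Cfsg.IsPModular 2 M)
    (hloc : ∀ t : G, orderOf t = 2 → ∃ Q : Subgroup G, IsPGroup 2 Q ∧
      Subgroup.centralizer ({t} : Set G) ≤ Subgroup.normalizer (Q : Set G) ∧
      ∀ y : G, Commute y t → (∀ q ∈ Q, Commute y q) → ¬ 2 ∣ orderOf y → y = 1)
    (χ : Cfsg.IrrCharacter G) (D : Subgroup G)
    (hD : Cfsg.IsDefectGroup 2 M (Cfsg.blockOf M (χ : G → ℂ)) D) (hD1 : D ≠ ⊥) :
    Cfsg.SameBlock M (χ : G → ℂ) (fun _ => 1) := by
  classical
  haveI : Fact (Nat.Prime 2) := ⟨Nat.prime_two⟩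
  have hPr : M.IsPrime := hM.2.1.isPrime
  set B := Cfsg.blockOf M (χ : G → ℂ) with hBdef
  have hB : Cfsg.IsPBlock M B := ⟨χ, rfl⟩
  have hDp : IsPGroup 2 D := h24_defect_isPGroup hD
  set C := Subgroup.centralizer (D : Set G) with hC
  set L := D ⊔ C with hL
  obtain ⟨⟨b, hbD, hind⟩, -⟩ := Cfsg.Agent.S0973.result 2 M hM B hB D hD
  have hcore : Cfsg.pCore 2 L ≤ D.subgroupOf L :=
    Cfsg.Agent.S0912.result 2 M hM b hind.1 _ hbD
  obtain ⟨t, htD, ht2, htc⟩ := h24_exists_central_involution D hDp hD1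
  obtain ⟨Q, hQp, hQN, hQc⟩ := hloc t ht2
  have hDt : D ≤ Subgroup.centralizer ({t} : Set G) := by
    intro d hd
    rw [Subgroup.mem_centralizer_singleton_iff]
    exact (htc d hd).eq
  have hCt : C ≤ Subgroup.centralizer ({t} : Set G) := by
    intro c hc
    rw [Subgroup.mem_centralizer_singleton_iff]
    exact (Subgroup.mem_centralizer_iff.mp hc t htD).symm
  have hDN : D ≤ Subgroup.normalizer (Q : Set G) := hDt.trans hQN
  have hCN : C ≤ Subgroup.normalizer (Q : Set G) := hCt.trans hQN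
  have hLN : L ≤ Subgroup.normalizer (Q : Set G) := sup_le hDN hCN
  have hCnormal : ∀ l ∈ L, ∀ c ∈ C, l * c * l⁻¹ ∈ C := by
    have hDnorm : D ≤ Subgroup.normalizer (C : Set G) := by
      intro d hd
      rw [Subgroup.mem_normalizer_iff]
      intro c
      have key : ∀ (d' : G), d' ∈ D → ∀ c' : G, c' ∈ C → d' * c' * d'⁻¹ ∈ C := by
        intro d' hd' c' hc'
        rw [hC, Subgroup.mem_centralizer_iff] at hc' ⊢
        intro x hx
        have hx' : d'⁻¹ * x * d' ∈ D := D.mul_mem (D.mul_mem (D.inv_mem hd') hx) hd'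
        have := hc' _ hx'
        calc x * (d' * c' * d'⁻¹) = d' * ((d'⁻¹ * x * d') * c') * d'⁻¹ := by group
          _ = d' * (c' * (d'⁻¹ * x * d')) * d'⁻¹ := by rw [this]
          _ = d' * c' * d'⁻¹ * x := by group
      constructor
      · intro hc
        exact key d hd c hc
      · intro hc
        have := key d⁻¹ (D.inv_mem hd) _ hc
        have e : d⁻¹ * (d * c * d⁻¹) * d⁻¹⁻¹ = c := by group
        rwa [e] at this
    have hLC : L ≤ Subgroup.normalizer (C : Set G) :=
      sup_le hDnorm Subgroup.le_normalizer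
    intro l hl c hc
    exact (Subgroup.mem_normalizer_iff.mp (hLC hl) c).mp hc
  set R := Q ⊓ C with hR
  have hRL : R ≤ L := inf_le_right.trans le_sup_right
  have hRnorm : (R.subgroupOf L).Normal := by
    constructor
    intro r hr l
    rw [Subgroup.mem_subgroupOf] at hr ⊢
    simp only [Subgroup.coe_mul, Subgroup.coe_inv]
    refine ⟨?_, ?_⟩
    · exact (Subgroup.mem_normalizer_iff.mp (hLN l.2) _).mp hr.1
    · exact hCnormal l l.2 _ hr.2
  have hRp : IsPGroup 2 (R.subgroupOf L) := by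
    have : IsPGroup 2 R := hQp.to_le inf_le_left
    exact this.comap_subtype
  have hRcore : R.subgroupOf L ≤ Cfsg.pCore 2 L := by
    unfold Cfsg.pCore
    exact le_sSup ⟨hRnorm, hRp⟩
  have hRD : R ≤ D := by
    intro r hr
    have h1 : (⟨r, hRL hr⟩ : L) ∈ R.subgroupOf L := by
      rw [Subgroup.mem_subgroupOf]
      exact hr
    have h2 := hcore (hRcore h1)
    rw [Subgroup.mem_subgroupOf] at h2
    exact h2
  have hCodd : ∀ y ∈ C, ¬ 2 ∣ orderOf y → y = 1 := by
    intro y hy hodd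
    have hyD : ∀ d ∈ D, d * y = y * d := by
      intro d hd
      exact Subgroup.mem_centralizer_iff.mp hy d hd
    have hcop : (Nat.card (Subgroup.zpowers y)).Coprime 2 := by
      rw [Nat.card_zpowers]
      exact (Nat.Prime.coprime_iff_not_dvd Nat.prime_two).mpr hodd |>.symm
    have hPQ : D ≤ Subgroup.centralizer ((Subgroup.zpowers y : Subgroup G) : Set G) := by
      intro d hd
      rw [Subgroup.mem_centralizer_iff]
      intro z hz
      obtain ⟨k, rfl⟩ := Subgroup.mem_zpowers_iff.mp hz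
      have hcm : Commute y d := (hyD d hd).symm
      exact (hcm.zpow_left k).eq
    have hQU : Subgroup.zpowers y ≤ Subgroup.normalizer (Q : Set G) := by
      rw [Subgroup.zpowers_le]
      exact hCN hy
    have hcond : Q ⊓ Subgroup.centralizer (D : Set G) ≤
        Subgroup.centralizer ((Subgroup.zpowers y : Subgroup G) : Set G) := by
      intro r hr
      have hrD : r ∈ D := hRD hr
      exact hPQ hrD
    have hres := Cfsg.Agent.S0028.result 2 D (Subgroup.zpowers y) Q hDp hcop hQp hPQ hDN hQU hcond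
    have hyQ : ∀ q ∈ Q, Commute y q := by
      intro q hq
      have := Subgroup.mem_centralizer_iff.mp (hres (Subgroup.mem_zpowers y)) q hq
      exact this.symm
    have hyt : Commute y t := (hyD t htD).symm
    exact hQc y hyt hyQ hodd
  have hCp : IsPGroup 2 C := h24_isPGroup_of_odd_trivial C hCodd
  have hDnC : D ≤ Subgroup.normalizer (C : Set G) := by
    intro d hd
    rw [Subgroup.mem_normalizer_iff]
    intro c
    constructor
    · intro hc
      exact hCnormal d (le_sup_left (a := D) (b := C) hd) c hc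
    · intro hc
      have := hCnormal d⁻¹ (L.inv_mem (le_sup_left (a := D) (b := C) hd)) _ hc
      have e : d⁻¹ * (d * c * d⁻¹) * d⁻¹⁻¹ = c := by group
      rwa [e] at this
  have hLp : IsPGroup 2 L := hDp.to_sup_of_normal_right' hCp hDnC
  have hLp' : IsPGroup 2 (⊤ : Subgroup L) := by
    intro x
    obtain ⟨k, hk⟩ := hLp x.1
    exact ⟨k, Subtype.ext (by rw [Subgroup.coe_pow, hk]; rfl)⟩
  have hcoreL : Cfsg.pCore 2 L = ⊤ := by
    rw [eq_top_iff]
    unfold Cfsg.pCore
    exact le_sSup ⟨inferInstance, hLp'⟩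
  have hprimeL : Cfsg.pPrimeCore 2 L = ⊥ := by
    rw [eq_bot_iff]
    unfold Cfsg.pPrimeCore
    apply sSup_le
    rintro N ⟨-, hN⟩
    have hNp : IsPGroup 2 N := hLp.to_subgroup N
    obtain ⟨k, hk⟩ := hNp.exists_card_eq
    rw [hk] at hN
    have hk0 : k = 0 := by
      by_contra hne
      have : (2 : ℕ) ∣ Nat.gcd (2 ^ k) 2 := Nat.dvd_gcd (dvd_pow_self 2 hne) dvd_rfl
      rw [Nat.Coprime] at hN
      rw [hN] at this
      omega
    rw [hk0, pow_zero] at hk
    exact (Subgroup.card_eq_one.mp hk).le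
  have hsingle : ∀ θ ψ : Cfsg.IrrCharacter L, Cfsg.SameBlock M (θ : L → ℂ) (ψ : L → ℂ) :=
    Cfsg.Agent.S4487.result 2 M hM hprimeL (by rw [hcoreL]; exact le_top)
  have hbprinc : b = Cfsg.principalBlock M L := by
    obtain ⟨θ, hθ⟩ := hind.1
    rw [hθ]
    unfold Cfsg.principalBlock
    ext ψ
    show Cfsg.SameBlock M _ _ ↔ Cfsg.SameBlock M _ _
    constructor
    · intro _
      exact hsingle (trivIrr L) ψ
    · intro _
      exact hsingle θ ψ
  have hdef : Cfsg.InducedBlockDefined M L b := ⟨B, hind⟩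
  have hind0 : Cfsg.IsInducedBlock M L b (Cfsg.principalBlock M G) :=
    (Cfsg.Agent.S0936.result 2 M hM L b hdef).mpr hbprinc
  letI : Fintype G := Fintype.ofFinite G
  letI : Fintype L := Fintype.ofFinite L
  haveI : Fintype (Cfsg.IrrCharacter G) := Fintype.ofFinite _
  haveI : Fintype (Cfsg.IrrCharacter L) := Fintype.ofFinite _
  obtain ⟨θ, hθ⟩ := hind.1
  have hθb : θ ∈ b := by
    rw [hθ]
    exact h7_sameBlock_refl hPr _
  have hχB : χ ∈ B := h7_sameBlock_refl hPr _
  have h1G : trivIrr G ∈ Cfsg.principalBlock M G := h7_sameBlock_refl hPr _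
  intro g
  have e1 := hind.2.2 θ hθb χ hχB g
  have e2 := hind0.2.2 θ hθb (trivIrr G) h1G g
  have := h7_memLocalIdeal_add hPr (h7_memLocalIdeal_neg e1) e2
  have e : -(Cfsg.inducedCentralChar L (θ : L → ℂ) g - Cfsg.centralChar (χ : G → ℂ) g) +
      (Cfsg.inducedCentralChar L (θ : L → ℂ) g -
        Cfsg.centralChar ((trivIrr G : Cfsg.IrrCharacter G) : G → ℂ) g) =
      Cfsg.centralChar (χ : G → ℂ) g - Cfsg.centralChar (fun _ => (1 : ℂ)) g := by
    have : ((trivIrr G : Cfsg.IrrCharacter G) : G → ℂ) = fun _ => (1 : ℂ) := rfl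
    rw [this]
    ring
  rwa [e] at this

end Cfsg.Agent.Lib.Helper26.SB
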