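import Mathlib
import Cfsg.Prelude.Def_Blocks
import Cfsg.Agent.Lib.helper7.BlockSing2
import Cfsg.Agent.Lib.helper7.ClassSum
import Cfsg.Agent.Lib.helper2.CharInt

set_option autoImplicit false
set_option linter.style.haveILetI false
set_option linter.unusedSectionVars false
set_option linter.unusedVariables false

namespace Cfsg.Agent.Lib.Helper26.SB

open Cfsg Cfsg.Agent.Lib.helper7 Cfsg.Agent.Lib.helper2

theorem h24_irr_class {G : Type*} [Group G] (χ : Cfsg.IrrCharacter G) (g h : G) :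
    (χ : G → ℂ) (h * g * h⁻¹) = (χ : G → ℂ) g := by
  obtain ⟨n, ρ, hρ, hχ⟩ := χ.2
  rw [← hχ]
  exact Representation.char_conj ρ g h

theorem h24_sum_X_shift {G : Type*} [Group G] [Fintype G] [DecidableEq G]
    (χ : Cfsg.IrrCharacter G) (X : Set G) [DecidablePred (· ∈ X)]
    (hXc : ∀ x ∈ X, ∀ g : G, g * x * g⁻¹ ∈ X)
    (hχX : ∀ x ∈ X, (χ : G → ℂ) x = 0) (y : G) :
    ∑ x : G, (if x ∈ X then (χ : G → ℂ) (x * y) else 0) = 0 := by
  classical
  haveI : Fintype (Cfsg.IrrCharacter G) := Fintype.ofFinite _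
  have hre : ∀ s : G, ∑ x : G, (if x ∈ X then (χ : G → ℂ) (s * x * s⁻¹ * y) else 0) =
      ∑ x : G, (if x ∈ X then (χ : G → ℂ) (x * y) else 0) := by
    intro s
    refine Fintype.sum_equiv (MulAut.conj s).toEquiv _ _ ?_
    intro x
    have hiff : x ∈ X ↔ s * x * s⁻¹ ∈ X := by
      constructor
      · intro hx
        exact hXc x hx s
      · intro hx
        have := hXc _ hx s⁻¹
        simpa [mul_assoc] using this
    show (if x ∈ X then (χ : G → ℂ) (s * x * s⁻¹ * y) else 0) =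
      (if s * x * s⁻¹ ∈ X then (χ : G → ℂ) (s * x * s⁻¹ * y) else 0)
    exact if_congr hiff rfl rfl
  have hinner : ∀ x ∈ X, ∑ s : G, (χ : G → ℂ) (s * x * s⁻¹ * y) = 0 := by
    intro x hx
    have h1 := h7_sum_conj x (fun k : G => (χ : G → ℂ) (k * y))
    rw [h1]
    have h2 := h7_classSum_shift χ x y
    have h3 : (Finset.univ.filter (fun k : G => IsConj x k)).sum
        (fun k => (χ : G → ℂ) (k * y)) = 0 := by
      rw [Finset.sum_filter]
      refine Eq.trans ?_ (h2.trans ?_)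
      · refine Finset.sum_congr rfl fun k _ => ?_
        congr 1
      · unfold Cfsg.centralChar
        rw [hχX x hx]
        simp
    rw [h3, smul_zero]
  have htot : ∑ s : G, ∑ x : G, (if x ∈ X then (χ : G → ℂ) (s * x * s⁻¹ * y) else 0) = 0 := by
    rw [Finset.sum_comm]
    apply Finset.sum_eq_zero
    intro x _
    by_cases hx : x ∈ X
    · simp only [if_pos hx]
      exact hinner x hx
    · simp only [if_neg hx]
      exact Finset.sum_const_zero
  rw [Finset.sum_congr rfl (fun s _ => hre s), Finset.sum_const, Finset.card_univ,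
    nsmul_eq_mul] at htot
  have hG : (Fintype.card G : ℂ) ≠ 0 := by
    exact_mod_cast Fintype.card_ne_zero
  exact (mul_eq_zero.mp htot).resolve_left hG

theorem no_vanishing_char {G : Type*} [Group G] [Finite G] (χ : Cfsg.IrrCharacter G)
    (hχ : ∀ g : G, 2 ∣ orderOf g → (χ : G → ℂ) g = 0)
    (X Y : Set G)
    (hXc : ∀ x ∈ X, ∀ g : G, g * x * g⁻¹ ∈ X)
    (hYc : ∀ y ∈ Y, ∀ g : G, g * y * g⁻¹ ∈ Y)
    (hX2 : ∀ x ∈ X, 2 ∣ orderOf x)
    (hN1 : Odd (Nat.card {x : G // x ∈ X ∧ x⁻¹ ∈ Y}))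
    (hN0 : ∀ g : G, g ≠ 1 → ¬ 2 ∣ orderOf g → Even (Nat.card {x : G // x ∈ X ∧ x⁻¹ * g ∈ Y})) :
    False := by
  classical
  letI : Fintype G := Fintype.ofFinite G
  haveI : Fintype (ConjClasses G) := Fintype.ofFinite _
  set N : G → ℕ := fun g => Nat.card {x : G // x ∈ X ∧ x⁻¹ * g ∈ Y} with hN
  have hNsum : ∀ g : G, (N g : ℂ) = ∑ x : G, (if x ∈ X ∧ x⁻¹ * g ∈ Y then (1 : ℂ) else 0) := by
    intro g
    rw [hN]
    simp only
    rw [Nat.card_eq_fintype_card, Fintype.card_subtype, Finset.sum_boole]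
  have hYiff : ∀ (y h : G), y ∈ Y ↔ h * y * h⁻¹ ∈ Y := by
    intro y h
    constructor
    · intro hy
      exact hYc y hy h
    · intro hy
      have := hYc _ hy h⁻¹
      simpa [mul_assoc] using this
  have hXiff : ∀ (x h : G), x ∈ X ↔ h * x * h⁻¹ ∈ X := by
    intro x h
    constructor
    · intro hx
      exact hXc x hx h
    · intro hx
      have := hXc _ hx h⁻¹
      simpa [mul_assoc] using this
  have hNc : ∀ g h : G, N (h * g * h⁻¹) = N g := by
    intro g h
    rw [hN]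
    simp only
    apply Nat.card_congr
    refine
      { toFun := fun x => ⟨h⁻¹ * x.1 * h, ?_, ?_⟩
        invFun := fun x => ⟨h * x.1 * h⁻¹, ?_, ?_⟩
        left_inv := fun x => by
          apply Subtype.ext
          simp [mul_assoc]
        right_inv := fun x => by
          apply Subtype.ext
          simp [mul_assoc] }
    · have := (hXiff x.1 h⁻¹).mp x.2.1
      simpa using this
    · have := (hYiff _ h⁻¹).mp x.2.2
      have e : h⁻¹ * (x.1⁻¹ * (h * g * h⁻¹)) * h⁻¹⁻¹ = (h⁻¹ * x.1 * h)⁻¹ * g := by group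
      rwa [e] at this
    · exact (hXiff x.1 h).mp x.2.1
    · have := (hYiff _ h).mp x.2.2
      have e : h * (x.1⁻¹ * g) * h⁻¹ = (h * x.1 * h⁻¹)⁻¹ * (h * g * h⁻¹) := by group
      rwa [e] at this
  have hχX : ∀ x ∈ X, (χ : G → ℂ) x = 0 := fun x hx => hχ x (hX2 x hx)
  have hzero : ∑ g : G, (N g : ℂ) * (χ : G → ℂ) g = 0 := by
    have h1 : ∀ g : G, (N g : ℂ) * (χ : G → ℂ) g =
        ∑ x : G, (if x ∈ X ∧ x⁻¹ * g ∈ Y then (χ : G → ℂ) g else 0) := by
      intro g
      rw [hNsum g, Finset.sum_mul]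
      refine Finset.sum_congr rfl fun x _ => ?_
      split_ifs <;> simp
    rw [Finset.sum_congr rfl (fun g _ => h1 g), Finset.sum_comm]
    have h2 : ∀ x : G, ∑ g : G, (if x ∈ X ∧ x⁻¹ * g ∈ Y then (χ : G → ℂ) g else 0) =
        ∑ y : G, (if x ∈ X ∧ y ∈ Y then (χ : G → ℂ) (x * y) else 0) := by
      intro x
      refine Fintype.sum_equiv (Equiv.mulLeft x⁻¹) _ _ ?_
      intro g
      simp only [Equiv.coe_mulLeft, mul_inv_cancel_left]
    rw [Finset.sum_congr rfl (fun x _ => h2 x), Finset.sum_comm]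
    apply Finset.sum_eq_zero
    intro y _
    by_cases hy : y ∈ Y
    · have := h24_sum_X_shift χ X hXc hχX y
      refine Eq.trans ?_ this
      refine Finset.sum_congr rfl fun x _ => ?_
      by_cases hx : x ∈ X
      · rw [if_pos ⟨hx, hy⟩, if_pos hx]
      · rw [if_neg (fun h => hx h.1), if_neg hx]
    · apply Finset.sum_eq_zero
      intro x _
      rw [if_neg (fun h => hy h.2)]
  set hh : G → ℤ := fun g => if g = 1 then 0 else if 2 ∣ orderOf g then 0 else ((N g / 2 : ℕ) : ℤ)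
    with hhdef
  have hsplit : ∀ g : G, (N g : ℂ) * (χ : G → ℂ) g =
      (if g = 1 then (N 1 : ℂ) * (χ : G → ℂ) 1 else 0) + 2 * ((hh g : ℂ) * (χ : G → ℂ) g) := by
    intro g
    rw [hhdef]
    simp only
    by_cases h1 : g = 1
    · subst h1
      simp
    · rw [if_neg h1, if_neg h1]
      by_cases h2 : 2 ∣ orderOf g
      · rw [if_pos h2, hχ g h2]
        simp
      · rw [if_neg h2]
        obtain ⟨k, hk⟩ := hN0 g h1 h2
        have hk' : N g = k + k := hk
        have : N g / 2 = k := by omega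
        rw [this, hk']
        push_cast
        ring
  have hd : ∃ n : ℕ, 0 < n ∧ (χ : G → ℂ) 1 = (n : ℂ) := by
    obtain ⟨n, hn, h1, _⟩ := irr_degree_dvd_card χ
    exact ⟨n, hn, h1⟩
  obtain ⟨d, hd0, hd1⟩ := hd
  have hdne : (χ : G → ℂ) 1 ≠ 0 := by
    rw [hd1]
    exact_mod_cast hd0.ne'
  have hmain : (N 1 : ℂ) * (χ : G → ℂ) 1 + 2 * ∑ g : G, (hh g : ℂ) * (χ : G → ℂ) g = 0 := by
    rw [← hzero, Finset.sum_congr rfl (fun g _ => hsplit g), Finset.sum_add_distrib,
      Finset.sum_ite_eq' Finset.univ (1 : G), if_pos (Finset.mem_univ _), Finset.mul_sum]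
  set α : ℂ := ∑ g : G, (hh g : ℂ) * (χ : G → ℂ) g / (χ : G → ℂ) 1 with hα
  have hαeq : (N 1 : ℂ) + 2 * α = 0 := by
    have hα' : α = (∑ g : G, (hh g : ℂ) * (χ : G → ℂ) g) / (χ : G → ℂ) 1 := by
      rw [hα, Finset.sum_div]
    have : (N 1 : ℂ) + 2 * α = ((N 1 : ℂ) * (χ : G → ℂ) 1 +
        2 * ∑ g : G, (hh g : ℂ) * (χ : G → ℂ) g) / (χ : G → ℂ) 1 := by
      rw [hα']
      field_simp
    rw [this, hmain, zero_div]
  have hhc : ∀ g h : G, hh (h * g * h⁻¹) = hh g := by
    intro g h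
    rw [hhdef]
    simp only
    have e1 : (h * g * h⁻¹ = 1) ↔ g = 1 := by
      constructor
      · intro hg
        have : g = h⁻¹ * (h * g * h⁻¹) * h := by group
        rw [this, hg]
        group
      · intro hg
        rw [hg]
        group
    have e2 : orderOf (h * g * h⁻¹) = orderOf g := by
      have : h * g * h⁻¹ = MulAut.conj h g := rfl
      rw [this, MulEquiv.orderOf_eq]
    by_cases h1 : g = 1
    · rw [if_pos h1, if_pos (e1.mpr h1)]
    · rw [if_neg h1, if_neg (fun hg => h1 (e1.mp hg)), e2, hNc]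
  have hαint : IsIntegral ℤ α := by
    rw [hα]
    rw [h7_sum_eq_sum_conjClasses (fun g => (hh g : ℂ) * (χ : G → ℂ) g / (χ : G → ℂ) 1)]
    · apply IsIntegral.sum
      intro K _
      have e : (Subgroup.centralizer ({Quotient.out K} : Set G)).index •
          ((hh (Quotient.out K) : ℂ) * (χ : G → ℂ) (Quotient.out K) / (χ : G → ℂ) 1) =
          (hh (Quotient.out K) : ℂ) *
            (((Subgroup.centralizer ({Quotient.out K} : Set G)).index : ℂ) *
              (χ : G → ℂ) (Quotient.out K) / (χ : G → ℂ) 1) := by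
        rw [nsmul_eq_mul]
        ring
      rw [e]
      exact IsIntegral.mul (isIntegral_algebraMap (R := ℤ) (A := ℂ) (x := hh (Quotient.out K)))
        (irr_central_char_integral χ _)
    · intro g h
      rw [hhc, h24_irr_class]
  have hneg : IsIntegral ℤ ((N 1 : ℂ) / ((2 : ℕ) : ℂ)) := by
    have : (N 1 : ℂ) / ((2 : ℕ) : ℂ) = -α := by
      have h2 : ((2 : ℕ) : ℂ) = 2 := by norm_num
      rw [h2, div_eq_iff (by norm_num : (2 : ℂ) ≠ 0)]
      linear_combination hαeq
    rw [this]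
    exact hαint.neg
  have hdvd := nat_dvd_of_isIntegral_div (N 1) 2 (by norm_num) hneg
  have hN1' : Odd (N 1) := by
    rw [hN]
    simp only
    convert hN1 using 4
    rw [mul_one]
  exact (Nat.not_even_iff_odd.mpr hN1') (even_iff_two_dvd.mpr hdvd)

end Cfsg.Agent.Lib.Helper26.SB
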