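import Mathlib
import Cfsg.Agent.Lib.helper15.SDMX3

set_option autoImplicit false

namespace Cfsg.Agent.Lib.Helper18.QBN

universe u

theorem sdmx3h24_minus_equiv {F : Type u} [Field F] (m : ℕ) (a b : F) :
    ∃ E : (((Fin m ⊕ Fin m) ⊕ Fin 2) → F) ≃ₗ[F] QV F (2 * m) (Fin 2 → F),
      ∀ x, frQ (2 * m) (binQ a b) (E x) = Cfsg.quadFormMinus m F a b x :=
  minus_equiv m a b

end Cfsg.Agent.Lib.Helper18.QBN
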