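import Cfsg.Agent.Lib.Helper24.SL3C8core

set_option autoImplicit false

namespace Cfsg.Agent.Lib.helper17.SL3

open Cfsg.Agent.Lib.helper17.SLP

universe u v

variable {F : Type u} [Field F] {G : Type v} [Group G]

theorem sl3c10_cshift (c g : G) (h : c ^ 3 = 1) : c * (c * g * c⁻¹) * c⁻¹ = c⁻¹ * g * c := by
  have h2 : c * c * c = 1 := by rw [← pow_three']; exact h
  have hcc : c * c = c⁻¹ := eq_inv_of_mul_eq_one_left h2
  calc c * (c * g * c⁻¹) * c⁻¹ = (c * c) * g * (c * c)⁻¹ := by group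
    _ = c⁻¹ * g * c := by rw [hcc, inv_inv]

theorem sl3c10_core [Fintype F] (ζ : Fˣ)
    (hC6 : ∀ (X Y Z : F → G), (∀ s t, X (s + t) = X s * X t) → (∀ s t, Y (s + t) = Y s * Y t) →
      (∀ s t, Z (s + t) = Z s * Z t) → (∀ s r, Commute (X s) (Z r)) →
      (∀ t r, Commute (Y t) (Z r)) →
      ∀ (τ₁ τ₃ : G) (e : ℤ), Act ζ τ₁ X 1 → Act ζ τ₁ Y e → Act ζ τ₁ Z (1 + e) →
      Act ζ τ₃ X 0 → Act ζ τ₃ Y 3 → Act ζ τ₃ Z 3 →
      ∀ (s₀ t₀ : F), s₀ ≠ 0 → t₀ ≠ 0 → cm (X s₀) (Y t₀) = Z (s₀ * t₀) →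
      ∀ s t, cm (X s) (Y t) = Z (s * t))
    (x : F → G) (d w c : G) (H : Hyp ζ x d w c) (R : Tor ζ x d w c)
    (hrow : ∀ s t, Commute (x s) (x02 x w c t)) (hcol : ∀ s t, Commute (x s) (x21 x w c t)) :
    ∀ s t, cm (x s) (x12 x c t) = x02 x w c (s * t) := by
  have h3X : Act ζ (d ^ 2 * d2 d c) x 0 := by
    have := sl3c8_act_mul ζ (d ^ 2) (d2 d c) x (1 + 1) (-2) (sl3c8_act_sq ζ d x 1 R.t01.1) R.t01.2.1
    simpa using this
  have h3Y : Act ζ (d ^ 2 * d2 d c) (x12 x c) 3 := by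
    have := sl3c8_act_mul ζ (d ^ 2) (d2 d c) (x12 x c) (1 + 1) 1
      (sl3c8_act_sq ζ d (x12 x c) 1 R.t12.1) R.t12.2.1
    simpa using this
  have h3Z : Act ζ (d ^ 2 * d2 d c) (x02 x w c) 3 := by
    have := sl3c8_act_mul ζ (d ^ 2) (d2 d c) (x02 x w c) (2 + 2) (-1)
      (sl3c8_act_sq ζ d (x02 x w c) 2 R.t02.1) R.t02.2.1
    simpa using this
  have h1Z : Act ζ d (x02 x w c) (1 + 1) := by
    have h := R.t02.1
    have e : (1 + 1 : ℤ) = 2 := by norm_num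
    rw [e]; exact h
  have hYZ : ∀ t r, Commute (x12 x c t) (x02 x w c r) := by
    intro t r
    have h := hcol t r
    have h2 : x02 x w c r = c * x21 x w c r * c⁻¹ := by
      unfold x21 x02
      exact (sl3c10_cshift c (x10 x w r) H.c3).symm
    rw [h2]
    unfold x12
    have h3 : (x t) * (x21 x w c r) = (x21 x w c r) * (x t) := h
    show c * x t * c⁻¹ * (c * x21 x w c r * c⁻¹) = c * x21 x w c r * c⁻¹ * (c * x t * c⁻¹)
    calc c * x t * c⁻¹ * (c * x21 x w c r * c⁻¹) = c * (x t * x21 x w c r) * c⁻¹ := by group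
      _ = c * (x21 x w c r * x t) * c⁻¹ := by rw [h3]
      _ = c * x21 x w c r * c⁻¹ * (c * x t * c⁻¹) := by group
  have hinst : cm (x 1) (x12 x c 1) = x02 x w c (1 * 1) := by
    have h := H.R1
    unfold relR1 at h
    rw [mul_inv_eq_one, sl3c8_r02 x H.add] at h
    rw [mul_one]
    exact h
  exact hC6 x (x12 x c) (x02 x w c) H.add R.add12 R.add02 hrow hYZ d (d ^ 2 * d2 d c) 1
    R.t01.1 R.t12.1 h1Z h3X h3Y h3Z 1 1 one_ne_zero one_ne_zero hinst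

end Cfsg.Agent.Lib.helper17.SL3
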