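import Cfsg.Agent.Lib.helper17.SL3.Defs2

set_option autoImplicit false

namespace Cfsg.Agent.Lib.helper17.SL3

open Cfsg.Agent.Lib.helper17.SLP

universe u v

variable {F : Type u} [Field F] [Fintype F] {G : Type v} [Group G]

theorem sl3c15_core (x : F → G) (d w c : G)
    (hRx : Fintype.card F = 4 → relRx (x 1) d w c = 1)
    (h8 : Fintype.card F ≠ 4 → ∀ s t, Commute (x s) (x02 x w c t))
    (h9 : Fintype.card F ≠ 4 → ∀ s t, Commute (x s) (x21 x w c t))
    (h10 : Fintype.card F ≠ 4 → (∀ s t, Commute (x s) (x02 x w c t)) →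
      (∀ s t, Commute (x s) (x21 x w c t)) → ∀ s t, cm (x s) (x12 x c t) = x02 x w c (s * t))
    (h12 : Fintype.card F = 4 → ∀ s t, Commute (x s) (x02 x w c t))
    (h13 : Fintype.card F = 4 → ∀ s t, Commute (x s) (x21 x w c t))
    (h14 : Fintype.card F = 4 → relRx (x 1) d w c = 1 → (∀ s t, Commute (x s) (x02 x w c t)) →
      (∀ s t, Commute (x s) (x21 x w c t)) → ∀ s t, cm (x s) (x12 x c t) = x02 x w c (s * t)) :
    Comm3 x w c := by
  by_cases hq : Fintype.card F = 4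
  · exact ⟨h12 hq, h13 hq, h14 hq (hRx hq) (h12 hq) (h13 hq)⟩
  · exact ⟨h8 hq, h9 hq, h10 hq (h8 hq) (h9 hq)⟩

end Cfsg.Agent.Lib.helper17.SL3
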