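import Cfsg.Agent.Lib.helper17.SL3.Defs2

set_option autoImplicit false

namespace Cfsg.Agent.Lib.helper17.SL3

open Cfsg.Agent.Lib.helper17.SLP

universe u v

variable {F : Type u} [Field F] {G : Type v} [Group G]

theorem sl3c8_act_mul (ζ : Fˣ) (g g' : G) (X : F → G) (e e' : ℤ) (h : Act ζ g X e)
    (h' : Act ζ g' X e') : Act ζ (g * g') X (e + e') := by
  intro t
  have h1 : g * g' * X t * (g * g')⁻¹ = g * (g' * X t * g'⁻¹) * g⁻¹ := by group
  rw [h1, h' t, h, zpow_add, Units.val_mul, mul_assoc]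

theorem sl3c8_act_inv (ζ : Fˣ) (g : G) (X : F → G) (e : ℤ) (h : Act ζ g X e) :
    Act ζ g⁻¹ X (-e) := by
  intro t
  have h1 := h (((ζ ^ (-e) : Fˣ) : F) * t)
  rw [← mul_assoc, ← Units.val_mul, ← zpow_add, add_neg_cancel, zpow_zero, Units.val_one,
    one_mul] at h1
  rw [← h1]
  group

theorem sl3c8_act_sq (ζ : Fˣ) (g : G) (X : F → G) (e : ℤ) (h : Act ζ g X e) :
    Act ζ (g ^ 2) X (e + e) := by
  rw [pow_two]
  exact sl3c8_act_mul ζ g g X e e h h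

theorem sl3c8_x_zero (x : F → G) (hadd : ∀ s t, x (s + t) = x s * x t) : x 0 = 1 := by
  have h := hadd 0 0
  rw [add_zero] at h
  exact (mul_eq_left.mp h.symm)

theorem sl3c8_x_neg (x : F → G) (hadd : ∀ s t, x (s + t) = x s * x t) (t : F) :
    x (-t) = (x t)⁻¹ := by
  have h := hadd (-t) t
  rw [neg_add_cancel, sl3c8_x_zero x hadd] at h
  exact eq_inv_of_mul_eq_one_left h.symm

theorem sl3c8_r02 (x : F → G) (hadd : ∀ s t, x (s + t) = x s * x t) (w c : G) :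
    r02 (x 1) w c = x02 x w c 1 := by
  unfold r02 x02 x10
  rw [sl3c8_x_neg x hadd]

theorem sl3c8_r21 (x : F → G) (hadd : ∀ s t, x (s + t) = x s * x t) (w c : G) :
    r21 (x 1) w c = x21 x w c 1 := by
  unfold r21 x21 x10
  rw [sl3c8_x_neg x hadd]

theorem sl3c8_commute_of_cm {a b : G} (h : cm a b = 1) : Commute a b := by
  unfold cm at h
  have h1 : a * b = b * a := by
    have := congrArg (fun g => g * b * a) h
    simpa [mul_assoc] using this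
  exact h1

theorem sl3c8_core [Fintype F] (ζ : Fˣ)
    (hC4 : ∀ (X Y : F → G), (∀ s t, X (s + t) = X s * X t) → (∀ s t, Y (s + t) = Y s * Y t) →
      ∀ (τ₁ τ₃ : G) (e : ℤ), Act ζ τ₁ X 1 → Act ζ τ₁ Y e → Act ζ τ₃ X 0 → Act ζ τ₃ Y 3 →
      ∀ (s₀ t₀ : F), s₀ ≠ 0 → t₀ ≠ 0 → Commute (X s₀) (Y t₀) → ∀ s t, Commute (X s) (Y t))
    (x : F → G) (d w c : G) (H : Hyp ζ x d w c) (R : Tor ζ x d w c) :
    ∀ s t, Commute (x s) (x02 x w c t) := by
  have h3X : Act ζ (d ^ 2 * d2 d c) x 0 := by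
    have := sl3c8_act_mul ζ (d ^ 2) (d2 d c) x (1 + 1) (-2) (sl3c8_act_sq ζ d x 1 R.t01.1) R.t01.2.1
    simpa using this
  have h3Y : Act ζ (d ^ 2 * d2 d c) (x02 x w c) 3 := by
    have := sl3c8_act_mul ζ (d ^ 2) (d2 d c) (x02 x w c) (2 + 2) (-1)
      (sl3c8_act_sq ζ d (x02 x w c) 2 R.t02.1) R.t02.2.1
    simpa using this
  have hinst : Commute (x 1) (x02 x w c (((ζ ^ (-2 : ℤ) : Fˣ) : F) * 1)) := by
    have h1 := sl3c8_commute_of_cm H.R2
    rw [sl3c8_r02 x H.add] at h1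
    have h2 := sl3c8_act_inv ζ d (x02 x w c) 2 R.t02.1 1
    rw [inv_inv] at h2
    rw [← h2]
    exact h1
  refine hC4 x (x02 x w c) H.add R.add02 (d3 d c) (d ^ 2 * d2 d c) (-1) R.t01.2.2 R.t02.2.2 h3X h3Y
    1 (((ζ ^ (-2 : ℤ) : Fˣ) : F) * 1) one_ne_zero ?_ hinst
  rw [mul_one]
  exact Units.ne_zero _

end Cfsg.Agent.Lib.helper17.SL3
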