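import Cfsg.Agent.Lib.Helper24.SL3C8core

set_option autoImplicit false

namespace Cfsg.Agent.Lib.helper17.SL3

open Cfsg.Agent.Lib.helper17.SLP

universe u v

variable {F : Type u} [Field F] {G : Type v} [Group G]

theorem sl3c9_core [Fintype F] (ζ : Fˣ)
    (hC4 : ∀ (X Y : F → G), (∀ s t, X (s + t) = X s * X t) → (∀ s t, Y (s + t) = Y s * Y t) →
      ∀ (τ₁ τ₃ : G) (e : ℤ), Act ζ τ₁ X 1 → Act ζ τ₁ Y e → Act ζ τ₃ X 0 → Act ζ τ₃ Y 3 →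
      ∀ (s₀ t₀ : F), s₀ ≠ 0 → t₀ ≠ 0 → Commute (X s₀) (Y t₀) → ∀ s t, Commute (X s) (Y t))
    (x : F → G) (d w c : G) (H : Hyp ζ x d w c) (R : Tor ζ x d w c) :
    ∀ s t, Commute (x s) (x21 x w c t) := by
  have h3X : Act ζ (d ^ 2 * d2 d c)⁻¹ x 0 := by
    have := sl3c8_act_inv ζ _ x _
      (sl3c8_act_mul ζ (d ^ 2) (d2 d c) x (1 + 1) (-2) (sl3c8_act_sq ζ d x 1 R.t01.1) R.t01.2.1)
    simpa using this
  have h3Y : Act ζ (d ^ 2 * d2 d c)⁻¹ (x21 x w c) 3 := by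
    have := sl3c8_act_inv ζ _ (x21 x w c) _
      (sl3c8_act_mul ζ (d ^ 2) (d2 d c) (x21 x w c) (-1 + -1) (-1)
        (sl3c8_act_sq ζ d (x21 x w c) (-1) R.t21.1) R.t21.2.1)
    simpa using this
  have hinst : Commute (x 1) (x21 x w c (((ζ ^ (-(-1 : ℤ)) : Fˣ) : F) * 1)) := by
    have h1 := sl3c8_commute_of_cm H.R3
    rw [sl3c8_r21 x H.add] at h1
    have h2 := sl3c8_act_inv ζ d (x21 x w c) (-1) R.t21.1 1
    rw [inv_inv] at h2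
    rw [← h2]
    exact h1
  refine hC4 x (x21 x w c) H.add R.add21 d (d ^ 2 * d2 d c)⁻¹ (-1) R.t01.1 R.t21.1 h3X h3Y
    1 (((ζ ^ (-(-1 : ℤ)) : Fˣ) : F) * 1) one_ne_zero ?_ hinst
  rw [mul_one]
  exact Units.ne_zero _

end Cfsg.Agent.Lib.helper17.SL3
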