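import Cfsg.Agent.Lib.Helper1.SLN.Defs
import Cfsg.Agent.Lib.Helper1.SLN.Defs2
import Cfsg.Agent.Lib.Helper26.SAPALT3

set_option autoImplicit false

namespace Cfsg.Agent.Lib.Helper1.SLN

open Equiv Cfsg.Agent.Lib.helper7.SAP

theorem sl7ts1_key {α : Type*} [DecidableEq α] [Fintype α] (s t : α) (hst : s ≠ t) (P : α → Prop)
    (T : Subgroup (Perm α)) (hT : ∀ y, y ≠ s → y ≠ t → P y → helper7.SAP.c3 y s t ∈ T)
    (σ : Perm α) (hfixP : ∀ w, ¬ P w → σ w = w) (y : α) (hys : y ≠ s) (hyt : y ≠ t)
    (hy : σ y ≠ y) :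
    ∃ h ∈ T, h (σ y) = y ∧ ∀ w, w ≠ s → w ≠ t → σ w = w → h w = w := by
  have hPy : P y := by
    by_contra hcon
    exact hy (hfixP y hcon)
  have hPz : P (σ y) := by
    by_contra hcon
    have := hfixP (σ y) hcon
    exact hy (σ.injective this)
  obtain ⟨a1, a2, a3, a4⟩ := c3_apply y s t hys hyt hst
  by_cases hzs : σ y = s
  · refine ⟨(helper7.SAP.c3 y s t)⁻¹, Subgroup.inv_mem _ (hT y hys hyt hPy), ?_, ?_⟩
    · rw [hzs, Perm.inv_eq_iff_eq]; exact a1.symm
    · intro w hws hwt hw
      have hwy : w ≠ y := by rintro rfl; exact hy hw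
      rw [Perm.inv_eq_iff_eq]; exact (a4 w hwy hws hwt).symm
  by_cases hzt : σ y = t
  · refine ⟨helper7.SAP.c3 y s t, hT y hys hyt hPy, ?_, ?_⟩
    · rw [hzt]; exact a3
    · intro w hws hwt hw
      have hwy : w ≠ y := by rintro rfl; exact hy hw
      exact a4 w hwy hws hwt
  · obtain ⟨b1, b2, b3, b4⟩ := c3_apply (σ y) s t hzs hzt hst
    refine ⟨helper7.SAP.c3 y s t * (helper7.SAP.c3 (σ y) s t)⁻¹,
      Subgroup.mul_mem _ (hT y hys hyt hPy) (Subgroup.inv_mem _ (hT _ hzs hzt hPz)), ?_, ?_⟩
    · rw [Perm.mul_apply]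
      have : (helper7.SAP.c3 (σ y) s t)⁻¹ (σ y) = t := by rw [Perm.inv_eq_iff_eq]; exact b3.symm
      rw [this]; exact a3
    · intro w hws hwt hw
      have hwy : w ≠ y := by rintro rfl; exact hy hw
      have hwz : w ≠ σ y := by
        intro h
        apply hy
        have : σ w = σ y := by rw [hw]; exact h
        have := σ.injective this
        rw [← this]; exact hw
      rw [Perm.mul_apply]
      have : (helper7.SAP.c3 (σ y) s t)⁻¹ w = w := by
        rw [Perm.inv_eq_iff_eq]; exact (b4 w hwz hws hwt).symm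
      rw [this]; exact a4 w hwy hws hwt

theorem sl7ts1_mem {α : Type*} [DecidableEq α] [Fintype α] (s t : α) (hst : s ≠ t) (P : α → Prop)
    (hPs : P s) (hPt : P t)
    (T : Subgroup (Perm α)) (hT : ∀ y, y ≠ s → y ≠ t → P y → helper7.SAP.c3 y s t ∈ T) :
    ∀ (n : ℕ) (σ : Perm α), Perm.sign σ = 1 → (∀ w, ¬ P w → σ w = w) →
      (Finset.univ.filter (fun y => y ≠ s ∧ y ≠ t ∧ σ y ≠ y)).card = n → σ ∈ T := by
  have hTsign : ∀ h ∈ Subgroup.closure {g : Perm α | ∃ y, y ≠ s ∧ y ≠ t ∧ P y ∧ g = helper7.SAP.c3 y s t},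
      Perm.sign h = 1 := by
    intro h hh
    induction hh using Subgroup.closure_induction with
    | mem g hg =>
      obtain ⟨y, hys, _, _, rfl⟩ := hg
      exact c3_sign y s t hys hst
    | one => exact map_one _
    | mul a b _ _ ha hb => rw [map_mul, ha, hb, mul_one]
    | inv a _ ha => rw [map_inv, ha, inv_one]
  have hcl : Subgroup.closure {g : Perm α | ∃ y, y ≠ s ∧ y ≠ t ∧ P y ∧ g = helper7.SAP.c3 y s t} ≤ T := by
    rw [Subgroup.closure_le]
    rintro _ ⟨y, hys, hyt, hPy, rfl⟩
    exact hT y hys hyt hPy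
  suffices hmain : ∀ (n : ℕ) (σ : Perm α), Perm.sign σ = 1 → (∀ w, ¬ P w → σ w = w) →
      (Finset.univ.filter (fun y => y ≠ s ∧ y ≠ t ∧ σ y ≠ y)).card = n →
      σ ∈ Subgroup.closure {g : Perm α | ∃ y, y ≠ s ∧ y ≠ t ∧ P y ∧ g = helper7.SAP.c3 y s t} from
    fun n σ h1 h2 h3 => hcl (hmain n σ h1 h2 h3)
  set T0 := Subgroup.closure {g : Perm α | ∃ y, y ≠ s ∧ y ≠ t ∧ P y ∧ g = helper7.SAP.c3 y s t} with hT0
  have hT0mem : ∀ y, y ≠ s → y ≠ t → P y → helper7.SAP.c3 y s t ∈ T0 :=
    fun y h1 h2 h3 => Subgroup.subset_closure ⟨y, h1, h2, h3, rfl⟩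
  intro n
  induction n using Nat.strong_induction_on with
  | _ n ih =>
    intro σ hσ hfixP hn
    by_cases hex : ∃ y, y ≠ s ∧ y ≠ t ∧ σ y ≠ y
    · obtain ⟨y, hys, hyt, hy⟩ := hex
      obtain ⟨h, hH, hy', hfix⟩ := sl7ts1_key s t hst P T0 hT0mem σ hfixP y hys hyt hy
      have hsign : Perm.sign (h * σ) = 1 := by
        rw [map_mul, hσ, mul_one]
        exact hTsign h hH
      have hfixP' : ∀ w, ¬ P w → (h * σ) w = w := by
        intro w hw
        have hws : w ≠ s := by rintro rfl; exact hw hPs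
        have hwt : w ≠ t := by rintro rfl; exact hw hPt
        rw [Perm.mul_apply, hfixP w hw]
        exact hfix w hws hwt (hfixP w hw)
      have hlt : (Finset.univ.filter (fun w => w ≠ s ∧ w ≠ t ∧ (h * σ) w ≠ w)).card < n := by
        rw [← hn]
        apply Finset.card_lt_card
        rw [Finset.ssubset_iff_of_subset]
        · refine ⟨y, ?_, ?_⟩
          · simp only [Finset.mem_filter, Finset.mem_univ, true_and]
            exact ⟨hys, hyt, hy⟩
          · simp only [Finset.mem_filter, Finset.mem_univ, true_and, not_and, not_not]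
            intro _ _
            rw [Perm.mul_apply]; exact hy'
        · intro w hw
          simp only [Finset.mem_filter, Finset.mem_univ, true_and] at hw ⊢
          refine ⟨hw.1, hw.2.1, ?_⟩
          intro hfw
          apply hw.2.2
          rw [Perm.mul_apply, hfw]
          exact hfix w hw.1 hw.2.1 hfw
      have hmem := ih _ hlt (h * σ) hsign hfixP' rfl
      have : σ = h⁻¹ * (h * σ) := by group
      rw [this]
      exact Subgroup.mul_mem _ (Subgroup.inv_mem _ hH) hmem
    · have hfix : ∀ y, y ≠ s → y ≠ t → σ y = y := by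
        intro y h1 h2
        by_contra h3
        exact hex ⟨y, h1, h2, h3⟩
      have hs : σ s = s ∨ σ s = t := by
        by_contra hcon
        rw [not_or] at hcon
        have := hfix (σ s) hcon.1 hcon.2
        exact hcon.1 (σ.injective this)
      have ht : σ t = s ∨ σ t = t := by
        by_contra hcon
        rw [not_or] at hcon
        have := hfix (σ t) hcon.1 hcon.2
        exact hcon.2 (σ.injective this)
      rcases hs with hs | hs
      · have ht' : σ t = t := by
          rcases ht with ht | ht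
          · exact absurd (σ.injective (ht.trans hs.symm)) hst.symm
          · exact ht
        have : σ = 1 := by
          ext w
          by_cases h1 : w = s
          · rw [h1]; exact hs
          by_cases h2 : w = t
          · rw [h2]; exact ht'
          exact hfix w h1 h2
        rw [this]; exact Subgroup.one_mem _
      · have ht' : σ t = s := by
          rcases ht with ht | ht
          · exact ht
          · exact absurd (σ.injective (hs.trans ht.symm)) hst
        have : σ = swap s t := by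
          ext w
          by_cases h1 : w = s
          · rw [h1, swap_apply_left]; exact hs
          by_cases h2 : w = t
          · rw [h2, swap_apply_right]; exact ht'
          rw [swap_apply_of_ne_of_ne h1 h2]; exact hfix w h1 h2
        rw [this, Perm.sign_swap hst] at hσ
        exact absurd hσ (by decide)

theorem stab01_le_of_tc (M : ℕ) (S : Subgroup (alternatingGroup (Fin (M + 4))))
    (s t : Fin (M + 4)) (hs : 2 ≤ s.val) (ht : 2 ≤ t.val) (hst : s ≠ t)
    (h : ∀ (y : Fin (M + 4)) (hys : y ≠ s) (_hyt : y ≠ t), 2 ≤ y.val → tc y s t hys hst ∈ S) :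
    stab01 M ≤ S := by
  intro τ hτ
  rw [mem_stab01] at hτ
  have hT : ∀ y : Fin (M + 4), y ≠ s → y ≠ t → 2 ≤ y.val →
      helper7.SAP.c3 y s t ∈ S.map (alternatingGroup (Fin (M + 4))).subtype := by
    intro y hys hyt hy
    exact ⟨tc y s t hys hst, h y hys hyt hy, rfl⟩
  have hfix : ∀ w : Fin (M + 4), ¬ 2 ≤ w.val → (τ : Perm (Fin (M + 4))) w = w := by
    intro w hw
    have hw' : w.val = 0 ∨ w.val = 1 := by omega
    rcases hw' with h0 | h1
    · have : w = i0 M := Fin.ext h0
      rw [this]; exact hτ.1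
    · have : w = i1 M := Fin.ext h1
      rw [this]; exact hτ.2
  have hmem := sl7ts1_mem s t hst (fun w : Fin (M + 4) => 2 ≤ w.val) hs ht
    (S.map (alternatingGroup (Fin (M + 4))).subtype) hT _ (τ : Perm (Fin (M + 4)))
    (Perm.mem_alternatingGroup.1 τ.2) hfix rfl
  obtain ⟨τ', hτ', he⟩ := hmem
  have : τ' = τ := Subtype.ext he
  rw [← this]; exact hτ'

end Cfsg.Agent.Lib.Helper1.SLN
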