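import Cfsg.Agent.Lib.Helper24.SL7TS1

set_option autoImplicit false

namespace Cfsg.Agent.Lib.Helper1.SLN

open Equiv

theorem sl7ts2_conj {n : ℕ} (σ : alternatingGroup (Fin n)) (a b c : Fin n) (hab : a ≠ b)
    (hbc : b ≠ c) :
    σ * tc a b c hab hbc * σ⁻¹ =
      tc ((σ : Perm (Fin n)) a) ((σ : Perm (Fin n)) b) ((σ : Perm (Fin n)) c)
        (fun h => hab ((σ : Perm (Fin n)).injective h))
        (fun h => hbc ((σ : Perm (Fin n)).injective h)) := by
  apply Subtype.ext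
  show (σ : Perm (Fin n)) * (swap a b * swap b c) * (σ : Perm (Fin n))⁻¹ = swap _ _ * swap _ _
  rw [Equiv.swap_apply_apply, Equiv.swap_apply_apply]
  group

theorem sl7ts2_congr {n : ℕ} {a b c a' b' c' : Fin n} (hab : a ≠ b) (hbc : b ≠ c)
    (hab' : a' ≠ b') (hbc' : b' ≠ c') (ha : a = a') (hb : b = b') (hc : c = c') :
    tc a b c hab hbc = tc a' b' c' hab' hbc' := by
  subst ha hb hc
  rfl

def sl7ts2_rho (M : ℕ) (c : Perm (Fin (M + 1))) : Perm (Fin (M + 4)) :=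
  (eBlk M).permCongr (Equiv.Perm.sumCongr (1 : Perm (Fin 3)) c)

theorem sl7ts2_rho_inl (M : ℕ) (c : Perm (Fin (M + 1))) (a : Fin 3) :
    sl7ts2_rho M c (eBlk M (Sum.inl a)) = eBlk M (Sum.inl a) := by
  unfold sl7ts2_rho
  rw [Equiv.permCongr_apply, Equiv.symm_apply_apply, Equiv.Perm.sumCongr_apply, Sum.map_inl,
    Equiv.Perm.one_apply]

theorem sl7ts2_rho_inr (M : ℕ) (c : Perm (Fin (M + 1))) (b : Fin (M + 1)) :
    sl7ts2_rho M c (eBlk M (Sum.inr b)) = eBlk M (Sum.inr (c b)) := by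
  unfold sl7ts2_rho
  rw [Equiv.permCongr_apply, Equiv.symm_apply_apply, Equiv.Perm.sumCongr_apply, Sum.map_inr]

theorem sl7ts2_sign_rho (M : ℕ) (c : Perm (Fin (M + 1))) :
    Perm.sign (sl7ts2_rho M c) = Perm.sign c := by
  unfold sl7ts2_rho
  rw [Equiv.Perm.sign_permCongr, Equiv.Perm.sign_sumCongr, map_one, one_mul]

theorem sl7ts2_i0 (M : ℕ) : eBlk M (Sum.inl 0) = i0 M := Fin.ext (eBlk_inl M 0)

theorem sl7ts2_i1 (M : ℕ) : eBlk M (Sum.inl 1) = i1 M := Fin.ext (eBlk_inl M 1)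

theorem sl7ts2_i2 (M : ℕ) : eBlk M (Sum.inl 2) = i2 M := Fin.ext (eBlk_inl M 2)

theorem sl7ts2_inr_ne0 (M : ℕ) (b : Fin (M + 1)) : eBlk M (Sum.inr b) ≠ i0 M := by
  intro h
  have := congrArg Fin.val h
  rw [eBlk_inr] at this
  simp [i0] at this

theorem sl7ts2_inr_ne1 (M : ℕ) (b : Fin (M + 1)) : eBlk M (Sum.inr b) ≠ i1 M := by
  intro h
  have := congrArg Fin.val h
  rw [eBlk_inr] at this
  simp [i1] at this
  omega

theorem sl7ts2_inr_ne2 (M : ℕ) (b : Fin (M + 1)) : eBlk M (Sum.inr b) ≠ i2 M := by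
  intro h
  have := congrArg Fin.val h
  rw [eBlk_inr] at this
  simp [i2] at this
  omega

def sl7ts2_nu0 (M : ℕ) (c : Perm (Fin (M + 1))) : Perm (Fin (M + 4)) :=
  swap (i0 M) (i1 M) * sl7ts2_rho M c

theorem sl7ts2_nu0_i0 (M : ℕ) (c : Perm (Fin (M + 1))) : sl7ts2_nu0 M c (i0 M) = i1 M := by
  unfold sl7ts2_nu0
  rw [Perm.mul_apply, ← sl7ts2_i0, sl7ts2_rho_inl, sl7ts2_i0, swap_apply_left]

theorem sl7ts2_nu0_i1 (M : ℕ) (c : Perm (Fin (M + 1))) : sl7ts2_nu0 M c (i1 M) = i0 M := by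
  unfold sl7ts2_nu0
  rw [Perm.mul_apply, ← sl7ts2_i1, sl7ts2_rho_inl, sl7ts2_i1, swap_apply_right]

theorem sl7ts2_nu0_i2 (M : ℕ) (c : Perm (Fin (M + 1))) : sl7ts2_nu0 M c (i2 M) = i2 M := by
  unfold sl7ts2_nu0
  rw [Perm.mul_apply, ← sl7ts2_i2, sl7ts2_rho_inl, sl7ts2_i2,
    swap_apply_of_ne_of_ne (i02 M).symm (i12 M).symm]

theorem sl7ts2_nu0_inr (M : ℕ) (c : Perm (Fin (M + 1))) (b : Fin (M + 1)) :
    sl7ts2_nu0 M c (eBlk M (Sum.inr b)) = eBlk M (Sum.inr (c b)) := by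
  unfold sl7ts2_nu0
  rw [Perm.mul_apply, sl7ts2_rho_inr,
    swap_apply_of_ne_of_ne (sl7ts2_inr_ne0 M _) (sl7ts2_inr_ne1 M _)]

theorem sl7ts2_sign_nu0 (M : ℕ) (c : Perm (Fin (M + 1))) (hc : Perm.sign c = -1) :
    Perm.sign (sl7ts2_nu0 M c) = 1 := by
  unfold sl7ts2_nu0
  rw [map_mul, Perm.sign_swap (i01 M), sl7ts2_sign_rho, hc]
  rfl

theorem sl7ts2_inr_inj (M : ℕ) {b b' : Fin (M + 1)} (h : b ≠ b') :
    eBlk M (Sum.inr b) ≠ eBlk M (Sum.inr b') := by
  intro e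
  have := (eBlk M).injective e
  exact h (Sum.inr_injective this)

theorem exists_nu_even (M : ℕ) (hM : 2 ≤ M) (he : Even M) :
    ∃ ν x : alternatingGroup (Fin (M + 4)), NuHyp M ν x := by
  have hM1 : M - 1 < M + 1 := by omega
  set c : Perm (Fin (M + 1)) := Fin.cycleRange (⟨M - 1, hM1⟩ : Fin (M + 1)) with hc
  have hsign : Perm.sign c = -1 := by
    rw [hc, Fin.sign_cycleRange]
    have hodd : Odd (M - 1) := by
      obtain ⟨k, hk⟩ := he
      exact ⟨k - 1, by omega⟩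
    exact hodd.neg_one_pow
  set ν : alternatingGroup (Fin (M + 4)) :=
    ⟨sl7ts2_nu0 M c, Perm.mem_alternatingGroup.2 (sl7ts2_sign_nu0 M c hsign)⟩ with hν
  have hνc : (ν : Perm (Fin (M + 4))) = sl7ts2_nu0 M c := rfl
  have hlast : M < M + 1 := by omega
  set tN : Fin (M + 4) := eBlk M (Sum.inr ⟨M, hlast⟩) with htN
  have h0M : 0 < M + 1 := by omega
  have hclast : c ⟨M, hlast⟩ = ⟨M, hlast⟩ := by
    rw [hc]
    apply Fin.cycleRange_of_gt
    rw [Fin.lt_def]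
    show M - 1 < M
    omega
  have hcstep : ∀ k (hk : k + 1 < M), c ⟨k, by omega⟩ = ⟨k + 1, by omega⟩ := by
    intro k hk
    apply Fin.ext
    rw [hc, Fin.coe_cycleRange_of_lt]
    rw [Fin.lt_def]
    show k < M - 1
    omega
  have h2t : i2 M ≠ tN := (sl7ts2_inr_ne2 M _).symm
  have hy2 : ∀ b : Fin (M + 1), eBlk M (Sum.inr b) ≠ i2 M := sl7ts2_inr_ne2 M
  set x : alternatingGroup (Fin (M + 4)) :=
    tc (eBlk M (Sum.inr ⟨0, h0M⟩)) (i2 M) tN (hy2 _) h2t with hx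
  refine ⟨ν, x, ?_⟩
  refine ⟨?_, ?_, ?_, ?_, ?_⟩
  · rw [hνc]; exact sl7ts2_nu0_i0 M c
  · rw [hνc]; exact sl7ts2_nu0_i1 M c
  · rw [hνc]; exact sl7ts2_nu0_i2 M c
  · rw [mem_stab01, hx, tc_coe]
    constructor
    · rw [Perm.mul_apply, swap_apply_of_ne_of_ne (i02 M) (sl7ts2_inr_ne0 M _).symm,
        swap_apply_of_ne_of_ne (sl7ts2_inr_ne0 M _).symm (i02 M)]
    · rw [Perm.mul_apply, swap_apply_of_ne_of_ne (i12 M) (sl7ts2_inr_ne1 M _).symm,
        swap_apply_of_ne_of_ne (sl7ts2_inr_ne1 M _).symm (i12 M)]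
  · intro S hxS _ hconj
    have hstep : ∀ k (hk : k < M), tc (eBlk M (Sum.inr ⟨k, by omega⟩)) (i2 M) tN (hy2 _) h2t ∈ S := by
      intro k
      induction k with
      | zero => intro _; exact hxS
      | succ k ih =>
        intro hk
        have h1 := hconj _ (ih (by omega))
        rw [sl7ts2_conj] at h1
        have e : tc ((ν : Perm (Fin (M + 4))) (eBlk M (Sum.inr ⟨k, by omega⟩)))
            ((ν : Perm (Fin (M + 4))) (i2 M)) ((ν : Perm (Fin (M + 4))) tN)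
            (fun h => hy2 _ ((ν : Perm (Fin (M + 4))).injective h))
            (fun h => h2t ((ν : Perm (Fin (M + 4))).injective h)) =
            tc (eBlk M (Sum.inr ⟨k + 1, by omega⟩)) (i2 M) tN (hy2 _) h2t := by
          apply sl7ts2_congr
          · rw [hνc, sl7ts2_nu0_inr, hcstep k hk]
          · rw [hνc]; exact sl7ts2_nu0_i2 M c
          · rw [hνc, htN, sl7ts2_nu0_inr, hclast]
        rw [e] at h1
        exact h1
    apply stab01_le_of_tc M S (i2 M) tN (by simp [i2]) (by rw [htN, eBlk_inr]; omega) h2t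
    intro y hys hyt hy
    obtain ⟨z, rfl⟩ := (eBlk M).surjective y
    rcases z with a | b
    · exfalso
      rw [eBlk_inl] at hy
      have ha : a = 2 := by
        apply Fin.ext
        have := a.2
        show (a : ℕ) = 2
        omega
      rw [ha, sl7ts2_i2] at hys
      exact hys rfl
    · have hb : b.val < M := by
        by_contra hcon
        have : b = ⟨M, hlast⟩ := by
          apply Fin.ext
          have := b.2
          show (b : ℕ) = M
          omega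
        rw [this] at hyt
        exact hyt rfl
      have := hstep b.val hb
      exact this

end Cfsg.Agent.Lib.Helper1.SLN
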