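import Cfsg.Agent.Lib.Helper24.SL7TS2

set_option autoImplicit false

namespace Cfsg.Agent.Lib.Helper1.SLN

open Equiv

theorem sl7ts3_inv {n : ℕ} (a b c : Fin n) (hab : a ≠ b) (hbc : b ≠ c) :
    (tc a b c hab hbc)⁻¹ = tc c b a hbc.symm hab.symm := by
  apply Subtype.ext
  show (swap a b * swap b c)⁻¹ = swap c b * swap b a
  rw [mul_inv_rev, Equiv.swap_inv, Equiv.swap_inv, Equiv.swap_comm b c, Equiv.swap_comm a b]

theorem sl7ts3_apply {n : ℕ} (a b c : Fin n) (hab : a ≠ b) (hbc : b ≠ c) (hac : a ≠ c) :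
    ((tc a b c hab hbc : alternatingGroup (Fin n)) : Perm (Fin n)) a = b ∧
    ((tc a b c hab hbc : alternatingGroup (Fin n)) : Perm (Fin n)) b = c ∧
    ((tc a b c hab hbc : alternatingGroup (Fin n)) : Perm (Fin n)) c = a ∧
    ∀ w, w ≠ a → w ≠ b → w ≠ c →
      ((tc a b c hab hbc : alternatingGroup (Fin n)) : Perm (Fin n)) w = w :=
  Cfsg.Agent.Lib.helper7.SAP.c3_apply a b c hab hac hbc

theorem sl7ts3_rot {n : ℕ} (a b c : Fin n) (hab : a ≠ b) (hbc : b ≠ c) (hac : a ≠ c) :
    tc a b c hab hbc = tc b c a hbc hac.symm := by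
  apply Subtype.ext
  obtain ⟨p1, p2, p3, p4⟩ := sl7ts3_apply a b c hab hbc hac
  obtain ⟨q1, q2, q3, q4⟩ := sl7ts3_apply b c a hbc hac.symm hab.symm
  ext w
  by_cases h1 : w = a
  · rw [h1, p1, q3]
  by_cases h2 : w = b
  · rw [h2, p2, q1]
  by_cases h3 : w = c
  · rw [h3, p3, q2]
  rw [p4 w h1 h2 h3, q4 w h2 h3 h1]

theorem exists_nu_odd (M : ℕ) (ho : Odd M) :
    ∃ ν x : alternatingGroup (Fin (M + 4)), NuHyp M ν x := by
  have hMpos : 1 ≤ M := by
    obtain ⟨k, hk⟩ := ho
    omega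
  set c : Perm (Fin (M + 1)) := finRotate (M + 1) with hc
  have hsign : Perm.sign c = -1 := by
    rw [hc, sign_finRotate]
    exact ho.neg_one_pow
  set ν : alternatingGroup (Fin (M + 4)) :=
    ⟨sl7ts2_nu0 M c, Perm.mem_alternatingGroup.2 (sl7ts2_sign_nu0 M c hsign)⟩ with hν
  have hνc : (ν : Perm (Fin (M + 4))) = sl7ts2_nu0 M c := rfl
  have hcstep : ∀ k (hk : k + 1 < M + 1), c ⟨k, by omega⟩ = ⟨k + 1, hk⟩ := by
    intro k hk
    rw [hc]
    apply Fin.ext
    rw [coe_finRotate_of_ne_last]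
    intro h
    have := congrArg Fin.val h
    simp at this
    omega
  have hy2 : ∀ b : Fin (M + 1), eBlk M (Sum.inr b) ≠ i2 M := sl7ts2_inr_ne2 M
  have h0M : 0 < M + 1 := by omega
  have h1M : 1 < M + 1 := by omega
  set a0 : Fin (M + 4) := eBlk M (Sum.inr ⟨0, h0M⟩) with ha0
  have h2a0 : i2 M ≠ a0 := (hy2 _).symm
  have hane : ∀ {j k : ℕ} (hj : j < M + 1) (hk : k < M + 1), j ≠ k →
      eBlk M (Sum.inr ⟨j, hj⟩) ≠ eBlk M (Sum.inr ⟨k, hk⟩) := by
    intro j k hj hk hjk
    apply sl7ts2_inr_inj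
    intro h
    exact hjk (congrArg Fin.val h)
  set x : alternatingGroup (Fin (M + 4)) :=
    tc (eBlk M (Sum.inr ⟨1, h1M⟩)) (i2 M) a0 (hy2 _) h2a0 with hx
  refine ⟨ν, x, ?_⟩
  refine ⟨?_, ?_, ?_, ?_, ?_⟩
  · rw [hνc]; exact sl7ts2_nu0_i0 M c
  · rw [hνc]; exact sl7ts2_nu0_i1 M c
  · rw [hνc]; exact sl7ts2_nu0_i2 M c
  · rw [mem_stab01, hx, tc_coe]
    constructor
    · rw [Perm.mul_apply, swap_apply_of_ne_of_ne (i02 M) (sl7ts2_inr_ne0 M _).symm,
        swap_apply_of_ne_of_ne (sl7ts2_inr_ne0 M _).symm (i02 M)]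
    · rw [Perm.mul_apply, swap_apply_of_ne_of_ne (i12 M) (sl7ts2_inr_ne1 M _).symm,
        swap_apply_of_ne_of_ne (sl7ts2_inr_ne1 M _).symm (i12 M)]
  · intro S hxS _ hconj
    have hu : ∀ j (hj : j + 1 < M + 1),
        tc (eBlk M (Sum.inr ⟨j + 1, hj⟩)) (i2 M) (eBlk M (Sum.inr ⟨j, by omega⟩)) (hy2 _)
          (hy2 _).symm ∈ S := by
      intro j
      induction j with
      | zero => intro _; exact hxS
      | succ j ih =>
        intro hj
        have h1 := hconj _ (ih (by omega))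
        rw [sl7ts2_conj] at h1
        have e : tc ((ν : Perm (Fin (M + 4))) (eBlk M (Sum.inr ⟨j + 1, by omega⟩)))
            ((ν : Perm (Fin (M + 4))) (i2 M))
            ((ν : Perm (Fin (M + 4))) (eBlk M (Sum.inr ⟨j, by omega⟩)))
            (fun h => hy2 _ ((ν : Perm (Fin (M + 4))).injective h))
            (fun h => (hy2 _).symm ((ν : Perm (Fin (M + 4))).injective h)) =
            tc (eBlk M (Sum.inr ⟨j + 1 + 1, hj⟩)) (i2 M) (eBlk M (Sum.inr ⟨j + 1, by omega⟩))
              (hy2 _) (hy2 _).symm := by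
          apply sl7ts2_congr
          · rw [hνc, sl7ts2_nu0_inr, hcstep (j + 1) hj]
          · rw [hνc]; exact sl7ts2_nu0_i2 M c
          · rw [hνc, sl7ts2_nu0_inr, hcstep j (by omega)]
        rw [e] at h1
        exact h1
    have hv : ∀ b (hb : b + 1 < M + 1),
        tc (eBlk M (Sum.inr ⟨b + 1, hb⟩)) (i2 M) a0 (hy2 _) h2a0 ∈ S := by
      intro b
      induction b with
      | zero => intro _; exact hxS
      | succ b ih =>
        intro hb
        have hvb := ih (by omega)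
        have hub := hu (b + 1) hb
        set ab : Fin (M + 4) := eBlk M (Sum.inr ⟨b + 1, by omega⟩) with hab
        set ab1 : Fin (M + 4) := eBlk M (Sum.inr ⟨b + 1 + 1, hb⟩) with hab1
        have hne1 : ab1 ≠ ab := hane _ _ (by omega)
        have hne2 : ab ≠ a0 := hane _ _ (by omega)
        have hne3 : ab1 ≠ a0 := hane _ _ (by omega)
        obtain ⟨p1, p2, p3, p4⟩ := sl7ts3_apply ab1 (i2 M) ab (hy2 _) (hy2 _).symm hne1
        set u : alternatingGroup (Fin (M + 4)) := tc ab1 (i2 M) ab (hy2 _) (hy2 _).symm with hu'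
        have hw : u⁻¹ * tc ab (i2 M) a0 (hy2 _) h2a0 * (u⁻¹)⁻¹ ∈ S :=
          S.mul_mem (S.mul_mem (S.inv_mem hub) hvb) (S.inv_mem (S.inv_mem hub))
        rw [sl7ts2_conj] at hw
        have hui : ((u⁻¹ : alternatingGroup (Fin (M + 4))) : Perm (Fin (M + 4))) =
            ((u : alternatingGroup (Fin (M + 4))) : Perm (Fin (M + 4)))⁻¹ := rfl
        have e1 : ((u⁻¹ : alternatingGroup (Fin (M + 4))) : Perm (Fin (M + 4))) ab = i2 M := by
          rw [hui, Perm.inv_eq_iff_eq]; exact p2.symm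
        have e2 : ((u⁻¹ : alternatingGroup (Fin (M + 4))) : Perm (Fin (M + 4))) (i2 M) = ab1 := by
          rw [hui, Perm.inv_eq_iff_eq]; exact p1.symm
        have e3 : ((u⁻¹ : alternatingGroup (Fin (M + 4))) : Perm (Fin (M + 4))) a0 = a0 := by
          rw [hui, Perm.inv_eq_iff_eq]
          exact (p4 a0 hne3.symm h2a0.symm hne2.symm).symm
        have e : tc (((u⁻¹ : alternatingGroup (Fin (M + 4))) : Perm (Fin (M + 4))) ab)
            (((u⁻¹ : alternatingGroup (Fin (M + 4))) : Perm (Fin (M + 4))) (i2 M))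
            (((u⁻¹ : alternatingGroup (Fin (M + 4))) : Perm (Fin (M + 4))) a0)
            (fun h => hy2 _ (((u⁻¹ : alternatingGroup (Fin (M + 4))) : Perm (Fin (M + 4))).injective h))
            (fun h => h2a0 (((u⁻¹ : alternatingGroup (Fin (M + 4))) : Perm (Fin (M + 4))).injective h)) =
            tc (i2 M) ab1 a0 (hy2 _).symm hne3 :=
          sl7ts2_congr _ _ _ _ e1 e2 e3
        rw [e] at hw
        have hw2 := S.inv_mem hw
        rw [sl7ts3_inv, sl7ts3_rot a0 ab1 (i2 M) hne3.symm (hy2 _) h2a0.symm] at hw2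
        exact hw2
    apply stab01_le_of_tc M S (i2 M) a0 (by simp [i2]) (by rw [ha0, eBlk_inr]; omega) h2a0
    intro y hys hyt hy
    obtain ⟨z, rfl⟩ := (eBlk M).surjective y
    rcases z with a | b
    · exfalso
      rw [eBlk_inl] at hy
      have ha : a = 2 := by
        apply Fin.ext
        have := a.2
        show (a : ℕ) = 2
        omega
      rw [ha, sl7ts2_i2] at hys
      exact hys rfl
    · have hb : 1 ≤ b.val := by
        by_contra hcon
        have : b = ⟨0, h0M⟩ := by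
          apply Fin.ext
          show (b : ℕ) = 0
          omega
        rw [this] at hyt
        exact hyt rfl
      have hb2 : b.val - 1 + 1 < M + 1 := by
        have := b.2
        omega
      have := hv (b.val - 1) hb2
      have e : (⟨b.val - 1 + 1, hb2⟩ : Fin (M + 1)) = b := by
        apply Fin.ext
        show b.val - 1 + 1 = b.val
        omega
      rw [e] at this
      exact this

end Cfsg.Agent.Lib.Helper1.SLN
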