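import Cfsg.Agent.Lib.helper17.SLN.Defs

set_option autoImplicit false

namespace Cfsg.Agent.Lib.helper17.SLN

open Cfsg.Agent.Lib.helper17.SLP

universe w

section A

variable {ι : Type w} [Fintype ι] [DecidableEq ι]

theorem cyc3_mem (a b c : ι) (hab : a ≠ b) (hbc : b ≠ c) : cyc3 a b c ∈ alternatingGroup ι := by
  rw [Equiv.Perm.mem_alternatingGroup]
  unfold cyc3
  rw [Equiv.Perm.sign_mul, Equiv.Perm.sign_swap hab, Equiv.Perm.sign_swap hbc]
  decide

theorem cyc3_apply (a b c : ι) (hab : a ≠ b) (hac : a ≠ c) (hbc : b ≠ c) :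
    cyc3 a b c a = b ∧ cyc3 a b c b = c ∧ cyc3 a b c c = a ∧ ∀ k, k ≠ a → k ≠ b → k ≠ c → cyc3 a b c k = k := by
  unfold cyc3
  refine ⟨?_, ?_, ?_, ?_⟩
  · rw [Equiv.Perm.mul_apply, Equiv.swap_apply_of_ne_of_ne hab hac, Equiv.swap_apply_left]
  · rw [Equiv.Perm.mul_apply, Equiv.swap_apply_left, Equiv.swap_apply_of_ne_of_ne hac.symm hbc.symm]
  · rw [Equiv.Perm.mul_apply, Equiv.swap_apply_right, Equiv.swap_apply_right]
  · intro k ha hb hc
    rw [Equiv.Perm.mul_apply, Equiv.swap_apply_of_ne_of_ne hb hc, Equiv.swap_apply_of_ne_of_ne ha hb]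

theorem alt_closure_three :
    Subgroup.closure {τ : alternatingGroup ι | (τ : Equiv.Perm ι).IsThreeCycle} = ⊤ := by
  rw [Subgroup.eq_top_iff']
  intro σ
  have key : ∀ x ∈ Subgroup.closure {τ : Equiv.Perm ι | τ.IsThreeCycle},
      ∃ h : x ∈ alternatingGroup ι, (⟨x, h⟩ : alternatingGroup ι) ∈
        Subgroup.closure {τ : alternatingGroup ι | (τ : Equiv.Perm ι).IsThreeCycle} := by
    intro x hx
    induction hx using Subgroup.closure_induction with
    | mem y hy =>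
      exact ⟨Equiv.Perm.IsThreeCycle.mem_alternatingGroup hy, Subgroup.subset_closure hy⟩
    | one => exact ⟨Subgroup.one_mem _, Subgroup.one_mem _⟩
    | mul y z _ _ hy hz =>
      obtain ⟨h1, h1'⟩ := hy
      obtain ⟨h2, h2'⟩ := hz
      exact ⟨Subgroup.mul_mem _ h1 h2, Subgroup.mul_mem _ h1' h2'⟩
    | inv y _ hy =>
      obtain ⟨h1, h1'⟩ := hy
      exact ⟨Subgroup.inv_mem _ h1, Subgroup.inv_mem _ h1'⟩
  have hσ : (σ : Equiv.Perm ι) ∈ Subgroup.closure {τ : Equiv.Perm ι | τ.IsThreeCycle} := by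
    rw [Equiv.Perm.closure_three_cycles_eq_alternating]
    exact σ.2
  obtain ⟨_, h'⟩ := key _ hσ
  exact h'

end A

end Cfsg.Agent.Lib.helper17.SLN
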