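import Cfsg.Agent.Lib.Helper24.SLNA1

set_option autoImplicit false

namespace Cfsg.Agent.Lib.helper17.SLN

open Cfsg.Agent.Lib.helper17.SLP

universe w

section A

variable {ι : Type w} [Fintype ι] [DecidableEq ι]

theorem slna8_conj (σ : Equiv.Perm ι) (a b c : ι) :
    σ * cyc3 a b c * σ⁻¹ = cyc3 (σ a) (σ b) (σ c) := by
  unfold cyc3
  rw [Equiv.swap_apply_apply, Equiv.swap_apply_apply]
  group

theorem slna8_inv (a b c : ι) : (cyc3 a b c)⁻¹ = cyc3 c b a := by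
  unfold cyc3
  rw [mul_inv_rev, Equiv.swap_inv, Equiv.swap_inv, Equiv.swap_comm b c, Equiv.swap_comm a b]

theorem three_cycle_conj (p : Pts ι) (c τ : alternatingGroup ι)
    (hc : (c : Equiv.Perm ι) = cyc3 p.o0 p.o2 p.o1) (hτ : (τ : Equiv.Perm ι).IsThreeCycle) :
    ∃ σ : alternatingGroup ι, τ = σ * c * σ⁻¹ ∨ τ = σ * c⁻¹ * σ⁻¹ := by
  have hne : (τ : Equiv.Perm ι).support.Nonempty := by
    rw [← Finset.card_pos, hτ.card_support]
    norm_num
  obtain ⟨x, hx⟩ := hne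
  have h1 : (τ : Equiv.Perm ι) = cyc3 x ((τ : Equiv.Perm ι) x) ((τ : Equiv.Perm ι) ((τ : Equiv.Perm ι) x)) :=
    hτ.eq_swap_mul_swap_iff_mem_support.mpr hx
  have hnd := hτ.nodup_iff_mem_support.mpr hx
  set y := (τ : Equiv.Perm ι) x with hy
  set z := (τ : Equiv.Perm ι) y with hz
  have hxy : x ≠ y := by
    intro h
    simp [h] at hnd
  have hxz : x ≠ z := by
    intro h
    simp [h] at hnd
  have hyz : y ≠ z := by
    intro h
    simp [h] at hnd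
  obtain ⟨σ, h2, h⟩ := exists_move3 p x z y hxz hxy hyz.symm
  refine ⟨σ, ?_⟩
  rcases h with ⟨h0, h1'⟩ | ⟨h1', h0⟩
  · left
    apply Subtype.ext
    show (τ : Equiv.Perm ι) = (σ : Equiv.Perm ι) * (c : Equiv.Perm ι) * (σ : Equiv.Perm ι)⁻¹
    rw [hc, slna8_conj, h0, h2, h1', ← h1]
  · right
    apply Subtype.ext
    show (τ : Equiv.Perm ι) = (σ : Equiv.Perm ι) * (c : Equiv.Perm ι)⁻¹ * (σ : Equiv.Perm ι)⁻¹
    rw [hc, slna8_inv, slna8_conj, h0, h2, h1', ← h1]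

end A

end Cfsg.Agent.Lib.helper17.SLN
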