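import Cfsg.Agent.Lib.Helper24.SLNA1

set_option autoImplicit false

namespace Cfsg.Agent.Lib.helper17.SLN

open Cfsg.Agent.Lib.helper17.SLP

universe u v w

section M

open Matrix

variable {F : Type u} [Field F] {ι : Type w} [Fintype ι] [DecidableEq ι]

theorem permSL_apply (σ : alternatingGroup ι) (i j : ι) :
    ((permSL σ : Matrix.SpecialLinearGroup ι F) : Matrix ι ι F) i j = if i = (σ : Equiv.Perm ι) j then 1 else 0 := by
  rw [permSL_coe, Equiv.Perm.permMatrix, PEquiv.toMatrix_apply, Equiv.toPEquiv_apply]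
  simp only [Option.mem_def, Option.some.injEq]
  by_cases h : i = (σ : Equiv.Perm ι) j
  · rw [if_pos h, if_pos]
    rw [h]; simp
  · rw [if_neg h, if_neg]
    intro h'
    apply h
    rw [← h']; simp

theorem permSL_inv_coe (σ : alternatingGroup ι) :
    (((permSL σ)⁻¹ : Matrix.SpecialLinearGroup ι F) : Matrix ι ι F) =
      ((permSL σ : Matrix.SpecialLinearGroup ι F) : Matrix ι ι F)ᵀ := by
  rw [← map_inv, permSL_coe, permSL_coe, Matrix.transpose_permMatrix]
  rfl

theorem permSL_incl (σ : alternatingGroup ι) (f : Fin 2 → ι) :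
    ((permSL σ : Matrix.SpecialLinearGroup ι F) : Matrix ι ι F) * incl F f = incl F ((σ : Equiv.Perm ι) ∘ f) := by
  ext i a
  rw [Matrix.mul_apply]
  simp only [incl, Matrix.of_apply, permSL_apply, Function.comp_apply]
  rw [Finset.sum_eq_single (f a)]
  · simp
  · intro k _ hk
    rw [if_neg hk, mul_zero]
  · intro h
    exact absurd (Finset.mem_univ _) h

theorem slnm3_mul_tr (σ : alternatingGroup ι) :
    ((permSL σ : Matrix.SpecialLinearGroup ι F) : Matrix ι ι F) *
      ((permSL σ : Matrix.SpecialLinearGroup ι F) : Matrix ι ι F)ᵀ = 1 := by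
  rw [← permSL_inv_coe, ← Matrix.SpecialLinearGroup.coe_mul, mul_inv_cancel]
  rfl

theorem permSL_rhoF (σ : alternatingGroup ι) (f : Fin 2 → ι) (hf : Function.Injective f)
    (m : Matrix.SpecialLinearGroup (Fin 2) F) :
    permSL σ * rhoF f hf m * (permSL σ)⁻¹ =
      rhoF ((σ : Equiv.Perm ι) ∘ f) ((σ : Equiv.Perm ι).injective.comp hf) m := by
  apply Subtype.ext
  rw [Matrix.SpecialLinearGroup.coe_mul, Matrix.SpecialLinearGroup.coe_mul, permSL_inv_coe, rhoF_coe,
    rhoF_coe]
  unfold rhoM
  rw [← permSL_incl σ f, Matrix.transpose_mul]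
  rw [Matrix.mul_add, Matrix.add_mul, Matrix.mul_one, slnm3_mul_tr]
  simp only [Matrix.mul_assoc]

theorem slnm4_congr (f g : Fin 2 → ι) (hf : Function.Injective f) (hg : Function.Injective g)
    (h : f = g) (m : Matrix.SpecialLinearGroup (Fin 2) F) :
    (rhoF f hf m : Matrix.SpecialLinearGroup ι F) = rhoF g hg m := by
  subst h
  rfl

theorem phiR_M (p : Pts ι) (i j : ι) (hij : i ≠ j) (m : Matrix.SpecialLinearGroup (Fin 2) F) :
    phiR p (permSL : alternatingGroup ι →* Matrix.SpecialLinearGroup ι F) (rho p) i j m =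
      rhoF (pr i j) (pr_injective hij) m := by
  have hs := sig_spec p i j hij
  have hfun : ((sig p i j : alternatingGroup ι) : Equiv.Perm ι) ∘ p.o = pr i j := by
    funext a
    fin_cases a
    · exact hs.1
    · exact hs.2
  show permSL (sig p i j) * rho p m * (permSL (sig p i j))⁻¹ = _
  unfold rho
  rw [permSL_rhoF]
  exact slnm4_congr _ _ _ _ hfun m

end M

end Cfsg.Agent.Lib.helper17.SLN
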