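import Cfsg.Agent.Lib.Helper24.SLNY3core
import Cfsg.Agent.Lib.Helper25.SLNS2

set_option autoImplicit false

namespace Cfsg.Agent.Lib.helper17.SLN

open Cfsg.Agent.Lib.helper17.SLP
open Cfsg.Agent.Lib.helper7.St

universe u v w

section Y

variable {F : Type u} [Field F] {ι : Type w} [Fintype ι] [DecidableEq ι] {G : Type v} [Group G]

theorem slny3_xr_conj (p : Pts ι) (ζ : Fˣ) (ν : alternatingGroup ι →* G)
    (φ : Matrix.SpecialLinearGroup (Fin 2) F →* G) (H : Glue p ζ ν φ) (σ : alternatingGroup ι) (i j : ι) (t : F) :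
    ν σ * xr p ν φ i j t * (ν σ)⁻¹ = xr p ν φ ((σ : Equiv.Perm ι) i) ((σ : Equiv.Perm ι) j) t := by
  unfold xr
  by_cases hij : i = j
  · rw [if_pos hij, if_pos (by rw [hij]), mul_one, mul_inv_cancel]
  · rw [if_neg hij, if_neg (fun h => hij ((σ : Equiv.Perm ι).injective h))]
    exact phiR_conj p ν φ H.stab1 σ i j hij (xM t)

theorem slny3_xr_swap (p : Pts ι) (ζ : Fˣ) (ν : alternatingGroup ι →* G)
    (φ : Matrix.SpecialLinearGroup (Fin 2) F →* G) (H : Glue p ζ ν φ) (i j : ι) (hij : i ≠ j) (t : F) :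
    xr p ν φ j i t = phiR p ν φ i j (yM t) := by
  unfold xr
  rw [if_neg hij.symm, phiR_swap p ν φ H.stab2 i j hij, swM_xM]

theorem gen_top (p : Pts ι) (ζ : Fˣ) (ν : alternatingGroup ι →* G)
    (φ : Matrix.SpecialLinearGroup (Fin 2) F →* G) (H : Glue p ζ ν φ) (S : Sys F ι G) (hS : S.x = xr p ν φ)
    (hgen : Subgroup.closure (Set.range ν ∪ Set.range φ) = ⊤) : S.XQ (fun _ _ => True) = ⊤ :=
  slny3_core p ζ ν φ H S hS (fun σ i j t => slny3_xr_conj p ζ ν φ H σ i j t)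
    (fun i j hij t => slny3_xr_swap p ζ ν φ H i j hij t) hgen

end Y

end Cfsg.Agent.Lib.helper17.SLN
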