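import Cfsg.Agent.Lib.helper7.StK
import Cfsg.Agent.Lib.Helper24.SLNA7
import Cfsg.Agent.Lib.Helper24.SLNA8
import Cfsg.Agent.Lib.Helper12.SLNE1
import Cfsg.Agent.Lib.helper15.SLNS3
import Cfsg.Agent.Lib.Helper25.SLNS5

set_option autoImplicit false

namespace Cfsg.Agent.Lib.helper17.SLN

open Cfsg.Agent.Lib.helper17.SLP
open Cfsg.Agent.Lib.helper7.St

universe u v w

section Y

variable {F : Type u} [Field F] {ι : Type w} [Fintype ι] [DecidableEq ι] {G : Type v} [Group G]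

theorem slny3_core (p : Pts ι) (ζ : Fˣ) (ν : alternatingGroup ι →* G)
    (φ : Matrix.SpecialLinearGroup (Fin 2) F →* G) (H : Glue p ζ ν φ) (S : Sys F ι G) (hS : S.x = xr p ν φ)
    (hconj : ∀ (σ : alternatingGroup ι) (i j : ι) (t : F),
      ν σ * xr p ν φ i j t * (ν σ)⁻¹ = xr p ν φ ((σ : Equiv.Perm ι) i) ((σ : Equiv.Perm ι) j) t)
    (hswap : ∀ (i j : ι), i ≠ j → ∀ t : F, xr p ν φ j i t = phiR p ν φ i j (yM t))
    (hgen : Subgroup.closure (Set.range ν ∪ Set.range φ) = ⊤) : S.XQ (fun _ _ => True) = ⊤ := by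
  have hx : ∀ i j (t : F), i ≠ j → xr p ν φ i j t ∈ S.XQ (fun _ _ => True) := by
    intro i j t hij
    have := S.x_mem_XQ (Q := fun _ _ => True) hij trivial t
    rwa [hS] at this
  have hxr : ∀ i j (t : F), i ≠ j → xr p ν φ i j t = phiR p ν φ i j (xM t) := by
    intro i j t hij
    unfold xr
    rw [if_neg hij]
  have hφx : ∀ t : F, φ (xM t) ∈ S.XQ (fun _ _ => True) := by
    intro t
    rw [← phiR_base p ν φ H.stab1, ← hxr _ _ _ p.h01]
    exact hx _ _ _ p.h01
  have hφy : ∀ t : F, φ (yM t) ∈ S.XQ (fun _ _ => True) := by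
    intro t
    rw [← phiR_base p ν φ H.stab1, ← hswap _ _ p.h01]
    exact hx _ _ _ p.h01.symm
  have hφ : ∀ m, φ m ∈ S.XQ (fun _ _ => True) := by
    intro m
    have hm : m ∈ Subgroup.closure (Set.range (xM : F → Matrix.SpecialLinearGroup (Fin 2) F) ∪
        Set.range yM) := by
      rw [closure_xy]; exact Subgroup.mem_top _
    induction hm using Subgroup.closure_induction with
    | mem y hy =>
      rcases hy with ⟨t, rfl⟩ | ⟨t, rfl⟩
      · exact hφx t
      · exact hφy t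
    | one => rw [map_one]; exact Subgroup.one_mem _
    | mul y z _ _ hy hz => rw [map_mul]; exact Subgroup.mul_mem _ hy hz
    | inv y _ hy => rw [map_inv]; exact Subgroup.inv_mem _ hy
  have hw : ∀ i j, i ≠ j → wr p ν φ i j ∈ S.XQ (fun _ _ => True) := by
    intro i j hij
    unfold wr
    rw [wM_eq, map_mul, map_mul, ← hxr _ _ _ hij, ← hswap _ _ hij]
    exact Subgroup.mul_mem _ (Subgroup.mul_mem _ (hx _ _ _ hij) (hx _ _ _ hij.symm)) (hx _ _ _ hij)
  have hnorm : ∀ (σ : alternatingGroup ι) (g : G), g ∈ S.XQ (fun _ _ => True) →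
      ν σ * g * (ν σ)⁻¹ ∈ S.XQ (fun _ _ => True) := by
    intro σ g hg
    unfold Sys.XQ at hg
    induction hg using Subgroup.closure_induction with
    | mem y hy =>
      obtain ⟨i, j, t, hij, _, rfl⟩ := hy
      rw [hS, hconj]
      exact hx _ _ _ (fun h => hij ((σ : Equiv.Perm ι).injective h))
    | one => rw [mul_one, mul_inv_cancel]; exact Subgroup.one_mem _
    | mul y z _ _ hy hz =>
      have : ν σ * (y * z) * (ν σ)⁻¹ = (ν σ * y * (ν σ)⁻¹) * (ν σ * z * (ν σ)⁻¹) := by group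
      rw [this]; exact Subgroup.mul_mem _ hy hz
    | inv y _ hy =>
      have : ν σ * y⁻¹ * (ν σ)⁻¹ = (ν σ * y * (ν σ)⁻¹)⁻¹ := by group
      rw [this]; exact Subgroup.inv_mem _ hy
  let c : alternatingGroup ι := ⟨cyc3 p.o0 p.o2 p.o1, cyc3_mem _ _ _ p.h02 p.h12.symm⟩
  have hc : ν c ∈ S.XQ (fun _ _ => True) := by
    rw [H.gen c rfl]
    exact Subgroup.mul_mem _ (hw _ _ p.h12) (hw _ _ p.h01)
  have h3 : ∀ τ : alternatingGroup ι, (τ : Equiv.Perm ι).IsThreeCycle → ν τ ∈ S.XQ (fun _ _ => True) := by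
    intro τ hτ
    obtain ⟨σ, h | h⟩ := three_cycle_conj p c τ rfl hτ
    · rw [h, map_mul, map_mul, map_inv]
      exact hnorm σ _ hc
    · rw [h, map_mul, map_mul, map_inv, map_inv]
      exact hnorm σ _ (Subgroup.inv_mem _ hc)
  have hν : ∀ σ, ν σ ∈ S.XQ (fun _ _ => True) := by
    intro σ
    have hσ : σ ∈ Subgroup.closure {τ : alternatingGroup ι | (τ : Equiv.Perm ι).IsThreeCycle} := by
      rw [alt_closure_three]; exact Subgroup.mem_top _
    induction hσ using Subgroup.closure_induction with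
    | mem y hy => exact h3 y hy
    | one => rw [map_one]; exact Subgroup.one_mem _
    | mul y z _ _ hy hz => rw [map_mul]; exact Subgroup.mul_mem _ hy hz
    | inv y _ hy => rw [map_inv]; exact Subgroup.inv_mem _ hy
  rw [eq_top_iff, ← hgen, Subgroup.closure_le]
  rintro g (⟨σ, rfl⟩ | ⟨m, rfl⟩)
  · exact hν σ
  · exact hφ m

end Y

end Cfsg.Agent.Lib.helper17.SLN
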