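import Mathlib
import Cfsg.Agent.Lib.helper7.SPC.Defs

set_option autoImplicit false
set_option linter.unusedVariables false

namespace Cfsg.Agent.Lib.helper7.SPC

universe u

open Module

theorem spcc1_fun_card {n : ℕ} (μ : Nat.Partition n) :
    Nat.card (↥(evenParts μ) → Bool) = 2 ^ (evenParts μ).card := by
  rw [Nat.card_fun, Nat.card_eq_finsetCard, Nat.card_eq_fintype_card, Fintype.card_bool]

open Classical in
theorem sig_card (p m : ℕ) :
    Nat.card (Sig p m) =
      ∑ μ ∈ (Finset.univ : Finset (Nat.Partition (2 * m))).filter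
        (fun μ : Nat.Partition (2 * m) => (∀ a ∈ μ.parts, a ≤ p) ∧ ∀ j : ℕ, Odd j → Even (μ.parts.count j)),
        2 ^ ((μ.parts.toFinset.filter (fun j : ℕ => Even j)).card) := by
  unfold Sig
  rw [Nat.card_sigma]
  simp only [spcc1_fun_card]
  rw [Finset.sum_subtype (Finset.univ.filter (fun μ : Nat.Partition (2 * m) =>
    (∀ a ∈ μ.parts, a ≤ p) ∧ ∀ j : ℕ, Odd j → Even (μ.parts.count j))) (p := GoodPart p m)
    (fun μ => by simp [GoodPart])]
  rfl

end Cfsg.Agent.Lib.helper7.SPC
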