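import Mathlib
import Cfsg.Agent.Lib.helper7.SPC.Defs

set_option autoImplicit false
set_option linter.unusedVariables false
set_option linter.unusedSectionVars false

namespace Cfsg.Agent.Lib.helper7.SPC

universe u

open Module

variable {F : Type u} [Field F]

theorem spcc2_prodA_cons (b : Blk F) (L : List (Blk F)) (k : ℕ) :
    prodA (b :: L) k = b.cst k * prodA L k := by
  unfold prodA
  rw [List.map_cons, List.prod_cons]

theorem spcc2_partsL_cons (b : Blk F) (L : List (Blk F)) :
    partsL (b :: L) = b.parts + partsL L := by
  unfold partsL
  rw [List.map_cons, List.sum_cons]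

theorem spcc2_prodA_ne_zero (L : List (Blk F)) (hL : CanonL L) (k : ℕ) : prodA L k ≠ 0 := by
  induction L with
  | nil =>
    unfold prodA
    simp
  | cons b L ih =>
    rw [spcc2_prodA_cons]
    have hb : b.Canon := hL b List.mem_cons_self
    have hL' : CanonL L := fun b' hb' => hL b' (List.mem_cons_of_mem _ hb')
    refine mul_ne_zero ?_ (ih hL')
    cases b with
    | A k' c =>
      show (if k' = k then c else 1) ≠ 0
      split_ifs
      · exact hb.2.2
      · exact one_ne_zero
    | H k' => exact one_ne_zero

theorem spcc2_nonsq_mul [Fintype F] (δ P : F) (hδ : ¬ IsSquare δ) (hP : P ≠ 0) :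
    IsSquare (δ * P) ↔ ¬ IsSquare P := by
  classical
  have hδ0 : δ ≠ 0 := by
    rintro rfl
    exact hδ ⟨0, by simp⟩
  rw [← quadraticChar_one_iff_isSquare (mul_ne_zero hδ0 hP),
    ← quadraticChar_neg_one_iff_not_isSquare, map_mul,
    quadraticChar_neg_one_iff_not_isSquare.mpr hδ]
  constructor
  · intro h
    linarith
  · intro h
    rw [h]
    norm_num

theorem spcc2_aux [Fintype F] (δ : F) (hδ : ¬ IsSquare δ) (p : ℕ) (ε : ℕ → Bool) :
    ∀ (n : ℕ) (s : Multiset ℕ), Multiset.card s = n → (∀ a ∈ s, 0 < a) → (∀ a ∈ s, a ≤ p) →
      (∀ j : ℕ, Odd j → Even (s.count j)) →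
      ∃ L : List (Blk F), CanonL L ∧ partsL L = s ∧
        (∀ k ∈ s, Even k → (IsSquare (prodA L k) ↔ ε k = true)) ∧ ∀ b ∈ L, b.len ≤ p := by
  classical
  have hδ0 : δ ≠ 0 := by
    rintro rfl
    exact hδ ⟨0, by simp⟩
  intro n
  induction n using Nat.strong_induction_on with
  | _ n ih =>
    intro s hn hpos hle hodd
    by_cases hs : s = 0
    · subst hs
      refine ⟨[], ?_, ?_, ?_, ?_⟩
      · intro b hb
        simp at hb
      · rfl
      · intro k hk
        simp at hk
      · intro b hb
        simp at hb
    · obtain ⟨a, ha⟩ := Multiset.exists_mem_of_ne_zero hs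
      rcases Nat.even_or_odd a with hae | hao
      · have hcard : Multiset.card (s.erase a) < n := by
          rw [← hn]
          exact Multiset.card_erase_lt_of_mem ha
        obtain ⟨L', hC, hP, hS, hLen⟩ := ih _ hcard (s.erase a) rfl
          (fun b hb => hpos b (Multiset.mem_of_mem_erase hb))
          (fun b hb => hle b (Multiset.mem_of_mem_erase hb))
          (fun j hj => by
            have hja : j ≠ a := by
              rintro rfl
              exact (Nat.not_even_iff_odd.mpr hj) hae
            rw [Multiset.count_erase_of_ne hja]
            exact hodd j hj)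
        have hP0 : prodA L' a ≠ 0 := spcc2_prodA_ne_zero L' hC a
        by_cases hc : (IsSquare (prodA L' a) ↔ ε a = true)
        · refine ⟨Blk.A a 1 :: L', ?_, ?_, ?_, ?_⟩
          · intro b hb
            rcases List.mem_cons.mp hb with rfl | hb
            · exact ⟨hae, hpos a ha, one_ne_zero⟩
            · exact hC b hb
          · rw [spcc2_partsL_cons, hP]
            show ({a} : Multiset ℕ) + s.erase a = s
            rw [Multiset.singleton_add, Multiset.cons_erase ha]
          · intro k hk hke
            rw [spcc2_prodA_cons]
            show IsSquare ((if a = k then (1 : F) else 1) * prodA L' k) ↔ ε k = true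
            rw [ite_self, one_mul]
            by_cases hak : a = k
            · subst hak
              exact hc
            · exact hS k ((Multiset.mem_erase_of_ne (Ne.symm hak)).mpr hk) hke
          · intro b hb
            rcases List.mem_cons.mp hb with rfl | hb
            · exact hle a ha
            · exact hLen b hb
        · refine ⟨Blk.A a δ :: L', ?_, ?_, ?_, ?_⟩
          · intro b hb
            rcases List.mem_cons.mp hb with rfl | hb
            · exact ⟨hae, hpos a ha, hδ0⟩
            · exact hC b hb
          · rw [spcc2_partsL_cons, hP]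
            show ({a} : Multiset ℕ) + s.erase a = s
            rw [Multiset.singleton_add, Multiset.cons_erase ha]
          · intro k hk hke
            rw [spcc2_prodA_cons]
            show IsSquare ((if a = k then δ else 1) * prodA L' k) ↔ ε k = true
            by_cases hak : a = k
            · subst hak
              rw [if_pos rfl, spcc2_nonsq_mul δ _ hδ hP0]
              exact not_iff.mp hc
            · rw [if_neg hak, one_mul]
              exact hS k ((Multiset.mem_erase_of_ne (Ne.symm hak)).mpr hk) hke
          · intro b hb
            rcases List.mem_cons.mp hb with rfl | hb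
            · exact hle a ha
            · exact hLen b hb
      · have hcnt : 2 ≤ s.count a := by
          obtain ⟨r, hr⟩ := hodd a hao
          have h1 : 0 < s.count a := Multiset.count_pos.mpr ha
          omega
        have ha' : a ∈ s.erase a := by
          rw [← Multiset.count_pos, Multiset.count_erase_self]
          omega
        have hcard : Multiset.card ((s.erase a).erase a) < n := by
          rw [← hn]
          exact lt_trans (Multiset.card_erase_lt_of_mem ha') (Multiset.card_erase_lt_of_mem ha)
        obtain ⟨L', hC, hP, hS, hLen⟩ := ih _ hcard ((s.erase a).erase a) rfl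
          (fun b hb => hpos b (Multiset.mem_of_mem_erase (Multiset.mem_of_mem_erase hb)))
          (fun b hb => hle b (Multiset.mem_of_mem_erase (Multiset.mem_of_mem_erase hb)))
          (fun j hj => by
            by_cases hja : j = a
            · subst hja
              rw [Multiset.count_erase_self, Multiset.count_erase_self]
              obtain ⟨r, hr⟩ := hodd j hj
              exact ⟨r - 1, by omega⟩
            · rw [Multiset.count_erase_of_ne hja, Multiset.count_erase_of_ne hja]
              exact hodd j hj)
        refine ⟨Blk.H a :: L', ?_, ?_, ?_, ?_⟩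
        · intro b hb
          rcases List.mem_cons.mp hb with rfl | hb
          · exact hao
          · exact hC b hb
        · rw [spcc2_partsL_cons, hP]
          show ({a, a} : Multiset ℕ) + (s.erase a).erase a = s
          rw [Multiset.insert_eq_cons, Multiset.cons_add, Multiset.singleton_add,
            Multiset.cons_erase ha', Multiset.cons_erase ha]
        · intro k hk hke
          rw [spcc2_prodA_cons]
          show IsSquare ((1 : F) * prodA L' k) ↔ ε k = true
          rw [one_mul]
          have hka : k ≠ a := by
            rintro rfl
            exact (Nat.not_even_iff_odd.mpr hao) hke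
          exact hS k ((Multiset.mem_erase_of_ne hka).mpr ((Multiset.mem_erase_of_ne hka).mpr hk)) hke
        · intro b hb
          rcases List.mem_cons.mp hb with rfl | hb
          · exact hle a ha
          · exact hLen b hb

theorem real_list [Fintype F] (h2 : (2 : F) ≠ 0) (p : ℕ) (s : Multiset ℕ) (hpos : ∀ a ∈ s, 0 < a)
    (hle : ∀ a ∈ s, a ≤ p) (hodd : ∀ j : ℕ, Odd j → Even (s.count j)) (ε : ℕ → Bool) :
    ∃ L : List (Blk F), CanonL L ∧ partsL L = s ∧
      (∀ k ∈ s, Even k → (IsSquare (prodA L k) ↔ ε k = true)) ∧ ∀ b ∈ L, b.len ≤ p := by
  have hchar : ringChar F ≠ 2 := by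
    intro h
    apply h2
    have : CharP F 2 := ringChar.of_eq h
    exact_mod_cast CharP.cast_eq_zero F 2
  obtain ⟨δ, hδ⟩ := FiniteField.exists_nonsquare hchar
  exact spcc2_aux δ hδ p ε (Multiset.card s) s rfl hpos hle hodd

end Cfsg.Agent.Lib.helper7.SPC
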