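import Mathlib
import Cfsg.Agent.Lib.helper7.SPC.Defs
import Cfsg.Agent.Lib.Helper24.SPCC2

set_option autoImplicit false
set_option linter.unusedVariables false
set_option linter.unusedSectionVars false

namespace Cfsg.Agent.Lib.helper7.SPC

universe u

open Module

variable {F : Type u} [Field F]

theorem spcm_iso_symm {T T' : Trip F} (h : TIso T T') : TIso T' T := by
  obtain ⟨e, hB, hN⟩ := h
  refine ⟨e.symm, ?_, ?_⟩
  · intro x y
    have := hB (e.symm x) (e.symm y)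
    rw [e.apply_symm_apply, e.apply_symm_apply] at this
    exact this.symm
  · intro x
    apply e.injective
    rw [hN, e.apply_symm_apply, e.apply_symm_apply]

theorem spcm_two_ne_zero {p : ℕ} [Fact p.Prime] [CharP F p] (hp : p ≠ 2) : (2 : F) ≠ 0 := by
  intro h
  have h1 : ((2 : ℕ) : F) = 0 := by exact_mod_cast h
  rw [CharP.cast_eq_zero_iff F p 2] at h1
  exact hp ((Nat.prime_dvd_prime_iff_eq (Fact.out : p.Prime) Nat.prime_two).mp h1)

theorem spcm3_core [Fintype F] {p : ℕ} [Fact p.Prime] [CharP F p] (hp : p ≠ 2) (m : ℕ)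
    (hG5 : ∀ L : List (Blk F), CanonL L → (sumList L).Good)
    (hC3 : ∀ L : List (Blk F), finrank F (sumList L).V = (partsL L).sum)
    (hC4 : ∀ (L : List (Blk F)) (e : ℕ), (∀ b ∈ L, b.len ≤ e) → (sumList L).N ^ e = 0)
    (hR1 : ∀ (T : Trip F), T.Good → finrank F T.V = 2 * m →
      ∃ N : Matrix (Fin m ⊕ Fin m) (Fin m ⊕ Fin m) F, SkewM m N ∧ TIso T (stdTrip m N) ∧
        ∀ e : ℕ, T.N ^ e = 0 → N ^ e = 0)
    (hY2 : ∀ N : Matrix (Fin m ⊕ Fin m) (Fin m ⊕ Fin m) F, SkewM m N → N ^ p = 0 →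
      ∃ g : Matrix.symplecticGroup (Fin m) F, g ^ p = 1 ∧
        cay (g : Matrix (Fin m ⊕ Fin m) (Fin m ⊕ Fin m) F) = N)
    (σ : Sig p m) :
    ∃ (g : Matrix.symplecticGroup (Fin m) F) (L : List (Blk F)), g ^ p = 1 ∧ CanonL L ∧
      partsL L = σ.1.1.parts ∧
      (∀ (k : ℕ) (hk : k ∈ evenParts σ.1.1), IsSquare (prodA L k) ↔ σ.2 ⟨k, hk⟩ = true) ∧
      TIso (stdTrip m (cay (g : Matrix (Fin m ⊕ Fin m) (Fin m ⊕ Fin m) F))) (sumList L) := by
  classical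
  have h2 : (2 : F) ≠ 0 := spcm_two_ne_zero hp
  obtain ⟨⟨μ, hμ⟩, sg⟩ := σ
  obtain ⟨L, hL, hparts, hsq, hlen⟩ := real_list h2 p μ.parts (fun a ha => μ.parts_pos ha) hμ.1 hμ.2
    (fun k => if h : k ∈ evenParts μ then sg ⟨k, h⟩ else true)
  have hT : (sumList L).Good := hG5 L hL
  have hdim : finrank F (sumList L).V = 2 * m := by
    rw [hC3 L, hparts, μ.parts_sum]
  have hnil : (sumList L).N ^ p = 0 := hC4 L p hlen
  obtain ⟨N, hN, hiso, hNe⟩ := hR1 (sumList L) hT hdim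
  obtain ⟨g, hg, hcay⟩ := hY2 N hN (hNe p hnil)
  refine ⟨g, L, hg, hL, hparts, ?_, ?_⟩
  · intro k hk
    have hk' : k ∈ μ.parts ∧ Even k := by
      have h3 : k ∈ evenParts μ := hk
      unfold evenParts at h3
      rw [Finset.mem_filter, Multiset.mem_toFinset] at h3
      exact h3
    have h4 := hsq k hk'.1 hk'.2
    have h5 : (if h : k ∈ evenParts μ then sg ⟨k, h⟩ else true) = sg ⟨k, hk⟩ := dif_pos hk
    rw [h5] at h4
    exact h4
  · rw [hcay]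
    exact spcm_iso_symm hiso

theorem spcm1_core {p : ℕ} [Fact p.Prime] [CharP F p] (hp : p ≠ 2) (m : ℕ)
    (hR3 : ∀ N : Matrix (Fin m ⊕ Fin m) (Fin m ⊕ Fin m) F, SkewM m N → (∃ k : ℕ, N ^ k = 0) →
      (stdTrip m N).Good)
    (hE6 : ∀ T : Trip F, T.Good → ∃ L : List (Blk F), CanonL L ∧ TIso T (sumList L) ∧
      ∀ e : ℕ, T.N ^ e = 0 → ∀ b ∈ L, b.len ≤ e)
    (g : Matrix.symplecticGroup (Fin m) F)
    (hY1 : SkewM m (cay (g : Matrix (Fin m ⊕ Fin m) (Fin m ⊕ Fin m) F)) ∧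
      (cay (g : Matrix (Fin m ⊕ Fin m) (Fin m ⊕ Fin m) F)) ^ p = 0) :
    ∃ L : List (Blk F), CanonL L ∧
      TIso (stdTrip m (cay (g : Matrix (Fin m ⊕ Fin m) (Fin m ⊕ Fin m) F))) (sumList L) ∧
      ∀ b ∈ L, b.len ≤ p := by
  have hT := hR3 _ hY1.1 ⟨p, hY1.2⟩
  obtain ⟨L, hL, hiso, hlen⟩ := hE6 _ hT
  refine ⟨L, hL, hiso, hlen p ?_⟩
  show (Matrix.toLin' (cay (g : Matrix (Fin m ⊕ Fin m) (Fin m ⊕ Fin m) F))) ^ p = 0
  rw [← Matrix.toLin'_pow, hY1.2, map_zero]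

end Cfsg.Agent.Lib.helper7.SPC
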