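import Mathlib
import Cfsg.Agent.Lib.helper7.SPC.Defs
import Cfsg.Agent.Lib.Helper24.SPCMcore
import Cfsg.Agent.Lib.helper15.SPCR3
import Cfsg.Agent.Lib.helper7.SPCY1
import Cfsg.Agent.Lib.Helper29.SPCE6core
import Cfsg.Agent.Lib.Helper5.SPCE5
import Cfsg.Agent.Lib.Helper27.SPCISO

set_option autoImplicit false

namespace Cfsg.Agent.Lib.helper7.SPC

universe u

open Module

variable {F : Type u} [Field F]

theorem exists_list {p : ℕ} [Fact p.Prime] [CharP F p] (hp : p ≠ 2) (m : ℕ)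
    (g : Matrix.symplecticGroup (Fin m) F) (hg : g ^ p = 1) :
    ∃ L : List (Blk F), CanonL L ∧
      TIso (stdTrip m (cay (g : Matrix (Fin m ⊕ Fin m) (Fin m ⊕ Fin m) F))) (sumList L) ∧
      ∀ b ∈ L, b.len ≤ p :=
  spcm1_core hp m (fun N hN hnil => stdTrip_good m N hN hnil)
    (fun T hT => spce6_core (fun T' hT' hV => peel (spcm_two_ne_zero hp) T' hT' hV)
      TIso_refl TIso_trans TSum_congr T hT) g (cay_spec hp m g hg)

end Cfsg.Agent.Lib.helper7.SPC
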