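import Mathlib
import Cfsg.Agent.Lib.helper7.SPC.Defs
import Cfsg.Agent.Lib.Helper24.SPCMcore
import Cfsg.Agent.Lib.Helper24.SPCG5
import Cfsg.Agent.Lib.Helper20.SPCC3
import Cfsg.Agent.Lib.Helper25.SPCC4
import Cfsg.Agent.Lib.helper15.SPCR1
import Cfsg.Agent.Lib.helper7.SPCY1

set_option autoImplicit false

namespace Cfsg.Agent.Lib.helper7.SPC

universe u

open Module

variable {F : Type u} [Field F]

theorem exists_rep [Fintype F] {p : ℕ} [Fact p.Prime] [CharP F p] (hp : p ≠ 2) (m : ℕ) (σ : Sig p m) :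
    ∃ (g : Matrix.symplecticGroup (Fin m) F) (L : List (Blk F)), g ^ p = 1 ∧ CanonL L ∧
      partsL L = σ.1.1.parts ∧
      (∀ (k : ℕ) (hk : k ∈ evenParts σ.1.1), IsSquare (prodA L k) ↔ σ.2 ⟨k, hk⟩ = true) ∧
      TIso (stdTrip m (cay (g : Matrix (Fin m ⊕ Fin m) (Fin m ⊕ Fin m) F))) (sumList L) :=
  spcm3_core hp m (fun L hL => sumList_good (spcm_two_ne_zero hp) L hL) dim_list nil_list
    (fun T hT hdim => std_realize T hT m hdim) (fun N hN hNp => cay_surj hp m N hN hNp) σ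

end Cfsg.Agent.Lib.helper7.SPC
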