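import Mathlib
import Cfsg.Agent.Lib.Helper19.SPD.Defs

set_option autoImplicit false
set_option linter.unusedVariables false
set_option linter.unusedSectionVars false

namespace Cfsg.Agent.Lib.Helper19.SPD

open Polynomial

variable {F : Type*} [Field F] {d : ℕ}

theorem spdadj_add_left (u₁ u₂ w : Fin d ⊕ Fin d → F) :
    Cfsg.sympForm d F (u₁ + u₂) w = Cfsg.sympForm d F u₁ w + Cfsg.sympForm d F u₂ w := by
  unfold Cfsg.sympForm
  rw [add_dotProduct]

theorem spdadj_smul_left (a : F) (u w : Fin d ⊕ Fin d → F) :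
    Cfsg.sympForm d F (a • u) w = a * Cfsg.sympForm d F u w := by
  unfold Cfsg.sympForm
  rw [smul_dotProduct, smul_eq_mul]

theorem spdadj_add_right (u w₁ w₂ : Fin d ⊕ Fin d → F) :
    Cfsg.sympForm d F u (w₁ + w₂) = Cfsg.sympForm d F u w₁ + Cfsg.sympForm d F u w₂ := by
  unfold Cfsg.sympForm
  rw [Matrix.mulVec_add, dotProduct_add]

theorem spdadj_smul_right (a : F) (u w : Fin d ⊕ Fin d → F) :
    Cfsg.sympForm d F u (a • w) = a * Cfsg.sympForm d F u w := by
  unfold Cfsg.sympForm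
  rw [Matrix.mulVec_smul, dotProduct_smul, smul_eq_mul]

theorem spdadj_one (r : ℕ) (hr : 0 < r) (y : (Fin d ⊕ Fin d → F) →ₗ[F] (Fin d ⊕ Fin d → F))
    (hiso : Isom y) (hy : y ^ r = 1) (u w : Fin d ⊕ Fin d → F) :
    Cfsg.sympForm d F (y u) w = Cfsg.sympForm d F u ((y ^ (r - 1)) w) := by
  have hinv : y * y ^ (r - 1) = 1 := by
    rw [← pow_succ', Nat.sub_add_cancel hr, hy]
  have hw : w = y ((y ^ (r - 1)) w) := by
    have h := congrArg (fun f : (Fin d ⊕ Fin d → F) →ₗ[F] (Fin d ⊕ Fin d → F) => f w) hinv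
    simp only [Module.End.mul_apply, Module.End.one_apply] at h
    exact h.symm
  conv_lhs => rw [hw]
  exact hiso _ _

theorem spdadj_pow (r : ℕ) (hr : 0 < r) (y : (Fin d ⊕ Fin d → F) →ₗ[F] (Fin d ⊕ Fin d → F))
    (hiso : Isom y) (hy : y ^ r = 1) (n : ℕ) (u w : Fin d ⊕ Fin d → F) :
    Cfsg.sympForm d F ((y ^ n) u) w = Cfsg.sympForm d F u (((y ^ (r - 1)) ^ n) w) := by
  induction n generalizing u w with
  | zero => simp
  | succ n ih =>
    rw [pow_succ, pow_succ', Module.End.mul_apply, Module.End.mul_apply, ih,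
      spdadj_one r hr y hiso hy]

theorem adj_aeval (r : ℕ) (hr : 0 < r) (y : (Fin d ⊕ Fin d → F) →ₗ[F] (Fin d ⊕ Fin d → F))
    (hiso : Isom y) (hy : y ^ r = 1) (g : F[X]) (u w : Fin d ⊕ Fin d → F) :
    Cfsg.sympForm d F (aeval y g u) w = Cfsg.sympForm d F u (aeval (y ^ (r - 1)) g w) := by
  induction g using Polynomial.induction_on' with
  | add p q hp hq =>
    rw [map_add, map_add, LinearMap.add_apply, LinearMap.add_apply, spdadj_add_left,
      spdadj_add_right, hp, hq]
  | monomial n a =>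
    rw [Polynomial.aeval_monomial, Polynomial.aeval_monomial, Module.End.mul_apply,
      Module.End.mul_apply, Module.algebraMap_end_apply, Module.algebraMap_end_apply,
      spdadj_smul_left, spdadj_smul_right, spdadj_pow r hr y hiso hy]

end Cfsg.Agent.Lib.Helper19.SPD
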