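import Mathlib
import Cfsg.Agent.Lib.Helper19.SPD.Defs
import Cfsg.Agent.Lib.Helper24.ElZc
import Cfsg.Agent.Lib.Helper24.ElZd

set_option autoImplicit false
set_option linter.unusedVariables false
set_option linter.unusedSectionVars false

namespace Cfsg.Agent.Lib.Helper19.SPD

open Polynomial

variable {F : Type*} [Field F] {d : ℕ}

theorem spddiag_aeval (y : (Fin d ⊕ Fin d → F) →ₗ[F] (Fin d ⊕ Fin d → F)) :
    aeval y (X - 1 : F[X]) = y - 1 := by
  rw [map_sub, aeval_X, map_one]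

theorem spddiag_sigma_pow (r : ℕ) (y : (Fin d ⊕ Fin d → F) →ₗ[F] (Fin d ⊕ Fin d → F))
    (hy : y ^ r = 1) {t : ℕ} (D : Fin t → Submodule F (Fin d ⊕ Fin d → F)) (hind : iSupIndep D)
    (a : ℕ) (ha : 0 < a) (hdim : ∀ j, Module.finrank F (D j) = a) (σ : Equiv.Perm (Fin t))
    (hσ : ∀ j, (D j).map y = D (σ j)) : σ ^ r = 1 := by
  have hne : ∀ j, D j ≠ ⊥ := by
    intro j h
    have h1 := hdim j
    rw [h, finrank_bot] at h1
    omega
  exact Cfsg.Agent.Lib.Helper24.el_sigma_pow D y σ hσ (hind.injective hne) r hy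

theorem diag_le (r : ℕ) [Fact r.Prime] (y : (Fin d ⊕ Fin d → F) →ₗ[F] (Fin d ⊕ Fin d → F)) (hy : y ^ r = 1)
    {t : ℕ} (D : Fin t → Submodule F (Fin d ⊕ Fin d → F)) (hind : iSupIndep D) (hsup : iSup D = ⊤) (a : ℕ) (ha : 0 < a)
    (hdim : ∀ j, Module.finrank F (D j) = a) (σ : Equiv.Perm (Fin t)) (hσ : ∀ j, (D j).map y = D (σ j))
    (j₀ : Fin t) (hj₀ : σ j₀ ≠ j₀) :
    a ≤ Module.finrank F ↥(Fx y) := by
  have hσr := spddiag_sigma_pow r y hy D hind a ha hdim σ hσ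
  have h := Cfsg.Agent.Lib.Helper24.el_avg_inj D hind hsup y σ hσ r (Fact.out) hy hσr j₀ hj₀
  rw [spddiag_aeval, hdim j₀] at h
  exact h

end Cfsg.Agent.Lib.Helper19.SPD
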