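import Mathlib
import Cfsg.Agent.Lib.Helper19.SPD.Defs
import Cfsg.Agent.Lib.Helper24.SPDDIAG

set_option autoImplicit false
set_option linter.unusedVariables false
set_option linter.unusedSectionVars false

namespace Cfsg.Agent.Lib.Helper19.SPD

open Polynomial

variable {F : Type*} [Field F] {d : ℕ}

theorem cycle_le (r : ℕ) [Fact r.Prime] (y : (Fin d ⊕ Fin d → F) →ₗ[F] (Fin d ⊕ Fin d → F)) (hy : y ^ r = 1)
    {t : ℕ} (D : Fin t → Submodule F (Fin d ⊕ Fin d → F)) (hind : iSupIndep D) (hsup : iSup D = ⊤) (a : ℕ) (ha : 0 < a)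
    (hdim : ∀ j, Module.finrank F (D j) = a) (σ : Equiv.Perm (Fin t)) (hσ : ∀ j, (D j).map y = D (σ j))
    (j₀ : Fin t) (hj₀ : σ j₀ ≠ j₀) :
    (r - 1) * a ≤ Module.finrank F ↥(Mv y) := by
  have hσr := spddiag_sigma_pow r y hy D hind a ha hdim σ hσ
  have h := Cfsg.Agent.Lib.Helper24.el_rank_bound D hind hsup y σ hσ r (Fact.out) hσr a hdim j₀ hj₀
  rw [spddiag_aeval] at h
  have h2 := LinearMap.finrank_range_add_finrank_ker (y - 1)
  unfold Mv
  rw [mul_comm]
  omega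

end Cfsg.Agent.Lib.Helper19.SPD
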