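import Mathlib
import Cfsg.Agent.Lib.Helper19.SPD.Defs

set_option autoImplicit false
set_option linter.unusedVariables false
set_option linter.unusedSectionVars false

namespace Cfsg.Agent.Lib.Helper19.SPD

variable {F : Type*} [Field F] {d : ℕ}

theorem spdsemi_h24_pow_fix (y : (Fin d ⊕ Fin d → F) →ₗ[F] (Fin d ⊕ Fin d → F))
    (v : Fin d ⊕ Fin d → F) (hv : y v = v) (k : ℕ) : (y ^ k) v = v := by
  induction k with
  | zero => simp
  | succ k ih => rw [pow_succ, Module.End.mul_apply, hv, ih]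

theorem spdsemi_h24 (r : ℕ) (hrF : (r : F) ≠ 0)
    (y : (Fin d ⊕ Fin d → F) →ₗ[F] (Fin d ⊕ Fin d → F)) (hy : y ^ r = 1) :
    IsCompl (Fx y) (Mv y) := by
  have hN : (∑ k ∈ Finset.range r, y ^ k) * (y - 1) = 0 := by
    rw [geom_sum_mul, hy, sub_self]
  have hdis : Disjoint (Fx y) (Mv y) := by
    rw [Submodule.disjoint_def]
    intro v hv1 hv2
    have hfix : y v = v := by
      have h := LinearMap.mem_ker.mp hv1
      rw [LinearMap.sub_apply, Module.End.one_apply] at h
      exact sub_eq_zero.mp h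
    obtain ⟨w, hw⟩ := LinearMap.mem_range.mp hv2
    have h1 : (∑ k ∈ Finset.range r, y ^ k) v = 0 := by
      rw [← hw, ← Module.End.mul_apply, hN, LinearMap.zero_apply]
    have h2 : (∑ k ∈ Finset.range r, y ^ k) v = (r : F) • v := by
      rw [LinearMap.sum_apply]
      rw [Finset.sum_congr rfl (fun k _ => spdsemi_h24_pow_fix y v hfix k)]
      rw [Finset.sum_const, Finset.card_range, Nat.cast_smul_eq_nsmul]
    rw [h2] at h1
    rcases smul_eq_zero.mp h1 with h | h
    · exact absurd h hrF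
    · exact h
  have hsup : Fx y ⊔ Mv y = ⊤ := by
    apply Submodule.eq_top_of_disjoint _ _ _ hdis
    have := LinearMap.finrank_range_add_finrank_ker (y - 1)
    unfold Fx Mv
    omega
  exact ⟨hdis, codisjoint_iff.mpr hsup⟩

end Cfsg.Agent.Lib.Helper19.SPD
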