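import Mathlib
import Cfsg.Agent.Lib.Helper19.SPD.Defs
import Cfsg.Agent.Lib.Helper24.SPDSEMIh24
import Cfsg.Agent.Lib.Lead.SPDFIXND
import Cfsg.Agent.Lib.Lead.SPDEVEN
import Cfsg.Agent.Lib.Helper20.SPDK3

set_option autoImplicit false
set_option linter.unusedVariables false
set_option linter.unusedSectionVars false

namespace Cfsg.Agent.Lib.Helper19.SPD

variable {F : Type*} [Field F] {d : ℕ}

theorem spdinvdim_h24_cast [Fintype F] {p : ℕ} [Fact p.Prime] [CharP F p]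
    (r : ℕ) [Fact r.Prime] (hrp : r ≠ p) : (r : F) ≠ 0 := by
  intro h
  have h1 : p ∣ r := (CharP.cast_eq_zero_iff F p r).mp h
  have h2 := (Nat.prime_dvd_prime_iff_eq (Fact.out : p.Prime) (Fact.out : r.Prime)).mp h1
  exact hrp h2.symm

theorem spdinvdim_h24_core (r : ℕ) (hrF : (r : F) ≠ 0) (i : ℕ)
    (y : (Fin d ⊕ Fin d → F) →ₗ[F] (Fin d ⊕ Fin d → F)) (hy : y ^ r = 1)
    (W : Submodule F (Fin d ⊕ Fin d → F))
    (hsup : (W ⊓ Fx y) ⊔ (W ⊓ Mv y) = W)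
    (hk3 : i ∣ Module.finrank F ↥(W ⊓ Mv y))
    (heven : Even (Module.finrank F ↥(W ⊓ Mv y))) :
    ∃ m : ℕ, Module.finrank F W = Module.finrank F ↥(W ⊓ Fx y) + cc i * m := by
  have hc := spdsemi_h24 r hrF y hy
  have hdis : Disjoint (W ⊓ Fx y) (W ⊓ Mv y) :=
    hc.disjoint.mono inf_le_right inf_le_right
  have hdim : Module.finrank F W =
      Module.finrank F ↥(W ⊓ Fx y) + Module.finrank F ↥(W ⊓ Mv y) := by
    have h1 := Submodule.finrank_sup_add_finrank_inf_eq (W ⊓ Fx y) (W ⊓ Mv y)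
    rw [hsup, disjoint_iff.mp hdis, finrank_bot, add_zero] at h1
    exact h1
  have hcc : cc i ∣ Module.finrank F ↥(W ⊓ Mv y) := by
    unfold cc
    split_ifs with hie
    · exact hk3
    · have hodd : Odd i := Nat.not_even_iff_odd.mp hie
      have hcop : Nat.Coprime 2 i := (Nat.coprime_two_left).mpr hodd
      exact hcop.mul_dvd_of_dvd_of_dvd (even_iff_two_dvd.mp heven) hk3
  obtain ⟨m, hm⟩ := hcc
  exact ⟨m, by rw [hdim, hm]⟩

theorem spdinvdim_h24 [Fintype F] {p q : ℕ} [Fact p.Prime] [CharP F p] (hq : Fintype.card F = q)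
    (r : ℕ) [Fact r.Prime] (hrp : r ≠ p) (i : ℕ) (hi : i = orderOf (q : ZMod r))
    (y : (Fin d ⊕ Fin d → F) →ₗ[F] (Fin d ⊕ Fin d → F)) (hiso : Isom y) (hy : y ^ r = 1)
    (W : Submodule F (Fin d ⊕ Fin d → F)) (hW : Inv y W) (hnd : ND W) :
    ∃ m : ℕ, Module.finrank F W = Module.finrank F ↥(W ⊓ Fx y) + cc i * m := by
  have hrF : (r : F) ≠ 0 := spdinvdim_h24_cast r hrp
  obtain ⟨_, hndM, _, hsup, hinvM, hffM⟩ := fix_nd r hrF y hiso hy W hW hnd
  refine spdinvdim_h24_core r hrF i y hy W hsup ?_ (nd_even _ hndM)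
  rw [hi]
  exact k3_dvd hq r y hy _ hinvM hffM

end Cfsg.Agent.Lib.Helper19.SPD
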