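import Mathlib
import Cfsg.Agent.Lib.Helper19.SPD.Defs
import Cfsg.Agent.Lib.Helper24.ElZd

set_option autoImplicit false
set_option linter.unusedVariables false
set_option linter.unusedSectionVars false

namespace Cfsg.Agent.Lib.Helper19.SPD

variable {F : Type*} [Field F] {d : ℕ}

theorem spdsumfix_h24 (y : (Fin d ⊕ Fin d → F) →ₗ[F] (Fin d ⊕ Fin d → F))
    {t : ℕ} (D : Fin t → Submodule F (Fin d ⊕ Fin d → F)) (hind : iSupIndep D) :
    ∑ j, Module.finrank F ↥(D j ⊓ Fx y) ≤ Module.finrank F ↥(Fx y) :=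
  Cfsg.Agent.Lib.Helper24.el_fix_sum D hind (Fx y)

end Cfsg.Agent.Lib.Helper19.SPD
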