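import Cfsg.Agent.Lib.helper14.SQD.Defs
import Cfsg.Agent.Lib.Helper28.SQDT1

set_option autoImplicit false

namespace Cfsg.Agent.Lib.helper14.SQD

open Cfsg Cfsg.Lie Matrix

universe u v

variable {k : ℕ} {F : Type u} [Field F]

theorem sqdg2_conj_mem (τ : F →+* F) (𝒮 : AddSubgroup (Matrix (Fin k) (Fin k) F))
    (h𝒮 : ∀ A : Matrix (Fin k) (Fin k) F, IsUUT A → ∀ S ∈ 𝒮, A * S * tadj τ A ∈ 𝒮)
    (hG1 : ∀ (g : GL (Fin k) F) (S : Matrix (Fin k) (Fin k) F),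
      levHom τ g * siegHom (Multiplicative.ofAdd S) * (levHom τ g)⁻¹ =
        siegHom (Multiplicative.ofAdd ((g : Matrix (Fin k) (Fin k) F) * S *
          tadj τ (g : Matrix (Fin k) (Fin k) F))))
    (a : GL (Fin k) F) (ha : a ∈ uutGL k F) (h : GL (Fin k ⊕ Fin k) F) (hh : h ∈ siegGrp 𝒮) :
    levHom τ a * h * (levHom τ a)⁻¹ ∈ siegGrp 𝒮 := by
  obtain ⟨S, hS, rfl⟩ := Subgroup.mem_map.mp hh
  have hS' : Multiplicative.toAdd S ∈ 𝒮 := hS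
  have h1 := hG1 a (Multiplicative.toAdd S)
  rw [ofAdd_toAdd] at h1
  rw [h1]
  refine Subgroup.mem_map.mpr ⟨_, ?_, rfl⟩
  exact h𝒮 _ ((mem_uutGL a).mp ha) _ hS'

theorem sqdg2_core (τ : F →+* F) (𝒮 : AddSubgroup (Matrix (Fin k) (Fin k) F))
    (h𝒮 : ∀ A : Matrix (Fin k) (Fin k) F, IsUUT A → ∀ S ∈ 𝒮, A * S * tadj τ A ∈ 𝒮)
    (hG1 : ∀ (g : GL (Fin k) F) (S : Matrix (Fin k) (Fin k) F),
      levHom τ g * siegHom (Multiplicative.ofAdd S) * (levHom τ g)⁻¹ =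
        siegHom (Multiplicative.ofAdd ((g : Matrix (Fin k) (Fin k) F) * S *
          tadj τ (g : Matrix (Fin k) (Fin k) F)))) :
    levGrp τ ≤ Subgroup.normalizer ((siegGrp 𝒮 : Subgroup (GL (Fin k ⊕ Fin k) F)) : Set (GL (Fin k ⊕ Fin k) F)) := by
  intro g hg
  obtain ⟨a, ha, rfl⟩ := Subgroup.mem_map.mp hg
  rw [Subgroup.mem_normalizer_iff]
  intro h
  constructor
  · intro hh
    exact sqdg2_conj_mem τ 𝒮 h𝒮 hG1 a ha h hh
  · intro hh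
    have ha' : a⁻¹ ∈ uutGL k F := (uutGL k F).inv_mem ha
    have h2 := sqdg2_conj_mem τ 𝒮 h𝒮 hG1 a⁻¹ ha' _ hh
    rw [map_inv, inv_inv] at h2
    have e : (levHom τ a)⁻¹ * (levHom τ a * h * (levHom τ a)⁻¹) * levHom τ a = h := by group
    rw [e] at h2
    exact h2

end Cfsg.Agent.Lib.helper14.SQD
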