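import Cfsg.Agent.Lib.Helper24.SQD.DefsO
import Cfsg.Agent.Lib.Helper21.SQDOA4
import Cfsg.Agent.Lib.helper2.SQDOG1
import Cfsg.Agent.Lib.Lead.SQDG1

set_option autoImplicit false

namespace Cfsg.Agent.Lib.helper14.SQD

open Cfsg Cfsg.Lie Matrix

universe u v

variable {k : ℕ} {F : Type u} [Field F] {H : Type v} [Group H]

theorem sqdog3_h24_third (hk : 3 ≤ k) (i j : Fin k) : ∃ l : Fin k, l ≠ i ∧ l ≠ j := by
  by_contra hcon
  push Not at hcon
  have hsub : (Finset.univ : Finset (Fin k)) ⊆ {i, j} := by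
    intro l _
    by_cases h : l = i
    · rw [h]; exact Finset.mem_insert_self _ _
    · rw [hcon l h]
      exact Finset.mem_insert_of_mem (Finset.mem_singleton_self _)
  have h1 := Finset.card_le_card hsub
  have h2 : ({i, j} : Finset (Fin k)).card ≤ 2 := Finset.card_le_two
  rw [Finset.card_univ, Fintype.card_fin] at h1
  omega

theorem sqdog3_h24_mat (i j l : Fin k) (hlj : l ≠ j) (c : F) :
    Matrix.transvection i l c * (Matrix.single l j (1 : F) + Matrix.single j l (1 : F)) *
        tadj (RingHom.id F) (Matrix.transvection i l c) -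
      (Matrix.single l j (1 : F) + Matrix.single j l (1 : F)) =
      Matrix.single i j c + Matrix.single j i c := by
  have ht : tadj (RingHom.id F) (Matrix.transvection i l c) = 1 + Matrix.single l i c := by
    unfold tadj
    rw [Matrix.transvection, Matrix.map_add (RingHom.id F) (fun _ _ => rfl), Matrix.transpose_add]
    congr 1
    · ext x y
      simp [Matrix.one_apply, eq_comm]
    · ext x y
      simp [Matrix.single_apply, and_comm]
  have hjl : j ≠ l := fun h => hlj h.symm
  have h1 : Matrix.single i l c * Matrix.single j l (1 : F) = 0 :=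
    Matrix.single_mul_single_of_ne c i l j hlj 1
  have h2 : Matrix.single l j (1 : F) * Matrix.single l i c = 0 :=
    Matrix.single_mul_single_of_ne 1 l j l hjl c
  have h3 : Matrix.single i j c * Matrix.single l i c = 0 :=
    Matrix.single_mul_single_of_ne c i j l hjl c
  rw [ht, Matrix.transvection]
  simp only [Matrix.add_mul, Matrix.mul_add, Matrix.single_mul_single_same, h1, h2, h3, mul_one, one_mul,
    Matrix.zero_mul]
  abel

theorem sqdog3_h24_gen (φ : GL (Fin k ⊕ Fin k) F →* H) (O : Subgroup H) (hk : 3 ≤ k)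
    (hlev : ∀ g : GL (Fin k) F, φ (levHom (RingHom.id F) g) ∈ O)
    (hsieg : ∀ S ∈ altAdd k F, φ (siegHom (Multiplicative.ofAdd S)) ∈ O)
    (i j : Fin k) (c : F) :
    φ (siegHom (Multiplicative.ofAdd (Matrix.single i j c + Matrix.single j i c))) ∈ ⁅O, O⁆ := by
  obtain ⟨l, hli, hlj⟩ := sqdog3_h24_third hk i j
  obtain ⟨g, hg⟩ := exists_transvection_unit (R := F) i l (fun h => hli h.symm) c
  have hS₀ : Matrix.single l j (1 : F) + Matrix.single j l (1 : F) ∈ altAdd k F := by
    refine ⟨?_, fun x => ?_⟩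
    · rw [Matrix.transpose_add, Matrix.transpose_single, Matrix.transpose_single, add_comm]
    · rw [Matrix.add_apply, Matrix.single_apply, Matrix.single_apply]
      have h1 : ¬ (l = x ∧ j = x) := fun h => hlj (h.1.trans h.2.symm)
      have h2 : ¬ (j = x ∧ l = x) := fun h => hlj (h.2.trans h.1.symm)
      rw [if_neg h1, if_neg h2, add_zero]
  have hG1 := lev_conj_sieg (RingHom.id F) g (Matrix.single l j (1 : F) + Matrix.single j l (1 : F))
  have hcomm : levHom (RingHom.id F) g *
      siegHom (Multiplicative.ofAdd (Matrix.single l j (1 : F) + Matrix.single j l (1 : F))) *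
      (levHom (RingHom.id F) g)⁻¹ *
      (siegHom (Multiplicative.ofAdd (Matrix.single l j (1 : F) + Matrix.single j l (1 : F))))⁻¹ =
      siegHom (Multiplicative.ofAdd (Matrix.single i j c + Matrix.single j i c)) := by
    rw [hG1, ← map_inv, ← map_mul, ← ofAdd_neg, ← ofAdd_add, hg, ← sub_eq_add_neg,
      sqdog3_h24_mat i j l hlj c]
  rw [← hcomm, map_mul, map_mul, map_mul, map_inv, map_inv]
  exact Subgroup.commutator_mem_commutator (hlev g) (hsieg _ hS₀)

theorem sqdog3_h24_sieg_le_comm (φ : GL (Fin k ⊕ Fin k) F →* H) (O : Subgroup H) (hk : 3 ≤ k)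
    (hlev : ∀ g : GL (Fin k) F, φ (levHom (RingHom.id F) g) ∈ O)
    (hsieg : ∀ S ∈ altAdd k F, φ (siegHom (Multiplicative.ofAdd S)) ∈ O) :
    (siegGrp (altAdd k F)).map φ ≤ ⁅O, O⁆ := by
  rintro h ⟨s, hs, rfl⟩
  obtain ⟨S, hS, rfl⟩ := Subgroup.mem_map.mp hs
  have hS' : Multiplicative.toAdd S ∈ altAdd k F := hS
  have hcl := alt_mem_closure (Multiplicative.toAdd S) hS'
  have key : ∀ T : Matrix (Fin k) (Fin k) F,
      T ∈ AddSubgroup.closure {T : Matrix (Fin k) (Fin k) F |
        ∃ i j : Fin k, i ≠ j ∧ ∃ c : F, T = Matrix.single i j c + Matrix.single j i c} →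
      φ (siegHom (Multiplicative.ofAdd T)) ∈ ⁅O, O⁆ := by
    intro T hT
    induction hT using AddSubgroup.closure_induction with
    | mem x hx =>
      obtain ⟨i, j, -, c, rfl⟩ := hx
      exact sqdog3_h24_gen φ O hk hlev hsieg i j c
    | zero =>
      rw [ofAdd_zero, map_one, map_one]
      exact Subgroup.one_mem _
    | add x y _ _ hx hy =>
      rw [ofAdd_add, map_mul, map_mul]
      exact Subgroup.mul_mem _ hx hy
    | neg x _ hx =>
      rw [ofAdd_neg, map_inv, map_inv]
      exact Subgroup.inv_mem _ hx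
  have := key _ hcl
  rw [ofAdd_toAdd] at this
  exact this

end Cfsg.Agent.Lib.helper14.SQD
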