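import Cfsg.Agent.Lib.Helper13.SQDOM2
import Cfsg.Agent.Lib.Helper28.SQDOM6AB
import Cfsg.Agent.Lib.Helper10.SQDOM8
import Cfsg.Agent.Lib.Helper16.SQDOM9
import Cfsg.Agent.Lib.Helper21.SQDH4
import Cfsg.Agent.Lib.Helper29.SQDH1

set_option autoImplicit false

namespace Cfsg.Agent.Lib.helper14.SQD

open Cfsg Cfsg.Lie Matrix

universe u

variable {k : ℕ} {F : Type u} [Field F] (a b : F)

def sqdom10a_h24_tv (i j : Fin k) (hij : i ≠ j) (t : F) : GL (Fin k) F :=
  ⟨Matrix.transvection i j t, Matrix.transvection i j (-t),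
    by rw [Matrix.transvection_mul_transvection_same i j hij, add_neg_cancel, Matrix.transvection_zero],
    by rw [Matrix.transvection_mul_transvection_same i j hij, neg_add_cancel, Matrix.transvection_zero]⟩

theorem sqdom10a_h24_tv_coe (i j : Fin k) (hij : i ≠ j) (t : F) :
    ((sqdom10a_h24_tv i j hij t : GL (Fin k) F) : Matrix (Fin k) (Fin k) F) = Matrix.transvection i j t := rfl

theorem sqdom10a_h24_omC_std (R : Matrix (Fin 2) (Fin k) F) : omC a b R (Rᵀ * omN a b * R) := by
  intro y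
  rw [sqdom2_sandwich]
  simp only [omQ0, omN, dotProduct, Matrix.mulVec, Fin.sum_univ_two, Matrix.of_apply,
    Matrix.cons_val', Matrix.cons_val_zero, Matrix.cons_val_one, Matrix.empty_val',
    Matrix.cons_val_fin_one]
  ring

theorem sqdom10a_h24_col (i j : Fin k) (w : Fin 2 → F) :
    Matrix.vecMulVec w (Pi.single j (1 : F)) * tadj (RingHom.id F) (Matrix.transvection i j (1 : F)) +
      -Matrix.vecMulVec w (Pi.single j (1 : F)) = Matrix.vecMulVec w (Pi.single i (1 : F)) := by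
  rw [sqdom2_tadj_id, Matrix.transvection, Matrix.transpose_add, Matrix.transpose_one, Matrix.mul_add,
    Matrix.mul_one, Matrix.transpose_single]
  have h : Matrix.vecMulVec w (Pi.single j (1 : F)) * Matrix.single j i (1 : F) =
      Matrix.vecMulVec w (Pi.single i (1 : F)) := by
    ext l c
    rw [Matrix.mul_apply]
    simp only [Matrix.vecMulVec_apply, Matrix.single_apply, Pi.single_apply]
    rw [Finset.sum_eq_single j]
    · by_cases hc : i = c
      · subst hc; simp
      · have hc' : ¬ c = i := fun h => hc h.symm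
        simp [hc, hc']
    · intro s _ hs
      simp [hs]
    · intro h
      exact absurd (Finset.mem_univ j) h
  rw [h]
  abel

theorem sqdom10a_h24_hs_col_mem_comm [CharP F 2] (hk : 2 ≤ k) (i : Fin k) (w : Fin 2 → F) :
    ∃ C : Matrix (Fin k) (Fin k) F, omC a b (Matrix.vecMulVec w (Pi.single i 1)) C ∧
      ∀ u : GL ((Fin k ⊕ Fin k) ⊕ Fin 2) F,
        (u : Matrix ((Fin k ⊕ Fin k) ⊕ Fin 2) ((Fin k ⊕ Fin k) ⊕ Fin 2) F) =
          hsM (RingHom.id F) (omG0 a) (Matrix.vecMulVec w (Pi.single i 1)) C →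
        u ∈ ⁅isometryGroup F (quadFormMinus k F a b), isometryGroup F (quadFormMinus k F a b)⁆ := by
  obtain ⟨j, hij⟩ : ∃ j : Fin k, i ≠ j := by
    by_cases h0 : i = ⟨0, by omega⟩
    · refine ⟨⟨1, by omega⟩, ?_⟩
      rw [h0]
      intro h
      have := congrArg Fin.val h
      simp at this
    · exact ⟨⟨0, by omega⟩, h0⟩
  set R' : Matrix (Fin 2) (Fin k) F := Matrix.vecMulVec w (Pi.single j (1 : F)) with hR'
  set C' : Matrix (Fin k) (Fin k) F := R'ᵀ * omN a b * R' with hC'
  have hRC' : omC a b R' C' := sqdom10a_h24_omC_std a b R'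
  set g : GL (Fin k) F := sqdom10a_h24_tv i j hij 1 with hg
  set gm : Matrix (Fin k) (Fin k) F := Matrix.transvection i j (1 : F) with hgm
  have hP := omC_props (k := k) a b
  have h1 : omC a b (R' * tadj (RingHom.id F) gm) (gm * C' * tadj (RingHom.id F) gm) :=
    omC_lev a b gm R' C' hRC'
  have h2 : omC a b (-R') (-C' + tadj (RingHom.id F) R' * omG0 a * R') := hP.2.2 R' C' hRC'
  have h3 := hP.2.1 _ _ _ _ h1 h2
  rw [sqdom10a_h24_col i j w] at h3
  refine ⟨_, h3, ?_⟩
  intro u hu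
  set h : GL ((Fin k ⊕ Fin k) ⊕ Fin 2) F := sqdom6ab_unit (RingHom.id F) (omG0 a) R' C' with hh
  set x : GL ((Fin k ⊕ Fin k) ⊕ Fin 2) F := embGL 2 (levHom (RingHom.id F) g) with hx
  set w' : GL ((Fin k ⊕ Fin k) ⊕ Fin 2) F := sqdom6ab_unit (RingHom.id F) (omG0 a)
    (R' * tadj (RingHom.id F) gm) (gm * C' * tadj (RingHom.id F) gm) with hw'
  have hconj : x * h * x⁻¹ = w' :=
    lev_conj_hs (RingHom.id F) (omG0 a) (fun _ => rfl) g R' C' h w' rfl rfl
  have hxO : x ∈ isometryGroup F (quadFormMinus k F a b) := emb_lev_mem_iso_minus a b g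
  have hhO : h ∈ isometryGroup F (quadFormMinus k F a b) :=
    hs_mem_iso_minus a b R' C' hRC' h rfl
  have hu' : u = x * h * x⁻¹ * h⁻¹ := by
    rw [hconj]
    apply Units.ext
    rw [Units.val_mul, hu]
    show _ = hsM (RingHom.id F) (omG0 a) (R' * tadj (RingHom.id F) gm) (gm * C' * tadj (RingHom.id F) gm) *
      hsM (RingHom.id F) (omG0 a) (-R') (-C' + tadj (RingHom.id F) R' * omG0 a * R')
    rw [hsM_mul, sqdom10a_h24_col i j w]
  rw [hu']
  exact Subgroup.commutator_mem_commutator hxO hhO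

end Cfsg.Agent.Lib.helper14.SQD
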