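import Cfsg.Agent.Lib.Helper24.SQD.DefsO
import Cfsg.Agent.Lib.Helper29.SQDH1

set_option autoImplicit false

namespace Cfsg.Agent.Lib.helper14.SQD

open Cfsg Cfsg.Lie Matrix

universe u

variable {k : ℕ} {F : Type u} [Field F] (a b : F)

theorem sqdom10b_h24_sum_cols (R : Matrix (Fin 2) (Fin k) F) :
    R = ∑ i : Fin k, Matrix.vecMulVec (fun l => R l i) (Pi.single i (1 : F)) := by
  ext l j
  rw [Matrix.sum_apply]
  simp only [Matrix.vecMulVec_apply, Pi.single_apply]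
  simp

theorem sqdom10b_h24_core
    (D : Subgroup (GL ((Fin k ⊕ Fin k) ⊕ Fin 2) F))
    (hOM10A : ∀ (i : Fin k) (w : Fin 2 → F),
      ∃ C : Matrix (Fin k) (Fin k) F, omC a b (Matrix.vecMulVec w (Pi.single i 1)) C ∧
        ∀ u : GL ((Fin k ⊕ Fin k) ⊕ Fin 2) F,
          (u : Matrix ((Fin k ⊕ Fin k) ⊕ Fin 2) ((Fin k ⊕ Fin k) ⊕ Fin 2) F) =
            hsM (RingHom.id F) (omG0 a) (Matrix.vecMulVec w (Pi.single i 1)) C → u ∈ D)
    (hOM2 : omC (k := k) a b 0 0 ∧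
      (∀ R C R' C', omC (k := k) a b R C → omC a b R' C' →
        omC a b (R + R') (C + C' + tadj (RingHom.id F) R * omG0 a * R')) ∧
      ∀ R C, omC (k := k) a b R C → omC a b (-R) (-C + tadj (RingHom.id F) R * omG0 a * R))
    (hOM4c : ∀ (R : Matrix (Fin 2) (Fin k) F) (C C' : Matrix (Fin k) (Fin k) F),
      omC a b R C → omC a b R C' → C - C' ∈ altAdd k F)
    (hOM6a : ∀ (R : Matrix (Fin 2) (Fin k) F) (C : Matrix (Fin k) (Fin k) F),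
      ∃ w : GL ((Fin k ⊕ Fin k) ⊕ Fin 2) F,
        (w : Matrix ((Fin k ⊕ Fin k) ⊕ Fin 2) ((Fin k ⊕ Fin k) ⊕ Fin 2) F) = hsM (RingHom.id F) (omG0 a) R C)
    (hOM6b : ∀ S : Matrix (Fin k) (Fin k) F,
      ((embGL 2 (siegHom (Multiplicative.ofAdd S)) : GL ((Fin k ⊕ Fin k) ⊕ Fin 2) F) :
        Matrix ((Fin k ⊕ Fin k) ⊕ Fin 2) ((Fin k ⊕ Fin k) ⊕ Fin 2) F) = hsM (RingHom.id F) (omG0 a) 0 S)
    (hsieg : ∀ S ∈ altAdd k F, embGL 2 (siegHom (Multiplicative.ofAdd S)) ∈ D) :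
    hsGrp (RingHom.id F) (omG0 a) (omC (k := k) a b) ≤ D := by
  have hP : ∀ R : Matrix (Fin 2) (Fin k) F, ∃ C : Matrix (Fin k) (Fin k) F, omC a b R C ∧
      ∀ u : GL ((Fin k ⊕ Fin k) ⊕ Fin 2) F,
        (u : Matrix ((Fin k ⊕ Fin k) ⊕ Fin 2) ((Fin k ⊕ Fin k) ⊕ Fin 2) F) =
          hsM (RingHom.id F) (omG0 a) R C → u ∈ D := by
    intro R
    rw [sqdom10b_h24_sum_cols R]
    refine Finset.sum_induction _ (fun R => ∃ C : Matrix (Fin k) (Fin k) F, omC a b R C ∧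
      ∀ u : GL ((Fin k ⊕ Fin k) ⊕ Fin 2) F,
        (u : Matrix ((Fin k ⊕ Fin k) ⊕ Fin 2) ((Fin k ⊕ Fin k) ⊕ Fin 2) F) =
          hsM (RingHom.id F) (omG0 a) R C → u ∈ D) ?_ ?_ ?_
    · rintro R₁ R₂ ⟨C₁, hC₁, h₁⟩ ⟨C₂, hC₂, h₂⟩
      refine ⟨C₁ + C₂ + tadj (RingHom.id F) R₁ * omG0 a * R₂, hOM2.2.1 R₁ C₁ R₂ C₂ hC₁ hC₂, ?_⟩
      intro u hu
      obtain ⟨w₁, hw₁⟩ := hOM6a R₁ C₁
      obtain ⟨w₂, hw₂⟩ := hOM6a R₂ C₂
      have e : u = w₁ * w₂ := by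
        apply Units.ext
        rw [Units.val_mul, hu, hw₁, hw₂, hsM_mul]
      rw [e]
      exact D.mul_mem (h₁ w₁ hw₁) (h₂ w₂ hw₂)
    · refine ⟨0, hOM2.1, ?_⟩
      intro u hu
      have e : u = 1 := by
        apply Units.ext
        rw [hu, hsM_zero, Units.val_one]
      rw [e]
      exact D.one_mem
    · intro i _
      exact hOM10A i _
  unfold hsGrp
  rw [Subgroup.closure_le]
  rintro g ⟨R, C, hC, hg⟩
  obtain ⟨C', hC', h'⟩ := hP R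
  obtain ⟨w', hw'⟩ := hOM6a R C'
  have hS : C - C' ∈ altAdd k F := hOM4c R C C' hC hC'
  have e : g = w' * embGL 2 (siegHom (Multiplicative.ofAdd (C - C'))) := by
    apply Units.ext
    rw [Units.val_mul, hg, hw', hOM6b, hsM_mul]
    congr 1
    · rw [add_zero]
    · rw [Matrix.mul_zero, add_zero]
      abel
  rw [SetLike.mem_coe, e]
  exact D.mul_mem (h' w' hw') (hsieg _ hS)

end Cfsg.Agent.Lib.helper14.SQD
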