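import Cfsg.Agent.Lib.Helper24.SQDOP6core
import Cfsg.Agent.Lib.Helper24.SQDOG3h24
import Cfsg.Agent.Lib.Helper24.SQDOM10Bh24
import Cfsg.Agent.Lib.Helper29.SQDOM10A
import Cfsg.Agent.Lib.Helper13.SQDOM2
import Cfsg.Agent.Lib.Helper28.SQDOM4
import Cfsg.Agent.Lib.Helper28.SQDOM6AB
import Cfsg.Agent.Lib.Helper16.SQDOM9
import Cfsg.Agent.Lib.Helper16.SQDOM11core
import Cfsg.Agent.Lib.Helper18.SQDOM7
import Cfsg.Agent.Lib.Helper26.SQDOG2
import Cfsg.Agent.Lib.Helper9.SQDOW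
import Cfsg.Agent.Lib.helper8.SQDOM12
import Cfsg.Agent.Lib.helper8.SQDOM13

set_option autoImplicit false

namespace Cfsg.Agent.Lib.helper14.SQD

open Cfsg Cfsg.Lie Matrix

universe u v

theorem sqdom14_hsO_le_comm {k : ℕ} {F : Type u} [Field F] (a b : F) [CharP F 2] (hk : 3 ≤ k) :
    hsGrp (RingHom.id F) (omG0 a) (omC (k := k) a b) ≤
      ⁅isometryGroup F (quadFormMinus k F a b), isometryGroup F (quadFormMinus k F a b)⁆ :=
  sqdom10b_h24_core a b _ (hs_col_mem_comm a b (by omega)) (omC_props a b) (omC_sub_alt a b)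
    (exists_hs_unit (RingHom.id F) (omG0 a)) (hsM_zero_left _ _)
    (fun S hS => sqdog3_h24_sieg_le_comm (embGL 2) _ hk (emb_lev_mem_iso_minus a b)
      (emb_sieg_mem_iso_minus a b) (Subgroup.mem_map_of_mem _ (Subgroup.mem_map_of_mem _ hS)))

theorem sqdom14_omGrp_le_range {k : ℕ} {F : Type u} [Field F] (a b : F) [CharP F 2] (hk : 3 ≤ k) :
    omGrp (k := k) a b ≤ (omegaToGL F (quadFormMinus k F a b)).range :=
  omGrp_le_range_core a b (sqdom14_hsO_le_comm a b hk)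
    (lev_le_comm (embGL 2) _ hk (RingHom.id F) (emb_lev_mem_iso_minus a b))

theorem good2_pomega_minus {F : Type} [Field F] [Fintype F] [CharP F 2] (m : ℕ) (hm : 4 ≤ m) (a b : F)
    (hab : ∀ z₁ z₂ : F, z₁ ^ 2 + a * z₁ * z₂ + b * z₂ ^ 2 = 0 → z₁ = 0 ∧ z₂ = 0) :
    Good2 (POmega F (quadFormMinus (m - 1) F a b)) :=
  sqdom14_core m (by omega) a b (omGrp_good a b) (sqdom14_omGrp_le_range a b (by omega))
    (omegaToGL_injective _) (omega_minus_center (m - 1) (by omega) a b hab)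
    (fun f hF => card_pomega_minus_two_part f hF m hm a b hab)

end Cfsg.Agent.Lib.helper14.SQD
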