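import Cfsg.Agent.Lib.Helper24.SQDOP6core
import Cfsg.Agent.Lib.Helper24.SQDOG3h24
import Cfsg.Agent.Lib.Helper13.SQDG5
import Cfsg.Agent.Lib.Helper22.SQDOA3
import Cfsg.Agent.Lib.Helper21.SQDOA5
import Cfsg.Agent.Lib.Helper26.SQDOG2
import Cfsg.Agent.Lib.Helper9.SQDOW
import Cfsg.Agent.Lib.helper15.SQDOP1
import Cfsg.Agent.Lib.Helper25.SQDOP2
import Cfsg.Agent.Lib.Helper11.SQDOP3core
import Cfsg.Agent.Lib.Helper11.SQDOP4
import Cfsg.Agent.Lib.helper8.SQDOP5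

set_option autoImplicit false

namespace Cfsg.Agent.Lib.helper14.SQD

open Cfsg Cfsg.Lie Matrix

universe u v

theorem sqdop6_sg_le_comm {k : ℕ} {F : Type u} [Field F] {H : Type v} [Group H]
    (φ : GL (Fin k ⊕ Fin k) F →* H) (O : Subgroup H) (hk : 3 ≤ k)
    (hlev : ∀ g : GL (Fin k) F, φ (levHom (RingHom.id F) g) ∈ O)
    (hsieg : ∀ S ∈ altAdd k F, φ (siegHom (Multiplicative.ofAdd S)) ∈ O) :
    (sgGrp (RingHom.id F) (altAdd k F)).map φ ≤ ⁅O, O⁆ := by
  unfold sgGrp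
  rw [Subgroup.map_sup]
  exact sup_le (sqdog3_h24_sieg_le_comm φ O hk hlev hsieg) (lev_le_comm φ O hk (RingHom.id F) hlev)

theorem sqdop6_sgP_le_range {k : ℕ} {F : Type u} [Field F] [CharP F 2] (hk : 3 ≤ k) :
    sgGrp (RingHom.id F) (altAdd k F) ≤ (omegaToGL F (quadFormPlus k F)).range :=
  sqdop3_core hk (omegaToGL_range _)
    (fun φ O hk hlev hsieg => sqdop6_sg_le_comm φ O hk hlev hsieg)
    (fun g => lev_mem_iso_plus g) (fun S hS => sieg_mem_iso_plus S hS)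

theorem good2_pomega_plus {F : Type} [Field F] [Fintype F] [CharP F 2] (m : ℕ) (hm : 4 ≤ m) :
    Good2 (POmega F (quadFormPlus m F)) :=
  sqdop6_core m (sgGrp_good (RingHom.id F) (altAdd m F) (fun A _ S hS => alt_stable A S hS))
    (card_alt_ge m) (sqdop6_sgP_le_range (by omega)) (omegaToGL_injective _) (omega_plus_center (by omega))
    (fun f hF => card_pomega_plus_two_part f hF m hm)

end Cfsg.Agent.Lib.helper14.SQD
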