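import Cfsg.Agent.Lib.Helper24.SQD.DefsO
import Cfsg.Agent.Lib.Helper1.SQDX4
import Cfsg.Agent.Lib.Helper18.SQDX2

set_option autoImplicit false

namespace Cfsg.Agent.Lib.helper14.SQD

open Cfsg Cfsg.Lie Matrix

theorem sqdop6_generic {ι : Type} [Fintype ι] [DecidableEq ι] {F : Type} [Field F] [Fintype F]
    (Q : (ι → F) → F) (K : Subgroup (GL ι F)) (N : ℕ)
    (hKp : IsPGroup 2 K) (hKc : 2 ^ N ≤ Nat.card K) (hKs : SqD K)
    (hrange : K ≤ (omegaToGL F Q).range) (hinj : Function.Injective (omegaToGL F Q))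
    (hcenter : Subgroup.center ↥(Omega F Q) = ⊥)
    (h2 : ∃ r, Nat.card (POmega F Q) = 2 ^ N * r ∧ ¬ 2 ∣ r) : Good2 (POmega F Q) := by
  obtain ⟨r, hr, hodd⟩ := h2
  have hUp : IsPGroup 2 (K.comap (omegaToGL F Q)) := hKp.comap_of_injective _ hinj
  have hUc : 2 ^ N ≤ Nat.card (K.comap (omegaToGL F Q)) := by
    rw [card_comap (omegaToGL F Q) hinj K hrange]
    exact hKc
  have hUs : SqD (K.comap (omegaToGL F Q)) := sqd_comap (omegaToGL F Q) hinj K hrange hKs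
  have hZ : K.comap (omegaToGL F Q) ⊓ Subgroup.center ↥(Omega F Q) = ⊥ := by
    rw [hcenter, inf_bot_eq]
  exact good2_quot_card (Subgroup.center ↥(Omega F Q)) (K.comap (omegaToGL F Q)) N r hUp hUc hZ hr hodd hUs

theorem sqdop6_pow_arith (q f N : ℕ) (hq : q = 2 ^ f) : q ^ (N / 2) * q ^ (N / 2) = 2 ^ (f * (N / 2 * 2)) := by
  rw [hq, ← pow_add, ← pow_mul]
  congr 1
  ring

theorem sqdop6_core {F : Type} [Field F] [Fintype F] [CharP F 2] (m : ℕ)
    (hG5 : IsPGroup 2 ↥(sgGrp (RingHom.id F) (altAdd m F)) ∧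
      Nat.card (altAdd m F) * Fintype.card F ^ (m * (m - 1) / 2) ≤
        Nat.card ↥(sgGrp (RingHom.id F) (altAdd m F)) ∧ SqD (sgGrp (RingHom.id F) (altAdd m F)))
    (hOA5 : Fintype.card F ^ (m * (m - 1) / 2) ≤ Nat.card (altAdd m F))
    (hOP3 : sgGrp (RingHom.id F) (altAdd m F) ≤ (omegaToGL F (quadFormPlus m F)).range)
    (hOW1 : Function.Injective (omegaToGL F (quadFormPlus m F)))
    (hOP4 : Subgroup.center ↥(Omega F (quadFormPlus m F)) = ⊥)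
    (hOP5 : ∀ f : ℕ, Fintype.card F = 2 ^ f →
      ∃ r, Nat.card (POmega F (quadFormPlus m F)) = 2 ^ (f * (m * (m - 1))) * r ∧ ¬ 2 ∣ r) :
    Good2 (POmega F (quadFormPlus m F)) := by
  obtain ⟨n, -, hn⟩ := FiniteField.card F 2
  obtain ⟨hKp, hKc, hKs⟩ := hG5
  have heven : m * (m - 1) / 2 * 2 = m * (m - 1) :=
    Nat.div_mul_cancel (Nat.even_mul_pred_self m).two_dvd
  refine sqdop6_generic (quadFormPlus m F) (sgGrp (RingHom.id F) (altAdd m F)) ((n : ℕ) * (m * (m - 1)))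
    hKp ?_ hKs hOP3 hOW1 hOP4 (hOP5 n hn)
  have h1 := sqdop6_pow_arith (Fintype.card F) n (m * (m - 1)) hn
  rw [heven] at h1
  rw [← h1]
  exact le_trans (Nat.mul_le_mul_right _ hOA5) hKc

theorem sqdom14_arith (q f m : ℕ) (hm : 1 ≤ m) (hq : q = 2 ^ f) :
    q ^ (2 * (m - 1)) * q ^ ((m - 1) * (m - 1 - 1) / 2) * q ^ ((m - 1) * (m - 1 - 1) / 2) =
      2 ^ (f * (m * (m - 1))) := by
  obtain ⟨k, rfl⟩ : ∃ k, m = k + 1 := ⟨m - 1, by omega⟩
  have heven : k * (k - 1) / 2 * 2 = k * (k - 1) :=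
    Nat.div_mul_cancel (Nat.even_mul_pred_self k).two_dvd
  have h1 : 2 * k + k * (k - 1) / 2 + k * (k - 1) / 2 = (k + 1) * k := by
    have h2 : k * (k - 1) + 2 * k = (k + 1) * k := by
      rcases k with _ | j
      · rfl
      · simp only [Nat.add_sub_cancel]; ring
    omega
  rw [hq, ← pow_add, ← pow_add, ← pow_mul]
  congr 1
  simp only [Nat.add_sub_cancel]
  rw [h1]

theorem sqdom14_core {F : Type} [Field F] [Fintype F] [CharP F 2] (m : ℕ) (hm : 1 ≤ m) (a b : F)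
    (hOM7 : IsPGroup 2 ↥(omGrp (k := m - 1) a b) ∧
      Fintype.card F ^ (2 * (m - 1)) * Fintype.card F ^ ((m - 1) * (m - 1 - 1) / 2) *
        Fintype.card F ^ ((m - 1) * (m - 1 - 1) / 2) ≤ Nat.card ↥(omGrp (k := m - 1) a b) ∧
      SqD (omGrp (k := m - 1) a b))
    (hOM11 : omGrp (k := m - 1) a b ≤ (omegaToGL F (quadFormMinus (m - 1) F a b)).range)
    (hOW1 : Function.Injective (omegaToGL F (quadFormMinus (m - 1) F a b)))
    (hOM12 : Subgroup.center ↥(Omega F (quadFormMinus (m - 1) F a b)) = ⊥)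
    (hOM13 : ∀ f : ℕ, Fintype.card F = 2 ^ f →
      ∃ r, Nat.card (POmega F (quadFormMinus (m - 1) F a b)) = 2 ^ (f * (m * (m - 1))) * r ∧ ¬ 2 ∣ r) :
    Good2 (POmega F (quadFormMinus (m - 1) F a b)) := by
  obtain ⟨n, -, hn⟩ := FiniteField.card F 2
  obtain ⟨hKp, hKc, hKs⟩ := hOM7
  refine sqdop6_generic (quadFormMinus (m - 1) F a b) (omGrp (k := m - 1) a b) ((n : ℕ) * (m * (m - 1)))
    hKp ?_ hKs hOM11 hOW1 hOM12 (hOM13 n hn)
  rw [← sqdom14_arith (Fintype.card F) n m hm hn]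
  exact hKc

end Cfsg.Agent.Lib.helper14.SQD
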