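import Mathlib
import Cfsg.Agent.Lib.helper15.St2
import Cfsg.Agent.Lib.helper7.StA
import Cfsg.Agent.Lib.helper7.StC
import Cfsg.Agent.Lib.helper7.StE
import Cfsg.Agent.Lib.Helper24.STCI1
import Cfsg.Agent.Lib.Helper24.STCW14core
import Cfsg.Agent.Lib.helper23.STCX2
import Cfsg.Agent.Lib.Helper27.STU.Defs
import Cfsg.Agent.Lib.Helper27.STU.Defs2
import Cfsg.Agent.Lib.Helper24.STUB1
import Cfsg.Agent.Lib.Helper24.STUM0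
import Cfsg.Agent.Lib.Helper24.STUM1
import Cfsg.Agent.Lib.Helper24.STUH6
import Cfsg.Agent.Lib.Helper16.STUH1
import Cfsg.Agent.Lib.helper2.STUV3
import Cfsg.Agent.Lib.Helper22.STUN1
import Cfsg.Agent.Lib.Helper26.STUN3

set_option autoImplicit false

namespace Cfsg.Agent.Lib.Helper27.STU

open Cfsg.Agent.Lib.helper15.St2 Cfsg.Agent.Lib.helper7.St Cfsg.Agent.Lib.helper3.STC

section aux

variable {F : Type*} [Field F] [StarRing F] {ι : Type*} [DecidableEq ι]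

theorem stuf11_dws_b {a b : ι ⊕ ι} (hab : a ≠ b) (u : F) : dws a b u b = u := by
  unfold dws; rw [if_neg hab.symm, if_pos rfl]

end aux

namespace SysU

variable {F : Type*} [Field F] [StarRing F] {od : Prop} {ι : Type*} {G : Type*} [Group G] (S : SysU F od ι G)

section F
variable [DecidableEq ι] (ξ₀ : Lam F od) (o : ι ⊕ ι)

omit [DecidableEq ι] in
theorem stuf11_NP_mul {n n' : G} (h : S.NP o n) (h' : S.NP o n') : S.NP o (n * n') := by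
  refine ⟨mul_mem h.1 h'.1, fun y hy => ?_⟩
  rw [← cj_cj]
  exact h.2 _ (h'.2 y hy)

theorem stuf11_NP_hs (hH : S.HH) {b : ι ⊕ ι} (hb : b ≠ o) (hb' : b ≠ ng o) {t : F} (ht : t ≠ 0) : S.NP o (S.hs o b t) :=
  ⟨S.hs_mem_Phat o hb hb' ht, IsMon.cj_mem_Yg S o (hH.1 o b hb.symm (stub1_ng_ne hb') t ht) rfl⟩

theorem stuf11_NP_hl (hH : S.HH) {ξ η : Lam F od} (hξ : ξ.c ≠ 0) (hη : η.c ≠ 0) : S.NP o (S.hl o ξ η) :=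
  ⟨S.hl_mem_Phat o hξ hη, IsMon.cj_mem_Yg S o (hH.2 o ξ η hξ hη) rfl⟩

theorem stuf11_NP_ws (hW : S.HW) {a b : ι ⊕ ι} (hab : a ≠ b) (hab' : a ≠ ng b) (ha : a ≠ o) (ha' : a ≠ ng o) (hb : b ≠ o) (hb' : b ≠ ng o) {u : F}
    (hu : u ≠ 0) : S.NP o (S.ws a b u) :=
  ⟨S.Pg_le_Phat o (S.Lg_le_Pg o (S.ws_mem_Lg o hab hab' ha ha' hb hb' u)),
    IsMon.cj_mem_Yg S o (hW.1 a b hab hab' u hu) (stcw14_sws_of_ne ha.symm hb.symm (stub1_ng_ne ha') (stub1_ng_ne hb'))⟩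

theorem stuf11_NP_wl (hW : S.HW) {a : ι ⊕ ι} (ha : a ≠ o) (ha' : a ≠ ng o) {ξ : Lam F od} (hξ : ξ.c ≠ 0) : S.NP o (S.wl a ξ) :=
  ⟨S.Pg_le_Phat o (S.Lg_le_Pg o (S.wl_mem_Lg o ha ha' ξ)),
    IsMon.cj_mem_Yg S o (hW.2 a ξ hξ) (Equiv.swap_apply_of_ne_of_ne ha.symm (stub1_ng_ne ha'))⟩

theorem ww_same_s [Finite F] (hH : S.HH) {k : ι ⊕ ι} (hk : k ≠ o) (hk' : k ≠ ng o) : S.NP o (S.ws o k 1 * S.ws o k 1) := by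
  rw [S.ws_mul_ws hk.symm (stub1_ng_ne hk') 1 1 one_ne_zero one_ne_zero]
  exact S.stuf11_NP_hs o hH hk hk' (by simp)

theorem stuf11_inv_c_ne {ξ : Lam F od} (hξ : ξ.c ≠ 0) : (ξ⁻¹).c ≠ 0 := by
  rw [Lam.inv_c]
  exact fun h => hξ (by simpa using congrArg star h)

theorem ww_same_l (hH : S.HH) (hξ₀ : ξ₀.c ≠ 0) : S.NP o (S.wl o ξ₀ * S.wl o ξ₀) := by
  have hc' : (ξ₀⁻¹).c ≠ 0 := stuf11_inv_c_ne hξ₀
  have e : S.hl o ξ₀ ξ₀⁻¹ = S.wl o ξ₀ * S.wl o ξ₀ := by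
    unfold hl
    rw [S.wl_inv hc', inv_inv]
  rw [← e]
  exact S.stuf11_NP_hl o hH hξ₀ hc'

theorem ww_gen (hW : S.HW) {k j : ι ⊕ ι} (hk : k ≠ o) (hk' : k ≠ ng o) (hj : j ≠ o) (hj' : j ≠ ng o) (hkj : k ≠ j) (hkj' : k ≠ ng j) :
    ∃ n, S.NP o n ∧ S.ws o k 1 * S.ws o j 1 = S.ws o j 1 * n := by
  have hoj : o ≠ j := hj.symm
  have hoj' : o ≠ ng j := stub1_ng_ne hj'
  have hok : o ≠ k := hk.symm
  have hok' : o ≠ ng k := stub1_ng_ne hk'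
  have e : cj (S.ws o j (-1)) (S.ws o k 1) = S.ws j k 1 := by
    rw [IsMon.cj_ws S (hW.1 o j hoj hoj' (-1) (by simp)) hok hok' 1 one_ne_zero, stcw14_sws_a hoj',
      stcw14_sws_of_ne hk hkj hk' hkj', stuh6_dws_a, stuh6_dws_of_ne hk hkj hk' hkj']
    congr 1
    simp
  refine ⟨S.ws j k 1, S.stuf11_NP_ws o hW hkj.symm (stub1_ng_ne hkj') hj hj' hk hk' one_ne_zero, ?_⟩
  rw [← e, S.ws_neg hoj hoj']
  unfold cj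
  group

theorem ww_klong (hW : S.HW) (hξ₀ : ξ₀.c ≠ 0) {j : ι ⊕ ι} (hj : j ≠ o) (hj' : j ≠ ng o) :
    ∃ n, S.NP o n ∧ S.wl o ξ₀ * S.ws o j 1 = S.ws o j 1 * n := by
  have hoj : o ≠ j := hj.symm
  have hoj' : o ≠ ng j := stub1_ng_ne hj'
  have e : cj (S.ws o j (-1)) (S.wl o ξ₀) = S.wl j (Lam.act (-(-1 : F)⁻¹ * (1 : F)⁻¹) ξ₀) := by
    rw [IsMon.cj_wl S (hW.1 o j hoj hoj' (-1) (by simp)) o ξ₀, stcw14_sws_a hoj', stuh6_dws_a]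
  have hc : (Lam.act (-(-1 : F)⁻¹ * (1 : F)⁻¹) ξ₀).c ≠ 0 := by simpa using hξ₀
  refine ⟨_, S.stuf11_NP_wl o hW hj hj' hc, ?_⟩
  rw [← e, S.ws_neg hoj hoj']
  unfold cj
  group

theorem ww_jlong [Finite F] (hW : S.HW) (hH : S.HH) (hξ₀ : ξ₀.c ≠ 0) {k : ι ⊕ ι} (hk : k ≠ o) (hk' : k ≠ ng o) :
    ∃ n, S.NP o n ∧ S.ws o k 1 * S.wl o ξ₀ = S.ws o (ng k) 1 * n := by
  have hok : o ≠ k := hk.symm
  have hok' : o ≠ ng k := stub1_ng_ne hk'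
  have hok'' : o ≠ ng (ng k) := by rw [ng_ng]; exact hok
  have hnk : ng k ≠ o := hok'.symm
  have hnk' : ng k ≠ ng o := fun h => hk (ng_inj.mp h)
  have e1 : cj (S.ws o k 1) (S.wl o ξ₀) = S.wl k (Lam.act (-(1 : F)⁻¹ * (1 : F)⁻¹) ξ₀) := by
    rw [IsMon.cj_wl S (hW.1 o k hok hok' 1 one_ne_zero) o ξ₀, stcw14_sws_a hok', stuh6_dws_a]
  have hc : (Lam.act (-(1 : F)⁻¹ * (1 : F)⁻¹) ξ₀).c ≠ 0 := by simpa using hξ₀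
  have hsc : star (Lam.act (-(1 : F)⁻¹ * (1 : F)⁻¹) ξ₀).c ≠ 0 := fun h => hc (by simpa using congrArg star h)
  have hc1 : (1 : F) * ((star (Lam.act (-(1 : F)⁻¹ * (1 : F)⁻¹) ξ₀).c)⁻¹)⁻¹ * 1 ≠ 0 :=
    mul_ne_zero (mul_ne_zero one_ne_zero (inv_ne_zero (inv_ne_zero hsc))) one_ne_zero
  have e2 : cj (S.wl k (Lam.act (-(1 : F)⁻¹ * (1 : F)⁻¹) ξ₀)) (S.ws o k 1) =
      S.ws o (ng k) ((1 : F) * ((star (Lam.act (-(1 : F)⁻¹ * (1 : F)⁻¹) ξ₀).c)⁻¹)⁻¹ * 1) := by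
    rw [IsMon.cj_ws S (hW.2 k _ hc) hok hok' 1 one_ne_zero, Equiv.swap_apply_of_ne_of_ne hok hok',
      Equiv.swap_apply_left, stuh6_dwl_of_ne hok hok', stuh6_dwl_a]
  refine ⟨S.hs o (ng k) ((1 : F) * ((star (Lam.act (-(1 : F)⁻¹ * (1 : F)⁻¹) ξ₀).c)⁻¹)⁻¹ * 1)⁻¹ *
      S.wl k (Lam.act (-(1 : F)⁻¹ * (1 : F)⁻¹) ξ₀),
    S.stuf11_NP_mul o (S.stuf11_NP_hs o hH hnk hnk' (inv_ne_zero hc1)) (S.stuf11_NP_wl o hW hk hk' hc), ?_⟩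
  rw [← mul_assoc, ← S.ws_eq_ws_one_mul_hs hok' hok'' _ hc1, ← e2, ← e1]
  unfold cj
  group

theorem ww_opp [Finite F] (hW : S.HW) (hH : S.HH) (hξ₀ : ξ₀.c ≠ 0) {k : ι ⊕ ι} (hk : k ≠ o) (hk' : k ≠ ng o) :
    ∃ n, S.NP o n ∧ S.ws o k 1 * S.ws o (ng k) 1 = S.wl o ξ₀ * n := by
  have hok : o ≠ k := hk.symm
  have hok' : o ≠ ng k := stub1_ng_ne hk'
  have hok'' : o ≠ ng (ng k) := by rw [ng_ng]; exact hok
  have hnk : ng k ≠ o := hok'.symm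
  have hnk' : ng k ≠ ng o := fun h => hk (ng_inj.mp h)
  have hsc : star ξ₀.c ≠ 0 := fun h => hξ₀ (by simpa using congrArg star h)
  have hc1 : (1 : F) * ((star ξ₀.c)⁻¹)⁻¹ * 1 ≠ 0 :=
    mul_ne_zero (mul_ne_zero one_ne_zero (inv_ne_zero (inv_ne_zero hsc))) one_ne_zero
  have e1 : cj (S.wl k ξ₀) (S.ws o k 1) = S.ws o (ng k) ((1 : F) * ((star ξ₀.c)⁻¹)⁻¹ * 1) := by
    rw [IsMon.cj_ws S (hW.2 k ξ₀ hξ₀) hok hok' 1 one_ne_zero, Equiv.swap_apply_of_ne_of_ne hok hok',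
      Equiv.swap_apply_left, stuh6_dwl_of_ne hok hok', stuh6_dwl_a]
  have e2 := S.ws_eq_ws_one_mul_hs hok' hok'' _ hc1
  have e3 : cj (S.ws o k 1) (S.wl k ξ₀) = S.wl o ξ₀ := by
    rw [IsMon.cj_wl S (hW.1 o k hok hok' 1 one_ne_zero) k ξ₀, stcw14_sws_b hok', stuf11_dws_b hok, inv_one, mul_one,
      stum0_act_one]
  have e4 : (S.wl k ξ₀)⁻¹ = S.wl k ξ₀⁻¹ := S.wl_inv hξ₀
  have e5 : (S.hs o (ng k) ((1 : F) * ((star ξ₀.c)⁻¹)⁻¹ * 1)⁻¹)⁻¹ = S.hs o (ng k) ((1 : F) * ((star ξ₀.c)⁻¹)⁻¹ * 1)⁻¹⁻¹ :=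
    S.hs_inv hok' hok'' _ (inv_ne_zero hc1)
  refine ⟨S.ws o k 1 * S.ws o k 1 * (S.wl k ξ₀)⁻¹ * (S.hs o (ng k) ((1 : F) * ((star ξ₀.c)⁻¹)⁻¹ * 1)⁻¹)⁻¹, ?_, ?_⟩
  · refine S.stuf11_NP_mul o (S.stuf11_NP_mul o (S.ww_same_s o hH hk hk') ?_) ?_
    · rw [e4]
      exact S.stuf11_NP_wl o hW hk hk' (stuf11_inv_c_ne hξ₀)
    · rw [e5]
      exact S.stuf11_NP_hs o hH hnk hnk' (inv_ne_zero (inv_ne_zero hc1))
  · have e6 : S.ws o (ng k) 1 = cj (S.wl k ξ₀) (S.ws o k 1) * (S.hs o (ng k) ((1 : F) * ((star ξ₀.c)⁻¹)⁻¹ * 1)⁻¹)⁻¹ := by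
      rw [e1, e2, mul_inv_cancel_right]
    rw [e6, ← e3]
    unfold cj
    group

theorem stuf11_w1_short {k : ι ⊕ ι} (hk : k ≠ ng o) : S.w1 ξ₀ o k = S.ws o k 1 := by
  unfold w1; rw [if_neg hk]

theorem stuf11_w1_long : S.w1 ξ₀ o (ng o) = S.wl o ξ₀ := by
  unfold w1; rw [if_pos rfl]

theorem ww_cell [Finite F] (hW : S.HW) (hH : S.HH) (hξ₀ : ξ₀.c ≠ 0) {k j : ι ⊕ ι} (hk : k ≠ o) (hj : j ≠ o) :
    ∃ n, S.NP o n ∧ (S.w1 ξ₀ o k * S.w1 ξ₀ o j = n ∨ ∃ k', k' ≠ o ∧ S.w1 ξ₀ o k * S.w1 ξ₀ o j = S.w1 ξ₀ o k' * n) := by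
  by_cases hjk : j = k
  · subst hjk
    by_cases hjo : j = ng o
    · subst hjo
      rw [S.stuf11_w1_long]
      exact ⟨_, S.ww_same_l ξ₀ o hH hξ₀, Or.inl rfl⟩
    · rw [S.stuf11_w1_short ξ₀ o hjo]
      exact ⟨_, S.ww_same_s o hH hj hjo, Or.inl rfl⟩
  · by_cases hjo : j = ng o
    · subst hjo
      have hk' : k ≠ ng o := Ne.symm hjk
      have hnk' : ng k ≠ ng o := fun h => hk (ng_inj.mp h)
      have hnk : ng k ≠ o := fun h => hk' (by rw [← h, ng_ng])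
      obtain ⟨n, hn, e⟩ := S.ww_jlong ξ₀ o hW hH hξ₀ hk hk'
      refine ⟨n, hn, Or.inr ⟨ng k, hnk, ?_⟩⟩
      rw [S.stuf11_w1_long, S.stuf11_w1_short ξ₀ o hk', S.stuf11_w1_short ξ₀ o hnk', e]
    · by_cases hko : k = ng o
      · subst hko
        obtain ⟨n, hn, e⟩ := S.ww_klong ξ₀ o hW hξ₀ hj hjo
        refine ⟨n, hn, Or.inr ⟨j, hj, ?_⟩⟩
        rw [S.stuf11_w1_long, S.stuf11_w1_short ξ₀ o hjo, e]
      · by_cases hkj' : k = ng j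
        · have hj2 : j = ng k := by rw [hkj', ng_ng]
          subst hj2
          obtain ⟨n, hn, e⟩ := S.ww_opp ξ₀ o hW hH hξ₀ hk hko
          refine ⟨n, hn, Or.inr ⟨ng o, ng_ne o, ?_⟩⟩
          rw [S.stuf11_w1_long, S.stuf11_w1_short ξ₀ o hko, S.stuf11_w1_short ξ₀ o hjo, e]
        · obtain ⟨n, hn, e⟩ := S.ww_gen o hW hk hko hj hjo (Ne.symm hjk) hkj'
          refine ⟨n, hn, Or.inr ⟨j, hj, ?_⟩⟩
          rw [S.stuf11_w1_short ξ₀ o hko, S.stuf11_w1_short ξ₀ o hjo, e]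

end F

end SysU

end Cfsg.Agent.Lib.Helper27.STU
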