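import Cfsg.Agent.Lib.Helper24.SelfCent

set_option autoImplicit false
open scoped Pointwise

namespace Cfsg.Agent.Lib.Helper24

section SelfCentCount

variable {G : Type*} [Group G] [Finite G] {p : ℕ} {x : G}

theorem sc_zpowers_eq_of_mem [Fact p.Prime] (hx : orderOf x = p) {y : G}
    (hy : y ∈ Subgroup.zpowers x) (hy1 : y ≠ 1) : Subgroup.zpowers y = Subgroup.zpowers x := by
  have hp : p.Prime := Fact.out
  apply Subgroup.eq_of_le_of_card_ge (by rwa [Subgroup.zpowers_le])
  rw [sc_card_zpowers hx, Nat.card_zpowers]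
  have hdvd : orderOf y ∣ p := by
    have := orderOf_dvd_natCard (⟨y, hy⟩ : Subgroup.zpowers x)
    rw [sc_card_zpowers hx] at this
    rwa [Subgroup.orderOf_mk] at this
  rcases (Nat.dvd_prime hp).mp hdvd with h | h
  · exact absurd (orderOf_eq_one_iff.mp h) hy1
  · exact h.ge

theorem sc_orderOf_of_mem [Fact p.Prime] (hx : orderOf x = p) {y : G}
    (hy : y ∈ Subgroup.zpowers x) (hy1 : y ≠ 1) : orderOf y = p := by
  rw [← Nat.card_zpowers, sc_zpowers_eq_of_mem hx hy hy1, sc_card_zpowers hx]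

theorem sc_mem_of_commute_mem [Fact p.Prime] (hx : orderOf x = p)
    (hC : Subgroup.centralizer ({x} : Set G) = Subgroup.zpowers x) {y g : G}
    (hy : y ∈ Subgroup.zpowers x) (hy1 : y ≠ 1) (hg : g * y = y * g) :
    g ∈ Subgroup.zpowers x := by
  have hxy : x ∈ Subgroup.zpowers y := by
    rw [sc_zpowers_eq_of_mem hx hy hy1]; exact Subgroup.mem_zpowers x
  obtain ⟨k, hk⟩ := Subgroup.mem_zpowers_iff.mp hxy
  apply sc_mem_zpowers_of_commute hC
  rw [← hk]
  exact (Commute.zpow_right (show Commute g y from hg) k).eq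

theorem sc_mem_normalizer_of_conj_mem [Fact p.Prime] (hx : orderOf x = p) {y g : G}
    (hy : y ∈ Subgroup.zpowers x) (hy1 : y ≠ 1) (hg : g * y * g⁻¹ ∈ Subgroup.zpowers x) :
    g ∈ Subgroup.normalizer ((Subgroup.zpowers x : Subgroup G) : Set G) := by
  apply Subgroup.mem_normalizer_fintype
  intro z hz
  have hz' : z ∈ Subgroup.zpowers y := by
    rw [sc_zpowers_eq_of_mem hx hy hy1]; exact hz
  obtain ⟨k, rfl⟩ := Subgroup.mem_zpowers_iff.mp hz'
  rw [← conj_zpow]
  exact Subgroup.zpow_mem _ hg k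

theorem sc_exists_conj_mem [Fact p.Prime] (hx : orderOf x = p)
    (hC : Subgroup.centralizer ({x} : Set G) = Subgroup.zpowers x) {g : G} (hg : orderOf g = p) :
    ∃ h : G, h * g * h⁻¹ ∈ Subgroup.zpowers x := by
  obtain ⟨P, hP⟩ := sc_sylow hx hC
  have hcard : Nat.card (Subgroup.zpowers g) = p ^ (Nat.card G).factorization p := by
    rw [sc_card_zpowers hg, sc_factorization hx hC, pow_one]
  let Q : Sylow p G := Sylow.ofCard (Subgroup.zpowers g) hcard
  obtain ⟨h, hh⟩ := MulAction.exists_smul_eq G Q P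
  refine ⟨h, ?_⟩
  rw [← hP, ← hh]
  have : (h • Q : Sylow p G).toSubgroup = MulAut.conj h • (Q : Subgroup G) := Sylow.coe_subgroup_smul
  show h * g * h⁻¹ ∈ (h • Q : Sylow p G).toSubgroup
  rw [this]
  exact ⟨g, Subgroup.mem_zpowers g, by simp [MulAut.conj_apply]⟩

end SelfCentCount

section SelfCentCount2

variable {G : Type*} [Group G] [Finite G] {p : ℕ} {x : G}

theorem sc_exists_rep [Fact p.Prime] (hx : orderOf x = p)
    (hC : Subgroup.centralizer ({x} : Set G) = Subgroup.zpowers x)
    (C : {C : ConjClasses G // ∃ g ∈ C.carrier, orderOf g = p}) :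
    ∃ y : G, y ∈ Subgroup.zpowers x ∧ y ≠ 1 ∧ ConjClasses.mk y = C.1 := by
  have hp : p.Prime := Fact.out
  obtain ⟨g, hgC, hgo⟩ := C.2
  obtain ⟨h, hh⟩ := sc_exists_conj_mem hx hC hgo
  refine ⟨h * g * h⁻¹, hh, ?_, ?_⟩
  · intro h1
    have : g = 1 := by
      have := congrArg (fun z => h⁻¹ * z * h) h1
      simpa [mul_assoc] using this
    rw [this, orderOf_one] at hgo
    exact hp.ne_one hgo.symm
  · rw [← ConjClasses.mem_carrier_iff_mk_eq.mp hgC, ConjClasses.mk_eq_mk_iff_isConj]
    exact (isConj_iff.mpr ⟨h, rfl⟩).symm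

theorem sc_card_ne_one [Fact p.Prime] (hx : orderOf x = p) :
    Nat.card {y : G // y ∈ Subgroup.zpowers x ∧ y ≠ 1} = p - 1 := by
  have h1 : {y : G | y ∈ Subgroup.zpowers x ∧ y ≠ 1} = ((Subgroup.zpowers x : Subgroup G) : Set G) \ {1} := by
    ext y
    simp
  have h2 : Nat.card {y : G // y ∈ Subgroup.zpowers x ∧ y ≠ 1} =
      Set.ncard {y : G | y ∈ Subgroup.zpowers x ∧ y ≠ 1} := rfl
  rw [h2, h1, Set.ncard_diff_singleton_of_mem (Subgroup.one_mem _)]
  have h3 : Set.ncard ((Subgroup.zpowers x : Subgroup G) : Set G) = Nat.card (Subgroup.zpowers x) := rfl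
  rw [h3, sc_card_zpowers hx]

theorem sc_count [Fact p.Prime] (hx : orderOf x = p)
    (hC : Subgroup.centralizer ({x} : Set G) = Subgroup.zpowers x) :
    Nat.card {C : ConjClasses G // ∃ g ∈ C.carrier, orderOf g = p} *
      (Subgroup.zpowers x).relIndex (Subgroup.normalizer ((Subgroup.zpowers x : Subgroup G) : Set G))
      = p - 1 := by
  classical
  have hp : p.Prime := Fact.out
  set X := Subgroup.zpowers x with hX
  set N := Subgroup.normalizer ((Subgroup.zpowers x : Subgroup G) : Set G) with hN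
  let rep : {C : ConjClasses G // ∃ g ∈ C.carrier, orderOf g = p} → G :=
    fun C => Classical.choose (sc_exists_rep hx hC C)
  have hrep : ∀ C, rep C ∈ X ∧ rep C ≠ 1 ∧ ConjClasses.mk (rep C) = C.1 :=
    fun C => Classical.choose_spec (sc_exists_rep hx hC C)
  let Φ : {C : ConjClasses G // ∃ g ∈ C.carrier, orderOf g = p} × (N ⧸ X.subgroupOf N) →
      {y : G // y ∈ X ∧ y ≠ 1} := fun Cq =>
    ⟨(Cq.2.out : G) * rep Cq.1 * (Cq.2.out : G)⁻¹, by
      constructor
      · exact (Subgroup.mem_normalizer_iff.mp Cq.2.out.2 _).mp (hrep Cq.1).1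
      · intro h1
        apply (hrep Cq.1).2.1
        have := congrArg (fun z => (Cq.2.out : G)⁻¹ * z * (Cq.2.out : G)) h1
        simpa [mul_assoc] using this⟩
  have hΦ : Function.Bijective Φ := by
    constructor
    · rintro ⟨C, q⟩ ⟨C', q'⟩ h
      have h0 : (q.out : G) * rep C * (q.out : G)⁻¹ = (q'.out : G) * rep C' * (q'.out : G)⁻¹ :=
        congrArg Subtype.val h
      have hconj : IsConj (rep C) (rep C') := by
        rw [isConj_iff]
        refine ⟨(q'.out : G)⁻¹ * (q.out : G), ?_⟩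
        have := congrArg (fun z => (q'.out : G)⁻¹ * z * (q'.out : G)) h0
        simp only [mul_assoc, inv_mul_cancel_left, inv_mul_cancel, mul_one] at this
        rw [mul_inv_rev, inv_inv]
        simpa [mul_assoc] using this
      have hCC' : C = C' := by
        apply Subtype.ext
        rw [← (hrep C).2.2, ← (hrep C').2.2, ConjClasses.mk_eq_mk_iff_isConj]
        exact hconj
      subst hCC'
      have hcomm : ((q'.out : G)⁻¹ * (q.out : G)) * rep C = rep C * ((q'.out : G)⁻¹ * (q.out : G)) := by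
        have := congrArg (fun z => (q'.out : G)⁻¹ * z * (q.out : G)) h0
        simp only [mul_assoc, inv_mul_cancel_left, inv_mul_cancel, mul_one] at this
        simpa [mul_assoc] using this
      have hmem : (q'.out : G)⁻¹ * (q.out : G) ∈ X :=
        sc_mem_of_commute_mem hx hC (hrep C).1 (hrep C).2.1 hcomm
      have hq : q' = q := by
        rw [← QuotientGroup.out_eq' q', ← QuotientGroup.out_eq' q, QuotientGroup.eq]
        exact hmem
      rw [hq]
    · rintro ⟨y, hyX, hy1⟩
      have hyo : orderOf y = p := sc_orderOf_of_mem hx hyX hy1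
      let C : {C : ConjClasses G // ∃ g ∈ C.carrier, orderOf g = p} :=
        ⟨ConjClasses.mk y, y, ConjClasses.mem_carrier_mk, hyo⟩
      have hmk : ConjClasses.mk (rep C) = ConjClasses.mk y := (hrep C).2.2
      obtain ⟨g, hg⟩ := isConj_iff.mp (ConjClasses.mk_eq_mk_iff_isConj.mp hmk)
      have hgN : g ∈ N :=
        sc_mem_normalizer_of_conj_mem hx (hrep C).1 (hrep C).2.1 (by rw [hg]; exact hyX)
      obtain ⟨⟨z, hz⟩, hzout⟩ := QuotientGroup.mk_out_eq_mul (X.subgroupOf N) (⟨g, hgN⟩ : N)
      refine ⟨(C, QuotientGroup.mk (⟨g, hgN⟩ : N)), ?_⟩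
      apply Subtype.ext
      show ((QuotientGroup.mk (⟨g, hgN⟩ : N) : N ⧸ X.subgroupOf N).out : G) * rep C *
        ((QuotientGroup.mk (⟨g, hgN⟩ : N) : N ⧸ X.subgroupOf N).out : G)⁻¹ = y
      rw [hzout]
      have hzX : (z : G) ∈ X := hz
      have hcomm : (z : G) * rep C = rep C * (z : G) := by
        obtain ⟨a, ha⟩ := Subgroup.mem_zpowers_iff.mp hzX
        obtain ⟨b, hb⟩ := Subgroup.mem_zpowers_iff.mp (hrep C).1
        rw [← ha, ← hb]
        exact (Commute.zpow_zpow (Commute.refl x) a b).eq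
      rw [← hg]
      simp only [Subgroup.coe_mul]
      calc g * (z : G) * rep C * (g * (z : G))⁻¹ = g * ((z : G) * rep C) * (z : G)⁻¹ * g⁻¹ := by group
        _ = g * (rep C * (z : G)) * (z : G)⁻¹ * g⁻¹ := by rw [hcomm]
        _ = g * rep C * g⁻¹ := by group
  have hcard := Nat.card_eq_of_bijective Φ hΦ
  rw [Nat.card_prod, sc_card_ne_one hx] at hcard
  exact hcard

end SelfCentCount2

section SelfCentAb

variable {G : Type*} [Group G] [Finite G] {p : ℕ} {x : G}

theorem sc_index_commutator_of_normalizer_eq [Fact p.Prime] (hx : orderOf x = p)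
    (hC : Subgroup.centralizer ({x} : Set G) = Subgroup.zpowers x)
    (hN : Subgroup.normalizer ((Subgroup.zpowers x : Subgroup G) : Set G) ≤ Subgroup.zpowers x) :
    (commutator G).index = p := by
  have hp : p.Prime := Fact.out
  obtain ⟨P, hP⟩ := sc_sylow hx hC
  have hPset : (P : Set G) = ((Subgroup.zpowers x : Subgroup G) : Set G) := by rw [← hP]; rfl
  have hPN : Subgroup.normalizer (P : Set G) ≤ Subgroup.centralizer (P : Set G) := by
    rw [hPset]
    intro n hn
    have hnX := hN hn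
    rw [Subgroup.mem_centralizer_iff]
    intro y hy
    obtain ⟨a, ha⟩ := Subgroup.mem_zpowers_iff.mp hnX
    obtain ⟨b, hb⟩ := Subgroup.mem_zpowers_iff.mp (show y ∈ Subgroup.zpowers x from hy)
    rw [← ha, ← hb]
    exact (Commute.zpow_zpow (Commute.refl x) b a).eq
  have hcompl := MonoidHom.ker_transferSylow_isComplement' P hPN
  set K := (MonoidHom.transferSylow P hPN).ker with hK
  have hcardK : Nat.card K * p = Nat.card G := by
    have := hcompl.card_mul
    rwa [hP, sc_card_zpowers hx] at this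
  have hGK : commutator G ≤ K := by
    have : IsMulCommutative P := ⟨⟨fun a b => Subtype.ext (hPN (Subgroup.le_normalizer b.2) a a.2)⟩⟩
    rw [hK, commutator_def, Subgroup.commutator_le]
    intro a _ b _
    rw [MonoidHom.mem_ker, map_commutatorElement]
    rw [commutatorElement_eq_one_iff_mul_comm]
    exact mul_comm' _ _
  have hnd : ¬ p ∣ Nat.card (commutator G) := by
    intro hd
    have h1 : p ∣ Nat.card K := hd.trans (Subgroup.card_dvd_of_le hGK)
    obtain ⟨m, hm⟩ := h1
    have h2 : p ^ 2 ∣ Nat.card G := ⟨m, by rw [← hcardK, hm]; ring⟩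
    have h3 := (Nat.Prime.pow_dvd_iff_le_factorization hp Nat.card_pos.ne').mp h2
    rw [sc_factorization hx hC] at h3
    omega
  have hcent := sc_centralizer_mk hx hC (commutator G) hnd
  have hord := sc_orderOf_mk hx (commutator G) hnd
  have htop : Subgroup.centralizer ({(QuotientGroup.mk x : G ⧸ commutator G)} : Set (G ⧸ commutator G)) = ⊤ := by
    rw [eq_top_iff]
    intro g _
    rw [Subgroup.mem_centralizer_iff]
    intro y _
    obtain ⟨a, rfl⟩ := QuotientGroup.mk_surjective g
    obtain ⟨b, rfl⟩ := QuotientGroup.mk_surjective y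
    rw [← QuotientGroup.mk_mul, ← QuotientGroup.mk_mul, QuotientGroup.eq]
    have : (b * a)⁻¹ * (a * b) = a⁻¹ * b⁻¹ * a⁻¹⁻¹ * b⁻¹⁻¹ := by group
    rw [this, ← commutatorElement_def, commutator_def]
    exact Subgroup.commutator_mem_commutator (Subgroup.mem_top _) (Subgroup.mem_top _)
  rw [htop] at hcent
  have : Nat.card (G ⧸ commutator G) = p := by
    rw [← Subgroup.card_top (G := G ⧸ commutator G), hcent, Nat.card_zpowers, hord]
  exact this

end SelfCentAb

section SelfCentAb2

variable {G : Type*} [Group G] [Finite G] {p : ℕ} {x : G}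

theorem sc_index_commutator_dvd [Fact p.Prime] (hx : orderOf x = p)
    (hC : Subgroup.centralizer ({x} : Set G) = Subgroup.zpowers x)
    (hN : ¬ Subgroup.normalizer ((Subgroup.zpowers x : Subgroup G) : Set G) ≤ Subgroup.zpowers x) :
    (commutator G).index ∣ (Subgroup.zpowers x).relIndex
      (Subgroup.normalizer ((Subgroup.zpowers x : Subgroup G) : Set G)) := by
  have hp : p.Prime := Fact.out
  obtain ⟨n, hnN, hnX⟩ := SetLike.not_le_iff_exists.mp hN
  have hxX : x ∈ Subgroup.zpowers x := Subgroup.mem_zpowers x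
  have h1 : n * x * n⁻¹ ∈ Subgroup.zpowers x := (Subgroup.mem_normalizer_iff.mp hnN x).mp hxX
  have hcX : n * x * n⁻¹ * x⁻¹ ∈ Subgroup.zpowers x := mul_mem h1 (inv_mem hxX)
  have hcG : n * x * n⁻¹ * x⁻¹ ∈ commutator G := by
    rw [← commutatorElement_def, commutator_def]
    exact Subgroup.commutator_mem_commutator (Subgroup.mem_top _) (Subgroup.mem_top _)
  have hc1 : n * x * n⁻¹ * x⁻¹ ≠ 1 := by
    intro h
    apply hnX
    apply sc_mem_zpowers_of_commute hC
    have := congrArg (fun z => z * x * n) h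
    simpa [mul_assoc] using this
  have hdvd : p ∣ Nat.card (commutator G) := by
    by_contra hnd
    have := sc_inf_eq_bot hx (commutator G) hnd
    have hmem : n * x * n⁻¹ * x⁻¹ ∈ commutator G ⊓ Subgroup.zpowers x := Subgroup.mem_inf.mpr ⟨hcG, hcX⟩
    rw [this, Subgroup.mem_bot] at hmem
    exact hc1 hmem
  have hXG := sc_le_of_dvd_card hx hC (commutator G) hdvd
  have hsup := sc_normalizer_sup hx hC (commutator G) hXG
  have e1 : (commutator G).index = (commutator G).relIndex
      (Subgroup.normalizer ((Subgroup.zpowers x : Subgroup G) : Set G)) := by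
    rw [← Subgroup.relIndex_sup_right, hsup, Subgroup.relIndex_top_right]
  rw [e1]
  exact Subgroup.relIndex_dvd_of_le_left _ hXG

end SelfCentAb2

end Cfsg.Agent.Lib.Helper24
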