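import Cfsg.Agent.Lib.Helper24.SelfCentCount

set_option autoImplicit false
open scoped Pointwise commutatorElement

namespace Cfsg.Agent.Lib.Helper24

section SelfCentSub

variable {G : Type*} [Group G] [Finite G] {p : ℕ} {x : G}

theorem sc_dvd_card_commutator [Fact p.Prime] (hx : orderOf x = p)
    (hC : Subgroup.centralizer ({x} : Set G) = Subgroup.zpowers x)
    (hN : ¬ Subgroup.normalizer ((Subgroup.zpowers x : Subgroup G) : Set G) ≤ Subgroup.zpowers x) :
    p ∣ Nat.card (commutator G) := by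
  obtain ⟨n, hnN, hnX⟩ := SetLike.not_le_iff_exists.mp hN
  have hxX : x ∈ Subgroup.zpowers x := Subgroup.mem_zpowers x
  have h1 : n * x * n⁻¹ ∈ Subgroup.zpowers x := (Subgroup.mem_normalizer_iff.mp hnN x).mp hxX
  have hcX : n * x * n⁻¹ * x⁻¹ ∈ Subgroup.zpowers x := mul_mem h1 (inv_mem hxX)
  have hcG : n * x * n⁻¹ * x⁻¹ ∈ commutator G := by
    rw [← commutatorElement_def, commutator_def]
    exact Subgroup.commutator_mem_commutator (Subgroup.mem_top _) (Subgroup.mem_top _)
  have hc1 : n * x * n⁻¹ * x⁻¹ ≠ 1 := by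
    intro h
    apply hnX
    apply sc_mem_zpowers_of_commute hC
    have := congrArg (fun z => z * x * n) h
    simpa [mul_assoc] using this
  by_contra hnd
  have := sc_inf_eq_bot hx (commutator G) hnd
  have hmem : n * x * n⁻¹ * x⁻¹ ∈ commutator G ⊓ Subgroup.zpowers x := Subgroup.mem_inf.mpr ⟨hcG, hcX⟩
  rw [this, Subgroup.mem_bot] at hmem
  exact hc1 hmem

theorem sc_comm_mem (hx : orderOf x = p)
    (hC : Subgroup.centralizer ({x} : Set G) = Subgroup.zpowers x) {n m : G}
    (hn : n ∈ Subgroup.normalizer ((Subgroup.zpowers x : Subgroup G) : Set G))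
    (hm : m ∈ Subgroup.normalizer ((Subgroup.zpowers x : Subgroup G) : Set G)) :
    ⁅n, m⁆ ∈ Subgroup.zpowers x := by
  have := sc_normalizer_comm hx hC (inv_mem hn) (inv_mem hm)
  have e : (m⁻¹ * n⁻¹)⁻¹ * (n⁻¹ * m⁻¹) = ⁅n, m⁆ := by
    rw [commutatorElement_def]; group
  rwa [e] at this

theorem sc_sub_orderOf (hx : orderOf x = p) (H : Subgroup G) (hxH : x ∈ H) :
    orderOf (⟨x, hxH⟩ : H) = p := by
  rw [Subgroup.orderOf_mk, hx]

theorem sc_sub_mem_zpowers (H : Subgroup G) (hxH : x ∈ H) (h : H) :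
    h ∈ Subgroup.zpowers (⟨x, hxH⟩ : H) ↔ (h : G) ∈ Subgroup.zpowers x := by
  simp only [Subgroup.mem_zpowers_iff]
  constructor
  · rintro ⟨k, rfl⟩
    exact ⟨k, by simp⟩
  · rintro ⟨k, hk⟩
    exact ⟨k, Subtype.ext (by simpa using hk)⟩

theorem sc_sub_centralizer (hC : Subgroup.centralizer ({x} : Set G) = Subgroup.zpowers x)
    (H : Subgroup G) (hxH : x ∈ H) :
    Subgroup.centralizer ({(⟨x, hxH⟩ : H)} : Set H) = Subgroup.zpowers (⟨x, hxH⟩ : H) := by
  ext h
  rw [sc_sub_mem_zpowers H hxH h, ← hC, Subgroup.mem_centralizer_iff, Subgroup.mem_centralizer_iff]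
  constructor
  · intro hh y hy
    rw [Set.mem_singleton_iff] at hy
    rw [hy]
    have := hh ⟨x, hxH⟩ (Set.mem_singleton _)
    simpa using congrArg Subtype.val this
  · intro hh y hy
    rw [Set.mem_singleton_iff] at hy
    rw [hy]
    apply Subtype.ext
    simpa using hh x (Set.mem_singleton _)

end SelfCentSub

end Cfsg.Agent.Lib.Helper24
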