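import Mathlib

set_option autoImplicit false

namespace Cfsg.Agent.Lib.Helper24

section sp1

variable {G : Type*} [Group G] [Finite G]

theorem sp_three_pow (a i : ℕ) (hi : i ≤ a) : 3 ^ (2 ^ (a - 1)) ≡ 1 [MOD 2 ^ i] := by
  rcases Nat.eq_zero_or_pos a with ha | ha
  · subst ha
    have : i = 0 := Nat.le_zero.mp hi
    subst this
    simp [Nat.ModEq, Nat.mod_one]
  · have h1 : Nat.Coprime 3 (2 ^ a) := Nat.Coprime.pow_right _ (by norm_num)
    have h2 := Nat.ModEq.pow_totient h1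
    rw [Nat.totient_prime_pow Nat.prime_two ha] at h2
    simp only [Nat.add_one_sub_one, mul_one] at h2
    exact h2.of_dvd (pow_dvd_pow 2 hi)

theorem sp_pow_fix (k : ℕ)
    (hk₁ : ∀ g : G, (∃ j : ℕ, orderOf g = 2 ^ j) → g ^ k = g ^ 3)
    (hk₂ : ∀ g : G, Odd (orderOf g) → g ^ k = g) (g : G) :
    g ^ (k ^ (2 ^ ((Nat.card G).factorization 2 - 1))) = g := by
  set a := (Nat.card G).factorization 2 with ha
  set n := 2 ^ (a - 1) with hn
  have ho : orderOf g ≠ 0 := (orderOf_pos g).ne'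
  set i := (orderOf g).factorization 2 with hi
  set m := orderOf g / 2 ^ i with hm
  have hom : 2 ^ i * m = orderOf g := Nat.ordProj_mul_ordCompl_eq_self _ _
  have hmodd : ¬ 2 ∣ m := Nat.not_dvd_ordCompl Nat.prime_two ho
  have hm0 : m ≠ 0 := by
    intro h
    rw [h, mul_zero] at hom
    exact ho hom.symm
  have hia : i ≤ a := by
    have h1 : 2 ^ i ∣ Nat.card G := (Dvd.intro _ hom).trans (orderOf_dvd_natCard g)
    exact (Nat.Prime.pow_dvd_iff_le_factorization Nat.prime_two Nat.card_pos.ne').mp h1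
  have ho1 : orderOf (g ^ m) = 2 ^ i := by
    rw [orderOf_pow_of_dvd hm0 (Dvd.intro_left _ hom), ← hom]
    exact Nat.mul_div_cancel _ (Nat.pos_of_ne_zero hm0)
  have ho2 : orderOf (g ^ 2 ^ i) = m := by
    rw [orderOf_pow_of_dvd (pow_ne_zero _ two_ne_zero) (Dvd.intro _ hom), ← hom]
    exact Nat.mul_div_cancel_left _ (pow_pos two_pos _)
  have h1 : k ≡ 3 [MOD 2 ^ i] := by
    have := hk₁ (g ^ m) ⟨i, ho1⟩
    rw [pow_eq_pow_iff_modEq, ho1] at this
    exact this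
  have h2 : k ≡ 1 [MOD m] := by
    have hodd : Odd (orderOf (g ^ 2 ^ i)) := by
      rw [ho2]
      exact Nat.not_even_iff_odd.mp (fun h => hmodd (even_iff_two_dvd.mp h))
    have := hk₂ (g ^ 2 ^ i) hodd
    nth_rewrite 2 [← pow_one (g ^ 2 ^ i)] at this
    rw [pow_eq_pow_iff_modEq, ho2] at this
    exact this
  have h3 : k ^ n ≡ 1 [MOD 2 ^ i] := (h1.pow n).trans (sp_three_pow a i hia)
  have h4 : k ^ n ≡ 1 [MOD m] := by
    have := h2.pow n
    rwa [one_pow] at this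
  have hcop : Nat.Coprime (2 ^ i) m :=
    Nat.Coprime.pow_left _ ((Nat.Prime.coprime_iff_not_dvd Nat.prime_two).mpr hmodd)
  have h5 : k ^ n ≡ 1 [MOD 2 ^ i * m] := (Nat.modEq_and_modEq_iff_modEq_mul hcop).mp ⟨h3, h4⟩
  rw [hom] at h5
  nth_rewrite 2 [← pow_one g]
  rw [pow_eq_pow_iff_modEq]
  exact h5

theorem sp_coprime (k : ℕ)
    (hk₁ : ∀ g : G, (∃ j : ℕ, orderOf g = 2 ^ j) → g ^ k = g ^ 3)
    (hk₂ : ∀ g : G, Odd (orderOf g) → g ^ k = g) : Nat.Coprime k (Nat.card G) := by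
  apply Nat.coprime_of_dvd
  intro r hr hrk hrG
  haveI : Fact r.Prime := ⟨hr⟩
  obtain ⟨g, hg⟩ := exists_prime_orderOf_dvd_card' r hrG
  have h1 := sp_pow_fix k hk₁ hk₂ g
  have h2 : g ^ k = 1 := by
    rw [← hg] at hrk
    exact orderOf_dvd_iff_pow_eq_one.mp hrk
  have h3 : 2 ^ ((Nat.card G).factorization 2 - 1) ≠ 0 := pow_ne_zero _ two_ne_zero
  obtain ⟨t, ht⟩ := Nat.exists_eq_succ_of_ne_zero h3
  rw [ht, pow_succ', pow_mul, h2, one_pow] at h1
  rw [← h1, orderOf_one] at hg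
  exact hr.one_lt.ne' hg.symm

end sp1

end Cfsg.Agent.Lib.Helper24
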