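import Cfsg.Agent.Lib.Helper24.SigmaParity3

set_option autoImplicit false
open scoped ComplexConjugate

namespace Cfsg.Agent.Lib.Helper24

open Cfsg.Agent.Lib.helper2 Cfsg.Agent.Lib.helper7 Cfsg.Agent.Lib.Helper11 Cfsg.Agent.Lib.Helper25

section sp4

variable {G : Type*} [Group G] [Fintype G]

theorem sp_main [Fintype (Cfsg.IrrCharacter G)] (M : Ideal Cfsg.AlgInt)
    (hM : Cfsg.IsPModular 2 M) (hev : Even (Nat.card G)) (k : ℕ)
    (hk₁ : ∀ g : G, (∃ j : ℕ, orderOf g = 2 ^ j) → g ^ k = g ^ 3)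
    (hk₂ : ∀ g : G, Odd (orderOf g) → g ^ k = g) :
    Even (Nat.card {χ : Cfsg.IrrCharacter G // χ ∈ Cfsg.principalBlock M G ∧
      Odd (Cfsg.charDegree (χ : G → ℂ)) ∧ ∀ g : G, (χ : G → ℂ) (g ^ k) = (χ : G → ℂ) g}) := by
  classical
  haveI : Fact (Nat.Prime 2) := ⟨Nat.prime_two⟩
  have hcop := sp_coprime k hk₁ hk₂
  set s := sp_gal k hcop with hs
  have hsT : ∀ χ : Cfsg.IrrCharacter G,
      (χ ∈ Cfsg.principalBlock M G ∧ Odd (Cfsg.charDegree (χ : G → ℂ))) →
      (s χ ∈ Cfsg.principalBlock M G ∧ Odd (Cfsg.charDegree (s χ : G → ℂ))) := by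
    intro χ hχ
    constructor
    · rw [pb_principal_eq]
      refine sp_block_congr 2 M hM (trivIrr G) χ (s χ) ?_ (by
        rw [← pb_principal_eq]
        exact hχ.1)
      intro x hx
      have hxo : Odd (orderOf x) :=
        Nat.not_even_iff_odd.mp (fun h => hx (even_iff_two_dvd.mp h))
      unfold Cfsg.centralChar
      rw [hs, sp_gal_apply, sp_gal_apply, one_pow, hk₂ x hxo]
    · have : Cfsg.charDegree (s χ : G → ℂ) = Cfsg.charDegree (χ : G → ℂ) := by
        unfold Cfsg.charDegree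
        rw [hs, sp_gal_apply, one_pow]
      rw [this]
      exact hχ.2
  let T := {χ : Cfsg.IrrCharacter G // χ ∈ Cfsg.principalBlock M G ∧
    Odd (Cfsg.charDegree (χ : G → ℂ))}
  haveI : Fintype T := Fintype.ofFinite _
  let f : Function.End T := fun χ => ⟨s χ.1, hsT χ.1 χ.2⟩
  have hfn : ∀ (n : ℕ) (χ : T), ((f ^ n) χ).1 = s^[n] χ.1 := by
    intro n
    induction n with
    | zero =>
      intro χ
      rfl
    | succ n ih =>
      intro χ
      rw [pow_succ]
      change ((f ^ n) (f χ)).1 = _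
      rw [ih, Function.iterate_succ_apply]
  have hf : f ^ 2 ^ ((Nat.card G).factorization 2 - 1) = 1 := by
    funext χ
    apply Subtype.ext
    apply Subtype.ext
    funext g
    rw [hfn, hs, sp_gal_iterate, sp_pow_fix k hk₁ hk₂ g]
    rfl
  have hmod := Equiv.Perm.card_fixedPoints_modEq (p := 2) hf
  have hT : Even (Fintype.card T) := by
    rw [← Nat.card_eq_fintype_card]
    exact sp_card_even M hM hev
  have hfix : Even (Fintype.card (Function.fixedPoints f)) := by
    rw [Nat.even_iff] at hT ⊢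
    rw [← hT]
    exact hmod.symm
  have e : {χ : Cfsg.IrrCharacter G // χ ∈ Cfsg.principalBlock M G ∧
      Odd (Cfsg.charDegree (χ : G → ℂ)) ∧ ∀ g : G, (χ : G → ℂ) (g ^ k) = (χ : G → ℂ) g} ≃
      Function.fixedPoints f :=
    { toFun := fun χ => ⟨⟨χ.1, χ.2.1, χ.2.2.1⟩, by
        apply Subtype.ext
        apply Subtype.ext
        funext g
        exact χ.2.2.2 g⟩
      invFun := fun t => ⟨t.1.1, t.1.2.1, t.1.2.2, by
        intro g
        have h1 : f t.1 = t.1 := t.2
        have h2 := congrArg (fun u : T => (u.1 : G → ℂ) g) h1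
        exact h2⟩
      left_inv := fun χ => rfl
      right_inv := fun t => rfl }
  rw [Nat.card_congr e, Nat.card_eq_fintype_card]
  exact hfix

end sp4

end Cfsg.Agent.Lib.Helper24
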