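import Mathlib
import Cfsg.Prelude.Def_Transfer
import Cfsg.Agent.Lib.Helper1.Class2
import Cfsg.Agent.Lib.Helper1.Frat

set_option autoImplicit false
set_option linter.style.haveILetI false

namespace Cfsg.Agent.Lib.Helper24

section SpecialAut

open scoped commutatorElement

variable {G : Type*} [Group G]

theorem sp_char_central (A : Subgroup (MulAut G))
    (hGA : Subgroup.closure {x : G | ∃ g : G, ∃ a ∈ A, x = g⁻¹ * a g} = ⊤)
    (hchar : ∀ H : Subgroup G, H.Characteristic → IsMulCommutative H →
      ∀ a ∈ A, ∀ h ∈ H, a h = h)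
    (N : Subgroup G) (hN : N.Characteristic) (hNc : IsMulCommutative N) :
    N ≤ Subgroup.center G := by
  have hNn : N.Normal := @Subgroup.normal_of_characteristic _ _ N hN
  have hle : Subgroup.closure {x : G | ∃ g : G, ∃ a ∈ A, x = g⁻¹ * a g} ≤
      Subgroup.centralizer (N : Set G) := by
    rw [Subgroup.closure_le]
    rintro z ⟨g, a, ha, rfl⟩
    rw [SetLike.mem_coe, Subgroup.mem_centralizer_iff]
    intro x hx
    have hfix := hchar N hN hNc a ha
    have h1 : g * x * g⁻¹ ∈ N := hNn.conj_mem x hx g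
    have h2 := hfix _ h1
    rw [map_mul, map_mul, map_inv, hfix x hx] at h2
    calc x * (g⁻¹ * a g) = g⁻¹ * (g * x * g⁻¹) * a g := by group
      _ = g⁻¹ * (a g * x * (a g)⁻¹) * a g := by rw [h2]
      _ = g⁻¹ * a g * x := by group
  rw [hGA] at hle
  intro x hx
  rw [Subgroup.mem_center_iff]
  intro g
  have hg := hle (Subgroup.mem_top g)
  rw [Subgroup.mem_centralizer_iff] at hg
  exact (hg x hx).symm

theorem sp_comm_ucs2 : ⁅commutator G, Subgroup.upperCentralSeries G 2⁆ = ⊥ := by
  rw [commutator_def]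
  have h1 : ⁅⁅(⊤ : Subgroup G), Subgroup.upperCentralSeries G 2⁆, (⊤ : Subgroup G)⁆ = ⊥ := by
    rw [Subgroup.commutator_eq_bot_iff_le_centralizer, Subgroup.coe_top, Subgroup.centralizer_univ,
      Subgroup.commutator_le]
    intro x _ z hz
    have := Subgroup.mem_upperCentralSeries_succ_iff.mp hz x⁻¹
    rw [Subgroup.upperCentralSeries_one] at this
    have h2 : ⁅x, z⁆ = x * ⁅z, x⁻¹⁆ * x⁻¹ := by
      rw [commutatorElement_def, commutatorElement_def]; group
    rw [h2]
    exact (inferInstance : (Subgroup.center G).Normal).conj_mem _ this x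
  have h2 : ⁅⁅Subgroup.upperCentralSeries G 2, (⊤ : Subgroup G)⁆, (⊤ : Subgroup G)⁆ = ⊥ := by
    rw [Subgroup.commutator_comm (Subgroup.upperCentralSeries G 2)]
    exact h1
  exact Subgroup.commutator_commutator_eq_bot_of_rotate h1 h2

theorem sp_class_two [Finite G] {p : ℕ} [Fact p.Prime] (hG : IsPGroup p G)
    (hcen : ∀ N : Subgroup G, N.Characteristic → IsMulCommutative N → N ≤ Subgroup.center G) :
    commutator G ≤ Subgroup.center G := by
  classical
  by_contra hnot
  haveI : Group.IsNilpotent G := hG.isNilpotent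
  obtain ⟨N, hN⟩ := Subgroup.nilpotent_iff_lowerCentralSeries.mp
    (inferInstance : Group.IsNilpotent G)
  have hK : commutator G ⊓ Subgroup.upperCentralSeries G 2 ≤ Subgroup.center G := by
    apply hcen _ inferInstance
    rw [← Subgroup.le_centralizer_iff_isMulCommutative]
    intro x hx
    rw [Subgroup.mem_centralizer_iff]
    intro y hy
    have h0 := sp_comm_ucs2 (G := G)
    rw [Subgroup.commutator_eq_bot_iff_le_centralizer] at h0
    have := h0 hx.1
    rw [Subgroup.mem_centralizer_iff] at this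
    exact this y hy.2
  have hex : ∃ j, (⊤ : Subgroup G).lowerCentralSeries j ≤ Subgroup.center G :=
    ⟨N, by rw [hN]; exact bot_le⟩
  have hspec := Nat.find_spec hex
  have hmin := fun j (hj : j < Nat.find hex) => Nat.find_min hex hj
  have h1 : ¬ (⊤ : Subgroup G).lowerCentralSeries 1 ≤ Subgroup.center G := by
    rw [Subgroup.top_lowerCentralSeries_one]; exact hnot
  have hge : 2 ≤ Nat.find hex := by
    by_contra hlt
    have hle : Nat.find hex ≤ 1 := by omega
    exact h1 ((Subgroup.lowerCentralSeries_antitone (S := (⊤ : Subgroup G)) hle).trans hspec)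
  obtain ⟨k, hk⟩ : ∃ k, Nat.find hex = k + 1 := ⟨Nat.find hex - 1, by omega⟩
  rw [hk] at hspec
  have hknot := hmin k (by omega)
  apply hknot
  refine le_trans (le_inf ?_ ?_) hK
  · have := Subgroup.lowerCentralSeries_antitone (S := (⊤ : Subgroup G)) (show 1 ≤ k by omega)
    rwa [Subgroup.top_lowerCentralSeries_one] at this
  · intro x hx
    rw [Subgroup.mem_upperCentralSeries_succ_iff]
    intro y
    rw [Subgroup.upperCentralSeries_one]
    apply hspec
    rw [Subgroup.lowerCentralSeries_succ]
    exact Subgroup.commutator_mem_commutator hx (Subgroup.mem_top y)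

end SpecialAut

section SpecialAut2

open scoped commutatorElement

variable {G : Type*} [Group G]

theorem sp_pow_closure_char (p : ℕ) :
    (Subgroup.closure {z : G | ∃ x : G, z = x ^ p}).Characteristic := by
  rw [Subgroup.characteristic_iff_map_le]
  intro φ
  rw [MonoidHom.map_closure, Subgroup.closure_le]
  rintro _ ⟨z, ⟨x, rfl⟩, rfl⟩
  apply Subgroup.subset_closure
  exact ⟨φ x, by simp⟩

theorem sp_pow_central [Finite G] {p : ℕ} [Fact p.Prime] (hG : IsPGroup p G)
    (hcen : ∀ N : Subgroup G, N.Characteristic → IsMulCommutative N → N ≤ Subgroup.center G)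
    (hcl : commutator G ≤ Subgroup.center G) (x : G) : x ^ p ∈ Subgroup.center G := by
  classical
  by_contra hnot
  haveI := sp_pow_closure_char (G := G) p
  set D := Subgroup.closure {z : G | ∃ x : G, z = x ^ p} ⊔ Subgroup.center G with hD
  have hN : D ⊓ Subgroup.centralizer (D : Set G) ≤ Subgroup.center G := by
    apply hcen _ inferInstance
    rw [← Subgroup.le_centralizer_iff_isMulCommutative]
    intro u hu
    rw [Subgroup.mem_centralizer_iff]
    intro v hv
    have h2 : u ∈ Subgroup.centralizer (D : Set G) := hu.2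
    rw [Subgroup.mem_centralizer_iff] at h2
    exact h2 v hv.1
  have hex : ∃ k, x ^ p ^ k ∈ Subgroup.center G := by
    obtain ⟨e, he⟩ := hG x
    exact ⟨e, by rw [he]; exact Subgroup.one_mem _⟩
  have hspec := Nat.find_spec hex
  have hmin := fun j (hj : j < Nat.find hex) => Nat.find_min hex hj
  have hge : 2 ≤ Nat.find hex := by
    by_contra hlt
    have hle : Nat.find hex ≤ 1 := by omega
    rcases Nat.le_one_iff_eq_zero_or_eq_one.mp hle with h0 | h1
    · rw [h0, pow_zero, pow_one] at hspec
      exact hnot (Subgroup.pow_mem _ hspec p)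
    · rw [h1, pow_one] at hspec
      exact hnot hspec
  obtain ⟨j, hj⟩ : ∃ j, Nat.find hex = j + 2 := ⟨Nat.find hex - 2, by omega⟩
  rw [hj] at hspec
  set w := x ^ p ^ (j + 1) with hw
  have hwZ : w ∉ Subgroup.center G := hmin (j + 1) (by omega)
  have hwp : w ^ p ∈ Subgroup.center G := by
    rw [hw, ← pow_mul, ← pow_succ]; exact hspec
  have hwD : w ∈ D := by
    apply (le_sup_left : Subgroup.closure {z : G | ∃ x : G, z = x ^ p} ≤ D)
    apply Subgroup.subset_closure
    exact ⟨x ^ p ^ j, by rw [hw, ← pow_mul, ← pow_succ]⟩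
  have hwC : w ∈ Subgroup.centralizer (D : Set G) := by
    have hle : D ≤ Subgroup.centralizer ({w} : Set G) := by
      rw [hD]
      apply sup_le
      · rw [Subgroup.closure_le]
        rintro _ ⟨y, rfl⟩
        rw [SetLike.mem_coe, Subgroup.mem_centralizer_iff]
        intro u hu
        rw [Set.mem_singleton_iff] at hu
        rw [hu]
        have hc : ⁅w, y⁆ ∈ Subgroup.center G :=
          hcl (Cfsg.Agent.Lib.Helper1.commElem_mem_commutator w y)
        have h1 := Cfsg.Agent.Lib.Helper1.commElem_pow_right_of_central hc p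
        have h2 := Cfsg.Agent.Lib.Helper1.commElem_pow_left_of_central hc p
        have h3 : ⁅w ^ p, y⁆ = 1 := by
          rw [commutatorElement_eq_one_iff_mul_comm]
          exact ((Subgroup.mem_center_iff.mp hwp) y).symm
        rw [← h2, h3] at h1
        exact (commutatorElement_eq_one_iff_mul_comm.mp h1)
      · intro z hz
        rw [Subgroup.mem_centralizer_iff]
        intro u hu
        rw [Set.mem_singleton_iff] at hu
        rw [hu]
        exact (Subgroup.mem_center_iff.mp hz w)
    rw [Subgroup.mem_centralizer_iff]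
    intro d hd
    have := hle hd
    rw [Subgroup.mem_centralizer_iff] at this
    exact (this w rfl).symm
  exact hwZ (hN ⟨hwD, hwC⟩)

theorem sp_fixed_central (A : Subgroup (MulAut G))
    (hGA : Subgroup.closure {x : G | ∃ g : G, ∃ a ∈ A, x = g⁻¹ * a g} = ⊤)
    (hfixZ : ∀ a ∈ A, ∀ z ∈ Subgroup.center G, a z = z)
    (hcl : commutator G ≤ Subgroup.center G) (x : G) (hx : ∀ a ∈ A, a x = x) :
    x ∈ Subgroup.center G := by
  have hle : Subgroup.closure {x : G | ∃ g : G, ∃ a ∈ A, x = g⁻¹ * a g} ≤
      Subgroup.centralizer ({x} : Set G) := by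
    rw [Subgroup.closure_le]
    rintro z ⟨g, a, ha, rfl⟩
    rw [SetLike.mem_coe, Subgroup.mem_centralizer_iff]
    intro u hu
    rw [Set.mem_singleton_iff] at hu
    rw [hu]
    have hc : ⁅x, g⁆ ∈ Subgroup.center G :=
      hcl (Cfsg.Agent.Lib.Helper1.commElem_mem_commutator x g)
    have h1 := hfixZ a ha _ hc
    rw [map_commutatorElement, hx a ha, commutatorElement_def, commutatorElement_def] at h1
    have h2 : a g * x⁻¹ * (a g)⁻¹ = g * x⁻¹ * g⁻¹ := by
      have : a g * x⁻¹ * (a g)⁻¹ = x⁻¹ * (x * a g * x⁻¹ * (a g)⁻¹) := by group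
      rw [this, h1]; group
    have h3 : (g⁻¹ * a g) * x⁻¹ = x⁻¹ * (g⁻¹ * a g) := by
      calc (g⁻¹ * a g) * x⁻¹ = g⁻¹ * (a g * x⁻¹ * (a g)⁻¹) * a g := by group
        _ = g⁻¹ * (g * x⁻¹ * g⁻¹) * a g := by rw [h2]
        _ = x⁻¹ * (g⁻¹ * a g) := by group
    calc x * (g⁻¹ * a g) = x * ((g⁻¹ * a g) * x⁻¹) * x := by group
      _ = x * (x⁻¹ * (g⁻¹ * a g)) * x := by rw [h3]
      _ = g⁻¹ * a g * x := by group
  rw [hGA] at hle
  rw [Subgroup.mem_center_iff]
  intro g
  have hg := hle (Subgroup.mem_top g)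
  rw [Subgroup.mem_centralizer_iff] at hg
  exact (hg x rfl).symm

end SpecialAut2

section SpecialAut3

open scoped commutatorElement

variable {G : Type*} [Group G]

theorem sp_center_le_comm [Finite G] {p : ℕ} [Fact p.Prime] (hG : IsPGroup p G)
    (A : Subgroup (MulAut G)) (hA : Nat.Coprime (Nat.card A) p)
    (hGA : Subgroup.closure {x : G | ∃ g : G, ∃ a ∈ A, x = g⁻¹ * a g} = ⊤)
    (hfixZ : ∀ a ∈ A, ∀ z ∈ Subgroup.center G, a z = z) :
    Subgroup.center G ≤ commutator G := by
  classical
  have hp := (Fact.out : p.Prime)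
  have hAne : Nat.card A ≠ 0 := by
    intro h0
    rw [h0, Nat.coprime_zero_left] at hA
    exact hp.one_lt.ne' hA
  haveI : Finite A := Nat.finite_of_card_ne_zero hAne
  haveI : Fintype A := Fintype.ofFinite A
  let π : G →* Abelianization G := Abelianization.of
  let ν : G →* Abelianization G := ∏ a : A, π.comp (a : MulAut G).toMonoidHom
  have hν : ∀ g : G, ν g = ∏ a : A, π ((a : MulAut G) g) := by
    intro g
    simp only [ν, MonoidHom.finset_prod_apply]
    rfl
  have hinv : ∀ (b : A) (g : G), ν ((b : MulAut G) g) = ν g := by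
    intro b g
    rw [hν, hν]
    exact Fintype.prod_equiv (Equiv.mulRight b) _ _ (fun a => by simp [MulAut.mul_apply])
  have hker : ∀ g : G, ν g = 1 := by
    have hle : Subgroup.closure {x : G | ∃ g : G, ∃ a ∈ A, x = g⁻¹ * a g} ≤ ν.ker := by
      rw [Subgroup.closure_le]
      rintro z ⟨g, a, ha, rfl⟩
      rw [SetLike.mem_coe, MonoidHom.mem_ker, map_mul, map_inv, hinv ⟨a, ha⟩ g, inv_mul_cancel]
    rw [hGA] at hle
    intro g
    exact hle (Subgroup.mem_top g)
  intro z hz
  have h1 : ν z = π (z ^ Nat.card A) := by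
    rw [hν, map_pow]
    have : ∀ a : A, π ((a : MulAut G) z) = π z := fun a => by rw [hfixZ a a.2 z hz]
    rw [Finset.prod_congr rfl (fun a _ => this a), Finset.prod_const, Finset.card_univ,
      Nat.card_eq_fintype_card]
  have h2 : z ^ Nat.card A ∈ commutator G := by
    rw [← Abelianization.ker_of, MonoidHom.mem_ker]
    rw [← h1]
    exact hker z
  obtain ⟨e, he⟩ := IsPGroup.iff_orderOf.mp hG z
  have hcop : Nat.Coprime (Nat.card A) (orderOf z) := by
    rw [he]; exact Nat.Coprime.pow_right e hA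
  obtain ⟨m, hm⟩ := exists_pow_eq_self_of_coprime hcop
  rw [← hm]
  exact Subgroup.pow_mem _ h2 m

theorem spaut_main [Finite G] {p : ℕ} [Fact p.Prime] (hG : IsPGroup p G)
    (A : Subgroup (MulAut G)) (hA : Nat.Coprime (Nat.card A) p)
    (hGA : Subgroup.closure {x : G | ∃ g : G, ∃ a ∈ A, x = g⁻¹ * a g} = ⊤)
    (hchar : ∀ H : Subgroup G, H.Characteristic → IsMulCommutative H →
      ∀ a ∈ A, ∀ h ∈ H, a h = h) :
    Cfsg.IsSpecial p G ∧ (∀ g : G, (g ∈ Subgroup.center G ↔ ∀ a ∈ A, a g = g)) := by
  have hcen := sp_char_central A hGA hchar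
  have hcl := sp_class_two hG hcen
  have hpow := sp_pow_central hG hcen hcl
  have hfixZ : ∀ a ∈ A, ∀ z ∈ Subgroup.center G, a z = z :=
    hchar (Subgroup.center G) inferInstance inferInstance
  have hZc := sp_center_le_comm hG A hA hGA hfixZ
  have hcomm : commutator G = Subgroup.center G := le_antisymm hcl hZc
  refine ⟨⟨hG, ?_, hcomm⟩, ?_⟩
  · apply le_antisymm
    · exact Cfsg.Agent.Lib.Helper1.frattini_le_of_elementary_quotient (Subgroup.center G) hcl hpow
    · rw [← hcomm]
      exact Cfsg.Agent.Lib.Helper1.pgroup_commutator_le_frattini hG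
  · intro g
    constructor
    · intro hg a ha
      exact hfixZ a ha g hg
    · intro hg
      exact sp_fixed_central A hGA hfixZ hcl g hg

end SpecialAut3

end Cfsg.Agent.Lib.Helper24
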