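import Mathlib
import Cfsg.Prelude.Def_Involutions
import Cfsg.Agent.Lib.Helper9.StrongEmb

set_option autoImplicit false
set_option linter.style.haveILetI false

namespace Cfsg.Agent.Lib.Helper24

open Cfsg.Agent.Lib.Helper9

theorem se_of_forall_invol {G : Type*} [Group G] [Finite G] (H : Subgroup G) (hH : H ≠ ⊤)
    (heven : Even (Nat.card H))
    (h : ∀ t g : G, orderOf t = 2 → t ∈ H → g⁻¹ * t * g ∈ H → g ∈ H) :
    Cfsg.IsStronglyEmbedded H := by
  refine ⟨hH, heven, ?_⟩
  intro g hg
  rw [← Nat.not_even_iff_odd]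
  intro he
  obtain ⟨t, ht, hto⟩ := exists_involution_of_even_card _ he
  rw [Subgroup.mem_inf, mem_map_conj_iff] at ht
  exact hg (h t g hto ht.1 ht.2)

theorem se_iff_control {G : Type*} [Group G] [Finite G] (H : Subgroup G) (hH : H ≠ ⊤)
    (heven : Even (Nat.card H)) :
    Cfsg.IsStronglyEmbedded H ↔
      ((∀ t ∈ H, orderOf t = 2 → Subgroup.centralizer ({t} : Set G) ≤ H) ∧
        (∀ t ∈ H, ∀ s ∈ H, orderOf t = 2 → orderOf s = 2 → IsConj t s →
          ∃ h ∈ H, h * t * h⁻¹ = s)) := by
  constructor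
  · intro hse
    refine ⟨?_, ?_⟩
    · intro t htH ht g hg
      rw [Subgroup.mem_centralizer_iff] at hg
      exact se_commute_mem hse ht htH (hg t rfl).symm
    · intro t htH s hsH ht hs hts
      rw [isConj_iff] at hts
      obtain ⟨c, hc⟩ := hts
      refine ⟨c, ?_, hc⟩
      have h1 : c⁻¹ ∈ H := by
        apply se_mem_of_conj_mem hse ht htH
        rw [inv_inv, hc]
        exact hsH
      simpa using H.inv_mem h1
  · rintro ⟨h1, h2⟩
    apply se_of_forall_invol H hH heven
    intro t g ht htH hg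
    have ho : orderOf (g⁻¹ * t * g) = 2 := by
      have := conj_orderOf_two ht g⁻¹
      rwa [inv_inv] at this
    have hconj : IsConj t (g⁻¹ * t * g) := by
      rw [isConj_iff]
      exact ⟨g⁻¹, by rw [inv_inv]⟩
    obtain ⟨h, hhH, hh⟩ := h2 t htH _ hg ht ho hconj
    have hc : g * h ∈ Subgroup.centralizer ({t} : Set G) := by
      rw [Subgroup.mem_centralizer_iff]
      intro y hy
      rw [Set.mem_singleton_iff] at hy
      rw [hy]
      have e1 : g * (h * t * h⁻¹) * g⁻¹ = t := by rw [hh]; group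
      have e2 : g * h * t = g * (h * t * h⁻¹) * g⁻¹ * (g * h) := by group
      rw [e2, e1]
    have h3 := h1 t htH ht hc
    have : g = g * h * h⁻¹ := by group
    rw [this]
    exact H.mul_mem h3 (H.inv_mem hhH)

theorem se_iff_fixed {G : Type*} [Group G] [Finite G] (H : Subgroup G) (hH : H ≠ ⊤)
    (heven : Even (Nat.card H)) :
    Cfsg.IsStronglyEmbedded H ↔
      ∀ t ∈ H, orderOf t = 2 → Nat.card {c : G ⧸ H // t • c = c} = 1 := by
  constructor
  · intro hse t htH ht
    rw [Nat.card_eq_one_iff_unique]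
    constructor
    · constructor
      rintro ⟨c, hc⟩ ⟨d, hd⟩
      apply Subtype.ext
      exact se_fixed_unique hse ht hc hd
    · refine ⟨⟨QuotientGroup.mk 1, ?_⟩⟩
      rw [smul_mk_eq_mk_iff]
      simpa using htH
  · intro h
    apply se_of_forall_invol H hH heven
    intro t g ht htH hg
    have hc := h t htH ht
    rw [Nat.card_eq_one_iff_unique] at hc
    obtain ⟨hsub, -⟩ := hc
    have h1 : t • (QuotientGroup.mk 1 : G ⧸ H) = QuotientGroup.mk 1 := by
      rw [smul_mk_eq_mk_iff]
      simpa using htH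
    have h2 : t • (QuotientGroup.mk g : G ⧸ H) = QuotientGroup.mk g := by
      rw [smul_mk_eq_mk_iff]
      exact hg
    have h3 := @Subsingleton.elim _ hsub
      (⟨_, h1⟩ : {c : G ⧸ H // t • c = c}) ⟨_, h2⟩
    have h4 : (QuotientGroup.mk 1 : G ⧸ H) = QuotientGroup.mk g := Subtype.ext_iff.mp h3
    rw [QuotientGroup.eq] at h4
    simpa using h4

end Cfsg.Agent.Lib.Helper24
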