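import Mathlib
import Cfsg.Agent.Lib.helper3.T2E.Defs2
import Cfsg.Agent.Lib.Helper20.T2ED10b
import Cfsg.Agent.Lib.Helper1.T2ED13d

set_option autoImplicit false

namespace Cfsg.Agent.Lib.helper3.T2E

open Cfsg.Lie Cfsg.Lie.ChevalleyDatum Matrix
open Cfsg.Agent.Lib.helper8 Cfsg.Agent.Lib.Helper10.TEM Cfsg.Agent.Lib.helper7.Ce
  Cfsg.Agent.Lib.helper15.St2

universe u

variable {K : Type u} [Field K] {q : ℕ} {f : K ≃+* K} {Γ : Type u} [Group Γ]
  {π : Γ →* ↥(twistedE6 K q)}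

theorem t2er4h24_ker {x : Γ} (hx : pm π x = 1) : π x = 1 := by
  apply Subtype.ext
  exact hx

theorem t2er4h24_core (hF : Frob q f) (hπ : IsCE π) {L : ℕ → K → Γ} (hL : ∀ r < 72, IsRootLift q π r (L r))
    (hC3 : ∀ a b : ℕ, (a, b) ∈ [(39, 43), (39, 44), (44, 43)] →
      ∀ t u : K, Adm q a t → Adm q b u → CLm π (XT q a t) (XT q b u))
    (hS0 : ∃ c : K, c ≠ 0 ∧ c ≠ 1 ∧ c ^ q = c) :
    ∃ ε ε' : K, (ε = 1 ∨ ε = -1) ∧ (ε' = 1 ∨ ε' = -1) ∧ ∀ t u : K, t ^ q = t →
      cm (L 39 t) (L 42 u) = L 43 (ε * (t * u)) * L 44 (ε' * (t * (u * u ^ q))) := by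
  obtain ⟨ε, ε', hε, hε', hrel⟩ := comm_LS (K := K) hF
  refine ⟨ε, ε', hε, hε', ?_⟩
  have s39 : h8sE6 39 = 39 := by decide
  have s44 : h8sE6 44 = 44 := by decide
  have s42 : h8sE6 42 ≠ 42 := by decide
  have s43 : h8sE6 43 ≠ 43 := by decide
  have A42 : ∀ u : K, Adm q 42 u := fun u h => absurd h s42
  have A43 : ∀ u : K, Adm q 43 u := fun u h => absurd h s43
  have A39 : ∀ t : K, t ^ q = t → Adm q 39 t := fun t ht _ => ht
  have A44 : ∀ t : K, t ^ q = t → Adm q 44 t := fun t ht _ => ht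
  have hqq : ∀ u : K, (u ^ q) ^ q = u := fun u => by rw [← hF.pow, ← hF.pow, hF.inv]
  have hN : ∀ u : K, (u * u ^ q) ^ q = u * u ^ q := fun u => by rw [mul_pow, hqq, mul_comm]
  have hε'q : ε' ^ q = ε' := by
    rcases hε' with h | h
    · rw [h, one_pow]
    · rw [h, hF.neg]
  have P44 : ∀ t u : K, t ^ q = t → (ε' * (t * (u * u ^ q))) ^ q = ε' * (t * (u * u ^ q)) := by
    intro t u ht
    rw [mul_pow, mul_pow, hε'q, ht, hN]
  have L39 := hL 39 (by norm_num)
  have L42 := hL 42 (by norm_num)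
  have L43 := hL 43 (by norm_num)
  have L44 := hL 44 (by norm_num)
  have kadd : ∀ s t : K, s ^ q = s → t ^ q = t → (s + t) ^ q = s + t := by
    intro s t hs ht
    rw [← hF.pow, map_add, hF.pow, hF.pow, hs, ht]
  have kmul : ∀ s t : K, s ^ q = s → t ^ q = t → (s * t) ^ q = s * t := by
    intro s t hs ht
    rw [mul_pow, hs, ht]
  have kneg : ∀ t : K, t ^ q = t → (-t) ^ q = -t := by
    intro t ht
    rw [← hF.pow, map_neg, hF.pow, ht]
  have kinv : ∀ t : K, t ^ q = t → t⁻¹ ^ q = t⁻¹ := by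
    intro t ht
    rw [inv_pow, ht]
  -- the defect
  set R : K → K → Γ := fun t u => L 43 (ε * (t * u)) * L 44 (ε' * (t * (u * u ^ q))) with hR
  set z : K → K → Γ := fun t u => cm (L 39 t) (L 42 u) * (R t u)⁻¹ with hz
  have hcm : ∀ t u, cm (L 39 t) (L 42 u) = z t u * R t u := by
    intro t u; simp only [hz]; group
  have zker : ∀ t u : K, t ^ q = t → π (z t u) = 1 := by
    intro t u ht
    apply t2er4h24_ker
    simp only [hz, hR]
    rw [map_mul, map_inv, map_mul, map_cm, L39.map t (A39 t ht), L42.map u (A42 u), L43.map _ (A43 _),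
      L44.map _ (A44 _ (P44 t u ht))]
    unfold XT
    rw [if_pos s39, if_neg s42, if_neg s43, if_pos s44, hrel t u ht, mul_inv_cancel]
  have zc : ∀ t u : K, t ^ q = t → ∀ g : Γ, z t u * g = g * z t u := fun t u ht g => hπ.comm_of_map_one (zker t u ht) g
  -- commuting lifts
  have c3943 : ∀ t v : K, t ^ q = t → L 39 t * L 43 v = L 43 v * L 39 t := fun t v ht =>
    hC3 39 43 (by simp) t v (A39 t ht) (A43 v) _ _ (L39.map t (A39 t ht)) (L43.map v (A43 v))
  have c3944 : ∀ t v : K, t ^ q = t → v ^ q = v → L 39 t * L 44 v = L 44 v * L 39 t := fun t v ht hv =>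
    hC3 39 44 (by simp) t v (A39 t ht) (A44 v hv) _ _ (L39.map t (A39 t ht)) (L44.map v (A44 v hv))
  have c4443 : ∀ v w : K, v ^ q = v → L 44 v * L 43 w = L 43 w * L 44 v := fun v w hv =>
    hC3 44 43 (by simp) v w (A44 v hv) (A43 w) _ _ (L44.map v (A44 v hv)) (L43.map w (A43 w))
  have Radd : ∀ t t' u : K, t ^ q = t → t' ^ q = t' → R t' u * R t u = R (t + t') u := by
    intro t t' u ht ht'
    simp only [hR]
    have e1 : ε * ((t + t') * u) = ε * (t' * u) + ε * (t * u) := by ring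
    have e2 : ε' * ((t + t') * (u * u ^ q)) = ε' * (t' * (u * u ^ q)) + ε' * (t * (u * u ^ q)) := by ring
    rw [e1, e2, L43.add _ _ (A43 _) (A43 _), L44.add _ _ (A44 _ (P44 t' u ht')) (A44 _ (P44 t u ht))]
    have := c4443 (ε' * (t' * (u * u ^ q))) (ε * (t * u)) (P44 t' u ht')
    calc L 43 (ε * (t' * u)) * L 44 (ε' * (t' * (u * u ^ q))) * (L 43 (ε * (t * u)) * L 44 (ε' * (t * (u * u ^ q))))
        = L 43 (ε * (t' * u)) * (L 44 (ε' * (t' * (u * u ^ q))) * L 43 (ε * (t * u))) * L 44 (ε' * (t * (u * u ^ q))) := by group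
      _ = L 43 (ε * (t' * u)) * (L 43 (ε * (t * u)) * L 44 (ε' * (t' * (u * u ^ q)))) * L 44 (ε' * (t * (u * u ^ q))) := by rw [this]
      _ = _ := by group
  have Rcomm : ∀ t t' u : K, t ^ q = t → t' ^ q = t' → L 39 t * R t' u * (L 39 t)⁻¹ = R t' u := by
    intro t t' u ht ht'
    simp only [hR]
    have h1 := c3943 t (ε * (t' * u)) ht
    have h2' := c3944 t (ε' * (t' * (u * u ^ q))) ht (P44 t' u ht')
    calc L 39 t * (L 43 (ε * (t' * u)) * L 44 (ε' * (t' * (u * u ^ q)))) * (L 39 t)⁻¹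
        = (L 39 t * L 43 (ε * (t' * u))) * L 44 (ε' * (t' * (u * u ^ q))) * (L 39 t)⁻¹ := by group
      _ = L 43 (ε * (t' * u)) * (L 39 t * L 44 (ε' * (t' * (u * u ^ q)))) * (L 39 t)⁻¹ := by rw [h1]; group
      _ = _ := by rw [h2']; group
  have zadd : ∀ t t' u : K, t ^ q = t → t' ^ q = t' → z (t + t') u = z t u * z t' u := by
    intro t t' u ht ht'
    have e : cm (L 39 (t + t')) (L 42 u) = z t' u * z t u * R (t + t') u := by
      rw [L39.add t t' (A39 t ht) (A39 t' ht'), cm_mul_left, hcm t' u, hcm t u]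
      have e1 : L 39 t * (z t' u * R t' u) * (L 39 t)⁻¹ = z t' u * (L 39 t * R t' u * (L 39 t)⁻¹) := by
        rw [← mul_assoc, ← zc t' u ht' (L 39 t)]; group
      rw [e1, Rcomm t t' u ht ht', ← Radd t t' u ht ht']
      rw [mul_assoc (z t' u), ← mul_assoc (R t' u), ← zc t u ht (R t' u)]
      group
    have : z (t + t') u = cm (L 39 (t + t')) (L 42 u) * (R (t + t') u)⁻¹ := rfl
    rw [this, e, mul_inv_cancel_right]
    exact zc t' u ht' _
  have zzero : ∀ u : K, z 0 u = 1 := by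
    intro u
    have h0 : (0 : K) ^ q = 0 := by rw [← hF.pow, map_zero]
    have e := zadd 0 0 u h0 h0
    rw [add_zero] at e
    exact mul_eq_left.mp e.symm
  -- the torus element
  obtain ⟨c, hc0, hc1, hcq⟩ := hS0
  have hmem : HT q 46 c ∈ T1 K q := HT_mem hF 46 (by norm_num) c hc0 (fun _ => hcq)
  obtain ⟨γ, hγ⟩ := hπ.surj ⟨HT q 46 c, hmem.2⟩
  have hγm : pm π γ = HT q 46 c := by
    show ((π γ : ↥(twistedE6 K q)) : GG K) = HT q 46 c
    rw [hγ]
  have hγd : pm π γ ∈ chevE6.diagonalSubgroup K := by rw [hγm]; exact hmem.1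
  have s46 : h8sE6 46 = 46 := by decide
  have chi : ∀ s < 72, h8chi chevE6 hB (pm π γ) s = c ^ h8K chevE6 46 s := by
    intro s hs
    rw [hγm, HT_chi hF 46 (by norm_num) c hc0 s hs, if_pos s46]
  have chi39 : h8chi chevE6 hB (pm π γ) 39 = c⁻¹ := by
    rw [chi 39 (by norm_num), (by decide : h8K chevE6 46 39 = -1), _root_.zpow_neg_one]
  have chi42 : h8chi chevE6 hB (pm π γ) 42 = 1 := by
    rw [chi 42 (by norm_num), (by decide : h8K chevE6 46 42 = 0), zpow_zero]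
  have chi43 : h8chi chevE6 hB (pm π γ) 43 = c⁻¹ := by
    rw [chi 43 (by norm_num), (by decide : h8K chevE6 46 43 = -1), _root_.zpow_neg_one]
  have chi44 : h8chi chevE6 hB (pm π γ) 44 = c⁻¹ := by
    rw [chi 44 (by norm_num), (by decide : h8K chevE6 46 44 = -1), _root_.zpow_neg_one]
  have hci : c⁻¹ ^ q = c⁻¹ := kinv c hcq
  have ztor : ∀ t u : K, t ^ q = t → z (c⁻¹ * t) u = z t u := by
    intro t u ht
    have e1 : cj γ (z t u) = z t u := hπ.cj_of_map_one (zker t u ht) γ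
    have t39 : cj γ (L 39 t) = L 39 (c⁻¹ * t) := by
      have := L39.tor γ hγd t (A39 t ht)
      rw [chi39] at this
      exact this
    have t42 : cj γ (L 42 u) = L 42 u := by
      have := L42.tor γ hγd u (A42 u)
      rw [chi42, one_mul] at this
      exact this
    have t43 : cj γ (L 43 (ε * (t * u))) = L 43 (ε * (c⁻¹ * t * u)) := by
      have := L43.tor γ hγd (ε * (t * u)) (A43 _)
      rw [chi43] at this
      rw [show ε * (c⁻¹ * t * u) = c⁻¹ * (ε * (t * u)) by ring]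
      exact this
    have t44 : cj γ (L 44 (ε' * (t * (u * u ^ q)))) = L 44 (ε' * (c⁻¹ * t * (u * u ^ q))) := by
      have := L44.tor γ hγd (ε' * (t * (u * u ^ q))) (A44 _ (P44 t u ht))
      rw [chi44] at this
      rw [show ε' * (c⁻¹ * t * (u * u ^ q)) = c⁻¹ * (ε' * (t * (u * u ^ q))) by ring]
      exact this
    have e2 : cj γ (z t u) = z (c⁻¹ * t) u := by
      simp only [hz, hR]
      rw [cj_mul, cj_inv, cj_mul, cj_cm, t39, t42, t43, t44]
    rw [← e2, e1]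
  intro t u ht
  have hd : c⁻¹ - 1 ≠ 0 := by
    intro h
    apply hc1
    have : c⁻¹ = 1 := sub_eq_zero.1 h
    rw [← inv_inv c, this, inv_one]
  have hdq : (c⁻¹ - 1) ^ q = c⁻¹ - 1 := by
    rw [sub_eq_add_neg]
    exact kadd _ _ hci (kneg 1 (one_pow q))
  have key : ∀ t : K, t ^ q = t → z ((c⁻¹ - 1) * t) u = 1 := by
    intro t ht
    have e : (c⁻¹ - 1) * t = c⁻¹ * t + -t := by ring
    rw [e, zadd _ _ u (kmul _ _ hci ht) (kneg t ht), ztor t u ht, ← zadd _ _ u ht (kneg t ht), add_neg_cancel, zzero]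
  have ht' : ((c⁻¹ - 1)⁻¹ * t) ^ q = (c⁻¹ - 1)⁻¹ * t := kmul _ _ (kinv _ hdq) ht
  have e3 : t = (c⁻¹ - 1) * ((c⁻¹ - 1)⁻¹ * t) := by
    rw [← mul_assoc, mul_inv_cancel₀ hd, one_mul]
  have hz1 : z t u = 1 := by
    rw [e3]
    exact key _ ht'
  have := hcm t u
  rw [hz1, one_mul] at this
  exact this

end Cfsg.Agent.Lib.helper3.T2E
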