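import Mathlib
import Cfsg.Agent.Lib.helper17.T3.DefsC
import Cfsg.Agent.Lib.Helper24.T3C.Defs2
import Cfsg.Agent.Lib.Helper9.T3CR1
import Cfsg.Agent.Lib.Helper22.T3CR2core
import Cfsg.Agent.Lib.Helper22.T3CR3
import Cfsg.Agent.Lib.Helper11.T3CR5core
import Cfsg.Agent.Lib.helper4.T3CT2

/-!
# Project T3C: the rows R1 - R5 and T1 - T4 of `helper17/T3/SkelC.lean.txt`, VERBATIM in the namespace of helper17, from the landed rows of `Helper24/T3C/Skel.lean.txt` (helper24)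
-/

set_option autoImplicit false

namespace Cfsg.Agent.Lib.helper17.T3

open Cfsg.Agent.Lib.helper15.St2 Cfsg.Agent.Lib.helper7.Ce Matrix

variable {F K : Type*} [Field F] [Field K] [Algebra F K]

variable {C : Cub F K} {G Γ : Type*} [Group G] [Group Γ]

theorem sl2_lift_hom [Finite K] [Finite Γ] (hK : 4 ≤ Nat.card K) (hK4 : Nat.card K ≠ 4) (hK9 : Nat.card K ≠ 9) {σ : Γ →* G} (h : IsCE σ)
    (ρ : SpecialLinearGroup (Fin 2) K →* G) : ∃ ρ' : SpecialLinearGroup (Fin 2) K →* Γ, ∀ a, σ (ρ' a) = ρ a :=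
  Cfsg.Agent.Lib.Helper24.T3C.exists_sl2_lift h (by omega) hK9 ρ

theorem St.exists_lift [Finite K] [Finite Γ] (hK : 4 ≤ Nat.card K) (hK4 : Nat.card K ≠ 4) (hK9 : Nat.card K ≠ 9) {σ : Γ →* G} (h : IsCE σ) (T : St K G) :
    ∃ T' : St K Γ, ∀ b t, σ (T'.X b t) = T.X b t :=
  Cfsg.Agent.Lib.Helper24.T3C.t3cr2_core (fun ρ => sl2_lift_hom hK hK4 hK9 h ρ) T

theorem St.lift_unique {σ : Γ →* G} (h : IsCE σ) {r : K} (hr0 : r ≠ 0) (hr1 : r ^ 2 ≠ 1) (T' T'' : St K Γ) (hT : ∀ b t, σ (T'.X b t) = σ (T''.X b t)) :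
    ∀ b t, T'.X b t = T''.X b t :=
  Cfsg.Agent.Lib.Helper24.T3C.st_lift_unique h ⟨r, hr0, hr1⟩ T' T'' hT

theorem St.exists_cj (T : St K Γ) (e : Γ) : ∃ T1 : St K Γ, ∀ b t, T1.X b t = cj e (T.X b t) :=
  ⟨Cfsg.Agent.Lib.Helper24.T3C.conjSt T e, fun _ _ => rfl⟩

theorem St.exists_scale (T : St K Γ) {a : K} (ha : a ≠ 0) :
    ∃ T2 : St K Γ, (∀ t, T2.X true t = T.X true (a * t)) ∧ ∀ t, T2.X false t = T.X false (a⁻¹ * t) :=
  ⟨Cfsg.Agent.Lib.Helper24.T3C.scaleSt T a ha, fun _ => rfl, fun _ => rfl⟩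

theorem exists_shortLift [Finite K] [Finite Γ] (hK : 4 ≤ Nat.card K) (hK4 : Nat.card K ≠ 4) (hK9 : Nat.card K ≠ 9) (S : SysT C G) {σ : Γ →* G} (h : IsCE σ) :
    Nonempty (ShortLift S σ) := by
  obtain ⟨r, hr0, hr1⟩ := Cfsg.Agent.Lib.Helper24.T3C.t3cr5h11_exists_sq_ne_one (K := K) hK
  obtain ⟨L⟩ := Cfsg.Agent.Lib.Helper24.T3C.t3cr5h11_core (π := σ) (fun T => St.exists_lift hK hK4 hK9 h T)
    (fun T₁ T₂ h12 => St.lift_unique h hr0 hr1 T₁ T₂ h12) S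
  exact ⟨{ X := L.xs, map := L.map_xs, add := L.adds, eqv := fun e k k' a ha hp t => L.equi e k k' a ha hp.1 hp.2 t }⟩

section T

variable (S : SysT C G) {σ : Γ →* G}

theorem CL_ll1 (hC : C.Good) (h : IsCE σ) (k : ZMod 6) (c d : F) : CL σ (S.xl k c) (S.xl (k + 1) d) :=
  Cfsg.Agent.Lib.Helper24.T3C.CL_ll1 h hC S k c d

theorem CL_ll0 (hC : C.Good) (h : IsCE σ) (k : ZMod 6) (c d : F) : CL σ (S.xl k c) (S.xl k d) :=
  Cfsg.Agent.Lib.Helper24.T3C.CL_ll0 h hC S k c d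

theorem CL_sl0 (h : IsCE σ) (k : ZMod 6) (s : K) (c : F) : CL σ (S.xs k s) (S.xl k c) :=
  Cfsg.Agent.Lib.Helper24.T3C.CL_sl0 h S k s c

theorem CL_ls1 (h : IsCE σ) (k : ZMod 6) (c : F) (s : K) : CL σ (S.xl k c) (S.xs (k + 1) s) :=
  Cfsg.Agent.Lib.Helper24.T3C.CL_ls1 h S k c s

end T

end Cfsg.Agent.Lib.helper17.T3
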