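import Mathlib
import Cfsg.Agent.Lib.helper17.T3.DefsC
import Cfsg.Agent.Lib.Helper21.T3CA1a
import Cfsg.Agent.Lib.Helper22.T3CA1c
import Cfsg.Agent.Lib.helper17.T3CD2
import Cfsg.Agent.Lib.Helper22.CECG1

set_option autoImplicit false

namespace Cfsg.Agent.Lib.helper17.T3

open Cfsg.Agent.Lib.helper15.St2 Cfsg.Agent.Lib.helper7.Ce Matrix

variable {F K : Type*} [Field F] [Field K] [Algebra F K]
variable {C : Cub F K} {G Γ : Type*} [Group G] [Group Γ]
variable {S : SysT C G} {σ : Γ →* G} {L : ShortLift S σ}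

theorem t3cd3h24_tr_cross (C : Cub F K) (x y z : K) : C.tr (x * C.cross y z) = C.tr (C.cross x y * z) := by
  apply (algebraMap F K).injective
  rw [C.htr, C.htr]
  unfold Cub.cross
  simp only [map_mul, map_add, C.θ3]
  ring

theorem t3cd3ah24_cj_eq {e p : Γ} : cj e p = cm e p * p := by
  unfold cj cm; group

theorem Z2_add_left (h : IsCE σ) (hT : CLT S σ) (M : LongLift S σ L) (k : ZMod 6) (s s' t : K) : Z2 L M k (s + s') t = Z2 L M k s t * Z2 L M k s' t := by
  have hzc : ∀ g : Γ, Z2 L M k s' t * g = g * Z2 L M k s' t := fun g => h.comm_of_map_one (Z2_map M k s' t) g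
  have hz : cm (L.X k s) (L.X (k + 2) t) = Z2 L M k s t * R2 L M k s t := by unfold Z2; group
  have hz' : cm (L.X k s') (L.X (k + 2) t) = Z2 L M k s' t * R2 L M k s' t := by unfold Z2; group
  have hA : σ (L.X k s) = S.xs k s := L.map k s
  have e2 : cj (L.X k s) (R2 L M k s' t) =
      M.Y k (-(C.tr (C.sharp s' * t)) + -(C.tr (s * C.cross s' t))) * L.X (k + 1) (C.cross s' t) * M.Y (k + 1) (C.tr (s' * C.sharp t)) := by
    unfold R2
    rw [cj_mul, cj_mul, Cfsg.Agent.Lib.helper7.CEC.cj_eq_of_CL (hT.sl0 k s _) hA (M.map k _),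
      Cfsg.Agent.Lib.helper7.CEC.cj_eq_of_CL (hT.sl1 k s _) hA (M.map (k + 1) _), t3cd3ah24_cj_eq, M.ss1, ← mul_assoc, M.add]
  have main : cm (L.X k (s + s')) (L.X (k + 2) t) = Z2 L M k s' t * Z2 L M k s t * R2 L M k (s + s') t := by
    rw [← L.add k s s', cm_mul_left, hz', hz]
    have e1 : L.X k s * (Z2 L M k s' t * R2 L M k s' t) * (L.X k s)⁻¹ = Z2 L M k s' t * cj (L.X k s) (R2 L M k s' t) := by
      rw [← mul_assoc, ← hzc (L.X k s)]; unfold cj; group
    rw [e1, e2]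
    have e3 : Z2 L M k s' t * (M.Y k (-(C.tr (C.sharp s' * t)) + -(C.tr (s * C.cross s' t))) * L.X (k + 1) (C.cross s' t) * M.Y (k + 1) (C.tr (s' * C.sharp t))) *
        (Z2 L M k s t * R2 L M k s t) = Z2 L M k s' t * Z2 L M k s t *
        ((M.Y k (-(C.tr (C.sharp s' * t)) + -(C.tr (s * C.cross s' t))) * L.X (k + 1) (C.cross s' t) * M.Y (k + 1) (C.tr (s' * C.sharp t))) * R2 L M k s t) := by
      have hzc2 : ∀ g : Γ, Z2 L M k s t * g = g * Z2 L M k s t := fun g => h.comm_of_map_one (Z2_map M k s t) g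
      rw [mul_assoc (Z2 L M k s' t), mul_assoc (Z2 L M k s' t), ← mul_assoc _ (Z2 L M k s t), ← hzc2]
      group
    rw [e3]
    congr 1
    unfold R2
    rw [R2_mul hT M]
    have p1 : -(C.tr (C.sharp s' * t)) + -(C.tr (s * C.cross s' t)) + -(C.tr (C.sharp s * t)) = -(C.tr (C.sharp (s + s') * t)) := by
      rw [C.sharp_add, add_mul, add_mul, C.tr_add, C.tr_add, t3cd3h24_tr_cross]; ring
    have p2 : C.cross s' t + C.cross s t = C.cross (s + s') t := by rw [C.cross_add_left, add_comm]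
    have p3 : C.tr (s' * C.sharp t) + C.tr (s * C.sharp t) = C.tr ((s + s') * C.sharp t) := by rw [add_mul, C.tr_add, add_comm]
    rw [p1, p2, p3]
  unfold Z2 at hzc ⊢
  rw [main]
  unfold Z2
  have : ∀ a b c : Γ, a * b * c * c⁻¹ = a * b := by intros; group
  rw [this]
  exact (hzc _)

theorem t3cd3bh24_Y_zero (M : LongLift S σ L) (k : ZMod 6) : M.Y k 0 = 1 := by
  have h := M.add k 0 0
  rw [add_zero] at h
  exact mul_eq_left.mp h

theorem t3cd3bh24_Y_neg (M : LongLift S σ L) (k : ZMod 6) (c : F) : M.Y k (-c) = (M.Y k c)⁻¹ :=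
  eq_inv_of_mul_eq_one_left (by rw [M.add, neg_add_cancel, t3cd3bh24_Y_zero])

theorem Z2_add_right (h : IsCE σ) (hT : CLT S σ) (M : LongLift S σ L) (k : ZMod 6) (s t t' : K) : Z2 L M k s (t + t') = Z2 L M k s t * Z2 L M k s t' := by
  have hzc : ∀ g : Γ, Z2 L M k s t' * g = g * Z2 L M k s t' := fun g => h.comm_of_map_one (Z2_map M k s t') g
  have hz : cm (L.X k s) (L.X (k + 2) t) = Z2 L M k s t * R2 L M k s t := by unfold Z2; group
  have hz' : cm (L.X k s) (L.X (k + 2) t') = Z2 L M k s t' * R2 L M k s t' := by unfold Z2; group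
  have hT' : σ (L.X (k + 2) t) = S.xs (k + 2) t := L.map (k + 2) t
  have e11 : k + 1 + 1 = k + 2 := by ring
  have c1 : ∀ a : F, CL σ (S.xs (k + 2) t) (S.xl k a) := fun a => (hT.ls2 k a t).symm
  have c2 : ∀ b : F, CL σ (S.xs (k + 2) t) (S.xl (k + 1) b) := by
    intro b
    have := (hT.ls1 (k + 1) b t).symm
    rwa [e11] at this
  have c3 : cm (L.X (k + 2) t) (L.X (k + 1) (C.cross s t')) = M.Y (k + 1) (C.tr (C.cross s t' * t)) := by
    rw [← cm_inv_swap]
    have := M.ss1 (k + 1) (C.cross s t') t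
    rw [e11] at this
    rw [this, t3cd3bh24_Y_neg, inv_inv]
  have c4 : ∀ (x : K) (b : F), M.Y (k + 1) b * L.X (k + 1) x = L.X (k + 1) x * M.Y (k + 1) b := by
    intro x b
    exact ((hT.sl0 (k + 1) x b) _ _ (L.map (k + 1) x) (M.map (k + 1) b)).symm
  have e2 : cj (L.X (k + 2) t) (R2 L M k s t') =
      M.Y k (-(C.tr (C.sharp s * t'))) * L.X (k + 1) (C.cross s t') * M.Y (k + 1) (C.tr (C.cross s t' * t) + C.tr (s * C.sharp t')) := by
    unfold R2
    rw [cj_mul, cj_mul, Cfsg.Agent.Lib.helper7.CEC.cj_eq_of_CL (c1 _) hT' (M.map k _),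
      Cfsg.Agent.Lib.helper7.CEC.cj_eq_of_CL (c2 _) hT' (M.map (k + 1) _), t3cd3ah24_cj_eq, c3, c4, ← M.add]
    simp only [mul_assoc]
  have main : cm (L.X k s) (L.X (k + 2) (t + t')) = Z2 L M k s t * Z2 L M k s t' * R2 L M k s (t + t') := by
    rw [← L.add (k + 2) t t', cm_mul_right, hz', hz]
    have e1 : L.X (k + 2) t * (Z2 L M k s t' * R2 L M k s t') * (L.X (k + 2) t)⁻¹ = Z2 L M k s t' * cj (L.X (k + 2) t) (R2 L M k s t') := by
      rw [← mul_assoc, ← hzc (L.X (k + 2) t)]; unfold cj; group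
    rw [e1, e2]
    have e3 : ∀ R R' : Γ, Z2 L M k s t * R * (Z2 L M k s t' * R') = Z2 L M k s t * Z2 L M k s t' * (R * R') := by
      intro R R'
      rw [mul_assoc (Z2 L M k s t), ← mul_assoc R, ← hzc R]
      group
    rw [e3]
    congr 1
    unfold R2
    rw [R2_mul hT M]
    have p1 : -(C.tr (C.sharp s * t)) + -(C.tr (C.sharp s * t')) = -(C.tr (C.sharp s * (t + t'))) := by
      rw [mul_add, C.tr_add]; ring
    have p2 : C.cross s t + C.cross s t' = C.cross s (t + t') := by rw [C.cross_add_right]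
    have p3 : C.tr (s * C.sharp t) + (C.tr (C.cross s t' * t) + C.tr (s * C.sharp t')) = C.tr (s * C.sharp (t + t')) := by
      rw [C.sharp_add, mul_add, mul_add, C.tr_add, C.tr_add, C.cross_comm t t', t3cd3h24_tr_cross C s t' t]; ring
    rw [p1, p2, p3]
  unfold Z2 at ⊢
  rw [main]
  unfold Z2
  have : ∀ a b c : Γ, a * b * c * c⁻¹ = a * b := by intros; group
  rw [this]

end Cfsg.Agent.Lib.helper17.T3
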