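import Mathlib
import Cfsg.Agent.Lib.helper17.T3.DefsC
import Cfsg.Agent.Lib.helper17.T3CD2
import Cfsg.Agent.Lib.Helper24.T3CD3
import Cfsg.Agent.Lib.Helper9.T3CA5
import Cfsg.Agent.Lib.helper23.T3CA6
import Cfsg.Agent.Lib.Helper25.T3CD4a

set_option autoImplicit false

namespace Cfsg.Agent.Lib.helper17.T3

open Cfsg.Agent.Lib.helper15.St2 Cfsg.Agent.Lib.helper7.Ce Matrix

variable {F K : Type*} [Field F] [Field K] [Algebra F K]
variable {C : Cub F K} {G Γ : Type*} [Group G] [Group Γ]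
variable {S : SysT C G} {σ : Γ →* G} {L : ShortLift S σ}

theorem t3cd6h24_zero_left (h : IsCE σ) (hT : CLT S σ) (M : LongLift S σ L) (k : ZMod 6) (t : K) : Z2 L M k 0 t = 1 := by
  have e := Z2_add_left h hT M k 0 0 t
  rw [add_zero] at e
  exact mul_eq_left.mp e.symm

omit [Field F] [Algebra F K] in
theorem t3cd6h24_card (hcard : Nat.card K = Nat.card F ^ 3) [Finite K] : 3 ≤ Nat.card F ∨ Nat.card K = 8 := by
  by_cases h3 : 3 ≤ Nat.card F
  · exact Or.inl h3
  · right
    have hK : 1 < Nat.card K := Finite.one_lt_card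
    have : Nat.card F = 0 ∨ Nat.card F = 1 ∨ Nat.card F = 2 := by omega
    rcases this with h0 | h0 | h0
    · rw [h0] at hcard; omega
    · rw [h0] at hcard; omega
    · rw [h0] at hcard; omega

theorem t3cd6h24_core [Finite K] (hC : C.Good) (hcard : Nat.card K = Nat.card F ^ 3) (h : IsCE σ) (hT : CLT S σ) (M : LongLift S σ L) (k : ZMod 6)
    (hsmul : ∀ {c : F}, c ≠ 0 → ∀ s t : K, Z2 L M k (c • s) t = Z2 L M k s t)
    (hsymm : ∀ s t : K, Z2 L M k s t = Z2 L M k t s) (s t : K) : Z2 L M k s t = 1 := by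
  rcases t3cd6h24_card hcard with h3 | h8
  · obtain ⟨c, hc0, hc1⟩ := exists_ne_zero_one (F := F) (K := K) h3
    have key : ∀ s : K, Z2 L M k ((c - 1) • s) t = 1 := by
      intro s
      have e1 : (c - 1) • s = c • s + -s := by rw [sub_smul, one_smul, sub_eq_add_neg]
      rw [e1, Z2_add_left h hT M, hsmul hc0, ← Z2_add_left h hT M, add_neg_cancel, t3cd6h24_zero_left h hT M]
    have hc : c - 1 ≠ 0 := sub_ne_zero.2 hc1
    have e2 : s = (c - 1) • ((c - 1)⁻¹ • s) := by rw [smul_smul, mul_inv_cancel₀ hc, one_smul]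
    rw [e2]
    exact key _
  · exact f8_bilin h8 (Z2 L M k)
      (fun s t s' t' => h.comm_of_map_one (Z2_map M k s t) _)
      (fun s s' t => Z2_add_left h hT M k s s' t)
      (fun s t t' => Z2_add_right h hT M k s t t')
      (fun a s t ha => Z2_diag hC h hT M k ha s t)
      hsymm s t

theorem t3cd6h24_ss2_of_one (M : LongLift S σ L) (k : ZMod 6) (s t : K) (e : Z2 L M k s t = 1) :
    cm (L.X k s) (L.X (k + 2) t) = M.Y k (-(C.tr (C.sharp s * t))) * L.X (k + 1) (C.cross s t) * M.Y (k + 1) (C.tr (s * C.sharp t)) := by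
  unfold Z2 R2 at e
  exact mul_inv_eq_one.mp e

end Cfsg.Agent.Lib.helper17.T3
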