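import Mathlib
import Cfsg.Agent.Lib.Helper24.T3CD6core
import Cfsg.Agent.Lib.Helper5.T3CD4b
import Cfsg.Agent.Lib.Helper5.T3CD5

set_option autoImplicit false

namespace Cfsg.Agent.Lib.helper17.T3

open Cfsg.Agent.Lib.helper15.St2 Cfsg.Agent.Lib.helper7.Ce Matrix

variable {F K : Type*} [Field F] [Field K] [Algebra F K]
variable {C : Cub F K} {G Γ : Type*} [Group G] [Group Γ]
variable {S : SysT C G} {σ : Γ →* G} {L : ShortLift S σ}

theorem Z2_one [Finite K] (hC : C.Good) (hcard : Nat.card K = Nat.card F ^ 3) (h : IsCE σ) (hT : CLT S σ) (M : LongLift S σ L) (k : ZMod 6) (s t : K) : Z2 L M k s t = 1 :=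
  t3cd6h24_core hC hcard h hT M k (fun hc s t => Z2_smul hC h hT M k hc s t) (fun s t => Z2_symm hC h hT M k s t) s t

theorem ss2_up [Finite K] (hC : C.Good) (hcard : Nat.card K = Nat.card F ^ 3) (h : IsCE σ) (hT : CLT S σ) (M : LongLift S σ L) (k : ZMod 6) (s t : K) :
    cm (L.X k s) (L.X (k + 2) t) = M.Y k (-(C.tr (C.sharp s * t))) * L.X (k + 1) (C.cross s t) * M.Y (k + 1) (C.tr (s * C.sharp t)) :=
  t3cd6h24_ss2_of_one M k s t (Z2_one hC hcard h hT M k s t)

end Cfsg.Agent.Lib.helper17.T3
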