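import Mathlib
import Cfsg.Agent.Lib.Helper24.T3C.Defs2
import Cfsg.Agent.Lib.helper4.T3CT2

set_option autoImplicit false

namespace Cfsg.Agent.Lib.Helper24.T3C

open Cfsg.Agent.Lib.helper15.St2 Cfsg.Agent.Lib.helper7.Ce Cfsg.Agent.Lib.helper17.T3

variable {F K : Type*} [Field F] [Field K] [Algebra F K] {C : Cub F K} {G : Type*} [Group G] {Γ : Type*} [Group Γ]
  {π : Γ →* G} {S : SysT C G}

theorem clt (h : IsCE π) (hG : C.Good) (hs : ∃ s : K, s ≠ 0 ∧ s ^ 2 ≠ 1) (L : ShortLift S π) : CLT S π where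
  ss0 k s t := h.CL_of_lift' (L.map_xs k s) (L.map_xs k t) (by rw [L.adds, L.adds, add_comm])
  ll0 := CL_ll0 h hG S
  sl0 := CL_sl0 h S
  sl1 := CL_sl1 h hs S
  ls1 := CL_ls1 h S
  ll1 := CL_ll1 h hG S
  ls2 := CL_ls2 h hs S

end Cfsg.Agent.Lib.Helper24.T3C
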