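import Cfsg.Agent.Lib.Helper24.TONTSBcore
import Cfsg.Agent.Lib.helper3.TOCOMMB
import Cfsg.Agent.Lib.helper3.TOCOMMHB

set_option autoImplicit false
set_option linter.unusedVariables false

namespace Cfsg.Agent.Lib.helper7.TO

open Matrix Cfsg.Agent.Lib.helper7.TP Cfsg.Agent.Lib.Helper28.SympAbs
open scoped Kronecker

variable {a b : ℕ} {F : Type*} [Field F]

theorem ntsB_of_stabA [Fintype F] (C : Ctx a b F) (ha : 2 ≤ a) (hb : 4 ≤ b)
    (hex : ¬ (a = 2 ∧ Fintype.card F = 2))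
    (M : Subgroup (Matrix.GeneralLinearGroup (Fin a × Fin b) F)) (hT : C.T1 ≤ M) (hG : M ≤ C.G)
    (hS : StabA M) : C.NtsB M :=
  tontsb_core C ha hex (commB C) (commHB C) M hT hG hS

end Cfsg.Agent.Lib.helper7.TO
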