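import Cfsg.Agent.Lib.Helper20.TOALGC
import Cfsg.Agent.Lib.Helper22.TOCLEM

set_option autoImplicit false

namespace Cfsg.Agent.Lib.helper7.TO

open Matrix Cfsg.Agent.Lib.helper7.TP Cfsg.Agent.Lib.Helper28.SympAbs
open scoped Kronecker

variable {a b : ℕ} {F : Type*} [Field F]

def tontsb_tenL (n : Fin b → F) : (Fin a → F) →ₗ[F] (Fin a × Fin b → F) where
  toFun x := ten x n
  map_add' x x' := ten_add_left x x' n
  map_smul' c x := ten_smul_left c x n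

def tontsb_tenR (u : Fin a → F) : (Fin b → F) →ₗ[F] (Fin a × Fin b → F) where
  toFun y := ten u y
  map_add' y y' := ten_add_right u y y'
  map_smul' c y := ten_smul_right c u y

def tontsb_ctrL (ψ : Fin b → F) : (Fin a × Fin b → F) →ₗ[F] (Fin a → F) where
  toFun v := ctr ψ v
  map_add' v v' := ctr_add ψ v v'
  map_smul' c v := ctr_smul ψ c v

theorem tontsb_ex_dual (w : Fin b → F) (hw : w ≠ 0) : ∃ ψ : Fin b → F, ψ ⬝ᵥ w = 1 := by
  obtain ⟨j, hj⟩ : ∃ j, w j ≠ 0 := by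
    by_contra h'
    push Not at h'
    exact hw (funext h')
  refine ⟨Pi.single j (w j)⁻¹, ?_⟩
  rw [single_dotProduct, inv_mul_cancel₀ hj]

theorem tontsb_factor (L : (Fin a → F) →ₗ[F] (Fin a × Fin b → F)) (w : Fin b → F) (hw : w ≠ 0)
    (h : ∀ x, ∃ x', L x = ten x' w) :
    ∃ Z : Matrix (Fin a) (Fin a) F, ∀ x, L x = ten (Z *ᵥ x) w := by
  obtain ⟨ψ, hψ⟩ := tontsb_ex_dual w hw
  refine ⟨LinearMap.toMatrix' (tontsb_ctrL ψ ∘ₗ L), fun x => ?_⟩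
  obtain ⟨x', hx'⟩ := h x
  rw [LinearMap.toMatrix'_mulVec, LinearMap.comp_apply, hx']
  show ten x' w = ten (ctr ψ (ten x' w)) w
  rw [ctr_ten, hψ, one_smul]

theorem tontsb_tv_diff_apply {n : ℕ} {f : (Fin n → F) → (Fin n → F) → F}
    (hf : Cfsg.Geo.IsSymplecticForm f) (Z : Matrix (Fin n) (Fin n) F) (u : Fin n → F) (c : F) :
    (Z - tvm f u c * Z * tvm f u (-c)) *ᵥ u = (-(c * f (Z *ᵥ u) u)) • u := by
  rw [Matrix.sub_mulVec, ← Matrix.mulVec_mulVec, ← Matrix.mulVec_mulVec, tvm_mulVec hf u (-c) u,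
    hf.alternating, mul_zero, zero_smul, add_zero, tvm_mulVec hf, neg_smul]
  abel

theorem tontsb_tvm_zero_vec {n : ℕ} (f : (Fin n → F) → (Fin n → F) → F) (c : F) :
    tvm f (0 : Fin n → F) c = 1 := by
  rw [tvm]
  have : Matrix.vecMulVec (0 : Fin n → F) (rho f 0) = 0 := by
    ext i j
    simp [Matrix.vecMulVec_apply]
  rw [this, smul_zero, add_zero]

theorem tontsb_comm_mem {G : Type*} [Group G] (M : Subgroup G) {x y : G} (hx : x ∈ M) (hy : y ∈ M) :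
    x * y * x⁻¹ * y⁻¹ ∈ M :=
  M.mul_mem (M.mul_mem (M.mul_mem hx hy) (M.inv_mem hx)) (M.inv_mem hy)

theorem tontsb_Zscalar [Fintype F] (C : Ctx a b F) (ha : 2 ≤ a)
    (hex : ¬ (a = 2 ∧ Fintype.card F = 2))
    (hcB : ∀ (h : Matrix.GeneralLinearGroup (Fin a × Fin b) F) (_ : h ∈ C.G)
      (w n : Fin b → F) (_ : C.f₂ n w = 0) (Z : Matrix (Fin a) (Fin a) F)
      (_ : ∀ x : Fin a → F,
        (h : Matrix (Fin a × Fin b) (Fin a × Fin b) F) *ᵥ ten x n = ten x n + ten (Z *ᵥ x) w)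
      (c : F),
      C.IsHB (h * C.tvB n c * h⁻¹ * (C.tvB n c)⁻¹) (c • Z) (c • C.adj₁ Z) (c • (Z * C.adj₁ Z))
        w n)
    (hcHB : ∀ (h : Matrix.GeneralLinearGroup (Fin a × Fin b) F)
      (Z Zs κ : Matrix (Fin a) (Fin a) F) (w n : Fin b → F) (_ : C.f₂ w n = 0)
      (_ : C.IsHB h Z Zs κ w n) (u : Fin a → F) (c : F),
      C.IsHB (h * C.tvA u c * h⁻¹ * (C.tvA u c)⁻¹)
        (Z - tvm C.f₁ u c * Z * tvm C.f₁ u (-c)) (Zs - tvm C.f₁ u c * Zs * tvm C.f₁ u (-c))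
        (κ - tvm C.f₁ u c * κ * tvm C.f₁ u (-c)) w n)
    (M : Subgroup (Matrix.GeneralLinearGroup (Fin a × Fin b) F)) (hT : C.T1 ≤ M) (hG : M ≤ C.G)
    (hS : StabA M) (h : Matrix.GeneralLinearGroup (Fin a × Fin b) F) (hh : h ∈ M)
    (w n : Fin b → F) (hw : w ≠ 0) (hnw : ∀ l : F, n ≠ l • w) (hn : C.f₂ n w = 0)
    (Z : Matrix (Fin a) (Fin a) F)
    (hZ : ∀ x : Fin a → F,
      (h : Matrix (Fin a × Fin b) (Fin a × Fin b) F) *ᵥ ten x n = ten x n + ten (Z *ᵥ x) w) :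
    ∃ s : F, Z = s • (1 : Matrix (Fin a) (Fin a) F) := by
  apply alg_central C.hf₁ ha hex Z
  intro u c
  by_cases hu : u = 0
  · refine ⟨0, ?_⟩
    rw [hu, tontsb_tvm_zero_vec, tontsb_tvm_zero_vec, one_mul, mul_one, sub_self, zero_smul]
  have hwn : C.f₂ w n = 0 := by rw [C.hf₂.skew, hn, neg_zero]
  have H1 := hcB h (hG hh) w n hn Z hZ 1
  rw [one_smul, one_smul, one_smul] at H1
  have hh1 : h * C.tvB n 1 * h⁻¹ * (C.tvB n 1)⁻¹ ∈ M :=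
    tontsb_comm_mem M hh (hT (C.tvB_mem_T1 n 1))
  have H2 := hcHB _ _ _ _ w n hwn H1 u c
  have hh2 := tontsb_comm_mem M hh1 (hT (C.tvA_mem_T1 u c))
  have hK := hS _ hh2 u u hu hu (by
    intro y
    rw [H2 u y, tontsb_tv_diff_apply C.hf₁, tontsb_tv_diff_apply C.hf₁, tontsb_tv_diff_apply C.hf₁]
    refine ⟨y + (C.f₂ y n * (-(c * C.f₁ (Z *ᵥ u) u))) • w
      + (C.f₂ y w * (-(c * C.f₁ (C.adj₁ Z *ᵥ u) u))) • n
      + (C.f₂ y w * (-(c * C.f₁ ((Z * C.adj₁ Z) *ᵥ u) u))) • w, ?_⟩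
    simp only [ten_add_right, ten_smul_right, ten_smul_left, smul_smul])
  exact scalar_of_HB_mem_K0 C _ hK _ _ _ w n hw hnw hwn H2

theorem tontsb_perp_perp (C : Ctx a b F) (w w' : Fin b → F) (hww : C.f₂ w' w = 1) (r : Fin b → F)
    (hr : ∀ n : Fin b → F, C.f₂ n w = 0 → C.f₂ r n = 0) : r = (-(C.f₂ r w')) • w := by
  by_contra hne
  have hne' : r - (-(C.f₂ r w')) • w ≠ 0 := sub_ne_zero.mpr hne
  obtain ⟨y, hy⟩ := (C.hf₂.nondegenerate _ hne').2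
  apply hy
  have hy0 : C.f₂ (y - C.f₂ y w • w') w = 0 := by
    rw [f_sub_left C.hf₂, C.hf₂.bilinear.smul_left, hww, mul_one, sub_self]
  have hwy0 : C.f₂ w (y - C.f₂ y w • w') = 0 := by rw [C.hf₂.skew, hy0, neg_zero]
  have hyd : y = (y - C.f₂ y w • w') + C.f₂ y w • w' := by abel
  have hww' : C.f₂ w w' = -1 := by rw [C.hf₂.skew, hww]
  rw [f_sub_left C.hf₂, C.hf₂.bilinear.smul_left]
  conv_lhs => rw [hyd]
  rw [C.hf₂.bilinear.add_right, C.hf₂.bilinear.add_right, C.hf₂.bilinear.smul_right,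
    C.hf₂.bilinear.smul_right, hr _ hy0, hwy0, hww']
  ring

theorem tontsb_in_Bline (C : Ctx a b F) (w w' : Fin b → F) (hww : C.f₂ w' w = 1)
    (X : Fin a × Fin b → F)
    (hX : ∀ n : Fin b → F, C.f₂ n w = 0 → ∀ x : Fin a → F, C.f X (ten x n) = 0) :
    X = ten (-(ctr (C.fl₂ w') X)) w := by
  have hrow : ∀ i : Fin a, (fun j => X (i, j)) = (-(C.f₂ (fun j => X (i, j)) w')) • w := by
    intro i
    apply tontsb_perp_perp C w w' hww
    intro n hn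
    have h1 : ctr (C.fl₂ n) X = 0 := (C.perp_Bline_iff X n).mp (hX n hn)
    have h2 := congrFun h1 i
    rw [show ctr (C.fl₂ n) X i = C.f₂ (fun j => X (i, j)) n from by
      rw [← C.fl₂_dot]
      simp only [ctr, dotProduct]
      apply Finset.sum_congr rfl
      intro j _
      ring] at h2
    exact h2
  funext p
  obtain ⟨i, j⟩ := p
  have h3 := congrFun (hrow i) j
  simp only [Pi.smul_apply, smul_eq_mul] at h3
  rw [h3]
  simp only [ten, Pi.neg_apply]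
  congr 2
  rw [← C.fl₂_dot]
  simp only [ctr, dotProduct]
  apply Finset.sum_congr rfl
  intro j _
  ring


theorem tontsb_lam [Fintype F] (C : Ctx a b F) (ha : 2 ≤ a)
    (hex : ¬ (a = 2 ∧ Fintype.card F = 2))
    (hcB : ∀ (h : Matrix.GeneralLinearGroup (Fin a × Fin b) F) (_ : h ∈ C.G)
      (w n : Fin b → F) (_ : C.f₂ n w = 0) (Z : Matrix (Fin a) (Fin a) F)
      (_ : ∀ x : Fin a → F,
        (h : Matrix (Fin a × Fin b) (Fin a × Fin b) F) *ᵥ ten x n = ten x n + ten (Z *ᵥ x) w)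
      (c : F),
      C.IsHB (h * C.tvB n c * h⁻¹ * (C.tvB n c)⁻¹) (c • Z) (c • C.adj₁ Z) (c • (Z * C.adj₁ Z))
        w n)
    (hcHB : ∀ (h : Matrix.GeneralLinearGroup (Fin a × Fin b) F)
      (Z Zs κ : Matrix (Fin a) (Fin a) F) (w n : Fin b → F) (_ : C.f₂ w n = 0)
      (_ : C.IsHB h Z Zs κ w n) (u : Fin a → F) (c : F),
      C.IsHB (h * C.tvA u c * h⁻¹ * (C.tvA u c)⁻¹)
        (Z - tvm C.f₁ u c * Z * tvm C.f₁ u (-c)) (Zs - tvm C.f₁ u c * Zs * tvm C.f₁ u (-c))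
        (κ - tvm C.f₁ u c * κ * tvm C.f₁ u (-c)) w n)
    (M : Subgroup (Matrix.GeneralLinearGroup (Fin a × Fin b) F)) (hT : C.T1 ≤ M) (hG : M ≤ C.G)
    (hS : StabA M) (h : Matrix.GeneralLinearGroup (Fin a × Fin b) F) (hh : h ∈ M)
    (w : Fin b → F) (hw : w ≠ 0)
    (hfix : ∀ x : Fin a → F,
      (h : Matrix (Fin a × Fin b) (Fin a × Fin b) F) *ᵥ ten x w = ten x w)
    (hsh : ∀ n : Fin b → F, C.f₂ n w = 0 → ∀ x : Fin a → F, ∃ x' : Fin a → F,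
      (h : Matrix (Fin a × Fin b) (Fin a × Fin b) F) *ᵥ ten x n = ten x n + ten x' w)
    (n : Fin b → F) (hn : C.f₂ n w = 0) :
    ∃ s : F, ∀ x : Fin a → F,
      (h : Matrix (Fin a × Fin b) (Fin a × Fin b) F) *ᵥ ten x n = ten x n + s • ten x w := by
  by_cases hnw : ∃ l : F, n = l • w
  · obtain ⟨l, rfl⟩ := hnw
    refine ⟨0, fun x => ?_⟩
    rw [ten_smul_right, Matrix.mulVec_smul, hfix, zero_smul, add_zero]
  push Not at hnw
  obtain ⟨Z, hZ⟩ := tontsb_factor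
    ((Matrix.mulVecLin (h : Matrix (Fin a × Fin b) (Fin a × Fin b) F) - LinearMap.id) ∘ₗ
      tontsb_tenL n) w hw (by
    intro x
    obtain ⟨x', hx'⟩ := hsh n hn x
    refine ⟨x', ?_⟩
    show (h : Matrix (Fin a × Fin b) (Fin a × Fin b) F) *ᵥ ten x n - ten x n = ten x' w
    rw [hx', add_sub_cancel_left])
  have hZ' : ∀ x : Fin a → F,
      (h : Matrix (Fin a × Fin b) (Fin a × Fin b) F) *ᵥ ten x n = ten x n + ten (Z *ᵥ x) w := by
    intro x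
    have := hZ x
    have h2 : (h : Matrix (Fin a × Fin b) (Fin a × Fin b) F) *ᵥ ten x n - ten x n =
        ten (Z *ᵥ x) w := this
    rw [← h2]
    abel
  obtain ⟨s, hs⟩ := tontsb_Zscalar C ha hex hcB hcHB M hT hG hS h hh w n hw hnw hn Z hZ'
  refine ⟨s, fun x => ?_⟩
  rw [hZ' x, hs, Matrix.smul_mulVec, Matrix.one_mulVec, ten_smul_left]

theorem tontsb_n0 [Fintype F] (C : Ctx a b F) (ha : 2 ≤ a)
    (hex : ¬ (a = 2 ∧ Fintype.card F = 2))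
    (hcB : ∀ (h : Matrix.GeneralLinearGroup (Fin a × Fin b) F) (_ : h ∈ C.G)
      (w n : Fin b → F) (_ : C.f₂ n w = 0) (Z : Matrix (Fin a) (Fin a) F)
      (_ : ∀ x : Fin a → F,
        (h : Matrix (Fin a × Fin b) (Fin a × Fin b) F) *ᵥ ten x n = ten x n + ten (Z *ᵥ x) w)
      (c : F),
      C.IsHB (h * C.tvB n c * h⁻¹ * (C.tvB n c)⁻¹) (c • Z) (c • C.adj₁ Z) (c • (Z * C.adj₁ Z))
        w n)
    (hcHB : ∀ (h : Matrix.GeneralLinearGroup (Fin a × Fin b) F)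
      (Z Zs κ : Matrix (Fin a) (Fin a) F) (w n : Fin b → F) (_ : C.f₂ w n = 0)
      (_ : C.IsHB h Z Zs κ w n) (u : Fin a → F) (c : F),
      C.IsHB (h * C.tvA u c * h⁻¹ * (C.tvA u c)⁻¹)
        (Z - tvm C.f₁ u c * Z * tvm C.f₁ u (-c)) (Zs - tvm C.f₁ u c * Zs * tvm C.f₁ u (-c))
        (κ - tvm C.f₁ u c * κ * tvm C.f₁ u (-c)) w n)
    (M : Subgroup (Matrix.GeneralLinearGroup (Fin a × Fin b) F)) (hT : C.T1 ≤ M) (hG : M ≤ C.G)
    (hS : StabA M) (h : Matrix.GeneralLinearGroup (Fin a × Fin b) F) (hh : h ∈ M)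
    (w : Fin b → F) (hw : w ≠ 0)
    (hfix : ∀ x : Fin a → F,
      (h : Matrix (Fin a × Fin b) (Fin a × Fin b) F) *ᵥ ten x w = ten x w)
    (hsh : ∀ n : Fin b → F, C.f₂ n w = 0 → ∀ x : Fin a → F, ∃ x' : Fin a → F,
      (h : Matrix (Fin a × Fin b) (Fin a × Fin b) F) *ᵥ ten x n = ten x n + ten x' w) :
    ∃ n₀ : Fin b → F, C.f₂ n₀ w = 0 ∧ ∀ n : Fin b → F, C.f₂ n w = 0 → ∀ x : Fin a → F,
      (h : Matrix (Fin a × Fin b) (Fin a × Fin b) F) *ᵥ ten x n =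
        ten x n + C.f₂ n n₀ • ten x w := by
  obtain ⟨ψ, hψ⟩ := tontsb_ex_dual w hw
  have i₀ : Fin a := ⟨0, by omega⟩
  obtain ⟨lam, hlam⟩ : ∃ lam : (Fin b → F) →ₗ[F] F, lam =
    (LinearMap.proj i₀ : (Fin a → F) →ₗ[F] F) ∘ₗ tontsb_ctrL ψ ∘ₗ
      (Matrix.mulVecLin (h : Matrix (Fin a × Fin b) (Fin a × Fin b) F) - LinearMap.id) ∘ₗ
      tontsb_tenR (Pi.single i₀ 1) := ⟨_, rfl⟩
  have hlam_apply : ∀ y : Fin b → F, lam y =
      ctr ψ ((h : Matrix (Fin a × Fin b) (Fin a × Fin b) F) *ᵥ ten (Pi.single i₀ 1) y -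
        ten (Pi.single i₀ 1) y) i₀ := by
    intro y
    rw [hlam]
    rfl
  obtain ⟨n₀, hn₀⟩ := rho_surj C.hf₂ (fun j => lam (Pi.single j 1))
  have hn₀' : ∀ y : Fin b → F, C.f₂ y n₀ = lam y := by
    intro y
    rw [hn₀, LinearMap.pi_apply_eq_sum_univ lam y]
    simp only [dotProduct, smul_eq_mul]
    apply Finset.sum_congr rfl
    intro j _
    rw [mul_comm]
    congr 2
    funext k
    simp [Pi.single_apply, eq_comm]
  have key : ∀ n : Fin b → F, C.f₂ n w = 0 → ∀ s : F, (∀ x : Fin a → F,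
      (h : Matrix (Fin a × Fin b) (Fin a × Fin b) F) *ᵥ ten x n = ten x n + s • ten x w) →
      C.f₂ n n₀ = s := by
    intro n _ s hs
    rw [hn₀', hlam_apply, hs, add_sub_cancel_left, ctr_smul, ctr_ten, hψ, one_smul]
    simp
  refine ⟨n₀, ?_, ?_⟩
  · have h0 : C.f₂ w n₀ = 0 := by
      apply key w (C.hf₂.alternating w) 0
      intro x
      rw [hfix, zero_smul, add_zero]
    rw [C.hf₂.skew, h0, neg_zero]
  · intro n hn x
    obtain ⟨s, hs⟩ := tontsb_lam C ha hex hcB hcHB M hT hG hS h hh w hw hfix hsh n hn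
    rw [key n hn s hs]
    exact hs x


theorem tontsb_shape (C : Ctx a b F) (h : Matrix.GeneralLinearGroup (Fin a × Fin b) F)
    (hhG : h ∈ C.G) (w : Fin b → F) (hw : w ≠ 0)
    (hfix : ∀ x : Fin a → F,
      (h : Matrix (Fin a × Fin b) (Fin a × Fin b) F) *ᵥ ten x w = ten x w)
    (n₀ : Fin b → F)
    (hn : ∀ n : Fin b → F, C.f₂ n w = 0 → ∀ x : Fin a → F,
      (h : Matrix (Fin a × Fin b) (Fin a × Fin b) F) *ᵥ ten x n =
        ten x n + C.f₂ n n₀ • ten x w) :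
    ∃ κ : Matrix (Fin a) (Fin a) F, C.IsHB h 1 1 κ w n₀ := by
  obtain ⟨w', hww⟩ : ∃ w' : Fin b → F, C.f₂ w' w = 1 := by
    obtain ⟨x, hx⟩ := (C.hf₂.nondegenerate w hw).1
    refine ⟨(C.f₂ x w)⁻¹ • x, ?_⟩
    rw [C.hf₂.bilinear.smul_left, inv_mul_cancel₀ hx]
  obtain ⟨Z, hZ⟩ := tontsb_factor
    ((Matrix.mulVecLin (h : Matrix (Fin a × Fin b) (Fin a × Fin b) F) - LinearMap.id) ∘ₗ
      tontsb_tenL w' - tontsb_tenL n₀) w hw (by
    intro x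
    refine ⟨_, tontsb_in_Bline C w w' hww _ ?_⟩
    intro n hnw x'
    show C.f ((h : Matrix (Fin a × Fin b) (Fin a × Fin b) F) *ᵥ ten x w' - ten x w' - ten x n₀)
      (ten x' n) = 0
    have e1 : ten x' n = (h : Matrix (Fin a × Fin b) (Fin a × Fin b) F) *ᵥ ten x' n -
        C.f₂ n n₀ • ((h : Matrix (Fin a × Fin b) (Fin a × Fin b) F) *ᵥ ten x' w) := by
      rw [hn n hnw x', hfix]
      abel
    have e2 : C.f ((h : Matrix (Fin a × Fin b) (Fin a × Fin b) F) *ᵥ ten x w') (ten x' n) =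
        C.f₁ x x' * C.f₂ w' n - C.f₂ n n₀ * (C.f₁ x x' * C.f₂ w' w) := by
      conv_lhs => rw [e1]
      rw [C.f_sub_right, C.hf.smul_right, C.G_f hhG, C.G_f hhG, C.f_ten, C.f_ten]
    rw [C.f_sub_left, C.f_sub_left, e2, C.f_ten, C.f_ten, hww, C.hf₂.skew n₀ n]
    ring)
  have hZ' : ∀ x : Fin a → F,
      (h : Matrix (Fin a × Fin b) (Fin a × Fin b) F) *ᵥ ten x w' =
        ten x w' + ten x n₀ + ten (Z *ᵥ x) w := by
    intro x
    have h2 : (h : Matrix (Fin a × Fin b) (Fin a × Fin b) F) *ᵥ ten x w' - ten x w' - ten x n₀ =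
        ten (Z *ᵥ x) w := hZ x
    rw [← h2]
    abel
  refine ⟨Z - C.f₂ w' n₀ • (1 : Matrix (Fin a) (Fin a) F), ?_⟩
  intro x y
  have hy0 : C.f₂ (y - C.f₂ y w • w') w = 0 := by
    rw [f_sub_left C.hf₂, C.hf₂.bilinear.smul_left, hww, mul_one, sub_self]
  have hyd : y = (y - C.f₂ y w • w') + C.f₂ y w • w' := by abel
  have e3 : (h : Matrix (Fin a × Fin b) (Fin a × Fin b) F) *ᵥ ten x y =
      (h : Matrix (Fin a × Fin b) (Fin a × Fin b) F) *ᵥ ten x (y - C.f₂ y w • w') +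
        C.f₂ y w • ((h : Matrix (Fin a × Fin b) (Fin a × Fin b) F) *ᵥ ten x w') := by
    conv_lhs => rw [hyd]
    rw [ten_add_right, ten_smul_right, Matrix.mulVec_add, Matrix.mulVec_smul]
  rw [e3, hn _ hy0 x, hZ' x, f_sub_left C.hf₂, C.hf₂.bilinear.smul_left, ten_sub_right,
    ten_smul_right, Matrix.one_mulVec, Matrix.sub_mulVec, Matrix.smul_mulVec, Matrix.one_mulVec,
    ten_sub_left, ten_smul_left]
  module

theorem tontsb_kappa [Fintype F] (C : Ctx a b F) (ha : 2 ≤ a)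
    (hex : ¬ (a = 2 ∧ Fintype.card F = 2))
    (hcHB : ∀ (h : Matrix.GeneralLinearGroup (Fin a × Fin b) F)
      (Z Zs κ : Matrix (Fin a) (Fin a) F) (w n : Fin b → F) (_ : C.f₂ w n = 0)
      (_ : C.IsHB h Z Zs κ w n) (u : Fin a → F) (c : F),
      C.IsHB (h * C.tvA u c * h⁻¹ * (C.tvA u c)⁻¹)
        (Z - tvm C.f₁ u c * Z * tvm C.f₁ u (-c)) (Zs - tvm C.f₁ u c * Zs * tvm C.f₁ u (-c))
        (κ - tvm C.f₁ u c * κ * tvm C.f₁ u (-c)) w n)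
    (M : Subgroup (Matrix.GeneralLinearGroup (Fin a × Fin b) F)) (hT : C.T1 ≤ M)
    (hS : StabA M) (h : Matrix.GeneralLinearGroup (Fin a × Fin b) F) (hh : h ∈ M)
    (w n₀ : Fin b → F) (hw : w ≠ 0) (hn₀w : C.f₂ n₀ w = 0) (κ : Matrix (Fin a) (Fin a) F)
    (hκ : C.IsHB h 1 1 κ w n₀) : ∃ s : F, κ = s • (1 : Matrix (Fin a) (Fin a) F) := by
  apply alg_central C.hf₁ ha hex κ
  intro u c
  by_cases hu : u = 0
  · refine ⟨0, ?_⟩
    rw [hu, tontsb_tvm_zero_vec, tontsb_tvm_zero_vec, one_mul, mul_one, sub_self, zero_smul]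
  have hwn : C.f₂ w n₀ = 0 := by rw [C.hf₂.skew, hn₀w, neg_zero]
  have H3 := hcHB h 1 1 κ w n₀ hwn hκ u c
  have e0 : (1 : Matrix (Fin a) (Fin a) F) - tvm C.f₁ u c * 1 * tvm C.f₁ u (-c) = 0 := by
    rw [mul_one, tvm_mul_tvm C.hf₁, add_neg_cancel, tvm_zero, sub_self]
  rw [e0] at H3
  have hh3 := tontsb_comm_mem M hh (hT (C.tvA_mem_T1 u c))
  have hK := hS _ hh3 u u hu hu (by
    intro y
    rw [H3 u y, tontsb_tv_diff_apply C.hf₁]
    refine ⟨y + (C.f₂ y w * (-(c * C.f₁ (κ *ᵥ u) u))) • w, ?_⟩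
    simp only [Matrix.zero_mulVec, ten_zero_left, smul_zero, add_zero, ten_add_right,
      ten_smul_right, ten_smul_left, smul_smul])
  apply scalar_of_EL_mem_K0 C _ hK _ w hw
  apply mat_ext_ten
  intro x y
  rw [H3 x y, ELm_mulVec, C.ctr_fl₂_ten, Matrix.mulVec_smul, ten_smul_left]
  simp only [Matrix.zero_mulVec, ten_zero_left, smul_zero, add_zero]

theorem tontsb_core [Fintype F] (C : Ctx a b F) (ha : 2 ≤ a)
    (hex : ¬ (a = 2 ∧ Fintype.card F = 2))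
    (hcB : ∀ (h : Matrix.GeneralLinearGroup (Fin a × Fin b) F) (_ : h ∈ C.G)
      (w n : Fin b → F) (_ : C.f₂ n w = 0) (Z : Matrix (Fin a) (Fin a) F)
      (_ : ∀ x : Fin a → F,
        (h : Matrix (Fin a × Fin b) (Fin a × Fin b) F) *ᵥ ten x n = ten x n + ten (Z *ᵥ x) w)
      (c : F),
      C.IsHB (h * C.tvB n c * h⁻¹ * (C.tvB n c)⁻¹) (c • Z) (c • C.adj₁ Z) (c • (Z * C.adj₁ Z))
        w n)
    (hcHB : ∀ (h : Matrix.GeneralLinearGroup (Fin a × Fin b) F)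
      (Z Zs κ : Matrix (Fin a) (Fin a) F) (w n : Fin b → F) (_ : C.f₂ w n = 0)
      (_ : C.IsHB h Z Zs κ w n) (u : Fin a → F) (c : F),
      C.IsHB (h * C.tvA u c * h⁻¹ * (C.tvA u c)⁻¹)
        (Z - tvm C.f₁ u c * Z * tvm C.f₁ u (-c)) (Zs - tvm C.f₁ u c * Zs * tvm C.f₁ u (-c))
        (κ - tvm C.f₁ u c * κ * tvm C.f₁ u (-c)) w n)
    (M : Subgroup (Matrix.GeneralLinearGroup (Fin a × Fin b) F)) (hT : C.T1 ≤ M) (hG : M ≤ C.G)
    (hS : StabA M) : C.NtsB M := by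
  intro h hh w hw hfix hsh
  obtain ⟨n₀, hn₀w, hn₀⟩ := tontsb_n0 C ha hex hcB hcHB M hT hG hS h hh w hw hfix hsh
  obtain ⟨κ, hκ⟩ := tontsb_shape C h (hG hh) w hw hfix n₀ hn₀
  obtain ⟨c₀, hc₀⟩ := tontsb_kappa C ha hex hcHB M hT hS h hh w n₀ hw hn₀w κ hκ
  rw [hc₀] at hκ
  exact ⟨n₀, c₀, hn₀w, hκ⟩

end Cfsg.Agent.Lib.helper7.TO
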