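import Cfsg.Agent.Lib.Helper28.TOO.Defs
import Cfsg.Agent.Lib.helper6.TSSIEG
import Cfsg.Agent.Lib.helper7.TO.Basic
import Cfsg.Agent.Lib.Helper21.TOO.LG1

set_option autoImplicit false
set_option linter.unusedVariables false
set_option linter.unusedSectionVars false

namespace Cfsg.Agent.Lib.Helper28.TOO

open Matrix
open scoped Kronecker
open Cfsg.Agent.Lib.helper7.TP Cfsg.Agent.Lib.Helper21.TS

variable {a b : ℕ} {F : Type*} [Field F]
variable {J1 : Matrix (Fin a) (Fin a) F} {J2 : Matrix (Fin b) (Fin b) F}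

theorem toowp1_not_K0 (C : OCtx J1 J2) (u u' : Fin a → F)
    (hind : ∀ c₁ c₂ : F, c₁ • u + c₂ • u' = 0 → c₁ = 0 ∧ c₂ = 0)
    (w : Fin b → F) (hw0 : w ≠ 0) (hw : bf J2 w w = 0)
    (g : Matrix.GeneralLinearGroup (Fin a × Fin b) F)
    (hg : (g : Matrix (Fin a × Fin b) (Fin a × Fin b) F) =
      sieg (JV J1 J2) (ten u w) (ten u' w)) : g ∉ K0 a b F := by
  classical
  have hu0 : u ≠ 0 := by
    rintro rfl
    have := (hind 1 0 (by simp)).1
    exact one_ne_zero this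
  have hu'0 : u' ≠ 0 := by
    rintro rfl
    have := (hind 0 1 (by simp)).2
    exact one_ne_zero this
  have hzz : bf (JV J1 J2) (ten u' w) (ten u' w) = 0 := by rw [bf_JV_ten, hw, mul_zero]
  intro hK
  obtain ⟨α, β, hαβ⟩ := (mem_K0 g).mp hK
  have hact : ∀ (x : Fin a → F) (y : Fin b → F),
      ten ((α : Matrix (Fin a) (Fin a) F) *ᵥ x) ((β : Matrix (Fin b) (Fin b) F) *ᵥ y) =
        ten x y + bf J2 w y • ten (bf J1 u' x • u - bf J1 u x • u') w := by
    intro x y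
    rw [← kron_mulVec_ten, ← hαβ, hg, sieg_mulVec, hzz, bf_JV_ten, bf_JV_ten, zero_div, zero_mul,
      zero_smul, sub_zero, Cfsg.Agent.Lib.helper7.TO.ten_sub_left, ten_smul_left, ten_smul_left]
    module
  obtain ⟨j₀, hj₀⟩ : ∃ j, w j ≠ 0 := by
    by_contra hcon
    push Not at hcon
    exact hw0 (funext hcon)
  obtain ⟨i₀, hi₀⟩ : ∃ i, u i ≠ 0 := by
    by_contra hcon
    push Not at hcon
    exact hu0 (funext hcon)
  obtain ⟨m', hm'⟩ : ∃ m' : F, m' = ((β : Matrix (Fin b) (Fin b) F) *ᵥ w) j₀ := ⟨_, rfl⟩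
  have h1 : ∀ (x : Fin a → F) (i : Fin a),
      ((α : Matrix (Fin a) (Fin a) F) *ᵥ x) i * m' = x i * w j₀ := by
    intro x i
    have h := congrFun (hact x w) (i, j₀)
    rw [hw, zero_smul, add_zero] at h
    rw [hm']
    exact h
  have hm'0 : m' ≠ 0 := by
    intro h0
    have h := h1 u i₀
    rw [h0, mul_zero] at h
    exact mul_ne_zero hi₀ hj₀ h.symm
  obtain ⟨m, hm⟩ : ∃ m : F, m = w j₀ / m' := ⟨_, rfl⟩
  have hα : ∀ x : Fin a → F, (α : Matrix (Fin a) (Fin a) F) *ᵥ x = m • x := by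
    intro x
    funext i
    have h := h1 x i
    rw [Pi.smul_apply, smul_eq_mul, hm]
    field_simp
    linear_combination h
  obtain ⟨y₁, hy₁⟩ := bf_nondeg C.det2 hw0
  obtain ⟨y', hy'⟩ : ∃ y' : Fin b → F,
      y' = m • ((β : Matrix (Fin b) (Fin b) F) *ᵥ y₁) - y₁ := ⟨_, rfl⟩
  have h2 : ∀ x : Fin a → F,
      ten x y' = ten (bf J2 w y₁ • (bf J1 u' x • u - bf J1 u x • u')) w := by
    intro x
    have h := hact x y₁
    rw [hα, ten_smul_left, ← ten_smul_right] at h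
    rw [hy', Cfsg.Agent.Lib.helper7.TO.ten_sub_right, h, ten_smul_left]
    abel
  obtain ⟨lam, hlam⟩ : ∃ lam : F, lam = y' j₀ / (bf J2 w y₁ * w j₀) := ⟨_, rfl⟩
  have h3 : ∀ x : Fin a → F, bf J1 u' x • u - bf J1 u x • u' = lam • x := by
    intro x
    funext i
    have h := congrFun (h2 x) (i, j₀)
    simp only [ten, Pi.smul_apply, smul_eq_mul] at h
    rw [Pi.smul_apply, smul_eq_mul, hlam]
    field_simp
    linear_combination -h
  have h4 : (bf J1 u' u - lam) • u + (-bf J1 u u) • u' = 0 := by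
    have h := h3 u
    rw [sub_smul, neg_smul]
    rw [← h]
    abel
  have h5 : (bf J1 u' u') • u + (-bf J1 u u' - lam) • u' = 0 := by
    have h := h3 u'
    rw [sub_smul, neg_smul]
    rw [← h]
    abel
  have h6 := (hind _ _ h4).1
  have h7 := (hind _ _ h5).2
  have hsymm : bf J1 u u' = bf J1 u' u := bf_symm C.sym1 u u'
  have hlam0 : lam = 0 := by
    have h8 : (2 : F) * lam = 0 := by linear_combination -h6 - h7 - hsymm
    rcases mul_eq_zero.mp h8 with h9 | h9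
    · exact absurd h9 C.two
    · exact h9
  obtain ⟨x₁, hx₁⟩ := bf_nondeg C.det1 hu'0
  have h10 := h3 x₁
  rw [hlam0, zero_smul, sub_eq_add_neg, ← neg_smul] at h10
  exact hx₁ (hind _ _ h10).1

theorem toowp1_core (C : OCtx J1 J2) (ha : 2 ≤ a) (w : Fin b → F) (hw0 : w ≠ 0)
    (hw : bf J2 w w = 0) : ∃ g ∈ Om (JV J1 J2), g ∉ K0 a b F := by
  classical
  obtain ⟨i0, hi0⟩ : ∃ i0 : Fin a, i0 = ⟨0, by omega⟩ := ⟨_, rfl⟩
  obtain ⟨i1, hi1⟩ : ∃ i1 : Fin a, i1 = ⟨1, by omega⟩ := ⟨_, rfl⟩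
  have hi01 : i0 ≠ i1 := by
    intro h
    rw [hi0, hi1] at h
    have := congrArg Fin.val h
    simp at this
  obtain ⟨u, hu⟩ : ∃ u : Fin a → F, u = Pi.single i0 1 := ⟨_, rfl⟩
  obtain ⟨u', hu'⟩ : ∃ u' : Fin a → F, u' = Pi.single i1 1 := ⟨_, rfl⟩
  have hind : ∀ c₁ c₂ : F, c₁ • u + c₂ • u' = 0 → c₁ = 0 ∧ c₂ = 0 := by
    intro c₁ c₂ h
    have h0 := congrFun h i0
    have h1 := congrFun h i1
    rw [hu, hu'] at h0 h1
    simp only [Pi.add_apply, Pi.smul_apply, Pi.single_eq_same, smul_eq_mul, mul_one,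
      Pi.zero_apply] at h0 h1
    rw [Pi.single_eq_of_ne hi01, mul_zero, add_zero] at h0
    rw [Pi.single_eq_of_ne hi01.symm, mul_zero, zero_add] at h1
    exact ⟨h0, h1⟩
  have hJV : (JV J1 J2)ᵀ = JV J1 J2 := by
    unfold JV
    rw [← Matrix.kroneckerMap_transpose, C.sym1, C.sym2]
  have hdetV : (JV J1 J2).det ≠ 0 := by
    unfold JV
    rw [Matrix.det_kronecker]
    exact mul_ne_zero (pow_ne_zero _ C.det1) (pow_ne_zero _ C.det2)
  have hp : bf (JV J1 J2) (ten u w) (ten u w) = 0 := by rw [bf_JV_ten, hw, mul_zero]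
  have hz : bf (JV J1 J2) (ten u w) (ten u' w) = 0 := by rw [bf_JV_ten, hw, mul_zero]
  obtain ⟨g, hgOm, hgmat⟩ := sieg_mem_Om hJV C.two hdetV hp hz
  exact ⟨g, hgOm, toowp1_not_K0 C u u' hind w hw0 hw g hgmat⟩

end Cfsg.Agent.Lib.Helper28.TOO
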