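import Cfsg.Agent.Lib.Helper28.TOO.Defs
import Cfsg.Agent.Lib.helper6.TSSIEG
import Cfsg.Agent.Lib.Helper24.TOOWP1core
import Cfsg.Agent.Lib.Helper11.TOOWX0

set_option autoImplicit false
set_option linter.unusedVariables false
set_option linter.unusedSectionVars false

namespace Cfsg.Agent.Lib.Helper28.TOO

open Matrix
open scoped Kronecker
open Cfsg.Agent.Lib.helper7.TP Cfsg.Agent.Lib.Helper21.TS

variable {a b : ℕ} {F : Type*} [Field F]
variable {J1 : Matrix (Fin a) (Fin a) F} {J2 : Matrix (Fin b) (Fin b) F}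

theorem w1_proper [Fintype F] (C : OCtx J1 J2) (ha : 2 ≤ a) (hb : 3 ≤ b) :
    ∃ g ∈ Om (JV J1 J2), g ∉ K0 a b F := by
  obtain ⟨w, hw0, hw⟩ := w1_ex_sing (J := J2) C.two C.sym2 C.det2 hb
  exact toowp1_core C ha w hw0 hw

end Cfsg.Agent.Lib.Helper28.TOO
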