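import Cfsg.Agent.Lib.Helper28.TOO.Defs
import Cfsg.Agent.Lib.helper6.TSSIEG

set_option autoImplicit false
set_option linter.unusedVariables false
set_option linter.unusedSectionVars false

namespace Cfsg.Agent.Lib.Helper28.TOO

open Matrix
open scoped Kronecker
open Cfsg.Agent.Lib.helper7.TP Cfsg.Agent.Lib.Helper21.TS

variable {a b : ℕ} {F : Type*} [Field F]
variable {J1 : Matrix (Fin a) (Fin a) F} {J2 : Matrix (Fin b) (Fin b) F}

theorem toowq5_JV_symm (C : OCtx J1 J2) : (JV J1 J2)ᵀ = JV J1 J2 := by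
  unfold JV
  rw [← Matrix.kroneckerMap_transpose, C.sym1, C.sym2]

theorem toowq5_decomp (v : Fin a × Fin b → F) :
    v = ∑ j : Fin b, ten (fun i => v (i, j)) (Pi.single j 1) := by
  funext p
  obtain ⟨i, j'⟩ := p
  rw [Finset.sum_apply]
  simp only [ten]
  rw [Finset.sum_eq_single j']
  · simp
  · intro j _ hj
    rw [Pi.single_eq_of_ne (Ne.symm hj), mul_zero]
  · intro h
    exact absurd (Finset.mem_univ j') h

theorem toowq5_sum_mem (C : OCtx J1 J2) (M : Subgroup (Matrix.GeneralLinearGroup (Fin a × Fin b) F))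
    (p : Fin a × Fin b → F) (hp : bf (JV J1 J2) p p = 0) {κ : Type*} (s : Finset κ)
    (y : κ → Fin a × Fin b → F)
    (h : ∀ k ∈ s, bf (JV J1 J2) p (y k) = 0 ∧ InM M (sieg (JV J1 J2) p (y k))) :
    bf (JV J1 J2) p (∑ k ∈ s, y k) = 0 ∧ InM M (sieg (JV J1 J2) p (∑ k ∈ s, y k)) := by
  classical
  induction s using Finset.induction_on with
  | empty =>
    rw [Finset.sum_empty]
    refine ⟨bf_zero_right _ _, ?_⟩
    rw [tssieg_zero]
    exact InM_one M
  | insert k s hk ih =>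
    rw [Finset.sum_insert hk]
    obtain ⟨h1, h2⟩ := h k (Finset.mem_insert_self k s)
    obtain ⟨h3, h4⟩ := ih (fun k' hk' => h k' (Finset.mem_insert_of_mem hk'))
    refine ⟨by rw [bf_add_right, h1, h3, add_zero], ?_⟩
    rw [← sieg_mul (toowq5_JV_symm C) C.two hp h1 h3]
    exact h2.mul h4

theorem toowq5_core (C : OCtx J1 J2)
    (M : Subgroup (Matrix.GeneralLinearGroup (Fin a × Fin b) F))
    (u : Fin a → F) (w : Fin b → F) (hu0 : u ≠ 0) (hu : bf J1 u u = 0)
    (hL : ∀ (x' : Fin a → F) (y' : Fin b → F), bf J1 u x' = 0 →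
      InM M (sieg (JV J1 J2) (ten u w) (ten x' y')))
    (hR : ∀ (x : Fin a → F) (y'' : Fin b → F), bf J2 w y'' = 0 →
      InM M (sieg (JV J1 J2) (ten u w) (ten x y'')))
    (v : Fin a × Fin b → F) (hv : bf (JV J1 J2) (ten u w) v = 0) :
    InM M (sieg (JV J1 J2) (ten u w) v) := by
  classical
  have hp : bf (JV J1 J2) (ten u w) (ten u w) = 0 := by rw [bf_JV_ten, hu, zero_mul]
  obtain ⟨x₀, hx₀⟩ := bf_nondeg C.det1 hu0
  obtain ⟨cf, hcf⟩ : ∃ cf : Fin b → F, ∀ j, cf j = bf J1 u (fun i => v (i, j)) / bf J1 u x₀ :=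
    ⟨_, fun j => rfl⟩
  have hdec : v = (∑ j : Fin b, ten ((fun i => v (i, j)) - cf j • x₀) (Pi.single j 1)) +
      ten x₀ cf := by
    have h1 : ten x₀ cf = ∑ j : Fin b, ten (cf j • x₀) (Pi.single j 1) := by
      funext q
      obtain ⟨i, j'⟩ := q
      rw [Finset.sum_apply]
      simp only [ten]
      rw [Finset.sum_eq_single j']
      · simp [mul_comm]
      · intro j _ hj
        rw [Pi.single_eq_of_ne (Ne.symm hj), mul_zero]
      · intro h
        exact absurd (Finset.mem_univ j') h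
    rw [h1, ← Finset.sum_add_distrib]
    conv_lhs => rw [toowq5_decomp v]
    apply Finset.sum_congr rfl
    intro j _
    rw [← ten_add_left, sub_add_cancel]
  have hperp : ∀ j, bf J1 u ((fun i => v (i, j)) - cf j • x₀) = 0 := by
    intro j
    rw [bf_sub_right, bf_smul_right, hcf, div_mul_cancel₀ _ hx₀, sub_self]
  have hsum := toowq5_sum_mem C M (ten u w) hp Finset.univ
    (fun j : Fin b => ten ((fun i => v (i, j)) - cf j • x₀) (Pi.single j 1))
    (fun j _ => ⟨by rw [bf_JV_ten, hperp j, zero_mul], hL _ _ (hperp j)⟩)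
  have hcfw : bf J2 w cf = 0 := by
    have h1 : bf (JV J1 J2) (ten u w) (ten x₀ cf) = 0 := by
      have h2 := hv
      rw [hdec, bf_add_right, hsum.1, zero_add] at h2
      exact h2
    rw [bf_JV_ten] at h1
    rcases mul_eq_zero.mp h1 with h3 | h3
    · exact absurd h3 hx₀
    · exact h3
  rw [hdec, ← sieg_mul (toowq5_JV_symm C) C.two hp hsum.1 (by rw [bf_JV_ten, hcfw, mul_zero])]
  exact hsum.2.mul (hR x₀ cf hcfw)

end Cfsg.Agent.Lib.Helper28.TOO
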