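import Cfsg.Agent.Lib.Helper21.TS.XA

set_option autoImplicit false
set_option linter.unusedSectionVars false
set_option linter.unusedVariables false

namespace Cfsg.Agent.Lib.Helper21.TS

open Matrix
open scoped Kronecker
open Cfsg.Agent.Lib.helper7.TP

variable {ι : Type*} [Fintype ι] [DecidableEq ι] {a b : ℕ} {F : Type*} [Field F]
  {J1 : Matrix (Fin a) (Fin a) F} {J2 : Matrix (Fin b) (Fin b) F}
  {M : Subgroup (Matrix.GeneralLinearGroup (Fin a × Fin b) F)}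

theorem tsla_partner {J : Matrix ι ι F} (hJ : Jᵀ = J) (two : (2 : F) ≠ 0) (hdet : J.det ≠ 0)
    {w : ι → F} (hw : w ≠ 0) (hw0 : bf J w w = 0) :
    ∃ w' : ι → F, bf J w' w' = 0 ∧ bf J w w' = 1 := by
  obtain ⟨y, hy⟩ := bf_nondeg hdet hw
  obtain ⟨y', hy'⟩ : ∃ y' : ι → F, bf J w y' = 1 :=
    ⟨(bf J w y)⁻¹ • y, by rw [bf_smul_right, inv_mul_cancel₀ hy]⟩
  have hyw : bf J y' w = 1 := by rw [bf_symm hJ, hy']
  refine ⟨y' - (bf J y' y' / 2) • w, ?_, ?_⟩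
  · rw [bf_sub_left, bf_sub_right, bf_sub_right, bf_smul_left, bf_smul_left, bf_smul_right,
      bf_smul_right, hw0, hy', hyw]
    field_simp
    ring
  · rw [bf_sub_right, bf_smul_right, hw0, hy', mul_zero, sub_zero]

def tsla_scal (n : Type*) [Fintype n] [DecidableEq n] (F : Type*) [Field F] :
    AddSubgroup (Matrix n n F) where
  carrier := {X | ∃ c : F, X = c • (1 : Matrix n n F)}
  add_mem' := by
    rintro _ _ ⟨c, rfl⟩ ⟨c', rfl⟩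
    exact ⟨c + c', (add_smul c c' 1).symm⟩
  zero_mem' := ⟨0, (zero_smul F 1).symm⟩
  neg_mem' := by
    rintro _ ⟨c, rfl⟩
    exact ⟨-c, (neg_smul c 1).symm⟩

theorem tsla_core [Fintype F] (C : Ctx J1 J2) (hb : 3 ≤ b) (hex : 5 ≤ Fintype.card F ∨ 4 ≤ b)
    (hT0 : T0 J1 J2 ≤ M) (hMS : M ≤ SpV J1 J2)
    (h_zero : TT J1 J2 M 0)
    (h_rw : ∀ (p : ℕ) [Fact p.Prime] [CharP F p] {w : Fin b → F} (_ : bf J2 w w = 0),
      ∃ G : Subgroup (Matrix.GeneralLinearGroup (Fin b) F), IsPGroup p G ∧ G ≤ Iso J2 ∧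
        ∀ z : Fin b → F, bf J2 w z = 0 →
          ∃ g ∈ G, (g : Matrix (Fin b) (Fin b) F) = sieg J2 w z)
    (h_pfix : ∀ (p : ℕ) [Fact p.Prime] [CharP F p]
      (G : Subgroup (Matrix.GeneralLinearGroup (Fin b) F)) (_ : IsPGroup p G)
      (Λ S : AddSubgroup (Matrix (Fin b) (Fin b) F)) (_ : S ≤ Λ)
      (_ : ∀ g ∈ G, ∀ η ∈ Λ, (g : Matrix (Fin b) (Fin b) F) * η *
        ((g⁻¹ : Matrix.GeneralLinearGroup (Fin b) F) : Matrix (Fin b) (Fin b) F) ∈ Λ)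
      (_ : ∀ g ∈ G, ∀ η ∈ S, (g : Matrix (Fin b) (Fin b) F) * η *
        ((g⁻¹ : Matrix.GeneralLinearGroup (Fin b) F) : Matrix (Fin b) (Fin b) F) ∈ S)
      (_ : ∃ η ∈ Λ, η ∉ S),
      ∃ η ∈ Λ, η ∉ S ∧ ∀ g ∈ G,
        (g : Matrix (Fin b) (Fin b) F) * η *
          ((g⁻¹ : Matrix.GeneralLinearGroup (Fin b) F) : Matrix (Fin b) (Fin b) F) - η ∈ S)
    (h_calc : ∀ {w w' : Fin b → F} (_ : bf J2 w w = 0) (_ : bf J2 w' w' = 0) (_ : bf J2 w w' = 1)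
      (η : Matrix (Fin b) (Fin b) F) (_ : SelfAdj J2 η)
      (_ : ∀ z : Fin b → F, bf J2 w z = 0 →
        ∃ c : F, sieg J2 w z * η = (η + c • 1) * sieg J2 w z),
      ∃ γ δ : F, η = γ • 1 + δ • opm J2 w w)
    (h_add : ∀ {u : Fin a → F} {η η' : Matrix (Fin b) (Fin b) F},
      η ∈ LamU J1 J2 M u → η' ∈ LamU J1 J2 M u → η + η' ∈ LamU J1 J2 M u)
    (h_neg : ∀ {u : Fin a → F} {η : Matrix (Fin b) (Fin b) F},
      η ∈ LamU J1 J2 M u → -η ∈ LamU J1 J2 M u)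
    (h_scalar : ∀ (u : Fin a → F) (c : F),
      c • (1 : Matrix (Fin b) (Fin b) F) ∈ LamU J1 J2 M u)
    (h_conj : ∀ {u : Fin a → F} {η : Matrix (Fin b) (Fin b) F}, η ∈ LamU J1 J2 M u →
      ∀ {β : Matrix.GeneralLinearGroup (Fin b) F}, β ∈ Iso J2 →
      (β : Matrix (Fin b) (Fin b) F) * η *
        ((β⁻¹ : Matrix.GeneralLinearGroup (Fin b) F) : Matrix (Fin b) (Fin b) F) ∈ LamU J1 J2 M u)
    (h_move : ∀ {u u' : Fin a → F}, u ≠ 0 → u' ≠ 0 → ∀ {η : Matrix (Fin b) (Fin b) F},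
      η ∈ LamU J1 J2 M u → η ∈ LamU J1 J2 M u')
    (h_smul : ∀ {u : Fin a → F}, u ≠ 0 → ∀ {η : Matrix (Fin b) (Fin b) F},
      η ∈ LamU J1 J2 M u → ∀ c : F, c • η ∈ LamU J1 J2 M u)
    {u : Fin a → F} (hu : u ≠ 0)
    {η : Matrix (Fin b) (Fin b) F} (hη : η ∈ LamU J1 J2 M u) (hns : ∀ c : F, η ≠ c • 1) :
    ∀ (u' : Fin a → F) (w : Fin b → F), bf J2 w w = 0 → TT J1 J2 M (ten u' w) := by
  intro u' w hw0
  by_cases hw : w = 0
  · have : ten u' w = 0 := by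
      funext p
      simp [ten, hw]
    rw [this]
    exact h_zero
  by_cases hu' : u' = 0
  · have : ten u' w = 0 := by
      funext p
      simp [ten, hu']
    rw [this]
    exact h_zero
  obtain ⟨p, hp⟩ := CharP.exists F
  have hprime : p.Prime := CharP.char_is_prime F p
  have : Fact p.Prime := ⟨hprime⟩
  obtain ⟨G, hGp, hGI, hGz⟩ := h_rw p hw0
  obtain ⟨Λ, hΛ⟩ : ∃ Λ : AddSubgroup (Matrix (Fin b) (Fin b) F),
      ∀ X, X ∈ Λ ↔ X ∈ LamU J1 J2 M u :=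
    ⟨{ carrier := LamU J1 J2 M u
       add_mem' := fun h h' => h_add h h'
       zero_mem' := by
         have := h_scalar u 0
         rwa [zero_smul] at this
       neg_mem' := fun h => h_neg h }, fun X => Iff.rfl⟩
  have hSΛ : tsla_scal (Fin b) F ≤ Λ := by
    rintro _ ⟨c, rfl⟩
    exact (hΛ _).mpr (h_scalar u c)
  obtain ⟨η₁, hη₁Λ, hη₁S, hη₁fix⟩ := h_pfix p G hGp Λ (tsla_scal (Fin b) F) hSΛ
    (fun g hg X hX => (hΛ _).mpr (h_conj ((hΛ _).mp hX) (hGI hg)))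
    (by
      rintro g hg _ ⟨c, rfl⟩
      refine ⟨c, ?_⟩
      rw [Matrix.mul_smul, Matrix.mul_one, Matrix.smul_mul, ← Units.val_mul, mul_inv_cancel,
        Units.val_one])
    ⟨η, (hΛ _).mpr hη, fun ⟨c, hc⟩ => hns c hc⟩
  have hη₁L : η₁ ∈ LamU J1 J2 M u := (hΛ _).mp hη₁Λ
  obtain ⟨w', hw'0, hww'⟩ := tsla_partner C.sym C.two C.det2 hw hw0
  obtain ⟨γ, δ, hγδ⟩ := h_calc hw0 hw'0 hww' η₁ hη₁L.1 (by
    intro z hz
    obtain ⟨g, hgG, hgz⟩ := hGz z hz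
    obtain ⟨c, hc⟩ := hη₁fix g hgG
    refine ⟨c, ?_⟩
    have h1 : (g : Matrix (Fin b) (Fin b) F) * η₁ *
        ((g⁻¹ : Matrix.GeneralLinearGroup (Fin b) F) : Matrix (Fin b) (Fin b) F) =
        η₁ + c • 1 := by
      rw [← hc]
      abel
    have h2 : (g : Matrix (Fin b) (Fin b) F) * η₁ = (η₁ + c • 1) * (g : Matrix (Fin b) (Fin b) F) := by
      rw [← h1, Matrix.mul_assoc, ← Units.val_mul, inv_mul_cancel, Units.val_one, Matrix.mul_one]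
    rw [← hgz]
    exact h2)
  have hδ : δ ≠ 0 := by
    intro h0
    apply hη₁S
    refine ⟨γ, ?_⟩
    rw [hγδ, h0, zero_smul, add_zero]
  have hopm : δ • opm J2 w w ∈ LamU J1 J2 M u := by
    have h1 := h_add hη₁L (h_scalar u (-γ))
    have h2 : η₁ + -γ • (1 : Matrix (Fin b) (Fin b) F) = δ • opm J2 w w := by
      rw [hγδ, neg_smul]
      abel
    rwa [h2] at h1
  intro c
  have h3 := h_move hu hu' (h_smul hu hopm (c / δ))
  rw [smul_smul, div_mul_cancel₀ c hδ] at h3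
  have h4 := h3.2
  rwa [XAm_tv] at h4

end Cfsg.Agent.Lib.Helper21.TS
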