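import Cfsg.Agent.Lib.Helper21.TS.Basic

set_option autoImplicit false
set_option linter.unusedSectionVars false
set_option linter.unusedVariables false

namespace Cfsg.Agent.Lib.Helper21.TS

open Matrix
open scoped Kronecker
open Cfsg.Agent.Lib.helper7.TP

variable {ι : Type*} [Fintype ι] [DecidableEq ι] {a b : ℕ} {F : Type*} [Field F]

def tspfix_conj (g : Matrix.GeneralLinearGroup ι F) : Matrix ι ι F →+ Matrix ι ι F where
  toFun η := (g : Matrix ι ι F) * η * ((g⁻¹ : Matrix.GeneralLinearGroup ι F) : Matrix ι ι F)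
  map_zero' := by simp
  map_add' x y := by rw [Matrix.mul_add, Matrix.add_mul]

theorem tspfix_conj_one (η : Matrix ι ι F) :
    tspfix_conj (1 : Matrix.GeneralLinearGroup ι F) η = η := by
  simp [tspfix_conj]

theorem tspfix_conj_mul (g h : Matrix.GeneralLinearGroup ι F) (η : Matrix ι ι F) :
    tspfix_conj (g * h) η = tspfix_conj g (tspfix_conj h η) := by
  simp only [tspfix_conj, AddMonoidHom.coe_mk, ZeroHom.coe_mk, _root_.mul_inv_rev, Units.val_mul,
    Matrix.mul_assoc]

theorem tspfix_abs {Q : Type*} [AddCommGroup Q] [Finite Q] (p : ℕ) [Fact p.Prime]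
    (hQ : ∀ x : Q, p • x = 0) {G : Type*} [Group G] (hG : IsPGroup p G) [MulAction G Q]
    (h0 : ∀ g : G, g • (0 : Q) = 0) (hne : ∃ x : Q, x ≠ 0) :
    ∃ x : Q, x ≠ 0 ∧ ∀ g : G, g • x = x := by
  obtain ⟨x, hx⟩ := hne
  have hdvd : p ∣ Nat.card Q := by
    have h1 : addOrderOf x ∣ p := addOrderOf_dvd_of_nsmul_eq_zero (hQ x)
    have h2 : addOrderOf x = p := by
      rcases (Nat.dvd_prime (Fact.out : p.Prime)).mp h1 with h | h
      · exact absurd (AddMonoid.addOrderOf_eq_one_iff.mp h) hx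
      · exact h
    rw [← h2]
    exact addOrderOf_dvd_natCard x
  have hfix : (0 : Q) ∈ MulAction.fixedPoints G Q := fun g => h0 g
  obtain ⟨y, hy, hy0⟩ := hG.exists_fixed_point_of_prime_dvd_card_of_fixed_point Q hdvd hfix
  exact ⟨y, fun h => hy0 h.symm, fun g => hy g⟩


theorem tspfix_main [Finite F] (p : ℕ) [Fact p.Prime] [CharP F p] (G : Subgroup (Matrix.GeneralLinearGroup ι F))
    (hG : IsPGroup p G) (Λ S : AddSubgroup (Matrix ι ι F)) (hSΛ : S ≤ Λ)
    (hΛ : ∀ g ∈ G, ∀ η ∈ Λ, (g : Matrix ι ι F) * η * ((g⁻¹ : Matrix.GeneralLinearGroup ι F) : Matrix ι ι F) ∈ Λ)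
    (hS : ∀ g ∈ G, ∀ η ∈ S, (g : Matrix ι ι F) * η * ((g⁻¹ : Matrix.GeneralLinearGroup ι F) : Matrix ι ι F) ∈ S)
    (hne : ∃ η ∈ Λ, η ∉ S) :
    ∃ η ∈ Λ, η ∉ S ∧ ∀ g ∈ G,
      (g : Matrix ι ι F) * η * ((g⁻¹ : Matrix.GeneralLinearGroup ι F) : Matrix ι ι F) - η ∈ S := by
  classical
  let φ : G → (Λ →+ Λ) := fun g =>
    ((tspfix_conj (g : Matrix.GeneralLinearGroup ι F)).comp Λ.subtype).codRestrict Λ
      (fun η => hΛ g g.2 η η.2)
  have hφ : ∀ (g : G) (η : Λ), ((φ g η : Λ) : Matrix ι ι F) =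
      tspfix_conj (g : Matrix.GeneralLinearGroup ι F) (η : Matrix ι ι F) := fun g η => rfl
  let N : AddSubgroup Λ := S.addSubgroupOf Λ
  have hN : ∀ g : G, N ≤ N.comap (φ g) := by
    intro g x hx
    rw [AddSubgroup.mem_comap]
    rw [AddSubgroup.mem_addSubgroupOf] at hx ⊢
    rw [hφ]
    exact hS g g.2 _ hx
  let _ : MulAction G (Λ ⧸ N) :=
    { smul := fun g q => QuotientAddGroup.map N N (φ g) (hN g) q
      one_smul := by
        intro q
        induction q using QuotientAddGroup.induction_on with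
        | H x =>
          show QuotientAddGroup.map N N (φ 1) (hN 1) (x : Λ ⧸ N) = (x : Λ ⧸ N)
          rw [QuotientAddGroup.map_mk]
          congr 1
          apply Subtype.ext
          rw [hφ]
          exact tspfix_conj_one _
      mul_smul := by
        intro g h q
        induction q using QuotientAddGroup.induction_on with
        | H x =>
          show QuotientAddGroup.map N N (φ (g * h)) (hN (g * h)) (x : Λ ⧸ N) =
            QuotientAddGroup.map N N (φ g) (hN g)
              (QuotientAddGroup.map N N (φ h) (hN h) (x : Λ ⧸ N))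
          rw [QuotientAddGroup.map_mk, QuotientAddGroup.map_mk, QuotientAddGroup.map_mk]
          congr 1
          apply Subtype.ext
          rw [hφ, hφ, hφ]
          exact tspfix_conj_mul _ _ _ }
  have hsmul : ∀ (g : G) (x : Λ), g • (x : Λ ⧸ N) = ((φ g x : Λ) : Λ ⧸ N) := by
    intro g x
    show QuotientAddGroup.map N N (φ g) (hN g) (x : Λ ⧸ N) = _
    rw [QuotientAddGroup.map_mk]
  have hQ : ∀ x : Λ ⧸ N, p • x = 0 := by
    intro x
    induction x using QuotientAddGroup.induction_on with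
    | H x =>
      have : p • x = 0 := by
        apply Subtype.ext
        rw [AddSubgroup.coe_nsmul, ← Nat.cast_smul_eq_nsmul F p, CharP.cast_eq_zero F p, zero_smul]
        rfl
      rw [← QuotientAddGroup.mk_nsmul, this, QuotientAddGroup.mk_zero]
  obtain ⟨η₀, hη₀Λ, hη₀S⟩ := hne
  obtain ⟨x, hx0, hxfix⟩ := tspfix_abs (Q := Λ ⧸ N) p hQ (G := G) hG
    (by
      intro g
      have := hsmul g 0
      rw [map_zero] at this
      exact this)
    ⟨((⟨η₀, hη₀Λ⟩ : Λ) : Λ ⧸ N), by
      intro h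
      rw [QuotientAddGroup.eq_zero_iff] at h
      exact hη₀S (AddSubgroup.mem_addSubgroupOf.mp h)⟩
  obtain ⟨η, rfl⟩ := QuotientAddGroup.mk_surjective x
  refine ⟨η.1, η.2, ?_, ?_⟩
  · intro h
    apply hx0
    rw [QuotientAddGroup.eq_zero_iff]
    exact AddSubgroup.mem_addSubgroupOf.mpr h
  · intro g hg
    have h1 := hxfix ⟨g, hg⟩
    rw [hsmul, QuotientAddGroup.eq] at h1
    have h2 := AddSubgroup.mem_addSubgroupOf.mp h1
    have h3 := S.neg_mem h2
    have e : -(((-(φ ⟨g, hg⟩ η) + η : Λ) : Λ) : Matrix ι ι F) =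
        (g : Matrix ι ι F) * η.1 * ((g⁻¹ : Matrix.GeneralLinearGroup ι F) : Matrix ι ι F) - η.1 := by
      rw [AddSubgroup.coe_add, AddSubgroup.coe_neg, hφ]
      simp only [tspfix_conj, AddMonoidHom.coe_mk, ZeroHom.coe_mk]
      abel
    rwa [e] at h3

end Cfsg.Agent.Lib.Helper21.TS
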