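import Mathlib

set_option autoImplicit false

namespace Cfsg.Agent.Lib.Helper24.TT

theorem card_sylow3_of_card54 {H : Type*} [Group H] [Finite H] (hcard : Nat.card H = 54)
    (P : Sylow 3 H) : Nat.card ↥(P : Subgroup H) = 27 := by
  have : Fact (Nat.Prime 3) := ⟨Nat.prime_three⟩
  rw [Sylow.card_eq_multiplicity, hcard]
  have h54 : (54 : ℕ) = 3 ^ 3 * 2 := by norm_num
  have : (54 : ℕ).factorization 3 = 3 := by
    rw [h54, Nat.factorization_mul (by norm_num) (by norm_num), Nat.factorization_pow]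
    simp [Nat.Prime.factorization_self Nat.prime_three]
    rw [Nat.factorization_eq_zero_of_not_dvd (by norm_num)]
  rw [this]
  norm_num

theorem comm_of_card_dvd27 {H : Type*} [Group H] (Q : Subgroup H) [Finite Q]
    (hQ : Nat.card Q = 1 ∨ Nat.card Q = 3 ∨ Nat.card Q = 9) (x y : H) (hx : x ∈ Q) (hy : y ∈ Q) :
    x * y = y * x := by
  have : Fact (Nat.Prime 3) := ⟨Nat.prime_three⟩
  have key : ∀ a b : Q, a * b = b * a := by
    rcases hQ with h | h | h
    · have := (Nat.card_eq_one_iff_unique.mp h).1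
      intro a b
      rw [Subsingleton.elim a b]
    · have hc : IsCyclic Q := isCyclic_of_prime_card h
      have hmc : IsMulCommutative Q := IsCyclic.isMulCommutative
      intro a b
      exact hmc.is_comm.comm a b
    · have h9 : Nat.card Q = 3 ^ 2 := by rw [h]; norm_num
      have hmc : IsMulCommutative Q := IsPGroup.isMulCommutative_of_card_eq_prime_sq h9
      intro a b
      exact hmc.is_comm.comm a b
  have := key ⟨x, hx⟩ ⟨y, hy⟩
  exact congrArg Subtype.val this

set_option linter.unusedVariables false in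
theorem exists_triple {H : Type*} [Group H] [Finite H] (hcard : Nat.card H = 54)
    (E : Set H) (d₀ : H) (hd₀ : d₀ ^ 2 = 1) (hE : E = conjugatesOf d₀)
    (hgen : Subgroup.closure E = ⊤)
    (h3 : ∀ d ∈ E, ∀ e ∈ E, (d * e) ^ 2 = 1 ∨ (d * e) ^ 3 = 1)
    (hnc : ∃ x y : H, x ^ 3 = 1 ∧ y ^ 3 = 1 ∧ x * y ≠ y * x) :
    ∃ d ∈ E, ∃ e ∈ E, ∃ f ∈ E, Subgroup.closure ({d, e, f} : Set H) = ⊤ ∧
      (d * e) ^ 2 ≠ 1 ∧ (e * f) ^ 2 ≠ 1 ∧ (f * d) ^ 2 ≠ 1 ∧ (d * (e * f * e)) ^ 2 ≠ 1 := by
  have hp3 : Fact (Nat.Prime 3) := ⟨Nat.prime_three⟩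
  obtain ⟨P⟩ : Nonempty (Sylow 3 H) := inferInstance
  have hP27 : Nat.card ↥(P : Subgroup H) = 27 := card_sylow3_of_card54 hcard P
  have hidx : (P : Subgroup H).index = 2 := by
    have := (P : Subgroup H).card_mul_index
    rw [hP27, hcard] at this
    omega
  have hPn : (P : Subgroup H).Normal := Subgroup.normal_of_index_eq_two hidx
  have hd₀E : d₀ ∈ E := by rw [hE]; exact mem_conjugatesOf_self
  have hd₀1 : d₀ ≠ 1 := by
    intro h
    have hE1 : E = {1} := by
      rw [hE, h]
      ext g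
      constructor
      · intro hg
        have hg' : IsConj (1 : H) g := hg
        exact (isConj_one_right.mp hg')
      · intro hg
        rw [Set.mem_singleton_iff] at hg
        rw [hg]; exact mem_conjugatesOf_self
    rw [hE1, Subgroup.closure_singleton_one] at hgen
    have : Nat.card (⊥ : Subgroup H) = 1 := Subgroup.card_bot
    rw [hgen, Subgroup.card_top, hcard] at this
    omega
  have hodd : ∀ g : H, g ∈ (P : Subgroup H) → g ^ 2 = 1 → g = 1 := by
    intro g hg h2
    have h27 : g ^ 27 = 1 := by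
      have := pow_card_eq_one' (G := ↥(P : Subgroup H)) (x := ⟨g, hg⟩)
      rw [hP27] at this
      exact congrArg Subtype.val this
    have : g = g ^ 27 * ((g ^ 2) ^ 13)⁻¹ := by
      rw [← pow_mul]; group
    rw [this, h27, h2]; simp
  have hthree : ∀ g : H, g ^ 3 = 1 → g ∈ (P : Subgroup H) := by
    intro g hg
    have hq2 : ((g : H) : H ⧸ (P : Subgroup H)) ^ 2 = 1 := by
      have hc : Nat.card (H ⧸ (P : Subgroup H)) = 2 := hidx
      have := pow_card_eq_one' (G := H ⧸ (P : Subgroup H)) (x := (g : H ⧸ (P : Subgroup H)))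
      rwa [hc] at this
    have hq3 : ((g : H) : H ⧸ (P : Subgroup H)) ^ 3 = 1 := by
      rw [← QuotientGroup.mk_pow, hg]; rfl
    have hq1 : ((g : H) : H ⧸ (P : Subgroup H)) = 1 := by
      have : ((g : H) : H ⧸ (P : Subgroup H)) = (g : H ⧸ (P : Subgroup H)) ^ 3 * (((g : H) : H ⧸ (P : Subgroup H)) ^ 2)⁻¹ := by
        group
      rw [this, hq3, hq2]; simp
    exact (QuotientGroup.eq_one_iff g).mp hq1
  have hEinv : ∀ e ∈ E, e ^ 2 = 1 ∧ e ≠ 1 := by
    intro e he
    rw [hE] at he
    have he' : IsConj d₀ e := he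
    rw [isConj_iff] at he'
    obtain ⟨c, rfl⟩ := he'
    constructor
    · rw [conj_pow, hd₀]; simp
    · intro h
      apply hd₀1
      have : d₀ = c⁻¹ * (c * d₀ * c⁻¹) * c := by group
      rw [this, h]; simp
  have hEout : ∀ e ∈ E, e ∉ (P : Subgroup H) := by
    intro e he heP
    exact (hEinv e he).2 (hodd e heP (hEinv e he).1)
  have hmulP : ∀ a b : H, a ∉ (P : Subgroup H) → b ∉ (P : Subgroup H) → a * b ∈ (P : Subgroup H) := by
    intro a b ha hb
    rw [Subgroup.mul_mem_iff_of_index_two hidx]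
    exact ⟨fun h => absurd h ha, fun h => absurd h hb⟩
  have hd₀inv : d₀⁻¹ = d₀ := by
    rw [inv_eq_iff_mul_eq_one, ← pow_two, hd₀]
  set T : Set H := {t | ∃ e ∈ E, t = d₀ * e} with hT
  set M : Subgroup H := Subgroup.closure T with hM
  have hTP : T ⊆ (P : Subgroup H) := by
    rintro t ⟨e, he, rfl⟩
    exact hmulP _ _ (hEout d₀ hd₀E) (hEout e he)
  have hMP : M ≤ (P : Subgroup H) := (Subgroup.closure_le _).mpr hTP
  have hconj : ∀ m ∈ M, d₀ * m * d₀ ∈ M := by
    intro m hm
    induction hm using Subgroup.closure_induction with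
    | mem t ht =>
      obtain ⟨e, he, rfl⟩ := ht
      have : d₀ * (d₀ * e) * d₀ = (d₀ * e)⁻¹ := by
        have he2 := (hEinv e he).1
        have heinv : e⁻¹ = e := by rw [inv_eq_iff_mul_eq_one, ← pow_two, he2]
        rw [mul_inv_rev, heinv, hd₀inv, ← mul_assoc, ← pow_two, hd₀, one_mul]
      rw [this]
      exact M.inv_mem (Subgroup.subset_closure ⟨e, he, rfl⟩)
    | one =>
      have : d₀ * 1 * d₀ = 1 := by rw [mul_one, ← pow_two, hd₀]
      rw [this]; exact M.one_mem
    | mul a b _ _ iha ihb =>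
      have : d₀ * (a * b) * d₀ = (d₀ * a * d₀) * (d₀ * b * d₀) := by
        have : d₀ * d₀ = 1 := by rw [← pow_two, hd₀]
        calc d₀ * (a * b) * d₀ = d₀ * a * 1 * b * d₀ := by group
          _ = d₀ * a * (d₀ * d₀) * b * d₀ := by rw [this]
          _ = (d₀ * a * d₀) * (d₀ * b * d₀) := by group
      rw [this]; exact M.mul_mem iha ihb
    | inv a _ iha =>
      have : d₀ * a⁻¹ * d₀ = (d₀ * a * d₀)⁻¹ := by
        rw [mul_inv_rev, mul_inv_rev, hd₀inv, mul_assoc]
      rw [this]; exact M.inv_mem iha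
  have hcover : ∀ h : H, h ∈ M ∨ h * d₀ ∈ M := by
    intro h
    have hh : h ∈ Subgroup.closure E := by rw [hgen]; trivial
    have hdd : d₀ * d₀ = 1 := by rw [← pow_two, hd₀]
    induction hh using Subgroup.closure_induction with
    | mem e he =>
      right
      have he2 := (hEinv e he).1
      have heinv : e⁻¹ = e := by rw [inv_eq_iff_mul_eq_one, ← pow_two, he2]
      have : e * d₀ = (d₀ * e)⁻¹ := by rw [mul_inv_rev, heinv, hd₀inv]
      rw [this]
      exact M.inv_mem (Subgroup.subset_closure ⟨e, he, rfl⟩)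
    | one => left; exact M.one_mem
    | mul a b _ _ iha ihb =>
      rcases iha with ha | ha <;> rcases ihb with hb | hb
      · left; exact M.mul_mem ha hb
      · right; rw [mul_assoc]; exact M.mul_mem ha hb
      · right
        have : a * b * d₀ = (a * d₀) * (d₀ * b * d₀) := by
          calc a * b * d₀ = a * 1 * b * d₀ := by group
            _ = a * (d₀ * d₀) * b * d₀ := by rw [hdd]
            _ = (a * d₀) * (d₀ * b * d₀) := by group
        rw [this]; exact M.mul_mem ha (hconj b hb)
      · left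
        have : a * b = (a * d₀) * (d₀ * (b * d₀) * d₀) := by
          calc a * b = a * 1 * b * 1 := by group
            _ = a * (d₀ * d₀) * b * (d₀ * d₀) := by rw [hdd]
            _ = (a * d₀) * (d₀ * (b * d₀) * d₀) := by group
        rw [this]; exact M.mul_mem ha (hconj _ hb)
    | inv a _ iha =>
      rcases iha with ha | ha
      · left; exact M.inv_mem ha
      · right
        have : a⁻¹ * d₀ = d₀ * (a * d₀)⁻¹ * d₀ := by
          rw [mul_inv_rev, hd₀inv]
          calc a⁻¹ * d₀ = 1 * a⁻¹ * d₀ := by group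
            _ = (d₀ * d₀) * a⁻¹ * d₀ := by rw [hdd]
            _ = d₀ * (d₀ * a⁻¹) * d₀ := by group
        rw [this]; exact hconj _ (M.inv_mem ha)
  have hthreeM : ∀ g : H, g ^ 3 = 1 → g ∈ M := by
    intro g hg
    rcases hcover g with h | h
    · exact h
    · exfalso
      have h1 : g * d₀ ∈ (P : Subgroup H) := hMP h
      have h2 : g ∈ (P : Subgroup H) := hthree g hg
      have : d₀ ∈ (P : Subgroup H) := by
        have := (P : Subgroup H).mul_mem ((P : Subgroup H).inv_mem h2) h1
        rwa [inv_mul_cancel_left] at this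
      exact hEout d₀ hd₀E this
  obtain ⟨x, y, hx3, hy3, hxy⟩ := hnc
  have hexT : ∃ t₁ ∈ T, ∃ t₂ ∈ T, t₁ * t₂ ≠ t₂ * t₁ := by
    by_contra hcon
    push Not at hcon
    have hmc : IsMulCommutative (Subgroup.closure T) := Subgroup.isMulCommutative_closure hcon
    have := hmc.is_comm.comm (⟨x, hthreeM x hx3⟩ : Subgroup.closure T) ⟨y, hthreeM y hy3⟩
    exact hxy (congrArg Subtype.val this)
  obtain ⟨t₁, ⟨e, he, rfl⟩, t₂, ⟨f, hf, rfl⟩, hne⟩ := hexT
  have he2 := (hEinv e he).1
  have hf2 := (hEinv f hf).1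
  have heinv : e⁻¹ = e := by rw [inv_eq_iff_mul_eq_one, ← pow_two, he2]
  have hfinv : f⁻¹ = f := by rw [inv_eq_iff_mul_eq_one, ← pow_two, hf2]
  have hdd : d₀ * d₀ = 1 := by rw [← pow_two, hd₀]
  have hee : e * e = 1 := by rw [← pow_two, he2]
  have hff : f * f = 1 := by rw [← pow_two, hf2]
  set X := d₀ * e with hX
  set Y := d₀ * f with hY
  have hXP : X ∈ (P : Subgroup H) := hmulP _ _ (hEout d₀ hd₀E) (hEout e he)
  have hYP : Y ∈ (P : Subgroup H) := hmulP _ _ (hEout d₀ hd₀E) (hEout f hf)
  have hef : e * f = X⁻¹ * Y := by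
    rw [hX, hY, mul_inv_rev, heinv, hd₀inv]
    calc e * f = e * 1 * f := by group
      _ = e * (d₀ * d₀) * f := by rw [hdd]
      _ = e * d₀ * (d₀ * f) := by group
  have hfd : f * d₀ = Y⁻¹ := by rw [hY, mul_inv_rev, hfinv, hd₀inv]
  have hfe : f * e = Y⁻¹ * X := by
    rw [hX, hY, mul_inv_rev, hfinv, hd₀inv]
    calc f * e = f * 1 * e := by group
      _ = f * (d₀ * d₀) * e := by rw [hdd]
      _ = f * d₀ * (d₀ * e) := by group
  refine ⟨d₀, hd₀E, e, he, f, hf, ?_, ?_, ?_, ?_, ?_⟩
  · set K := Subgroup.closure ({d₀, e, f} : Set H) with hK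
    have hdK : d₀ ∈ K := Subgroup.subset_closure (by simp)
    have heK : e ∈ K := Subgroup.subset_closure (by simp)
    have hfK : f ∈ K := Subgroup.subset_closure (by simp)
    set Q := Subgroup.closure ({X, Y} : Set H) with hQ
    have hXQ : X ∈ Q := Subgroup.subset_closure (by simp)
    have hYQ : Y ∈ Q := Subgroup.subset_closure (by simp)
    have hQK : Q ≤ K := by
      rw [hQ, Subgroup.closure_le]
      intro z hz
      rcases hz with rfl | rfl
      · exact K.mul_mem hdK heK
      · exact K.mul_mem hdK hfK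
    have hQP : Q ≤ (P : Subgroup H) := by
      rw [hQ, Subgroup.closure_le]
      intro z hz
      rcases hz with rfl | rfl
      · exact hXP
      · exact hYP
    have hQdvd : Nat.card Q ∣ 27 := by
      rw [← hP27]; exact Subgroup.card_dvd_of_le hQP
    have hQ27 : Nat.card Q = 27 := by
      have hdiv : Nat.card Q ∈ Nat.divisors 27 := by
        rw [Nat.mem_divisors]; exact ⟨hQdvd, by norm_num⟩
      have h27 : Nat.divisors 27 = {1, 3, 9, 27} := by decide
      rw [h27] at hdiv
      simp only [Finset.mem_insert, Finset.mem_singleton] at hdiv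
      rcases hdiv with h | h | h | h
      · exact absurd (comm_of_card_dvd27 Q (Or.inl h) X Y hXQ hYQ) hne
      · exact absurd (comm_of_card_dvd27 Q (Or.inr (Or.inl h)) X Y hXQ hYQ) hne
      · exact absurd (comm_of_card_dvd27 Q (Or.inr (Or.inr h)) X Y hXQ hYQ) hne
      · exact h
    have hQeq : Q = (P : Subgroup H) :=
      Subgroup.eq_of_le_of_card_ge hQP (by rw [hQ27, hP27])
    have hPK : (P : Subgroup H) ≤ K := hQeq ▸ hQK
    have h27K : 27 ∣ Nat.card K := by
      rw [← hP27]; exact Subgroup.card_dvd_of_le hPK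
    have hK54 : Nat.card K ∣ 54 := by
      rw [← hcard]; exact Subgroup.card_subgroup_dvd_card K
    have hKne : Nat.card K ≠ 27 := by
      intro h
      have : (P : Subgroup H) = K := Subgroup.eq_of_le_of_card_ge hPK (by rw [h, hP27])
      exact hEout d₀ hd₀E (this ▸ hdK)
    have hKc : Nat.card K = 54 := by
      obtain ⟨c, hc⟩ := h27K
      have hcpos : c ∣ 2 := by
        have : 27 * c ∣ 27 * 2 := by rw [← hc]; exact hK54
        exact Nat.dvd_of_mul_dvd_mul_left (by norm_num) this
      have : c = 1 ∨ c = 2 := by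
        have := Nat.le_of_dvd (by norm_num) hcpos
        have hc0 : c ≠ 0 := by rintro rfl; simp at hcpos
        omega
      rcases this with rfl | rfl
      · exact absurd (by rw [hc]) hKne
      · rw [hc]
    exact (Subgroup.card_eq_iff_eq_top K).mp (by rw [hKc, hcard])
  · intro h
    have h1 : X = 1 := hodd X hXP h
    apply hne
    rw [h1, one_mul, mul_one]
  · intro h
    have hP' : e * f ∈ (P : Subgroup H) := hmulP _ _ (hEout e he) (hEout f hf)
    have h1 : e * f = 1 := hodd _ hP' h
    rw [hef] at h1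
    have : Y = X := by
      have := congrArg (fun z => X * z) h1
      simpa using this
    apply hne
    rw [this]
  · intro h
    have hP' : f * d₀ ∈ (P : Subgroup H) := hmulP _ _ (hEout f hf) (hEout d₀ hd₀E)
    have h1 : f * d₀ = 1 := hodd _ hP' h
    rw [hfd] at h1
    have : Y = 1 := by simpa using h1
    apply hne
    rw [this, one_mul, mul_one]
  · intro h
    have hrew : d₀ * (e * f * e) = X * Y⁻¹ * X := by
      calc d₀ * (e * f * e) = (d₀ * e) * (f * e) := by group
        _ = X * (Y⁻¹ * X) := by rw [hfe]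
        _ = X * Y⁻¹ * X := by group
    have hP' : X * Y⁻¹ * X ∈ (P : Subgroup H) :=
      (P : Subgroup H).mul_mem ((P : Subgroup H).mul_mem hXP ((P : Subgroup H).inv_mem hYP)) hXP
    rw [hrew] at h
    have h1 : X * Y⁻¹ * X = 1 := hodd _ hP' h
    have hYX : Y = X * X := by
      have := congrArg (fun z => z * X⁻¹ * Y) h1
      simp only [one_mul] at this
      have h2 : X * Y⁻¹ * X * X⁻¹ * Y = X := by group
      rw [h2] at this
      have h3 : X * X = Y := by
        calc X * X = X * (X⁻¹ * Y) := by rw [← this]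
          _ = Y := by group
      exact h3.symm
    apply hne
    rw [hYX]; group

end Cfsg.Agent.Lib.Helper24.TT
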