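import Cfsg.Agent.S0782

set_option autoImplicit false

namespace Cfsg.Agent.Lib.Helper24.TT

open Matrix

variable {F : Type*} [Field F] [Fintype F]

omit [Fintype F] in
theorem stabilizing_zero_eq_top (n : ℕ) :
    Cfsg.stabilizing (Cfsg.slToMat n F) (((⊥ : Submodule F (Fin n → F)) : Set (Fin n → F))) = ⊤ := by
  rw [eq_top_iff]
  intro h _
  show ∀ v, v ∈ ((⊥ : Submodule F (Fin n → F)) : Set (Fin n → F)) ↔
    Cfsg.slToMat n F h *ᵥ v ∈ ((⊥ : Submodule F (Fin n → F)) : Set (Fin n → F))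
  intro v
  simp only [SetLike.mem_coe, Submodule.mem_bot]
  constructor
  · intro hv
    rw [hv, Matrix.mulVec_zero]
  · intro hv
    have hinv : Cfsg.slToMat n F h⁻¹ * Cfsg.slToMat n F h = 1 := by
      rw [← map_mul, inv_mul_cancel, map_one]
    have := congrArg (fun w => Cfsg.slToMat n F h⁻¹ *ᵥ w) hv
    simp only [Matrix.mulVec_mulVec, hinv, Matrix.one_mulVec, Matrix.mulVec_zero] at this
    exact this

theorem card_SU32 (hF : Fintype.card F = 4) : Nat.card ↥(Cfsg.SU 3 F 2) = 216 := by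
  have hF' : Fintype.card F = 2 ^ 2 := by rw [hF]; norm_num
  have hW : ∀ u ∈ (⊥ : Submodule F (Fin 3 → F)), ∀ v ∈ (⊥ : Submodule F (Fin 3 → F)),
      Cfsg.hermForm 3 F 2 u v = 0 := by
    intro u hu v _
    rw [Submodule.mem_bot] at hu
    rw [hu]
    simp [Cfsg.hermForm]
  have hfr : Module.finrank F (⊥ : Submodule F (Fin 3 → F)) = 0 := finrank_bot F (Fin 3 → F)
  have key := Cfsg.Agent.S0782.result hF' 3 0 (by norm_num) (by norm_num) ⊥ hfr hW
  rw [stabilizing_zero_eq_top] at key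
  have hc : Nat.card ↥((⊤ : Subgroup (Matrix.SpecialLinearGroup (Fin 3) F)).subgroupOf (Cfsg.SU 3 F 2))
      = Nat.card ↥(Cfsg.SU 3 F 2) := by
    rw [Subgroup.top_subgroupOf, Subgroup.card_top]
  rw [hc] at key
  have hval : (2 : ℕ) ^ (0 * (2 * 3 - 3 * 0)) * (∏ i : Fin 0, ((2 ^ 2) ^ 0 - (2 ^ 2) ^ (i : ℕ))) *
      (2 ^ ((3 - 2 * 0) * ((3 - 2 * 0) - 1) / 2) * ∏ i ∈ Finset.range (3 - 2 * 0),
        (if Even i then 2 ^ (i + 1) + 1 else 2 ^ (i + 1) - 1)) = 648 := by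
    decide
  rw [hval] at key
  omega

end Cfsg.Agent.Lib.Helper24.TT
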