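import Mathlib
import Cfsg.Prelude.Def_ChevStructure
import Cfsg.Agent.Lib.helper14.TWI.Defs
import Cfsg.Agent.Lib.Helper22.TWIORB2b

set_option autoImplicit false
set_option linter.unusedVariables false

namespace Cfsg.Agent.Lib.helper14.TWI

open Cfsg.Lie Cfsg.Lie.ChevalleyDatum Cfsg.Agent.Lib.helper8 Cfsg.Agent.Lib.helper14
  Cfsg.Agent.Lib.helper14.INV

theorem orb_comm_w (D : ChevalleyDatum) (hB0 : H8Base.{0} D) (hA : H8ReflAll D) (hBN : H8BN D)
    (hW : H8BN2 D) (hO2 : H8Ord2 D) (O : List ℕ) (hO : IsOrb D O) (w : List ℕ) (hw : ValidW D w)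
    (hp : PermO D w O) :
    ∀ r < D.nroots, h8sW D (O ++ w ++ O.reverse) r = h8sW D w r :=
  twiorb2b_comm_w D hB0 hA hBN hW hO2 O hO w hw hp

end Cfsg.Agent.Lib.helper14.TWI
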