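import Mathlib
import Cfsg.Prelude.Def_GeometricClasses

set_option autoImplicit false
set_option linter.unusedVariables false
set_option linter.unusedSectionVars false

namespace Cfsg.Agent.Lib.Helper15.TX2S

open Cfsg Cfsg.Geo
open scoped MatrixGroups Matrix

variable {n : ℕ} {F : Type*} [Field F]

theorem tx2spq3_polar_sum (Q : QuadraticForm F (Fin n → F)) {t : ℕ} (c : F) (p : Fin t → (Fin n → F))
    (hp : ∀ x : Fin t → F, Q (∑ i, x i • p i) = c * ∑ i, x i * x i) (x y : Fin t → F) :
    QuadraticMap.polar (⇑Q) (∑ i, x i • p i) (∑ i, y i • p i) = c * (2 * ∑ i, x i * y i) := by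
  have h1 : (∑ i, x i • p i) + (∑ i, y i • p i) = ∑ i, (x + y) i • p i := by
    rw [← Finset.sum_add_distrib]
    refine Finset.sum_congr rfl fun i _ => ?_
    rw [Pi.add_apply, add_smul]
  unfold QuadraticMap.polar
  rw [h1, hp, hp, hp]
  simp only [Pi.add_apply]
  have key : ∑ i, (x i + y i) * (x i + y i) = ∑ i, x i * x i + ∑ i, y i * y i + 2 * ∑ i, x i * y i := by
    rw [Finset.mul_sum, ← Finset.sum_add_distrib, ← Finset.sum_add_distrib]
    refine Finset.sum_congr rfl fun i _ => ?_
    ring
  rw [key]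
  ring

theorem tx2spq3_not_iso (hm1 : ¬ IsSquare (-1 : F)) (h2 : (2 : F) ≠ 0) (Q : QuadraticForm F (Fin n → F))
    {t : ℕ} (ht : Odd t) (p m : Fin t → (Fin n → F))
    (hp : ∀ x : Fin t → F, Q (∑ i, x i • p i) = ∑ i, x i * x i)
    (hm : ∀ x : Fin t → F, Q (∑ i, x i • m i) = - ∑ i, x i * x i) :
    ¬ AreIsometricFor (⇑Q) (Submodule.span F (Set.range p)) (Submodule.span F (Set.range m)) := by
  classical
  rintro ⟨e, he⟩
  have hp' : ∀ x : Fin t → F, Q (∑ i, x i • p i) = 1 * ∑ i, x i * x i := fun x => by rw [one_mul, hp]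
  have hm' : ∀ x : Fin t → F, Q (∑ i, x i • m i) = (-1) * ∑ i, x i * x i := fun x => by
    rw [hm]; ring
  have hpolp := tx2spq3_polar_sum Q 1 p hp'
  have hpolm := tx2spq3_polar_sum Q (-1) m hm'
  have hsingle : ∀ (v : Fin t → (Fin n → F)) (j : Fin t), ∑ i, (Pi.single j (1 : F) : Fin t → F) i • v i = v j := by
    intro v j
    rw [Finset.sum_eq_single j]
    · rw [Pi.single_eq_same, one_smul]
    · intro b _ hb
      rw [Pi.single_eq_of_ne hb, zero_smul]
    · intro h
      exact absurd (Finset.mem_univ _) h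
  have hpmem : ∀ j, p j ∈ Submodule.span F (Set.range p) := fun j => Submodule.subset_span ⟨j, rfl⟩
  have hepol : ∀ a b : Submodule.span F (Set.range p),
      QuadraticMap.polar (⇑Q) ((e a : Submodule.span F (Set.range m)) : Fin n → F)
        ((e b : Submodule.span F (Set.range m)) : Fin n → F) =
      QuadraticMap.polar (⇑Q) (a : Fin n → F) (b : Fin n → F) := by
    intro a b
    have h1 : ((e a : Submodule.span F (Set.range m)) : Fin n → F) + ((e b : Submodule.span F (Set.range m)) : Fin n → F) =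
        ((e (a + b) : Submodule.span F (Set.range m)) : Fin n → F) := by
      rw [map_add]
      rfl
    have h3 : ((a + b : Submodule.span F (Set.range p)) : Fin n → F) = (a : Fin n → F) + (b : Fin n → F) := rfl
    unfold QuadraticMap.polar
    rw [h1, he, he, he, h3]
  have hex : ∀ j, ∃ c : Fin t → F,
      ((e ⟨p j, hpmem j⟩ : Submodule.span F (Set.range m)) : Fin n → F) = ∑ i, c i • m i := by
    intro j
    have h1 := (e ⟨p j, hpmem j⟩).2
    rw [Submodule.mem_span_range_iff_exists_fun] at h1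
    obtain ⟨c, hc⟩ := h1
    exact ⟨c, hc.symm⟩
  choose c hc using hex
  obtain ⟨M, hM⟩ : ∃ M : Matrix (Fin t) (Fin t) F, M = Matrix.of fun i j => c j i := ⟨_, rfl⟩
  have hMM : Mᵀ * M = -1 := by
    ext j k
    have h1 := hepol ⟨p j, hpmem j⟩ ⟨p k, hpmem k⟩
    rw [hc j, hc k, hpolm] at h1
    have h3 : QuadraticMap.polar (⇑Q) (p j) (p k) = 1 * (2 * if j = k then 1 else 0) := by
      have h4 := hpolp (Pi.single j 1) (Pi.single k 1)
      rw [hsingle, hsingle] at h4
      rw [h4]
      congr 2
      rw [Finset.sum_eq_single j]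
      · rw [Pi.single_eq_same, one_mul, Pi.single_apply]
      · intro b _ hb
        rw [Pi.single_eq_of_ne hb, zero_mul]
      · intro h
        exact absurd (Finset.mem_univ _) h
    have h5 : (Mᵀ * M) j k = ∑ i, c j i * c k i := by
      rw [Matrix.mul_apply]
      refine Finset.sum_congr rfl fun i _ => ?_
      rw [Matrix.transpose_apply, hM]
      rfl
    have h6 : (-1 : Matrix (Fin t) (Fin t) F) j k = -(if j = k then 1 else 0) := by
      rw [Matrix.neg_apply, Matrix.one_apply]
    rw [h5, h6]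
    have h7 : (-1 : F) * (2 * ∑ i, c j i * c k i) = 1 * (2 * if j = k then 1 else 0) := by
      rw [← h3]
      exact h1
    have h8 : (2 : F) * (∑ i, c j i * c k i) = 2 * -(if j = k then (1 : F) else 0) := by
      linear_combination (-1 : F) * h7
    exact mul_left_cancel₀ h2 h8
  have hdet := congrArg Matrix.det hMM
  rw [Matrix.det_mul, Matrix.det_transpose, Matrix.det_neg, Matrix.det_one, mul_one, Fintype.card_fin,
    Odd.neg_one_pow ht] at hdet
  exact hm1 ⟨M.det, hdet.symm⟩

end Cfsg.Agent.Lib.Helper15.TX2S
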