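import Mathlib
import Cfsg.Prelude.Def_GeometricClasses

set_option autoImplicit false
set_option linter.unusedVariables false
set_option linter.unusedSectionVars false

namespace Cfsg.Agent.Lib.Helper15.TX2S

open Cfsg Cfsg.Geo
open scoped MatrixGroups Matrix

variable {n : ℕ} {F : Type*} [Field F]

theorem tx2spq3c_polar_sum {ι : Type*} [Fintype ι] (Q : QuadraticForm F (Fin n → F)) (c : F)
    (p : ι → (Fin n → F)) (hp : ∀ x : ι → F, Q (∑ i, x i • p i) = c * ∑ i, x i * x i) (x y : ι → F) :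
    QuadraticMap.polar (⇑Q) (∑ i, x i • p i) (∑ i, y i • p i) = c * (2 * ∑ i, x i * y i) := by
  have h1 : (∑ i, x i • p i) + (∑ i, y i • p i) = ∑ i, (x + y) i • p i := by
    rw [← Finset.sum_add_distrib]
    refine Finset.sum_congr rfl fun i _ => ?_
    rw [Pi.add_apply, add_smul]
  unfold QuadraticMap.polar
  rw [h1, hp, hp, hp]
  simp only [Pi.add_apply]
  have key : ∑ i, (x i + y i) * (x i + y i) = ∑ i, x i * x i + ∑ i, y i * y i + 2 * ∑ i, x i * y i := by
    rw [Finset.mul_sum, ← Finset.sum_add_distrib, ← Finset.sum_add_distrib]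
    refine Finset.sum_congr rfl fun i _ => ?_
    ring
  rw [key]
  ring

theorem tx2spq3c_li {ι : Type*} [Fintype ι] [DecidableEq ι] (h2 : (2 : F) ≠ 0)
    (Q : QuadraticForm F (Fin n → F)) (c : F) (hc : c ≠ 0)
    (p : ι → (Fin n → F)) (hp : ∀ x : ι → F, Q (∑ i, x i • p i) = c * ∑ i, x i * x i) :
    LinearIndependent F p := by
  rw [Fintype.linearIndependent_iff]
  intro g hg j
  have h1 := tx2spq3c_polar_sum Q c p hp g (Pi.single j 1)
  rw [hg] at h1
  have h3 : QuadraticMap.polar (⇑Q) 0 (∑ i, (Pi.single j (1 : F) : ι → F) i • p i) = 0 := by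
    unfold QuadraticMap.polar
    rw [zero_add, QuadraticMap.map_zero]
    ring
  rw [h3] at h1
  have h4 : ∑ i, g i * (Pi.single j (1 : F) : ι → F) i = g j := by
    rw [Finset.sum_eq_single j]
    · rw [Pi.single_eq_same, mul_one]
    · intro b _ hb
      rw [Pi.single_eq_of_ne hb, mul_zero]
    · intro h
      exact absurd (Finset.mem_univ _) h
  rw [h4] at h1
  rcases mul_eq_zero.1 h1.symm with h5 | h5
  · exact absurd h5 hc
  · rcases mul_eq_zero.1 h5 with h6 | h6
    · exact absurd h6 h2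
    · exact h6

theorem tx2spq3c_iso_gen {ι : Type*} [Fintype ι] [DecidableEq ι] (h2 : (2 : F) ≠ 0) (a b : F)
    (hab : a * a + b * b = -1) (Q : QuadraticForm F (Fin n → F)) (τ : Equiv.Perm ι)
    (hτ : ∀ i, τ (τ i) = i) (ε : ι → F) (hε : ∀ i, ε (τ i) = - ε i) (hε1 : ∀ i, ε i * ε i = 1)
    (p m : ι → (Fin n → F))
    (hp : ∀ x : ι → F, Q (∑ i, x i • p i) = ∑ i, x i * x i)
    (hm : ∀ x : ι → F, Q (∑ i, x i • m i) = - ∑ i, x i * x i) :
    AreIsometricFor (⇑Q) (Submodule.span F (Set.range p)) (Submodule.span F (Set.range m)) := by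
  classical
  have hp' : ∀ x : ι → F, Q (∑ i, x i • p i) = 1 * ∑ i, x i * x i := fun x => by rw [one_mul, hp]
  have hm' : ∀ x : ι → F, Q (∑ i, x i • m i) = (-1) * ∑ i, x i * x i := fun x => by
    rw [hm]; ring
  have hlip : LinearIndependent F p := tx2spq3c_li h2 Q 1 one_ne_zero p hp'
  have hlim : LinearIndependent F m := tx2spq3c_li h2 Q (-1) (neg_ne_zero.2 one_ne_zero) m hm'
  obtain ⟨bp, hbp⟩ : ∃ bp : Module.Basis ι F (Submodule.span F (Set.range p)),
      ∀ i, ((bp i : Submodule.span F (Set.range p)) : Fin n → F) = p i :=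
    ⟨Module.Basis.span hlip, fun i => congrArg Subtype.val (Module.Basis.span_apply hlip i)⟩
  obtain ⟨T, hT⟩ : ∃ T : (ι → F) →ₗ[F] (ι → F), ∀ x k, T x k = a * x k - ε k * b * x (τ k) := by
    refine ⟨{ toFun := fun x k => a * x k - ε k * b * x (τ k), map_add' := ?_, map_smul' := ?_ },
      fun _ _ => rfl⟩
    · intro x y
      funext k
      simp only [Pi.add_apply]
      ring
    · intro c x
      funext k
      simp only [Pi.smul_apply, smul_eq_mul, RingHom.id_apply]
      ring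
  have hTnorm : ∀ x : ι → F, ∑ k, T x k * T x k = - ∑ k, x k * x k := by
    intro x
    have hS : ∑ k, ε k * x k * x (τ k) = 0 := by
      have h1 : ∑ k, ε k * x k * x (τ k) = ∑ k, ε (τ k) * x (τ k) * x (τ (τ k)) :=
        (Equiv.sum_comp τ (fun k => ε k * x k * x (τ k))).symm
      have h3 : ∑ k, ε (τ k) * x (τ k) * x (τ (τ k)) = - ∑ k, ε k * x k * x (τ k) := by
        rw [← Finset.sum_neg_distrib]
        refine Finset.sum_congr rfl fun k _ => ?_
        rw [hτ, hε]
        ring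
      rw [h3] at h1
      have h4 : (2 : F) * ∑ k, ε k * x k * x (τ k) = 0 := by linear_combination h1
      exact (mul_eq_zero.1 h4).resolve_left h2
    have hτsum : ∑ k, x (τ k) * x (τ k) = ∑ k, x k * x k := Equiv.sum_comp τ (fun k => x k * x k)
    have h5 : ∑ k, T x k * T x k = a * a * ∑ k, x k * x k + b * b * ∑ k, x (τ k) * x (τ k) -
        2 * a * b * ∑ k, ε k * x k * x (τ k) := by
      rw [Finset.mul_sum, Finset.mul_sum, Finset.mul_sum, ← Finset.sum_add_distrib,
        ← Finset.sum_sub_distrib]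
      refine Finset.sum_congr rfl fun k _ => ?_
      rw [hT]
      linear_combination (b * b * x (τ k) * x (τ k)) * hε1 k
    rw [h5, hτsum, hS]
    linear_combination (∑ k, x k * x k) * hab
  have hTinj : ∀ x : ι → F, T x = 0 → x = 0 := by
    intro x hx
    funext k
    have h1 := congrFun hx k
    have h3 := congrFun hx (τ k)
    rw [hT] at h1 h3
    rw [hτ, hε] at h3
    simp only [Pi.zero_apply] at h1 h3 ⊢
    have h4 : (a * a + b * b) * x k = 0 := by
      linear_combination a * h1 + ε k * b * h3 - (b * b * x k) * hε1 k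
    rw [hab] at h4
    linear_combination -h4
  obtain ⟨f₀, hf₀⟩ : ∃ f₀ : Submodule.span F (Set.range p) →ₗ[F] (Fin n → F),
      ∀ w, f₀ w = ∑ k, T (bp.equivFun w) k • m k :=
    ⟨(Fintype.linearCombination F m).comp (T.comp bp.equivFun.toLinearMap), fun _ => rfl⟩
  have hf₀mem : ∀ w, f₀ w ∈ Submodule.span F (Set.range m) := by
    intro w
    rw [hf₀]
    exact Submodule.sum_mem _ fun k _ => Submodule.smul_mem _ _ (Submodule.subset_span ⟨k, rfl⟩)
  obtain ⟨f, hf⟩ : ∃ f : Submodule.span F (Set.range p) →ₗ[F] Submodule.span F (Set.range m),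
      ∀ w, ((f w : Submodule.span F (Set.range m)) : Fin n → F) = f₀ w :=
    ⟨LinearMap.codRestrict _ f₀ hf₀mem, fun _ => rfl⟩
  have hwsum : ∀ w : Submodule.span F (Set.range p), (w : Fin n → F) = ∑ k, bp.equivFun w k • p k := by
    intro w
    have h1 := bp.sum_equivFun w
    have h3 := congrArg (Subtype.val) h1
    rw [← h3]
    simp only [Submodule.coe_sum, Submodule.coe_smul, hbp]
  have hfinj : Function.Injective f := by
    rw [injective_iff_map_eq_zero]
    intro w hw
    have h1 : f₀ w = 0 := by rw [← hf, hw]; rfl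
    rw [hf₀] at h1
    have h3 := Fintype.linearIndependent_iff.1 hlim _ h1
    have h4 : T (bp.equivFun w) = 0 := funext h3
    have h5 := hTinj _ h4
    exact bp.equivFun.injective (by rw [h5, map_zero])
  have hfin : Module.finrank F (Submodule.span F (Set.range p)) =
      Module.finrank F (Submodule.span F (Set.range m)) := by
    rw [finrank_span_eq_card hlip, finrank_span_eq_card hlim]
  refine ⟨LinearEquiv.ofInjectiveOfFinrankEq f hfinj hfin, fun w => ?_⟩
  have h1 : ((LinearEquiv.ofInjectiveOfFinrankEq f hfinj hfin w : Submodule.span F (Set.range m)) : Fin n → F) =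
      f₀ w := hf w
  rw [h1, hf₀, hm, hTnorm, neg_neg, hwsum w, hp]

theorem tx2spq3_iso_even (h2 : (2 : F) ≠ 0) (a b : F) (hab : a * a + b * b = -1)
    (Q : QuadraticForm F (Fin n → F)) {t : ℕ} (ht : Even t) (p m : Fin t → (Fin n → F))
    (hp : ∀ x : Fin t → F, Q (∑ i, x i • p i) = ∑ i, x i * x i)
    (hm : ∀ x : Fin t → F, Q (∑ i, x i • m i) = - ∑ i, x i * x i) :
    AreIsometricFor (⇑Q) (Submodule.span F (Set.range p)) (Submodule.span F (Set.range m)) := by
  classical
  obtain ⟨r, hr⟩ := ht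
  have htr : t = r * 2 := by omega
  obtain ⟨e⟩ : Nonempty (Fin t ≃ Fin r × Fin 2) := ⟨(finCongr htr).trans finProdFinEquiv.symm⟩
  obtain ⟨τ, hτdef⟩ : ∃ τ : Equiv.Perm (Fin t), ∀ i, τ i = e.symm ((e i).1, Equiv.swap (0 : Fin 2) 1 (e i).2) :=
    ⟨e.trans ((Equiv.prodCongr (Equiv.refl _) (Equiv.swap (0 : Fin 2) 1)).trans e.symm), fun _ => rfl⟩
  obtain ⟨ε, hεdef⟩ : ∃ ε : Fin t → F, ∀ i, ε i = if (e i).2 = 0 then 1 else -1 := ⟨_, fun _ => rfl⟩
  have heτ : ∀ i, e (τ i) = ((e i).1, Equiv.swap (0 : Fin 2) 1 (e i).2) := fun i => by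
    rw [hτdef, e.apply_symm_apply]
  have hτ : ∀ i, τ (τ i) = i := by
    intro i
    apply e.injective
    rw [heτ, heτ]
    simp
  have hε : ∀ i, ε (τ i) = - ε i := by
    intro i
    rw [hεdef, hεdef, heτ]
    obtain ⟨j, hj⟩ : ∃ j, j = (e i).2 := ⟨_, rfl⟩
    rw [← hj]
    fin_cases j <;> simp
  have hε1 : ∀ i, ε i * ε i = 1 := by
    intro i
    rw [hεdef]
    split_ifs <;> ring
  exact tx2spq3c_iso_gen h2 a b hab Q τ hτ ε hε hε1 p m hp hm

end Cfsg.Agent.Lib.Helper15.TX2S
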