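import Mathlib
import Cfsg.Prelude.Def_GeometricClasses
import Cfsg.Agent.Lib.Helper24.TX2SPQ5a
import Cfsg.Agent.Lib.Helper24.TX2SPQ3a
import Cfsg.Agent.Lib.Helper24.TX2SPQ3c

set_option autoImplicit false
set_option linter.unusedVariables false
set_option linter.unusedSectionVars false

namespace Cfsg.Agent.Lib.Helper15.TX2S

open Cfsg Cfsg.Geo
open scoped MatrixGroups Matrix

variable {n : ℕ} {F : Type*} [Field F] [Fintype F]

omit [Fintype F] in
theorem tx2spq3_Qsum_orth {ι : Type*} [DecidableEq ι] (Q : QuadraticForm F (Fin n → F))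
    (z : ι → (Fin n → F)) (h : ∀ i j, i ≠ j → QuadraticMap.polar (⇑Q) (z i) (z j) = 0)
    (s : Finset ι) : Q (∑ i ∈ s, z i) = ∑ i ∈ s, Q (z i) := by
  induction s using Finset.induction_on with
  | empty => simp
  | insert a s ha ih =>
    rw [Finset.sum_insert ha, Finset.sum_insert ha, QuadraticMap.map_add Q, ih]
    have h1 : QuadraticMap.polar (⇑Q) (z a) (∑ i ∈ s, z i) = 0 := by
      have h0 : QuadraticMap.polar (⇑Q) (z a) (∑ i ∈ s, z i) =
          QuadraticMap.polarBilin Q (z a) (∑ i ∈ s, z i) := rfl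
      rw [h0, map_sum]
      apply Finset.sum_eq_zero
      intro i hi
      have hia : i ≠ a := fun hia => ha (hia ▸ hi)
      exact h a i (Ne.symm hia)
    rw [h1, add_zero]

omit [Fintype F] in
theorem tx2spq3_orth_span {ι κ : Type*} [Fintype ι] [Fintype κ] (Q : QuadraticForm F (Fin n → F))
    (p : ι → (Fin n → F)) (m : κ → (Fin n → F))
    (h : ∀ i j, QuadraticMap.polar (⇑Q) (p i) (m j) = 0) :
    AreOrthogonalFor (QuadraticMap.polar (⇑Q)) (Submodule.span F (Set.range p))
      (Submodule.span F (Set.range m)) := by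
  intro w hw z hz
  rw [Submodule.mem_span_range_iff_exists_fun] at hw hz
  obtain ⟨x, rfl⟩ := hw
  obtain ⟨y, rfl⟩ := hz
  have h0 : QuadraticMap.polar (⇑Q) (∑ i, x i • p i) (∑ j, y j • m j) =
      QuadraticMap.polarBilin Q (∑ i, x i • p i) (∑ j, y j • m j) := rfl
  rw [h0, map_sum]
  apply Finset.sum_eq_zero
  intro j _
  rw [map_sum, LinearMap.sum_apply]
  apply Finset.sum_eq_zero
  intro i _
  rw [map_smul, map_smul, LinearMap.smul_apply]
  have h1 : QuadraticMap.polarBilin Q (p i) (m j) = QuadraticMap.polar (⇑Q) (p i) (m j) := rfl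
  rw [h1, h, smul_zero, smul_zero]

theorem tx2spq3_elems (hq : Fintype.card F = 3) (a : F) : a = 0 ∨ a = 1 ∨ a = -1 := by
  have h := FiniteField.pow_card a
  rw [hq] at h
  have hprod : a * ((a - 1) * (a + 1)) = 0 := by linear_combination h
  rcases mul_eq_zero.1 hprod with h1 | h1
  · exact Or.inl h1
  rcases mul_eq_zero.1 h1 with h3 | h3
  · exact Or.inr (Or.inl (sub_eq_zero.1 h3))
  · exact Or.inr (Or.inr (eq_neg_of_add_eq_zero_left h3))

theorem tx2spq3_three (hq : Fintype.card F = 3) : (3 : F) = 0 := by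
  have h := FiniteField.cast_card_eq_zero F
  rw [hq] at h
  exact_mod_cast h

omit [Fintype F] in
theorem tx2spq3_iso_refl (Q : QuadraticForm F (Fin n → F)) (W : Submodule F (Fin n → F)) :
    AreIsometricFor (⇑Q) W W := ⟨LinearEquiv.refl F W, fun _ => rfl⟩

omit [Fintype F] in
theorem tx2spq3_iso_symm (Q : QuadraticForm F (Fin n → F)) (W W' : Submodule F (Fin n → F))
    (h : AreIsometricFor (⇑Q) W W') : AreIsometricFor (⇑Q) W' W := by
  obtain ⟨e, he⟩ := h
  refine ⟨e.symm, fun w => ?_⟩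
  rw [← he (e.symm w), LinearEquiv.apply_symm_apply]

omit [Fintype F] in
theorem tx2spq3_map_eq (g : GL (Fin n) F) (W : Submodule F (Fin n → F))
    (h : ∀ w ∈ W, (g : Matrix (Fin n) (Fin n) F) *ᵥ w ∈ W) :
    W.map (Matrix.toLin' (g : Matrix (Fin n) (Fin n) F)) = W := by
  have hle : W.map (Matrix.toLin' (g : Matrix (Fin n) (Fin n) F)) ≤ W := by
    rintro _ ⟨w, hw, rfl⟩
    rw [Matrix.toLin'_apply]
    exact h w hw
  apply Submodule.eq_of_le_of_finrank_eq hle
  have hinj : Function.Injective (Matrix.toLin' (g : Matrix (Fin n) (Fin n) F)) := by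
    intro a b hab
    rw [Matrix.toLin'_apply, Matrix.toLin'_apply] at hab
    have h1 := congrArg (fun v => ((g⁻¹ : GL (Fin n) F) : Matrix (Fin n) (Fin n) F) *ᵥ v) hab
    simp only [Matrix.mulVec_mulVec] at h1
    rw [← Units.val_mul, inv_mul_cancel, Units.val_one, Matrix.one_mulVec, Matrix.one_mulVec] at h1
    exact h1
  exact LinearEquiv.finrank_eq (Submodule.equivMapOfInjective _ hinj W).symm

theorem plus_planes_q3 (hq : Fintype.card F = 3) (Q : QuadraticForm F (Fin n → F))
    {t : ℕ} (D : Fin t → Submodule F (Fin n → F)) (hD : IsOrthogonalMDecomposition (⇑Q) 2 D)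
    (hp : ∀ i, IsPlusTypeOn (⇑Q) (D i)) :
    ∃ D' : Fin 2 → Submodule F (Fin n → F),
      IsNondegenerateMDecomposition (QuadraticMap.polar (⇑Q)) t D' ∧
      (Odd t → ¬ AreIsometricFor (⇑Q) (D' 0) (D' 1)) ∧
      (Even t → IsOrthogonalMDecomposition (⇑Q) t D') ∧
      decompositionStabilizer D ⊓ isometryGroup F (⇑Q) ≤ decompositionStabilizer D' := by
  classical
  have h3 := tx2spq3_three hq
  have h2 : (2 : F) ≠ 0 := by
    intro h
    have h1 : (1 : F) = 0 := by linear_combination h3 - h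
    exact one_ne_zero h1
  have helems := tx2spq3_elems hq
  have hm1 : ¬ IsSquare (-1 : F) := by
    rintro ⟨r, hr⟩
    rcases helems r with rfl | rfl | rfl
    · rw [mul_zero] at hr
      exact one_ne_zero (neg_eq_zero.1 hr)
    · have h1 : (2 : F) = 0 := by linear_combination -hr
      exact h2 h1
    · have h1 : (2 : F) = 0 := by linear_combination -hr
      exact h2 h1
  have ht2 : 2 ≤ t := hD.decomp.decomp.two_le
  have hyp := fun i => tx2spq5_hyp Q (D i) (hD.decomp.nondegenerate i)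
    (hD.decomp.decomp.finrank_eq i) (hp i)
  choose u v huD hvD hQu hQv huv hrepr using hyp
  obtain ⟨p, hpdef⟩ : ∃ p : Fin t → (Fin n → F), ∀ i, p i = (1 : F) • u i + (1 : F) • v i := ⟨_, fun _ => rfl⟩
  obtain ⟨m, hmdef⟩ : ∃ m : Fin t → (Fin n → F), ∀ i, m i = (1 : F) • u i + (-1 : F) • v i := ⟨_, fun _ => rfl⟩
  have hpD : ∀ i, p i ∈ D i := fun i => by
    rw [hpdef]; exact (D i).add_mem ((D i).smul_mem _ (huD i)) ((D i).smul_mem _ (hvD i))
  have hmD : ∀ i, m i ∈ D i := fun i => by
    rw [hmdef]; exact (D i).add_mem ((D i).smul_mem _ (huD i)) ((D i).smul_mem _ (hvD i))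
  have hQp : ∀ i, Q (p i) = 1 := fun i => by
    rw [hpdef, tx2spq5_Qab Q _ _ (hQu i) (hQv i) (huv i)]; ring
  have hQm : ∀ i, Q (m i) = -1 := fun i => by
    rw [hmdef, tx2spq5_Qab Q _ _ (hQu i) (hQv i) (huv i)]; ring
  have hpp : ∀ i j, i ≠ j → QuadraticMap.polar (⇑Q) (p i) (p j) = 0 := fun i j hij =>
    hD.decomp.orthogonal i j hij _ (hpD i) _ (hpD j)
  have hmm : ∀ i j, i ≠ j → QuadraticMap.polar (⇑Q) (m i) (m j) = 0 := fun i j hij =>
    hD.decomp.orthogonal i j hij _ (hmD i) _ (hmD j)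
  have hpm : ∀ i j, QuadraticMap.polar (⇑Q) (p i) (m j) = 0 := by
    intro i j
    by_cases hij : i = j
    · rw [← hij, hpdef, hmdef, tx2spq5_polar_ab Q _ _ (hQu i) (hQv i) (huv i)]
      ring
    · exact hD.decomp.orthogonal i j hij _ (hpD i) _ (hmD j)
  have hmp : ∀ i j, QuadraticMap.polar (⇑Q) (m i) (p j) = 0 := fun i j => by
    rw [QuadraticMap.polar_comm]; exact hpm j i
  have hQsp : ∀ x : Fin t → F, Q (∑ i, x i • p i) = ∑ i, x i * x i := by
    intro x
    rw [tx2spq3_Qsum_orth Q (fun i => x i • p i)]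
    · refine Finset.sum_congr rfl fun i _ => ?_
      rw [QuadraticMap.map_smul, hQp, smul_eq_mul, mul_one]
    · intro i j hij
      rw [QuadraticMap.polar_smul_left, QuadraticMap.polar_smul_right, hpp i j hij, smul_zero, smul_zero]
  have hQsm : ∀ x : Fin t → F, Q (∑ i, x i • m i) = - ∑ i, x i * x i := by
    intro x
    rw [tx2spq3_Qsum_orth Q (fun i => x i • m i), ← Finset.sum_neg_distrib]
    · refine Finset.sum_congr rfl fun i _ => ?_
      rw [QuadraticMap.map_smul, hQm, smul_eq_mul, mul_neg, mul_one]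
    · intro i j hij
      rw [QuadraticMap.polar_smul_left, QuadraticMap.polar_smul_right, hmm i j hij, smul_zero, smul_zero]
  have hQsp' : ∀ x : Fin t → F, Q (∑ i, x i • p i) = 1 * ∑ i, x i * x i := fun x => by rw [one_mul, hQsp]
  have hQsm' : ∀ x : Fin t → F, Q (∑ i, x i • m i) = (-1) * ∑ i, x i * x i := fun x => by
    rw [hQsm]; ring
  have hlip : LinearIndependent F p := tx2spq3c_li h2 Q 1 one_ne_zero p hQsp'
  have hlim : LinearIndependent F m := tx2spq3c_li h2 Q (-1) (neg_ne_zero.2 one_ne_zero) m hQsm'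
  obtain ⟨Wp, hWp⟩ : ∃ Wp : Submodule F (Fin n → F), Wp = Submodule.span F (Set.range p) := ⟨_, rfl⟩
  obtain ⟨Wm, hWm⟩ : ∃ Wm : Submodule F (Fin n → F), Wm = Submodule.span F (Set.range m) := ⟨_, rfl⟩
  have hpW : ∀ i, p i ∈ Wp := fun i => by rw [hWp]; exact Submodule.subset_span ⟨i, rfl⟩
  have hmW : ∀ i, m i ∈ Wm := fun i => by rw [hWm]; exact Submodule.subset_span ⟨i, rfl⟩
  have hsingle : ∀ (w : Fin t → (Fin n → F)) (j : Fin t),
      ∑ i, (Pi.single j (1 : F) : Fin t → F) i • w i = w j := by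
    intro w j
    rw [Finset.sum_eq_single j]
    · rw [Pi.single_eq_same, one_smul]
    · intro b _ hb
      rw [Pi.single_eq_of_ne hb, zero_smul]
    · intro h
      exact absurd (Finset.mem_univ _) h
  have hsinglesum : ∀ (x : Fin t → F) (j : Fin t), ∑ i, x i * (Pi.single j (1 : F) : Fin t → F) i = x j := by
    intro x j
    rw [Finset.sum_eq_single j]
    · rw [Pi.single_eq_same, mul_one]
    · intro b _ hb
      rw [Pi.single_eq_of_ne hb, mul_zero]
    · intro h
      exact absurd (Finset.mem_univ _) h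
  have hndp : IsNondegenerateOn (QuadraticMap.polar (⇑Q)) Wp := by
    intro w hw hw0
    rw [hWp, Submodule.mem_span_range_iff_exists_fun] at hw
    obtain ⟨x, rfl⟩ := hw
    have hx : ∃ j, x j ≠ 0 := by
      by_contra hcon
      apply hw0
      apply Finset.sum_eq_zero
      intro i _
      have : x i = 0 := by
        by_contra h
        exact hcon ⟨i, h⟩
      rw [this, zero_smul]
    obtain ⟨j, hj⟩ := hx
    have h1 : QuadraticMap.polar (⇑Q) (∑ i, x i • p i) (p j) = 1 * (2 * x j) := by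
      have h4 := tx2spq3c_polar_sum Q 1 p hQsp' x (Pi.single j 1)
      rw [hsingle, hsinglesum] at h4
      exact h4
    have hne : QuadraticMap.polar (⇑Q) (∑ i, x i • p i) (p j) ≠ 0 := by
      rw [h1, one_mul]
      exact mul_ne_zero h2 hj
    refine ⟨⟨p j, hpW j, ?_⟩, ⟨p j, hpW j, hne⟩⟩
    rw [QuadraticMap.polar_comm]
    exact hne
  have hndm : IsNondegenerateOn (QuadraticMap.polar (⇑Q)) Wm := by
    intro w hw hw0
    rw [hWm, Submodule.mem_span_range_iff_exists_fun] at hw
    obtain ⟨x, rfl⟩ := hw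
    have hx : ∃ j, x j ≠ 0 := by
      by_contra hcon
      apply hw0
      apply Finset.sum_eq_zero
      intro i _
      have : x i = 0 := by
        by_contra h
        exact hcon ⟨i, h⟩
      rw [this, zero_smul]
    obtain ⟨j, hj⟩ := hx
    have h1 : QuadraticMap.polar (⇑Q) (∑ i, x i • m i) (m j) = (-1) * (2 * x j) := by
      have h4 := tx2spq3c_polar_sum Q (-1) m hQsm' x (Pi.single j 1)
      rw [hsingle, hsinglesum] at h4
      exact h4
    have hne : QuadraticMap.polar (⇑Q) (∑ i, x i • m i) (m j) ≠ 0 := by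
      rw [h1]
      exact mul_ne_zero (neg_ne_zero.2 one_ne_zero) (mul_ne_zero h2 hj)
    refine ⟨⟨m j, hmW j, ?_⟩, ⟨m j, hmW j, hne⟩⟩
    rw [QuadraticMap.polar_comm]
    exact hne
  have horthpm : AreOrthogonalFor (QuadraticMap.polar (⇑Q)) Wp Wm := by
    rw [hWp, hWm]
    exact tx2spq3_orth_span Q p m hpm
  have horthmp : AreOrthogonalFor (QuadraticMap.polar (⇑Q)) Wm Wp := by
    rw [hWp, hWm]
    exact tx2spq3_orth_span Q m p hmp
  obtain ⟨D', hD'⟩ : ∃ D' : Fin 2 → Submodule F (Fin n → F), D' = ![Wp, Wm] := ⟨_, rfl⟩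
  have hD'0 : D' 0 = Wp := by rw [hD']; rfl
  have hD'1 : D' 1 = Wm := by rw [hD']; rfl
  have hdisj : Disjoint Wp Wm := by
    rw [Submodule.disjoint_def]
    intro w hwp hwm
    by_contra hw0
    obtain ⟨⟨x, hx, hxw⟩, _⟩ := hndp w hwp hw0
    exact hxw (horthpm x hx w hwm)
  have htop : Wp ⊔ Wm = ⊤ := by
    rw [eq_top_iff, ← hD.decomp.decomp.iSup_eq_top]
    apply iSup_le
    intro i w hw
    obtain ⟨a, b, rfl⟩ := hrepr i w hw
    have h1 : a • u i + b • v i = ((a + b) * 2⁻¹) • p i + ((a - b) * 2⁻¹) • m i := by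
      rw [hpdef, hmdef]
      have h4 : (2 : F)⁻¹ * 2 = 1 := inv_mul_cancel₀ h2
      have h5 : a • u i + b • v i = (a * ((2 : F)⁻¹ * 2)) • u i + (b * ((2 : F)⁻¹ * 2)) • v i := by
        rw [h4, mul_one, mul_one]
      rw [h5]
      module
    rw [h1]
    exact Submodule.add_mem_sup (Wp.smul_mem _ (hpW i)) (Wm.smul_mem _ (hmW i))
  have hdec : IsNondegenerateMDecomposition (QuadraticMap.polar (⇑Q)) t D' := by
    refine ⟨⟨le_refl 2, by omega, ?_, ?_, ?_⟩, ?_, ?_⟩
    · intro i
      fin_cases i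
      · show Module.finrank F (D' 0) = t
        rw [hD'0, hWp, finrank_span_eq_card hlip, Fintype.card_fin]
      · show Module.finrank F (D' 1) = t
        rw [hD'1, hWm, finrank_span_eq_card hlim, Fintype.card_fin]
    · intro i
      fin_cases i
      · show Disjoint (D' 0) (⨆ j, ⨆ (_ : j ≠ 0), D' j)
        have h1 : (⨆ j, ⨆ (_ : j ≠ (0 : Fin 2)), D' j) ≤ Wm := by
          apply iSup_le
          intro j
          apply iSup_le
          intro hj
          fin_cases j
          · exact absurd rfl hj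
          · show D' 1 ≤ Wm
            rw [hD'1]
        rw [hD'0]
        exact hdisj.mono_right h1
      · show Disjoint (D' 1) (⨆ j, ⨆ (_ : j ≠ 1), D' j)
        have h1 : (⨆ j, ⨆ (_ : j ≠ (1 : Fin 2)), D' j) ≤ Wp := by
          apply iSup_le
          intro j
          apply iSup_le
          intro hj
          fin_cases j
          · show D' 0 ≤ Wp
            rw [hD'0]
          · exact absurd rfl hj
        rw [hD'1]
        exact hdisj.symm.mono_right h1
    · rw [eq_top_iff, ← htop]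
      apply sup_le
      · rw [← hD'0]
        exact le_iSup D' 0
      · rw [← hD'1]
        exact le_iSup D' 1
    · intro i
      fin_cases i
      · show IsNondegenerateOn _ (D' 0)
        rw [hD'0]
        exact hndp
      · show IsNondegenerateOn _ (D' 1)
        rw [hD'1]
        exact hndm
    · intro i j hij
      fin_cases i <;> fin_cases j
      · exact absurd rfl hij
      · show AreOrthogonalFor _ (D' 0) (D' 1)
        rw [hD'0, hD'1]
        exact horthpm
      · show AreOrthogonalFor _ (D' 1) (D' 0)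
        rw [hD'0, hD'1]
        exact horthmp
      · exact absurd rfl hij
  refine ⟨D', hdec, ?_, ?_, ?_⟩
  · intro hodd
    rw [hD'0, hD'1, hWp, hWm]
    exact tx2spq3_not_iso hm1 h2 Q hodd p m hQsp hQsm
  · intro heven
    refine ⟨hdec, ?_⟩
    have hiso : AreIsometricFor (⇑Q) Wp Wm := by
      rw [hWp, hWm]
      exact tx2spq3_iso_even h2 1 1 (by linear_combination h3) Q heven p m hQsp hQsm
    intro i j
    fin_cases i <;> fin_cases j
    · exact tx2spq3_iso_refl Q _
    · show AreIsometricFor _ (D' 0) (D' 1)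
      rw [hD'0, hD'1]
      exact hiso
    · show AreIsometricFor _ (D' 1) (D' 0)
      rw [hD'0, hD'1]
      exact tx2spq3_iso_symm Q _ _ hiso
    · exact tx2spq3_iso_refl Q _
  · intro g hg
    obtain ⟨⟨σ, hσ⟩, hgI⟩ := Subgroup.mem_inf.mp hg
    have hgQ : ∀ x : Fin n → F, Q ((g : Matrix (Fin n) (Fin n) F) *ᵥ x) = Q x := fun x => hgI x x
    have hgD : ∀ i, ∀ w ∈ D i, (g : Matrix (Fin n) (Fin n) F) *ᵥ w ∈ D (σ i) := by
      intro i w hw
      rw [← hσ]
      exact ⟨w, hw, by rw [Matrix.toLin'_apply]⟩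
    have hone : ∀ i, ∀ x ∈ D i, Q x = 1 → x = p i ∨ x = -p i := by
      intro i x hx hxQ
      obtain ⟨a, b, rfl⟩ := hrepr i x hx
      rw [tx2spq5_Qab Q _ _ (hQu i) (hQv i) (huv i)] at hxQ
      rcases helems a with ha | ha | ha
      · rw [ha, zero_mul] at hxQ
        exact absurd hxQ.symm one_ne_zero
      · left
        rw [ha, one_mul] at hxQ
        rw [ha, hxQ, hpdef]
      · right
        rw [ha] at hxQ
        have hb : b = -1 := by linear_combination -hxQ
        rw [ha, hb, hpdef]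
        module
    have hmone : ∀ i, ∀ x ∈ D i, Q x = -1 → x = m i ∨ x = -m i := by
      intro i x hx hxQ
      obtain ⟨a, b, rfl⟩ := hrepr i x hx
      rw [tx2spq5_Qab Q _ _ (hQu i) (hQv i) (huv i)] at hxQ
      rcases helems a with ha | ha | ha
      · rw [ha, zero_mul] at hxQ
        exact absurd hxQ (neg_ne_zero.2 one_ne_zero).symm
      · left
        rw [ha, one_mul] at hxQ
        rw [ha, hxQ, hmdef]
      · right
        rw [ha] at hxQ
        have hb : b = 1 := by linear_combination -hxQ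
        rw [ha, hb, hmdef]
        module
    have hgp : ∀ w ∈ Wp, (g : Matrix (Fin n) (Fin n) F) *ᵥ w ∈ Wp := by
      intro w hw
      rw [hWp, Submodule.mem_span_range_iff_exists_fun] at hw
      obtain ⟨x, rfl⟩ := hw
      rw [Matrix.mulVec_sum]
      apply Submodule.sum_mem
      intro i _
      rw [Matrix.mulVec_smul]
      apply Submodule.smul_mem
      rcases hone (σ i) _ (hgD i _ (hpD i)) (by rw [hgQ, hQp]) with h | h
      · rw [h]
        exact hpW _
      · rw [h]
        exact Wp.neg_mem (hpW _)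
    have hgm : ∀ w ∈ Wm, (g : Matrix (Fin n) (Fin n) F) *ᵥ w ∈ Wm := by
      intro w hw
      rw [hWm, Submodule.mem_span_range_iff_exists_fun] at hw
      obtain ⟨x, rfl⟩ := hw
      rw [Matrix.mulVec_sum]
      apply Submodule.sum_mem
      intro i _
      rw [Matrix.mulVec_smul]
      apply Submodule.smul_mem
      rcases hmone (σ i) _ (hgD i _ (hmD i)) (by rw [hgQ, hQm]) with h | h
      · rw [h]
        exact hmW _
      · rw [h]
        exact Wm.neg_mem (hmW _)
    refine ⟨1, fun i => ?_⟩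
    fin_cases i
    · show (D' 0).map _ = D' ((1 : Equiv.Perm (Fin 2)) 0)
      rw [Equiv.Perm.one_apply, hD'0]
      exact tx2spq3_map_eq g Wp hgp
    · show (D' 1).map _ = D' ((1 : Equiv.Perm (Fin 2)) 1)
      rw [Equiv.Perm.one_apply, hD'1]
      exact tx2spq3_map_eq g Wm hgm

end Cfsg.Agent.Lib.Helper15.TX2S
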