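import Mathlib
import Cfsg.Prelude.Def_GeometricClasses
import Cfsg.Agent.Lib.Helper9.ASCF34
import Cfsg.Agent.Lib.Helper28.Ld.Trans
import Cfsg.Agent.Lib.Helper24.TX2SPQ5a

set_option autoImplicit false
set_option linter.unusedVariables false
set_option linter.unusedSectionVars false

namespace Cfsg.Agent.Lib.Helper15.TX2S

open Cfsg Cfsg.Geo
open scoped MatrixGroups Matrix

variable {n : ℕ} {F : Type*} [Field F] [Fintype F]

theorem tx2spq4_omega (hq : Fintype.card F = 4) :
    ∃ ω : F, ω * ω + ω + 1 = 0 ∧ ∀ a : F, a = 0 ∨ a = 1 ∨ a = ω ∨ a = ω + 1 := by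
  classical
  have h2 : (2 : F) = 0 := Cfsg.Agent.Lib.Helper27.ASC.ascf34_two hq
  have hpow : ∀ a : F, a ^ 4 = a := fun a => by
    have := FiniteField.pow_card a
    rwa [hq] at this
  have hquad : ∀ a : F, a ≠ 0 → a ≠ 1 → a * a + a + 1 = 0 := by
    intro a ha0 ha1
    have h := hpow a
    have hprod : a * ((a - 1) * (a * a + a + 1)) = 0 := by linear_combination h
    rcases mul_eq_zero.1 hprod with h1 | h1
    · exact absurd h1 ha0
    rcases mul_eq_zero.1 h1 with h3 | h3
    · exact absurd (sub_eq_zero.1 h3) ha1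
    · exact h3
  obtain ⟨ω, hω0, hω1⟩ : ∃ ω : F, ω ≠ 0 ∧ ω ≠ 1 := by
    by_contra hcon
    have hcon' : ∀ a : F, a ≠ 0 → a = 1 := by
      intro a ha
      by_contra h1
      exact hcon ⟨a, ha, h1⟩
    have hsub : (Finset.univ : Finset F) ⊆ {0, 1} := by
      intro a _
      by_cases ha : a = 0
      · simp [ha]
      · simp [hcon' a ha]
    have h3 := Finset.card_le_card hsub
    rw [Finset.card_univ, hq] at h3
    have h4 : ({0, 1} : Finset F).card ≤ 2 := Finset.card_le_two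
    omega
  refine ⟨ω, hquad ω hω0 hω1, ?_⟩
  intro a
  by_cases ha0 : a = 0
  · exact Or.inl ha0
  by_cases ha1 : a = 1
  · exact Or.inr (Or.inl ha1)
  have ha := hquad a ha0 ha1
  have hω := hquad ω hω0 hω1
  have hprod : (a - ω) * (a - (ω + 1)) = 0 := by
    linear_combination ha + hω - (a + a * ω + 1) * h2
  rcases mul_eq_zero.1 hprod with h | h
  · exact Or.inr (Or.inr (Or.inl (sub_eq_zero.1 h)))
  · exact Or.inr (Or.inr (Or.inr (sub_eq_zero.1 h)))

omit [Fintype F] in
theorem tx2spq4_mem (F₀ : Subfield F) (B g : GL (Fin n) F) (G₀ : Matrix (Fin n) (Fin n) F₀)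
    (hcomm : (g : Matrix (Fin n) (Fin n) F) * (B : Matrix (Fin n) (Fin n) F) =
      (B : Matrix (Fin n) (Fin n) F) * (F₀.subtype).mapMatrix G₀) :
    g ∈ subfieldSubgroup F₀ B := by
  have hdet : G₀.det ≠ 0 := by
    intro h0
    have h1 := congrArg Matrix.det hcomm
    rw [Matrix.det_mul, Matrix.det_mul, ← RingHom.map_det, h0, map_zero, mul_zero] at h1
    have hgu : IsUnit (g : Matrix (Fin n) (Fin n) F).det :=
      (Matrix.isUnit_iff_isUnit_det _).1 g.isUnit
    have hBu : IsUnit (B : Matrix (Fin n) (Fin n) F).det :=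
      (Matrix.isUnit_iff_isUnit_det _).1 B.isUnit
    exact (mul_ne_zero hgu.ne_zero hBu.ne_zero) h1
  set g₀' : GL (Fin n) F₀ := Matrix.GeneralLinearGroup.mkOfDetNeZero G₀ hdet with hg₀'
  set x : GL (Fin n) F := Matrix.GeneralLinearGroup.map (F₀.subtype : F₀ →+* F) g₀' with hx
  have hxm : (x : Matrix (Fin n) (Fin n) F) = (F₀.subtype).mapMatrix G₀ := rfl
  have hgx : g * B = B * x := by
    apply Units.ext
    rw [Units.val_mul, Units.val_mul, hxm]
    exact hcomm
  unfold subfieldSubgroup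
  refine ⟨x, Subgroup.mem_sup_left ⟨g₀', rfl⟩, ?_⟩
  show B * x * B⁻¹ = g
  rw [← hgx]
  group

omit [Fintype F] in
theorem tx2spq4_Qsum (Q : QuadraticForm F (Fin n → F)) (F₀ : Subfield F) {ι : Type*}
    (w : ι → (Fin n → F)) (hQw : ∀ m, Q (w m) ∈ F₀)
    (hpol : ∀ m m', QuadraticMap.polar (⇑Q) (w m) (w m') ∈ F₀)
    (c : ι → F) (hc : ∀ m, c m ∈ F₀) (s : Finset ι) : Q (∑ m ∈ s, c m • w m) ∈ F₀ := by
  classical
  induction s using Finset.induction_on with
  | empty =>
    rw [Finset.sum_empty, QuadraticMap.map_zero]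
    exact F₀.zero_mem
  | insert a s ha ih =>
    rw [Finset.sum_insert ha, QuadraticMap.map_add Q]
    refine F₀.add_mem (F₀.add_mem ?_ ih) ?_
    · rw [QuadraticMap.map_smul, smul_eq_mul]
      exact F₀.mul_mem (F₀.mul_mem (hc a) (hc a)) (hQw a)
    · have h1 : QuadraticMap.polar (⇑Q) (c a • w a) (∑ m ∈ s, c m • w m) =
          ∑ m ∈ s, c a * (c m * QuadraticMap.polar (⇑Q) (w a) (w m)) := by
        have h0 : QuadraticMap.polar (⇑Q) (c a • w a) (∑ m ∈ s, c m • w m) =
            QuadraticMap.polarBilin Q (c a • w a) (∑ m ∈ s, c m • w m) := rfl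
        rw [h0, map_sum]
        refine Finset.sum_congr rfl fun m _ => ?_
        rw [map_smul, map_smul, LinearMap.smul_apply, smul_eq_mul, smul_eq_mul]
        have h5 : QuadraticMap.polarBilin Q (w a) (w m) = QuadraticMap.polar (⇑Q) (w a) (w m) := rfl
        rw [h5]
        ring
      rw [h1]
      exact F₀.sum_mem fun m _ => F₀.mul_mem (hc a) (F₀.mul_mem (hc m) (hpol a m))

theorem plus_planes_q4 (hq : Fintype.card F = 4) (Q : QuadraticForm F (Fin n → F))
    {t : ℕ} (D : Fin t → Submodule F (Fin n → F)) (hD : IsOrthogonalMDecomposition (⇑Q) 2 D)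
    (hp : ∀ i, IsPlusTypeOn (⇑Q) (D i)) :
    ∃ (F₀ : Subfield F) (P : GL (Fin n) F), Nat.card F₀ = 2 ∧ IsQuadFormRationalStructure (⇑Q) F₀ P ∧
      decompositionStabilizer D ⊓ isometryGroup F (⇑Q) ≤ subfieldSubgroup F₀ P := by
  classical
  have h2 : (2 : F) = 0 := Cfsg.Agent.Lib.Helper27.ASC.ascf34_two hq
  obtain ⟨ω, hω, helems⟩ := tx2spq4_omega hq
  have htn : t * 2 = n := Cfsg.Agent.Lib.Helper28.Ld.card_eq D hD.decomp.decomp
  have hyp := fun i => tx2spq5_hyp Q (D i) (hD.decomp.nondegenerate i)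
    (hD.decomp.decomp.finrank_eq i) (hp i)
  choose u v huD hvD hQu hQv huv hrepr using hyp
  obtain ⟨e⟩ : Nonempty (Fin n ≃ Fin t × Fin 2) := ⟨(finCongr htn.symm).trans finProdFinEquiv.symm⟩
  obtain ⟨α, hα⟩ : ∃ α : Fin 2 → F, α = ![1, ω] := ⟨_, rfl⟩
  obtain ⟨β, hβ⟩ : ∃ β : Fin 2 → F, β = ![1, ω + 1] := ⟨_, rfl⟩
  have hα0 : α 0 = 1 := by rw [hα]; rfl
  have hα1 : α 1 = ω := by rw [hα]; rfl
  have hβ0 : β 0 = 1 := by rw [hβ]; rfl
  have hβ1 : β 1 = ω + 1 := by rw [hβ]; rfl
  have hαβ : ∀ j, α j * β j = 1 := by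
    intro j
    fin_cases j
    · show α 0 * β 0 = 1
      rw [hα0, hβ0, one_mul]
    · show α 1 * β 1 = 1
      rw [hα1, hβ1]
      linear_combination hω - h2
  have hγ : ∀ j j', α j * β j' + β j * α j' = if j = j' then 0 else 1 := by
    intro j j'
    fin_cases j <;> fin_cases j'
    · show α 0 * β 0 + β 0 * α 0 = if (0 : Fin 2) = 0 then 0 else 1
      rw [if_pos rfl, hα0, hβ0]
      linear_combination h2
    · show α 0 * β 1 + β 0 * α 1 = if (0 : Fin 2) = 1 then 0 else 1
      rw [if_neg (by decide), hα0, hβ0, hα1, hβ1]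
      linear_combination ω * h2
    · show α 1 * β 0 + β 1 * α 0 = if (1 : Fin 2) = 0 then 0 else 1
      rw [if_neg (by decide), hα0, hβ0, hα1, hβ1]
      linear_combination ω * h2
    · show α 1 * β 1 + β 1 * α 1 = if (1 : Fin 2) = 1 then 0 else 1
      rw [if_pos rfl, hα1, hβ1]
      linear_combination (ω * (ω + 1)) * h2
  obtain ⟨w, hw⟩ : ∃ w : Fin n → (Fin n → F),
      ∀ m, w m = α (e m).2 • u (e m).1 + β (e m).2 • v (e m).1 := ⟨_, fun _ => rfl⟩
  have hwD : ∀ m, w m ∈ D (e m).1 := by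
    intro m
    rw [hw]
    exact (D _).add_mem ((D _).smul_mem _ (huD _)) ((D _).smul_mem _ (hvD _))
  have hQw : ∀ m, Q (w m) = 1 := by
    intro m
    rw [hw, tx2spq5_Qab Q _ _ (hQu _) (hQv _) (huv _), hαβ]
  have hpol : ∀ m m', QuadraticMap.polar (⇑Q) (w m) (w m') =
      if (e m).1 = (e m').1 then (if (e m).2 = (e m').2 then 0 else 1) else 0 := by
    intro m m'
    by_cases h1 : (e m).1 = (e m').1
    · rw [if_pos h1, hw m, hw m', ← h1, tx2spq5_polar_ab Q _ _ (hQu _) (hQv _) (huv _)]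
      exact hγ _ _
    · rw [if_neg h1]
      exact hD.decomp.orthogonal _ _ h1 _ (hwD m) _ (hwD m')
  obtain ⟨F₀, hF₀⟩ : ∃ F₀ : Subfield F, F₀ = Cfsg.Agent.Lib.Helper27.ASC.ascf34_F0 h2 := ⟨_, rfl⟩
  have hF₀mem : ∀ x : F, x ∈ F₀ ↔ x = 0 ∨ x = 1 := fun x => by rw [hF₀]; exact Iff.rfl
  have hpolF : ∀ m m', QuadraticMap.polar (⇑Q) (w m) (w m') ∈ F₀ := by
    intro m m'
    rw [hpol]
    split_ifs
    · exact F₀.zero_mem
    · exact F₀.one_mem
    · exact F₀.zero_mem
  obtain ⟨ρ, hρ⟩ : ∃ ρ : Fin 2 → Fin 2, ρ = ![1, 0] := ⟨_, rfl⟩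
  have hρne : ∀ j, j ≠ ρ j := by
    intro j
    rw [hρ]
    fin_cases j <;> decide
  have hρeq : ∀ j j', j ≠ j' → j = ρ j' := by
    intro j j'
    rw [hρ]
    fin_cases j <;> fin_cases j' <;> decide
  obtain ⟨p, hpdef⟩ : ∃ p : Fin n → Fin n, ∀ m, p m = e.symm ((e m).1, ρ (e m).2) := ⟨_, fun _ => rfl⟩
  have hep : ∀ m, e (p m) = ((e m).1, ρ (e m).2) := fun m => by rw [hpdef, e.apply_symm_apply]
  have hdual : ∀ m m', QuadraticMap.polar (⇑Q) (w m) (w (p m')) = if m = m' then 1 else 0 := by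
    intro m m'
    rw [hpol, hep]
    by_cases h1 : (e m).1 = (e m').1
    · rw [if_pos h1]
      by_cases hmm : m = m'
      · rw [if_pos hmm, hmm, if_neg (hρne _)]
      · rw [if_neg hmm]
        have h3 : (e m).2 ≠ (e m').2 := by
          intro h3
          exact hmm (e.injective (Prod.ext h1 h3))
        rw [if_pos (hρeq _ _ h3)]
    · rw [if_neg h1]
      have hmm : m ≠ m' := by
        intro hmm
        exact h1 (by rw [hmm])
      rw [if_neg hmm]
  have hli : LinearIndependent F w := by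
    rw [linearIndependent_iff']
    intro s c hc m hm
    have h1 : QuadraticMap.polarBilin Q (∑ i ∈ s, c i • w i) (w (p m)) = 0 := by
      rw [hc, map_zero, LinearMap.zero_apply]
    rw [map_sum, LinearMap.sum_apply] at h1
    simp only [map_smul, LinearMap.smul_apply, smul_eq_mul] at h1
    rw [Finset.sum_eq_single m] at h1
    · have h3 : QuadraticMap.polarBilin Q (w m) (w (p m)) = 1 := by
        show QuadraticMap.polar (⇑Q) (w m) (w (p m)) = 1
        rw [hdual, if_pos rfl]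
      rw [h3, mul_one] at h1
      exact h1
    · intro i _ him
      have h3 : QuadraticMap.polarBilin Q (w i) (w (p m)) = 0 := by
        show QuadraticMap.polar (⇑Q) (w i) (w (p m)) = 0
        rw [hdual, if_neg him]
      rw [h3, mul_zero]
    · intro h
      exact absurd hm h
  obtain ⟨Bm, hBm⟩ : ∃ Bm : Matrix (Fin n) (Fin n) F, Bm = Matrix.of fun a m => w m a := ⟨_, rfl⟩
  have hBu : IsUnit Bm := by
    rw [← Matrix.linearIndependent_cols_iff_isUnit]
    have h1 : Bm.col = w := by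
      funext m a
      simp [hBm, Matrix.col]
    rw [h1]
    exact hli
  obtain ⟨B, hB⟩ := hBu
  have hBv : ∀ c : Fin n → F, Bm *ᵥ c = ∑ m, c m • w m := by
    intro c
    ext a
    simp only [Matrix.mulVec, dotProduct, hBm, Matrix.of_apply, Finset.sum_apply, Pi.smul_apply,
      smul_eq_mul]
    refine Finset.sum_congr rfl fun i _ => ?_
    ring
  refine ⟨F₀, B, ?_, ?_, ?_⟩
  · rw [hF₀]
    exact Cfsg.Agent.Lib.Helper27.ASC.ascf34_card_F0 h2
  · intro c hc
    rw [hB, hBv]
    exact tx2spq4_Qsum Q F₀ w (fun m => by rw [hQw]; exact F₀.one_mem) hpolF c hc Finset.univ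
  · rintro g ⟨⟨σ, hσ⟩, hgI⟩
    have hgQ : ∀ x : Fin n → F, Q ((g : Matrix (Fin n) (Fin n) F) *ᵥ x) = Q x := fun x => hgI x x
    have hex : ∀ m, ∃ c : Fin n → F, (∀ m', c m' ∈ F₀) ∧
        (g : Matrix (Fin n) (Fin n) F) *ᵥ w m = ∑ m', c m' • w m' := by
      intro m
      have h1 : (g : Matrix (Fin n) (Fin n) F) *ᵥ w m ∈ D (σ (e m).1) := by
        rw [← hσ]
        exact ⟨w m, hwD m, by rw [Matrix.toLin'_apply]⟩
      obtain ⟨j, hj⟩ : ∃ j, j = σ (e m).1 := ⟨_, rfl⟩
      rw [← hj] at h1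
      obtain ⟨a, b, hab⟩ := hrepr j _ h1
      have hQ1 : a * b = 1 := by
        have h3 := hgQ (w m)
        rw [hab, tx2spq5_Qab Q _ _ (hQu j) (hQv j) (huv j), hQw] at h3
        exact h3
      have hw0 : w (e.symm (j, 0)) = u j + v j := by
        rw [hw, e.apply_symm_apply]
        show α 0 • u j + β 0 • v j = u j + v j
        rw [hα0, hβ0, one_smul, one_smul]
      have hw1 : w (e.symm (j, 1)) = ω • u j + (ω + 1) • v j := by
        rw [hw, e.apply_symm_apply]
        show α 1 • u j + β 1 • v j = ω • u j + (ω + 1) • v j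
        rw [hα1, hβ1]
      have hsingle : ∀ m₀ : Fin n, ∑ m', (Pi.single m₀ (1 : F) : Fin n → F) m' • w m' = w m₀ := by
        intro m₀
        rw [Finset.sum_eq_single m₀]
        · rw [Pi.single_eq_same, one_smul]
        · intro b' _ hb'
          rw [Pi.single_eq_of_ne hb', zero_smul]
        · intro h
          exact absurd (Finset.mem_univ _) h
      have hsF : ∀ m₀ m' : Fin n, (Pi.single m₀ (1 : F) : Fin n → F) m' ∈ F₀ := by
        intro m₀ m'
        by_cases h : m' = m₀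
        · rw [h, Pi.single_eq_same]
          exact F₀.one_mem
        · rw [Pi.single_eq_of_ne h]
          exact F₀.zero_mem
      rcases helems a with ha | ha | ha | ha
      · rw [ha, zero_mul] at hQ1
        exact absurd hQ1.symm one_ne_zero
      · have hb : b = 1 := by rw [ha, one_mul] at hQ1; exact hQ1
        refine ⟨Pi.single (e.symm (j, 0)) 1, hsF _, ?_⟩
        rw [hsingle, hw0, hab, ha, hb, one_smul, one_smul]
      · rw [ha] at hQ1
        have hb : b = ω + 1 := by linear_combination (ω + 1) * hQ1 - b * (hω - h2)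
        refine ⟨Pi.single (e.symm (j, 1)) 1, hsF _, ?_⟩
        rw [hsingle, hw1, hab, ha, hb]
      · rw [ha] at hQ1
        have hb : b = ω := by linear_combination ω * hQ1 - b * (hω - h2)
        refine ⟨Pi.single (e.symm (j, 0)) 1 + Pi.single (e.symm (j, 1)) 1,
          fun m' => F₀.add_mem (hsF _ m') (hsF _ m'), ?_⟩
        have h3 : ∑ m', (Pi.single (e.symm (j, 0)) (1 : F) + Pi.single (e.symm (j, 1)) (1 : F) : Fin n → F) m' • w m' =
            w (e.symm (j, 0)) + w (e.symm (j, 1)) := by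
          simp only [Pi.add_apply, add_smul, Finset.sum_add_distrib]
          rw [hsingle, hsingle]
        rw [h3, hw0, hw1, hab, ha, hb]
        have h4 : (ω + 1 : F) • u j + ω • v j = (u j + v j) + (ω • u j + (ω + 1) • v j) + (-(2 : F)) • v j := by
          rw [add_smul, add_smul, one_smul, one_smul, neg_smul, two_smul]
          abel
        rw [h4, h2, neg_zero, zero_smul, add_zero]
    choose c hcF hc using hex
    obtain ⟨G₀, hG₀⟩ : ∃ G₀ : Matrix (Fin n) (Fin n) F₀, G₀ = Matrix.of fun m' m => (⟨c m m', hcF m m'⟩ : F₀) :=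
      ⟨_, rfl⟩
    apply tx2spq4_mem F₀ B g G₀
    rw [hB]
    ext a m
    have hL : ((g : Matrix (Fin n) (Fin n) F) * Bm) a m = ((g : Matrix (Fin n) (Fin n) F) *ᵥ w m) a := by
      simp only [Matrix.mul_apply, Matrix.mulVec, dotProduct, hBm, Matrix.of_apply]
    have hR : (Bm * (F₀.subtype).mapMatrix G₀) a m = ∑ m', c m m' * w m' a := by
      simp only [Matrix.mul_apply, hBm, hG₀, Matrix.of_apply, RingHom.mapMatrix_apply, Matrix.map_apply,
        Subfield.coe_subtype]
      refine Finset.sum_congr rfl fun i _ => ?_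
      ring
    rw [hL, hR, hc m]
    simp only [Finset.sum_apply, Pi.smul_apply, smul_eq_mul]

end Cfsg.Agent.Lib.Helper15.TX2S
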