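import Mathlib
import Cfsg.Agent.Lib.Helper24.TwoInvol2

set_option autoImplicit false

namespace Cfsg.Agent.Lib.Helper24

variable {G : Type*} [Group G]

theorem ti_xz_conj {x y : G} (hx : orderOf x = 2) (hy : orderOf y = 2)
    (heven : Even (orderOf (x * y))) :
    ∃ d ∈ Subgroup.closure ({x, y} : Set G),
      d * x * d⁻¹ = x * (x * y) ^ (orderOf (x * y) / 2) ∨
      d * y * d⁻¹ = x * (x * y) ^ (orderOf (x * y) / 2) := by
  have hx2 := ti_sq_of_order hx
  have hy2 := ti_sq_of_order hy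
  by_cases h4 : 4 ∣ orderOf (x * y)
  · obtain ⟨d, hd, hconj⟩ := (ti_even_conj_iff hx hy heven).mpr h4
    exact ⟨d, hd, Or.inl hconj⟩
  · obtain ⟨h, hh⟩ := heven
    have hn2 : orderOf (x * y) / 2 = h := by omega
    have hodd : Odd h := by
      rcases Nat.even_or_odd h with ⟨c, hc⟩ | ho
      · exfalso; apply h4; exact ⟨c, by omega⟩
      · exact ho
    obtain ⟨c, hc⟩ := hodd
    refine ⟨(x * y) ^ (-(c : ℤ)), ti_zpow_mem _, Or.inr ?_⟩
    have hy' : y = x * (x * y) := by rw [← mul_assoc, hx2, one_mul]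
    have : (x * y) ^ (-(c : ℤ)) * y * ((x * y) ^ (-(c : ℤ)))⁻¹ =
        (x * y) ^ (-(c : ℤ)) * x * ((x * y) ^ (-(c : ℤ)))⁻¹ * (x * y) ^ (1 : ℤ) := by
      have hc' : Commute (x * y) (((x * y) ^ (-(c : ℤ)))⁻¹) :=
        ((Commute.refl (x * y)).zpow_right (-(c : ℤ))).inv_right
      calc (x * y) ^ (-(c : ℤ)) * y * ((x * y) ^ (-(c : ℤ)))⁻¹
          = (x * y) ^ (-(c : ℤ)) * (x * (x * y)) * ((x * y) ^ (-(c : ℤ)))⁻¹ := by rw [← hy']
        _ = (x * y) ^ (-(c : ℤ)) * x * ((x * y) * ((x * y) ^ (-(c : ℤ)))⁻¹) := by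
            simp only [mul_assoc]
        _ = (x * y) ^ (-(c : ℤ)) * x * (((x * y) ^ (-(c : ℤ)))⁻¹ * (x * y)) := by rw [hc'.eq]
        _ = (x * y) ^ (-(c : ℤ)) * x * ((x * y) ^ (-(c : ℤ)))⁻¹ * (x * y) ^ (1 : ℤ) := by
            rw [zpow_one]; simp only [mul_assoc]
    rw [this, ti_conj_by_zpow hx2 hy2, mul_assoc, ← zpow_add, hn2, ← zpow_natCast]
    congr 2
    rw [hc]
    push_cast
    ring

theorem ti_isolated_unique (P : Sylow 2 G) [Finite G] (u : G)
    (hiso : ∀ g : G, g * u * g⁻¹ ∈ P → g * u * g⁻¹ = u) (T : Subgroup G) (hT : IsPGroup 2 T)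
    (v w : G) (hv : v ∈ T) (hw : w ∈ T) (hvu : ∃ g : G, g * u * g⁻¹ = v)
    (hwu : ∃ g : G, g * u * g⁻¹ = w) : v = w := by
  haveI : Fact (Nat.Prime 2) := ⟨Nat.prime_two⟩
  obtain ⟨Q, hQ⟩ := hT.exists_le_sylow
  obtain ⟨h, hh⟩ := MulAction.exists_smul_eq G Q P
  have key : ∀ a : G, a ∈ T → (∃ g : G, g * u * g⁻¹ = a) → h * a * h⁻¹ = u := by
    intro a ha ⟨g, hg⟩
    have h1 : h * a * h⁻¹ ∈ (P : Subgroup G) := by
      rw [← hh]
      rw [Sylow.coe_subgroup_smul, Subgroup.mem_pointwise_smul_iff_inv_smul_mem]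
      simp only [MulAut.smul_def, MulAut.conj_inv_apply]
      have : h⁻¹ * (h * a * h⁻¹) * h = a := by group
      rw [this]
      exact hQ ha
    have h2 : h * a * h⁻¹ = (h * g) * u * (h * g)⁻¹ := by
      rw [← hg]; group
    rw [h2] at h1 ⊢
    exact hiso _ h1
  have h1 := key v hv hvu
  have h2 := key w hw hwu
  have : h * v * h⁻¹ = h * w * h⁻¹ := by rw [h1, h2]
  exact mul_left_cancel (mul_right_cancel this)

theorem ti_four_isPGroup {u z : G} (hu : orderOf u = 2) (hz : orderOf z = 2) (hc : Commute u z) :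
    IsPGroup 2 (Subgroup.closure ({u, z} : Set G)) := by
  haveI : Fact (Nat.Prime 2) := ⟨Nat.prime_two⟩
  have h1 : Subgroup.closure ({u, z} : Set G) = Subgroup.zpowers u ⊔ Subgroup.zpowers z := by
    rw [Set.insert_eq, Subgroup.closure_union, Subgroup.zpowers_eq_closure, Subgroup.zpowers_eq_closure]
  rw [h1]
  have hpu : IsPGroup 2 (Subgroup.zpowers u) := by
    apply IsPGroup.of_card (n := 1)
    rw [Nat.card_zpowers, hu, pow_one]
  have hpz : IsPGroup 2 (Subgroup.zpowers z) := by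
    apply IsPGroup.of_card (n := 1)
    rw [Nat.card_zpowers, hz, pow_one]
  apply IsPGroup.to_sup_of_normal_right' hpu hpz
  rw [Subgroup.zpowers_le]
  rw [Subgroup.mem_normalizer_iff]
  intro g
  constructor
  · intro hg
    obtain ⟨k, rfl⟩ := Subgroup.mem_zpowers_iff.mp hg
    have hck : Commute u (z ^ k) := hc.zpow_right k
    rw [hck.eq, mul_inv_cancel_right]
    exact Subgroup.zpow_mem_zpowers z k
  · intro hg
    obtain ⟨k, hk⟩ := Subgroup.mem_zpowers_iff.mp hg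
    have hck : Commute u (z ^ k) := hc.zpow_right k
    have : g = z ^ k := by
      have h2 : u⁻¹ * (u * g * u⁻¹) * u = g := by group
      rw [← h2, ← hk, mul_assoc, ← hck.eq, inv_mul_cancel_left]
    rw [this]
    exact Subgroup.zpow_mem_zpowers z k

end Cfsg.Agent.Lib.Helper24
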