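import Mathlib
import Cfsg.Agent.Lib.Helper24.TwoInvol3
import Cfsg.Agent.Lib.helper7.ClassSum

set_option autoImplicit false
set_option linter.style.haveILetI false

namespace Cfsg.Agent.Lib.Helper24

open Cfsg.Agent.Lib.helper7

variable {G : Type*} [Group G]

theorem tof_conj_order (g u : G) : orderOf (g * u * g⁻¹) = orderOf u := by
  have := orderOf_injective (MulAut.conj g).toMonoidHom (MulAut.conj g).injective u
  simpa using this

theorem tof_unique_involution (a w : G) (heven : Even (orderOf a)) (hw : orderOf w = 2)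
    (hmem : w ∈ Subgroup.zpowers a) : w = a ^ (orderOf a / 2) := by
  obtain ⟨k, rfl⟩ := Subgroup.mem_zpowers_iff.mp hmem
  obtain ⟨h, hh⟩ := heven
  have hn2 : orderOf a / 2 = h := by omega
  have hsq : (a ^ k) * (a ^ k) = 1 := ti_sq_of_order hw
  rw [← zpow_add] at hsq
  have hdvd : (orderOf a : ℤ) ∣ k + k := orderOf_dvd_iff_zpow_eq_one.mpr hsq
  rw [hh] at hdvd
  push_cast at hdvd
  have hhk : (h : ℤ) ∣ k := by
    obtain ⟨c, hc⟩ := hdvd
    exact ⟨c, by linarith⟩
  obtain ⟨j, rfl⟩ := hhk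
  rw [hn2]
  have hz2 : (a ^ h) * (a ^ h) = 1 := by
    rw [← pow_add, ← hh, pow_orderOf_eq_one]
  rcases Int.even_or_odd j with ⟨c, hc⟩ | ⟨c, hc⟩
  · exfalso
    have : a ^ ((h : ℤ) * j) = 1 := by
      rw [zpow_mul, zpow_natCast, hc, ← two_mul, zpow_mul, zpow_two, hz2, one_zpow]
    rw [this, orderOf_one] at hw
    omega
  · rw [zpow_mul, zpow_natCast, hc, zpow_add, zpow_mul, zpow_two, hz2, one_zpow, one_mul, zpow_one]

theorem tof_z_spec {u v : G} (hu : orderOf u = 2) (hv : orderOf v = 2) (hnc : ¬ IsConj u v)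
    [Finite G] :
    Even (orderOf (u * v)) ∧ orderOf ((u * v) ^ (orderOf (u * v) / 2)) = 2 := by
  have heven : Even (orderOf (u * v)) := by
    by_contra hodd
    have hodd' : Odd (orderOf (u * v)) := Nat.not_even_iff_odd.mp hodd
    obtain ⟨d, -, hd⟩ := ti_odd_conj hu hv hodd'
    exact hnc (isConj_iff.mpr ⟨d, hd⟩)
  exact ⟨heven, (ti_even_central hu hv heven (orderOf_pos _).ne').1⟩

theorem tof_mem_iff {u v : G} [Finite G] (hu : orderOf u = 2) (hv : orderOf v = 2)
    (hnc : ¬ IsConj u v) (w : G) (hw : orderOf w = 2) :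
    w ∈ Subgroup.zpowers (u * v) ↔ (u * v) ^ (orderOf (u * v) / 2) = w := by
  obtain ⟨heven, -⟩ := tof_z_spec hu hv hnc
  constructor
  · intro h
    exact (tof_unique_involution _ w heven hw h).symm
  · intro h
    rw [← h]
    exact Subgroup.pow_mem _ (Subgroup.mem_zpowers _) _


theorem tof_main [Fintype G] [DecidableEq G] [DecidableRel (IsConj : G → G → Prop)]
    (x₁ x₂ : G) (h₁ : orderOf x₁ = 2) (h₂ : orderOf x₂ = 2)
    (hnc : ¬ IsConj x₁ x₂) (hall : ∀ t : G, orderOf t = 2 → IsConj x₁ t ∨ IsConj x₂ t)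
    [∀ w : G, DecidablePred (fun p : G × G => w ∈ Subgroup.zpowers (p.1 * p.2))] :
    ((Finset.univ.filter (fun p : G × G => IsConj x₁ p.1 ∧ IsConj x₂ p.2)).card) =
      (Finset.univ.filter (fun x : G => IsConj x₁ x)).card *
        ((Finset.univ.filter (fun p : G × G => IsConj x₁ p.1 ∧ IsConj x₂ p.2)).filter
          (fun p => x₁ ∈ Subgroup.zpowers (p.1 * p.2))).card +
      (Finset.univ.filter (fun x : G => IsConj x₂ x)).card *
        ((Finset.univ.filter (fun p : G × G => IsConj x₁ p.1 ∧ IsConj x₂ p.2)).filter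
          (fun p => x₂ ∈ Subgroup.zpowers (p.1 * p.2))).card := by
  set S := Finset.univ.filter (fun p : G × G => IsConj x₁ p.1 ∧ IsConj x₂ p.2) with hS
  set K₁ := Finset.univ.filter (fun x : G => IsConj x₁ x) with hK₁
  set K₂ := Finset.univ.filter (fun x : G => IsConj x₂ x) with hK₂
  set z : G × G → G := fun p => (p.1 * p.2) ^ (orderOf (p.1 * p.2) / 2) with hz
  have hSprop : ∀ p ∈ S, orderOf p.1 = 2 ∧ orderOf p.2 = 2 ∧ ¬ IsConj p.1 p.2 := by
    intro p hp
    obtain ⟨hp1, hp2⟩ := (Finset.mem_filter.mp hp).2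
    obtain ⟨c, hc⟩ := isConj_iff.mp hp1
    obtain ⟨d, hd⟩ := isConj_iff.mp hp2
    refine ⟨by rw [← hc, tof_conj_order, h₁], by rw [← hd, tof_conj_order, h₂], ?_⟩
    intro h
    exact hnc ((hp1.trans h).trans hp2.symm)
  have hdisj : Disjoint K₁ K₂ := by
    rw [Finset.disjoint_left]
    intro w hw1 hw2
    exact hnc ((Finset.mem_filter.mp hw1).2.trans (Finset.mem_filter.mp hw2).2.symm)
  have hzmem : ∀ p ∈ S, z p ∈ K₁ ∪ K₂ := by
    intro p hp
    obtain ⟨hu, hv, hn⟩ := hSprop p hp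
    have hzo := (tof_z_spec hu hv hn).2
    rw [Finset.mem_union, hK₁, hK₂, Finset.mem_filter, Finset.mem_filter]
    rcases hall (z p) hzo with h | h
    · left; exact ⟨Finset.mem_univ _, h⟩
    · right; exact ⟨Finset.mem_univ _, h⟩
  have hfib := Finset.card_eq_sum_card_fiberwise hzmem
  rw [Finset.sum_union hdisj] at hfib
  have hfilter : ∀ w : G, orderOf w = 2 →
      S.filter (fun p => z p = w) = S.filter (fun p => w ∈ Subgroup.zpowers (p.1 * p.2)) := by
    intro w hw
    apply Finset.filter_congr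
    intro p hp
    obtain ⟨hu, hv, hn⟩ := hSprop p hp
    exact (tof_mem_iff hu hv hn w hw).symm
  have hconjinv : ∀ (w c : G), (S.filter (fun p => (c * w * c⁻¹) ∈ Subgroup.zpowers (p.1 * p.2))).card =
      (S.filter (fun p => w ∈ Subgroup.zpowers (p.1 * p.2))).card := by
    intro w c
    symm
    apply Finset.card_bij (fun p _ => (c * p.1 * c⁻¹, c * p.2 * c⁻¹))
    · intro p hp
      obtain ⟨hpS, hpw⟩ := Finset.mem_filter.mp hp
      obtain ⟨hp1, hp2⟩ := (Finset.mem_filter.mp hpS).2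
      rw [Finset.mem_filter]
      refine ⟨?_, ?_⟩
      · rw [hS, Finset.mem_filter]
        exact ⟨Finset.mem_univ _, hp1.trans (isConj_iff.mpr ⟨c, rfl⟩),
          hp2.trans (isConj_iff.mpr ⟨c, rfl⟩)⟩
      · obtain ⟨k, hk⟩ := Subgroup.mem_zpowers_iff.mp hpw
        rw [Subgroup.mem_zpowers_iff]
        refine ⟨k, ?_⟩
        have h1 : c * p.1 * c⁻¹ * (c * p.2 * c⁻¹) = c * (p.1 * p.2) * c⁻¹ := by group
        show (c * p.1 * c⁻¹ * (c * p.2 * c⁻¹)) ^ k = c * w * c⁻¹
        rw [h1, conj_zpow, hk]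
    · intro p _ q _ hpq
      have h1 := congrArg Prod.fst hpq
      have h2 := congrArg Prod.snd hpq
      simp only at h1 h2
      apply Prod.ext
      · exact mul_left_cancel (mul_right_cancel h1)
      · exact mul_left_cancel (mul_right_cancel h2)
    · intro q hq
      obtain ⟨hqS, hqw⟩ := Finset.mem_filter.mp hq
      obtain ⟨hq1, hq2⟩ := (Finset.mem_filter.mp hqS).2
      refine ⟨(c⁻¹ * q.1 * c, c⁻¹ * q.2 * c), ?_, ?_⟩
      · rw [Finset.mem_filter]
        refine ⟨?_, ?_⟩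
        · rw [hS, Finset.mem_filter]
          refine ⟨Finset.mem_univ _, hq1.trans (isConj_iff.mpr ⟨c⁻¹, by group⟩),
            hq2.trans (isConj_iff.mpr ⟨c⁻¹, by group⟩)⟩
        · obtain ⟨k, hk⟩ := Subgroup.mem_zpowers_iff.mp hqw
          rw [Subgroup.mem_zpowers_iff]
          refine ⟨k, ?_⟩
          have h1 : c⁻¹ * q.1 * c * (c⁻¹ * q.2 * c) = c⁻¹ * (q.1 * q.2) * c⁻¹⁻¹ := by group
          show (c⁻¹ * q.1 * c * (c⁻¹ * q.2 * c)) ^ k = w
          rw [h1, conj_zpow, hk]
          group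
      · apply Prod.ext
        · show c * (c⁻¹ * q.1 * c) * c⁻¹ = q.1
          group
        · show c * (c⁻¹ * q.2 * c) * c⁻¹ = q.2
          group
  have hK : ∀ (x : G), orderOf x = 2 → ∀ w ∈ Finset.univ.filter (fun y : G => IsConj x y),
      (S.filter (fun p => z p = w)).card =
        (S.filter (fun p => x ∈ Subgroup.zpowers (p.1 * p.2))).card := by
    intro x hx w hw
    have hconj : IsConj x w := (Finset.mem_filter.mp hw).2
    obtain ⟨c, hc⟩ := isConj_iff.mp hconj
    have hwo : orderOf w = 2 := by rw [← hc, tof_conj_order, hx]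
    rw [hfilter w hwo, ← hc, hconjinv x c]
  rw [Finset.sum_congr rfl (hK x₁ h₁), Finset.sum_congr rfl (hK x₂ h₂), Finset.sum_const,
    Finset.sum_const, smul_eq_mul, smul_eq_mul] at hfib
  exact hfib

end Cfsg.Agent.Lib.Helper24
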