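import Cfsg.Agent.Lib.Helper24.UDSTRICTcore
import Cfsg.Agent.Lib.Helper19.UDZETA

set_option autoImplicit false
set_option linter.unusedVariables false
set_option linter.unusedSectionVars false

namespace Cfsg.Agent.Lib.helper15.UD

open Matrix Cfsg.Agent.Lib.Helper28 Cfsg.Agent.Lib.Helper29.ExtrL

variable {n q : ℕ} {F : Type*} [Field F] [Fintype F] {σ : F ≃+* F}

section main
variable {t k : ℕ}

theorem strict (hc : Ctx n q F σ) (hn : 4 ≤ n) (D : Fin t → Submodule F (Fin n → F))
    (hD : Cfsg.Geo.IsNondegenerateMDecomposition (Cfsg.hermForm n F q) k D) :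
    HD q D < GS n F q := by
  refine udstrict_core hc (fun _ _ => hn) (fun hq ν hν => ?_) D hD
  obtain ⟨ζ, h0, hs, h2⟩ := exists_zeta hc 2 (fun h => hq h.2) ν hν
  exact ⟨ζ, h0, hs, h2 rfl⟩

end main

end Cfsg.Agent.Lib.helper15.UD
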