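import Cfsg.Agent.Lib.helper15.UD.Basic
import Cfsg.Agent.Lib.helper4.UDPERPA

set_option autoImplicit false
set_option linter.unusedVariables false
set_option linter.unusedSectionVars false
set_option linter.unusedSimpArgs false

namespace Cfsg.Agent.Lib.helper15.UD

open Matrix Cfsg.Agent.Lib.Helper28 Cfsg.Agent.Lib.Helper29.ExtrL

variable {n q : ℕ} {F : Type*} [Field F] [Fintype F] {σ : F ≃+* F}
variable {t k : ℕ}

theorem udstrict_tk (D : Fin t → Submodule F (Fin n → F)) (hD : Cfsg.Geo.IsMDecomposition k D) :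
    t * k = n := by
  classical
  have hint : DirectSum.IsInternal D :=
    (DirectSum.isInternal_submodule_iff_iSupIndep_and_iSup_eq_top D).mpr
      ⟨hD.indep, hD.iSup_eq_top⟩
  have e := LinearEquiv.ofBijective (DirectSum.coeLinearMap D) hint
  have h1 := e.finrank_eq
  rw [Module.finrank_directSum, Module.finrank_fintype_fun_eq_card] at h1
  simp only [hD.finrank_eq, Finset.sum_const, Finset.card_univ, Fintype.card_fin,
    smul_eq_mul] at h1
  exact h1

theorem udstrict_not_mem {f : (Fin n → F) → (Fin n → F) → F} (D : Fin t → Submodule F (Fin n → F))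
    (horth : ∀ i j, i ≠ j → Cfsg.Geo.AreOrthogonalFor f (D i) (D j)) {l i j : Fin t} (hij : i ≠ j)
    {x u v : Fin n → F} (hx : x ∈ D l) (hu : u ∈ D i) (hv : v ∈ D j) (h1 : f x u ≠ 0)
    (h2 : f x v ≠ 0) : False := by
  have hli : l = i := by
    by_contra h
    exact h1 (horth l i h x hx u hu)
  have hlj : l = j := by
    by_contra h
    exact h2 (horth l j h x hx v hv)
  exact hij (hli.symm.trans hlj)

theorem udstrict_noniso {f : (Fin n → F) → (Fin n → F) → F} (hf : Cfsg.Geo.IsUnitaryForm σ f)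
    (W : Submodule F (Fin n → F)) (hW : Cfsg.Geo.IsNondegenerateOn f W)
    (hk : 1 ≤ Module.finrank F W) : ∃ d ∈ W, f d d ≠ 0 := by
  by_contra hcon
  push Not at hcon
  have hti := UForm.ti_of_iso hf W hcon
  obtain ⟨w, hw, hw0⟩ := DecGen.exists_ne_zero W rfl hk
  obtain ⟨x, hx, hxw⟩ := (hW w hw hw0).1
  exact hxw (hti x hx w hw)

theorem udstrict_wit (hc : Ctx n q F σ) (D : Fin t → Submodule F (Fin n → F))
    (horth : ∀ i j, i ≠ j →
      Cfsg.Geo.AreOrthogonalFor (Cfsg.hermForm n F q) (D i) (D j))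
    {y : Fin n → F} (hy : Cfsg.hermForm n F q y y = 0) {κ : F} (hκ : σ κ = -κ)
    {i j1 j2 : Fin t} (hj : j1 ≠ j2) {a u v : Fin n → F} (ha : a ∈ D i) (hu : u ∈ D j1)
    (hv : v ∈ D j2)
    (h1 : Cfsg.hermForm n F q (a + Cfsg.hermForm n F q a (κ • y) • y) u ≠ 0)
    (h2 : Cfsg.hermForm n F q (a + Cfsg.hermForm n F q a (κ • y) • y) v ≠ 0) :
    HD q D < GS n F q := by
  have hf := hc.form
  rw [SetLike.lt_iff_le_and_exists]
  refine ⟨inf_le_right, ?_⟩
  have hyk : Cfsg.hermForm n F q y (κ • y) = 0 := by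
    rw [UForm.f_smul_right hf, hy, mul_zero]
  obtain ⟨g, hgS, hg⟩ := Cfsg.Agent.S5643.tvGL hf y (κ • y) hyk
  have hgG : g ∈ GS n F q :=
    UMax.UT_mem_G hf (GS n F q) (fun g => by rw [Subgroup.mem_inf]; exact Iff.rfl) hy hκ hg
  refine ⟨g, hgG, ?_⟩
  rintro ⟨⟨π, hπ⟩, _⟩
  have hmem : (g : Matrix (Fin n) (Fin n) F) *ᵥ a ∈ D (π i) := by
    rw [← hπ i]
    exact ⟨a, ha, by rw [Matrix.toLin'_apply]⟩
  rw [hg a] at hmem
  exact udstrict_not_mem D horth hj hmem hu hv h1 h2

theorem udstrict_pair (hc : Ctx n q F σ) (D : Fin t → Submodule F (Fin n → F))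
    (hD : Cfsg.Geo.IsNondegenerateMDecomposition (Cfsg.hermForm n F q) k D) :
    ∃ i0 i1 : Fin t, i0 ≠ i1 ∧ ∃ a ∈ D i0, ∃ b ∈ D i1,
      Cfsg.hermForm n F q a a ≠ 0 ∧ Cfsg.hermForm n F q b b = - Cfsg.hermForm n F q a a := by
  have hf := hc.form
  have ht := hD.decomp.two_le
  have hk := hD.decomp.pos
  have h01 : (⟨0, by omega⟩ : Fin t) ≠ ⟨1, by omega⟩ := by
    intro h
    have := congrArg Fin.val h
    simp at this
  obtain ⟨a, haD, haa⟩ := udstrict_noniso hf (D ⟨0, by omega⟩) (hD.nondegenerate _)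
    (by rw [hD.decomp.finrank_eq]; omega)
  obtain ⟨b0, hb0D, hbb0⟩ := udstrict_noniso hf (D ⟨1, by omega⟩) (hD.nondegenerate _)
    (by rw [hD.decomp.finrank_eq]; omega)
  have hfix : σ (- Cfsg.hermForm n F q a a / Cfsg.hermForm n F q b0 b0) =
      - Cfsg.hermForm n F q a a / Cfsg.hermForm n F q b0 b0 := by
    rw [map_div₀, map_neg, UForm.f_self_fixed hf, UForm.f_self_fixed hf]
  obtain ⟨μ, hμ⟩ := UForm.norm_surj hf _ hfix
  refine ⟨_, _, h01, a, haD, μ • b0, (D _).smul_mem μ hb0D, haa, ?_⟩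
  rw [hf.smul_left, UForm.f_smul_right hf, ← mul_assoc, hμ, div_mul_cancel₀ _ hbb0]

theorem udstrict_big (hc : Ctx n q F σ) (D : Fin t → Submodule F (Fin n → F))
    (hD : Cfsg.Geo.IsNondegenerateMDecomposition (Cfsg.hermForm n F q) k D) (hk : 2 ≤ k) :
    HD q D < GS n F q := by
  have hf := hc.form
  obtain ⟨i0, i1, h01, a, haD, b, hbD, haa, hbb⟩ := udstrict_pair hc D hD
  obtain ⟨d, hdD, hda, hdd⟩ := perp_noniso hf (D i0) (hD.nondegenerate i0)
    (by rw [hD.decomp.finrank_eq]; exact hk) a haD haa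
  obtain ⟨κ, hκ0, hκ⟩ := UForm.exists_K0 hf
  have hab : Cfsg.hermForm n F q a b = 0 := hD.orthogonal i0 i1 h01 a haD b hbD
  have hba : Cfsg.hermForm n F q b a = 0 := hD.orthogonal i1 i0 h01.symm b hbD a haD
  have hdb : Cfsg.hermForm n F q d b = 0 := hD.orthogonal i0 i1 h01 d hdD b hbD
  have hbd : Cfsg.hermForm n F q b d = 0 := hD.orthogonal i1 i0 h01.symm b hbD d hdD
  have had : Cfsg.hermForm n F q a d = 0 := UForm.f_swap_zero hf hda
  have hy : Cfsg.hermForm n F q (a + b) (a + b) = 0 := by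
    rw [hf.add_left, UForm.f_add_right hf, UForm.f_add_right hf, hab, hba, hbb]
    ring
  have hσκ : σ κ ≠ 0 := by
    rw [hκ]
    exact neg_ne_zero.mpr hκ0
  refine udstrict_wit hc D hD.orthogonal hy hκ h01 (a := a + d) (u := d) (v := b)
    ((D i0).add_mem haD hdD) hdD hbD ?_ ?_
  · simp only [hf.add_left, hf.smul_left, UForm.f_add_right hf, UForm.f_smul_right hf, hab, hba,
      hdb, hbd, had, hda, add_zero, zero_add, mul_zero]
    exact hdd
  · simp only [hf.add_left, hf.smul_left, UForm.f_add_right hf, UForm.f_smul_right hf, hab, hba,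
      hdb, hbd, had, hda, add_zero, zero_add, mul_zero, hbb]
    exact mul_ne_zero (mul_ne_zero hσκ haa) (neg_ne_zero.mpr haa)

theorem udstrict_qne (hc : Ctx n q F σ)
    (hzeta : ∀ ν : F, σ ν = ν → ∃ ζ : F, ζ ≠ 0 ∧ σ ζ = -ζ ∧ ζ - ν ≠ 0)
    (D : Fin t → Submodule F (Fin n → F))
    (hD : Cfsg.Geo.IsNondegenerateMDecomposition (Cfsg.hermForm n F q) k D) :
    HD q D < GS n F q := by
  have hf := hc.form
  obtain ⟨i0, i1, h01, a, haD, b, hbD, haa, hbb⟩ := udstrict_pair hc D hD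
  have hν : σ (Cfsg.hermForm n F q a a)⁻¹ = (Cfsg.hermForm n F q a a)⁻¹ := by
    rw [map_inv₀, UForm.f_self_fixed hf]
  obtain ⟨κ, hκ0, hκ, hκν⟩ := hzeta _ hν
  have hab : Cfsg.hermForm n F q a b = 0 := hD.orthogonal i0 i1 h01 a haD b hbD
  have hba : Cfsg.hermForm n F q b a = 0 := hD.orthogonal i1 i0 h01.symm b hbD a haD
  have hy : Cfsg.hermForm n F q (a + b) (a + b) = 0 := by
    rw [hf.add_left, UForm.f_add_right hf, UForm.f_add_right hf, hab, hba, hbb]
    ring
  refine udstrict_wit hc D hD.orthogonal hy hκ h01 (a := a) (u := a) (v := b)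
    haD haD hbD ?_ ?_
  · simp only [hf.add_left, hf.smul_left, UForm.f_add_right hf, UForm.f_smul_right hf, hab, hba,
      add_zero, zero_add, mul_zero, hκ]
    intro h
    apply hκν
    have h2 : Cfsg.hermForm n F q a a * (Cfsg.hermForm n F q a a * (κ - (Cfsg.hermForm n F q a a)⁻¹)) = 0 := by
      rw [mul_sub, mul_inv_cancel₀ haa]
      linear_combination -h
    rcases mul_eq_zero.mp h2 with h3 | h3
    · exact absurd h3 haa
    · rcases mul_eq_zero.mp h3 with h4 | h4
      · exact absurd h4 haa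
      · exact h4
  · simp only [hf.add_left, hf.smul_left, UForm.f_add_right hf, UForm.f_smul_right hf, hab, hba,
      add_zero, zero_add, mul_zero, hbb, hκ]
    exact mul_ne_zero (mul_ne_zero (neg_ne_zero.mpr hκ0) haa) (neg_ne_zero.mpr haa)

theorem udstrict_two (hc : Ctx n 2 F σ) : (2 : F) = 0 := by
  have h4 : ((Fintype.card F : ℕ) : F) = 0 := Nat.cast_card_eq_zero F
  rw [hc.card] at h4
  have h5 : (2 : F) * 2 = 0 := by
    have : ((2 ^ 2 : ℕ) : F) = 2 * 2 := by norm_num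
    rw [← this]
    exact h4
  rcases mul_eq_zero.mp h5 with h | h <;> exact h

theorem udstrict_fix (hc : Ctx n 2 F σ) {c : F} (h : σ c = c) (h0 : c ≠ 0) : c = 1 := by
  rw [hc.frob] at h
  have h2 : c * (c - 1) = 0 := by
    linear_combination h
  rcases mul_eq_zero.mp h2 with h3 | h3
  · exact absurd h3 h0
  · exact sub_eq_zero.mp h3

theorem udstrict_q2 (hc : Ctx n 2 F σ) (hn : 4 ≤ n) (D : Fin t → Submodule F (Fin n → F))
    (hD : Cfsg.Geo.IsNondegenerateMDecomposition (Cfsg.hermForm n F 2) 1 D) :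
    HD 2 D < GS n F 2 := by
  have hf := hc.form
  have h2 := udstrict_two hc
  have htk := udstrict_tk D hD.decomp
  have ht : 4 ≤ t := by omega
  have hex : ∀ i : Fin t, ∃ a ∈ D i, Cfsg.hermForm n F 2 a a = 1 := by
    intro i
    obtain ⟨a, haD, haa⟩ := udstrict_noniso hf (D i) (hD.nondegenerate i)
      (by rw [hD.decomp.finrank_eq])
    exact ⟨a, haD, udstrict_fix hc (UForm.f_self_fixed hf a) haa⟩
  choose a haD haa using hex
  have hoa : ∀ i j : Fin t, Cfsg.hermForm n F 2 (a i) (a j) = if i = j then 1 else 0 := by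
    intro i j
    by_cases hij : i = j
    · rw [if_pos hij, hij, haa]
    · rw [if_neg hij]
      exact hD.orthogonal i j hij (a i) (haD i) (a j) (haD j)
  have h4 : (1 : F) + 1 + 1 + 1 = 0 := by
    linear_combination 2 * h2
  have hκ : σ (1 : F) = -1 := by
    rw [map_one]
    linear_combination h2
  have h12 : (⟨1, by omega⟩ : Fin t) ≠ ⟨2, by omega⟩ := by
    intro h
    have := congrArg Fin.val h
    simp at this
  have hy : Cfsg.hermForm n F 2 (a ⟨0, by omega⟩ + a ⟨1, by omega⟩ + a ⟨2, by omega⟩ + a ⟨3, by omega⟩)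
      (a ⟨0, by omega⟩ + a ⟨1, by omega⟩ + a ⟨2, by omega⟩ + a ⟨3, by omega⟩) = 0 := by
    simp only [hf.add_left, UForm.f_add_right hf, hoa, Fin.mk.injEq]
    norm_num
    linear_combination 2 * h2
  refine udstrict_wit hc D hD.orthogonal hy hκ h12 (a := a ⟨0, by omega⟩)
    (u := a ⟨1, by omega⟩) (v := a ⟨2, by omega⟩) (haD _) (haD _) (haD _) ?_ ?_
  · simp only [hf.add_left, hf.smul_left, UForm.f_add_right hf, UForm.f_smul_right hf, hoa,
      Fin.mk.injEq, map_one]
    norm_num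
  · simp only [hf.add_left, hf.smul_left, UForm.f_add_right hf, UForm.f_smul_right hf, hoa,
      Fin.mk.injEq, map_one]
    norm_num

theorem udstrict_core (hc : Ctx n q F σ)
    (hn : q = 2 → k = 1 → 4 ≤ n)
    (hzeta : q ≠ 2 → ∀ ν : F, σ ν = ν → ∃ ζ : F, ζ ≠ 0 ∧ σ ζ = -ζ ∧ ζ - ν ≠ 0)
    (D : Fin t → Submodule F (Fin n → F))
    (hD : Cfsg.Geo.IsNondegenerateMDecomposition (Cfsg.hermForm n F q) k D) :
    HD q D < GS n F q := by
  by_cases hq : q = 2
  · by_cases hk : 2 ≤ k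
    · exact udstrict_big hc D hD hk
    · have hk1 : k = 1 := by
        have := hD.decomp.pos
        omega
      have hn4 := hn hq hk1
      subst hq
      subst hk1
      exact udstrict_q2 hc hn4 D hD
  · exact udstrict_qne hc (hzeta hq) D hD

end Cfsg.Agent.Lib.helper15.UD
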