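import Cfsg.Agent.Lib.Helper24.UTPISOANYcore

set_option autoImplicit false
set_option linter.unusedVariables false
set_option linter.unusedSectionVars false

namespace Cfsg.Agent.Lib.helper6.UTP

open Matrix
open scoped Kronecker
open Cfsg.Agent.Lib.helper7.TP

variable {F : Type*} [Field F] {a b : ℕ}

theorem xs_iso_any [Fintype F] (σ : F ≃+* F) (hσ : Inv2 σ) (ha : 2 ≤ a) (hb : 3 ≤ b)
    (hex' : ¬ (b = 3 ∧ Fintype.card F = 4))
    (M : Subgroup (Matrix.GeneralLinearGroup (Fin a × Fin b) F)) (hTM : T0u σ a b ≤ M)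
    (hMS : M ≤ SUm σ (Fin a × Fin b))
    (hpure : ∀ (u : Fin a → F) (w : Fin b → F), cj σ u ⬝ᵥ u = 0 → cj σ w ⬝ᵥ w = 0 → ten u w ∈ XSu σ M) :
    ∀ (u : Fin a → F) (m : Fin b → F), cj σ u ⬝ᵥ u = 0 → ten u m ∈ XSu σ M :=
  utpisoany_core σ hσ hb hex' M hTM hpure

end Cfsg.Agent.Lib.helper6.UTP
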