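import Mathlib
import Cfsg.Prelude.Def_GeometricClasses
import Cfsg.Agent.Lib.Helper27.ASC.Defs
import Cfsg.Agent.Lib.Lead.ASCU.Defs
import Cfsg.Agent.Lib.helper2.UXDefs
import Cfsg.Agent.Lib.Helper19.ASU.Defs
import Cfsg.Agent.Lib.Helper19.ASUADJ
import Cfsg.Agent.Lib.Helper24.UXFLD62.Defs
import Cfsg.Agent.Lib.Helper24.UXFLD62K0A
import Cfsg.Agent.Lib.Helper24.ASCDEC4

set_option autoImplicit false
set_option linter.unusedVariables false
set_option linter.unusedSectionVars false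

namespace Cfsg.Agent.Lib.helper2.UX

open Cfsg Cfsg.Geo Cfsg.Agent.Lib.Helper27.ASC Cfsg.Agent.Lib.Lead.ASCU Cfsg.Agent.Lib.Helper19.ASU
open scoped MatrixGroups Matrix

variable {F : Type*} [Field F] [Fintype F]

theorem uxfld62detv_sq_add (h2 : (2 : F) = 0) (a b : F) : (a + b) ^ 2 = a ^ 2 + b ^ 2 := by
  have : (a + b) ^ 2 = a ^ 2 + b ^ 2 + 2 * (a * b) := by ring
  rw [this, h2, zero_mul, add_zero]

theorem uxfld62detv_sq_sum (h2 : (2 : F) = 0) {ι : Type*} (s : Finset ι) (φ : ι → F) :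
    (∑ i ∈ s, φ i) ^ 2 = ∑ i ∈ s, (φ i) ^ 2 := by
  classical
  induction s using Finset.induction_on with
  | empty => simp
  | insert a s ha ih => rw [Finset.sum_insert ha, Finset.sum_insert ha, uxfld62detv_sq_add h2, ih]

theorem uxfld62detv_map_mulVec (h2 : (2 : F) = 0) (g : Matrix (Fin 6) (Fin 6) F) (x : Fin 6 → F) :
    (fun i => ((g *ᵥ x) i) ^ 2) = (g.map (fun a => a ^ 2)) *ᵥ (fun i => (x i) ^ 2) := by
  funext i
  simp only [Matrix.mulVec, dotProduct, Matrix.map_apply]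
  rw [uxfld62detv_sq_sum h2]
  apply Finset.sum_congr rfl
  intro j _
  rw [mul_pow]

def uxfld62detvSq (h2 : (2 : F) = 0) : F →+* F where
  toFun := fun a => a ^ 2
  map_one' := one_pow 2
  map_mul' := fun a b => mul_pow a b 2
  map_zero' := by simp
  map_add' := uxfld62detv_sq_add h2

theorem uxfld62detv_map_det (h2 : (2 : F) = 0) (g : Matrix (Fin 6) (Fin 6) F) :
    (g.map (fun a => a ^ 2)).det = g.det ^ 2 := by
  have h := RingHom.map_det (uxfld62detvSq h2) g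
  exact h.symm

theorem uxfld62detv_pow4_vec (hF : Fintype.card F = 4) (x : Fin 6 → F) :
    (fun i => ((fun j => (x j) ^ 2) i) ^ 2) = x := by
  funext i
  show ((x i) ^ 2) ^ 2 = x i
  rw [← pow_mul]
  exact ascdec4_pow4 hF (x i)

theorem uxfld62detv_mat_ext {M N : Matrix (Fin 6) (Fin 6) F} (h : ∀ y, M *ᵥ y = N *ᵥ y) : M = N := by
  apply Matrix.toLin'.injective
  apply LinearMap.ext
  intro y
  rw [Matrix.toLin'_apply, Matrix.toLin'_apply]
  exact h y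

theorem uxfld62detv_core (hF : Fintype.card F = 4) (K : Subalgebra F (Matrix (Fin 6) (Fin 6) F))
    (hK : IsFieldSubalgebra 3 K) (hstar : ∀ k ∈ K, uadj 2 k ∈ K) (u w : Fin 6 → F)
    (H_inj : ∀ a b : Matrix (Fin 6) (Fin 6) F, a ∈ K → b ∈ K → a *ᵥ u + b *ᵥ w = 0 → a = 0 ∧ b = 0)
    (H_surj : ∀ x : Fin 6 → F, ∃ a ∈ K, ∃ b ∈ K, x = a *ᵥ u + b *ᵥ w)
    (g₀ : Matrix (Fin 6) (Fin 6) F) (hg₀ : g₀.det ≠ 0) (h : ∀ v ∈ fld62V0 K u w, g₀ *ᵥ v ∈ fld62V0 K u w) :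
    g₀.det = 1 := by
  classical
  have hF2 := uxfld62k0a_hF2 hF
  obtain ⟨ω, hω, h2, hall⟩ := fld62_omega hF
  obtain ⟨hdec, hdecu⟩ := fld62_K0_decomp hF K hK hstar ω hω
  have huniq : ∀ a b a' b' : Matrix (Fin 6) (Fin 6) F, a ∈ K → b ∈ K → a' ∈ K → b' ∈ K →
      a *ᵥ u + b *ᵥ w = a' *ᵥ u + b' *ᵥ w → a = a' ∧ b = b' := by
    intro a b a' b' ha hb ha' hb' hab
    have h1 : (a - a') *ᵥ u + (b - b') *ᵥ w = 0 := by
      rw [Matrix.sub_mulVec, Matrix.sub_mulVec]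
      have : a *ᵥ u - a' *ᵥ u + (b *ᵥ w - b' *ᵥ w) = (a *ᵥ u + b *ᵥ w) - (a' *ᵥ u + b' *ᵥ w) := by abel
      rw [this, hab, sub_self]
    obtain ⟨h3, h4⟩ := H_inj _ _ (K.sub_mem ha ha') (K.sub_mem hb hb') h1
    exact ⟨sub_eq_zero.1 h3, sub_eq_zero.1 h4⟩
  choose ca hca cb hcb hx using H_surj
  let J : (Fin 6 → F) → (Fin 6 → F) := fun x => uadj 2 (ca x) *ᵥ u + uadj 2 (cb x) *ᵥ w
  have hJ1 : ∀ a b : Matrix (Fin 6) (Fin 6) F, a ∈ K → b ∈ K →
      J (a *ᵥ u + b *ᵥ w) = uadj 2 a *ᵥ u + uadj 2 b *ᵥ w := by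
    intro a b ha hb
    obtain ⟨h3, h4⟩ := huniq _ _ _ _ (hca (a *ᵥ u + b *ᵥ w)) (hcb (a *ᵥ u + b *ᵥ w)) ha hb
      (hx (a *ᵥ u + b *ᵥ w)).symm
    show uadj 2 (ca (a *ᵥ u + b *ᵥ w)) *ᵥ u + uadj 2 (cb (a *ᵥ u + b *ᵥ w)) *ᵥ w = _
    rw [h3, h4]
  have hJadd : ∀ x y, J (x + y) = J x + J y := by
    intro x y
    have h3 : x + y = (ca x + ca y) *ᵥ u + (cb x + cb y) *ᵥ w := by
      rw [Matrix.add_mulVec, Matrix.add_mulVec]
      nth_rewrite 1 [hx x, hx y]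
      abel
    rw [h3, hJ1 _ _ (K.add_mem (hca x) (hca y)) (K.add_mem (hcb x) (hcb y)), uadj_add hF2, uadj_add hF2,
      Matrix.add_mulVec, Matrix.add_mulVec]
    show _ = (uadj 2 (ca x) *ᵥ u + uadj 2 (cb x) *ᵥ w) + (uadj 2 (ca y) *ᵥ u + uadj 2 (cb y) *ᵥ w)
    abel
  have hJsmul : ∀ (c : F) x, J (c • x) = c ^ 2 • J x := by
    intro c x
    have h3 : c • x = (c • ca x) *ᵥ u + (c • cb x) *ᵥ w := by
      rw [Matrix.smul_mulVec, Matrix.smul_mulVec, ← smul_add, ← hx x]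
    rw [h3, hJ1 _ _ (K.smul_mem (hca x) c) (K.smul_mem (hcb x) c), uadj_smul hF2, uadj_smul hF2,
      Matrix.smul_mulVec, Matrix.smul_mulVec, ← smul_add]
  have hJJ : ∀ x, J (J x) = x := by
    intro x
    show J (uadj 2 (ca x) *ᵥ u + uadj 2 (cb x) *ᵥ w) = x
    rw [hJ1 _ _ (hstar _ (hca x)) (hstar _ (hcb x)), uadj_uadj hF2, uadj_uadj hF2, ← hx x]
  have hJV : ∀ v ∈ fld62V0 K u w, J v = v := by
    rintro v ⟨a, ⟨ha, ha'⟩, b, ⟨hb, hb'⟩, rfl⟩
    rw [hJ1 a b ha hb, ha', hb']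
  have hVdec : ∀ x, ∃ v1 ∈ fld62V0 K u w, ∃ v2 ∈ fld62V0 K u w, x = v1 + ω • v2 := by
    intro x
    obtain ⟨a1, ha1, a2, ha2, hca'⟩ := hdec _ (hca x)
    obtain ⟨b1, hb1, b2, hb2, hcb'⟩ := hdec _ (hcb x)
    refine ⟨a1 *ᵥ u + b1 *ᵥ w, ⟨a1, ha1, b1, hb1, rfl⟩, a2 *ᵥ u + b2 *ᵥ w, ⟨a2, ha2, b2, hb2, rfl⟩, ?_⟩
    nth_rewrite 1 [hx x]
    rw [hca', hcb', Matrix.add_mulVec, Matrix.add_mulVec, Matrix.smul_mulVec, Matrix.smul_mulVec, smul_add]
    abel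
  have hcomm : ∀ x, g₀ *ᵥ (J x) = J (g₀ *ᵥ x) := by
    intro x
    obtain ⟨v1, hv1, v2, hv2, rfl⟩ := hVdec x
    rw [hJadd, hJsmul, hJV v1 hv1, hJV v2 hv2, Matrix.mulVec_add, Matrix.mulVec_smul, Matrix.mulVec_add,
      Matrix.mulVec_smul, hJadd, hJsmul, hJV _ (h v1 hv1), hJV _ (h v2 hv2)]
  let L : (Fin 6 → F) →ₗ[F] (Fin 6 → F) :=
    { toFun := fun y => J (fun i => (y i) ^ 2)
      map_add' := by
        intro y z
        have : (fun i => ((y + z) i) ^ 2) = (fun i => (y i) ^ 2) + (fun i => (z i) ^ 2) := by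
          funext i
          exact uxfld62detv_sq_add h2 (y i) (z i)
        rw [this, hJadd]
      map_smul' := by
        intro c y
        have : (fun i => ((c • y) i) ^ 2) = c ^ 2 • (fun i => (y i) ^ 2) := by
          funext i
          simp [mul_pow]
        rw [this, hJsmul, ← pow_mul, ascdec4_pow4 hF c]
        rfl }
  let C : Matrix (Fin 6) (Fin 6) F := LinearMap.toMatrix' L
  have hC : ∀ y, C *ᵥ y = J (fun i => (y i) ^ 2) := by
    intro y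
    have : C *ᵥ y = L y := by
      rw [← Matrix.toLin'_apply, Matrix.toLin'_toMatrix']
    rw [this]
    rfl
  have hJC : ∀ x, J x = C *ᵥ (fun i => (x i) ^ 2) := by
    intro x
    rw [hC, uxfld62detv_pow4_vec hF]
  have hmat : g₀ * C = C * g₀.map (fun a => a ^ 2) := by
    apply uxfld62detv_mat_ext
    intro y
    rw [← Matrix.mulVec_mulVec, ← Matrix.mulVec_mulVec, hC y, hcomm, hJC,
      uxfld62detv_map_mulVec h2, uxfld62detv_pow4_vec hF]
  have hCC : C * C.map (fun a => a ^ 2) = 1 := by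
    apply uxfld62detv_mat_ext
    intro y
    rw [← Matrix.mulVec_mulVec, Matrix.one_mulVec]
    have h3 := hJJ y
    rw [hJC (J y), hJC y, uxfld62detv_map_mulVec h2, uxfld62detv_pow4_vec hF] at h3
    exact h3
  have hCdet : C.det ≠ 0 := by
    intro h0
    have := congrArg Matrix.det hCC
    rw [Matrix.det_mul, h0, zero_mul, Matrix.det_one] at this
    exact zero_ne_one this
  have hdet := congrArg Matrix.det hmat
  rw [Matrix.det_mul, Matrix.det_mul, uxfld62detv_map_det h2] at hdet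
  have h5 : g₀.det = g₀.det ^ 2 := by
    apply mul_right_cancel₀ hCdet
    rw [hdet]
    ring
  have h6 : g₀.det * (g₀.det - 1) = 0 := by linear_combination -h5
  rcases mul_eq_zero.1 h6 with h7 | h7
  · exact absurd h7 hg₀
  · exact sub_eq_zero.1 h7

end Cfsg.Agent.Lib.helper2.UX
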