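import Mathlib
import Cfsg.Prelude.Def_GeometricClasses
import Cfsg.Agent.Lib.Helper27.ASC.Defs
import Cfsg.Agent.Lib.Lead.ASCU.Defs
import Cfsg.Agent.Lib.helper2.UXDefs
import Cfsg.Agent.Lib.Helper19.ASU.Defs
import Cfsg.Agent.Lib.Helper19.ASUADJ
import Cfsg.Agent.Lib.Helper24.UXFLD62.Defs
import Cfsg.Agent.Lib.Helper24.UXFLD62DETVcore
import Cfsg.Agent.Lib.Helper20.UXFLD62COORD

set_option autoImplicit false
set_option linter.unusedVariables false
set_option linter.unusedSectionVars false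

namespace Cfsg.Agent.Lib.helper2.UX

open Cfsg Cfsg.Geo Cfsg.Agent.Lib.Helper27.ASC Cfsg.Agent.Lib.Lead.ASCU Cfsg.Agent.Lib.Helper19.ASU
open scoped MatrixGroups Matrix

variable {F : Type*} [Field F] [Fintype F]

theorem fld62_det_V0 (hF : Fintype.card F = 4) (K : Subalgebra F (Matrix (Fin 6) (Fin 6) F))
    (hK : IsFieldSubalgebra 3 K) (hstar : ∀ k ∈ K, uadj 2 k ∈ K) {u w : Fin 6 → F} (hp : Fld62Pair K u w)
    (g₀ : Matrix (Fin 6) (Fin 6) F) (hg₀ : g₀.det ≠ 0) (h : ∀ v ∈ fld62V0 K u w, g₀ *ᵥ v ∈ fld62V0 K u w) :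
    g₀.det = 1 :=
  uxfld62detv_core hF K hK hstar u w
    (fun a b ha hb hab => fld62_coord_inj hF K hK hstar hp a b ha hb hab)
    (fun x => fld62_coord_surj hF K hK hstar hp x) g₀ hg₀ h

end Cfsg.Agent.Lib.helper2.UX
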