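import Mathlib
import Cfsg.Prelude.Def_GeometricClasses
import Cfsg.Agent.Lib.Helper27.ASC.Defs
import Cfsg.Agent.Lib.Lead.ASCU.Defs
import Cfsg.Agent.Lib.helper2.UXDefs
import Cfsg.Agent.Lib.Helper19.ASU.Defs
import Cfsg.Agent.Lib.Helper19.ASUADJ
import Cfsg.Agent.Lib.Helper24.UXFLD62.Defs
import Cfsg.Agent.Lib.Helper24.UXFLD62K0A
import Cfsg.Agent.Lib.Helper24.UXFLD62K0B
import Cfsg.Agent.Lib.Helper20.UXFLD62COORD
import Cfsg.Agent.Lib.Helper28.Herm

set_option autoImplicit false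
set_option linter.unusedVariables false
set_option linter.unusedSectionVars false

namespace Cfsg.Agent.Lib.helper2.UX

open Cfsg Cfsg.Geo Cfsg.Agent.Lib.Helper27.ASC Cfsg.Agent.Lib.Lead.ASCU Cfsg.Agent.Lib.Helper19.ASU
open scoped MatrixGroups Matrix

variable {F : Type*} [Field F] [Fintype F]

theorem uxfld62tvin_core (hF : Fintype.card F = 4)
    (H_tv : ∀ v : Fin 6 → F, hermForm 6 F 2 v v = 0 → ∃ t : GL (Fin 6) F, t ∈ SUg 6 F 2 ∧
      ∀ x, (t : Matrix (Fin 6) (Fin 6) F) *ᵥ x = x + hermForm 6 F 2 x v • v)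
    (K : Subalgebra F (Matrix (Fin 6) (Fin 6) F))
    (hK : IsFieldSubalgebra 3 K) (hstar : ∀ k ∈ K, uadj 2 k ∈ K) {u w : Fin 6 → F} (hp : Fld62Pair K u w) :
    ∃ t : GL (Fin 6) F, t ∈ SUg 6 F 2 ∧ t ∈ fld62Stab (fld62S K u w) ∧ t ∉ subalgebraNormalizer K := by
  classical
  have hF2 := uxfld62k0a_hF2 hF
  obtain ⟨ω, hω, h2, hall⟩ := fld62_omega hF
  have h11 : (1 : F) + 1 = 0 := by linear_combination h2
  obtain ⟨h0K, h1K, haddK, hmulK, hinvK⟩ := fld62_K0_ring hF K hK hstar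
  have huu : hermForm 6 F 2 u u = 0 := by
    have := hp.iso_u 1 K.one_mem
    rwa [Matrix.one_mulVec] at this
  have hwu : hermForm 6 F 2 w u = 1 := by
    rw [uherm_symm hF2 u w, hp.one, one_pow]
  have hu0 : u ≠ 0 := by
    intro h
    have := hp.one
    rw [h] at this
    unfold hermForm at this
    simp at this
  obtain ⟨t, htS, ht⟩ := H_tv u huu
  have htt : ∀ x, (t : Matrix (Fin 6) (Fin 6) F) *ᵥ ((t : Matrix (Fin 6) (Fin 6) F) *ᵥ x) = x := by
    intro x
    rw [ht, ht, Cfsg.Agent.Lib.Helper28.Herm.herm_add_left, Cfsg.Agent.Lib.Helper28.Herm.herm_smul_left, huu,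
      mul_zero, add_zero, add_assoc, ← add_smul]
    have : hermForm 6 F 2 x u + hermForm 6 F 2 x u = 0 := by
      rw [← two_mul, h2, zero_mul]
    rw [this, zero_smul, add_zero]
  have hkey : ∀ x ∈ fld62S K u w, (t : Matrix (Fin 6) (Fin 6) F) *ᵥ x ∈ fld62S K u w := by
    rintro x ⟨d, v, ⟨a, ha, b, hb, rfl⟩, rfl⟩
    rw [ht, Cfsg.Agent.Lib.Helper28.Herm.herm_smul_left]
    have h1 : hermForm 6 F 2 (a *ᵥ u + b *ᵥ w) u = hermForm 6 F 2 (b *ᵥ u) w := by
      have h := fld62_form hF K hK hstar hp a b 1 0 ha.1 hb.1 K.one_mem K.zero_mem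
      simp only [Matrix.one_mulVec, Matrix.zero_mulVec, add_zero, uadj_zero hF2, uadj_one hF2, mul_zero, mul_one,
        zero_add] at h
      exact h
    rw [h1]
    set e : F := hermForm 6 F 2 (b *ᵥ u) w with he
    have hee : e ^ 2 = e := by
      have := hp.symm b hb.1
      rw [hb.2] at this
      exact this.symm
    have hee' : e * (e - 1) = 0 := by linear_combination hee
    rcases mul_eq_zero.1 hee' with h3 | h3
    · rw [h3, mul_zero, zero_smul, add_zero]
      exact ⟨d, _, ⟨a, ha, b, hb, rfl⟩, rfl⟩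
    · have h4 : e = 1 := sub_eq_zero.1 h3
      rw [h4, mul_one]
      refine ⟨d, (a + 1) *ᵥ u + b *ᵥ w, ⟨a + 1, haddK a ha 1 h1K, b, hb, rfl⟩, ?_⟩
      rw [Matrix.add_mulVec, Matrix.one_mulVec, smul_add, smul_add, smul_add]
      abel
  refine ⟨t, htS, ?_, ?_⟩
  · intro x
    constructor
    · intro hx
      have := hkey _ hx
      rwa [htt] at this
    · exact hkey x
  · intro hN
    have htinv : ((t⁻¹ : GL (Fin 6) F) : Matrix (Fin 6) (Fin 6) F) * (t : Matrix (Fin 6) (Fin 6) F) = 1 := by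
      rw [← Units.val_mul, inv_mul_cancel, Units.val_one]
    have hfield : ∀ k ∈ K, k *ᵥ u = 0 → k = 0 := by
      intro k hk hku
      by_contra hk0
      obtain ⟨y, hy, hky⟩ := hK.inv k hk hk0
      apply hu0
      have h1 : (y * k) *ᵥ u = u := by
        rw [hK.comm y hy k hk, hky, Matrix.one_mulVec]
      rw [← h1, ← Matrix.mulVec_mulVec, hku, Matrix.mulVec_zero]
    have hcomm : ∀ k ∈ K, (t : Matrix (Fin 6) (Fin 6) F) * k = k * (t : Matrix (Fin 6) (Fin 6) F) := by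
      intro k hk
      have hk' : (t : Matrix (Fin 6) (Fin 6) F) * k * ((t⁻¹ : GL (Fin 6) F) : Matrix (Fin 6) (Fin 6) F) ∈ K :=
        (hN k).1 hk
      set k' := (t : Matrix (Fin 6) (Fin 6) F) * k * ((t⁻¹ : GL (Fin 6) F) : Matrix (Fin 6) (Fin 6) F) with hk'def
      have h1 : k' * (t : Matrix (Fin 6) (Fin 6) F) = (t : Matrix (Fin 6) (Fin 6) F) * k := by
        rw [hk'def, mul_assoc, htinv, mul_one]
      have h3 : (k - k') *ᵥ u = 0 := by
        have h4 : ((t : Matrix (Fin 6) (Fin 6) F) * k) *ᵥ u = k *ᵥ u := by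
          rw [← Matrix.mulVec_mulVec, ht, hp.iso_u k hk, zero_smul, add_zero]
        have h5 : (k' * (t : Matrix (Fin 6) (Fin 6) F)) *ᵥ u = k' *ᵥ u := by
          rw [← Matrix.mulVec_mulVec, ht, huu, zero_smul, add_zero]
        rw [Matrix.sub_mulVec, ← h4, ← h5, h1, sub_self]
      have h6 := hfield _ (K.sub_mem hk hk') h3
      rw [← h1, ← sub_eq_zero.1 h6]
    have hscal : ∀ k ∈ K, ∃ l : F, k = l • (1 : Matrix (Fin 6) (Fin 6) F) := by
      intro k hk
      refine ⟨hermForm 6 F 2 (k *ᵥ w) u, ?_⟩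
      have h1 := congrArg (fun M : Matrix (Fin 6) (Fin 6) F => M *ᵥ w) (hcomm k hk)
      simp only [← Matrix.mulVec_mulVec] at h1
      rw [ht, ht, hwu, one_smul, Matrix.mulVec_add] at h1
      have h3 : k *ᵥ u = hermForm 6 F 2 (k *ᵥ w) u • u := (add_left_cancel h1).symm
      have h4 : (k - hermForm 6 F 2 (k *ᵥ w) u • (1 : Matrix (Fin 6) (Fin 6) F)) *ᵥ u = 0 := by
        rw [Matrix.sub_mulVec, Matrix.smul_mulVec, Matrix.one_mulVec, h3, sub_self]
      exact sub_eq_zero.1 (hfield _ (K.sub_mem hk (K.smul_mem K.one_mem _)) h4)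
    obtain ⟨a, ha, ha0, ha1⟩ := fld62_K0_big hF K hK hstar
    obtain ⟨l, hl⟩ := hscal a ha.1
    have h1 := ha.2
    rw [hl, uadj_scalar hF2] at h1
    have h3 : l ^ 2 = l := by
      have := congrFun (congrFun h1 0) 0
      simpa using this
    have h4 : l * (l - 1) = 0 := by linear_combination h3
    rcases mul_eq_zero.1 h4 with h5 | h5
    · apply ha0
      rw [hl, h5, zero_smul]
    · apply ha1
      rw [hl, sub_eq_zero.1 h5, one_smul]

end Cfsg.Agent.Lib.helper2.UX
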