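import Mathlib
import Cfsg.Prelude.Def_GeometricClasses
import Cfsg.Agent.Lib.Helper27.ASC.Defs
import Cfsg.Agent.Lib.Lead.ASCU.Defs
import Cfsg.Agent.Lib.helper2.UXDefs
import Cfsg.Agent.Lib.Helper19.ASU.Defs
import Cfsg.Agent.Lib.Helper19.ASUADJ
import Cfsg.Agent.Lib.Helper24.UXFLD62.Defs
import Cfsg.Agent.Lib.Helper24.UXFLD62K0A
import Cfsg.Agent.Lib.Helper24.UXFLD62K0B
import Cfsg.Agent.Lib.Helper20.UXFLD62COORD
import Cfsg.Agent.Lib.Helper28.Herm

set_option autoImplicit false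
set_option linter.unusedVariables false
set_option linter.unusedSectionVars false

namespace Cfsg.Agent.Lib.helper2.UX

open Cfsg Cfsg.Geo Cfsg.Agent.Lib.Helper27.ASC Cfsg.Agent.Lib.Lead.ASCU Cfsg.Agent.Lib.Helper19.ASU
open scoped MatrixGroups Matrix

variable {F : Type*} [Field F] [Fintype F]

theorem uxfld62tvout_core (hF : Fintype.card F = 4)
    (H_tv : ∀ v : Fin 6 → F, hermForm 6 F 2 v v = 0 → ∃ t : GL (Fin 6) F, t ∈ SUg 6 F 2 ∧
      ∀ x, (t : Matrix (Fin 6) (Fin 6) F) *ᵥ x = x + hermForm 6 F 2 x v • v)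
    (K : Subalgebra F (Matrix (Fin 6) (Fin 6) F))
    (hK : IsFieldSubalgebra 3 K) (hstar : ∀ k ∈ K, uadj 2 k ∈ K) {u w : Fin 6 → F} (hp : Fld62Pair K u w) :
    ∃ t : GL (Fin 6) F, t ∈ SUg 6 F 2 ∧ t ∉ fld62Stab (fld62S K u w) := by
  classical
  have hF2 := uxfld62k0a_hF2 hF
  obtain ⟨ω, hω, h2, hall⟩ := fld62_omega hF
  have h11 : (1 : F) + 1 = 0 := by linear_combination h2
  obtain ⟨hdec, hdecu⟩ := fld62_K0_decomp hF K hK hstar ω hω
  obtain ⟨h0K, h1K, haddK, hmulK, hinvK⟩ := fld62_K0_ring hF K hK hstar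
  obtain ⟨a, ha, ha0, ha1⟩ := fld62_K0_big hF K hK hstar
  have hM2 : ∀ M : Matrix (Fin 6) (Fin 6) F, M + M = 0 := by
    intro M
    rw [← two_smul F M, h2, zero_smul]
  set c : Matrix (Fin 6) (Fin 6) F := 1 + ω • a with hc
  have hcK : c ∈ K := K.add_mem K.one_mem (K.smul_mem ha.1 ω)
  have hc0 : c ≠ 0 := by
    intro h
    have := (hdecu 1 h1K a ha h).1
    exact one_ne_zero this
  -- the centre
  have hiso : hermForm 6 F 2 (c *ᵥ u) (c *ᵥ u) = 0 := by
    have h := fld62_form hF K hK hstar hp c 0 c 0 hcK K.zero_mem hcK K.zero_mem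
    simp only [Matrix.zero_mulVec, add_zero, uadj_zero hF2, mul_zero, zero_mul] at h
    rw [h]
    unfold hermForm
    simp
  obtain ⟨t, htS, ht⟩ := H_tv (c *ᵥ u) hiso
  refine ⟨t, htS, ?_⟩
  -- `b`
  have hex : ∃ b ∈ fld62K0 K, hermForm 6 F 2 (b *ᵥ w) (c *ᵥ u) ≠ 0 := by
    by_contra hcon
    push Not at hcon
    have hb0 : ∀ b ∈ fld62K0 K, hermForm 6 F 2 ((b * uadj 2 c) *ᵥ u) w = 0 := by
      intro b hb
      have h := fld62_form hF K hK hstar hp 0 b c 0 K.zero_mem hb.1 hcK K.zero_mem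
      simp only [Matrix.zero_mulVec, add_zero, zero_add, uadj_zero hF2, mul_zero] at h
      rw [← h]
      exact hcon b hb
    have hcs : uadj 2 c = 0 := by
      apply fld62_ell_nondeg hF K hK hstar hp (uadj 2 c) (hstar c hcK)
      intro k hk
      obtain ⟨b1, hb1, b2, hb2, rfl⟩ := hdec k hk
      rw [add_mul, Matrix.add_mulVec, Matrix.smul_mul, Matrix.smul_mulVec,
        Cfsg.Agent.Lib.Helper28.Herm.herm_add_left, Cfsg.Agent.Lib.Helper28.Herm.herm_smul_left,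
        hb0 b1 hb1, hb0 b2 hb2, mul_zero, add_zero]
    apply hc0
    have := congrArg (uadj 2) hcs
    rwa [uadj_uadj hF2, uadj_zero hF2] at this
  obtain ⟨b, hb, hc'⟩ := hex
  set c' : F := hermForm 6 F 2 (b *ᵥ w) (c *ᵥ u) with hc'def
  intro hstab
  have hbw : b *ᵥ w ∈ fld62S K u w := by
    refine ⟨1, b *ᵥ w, ⟨0, h0K, b, hb, ?_⟩, ?_⟩
    · rw [Matrix.zero_mulVec, zero_add]
    · rw [one_smul]
  have himg := (hstab (b *ᵥ w)).2 hbw
  rw [ht] at himg
  obtain ⟨d, v, ⟨a', ha', b', hb', rfl⟩, hv⟩ := himg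
  have heq : (c' • c - d • a') *ᵥ u + (b - d • b') *ᵥ w = 0 := by
    rw [Matrix.sub_mulVec, Matrix.sub_mulVec, Matrix.smul_mulVec, Matrix.smul_mulVec, Matrix.smul_mulVec]
    have h3 : b *ᵥ w + c' • c *ᵥ u = d • a' *ᵥ u + d • b' *ᵥ w := by
      rw [hv, smul_add]
    have h4 : c' • c *ᵥ u - d • a' *ᵥ u + (b *ᵥ w - d • b' *ᵥ w) =
        (b *ᵥ w + c' • c *ᵥ u) - (d • a' *ᵥ u + d • b' *ᵥ w) := by abel
    rw [h4, h3, sub_self]
  obtain ⟨h5, h6⟩ := fld62_coord_inj hF K hK hstar hp _ _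
    (K.sub_mem (K.smul_mem hcK c') (K.smul_mem ha'.1 d)) (K.sub_mem hb.1 (K.smul_mem hb'.1 d)) heq
  have h7 : c' • c = d • a' := sub_eq_zero.1 h5
  have hd0 : d ≠ 0 := by
    intro hd
    rw [hd, zero_smul] at h7
    rcases smul_eq_zero.1 h7 with h8 | h8
    · exact hc' h8
    · exact hc0 h8
  have h8 : c = (c'⁻¹ * d) • a' := by
    rw [mul_smul, ← h7, smul_smul, inv_mul_cancel₀ hc', one_smul]
  have hl0 : c'⁻¹ * d ≠ 0 := mul_ne_zero (inv_ne_zero hc') hd0
  set l : F := c'⁻¹ * d with hl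
  rcases hall l with h9 | h9 | h9 | h9
  · exact hl0 h9
  · rw [h9, one_smul, hc] at h8
    have h10 : (1 + a') + ω • a = 0 := by
      have : (1 + a') + ω • a = (1 + ω • a) + a' := by abel
      rw [this, h8]
      exact hM2 a'
    exact ha0 (hdecu _ (haddK 1 h1K a' ha') a ha h10).2
  · rw [h9, hc] at h8
    have h10 : 1 + ω • (a + a') = 0 := by
      rw [smul_add, ← add_assoc, h8]
      exact hM2 _
    exact one_ne_zero (hdecu 1 h1K _ (haddK a ha a' ha') h10).1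
  · rw [h9, hc, add_smul, one_smul] at h8
    have h10 : (1 + a') + ω • (a + a') = 0 := by
      have : (1 + a') + ω • (a + a') = (1 + ω • a) + (ω • a' + a') := by
        rw [smul_add]; abel
      rw [this, h8]
      exact hM2 _
    obtain ⟨h12, h13⟩ := hdecu _ (haddK 1 h1K a' ha') _ (haddK a ha a' ha') h10
    have ha'1 : a' = 1 := by
      have : a' = (1 + a') + 1 := by
        rw [add_comm 1 a', add_assoc, hM2 1, add_zero]
      rw [this, h12, zero_add]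
    apply ha1
    have : a = (a + a') + a' := by rw [add_assoc, hM2 a', add_zero]
    rw [this, h13, zero_add, ha'1]

end Cfsg.Agent.Lib.helper2.UX
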