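import Mathlib
import Cfsg.Prelude.Def_GeometricClasses
import Cfsg.Agent.Lib.Helper27.ASC.Defs
import Cfsg.Agent.Lib.Lead.ASCU.Defs
import Cfsg.Agent.Lib.helper2.UXDefs
import Cfsg.Agent.Lib.Helper19.ASU.Defs
import Cfsg.Agent.Lib.Helper19.ASUADJ
import Cfsg.Agent.Lib.Helper24.UXFLD62.Defs
import Cfsg.Agent.Lib.Helper24.UXFLD62K0A
import Cfsg.Agent.Lib.Helper24.UXFLD62K0B
import Cfsg.Agent.Lib.Helper20.UXFLD62COORD
import Cfsg.Agent.Lib.Helper20.UXFLD62PAIR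
import Cfsg.Agent.Lib.Helper22.UXFLD62NORM
import Cfsg.Agent.Lib.Helper22.UXFLD62POLAR
import Cfsg.Agent.Lib.Helper25.UXFLD62DETK
import Cfsg.Agent.Lib.Helper24.UXFLD62DETV
import Cfsg.Agent.Lib.Helper24.UXFLD62TVIN
import Cfsg.Agent.Lib.Helper24.UXFLD62TVOUT

set_option autoImplicit false
set_option linter.unusedVariables false
set_option linter.unusedSectionVars false

namespace Cfsg.Agent.Lib.helper2.UX

open Cfsg Cfsg.Geo Cfsg.Agent.Lib.Helper27.ASC Cfsg.Agent.Lib.Lead.ASCU Cfsg.Agent.Lib.Helper19.ASU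
open scoped MatrixGroups Matrix

variable {F : Type*} [Field F] [Fintype F]

theorem uxfld62asm_key (hF : Fintype.card F = 4) (K : Subalgebra F (Matrix (Fin 6) (Fin 6) F))
    (hK : IsFieldSubalgebra 3 K) (hstar : ∀ k ∈ K, uadj 2 k ∈ K) {u w : Fin 6 → F} (hp : Fld62Pair K u w)
    (g : GL (Fin 6) F) (hgN : g ∈ subalgebraNormalizer K) (hgS : g ∈ SUg 6 F 2) :
    ∀ x ∈ fld62S K u w, (g : Matrix (Fin 6) (Fin 6) F) *ᵥ x ∈ fld62S K u w := by
  have hF2 : Fintype.card F = 2 ^ 2 := by rw [hF]; norm_num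
  have hgU : g ∈ GU 6 F 2 := hgS.1
  have hdet : (g : Matrix (Fin 6) (Fin 6) F).det = 1 := by
    have h1 : Matrix.GeneralLinearGroup.det g = 1 := hgS.2
    have h2 := congrArg (fun z : Fˣ => (z : F)) h1
    simpa using h2
  obtain ⟨κ, hκ, hκ1, ⟨vx, hvx, hx⟩, ⟨vy, hvy, hy⟩⟩ :=
    fld62_polar hF K hK hstar hp (fld62_norm_pair hF K hK hstar hp g hgN hgU)
  obtain ⟨ax, hax, bx, hbx, rfl⟩ := hvx
  obtain ⟨ay, hay, by', hby, rfl⟩ := hvy
  obtain ⟨h0, h1, hadd, hmul, hinv⟩ := fld62_K0_ring hF K hK hstar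
  have hV : ∀ v ∈ fld62V0 K u w, ∃ v' ∈ fld62V0 K u w, (g : Matrix (Fin 6) (Fin 6) F) *ᵥ v = κ *ᵥ v' := by
    intro v hv
    obtain ⟨a, ha, b, hb, hab⟩ := fld62_norm_V0 hF K hK hstar u w g hgN hgU v hv
    refine ⟨(a * ax + b * ay) *ᵥ u + (a * bx + b * by') *ᵥ w,
      ⟨a * ax + b * ay, hadd _ (hmul _ ha _ hax) _ (hmul _ hb _ hay),
        a * bx + b * by', hadd _ (hmul _ ha _ hbx) _ (hmul _ hb _ hby), rfl⟩, ?_⟩
    rw [hab, hx, hy]
    have hca : a * κ = κ * a := hK.comm a ha.1 κ hκ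
    have hcb : b * κ = κ * b := hK.comm b hb.1 κ hκ
    simp only [Matrix.mulVec_add, Matrix.mulVec_mulVec, Matrix.add_mulVec, ← mul_assoc, hca, hcb]
    abel
  have hκκ : κ * uadj 2 κ = 1 := by
    rw [hK.comm κ hκ _ (hstar κ hκ)]
    exact hκ1
  have hg0 : ∀ v ∈ fld62V0 K u w, (uadj 2 κ * (g : Matrix (Fin 6) (Fin 6) F)) *ᵥ v ∈ fld62V0 K u w := by
    intro v hv
    obtain ⟨v', hv', hgv⟩ := hV v hv
    rw [← Matrix.mulVec_mulVec, hgv, Matrix.mulVec_mulVec, hκ1, Matrix.one_mulVec]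
    exact hv'
  have hdκ : κ.det * (uadj 2 κ).det = 1 := by rw [← Matrix.det_mul, hκκ, Matrix.det_one]
  have hg0det : (uadj 2 κ * (g : Matrix (Fin 6) (Fin 6) F)).det ≠ 0 := by
    rw [Matrix.det_mul, hdet, mul_one]
    exact right_ne_zero_of_mul_eq_one hdκ
  have h1det := fld62_det_V0 hF K hK hstar hp _ hg0det hg0
  rw [Matrix.det_mul, hdet, mul_one] at h1det
  have hκdet : κ.det = 1 := by rw [h1det, mul_one] at hdκ; exact hdκ
  obtain ⟨c, hc⟩ := fld62_det_kappa hF K hK hstar hp κ hκ hκ1 hκdet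
  rintro x ⟨d, v, hv, rfl⟩
  obtain ⟨v', hv', hgv⟩ := hV v hv
  refine ⟨d * c, v', hv', ?_⟩
  rw [Matrix.mulVec_smul, hgv, hc, Matrix.smul_mulVec, Matrix.one_mulVec, smul_smul]

theorem field3_q2 (hF : Fintype.card F = 4) (K : Subalgebra F (Matrix (Fin 6) (Fin 6) F))
    (hK : IsFieldSubalgebra 3 K) (hadj : IsAdjointClosedFor (hermForm 6 F 2) K) :
    NotMax (SUg 6 F 2) (subalgebraNormalizer K ⊓ SUg 6 F 2) := by
  have hF2 : Fintype.card F = 2 ^ 2 := by rw [hF]; norm_num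
  have hstar : ∀ k ∈ K, uadj 2 k ∈ K := fun k hk => uadj_mem_of_adjointClosed hF2 K hadj hk
  obtain ⟨u, w, hp⟩ := fld62_exists_pair hF K hK hstar
  obtain ⟨t, htS, htK, htN⟩ := fld62_tv_in hF K hK hstar hp
  obtain ⟨t', ht'S, ht'K⟩ := fld62_tv_out hF K hK hstar hp
  refine ⟨fld62Stab (fld62S K u w) ⊓ SUg 6 F 2, ?_, ?_⟩
  · refine lt_of_le_of_ne ?_ ?_
    · rintro g ⟨hgN, hgS⟩
      refine ⟨?_, hgS⟩
      intro x
      constructor
      · intro hx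
        have h1 := uxfld62asm_key hF K hK hstar hp g⁻¹ ((subalgebraNormalizer K).inv_mem hgN)
          ((SUg 6 F 2).inv_mem hgS) _ hx
        rwa [Matrix.mulVec_mulVec, ← Units.val_mul, inv_mul_cancel, Units.val_one, Matrix.one_mulVec] at h1
      · exact uxfld62asm_key hF K hK hstar hp g hgN hgS x
    · intro h
      have h1 : t ∈ subalgebraNormalizer K ⊓ SUg 6 F 2 := by rw [h]; exact ⟨htK, htS⟩
      exact htN h1.1
  · refine lt_of_le_of_ne inf_le_right ?_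
    intro h
    have h1 : t' ∈ fld62Stab (fld62S K u w) ⊓ SUg 6 F 2 := by rw [h]; exact ht'S
    exact ht'K h1.1

end Cfsg.Agent.Lib.helper2.UX
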