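import Cfsg.Agent.Lib.helper15.WB.Defs
import Cfsg.Agent.S0755

set_option autoImplicit false

namespace Cfsg.Agent.Lib.Helper24.WBHb

open Matrix Cfsg.Agent.Lib.helper15.SUn Cfsg.Agent.Lib.helper15.WB

section H

variable {F : Type*} [Field F] [Fintype F] [DecidableEq F] {q : ℕ} {σ : F ≃+* F}

omit [DecidableEq F] in
theorem two_le_q (hF : Fintype.card F = q ^ 2) : 2 ≤ q := by
  by_contra hcon
  push Not at hcon
  have h1 : 1 < Fintype.card F := Fintype.one_lt_card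
  rw [hF] at h1
  interval_cases q <;> omega

omit [DecidableEq F] in
theorem sig_sig (hF : Fintype.card F = q ^ 2) (hσ : ∀ x, σ x = x ^ q) (x : F) :
    σ (σ x) = x := by
  rw [hσ, hσ, ← pow_mul, ← sq, ← hF, FiniteField.pow_card]

omit [DecidableEq F] in
theorem sig_ne_id (hF : Fintype.card F = q ^ 2) (hσ : ∀ x, σ x = x ^ q) :
    (σ : F →+* F) ≠ RingHom.id F := by
  intro h
  have hq := two_le_q hF
  obtain ⟨g, hg⟩ := IsCyclic.exists_generator (α := Fˣ)
  have hord : orderOf g = q ^ 2 - 1 := by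
    rw [orderOf_eq_card_of_forall_mem_zpowers hg, Nat.card_units, Nat.card_eq_fintype_card, hF]
  have h1 : ((g : F)) ^ q = (g : F) := by
    rw [← hσ]
    exact congrArg (fun φ : F →+* F => φ (g : F)) h
  have h2 : g ^ (q - 1) = 1 := by
    apply Units.ext
    rw [Units.val_pow_eq_pow_val, Units.val_one]
    have h3 : (g : F) ^ (q - 1) * (g : F) = 1 * (g : F) := by
      rw [← pow_succ, Nat.sub_add_cancel (by omega), h1, one_mul]
    exact mul_right_cancel₀ g.ne_zero h3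
  have h3 : q ^ 2 - 1 ∣ q - 1 := by
    rw [← hord]
    exact orderOf_dvd_of_pow_eq_one h2
  have h4 : q ^ 2 - 1 ≤ q - 1 := Nat.le_of_dvd (by omega) h3
  have h5 : q * 2 ≤ q ^ 2 := by
    rw [sq]
    exact Nat.mul_le_mul_left q hq
  omega

omit [DecidableEq F] in
theorem norm_surj (hF : Fintype.card F = q ^ 2) (hσ : ∀ x, σ x = x ^ q) (c : F) (hc : σ c = c) :
    ∃ a : F, a * σ a = c := by
  obtain ⟨a, ha⟩ := Cfsg.Agent.S0755.norm_surj (σ : F →+* F) (sig_ne_id hF hσ)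
    (fun a => sig_sig hF hσ a) c hc
  exact ⟨a, by rw [mul_comm]; exact ha⟩

omit [Fintype F] [DecidableEq F] in
theorem cg_diag_apply {k : ℕ} (d : Fin k → F) (X : Matrix (Fin k) (Fin k) F) (i j : Fin k) :
    cg σ (Matrix.diagonal d) X i j = d i * X i j * σ (d j) := by
  unfold cg
  rw [Matrix.diagonal_map (map_zero σ), Matrix.diagonal_transpose, Matrix.mul_diagonal,
    Matrix.diagonal_mul]

omit [Fintype F] [DecidableEq F] in
theorem cg_transv_row {k : ℕ} (j0 i0 : Fin k) (hne : i0 ≠ j0) (s : F)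
    (X : Matrix (Fin k) (Fin k) F) (l : Fin k) :
    cg σ (1 + Matrix.single j0 i0 s) X i0 l =
      X i0 l + (if l = j0 then X i0 i0 * σ s else 0) := by
  unfold cg
  have h1 : ((1 + Matrix.single j0 i0 s : Matrix (Fin k) (Fin k) F).map σ)ᵀ =
      1 + Matrix.single i0 j0 (σ s) := by
    rw [Matrix.map_add σ (fun a b => map_add σ a b), Matrix.map_one σ (map_zero σ) (map_one σ),
      Matrix.map_single, Matrix.transpose_add, Matrix.transpose_one, Matrix.transpose_single]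
  rw [h1, Matrix.add_mul, Matrix.one_mul, Matrix.mul_add, Matrix.mul_one, Matrix.add_apply,
    Matrix.add_apply, Matrix.single_mul_apply_of_ne _ _ _ _ _ hne, add_zero]
  congr 1
  by_cases hl : l = j0
  · subst hl
    rw [if_pos rfl, Matrix.mul_single_apply_same, Matrix.add_apply,
      Matrix.single_mul_apply_of_ne _ _ _ _ _ hne, add_zero]
  · rw [if_neg hl, Matrix.mul_single_apply_of_ne _ _ _ _ _ hl]

omit [DecidableEq F] in
theorem scale00 (hF : Fintype.card F = q ^ 2) (hσ : ∀ x, σ x = x ^ q) (m : ℕ)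
    (T : Finset (Matrix (Fin (m + 2)) (Fin (m + 2)) F)) (hT : ∀ X ∈ T, IsHerm σ X)
    (hinv : ∀ X ∈ T, ∀ A : Matrix (Fin (m + 2)) (Fin (m + 2)) F, A.det = 1 → cg σ A X ∈ T)
    (Y : Matrix (Fin (m + 2)) (Fin (m + 2)) F) (hY : Y ∈ T) (hY0 : Y 0 0 ≠ 0)
    (c : F) (hc : σ c = c) (hc0 : c ≠ 0) : ∃ Z ∈ T, Z 0 0 = c := by
  have hY00 : σ (Y 0 0) = Y 0 0 := hT Y hY 0 0
  have hfix : σ (c / Y 0 0) = c / Y 0 0 := by rw [map_div₀, hc, hY00]
  obtain ⟨t, ht⟩ := norm_surj hF hσ (c / Y 0 0) hfix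
  have ht0 : t ≠ 0 := by
    intro h
    rw [h, zero_mul] at ht
    exact (div_ne_zero hc0 hY0) ht.symm
  let d : Fin (m + 2) → F := fun i => if i = 0 then t else if i = 1 then t⁻¹ else 1
  have hdet : (Matrix.diagonal d).det = 1 := by
    rw [Matrix.det_diagonal, Fin.prod_univ_succ, Fin.prod_univ_succ]
    have h0 : d 0 = t := by simp [d]
    have h1 : d (Fin.succ 0) = t⁻¹ := by
      have : (Fin.succ 0 : Fin (m + 2)) ≠ 0 := Fin.succ_ne_zero _
      simp only [d, if_neg this]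
      rw [if_pos]
      rfl
    have h2 : ∀ i : Fin m, d (Fin.succ (Fin.succ i)) = 1 := by
      intro i
      have ha : (Fin.succ (Fin.succ i) : Fin (m + 2)) ≠ 0 := Fin.succ_ne_zero _
      have hb : (Fin.succ (Fin.succ i) : Fin (m + 2)) ≠ 1 := by
        intro h
        have h' : (Fin.succ (Fin.succ i) : Fin (m + 2)) = Fin.succ 0 := h
        exact Fin.succ_ne_zero _ (Fin.succ_injective _ h')
      simp only [d, if_neg ha, if_neg hb]
    rw [h0, h1, Finset.prod_congr rfl (fun i _ => h2 i), Finset.prod_const_one, mul_one,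
      mul_inv_cancel₀ ht0]
  refine ⟨cg σ (Matrix.diagonal d) Y, hinv Y hY _ hdet, ?_⟩
  rw [cg_diag_apply]
  have h0 : d 0 = t := by simp [d]
  rw [h0]
  have : t * Y 0 0 * σ t = (t * σ t) * Y 0 0 := by ring
  rw [this, ht, div_mul_cancel₀ _ hY0]

set_option linter.unusedSectionVars false in
theorem first_row_surj (hF : Fintype.card F = q ^ 2) (hσ : ∀ x, σ x = x ^ q) (m : ℕ)
    (T : Finset (Matrix (Fin (m + 2)) (Fin (m + 2)) F)) (hT : ∀ X ∈ T, IsHerm σ X)
    (hinv : ∀ X ∈ T, ∀ A : Matrix (Fin (m + 2)) (Fin (m + 2)) F, A.det = 1 → cg σ A X ∈ T)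
    (Y : Matrix (Fin (m + 2)) (Fin (m + 2)) F) (hY : Y ∈ T) (hY0 : Y 0 0 ≠ 0)
    (ξ : Fin (m + 2) → F) (hξ : σ (ξ 0) = ξ 0) (hξ0 : ξ 0 ≠ 0) :
    ∃ Z ∈ T, ∀ j, Z 0 j = ξ j := by
  classical
  have key : ∀ S : Finset (Fin (m + 2)), (0 : Fin (m + 2)) ∉ S →
      ∃ Z ∈ T, Z 0 0 = ξ 0 ∧ ∀ j ∈ S, Z 0 j = ξ j := by
    intro S
    induction S using Finset.induction_on with
    | empty =>
      intro _
      obtain ⟨Z, hZ, hZ0⟩ := scale00 hF hσ m T hT hinv Y hY hY0 (ξ 0) hξ hξ0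
      exact ⟨Z, hZ, hZ0, fun j hj => absurd hj (Finset.notMem_empty j)⟩
    | insert j0 S hj0 ih =>
      intro h0
      have h0S : (0 : Fin (m + 2)) ∉ S := fun h => h0 (Finset.mem_insert_of_mem h)
      have hj00 : (0 : Fin (m + 2)) ≠ j0 := fun h => h0 (h ▸ Finset.mem_insert_self _ _)
      obtain ⟨Z, hZ, hZ0, hZS⟩ := ih h0S
      have hZ00 : Z 0 0 ≠ 0 := by rw [hZ0]; exact hξ0
      let s : F := σ ((ξ j0 - Z 0 j0) / Z 0 0)
      have hdet : (1 + Matrix.single j0 0 s : Matrix (Fin (m + 2)) (Fin (m + 2)) F).det = 1 :=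
        Matrix.det_transvection_of_ne j0 0 (Ne.symm hj00) s
      refine ⟨cg σ (1 + Matrix.single j0 0 s) Z, hinv Z hZ _ hdet, ?_, ?_⟩
      · rw [cg_transv_row j0 0 hj00 s Z 0, if_neg hj00, add_zero, hZ0]
      · intro j hj
        rw [cg_transv_row j0 0 hj00 s Z j]
        rcases Finset.mem_insert.mp hj with h | h
        · subst h
          rw [if_pos rfl]
          have : σ s = (ξ j - Z 0 j) / Z 0 0 := sig_sig hF hσ _
          rw [this, mul_div_cancel₀ _ hZ00]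
          ring
        · have hne : j ≠ j0 := fun h' => hj0 (h' ▸ h)
          rw [if_neg hne, add_zero, hZS j h]
  obtain ⟨Z, hZ, hZ0, hZS⟩ := key (Finset.univ.erase 0) (Finset.notMem_erase _ _)
  refine ⟨Z, hZ, fun j => ?_⟩
  by_cases hj : j = 0
  · rw [hj, hZ0]
  · exact hZS j (Finset.mem_erase.mpr ⟨hj, Finset.mem_univ _⟩)

end H

end Cfsg.Agent.Lib.Helper24.WBHb
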