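import Cfsg.Agent.Lib.Helper24.WBHmCore
import Cfsg.Agent.Lib.Helper16.WBHc
import Cfsg.Agent.Lib.Helper11.WBHd

set_option autoImplicit false

namespace Cfsg.Agent.Lib.Helper24.WBHm

open Matrix Cfsg.Agent.Lib.helper15.SUn Cfsg.Agent.Lib.helper15.WB

section H

variable {F : Type*} [Field F] [Fintype F] [DecidableEq F] {q : ℕ} {σ : F ≃+* F}

theorem herm_bound_GL (hF : Fintype.card F = q ^ 2) (hσ : ∀ x, σ x = x ^ q) (m : ℕ)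
    (T : Finset (Matrix (Fin (m + 1)) (Fin (m + 1)) F)) (hT : ∀ X ∈ T, IsHerm σ X)
    (hinv : ∀ X ∈ T, ∀ A : Matrix (Fin (m + 1)) (Fin (m + 1)) F, A.det ≠ 0 → cg σ A X ∈ T)
    (hne : ∃ X ∈ T, X ≠ 0) :
    (q ^ (2 * (m + 1)) - 1) / (q + 1) ≤ (T.filter (fun X => X ≠ 0)).card :=
  gl_all hF hσ (fun m => Cfsg.Agent.Lib.Helper11.WBHd.card_rows hF hσ m) (fun m => Cfsg.Agent.Lib.Helper16.WBHa.exists_diag_ne hF hσ m)
    (fun m => Cfsg.Agent.Lib.Helper16.WBHc.exists_block hF hσ m) (fun m => Cfsg.Agent.Lib.Helper11.WBHd.block_inv hF hσ m) m T hT hinv hne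

theorem herm_bound_SL (hF : Fintype.card F = q ^ 2) (hσ : ∀ x, σ x = x ^ q) (m : ℕ)
    (T : Finset (Matrix (Fin (m + 2)) (Fin (m + 2)) F)) (hT : ∀ X ∈ T, IsHerm σ X)
    (hinv : ∀ X ∈ T, ∀ A : Matrix (Fin (m + 2)) (Fin (m + 2)) F, A.det = 1 → cg σ A X ∈ T)
    (hne : ∃ X ∈ T, X ≠ 0) :
    (q ^ (2 * (m + 2)) - 1) / (q + 1) ≤ (T.filter (fun X => X ≠ 0)).card :=
  sl_all hF hσ (fun m => Cfsg.Agent.Lib.Helper11.WBHd.card_rows hF hσ m) (fun m => Cfsg.Agent.Lib.Helper16.WBHa.exists_diag_ne hF hσ m)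
    (fun m => Cfsg.Agent.Lib.Helper16.WBHc.exists_block hF hσ m) (fun m => Cfsg.Agent.Lib.Helper11.WBHd.block_inv hF hσ m) m T hT hinv hne

end H

end Cfsg.Agent.Lib.Helper24.WBHm
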