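import Cfsg.Agent.Lib.Helper24.WBHb

set_option autoImplicit false

namespace Cfsg.Agent.Lib.Helper24.WBHm

open Matrix Cfsg.Agent.Lib.helper15.SUn Cfsg.Agent.Lib.helper15.WB

theorem arith (q k : ℕ) (hq : 1 ≤ q) :
    (q ^ (2 * (k + 1)) - 1) / (q + 1) ≤ (q - 1) * q ^ (2 * k) + (q ^ (2 * k) - 1) / (q + 1) := by
  obtain ⟨r, rfl⟩ : ∃ r, q = r + 1 := ⟨q - 1, by omega⟩
  have hdvd : (r + 1 + 1) ∣ (r + 1) ^ (2 * k) - 1 := by
    have h1 : (r + 1) ^ 2 - 1 ∣ ((r + 1) ^ 2) ^ k - 1 ^ k := Nat.sub_dvd_pow_sub_pow _ _ _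
    rw [one_pow, ← pow_mul] at h1
    refine Dvd.dvd.trans ?_ h1
    refine ⟨r, ?_⟩
    have : (r + 1) ^ 2 = (r + 1 + 1) * r + 1 := by ring
    rw [this, Nat.add_sub_cancel]
  obtain ⟨N, hN⟩ := hdvd
  have hpos : 1 ≤ (r + 1) ^ (2 * k) := Nat.one_le_pow _ _ (by omega)
  have hN' : (r + 1) ^ (2 * k) = (r + 1 + 1) * N + 1 := by omega
  have h2 : (r + 1) ^ (2 * (k + 1)) - 1 = (r + 1 + 1) * ((r + 1) ^ 2 * N + r) := by
    have : (r + 1) ^ (2 * (k + 1)) = (r + 1) ^ 2 * (r + 1) ^ (2 * k) := by ring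
    rw [this, hN']
    have : (r + 1) ^ 2 * ((r + 1 + 1) * N + 1) = (r + 1 + 1) * ((r + 1) ^ 2 * N + r) + 1 := by
      ring
    rw [this, Nat.add_sub_cancel]
  rw [h2, Nat.mul_div_cancel_left _ (by omega : 0 < r + 1 + 1), hN,
    Nat.mul_div_cancel_left _ (by omega : 0 < r + 1 + 1), Nat.add_sub_cancel, hN']
  nlinarith

section H

variable {F : Type*} [Field F] [Fintype F] [DecidableEq F]

def RowsStmt (σ : F ≃+* F) (q m : ℕ) : Prop :=
  (q - 1) * q ^ (2 * m) ≤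
    (Finset.univ.filter (fun ξ : Fin (m + 1) → F => σ (ξ 0) = ξ 0 ∧ ξ 0 ≠ 0)).card

def DiagStmt (σ : F ≃+* F) (m : ℕ) : Prop :=
  ∀ (T : Finset (Matrix (Fin (m + 2)) (Fin (m + 2)) F)), (∀ X ∈ T, IsHerm σ X) →
    (∀ X ∈ T, ∀ A : Matrix (Fin (m + 2)) (Fin (m + 2)) F, A.det = 1 → cg σ A X ∈ T) →
    (∃ X ∈ T, X ≠ 0) → ∃ Y ∈ T, Y 0 0 ≠ 0

def BlockStmt (σ : F ≃+* F) (m : ℕ) : Prop :=
  ∀ (T : Finset (Matrix (Fin (m + 2)) (Fin (m + 2)) F)), (∀ X ∈ T, IsHerm σ X) →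
    (∀ X ∈ T, ∀ A : Matrix (Fin (m + 2)) (Fin (m + 2)) F, A.det = 1 → cg σ A X ∈ T) →
    ∀ (Y : Matrix (Fin (m + 2)) (Fin (m + 2)) F), Y ∈ T → Y 0 0 ≠ 0 →
    ∃ Z ∈ T, Z 0 0 = 0 ∧ Z 1 1 ≠ 0

def BlockInvStmt (σ : F ≃+* F) (m : ℕ) : Prop :=
  ∀ (T : Finset (Matrix (Fin (m + 2)) (Fin (m + 2)) F)), (∀ X ∈ T, IsHerm σ X) →
    (∀ X ∈ T, ∀ A : Matrix (Fin (m + 2)) (Fin (m + 2)) F, A.det = 1 → cg σ A X ∈ T) →
    ∀ (Z : Matrix (Fin (m + 2)) (Fin (m + 2)) F), Z ∈ T → Z 0 0 = 0 →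
    ∀ (A' : Matrix (Fin (m + 1)) (Fin (m + 1)) F), A'.det ≠ 0 →
    ∃ Z' ∈ T, Z' 0 0 = 0 ∧
      Z'.submatrix Fin.succ Fin.succ = cg σ A' (Z.submatrix Fin.succ Fin.succ)

def GLStmt (σ : F ≃+* F) (q m : ℕ) : Prop :=
  ∀ (T : Finset (Matrix (Fin (m + 1)) (Fin (m + 1)) F)), (∀ X ∈ T, IsHerm σ X) →
    (∀ X ∈ T, ∀ A : Matrix (Fin (m + 1)) (Fin (m + 1)) F, A.det ≠ 0 → cg σ A X ∈ T) →
    (∃ X ∈ T, X ≠ 0) →
    (q ^ (2 * (m + 1)) - 1) / (q + 1) ≤ (T.filter (fun X => X ≠ 0)).card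

def SLStmt (σ : F ≃+* F) (q m : ℕ) : Prop :=
  ∀ (T : Finset (Matrix (Fin (m + 2)) (Fin (m + 2)) F)), (∀ X ∈ T, IsHerm σ X) →
    (∀ X ∈ T, ∀ A : Matrix (Fin (m + 2)) (Fin (m + 2)) F, A.det = 1 → cg σ A X ∈ T) →
    (∃ X ∈ T, X ≠ 0) →
    (q ^ (2 * (m + 2)) - 1) / (q + 1) ≤ (T.filter (fun X => X ≠ 0)).card

variable {q : ℕ} {σ : F ≃+* F}

theorem gl_zero (hF : Fintype.card F = q ^ 2) (hσ : ∀ x, σ x = x ^ q)
    (hR : RowsStmt σ q 0) : GLStmt σ q 0 := by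
  intro T hT hinv hne
  obtain ⟨X, hX, hX0⟩ := hne
  have hq := WBHb.two_le_q hF
  have h1 : (q ^ (2 * (0 + 1)) - 1) / (q + 1) ≤ (q - 1) * q ^ (2 * 0) := by
    have := arith q 0 (by omega)
    simpa using this
  refine h1.trans (hR.trans ?_)
  apply Finset.card_le_card_of_injOn (fun ξ => ξ 0 • X)
  · intro ξ hξ
    have hξ' := (Finset.mem_filter.mp (Finset.mem_coe.mp hξ)).2
    obtain ⟨a, ha⟩ := WBHb.norm_surj hF hσ (ξ 0) hξ'.1
    have ha0 : a ≠ 0 := by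
      intro h
      rw [h, zero_mul] at ha
      exact hξ'.2 ha.symm
    have hmem : cg σ (Matrix.diagonal (fun _ : Fin (0 + 1) => a)) X ∈ T := by
      apply hinv X hX
      rw [Matrix.det_diagonal, Finset.prod_const, Finset.card_univ, Fintype.card_fin]
      exact pow_ne_zero _ ha0
    have heq : cg σ (Matrix.diagonal (fun _ : Fin (0 + 1) => a)) X = ξ 0 • X := by
      ext i j
      rw [WBHb.cg_diag_apply, Matrix.smul_apply, smul_eq_mul, ← ha]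
      ring
    rw [heq] at hmem
    refine Finset.mem_coe.mpr (Finset.mem_filter.mpr ⟨hmem, ?_⟩)
    intro h
    apply hX0
    have := smul_eq_zero.mp h
    rcases this with h' | h'
    · exact absurd h' hξ'.2
    · exact h'
  · intro ξ _ ξ' _ h
    have h' : ξ 0 • X = ξ' 0 • X := h
    have h2 : (ξ 0 - ξ' 0) • X = 0 := by rw [sub_smul, h', sub_self]
    have h3 : ξ 0 = ξ' 0 := by
      rcases smul_eq_zero.mp h2 with h4 | h4
      · exact sub_eq_zero.mp h4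
      · exact absurd h4 hX0
    funext i
    have : i = 0 := by
      apply Fin.ext
      have := i.isLt
      simp only [Fin.val_zero]
      omega
    rw [this, h3]

theorem sl_of (hF : Fintype.card F = q ^ 2) (hσ : ∀ x, σ x = x ^ q) (m : ℕ)
    (hR : RowsStmt σ q (m + 1)) (hA : DiagStmt σ m) (hC : BlockStmt σ m)
    (hD : BlockInvStmt σ m) (hGL : GLStmt σ q m) : SLStmt σ q m := by
  classical
  intro T hT hinv hne
  have hq := WBHb.two_le_q hF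
  obtain ⟨Y, hY, hY0⟩ := hA T hT hinv hne
  obtain ⟨Z, hZ, hZ0, hZ1⟩ := hC T hT hinv Y hY hY0
  let T1 := T.filter (fun X => X 0 0 ≠ 0)
  let T0 := T.filter (fun X => X 0 0 = 0 ∧ X ≠ 0)
  let T' : Finset (Matrix (Fin (m + 1)) (Fin (m + 1)) F) :=
    (T.filter (fun X => X 0 0 = 0)).image (fun X => X.submatrix Fin.succ Fin.succ)
  have hT1 : (q - 1) * q ^ (2 * (m + 1)) ≤ T1.card := by
    refine hR.trans ?_
    have hex : ∀ ξ : Fin (m + 1 + 1) → F, σ (ξ 0) = ξ 0 ∧ ξ 0 ≠ 0 →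
        ∃ W ∈ T, ∀ j, W 0 j = ξ j := fun ξ hξ =>
      WBHb.first_row_surj hF hσ m T hT hinv Y hY hY0 ξ hξ.1 hξ.2
    let g : (Fin (m + 1 + 1) → F) → Matrix (Fin (m + 2)) (Fin (m + 2)) F := fun ξ =>
      if h : σ (ξ 0) = ξ 0 ∧ ξ 0 ≠ 0 then Classical.choose (hex ξ h) else 0
    have hg : ∀ ξ, ∀ h : σ (ξ 0) = ξ 0 ∧ ξ 0 ≠ 0, g ξ ∈ T ∧ ∀ j, g ξ 0 j = ξ j := by
      intro ξ h
      have := Classical.choose_spec (hex ξ h)
      simp only [g, dif_pos h]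
      exact this
    apply Finset.card_le_card_of_injOn g
    · intro ξ hξ
      have hξ' := (Finset.mem_filter.mp (Finset.mem_coe.mp hξ)).2
      have := hg ξ hξ'
      refine Finset.mem_coe.mpr (Finset.mem_filter.mpr ⟨this.1, ?_⟩)
      rw [this.2 0]
      exact hξ'.2
    · intro ξ hξ ξ' hξ' h
      have h1 := (hg ξ (Finset.mem_filter.mp (Finset.mem_coe.mp hξ)).2).2
      have h2 := (hg ξ' (Finset.mem_filter.mp (Finset.mem_coe.mp hξ')).2).2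
      funext j
      rw [← h1 j, ← h2 j, h]
  have hT'herm : ∀ W ∈ T', IsHerm σ W := by
    intro W hW i j
    obtain ⟨X, hX, rfl⟩ := Finset.mem_image.mp hW
    have := hT X (Finset.mem_filter.mp hX).1 i.succ j.succ
    simpa using this
  have hT'inv : ∀ W ∈ T', ∀ A : Matrix (Fin (m + 1)) (Fin (m + 1)) F, A.det ≠ 0 →
      cg σ A W ∈ T' := by
    intro W hW A hA'
    obtain ⟨X, hX, rfl⟩ := Finset.mem_image.mp hW
    obtain ⟨hXT, hX0⟩ := Finset.mem_filter.mp hX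
    obtain ⟨Z', hZ', hZ'0, hZ'eq⟩ := hD T hT hinv X hXT hX0 A hA'
    exact Finset.mem_image.mpr ⟨Z', Finset.mem_filter.mpr ⟨hZ', hZ'0⟩, hZ'eq⟩
  have hT'ne : ∃ W ∈ T', W ≠ 0 := by
    refine ⟨Z.submatrix Fin.succ Fin.succ,
      Finset.mem_image.mpr ⟨Z, Finset.mem_filter.mpr ⟨hZ, hZ0⟩, rfl⟩, ?_⟩
    intro h
    apply hZ1
    have := congrFun (congrFun h 0) 0
    simpa using this
  have hT'card := hGL T' hT'herm hT'inv hT'ne
  have hT0 : (T'.filter (fun W => W ≠ 0)).card ≤ T0.card := by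
    have hsub : T'.filter (fun W => W ≠ 0) ⊆
        T0.image (fun X => X.submatrix Fin.succ Fin.succ) := by
      intro W hW
      obtain ⟨hW1, hW0⟩ := Finset.mem_filter.mp hW
      obtain ⟨X, hX, rfl⟩ := Finset.mem_image.mp hW1
      obtain ⟨hXT, hX0⟩ := Finset.mem_filter.mp hX
      refine Finset.mem_image.mpr ⟨X, Finset.mem_filter.mpr ⟨hXT, hX0, ?_⟩, rfl⟩
      intro h
      apply hW0
      rw [h]
      rfl
    exact (Finset.card_le_card hsub).trans Finset.card_image_le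
  have hdisj : Disjoint T1 T0 := by
    rw [Finset.disjoint_left]
    intro X h1 h0
    exact (Finset.mem_filter.mp h1).2 (Finset.mem_filter.mp h0).2.1
  have hunion : T1 ∪ T0 ⊆ T.filter (fun X => X ≠ 0) := by
    intro X hX
    rcases Finset.mem_union.mp hX with h | h
    · obtain ⟨h1, h2⟩ := Finset.mem_filter.mp h
      refine Finset.mem_filter.mpr ⟨h1, ?_⟩
      intro h3
      apply h2
      rw [h3]
      rfl
    · obtain ⟨h1, h2⟩ := Finset.mem_filter.mp h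
      exact Finset.mem_filter.mpr ⟨h1, h2.2⟩
  have hfin := Finset.card_le_card hunion
  rw [Finset.card_union_of_disjoint hdisj] at hfin
  have har := arith q (m + 1) (by omega)
  have : 2 * (m + 1 + 1) = 2 * (m + 2) := by ring
  rw [this] at har
  omega

omit [Fintype F] in
theorem gl_succ_of_sl {m : ℕ} (h : SLStmt σ q m) : GLStmt σ q (m + 1) := by
  intro T hT hinv hne
  exact h T hT (fun X hX A hA => hinv X hX A (by rw [hA]; exact one_ne_zero)) hne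

theorem gl_all (hF : Fintype.card F = q ^ 2) (hσ : ∀ x, σ x = x ^ q)
    (hR : ∀ m, RowsStmt σ q m) (hA : ∀ m, DiagStmt σ m) (hC : ∀ m, BlockStmt σ m)
    (hD : ∀ m, BlockInvStmt σ m) : ∀ m, GLStmt σ q m := by
  intro m
  induction m with
  | zero => exact gl_zero hF hσ (hR 0)
  | succ m ih => exact gl_succ_of_sl (sl_of hF hσ m (hR (m + 1)) (hA m) (hC m) (hD m) ih)

theorem sl_all (hF : Fintype.card F = q ^ 2) (hσ : ∀ x, σ x = x ^ q)
    (hR : ∀ m, RowsStmt σ q m) (hA : ∀ m, DiagStmt σ m) (hC : ∀ m, BlockStmt σ m)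
    (hD : ∀ m, BlockInvStmt σ m) : ∀ m, SLStmt σ q m := fun m =>
  sl_of hF hσ m (hR (m + 1)) (hA m) (hC m) (hD m) (gl_all hF hσ hR hA hC hD m)

end H

end Cfsg.Agent.Lib.Helper24.WBHm
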