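import Mathlib
import Cfsg.Prelude.Def_Blocks
import Cfsg.Agent.Lib.Helper24.GaloisNorm
import Cfsg.Agent.S0138

set_option autoImplicit false
set_option linter.style.haveILetI false

namespace Cfsg.Agent.Lib.Helper24

open Cfsg.Agent.Lib.Helper25 Cfsg.Agent.Lib.helper2

theorem gn_center_pow {G : Type*} [Group G] [Finite G] (χ : Cfsg.IrrCharacter G) (g : G) (k : ℕ)
    (h : ‖(χ : G → ℂ) g‖ = (Cfsg.charDegree (χ : G → ℂ) : ℝ)) :
    ‖(χ : G → ℂ) (g ^ k)‖ = (Cfsg.charDegree (χ : G → ℂ) : ℝ) := by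
  obtain ⟨hd, -⟩ := charDegree_irr χ
  obtain ⟨n, ρ, hρ, hχ⟩ := χ.2
  have hfr : (Module.finrank ℂ (Fin n → ℂ) : ℝ) = (Cfsg.charDegree (χ : G → ℂ) : ℝ) := by
    have h1 : ((Module.finrank ℂ (Fin n → ℂ) : ℕ) : ℂ) = ((Cfsg.charDegree (χ : G → ℂ) : ℕ) : ℂ) := by
      rw [hd, ← hχ, Representation.char_one]
    have h2 : Module.finrank ℂ (Fin n → ℂ) = Cfsg.charDegree (χ : G → ℂ) := by exact_mod_cast h1
    rw [h2]
  rw [← hfr, ← hχ] at h ⊢
  rw [Cfsg.Agent.S0138.result] at h ⊢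
  obtain ⟨ω, hω⟩ := h
  refine ⟨ω ^ k, ?_⟩
  rw [map_pow, hω]
  ext v
  simp [smul_pow]

theorem gn_center_of_pow {G : Type*} [Group G] [Finite G] (χ : Cfsg.IrrCharacter G) (g : G) (k : ℕ)
    (hk : (Nat.card G).Coprime k)
    (h : ‖(χ : G → ℂ) (g ^ k)‖ = (Cfsg.charDegree (χ : G → ℂ) : ℝ)) :
    ‖(χ : G → ℂ) g‖ = (Cfsg.charDegree (χ : G → ℂ) : ℝ) := by
  classical
  haveI : Fintype G := Fintype.ofFinite G
  set Zs := Finset.univ.filter
    (fun g : G => ‖(χ : G → ℂ) g‖ = (Cfsg.charDegree (χ : G → ℂ) : ℝ)) with hZs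
  have hinj : Function.Injective (fun g : G => g ^ k) := (powCoprime hk).injective
  have himg : Zs.image (fun g : G => g ^ k) = Zs := by
    apply Finset.eq_of_subset_of_card_le
    · intro x hx
      obtain ⟨y, hy, rfl⟩ := Finset.mem_image.mp hx
      rw [hZs, Finset.mem_filter] at hy ⊢
      exact ⟨Finset.mem_univ _, gn_center_pow χ y k hy.2⟩
    · rw [Finset.card_image_of_injective _ hinj]
  have hmem : g ^ k ∈ Zs.image (fun g : G => g ^ k) := by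
    rw [himg, hZs, Finset.mem_filter]
    exact ⟨Finset.mem_univ _, h⟩
  obtain ⟨y, hy, hyk⟩ := Finset.mem_image.mp hmem
  have : y = g := hinj hyk
  rw [← this]
  exact (Finset.mem_filter.mp hy).2

theorem gn_zero_count {G : Type*} [Group G] [Fintype G] (χ : Cfsg.IrrCharacter G)
    (Zs Ns : Finset G)
    (hZ : ∀ g, g ∈ Zs ↔ ‖(χ : G → ℂ) g‖ = (Cfsg.charDegree (χ : G → ℂ) : ℝ))
    (hN : ∀ g, g ∈ Ns ↔ (χ : G → ℂ) g = 0) :
    (Cfsg.charDegree (χ : G → ℂ) ^ 2 - 1) * Zs.card ≤ Ns.card ∧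
    ((∀ g : G, ‖(χ : G → ℂ) g‖ = 0 ∨ ‖(χ : G → ℂ) g‖ = 1 ∨
        ‖(χ : G → ℂ) g‖ = (Cfsg.charDegree (χ : G → ℂ) : ℝ)) →
      (Cfsg.charDegree (χ : G → ℂ) ^ 2 - 1) * Zs.card = Ns.card) := by
  classical
  set d := Cfsg.charDegree (χ : G → ℂ) with hd
  obtain ⟨-, hdpos⟩ := charDegree_irr χ
  have hψ : Cfsg.IsCharacter G (χ : G → ℂ) := isCharacter_of_irr χ
  set Rs := Finset.univ.filter (fun g : G => (χ : G → ℂ) g ≠ 0 ∧ ‖(χ : G → ℂ) g‖ ≠ (d : ℝ)) with hRs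
  have hR : (Rs.card : ℝ) ≤ ∑ g ∈ Rs, ‖(χ : G → ℂ) g‖ ^ 2 := by
    apply gn_avg hψ
    · intro g hg
      exact (Finset.mem_filter.mp hg).2.1
    · intro g hg k hk
      have hg' := (Finset.mem_filter.mp hg).2
      rw [hRs, Finset.mem_filter]
      refine ⟨Finset.mem_univ _, gn_char_pow_ne_zero hψ g hg'.1 k hk, ?_⟩
      intro h
      exact hg'.2 (gn_center_of_pow χ g k hk h)
  have hsum := irr_sum_norm_sq χ
  have hsum0 : ∑ g : G, (‖(χ : G → ℂ) g‖ ^ 2 - 1) = 0 := by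
    rw [Finset.sum_sub_distrib, hsum, Finset.sum_const, Finset.card_univ, nsmul_eq_mul, mul_one,
      Nat.card_eq_fintype_card, sub_self]
  have hZs : Zs = Finset.univ.filter (fun g : G => ‖(χ : G → ℂ) g‖ = (d : ℝ)) := by
    ext g; rw [hZ g, Finset.mem_filter]; simp
  have hNs : Ns = (Finset.univ.filter (fun g : G => ¬ ‖(χ : G → ℂ) g‖ = (d : ℝ))).filter
      (fun g : G => (χ : G → ℂ) g = 0) := by
    ext g
    rw [hN g, Finset.mem_filter, Finset.mem_filter]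
    constructor
    · intro h
      refine ⟨⟨Finset.mem_univ _, ?_⟩, h⟩
      rw [h, norm_zero]
      intro h0
      have : (d : ℝ) = 0 := h0.symm
      have : d = 0 := by exact_mod_cast this
      omega
    · intro h; exact h.2
  have hRs' : Rs = (Finset.univ.filter (fun g : G => ¬ ‖(χ : G → ℂ) g‖ = (d : ℝ))).filter
      (fun g : G => ¬ (χ : G → ℂ) g = 0) := by
    ext g
    rw [hRs, Finset.mem_filter, Finset.mem_filter, Finset.mem_filter]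
    tauto
  rw [← Finset.sum_filter_add_sum_filter_not Finset.univ (fun g : G => ‖(χ : G → ℂ) g‖ = (d : ℝ)),
    ← Finset.sum_filter_add_sum_filter_not
      (Finset.univ.filter (fun g : G => ¬ ‖(χ : G → ℂ) g‖ = (d : ℝ)))
      (fun g : G => (χ : G → ℂ) g = 0), ← hZs, ← hNs, ← hRs'] at hsum0
  have h1 : ∑ g ∈ Zs, (‖(χ : G → ℂ) g‖ ^ 2 - 1) = (Zs.card : ℝ) * ((d : ℝ) ^ 2 - 1) := by
    rw [← nsmul_eq_mul, ← Finset.sum_const]
    apply Finset.sum_congr rfl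
    intro g hg
    rw [(hZ g).mp hg]
  have h2 : ∑ g ∈ Ns, (‖(χ : G → ℂ) g‖ ^ 2 - 1) = -(Ns.card : ℝ) := by
    have : ∑ g ∈ Ns, (‖(χ : G → ℂ) g‖ ^ 2 - 1) = ∑ _g ∈ Ns, (-1 : ℝ) := by
      apply Finset.sum_congr rfl
      intro g hg
      rw [(hN g).mp hg, norm_zero]
      norm_num
    rw [this, Finset.sum_const, nsmul_eq_mul, mul_neg, mul_one]
  have h3 : ∑ g ∈ Rs, (‖(χ : G → ℂ) g‖ ^ 2 - 1) = ∑ g ∈ Rs, ‖(χ : G → ℂ) g‖ ^ 2 - (Rs.card : ℝ) := by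
    rw [Finset.sum_sub_distrib, Finset.sum_const, nsmul_eq_mul, mul_one]
  rw [h1, h2, h3] at hsum0
  have hdcast : (((d ^ 2 - 1 : ℕ) : ℕ) : ℝ) = (d : ℝ) ^ 2 - 1 := by
    have : 1 ≤ d ^ 2 := Nat.one_le_pow _ _ hdpos
    rw [Nat.cast_sub this]
    push_cast
    ring
  constructor
  · have : (((d ^ 2 - 1) * Zs.card : ℕ) : ℝ) ≤ ((Ns.card : ℕ) : ℝ) := by
      rw [Nat.cast_mul, hdcast]
      nlinarith
    exact_mod_cast this
  · intro hvals
    have hRone : ∑ g ∈ Rs, ‖(χ : G → ℂ) g‖ ^ 2 = (Rs.card : ℝ) := by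
      have : ∑ g ∈ Rs, ‖(χ : G → ℂ) g‖ ^ 2 = ∑ _g ∈ Rs, (1 : ℝ) := by
        apply Finset.sum_congr rfl
        intro g hg
        have hg' := (Finset.mem_filter.mp hg).2
        rcases hvals g with h | h | h
        · exact absurd (norm_eq_zero.mp h) hg'.1
        · rw [h]; norm_num
        · exact absurd h hg'.2
      rw [this, Finset.sum_const, nsmul_eq_mul, mul_one]
    have : (((d ^ 2 - 1) * Zs.card : ℕ) : ℝ) = ((Ns.card : ℕ) : ℝ) := by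
      rw [Nat.cast_mul, hdcast]
      nlinarith
    exact_mod_cast this

end Cfsg.Agent.Lib.Helper24
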